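import Groth.Agent.L23.SourceReduced
import Groth.Agent.L21.Smooth.EtaleRegular
import Groth.Agent.S0564
import Groth.Agent.S9406
import Mathlib.RingTheory.Unramified.LocalStructure

/-!
# Reducedness along smooth morphisms and descent of regularity
-/

universe u

open CategoryTheory CategoryTheory.Limits AlgebraicGeometry AlgSp Opposite Topology

set_option backward.isDefEq.respectTransparency.types false

namespace Groth.L23

variable {S : Scheme.{u}}

/-- The local rings of a smooth algebra over a reduced ring are reduced. -/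
theorem isReduced_localization_of_smooth (A B : Type u) [CommRing A] [CommRing B] [Algebra A B]
    [_root_.IsReduced A] [Algebra.Smooth A B] (p : Ideal B) [p.IsPrime] :
    _root_.IsReduced (Localization.AtPrime p) := by
  haveI : Algebra.IsSmoothAt A p := inferInstance
  obtain ⟨f, hf, n, alg, htow, hstd⟩ := Algebra.IsSmoothAt.exists_isStandardEtale_mvPolynomial (R := A) (p := p)
  have : WeaklyEtale (Spec.map (CommRingCat.ofHom (algebraMap (MvPolynomial (Fin n) A) (Localization.Away f)))) :=
    have : Etale (Spec.map (CommRingCat.ofHom (algebraMap (MvPolynomial (Fin n) A) (Localization.Away f)))) :=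
      (HasRingHomProperty.Spec_iff (P := @Etale)).2
        ((RingHom.etale_algebraMap (R := MvPolynomial (Fin n) A) (S := Localization.Away f)).2 inferInstance)
    inferInstance
  have hw := (Groth.L20.weaklyEtale_specMap_iff _).1 this
  have : Algebra.WeaklyEtale (MvPolynomial (Fin n) A) (Localization.Away f) := by
    have e : (CommRingCat.ofHom (algebraMap (MvPolynomial (Fin n) A) (Localization.Away f))).hom.toAlgebra = alg :=
      toAlgebra_algebraMap
    rw [e] at hw
    exact hw
  have : _root_.IsReduced (Localization.Away f) :=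
    Groth.L20.isReduced_of_weaklyEtale (MvPolynomial (Fin n) A) (Localization.Away f)
  let Q : Ideal (Localization.Away f) := p.map (algebraMap B (Localization.Away f))
  have hdisj : Disjoint (Submonoid.powers f : Set B) p :=
    (Ideal.disjoint_powers_iff_notMem_of_isPrime f).2 hf
  haveI : Q.IsPrime := IsLocalization.isPrime_of_isPrime_disjoint _ _ p ‹_› hdisj
  have hcomap : Q.comap (algebraMap B (Localization.Away f)) = p :=
    IsLocalization.comap_map_of_isPrime_disjoint _ _ ‹_› hdisj
  haveI : IsLocalization.AtPrime (Localization.AtPrime Q) p := by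
    have h1 := IsLocalization.isLocalization_isLocalization_atPrime_isLocalization (Submonoid.powers f)
      (Localization.AtPrime Q) Q
    simp only [IsLocalization.AtPrime, Ideal.primeCompl, hcomap] at h1 ⊢
    exact h1
  let e := IsLocalization.algEquiv p.primeCompl (Localization.AtPrime p) (Localization.AtPrime Q)
  exact isReduced_of_injective e.toRingEquiv.toRingHom e.injective

/-- A scheme smooth over a reduced scheme is reduced. -/
theorem isReduced_of_smooth {Y X : Scheme.{u}} (f : Y ⟶ X) [Smooth f] [IsReduced X] : IsReduced Y := by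
  have hy : ∀ y : Y, _root_.IsReduced (Y.presheaf.stalk y) := by
    intro y
    obtain ⟨_, ⟨V, hV, rfl⟩, hfy, -⟩ :=
      X.isBasis_affineOpens.exists_subset_of_mem_open (Set.mem_univ (f y)) isOpen_univ
    obtain ⟨_, ⟨U, hU, rfl⟩, hyU, hUV⟩ :=
      Y.isBasis_affineOpens.exists_subset_of_mem_open (show y ∈ f ⁻¹ᵁ V from hfy) (f ⁻¹ᵁ V).2
    have hs := HasRingHomProperty.appLE @Smooth f inferInstance ⟨V, hV⟩ ⟨U, hU⟩ hUV
    algebraize [(f.appLE V U hUV).hom]
    have : Algebra.Smooth Γ(X, V) Γ(Y, U) := RingHom.smooth_algebraMap.1 hs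
    letI := TopCat.Presheaf.algebra_section_stalk Y.presheaf (⟨y, hyU⟩ : U)
    have := hU.isLocalization_stalk ⟨y, hyU⟩
    let p := (hU.primeIdealOf ⟨y, hyU⟩).asIdeal
    have := isReduced_localization_of_smooth Γ(X, V) Γ(Y, U) p
    exact isReduced_of_injective
      (IsLocalization.algEquiv p.primeCompl (Y.presheaf.stalk y) (Localization.AtPrime p)).toRingEquiv.toRingHom
      (IsLocalization.algEquiv p.primeCompl (Y.presheaf.stalk y) (Localization.AtPrime p)).injective
  exact isReduced_of_isReduced_stalk Y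

theorem isReducedSp_of_smooth {X Y : Sp S} (hX : IsAlgSpace X) (hY : IsAlgSpace Y) {f : X ⟶ Y}
    (hf : LocP @Smooth f) (h : IsReducedSp Y) : IsReducedSp X := by
  obtain ⟨V, b, hb, hbs, hV⟩ := h
  obtain ⟨U, a, k, ha, w, hus⟩ := exists_chart_over hX hY f hb
  have : Smooth k.left := hf a b k ha hb w
  have : IsReduced V.left := hV
  exact ⟨U, a, ha, hus hbs, isReduced_of_smooth k.left⟩

/-- Regular local rings pass to etale covers. -/
theorem isRegularLocalRing_stalk_of_etale {Y X : Scheme.{u}} (f : Y ⟶ X) [Etale f] [IsLocallyNoetherian X]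
    (hX : ∀ x : X, IsRegularLocalRing (X.presheaf.stalk x)) (y : Y) :
    IsRegularLocalRing (Y.presheaf.stalk y) := by
  obtain ⟨_, ⟨V, hV, rfl⟩, hfy, -⟩ :=
    X.isBasis_affineOpens.exists_subset_of_mem_open (Set.mem_univ (f y)) isOpen_univ
  obtain ⟨_, ⟨U, hU, rfl⟩, hyU, hUV⟩ :=
    Y.isBasis_affineOpens.exists_subset_of_mem_open (show y ∈ f ⁻¹ᵁ V from hfy) (f ⁻¹ᵁ V).2
  have : IsNoetherianRing Γ(X, V) := IsLocallyNoetherian.component_noetherian ⟨V, hV⟩
  have hreg : IsRegularRing Γ(X, V) := isRegularRing_iff.2 fun p hp => by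
    let x := hV.fromSpec (⟨p, hp⟩ : PrimeSpectrum Γ(X, V))
    have hx : x ∈ V := by rw [← SetLike.mem_coe, ← hV.range_fromSpec]; exact ⟨_, rfl⟩
    letI := TopCat.Presheaf.algebra_section_stalk X.presheaf (⟨x, hx⟩ : V)
    have : IsLocalization p.primeCompl (X.presheaf.stalk x) := hV.isLocalization_stalk' ⟨p, hp⟩ hx
    have := hX x
    exact IsRegularLocalRing.of_ringEquiv
      (IsLocalization.algEquiv p.primeCompl (X.presheaf.stalk x) (Localization.AtPrime p)).toRingEquiv
  have hs := HasRingHomProperty.appLE @Etale f inferInstance ⟨V, hV⟩ ⟨U, hU⟩ hUV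
  algebraize [(f.appLE V U hUV).hom]
  have : Algebra.Etale Γ(X, V) Γ(Y, U) := RingHom.etale_algebraMap.1 hs
  letI := TopCat.Presheaf.algebra_section_stalk Y.presheaf (⟨y, hyU⟩ : U)
  have := hU.isLocalization_stalk ⟨y, hyU⟩
  let p := (hU.primeIdealOf ⟨y, hyU⟩).asIdeal
  have := (Groth.L21.Smooth.regular_localization_of_etale Γ(X, V) Γ(Y, U) p).1
  exact IsRegularLocalRing.of_ringEquiv
    (IsLocalization.algEquiv p.primeCompl (Localization.AtPrime p) (Y.presheaf.stalk y)).toRingEquiv

/-- Regular local rings descend along flat morphisms. -/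
theorem isRegularLocalRing_stalk_of_flat {Y X : Scheme.{u}} (f : Y ⟶ X) [Flat f] (y : Y)
    (h : IsRegularLocalRing (Y.presheaf.stalk y)) : IsRegularLocalRing (X.presheaf.stalk (f y)) := by
  have hflat := Flat.stalkMap f y
  algebraize [(f.stalkMap y).hom]
  haveI : Module.FaithfullyFlat (X.presheaf.stalk (f y)) (Y.presheaf.stalk y) :=
    @Module.FaithfullyFlat.of_flat_of_isLocalHom _ _ _ _ _ _ _ (hflat : _) (by
      rw [RingHom.algebraMap_toAlgebra]; infer_instance)
  haveI := h
  haveI : IsRegularRing (Y.presheaf.stalk y) :=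
    isRegularRing_iff.2 fun p _ => Groth.Agent.S0564.result (Y.presheaf.stalk y) p
  haveI := Groth.Agent.S9406.result (X.presheaf.stalk (f y)) (Y.presheaf.stalk y)
  exact IsRegularLocalRing.of_isRegularRing_of_isLocalRing _

theorem etaleLocally_regular_of_fppf_surjective {X Y : Sp S} (hX : IsAlgSpace X) (hY : IsAlgSpace Y) {f : X ⟶ Y}
    (hfl : LocP @Flat f) (hfp : LocP @LocallyOfFinitePresentation f) (hs : Function.Surjective (Points.map f))
    (h : EtaleLocally (fun U => IsLocallyNoetherian U ∧ ∀ u : ↥U, IsRegularLocalRing ↥(U.presheaf.stalk u)) X) :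
    EtaleLocally (fun U => IsLocallyNoetherian U ∧ ∀ u : ↥U, IsRegularLocalRing ↥(U.presheaf.stalk u)) Y := by
  obtain ⟨U', a', ha', has', hU', hreg⟩ := h
  obtain ⟨U, V, a, b, k, π, ha, -, hb, hbs, w, hks, hπ⟩ := exists_surjective_chart hX hY f hs ha' has'
  have : Flat k.left := hfl a b k ha hb w
  have : LocallyOfFinitePresentation k.left := hfp a b k ha hb w
  have : IsLocallyNoetherian U.left := LocallyOfFiniteType.isLocallyNoetherian π.left
  refine ⟨V, b, hb, hbs, Groth.Agent.S0116.result k.left, fun v => ?_⟩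
  obtain ⟨u, rfl⟩ := hks.surj v
  exact isRegularLocalRing_stalk_of_flat k.left u (isRegularLocalRing_stalk_of_etale π.left hreg u)

end Groth.L23
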