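import Mathlib.AlgebraicGeometry.Morphisms.Etale
import Mathlib.AlgebraicGeometry.Morphisms.UniversallyOpen

/-!
# Reduction of etale descent on the source to faithfully flat etale ring maps
-/

universe u

open CategoryTheory CategoryTheory.Limits AlgebraicGeometry

set_option backward.isDefEq.respectTransparency.types false

namespace Groth.L23

/-- An affine scheme with an etale cover has an affine etale cover refining it. -/
lemma exists_affine_refinement {X' X : Scheme.{u}} (χ : X' ⟶ X) [Etale χ] [Surjective χ] [IsAffine X] :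
    ∃ (n : ℕ) (V : Fin n → X'.Opens), (∀ i, IsAffineOpen (V i)) ∧
      Surjective (Sigma.desc fun i => (V i).ι ≫ χ) := by
  have key : ∀ x : X, ∃ V : X'.Opens, IsAffineOpen V ∧ x ∈ χ '' V := fun x => by
    obtain ⟨x', rfl⟩ := χ.surjective x
    obtain ⟨_, ⟨V, hV, rfl⟩, hx, -⟩ :=
      X'.isBasis_affineOpens.exists_subset_of_mem_open (Set.mem_univ x') isOpen_univ
    exact ⟨V, hV, x', hx, rfl⟩
  choose V hV hx using key
  obtain ⟨t, ht⟩ := isCompact_univ.elim_finite_subcover (fun x => χ '' (V x : Set X'))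
    (fun x => χ.isOpenMap _ (V x).isOpen) (fun x _ => Set.mem_iUnion.2 ⟨x, hx x⟩)
  refine ⟨t.card, fun i => V (t.equivFin.symm i).1, fun i => hV _, ⟨fun x => ?_⟩⟩
  obtain ⟨y, hy, x', hx', rfl⟩ := Set.mem_iUnion₂.1 (ht (Set.mem_univ x))
  let W := fun i : Fin t.card => V (t.equivFin.symm i).1
  have hi : V y = W (t.equivFin ⟨y, hy⟩) := by simp [W]
  refine ⟨Sigma.ι (fun i => (W i : Scheme.{u})) (t.equivFin ⟨y, hy⟩) ⟨x', hi ▸ hx'⟩, ?_⟩
  rw [← Scheme.Hom.comp_apply, Sigma.ι_desc]
  rfl

variable {P : MorphismProperty Scheme.{u}}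
  {Q : ∀ {R S : Type u} [CommRing R] [CommRing S], (R →+* S) → Prop} [HasRingHomProperty P Q]

/-- A ring theoretic descent statement gives descent along etale surjections on the source. -/
theorem of_etale_surjective_comp
    (hQ : ∀ {A B C : Type u} [CommRing A] [CommRing B] [CommRing C] (φ : A →+* B) (ψ : B →+* C),
      ψ.Etale → ψ.FaithfullyFlat → Q (ψ.comp φ) → Q φ)
    {X' X Y : Scheme.{u}} (χ : X' ⟶ X) (g : X ⟶ Y) [Etale χ] [Surjective χ] (h : P (χ ≫ g)) :
    P g := by
  have : P.RespectsIso := inferInstance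
  wlog hY : IsAffine Y generalizing X' X Y
  · rw [IsZariskiLocalAtTarget.iff_of_openCover (P := P) Y.affineCover]
    intro i
    have sq := IsPullback.of_hasPullback g (Y.affineCover.f i)
    have sq' := IsPullback.of_hasPullback χ (pullback.fst g (Y.affineCover.f i))
    refine this (pullback.snd χ (pullback.fst g (Y.affineCover.f i))) _ ?_ (isAffine_Spec _)
    exact IsZariskiLocalAtTarget.of_isPullback (sq'.paste_vert sq) h
  wlog hX : IsAffine X generalizing X' X
  · rw [IsZariskiLocalAtSource.iff_of_openCover (P := P) X.affineCover]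
    intro i
    refine this (pullback.snd χ (X.affineCover.f i)) _ ?_ (isAffine_Spec _)
    rw [← pullback.condition_assoc]
    exact IsZariskiLocalAtSource.comp h _
  obtain ⟨n, V, hV, hs⟩ := exists_affine_refinement χ
  have : ∀ i, IsAffine (V i : Scheme.{u}) := hV
  let π : ∐ (fun i => (V i : Scheme.{u})) ⟶ X := Sigma.desc fun i => (V i).ι ≫ χ
  have he : Etale π := IsZariskiLocalAtSource.sigmaDesc fun i => inferInstance
  have hP : P (π ≫ g) := by
    have e : π ≫ g = Sigma.desc fun i => (V i).ι ≫ χ ≫ g := by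
      ext i; simp [π]
    rw [e]
    exact IsZariskiLocalAtSource.sigmaDesc fun i => IsZariskiLocalAtSource.comp h _
  rw [HasRingHomProperty.iff_of_isAffine (P := P)] at hP ⊢
  rw [Scheme.Hom.comp_appTop] at hP
  exact hQ g.appTop.hom π.appTop.hom ((HasRingHomProperty.iff_of_isAffine (P := @Etale)).1 he)
    ((Flat.flat_and_surjective_iff_faithfullyFlat_of_isAffine π).mp ⟨inferInstance, hs⟩) hP

end Groth.L23
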