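import Groth.Agent.L23.Compact

/-!
# Universally open / closed morphisms: locality on the target
-/

universe u

open CategoryTheory CategoryTheory.Limits AlgebraicGeometry Opposite AlgSp Topology

set_option backward.isDefEq.respectTransparency.types false

namespace Groth.L23

variable {S : Scheme.{u}} {X Y Z P : Sp S}

attribute [local simp] pullback.lift_fst pullback.lift_snd pullback.lift_fst_assoc
  pullback.lift_snd_assoc

lemma preimage_image_of_isPullback {fst : P ⟶ X} {snd : P ⟶ Z} {f : X ⟶ Y} {g : Z ⟶ Y}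
    (sq : IsPullback fst snd f g) (W : Set (Points X)) :
    Points.map g ⁻¹' (Points.map f '' W) = Points.map snd '' (Points.map fst ⁻¹' W) := by
  ext z
  constructor
  · rintro ⟨x, hx, e⟩
    obtain ⟨p, hp, hp'⟩ := exists_of_isPullback sq x z e
    exact ⟨p, by simpa [hp] using hx, hp'⟩
  · rintro ⟨p, hp, rfl⟩
    exact ⟨Points.map fst p, hp, by rw [← Points.map_comp, ← Points.map_comp, sq.w]⟩

/-- The preimage of an image in a test scheme, as an image of a base change. -/
lemma ofPt_preimage_image {f : X ⟶ Y} {T : Over S} (k : (yon S).obj T ⟶ Y) {Q : Sp S}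
    {fst : Q ⟶ X} {snd : Q ⟶ (yon S).obj T} (sq : IsPullback fst snd f k) (W : Set (Points X)) :
    Points.ofPt k ⁻¹' (Points.map f '' W) =
      Points.schemeHomeo T ⁻¹' (Points.map snd '' (Points.map fst ⁻¹' W)) := by
  rw [← preimage_image_of_isPullback sq, ofPt_eq_comp, Set.preimage_comp]
  rfl

lemma isOpen_of_affine_cover {U : Scheme.{u}} {A : Set U}
    (h : ∀ B : U.Opens, IsAffineOpen B → IsOpen ((B.ι) ⁻¹' A)) : IsOpen A := by
  have hc : A = ⋃ B : {B : U.Opens // IsAffineOpen B}, B.1.ι '' (B.1.ι ⁻¹' A) := by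
    ext x
    constructor
    · intro hx
      obtain ⟨_, ⟨B, hB, rfl⟩, hxB, -⟩ :=
        U.isBasis_affineOpens.exists_subset_of_mem_open (Set.mem_univ x) isOpen_univ
      exact Set.mem_iUnion.2 ⟨⟨B, hB⟩, ⟨⟨x, hxB⟩, hx, rfl⟩⟩
    · rintro hx
      obtain ⟨B, y, hy, rfl⟩ := Set.mem_iUnion.1 hx
      exact hy
  rw [hc]
  exact isOpen_iUnion fun B => B.1.ι.isOpenEmbedding.isOpenMap _ (h B.1 B.2)

lemma isOpen_iff_of_openCover {T' T : Scheme.{u}} (e : T' ⟶ T) (he : IsOpenMap e)
    (hs : Function.Surjective e) {A : Set T} : IsOpen A ↔ IsOpen (e ⁻¹' A) :=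
  ⟨fun h => h.preimage e.continuous, fun h => by
    simpa [Set.image_preimage_eq A hs] using he _ h⟩

lemma isClosed_iff_of_openCover {T' T : Scheme.{u}} (e : T' ⟶ T) (he : IsOpenMap e)
    (hs : Function.Surjective e) {A : Set T} : IsClosed A ↔ IsClosed (e ⁻¹' A) := by
  rw [← isOpen_compl_iff, ← isOpen_compl_iff, isOpen_iff_of_openCover e he hs, Set.preimage_compl]

/-- A test: openness of images after base change to schemes. -/
lemma isOpen_ofPt_preimage_affine {f : X ⟶ Y}
    (h : ∀ (W : Over S), IsAffine W.left → ∀ (g : (yon S).obj W ⟶ Y),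
      IsOpenMap (Points.map (pullback.snd f g)))
    {A : Set (Points X)} (hA : IsOpen A) {T : Over S} (k : (yon S).obj T ⟶ Y) :
    IsOpen (Points.ofPt k ⁻¹' (Points.map f '' A)) := by
  refine isOpen_of_affine_cover fun B hB => ?_
  let B' : Over S := Over.mk (B.ι ≫ T.hom)
  let j : B' ⟶ T := Over.homMk B.ι rfl
  have e : B.ι ⁻¹' (Points.ofPt k ⁻¹' (Points.map f '' A)) =
      Points.ofPt ((yon S).map j ≫ k) ⁻¹' (Points.map f '' A) := by
    ext b
    exact iff_of_eq (congrArg (· ∈ Points.map f '' A) (ofPt_comp j k b).symm)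
  rw [e, ofPt_preimage_image _ (IsPullback.of_hasPullback f ((yon S).map j ≫ k))]
  exact (h B' hB _ _ (hA.preimage (Points.continuous_map _))).preimage (Points.schemeHomeo B').continuous

lemma isClosed_ofPt_preimage_affine {f : X ⟶ Y}
    (h : ∀ (W : Over S), IsAffine W.left → ∀ (g : (yon S).obj W ⟶ Y),
      IsClosedMap (Points.map (pullback.snd f g)))
    {A : Set (Points X)} (hA : IsClosed A) {T : Over S} (k : (yon S).obj T ⟶ Y) :
    IsClosed (Points.ofPt k ⁻¹' (Points.map f '' A)) := by
  rw [← isOpen_compl_iff]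
  refine isOpen_of_affine_cover fun B hB => ?_
  let B' : Over S := Over.mk (B.ι ≫ T.hom)
  let j : B' ⟶ T := Over.homMk B.ι rfl
  have e : B.ι ⁻¹' (Points.ofPt k ⁻¹' (Points.map f '' A)) =
      Points.ofPt ((yon S).map j ≫ k) ⁻¹' (Points.map f '' A) := by
    ext b
    exact iff_of_eq (congrArg (· ∈ Points.map f '' A) (ofPt_comp j k b).symm)
  rw [Set.preimage_compl, e, isOpen_compl_iff,
    ofPt_preimage_image _ (IsPullback.of_hasPullback f ((yon S).map j ≫ k))]
  exact (h B' hB _ _ (hA.preimage (Points.continuous_map _))).preimage (Points.schemeHomeo B').continuous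

lemma map_snd_eq_of_isPullback {Q : Sp S} {f : X ⟶ Y} {g : Z ⟶ Y} {fst : Q ⟶ X} {snd : Q ⟶ Z}
    (sq : IsPullback fst snd f g) :
    Points.map snd = Points.map (pullback.snd f g) ∘ Points.map sq.isoPullback.hom := by
  funext x
  rw [Function.comp_apply, ← Points.map_comp, sq.isoPullback_hom_snd]

noncomputable def pointsHomeoOfIso (e : X ≅ Y) : Points X ≃ₜ Points Y where
  toFun := Points.map e.hom
  invFun := Points.map e.inv
  left_inv x := by rw [← Points.map_comp, e.hom_inv_id, Points.map_id]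
  right_inv x := by rw [← Points.map_comp, e.inv_hom_id, Points.map_id]
  continuous_toFun := Points.continuous_map _
  continuous_invFun := Points.continuous_map _

theorem isUnivOpenMor_iff_affine (f : X ⟶ Y) :
    IsUnivOpenMor f ↔ ∀ (W : Over S), IsAffine W.left → ∀ (g : (yon S).obj W ⟶ Y),
      IsOpenMap (Points.map (pullback.snd f g)) := by
  refine ⟨fun h W _ g => h (IsAlgSpace.yon_obj W) g _ _ (IsPullback.of_hasPullback f g), fun h => ?_⟩
  intro Z Q hZ g fst snd sq A hA
  refine Points.isOpen_iff.2 fun T k => isOpen_ofPt_preimage_affine (f := snd) (fun W hW m => ?_) hA k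
  have sq' := (IsPullback.of_hasPullback snd m).paste_horiz sq
  rw [map_snd_eq_of_isPullback sq']
  exact (h W hW (m ≫ g)).comp (pointsHomeoOfIso sq'.isoPullback).isOpenMap

theorem isUnivClosedMor_iff_affine (f : X ⟶ Y) :
    IsUnivClosedMor f ↔ ∀ (W : Over S), IsAffine W.left → ∀ (g : (yon S).obj W ⟶ Y),
      IsClosedMap (Points.map (pullback.snd f g)) := by
  refine ⟨fun h W _ g => h (IsAlgSpace.yon_obj W) g _ _ (IsPullback.of_hasPullback f g), fun h => ?_⟩
  intro Z Q hZ g fst snd sq A hA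
  refine isOpen_compl_iff.1 (Points.isOpen_iff.2 fun T k => ?_)
  rw [Set.preimage_compl, isOpen_compl_iff]
  refine isClosed_ofPt_preimage_affine (f := snd) (fun W hW m => ?_) hA k
  have sq' := (IsPullback.of_hasPullback snd m).paste_horiz sq
  rw [map_snd_eq_of_isPullback sq']
  exact (h W hW (m ≫ g)).comp (pointsHomeoOfIso sq'.isoPullback).isClosedMap

/-- Refine a test scheme along an etale surjective chart. -/
lemma exists_refine {V : Over S} {p : (yon S).obj V ⟶ Y} (hp : RepWith @Etale p)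
    (hps : RepWith @Surjective p) {T : Over S} (k : (yon S).obj T ⟶ Y) :
    ∃ (T' : Over S) (e : T' ⟶ T) (m : (yon S).obj T' ⟶ (yon S).obj V),
      m ≫ p = (yon S).map e ≫ k ∧ Etale e.left ∧ Function.Surjective e.left ∧ IsOpenMap e.left := by
  have he : Etale (hp.1.snd k).left := repWith_snd hp k
  exact ⟨_, hp.1.snd k, hp.1.fst k, hp.1.w k, he,
    (repWith_prop hps (hp.1.isPullback k)).surj, (hp.1.snd k).left.isOpenMap⟩

lemma image_base_change_eq {f : X ⟶ Y} {V : Over S} {p : (yon S).obj V ⟶ Y} {Q : Sp S}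
    {fst : Q ⟶ X} {snd : Q ⟶ (yon S).obj V} (sq : IsPullback fst snd f p)
    {T T' : Over S} (e : T' ⟶ T) {m : (yon S).obj T' ⟶ (yon S).obj V} {k : (yon S).obj T ⟶ Y}
    (w : m ≫ p = (yon S).map e ≫ k) (A : Set (Points X)) :
    e.left ⁻¹' (Points.ofPt k ⁻¹' (Points.map f '' A)) =
      Points.ofPt m ⁻¹' (Points.map snd '' (Points.map fst ⁻¹' A)) := by
  rw [← preimage_image_of_isPullback sq]
  ext b
  simp only [Set.mem_preimage]
  rw [Points.map_ofPt, w, ofPt_comp]

theorem isUnivOpenMor_of_cover {f : X ⟶ Y} {V : Over S} {p : (yon S).obj V ⟶ Y}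
    (hp : RepWith @Etale p) (hps : RepWith @Surjective p) {Q : Sp S} {fst : Q ⟶ X}
    {snd : Q ⟶ (yon S).obj V} (sq : IsPullback fst snd f p) (h : IsUnivOpenMor snd) :
    IsUnivOpenMor f := by
  intro Z Q₁ hZ g fst₁ snd₁ sq₁ A hA
  refine Points.isOpen_iff.2 fun T k => ?_
  obtain ⟨T', e, m, w, -, hs, ho⟩ := exists_refine hp hps (k ≫ g)
  rw [isOpen_iff_of_openCover e.left ho hs]
  have sqZ := IsPullback.of_hasPullback p g
  let m' := sqZ.lift m ((yon S).map e ≫ k) (by rw [w, Category.assoc])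
  have sqA := IsPullback.of_hasPullback snd₁ (pullback.snd p g)
  let l := sq.lift (pullback.fst snd₁ (pullback.snd p g) ≫ fst₁) (pullback.snd snd₁ _ ≫ pullback.fst p g) (by
    rw [Category.assoc, sq₁.w, pullback.condition_assoc, Category.assoc, pullback.condition (f := p)])
  have sqB : IsPullback l (pullback.snd snd₁ (pullback.snd p g)) snd (pullback.fst p g) := by
    refine IsPullback.of_right ?_ (sq.lift_snd _ _ _) sq
    rw [sq.lift_fst, sqZ.w]
    exact sqA.paste_horiz sq₁
  have hw : m' ≫ pullback.snd p g = (yon S).map e ≫ k := sqZ.lift_snd _ _ _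
  have := h (IsAlgSpace.yon_obj T') (m' ≫ pullback.fst p g) _ _
    ((IsPullback.of_hasPullback _ m').paste_horiz sqB)
  have := (this _ (hA.preimage (Points.continuous_map
    (pullback.fst _ m' ≫ pullback.fst snd₁ (pullback.snd p g))))).preimage (Points.schemeHomeo T').continuous
  rw [← ofPt_preimage_image _ ((IsPullback.of_hasPullback _ m').paste_horiz sqA), hw] at this
  convert this using 1
  ext b
  simp only [Set.mem_preimage]
  rw [ofPt_comp]

theorem isUnivClosedMor_of_cover {f : X ⟶ Y} {V : Over S} {p : (yon S).obj V ⟶ Y}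
    (hp : RepWith @Etale p) (hps : RepWith @Surjective p) {Q : Sp S} {fst : Q ⟶ X}
    {snd : Q ⟶ (yon S).obj V} (sq : IsPullback fst snd f p) (h : IsUnivClosedMor snd) :
    IsUnivClosedMor f := by
  intro Z Q₁ hZ g fst₁ snd₁ sq₁ A hA
  refine isOpen_compl_iff.1 (Points.isOpen_iff.2 fun T k => ?_)
  rw [Set.preimage_compl, isOpen_compl_iff]
  obtain ⟨T', e, m, w, -, hs, ho⟩ := exists_refine hp hps (k ≫ g)
  rw [isClosed_iff_of_openCover e.left ho hs]
  have sqZ := IsPullback.of_hasPullback p g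
  let m' := sqZ.lift m ((yon S).map e ≫ k) (by rw [w, Category.assoc])
  have sqA := IsPullback.of_hasPullback snd₁ (pullback.snd p g)
  let l := sq.lift (pullback.fst snd₁ (pullback.snd p g) ≫ fst₁) (pullback.snd snd₁ _ ≫ pullback.fst p g) (by
    rw [Category.assoc, sq₁.w, pullback.condition_assoc, Category.assoc, pullback.condition (f := p)])
  have sqB : IsPullback l (pullback.snd snd₁ (pullback.snd p g)) snd (pullback.fst p g) := by
    refine IsPullback.of_right ?_ (sq.lift_snd _ _ _) sq
    rw [sq.lift_fst, sqZ.w]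
    exact sqA.paste_horiz sq₁
  have hw : m' ≫ pullback.snd p g = (yon S).map e ≫ k := sqZ.lift_snd _ _ _
  have := h (IsAlgSpace.yon_obj T') (m' ≫ pullback.fst p g) _ _
    ((IsPullback.of_hasPullback _ m').paste_horiz sqB)
  have := (this _ (hA.preimage (Points.continuous_map
    (pullback.fst _ m' ≫ pullback.fst snd₁ (pullback.snd p g))))).preimage (Points.schemeHomeo T').continuous
  rw [← ofPt_preimage_image _ ((IsPullback.of_hasPullback _ m').paste_horiz sqA), hw] at this
  convert this using 1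
  ext b
  simp only [Set.mem_preimage]
  rw [ofPt_comp]

end Groth.L23
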