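import Groth.Agent.L23.AffineDescent
import Groth.Agent.L23.TargetLocal
import Groth.Agent.L23.SourceReduce
import Groth.Agent.S0082
import Mathlib.AlgebraicGeometry.Morphisms.Finite
import Mathlib.AlgebraicGeometry.Morphisms.Integral
import Mathlib.AlgebraicGeometry.Morphisms.FlatDescent
import Mathlib.AlgebraicGeometry.Morphisms.LocalFlatDescent

/-!
# Affine, integral and finite morphisms of algebraic spaces
-/

universe u

open CategoryTheory CategoryTheory.Limits AlgebraicGeometry Opposite AlgSp MorphismProperty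

set_option backward.isDefEq.respectTransparency.types false

namespace Groth.L23

instance : DescendsAlong (@IsAffineHom : MorphismProperty Scheme.{u})
    (@Surjective ⊓ @Flat ⊓ @QuasiCompact) := Groth.Agent.S0082.result

/-- Integral morphisms descend along fpqc covers. -/
instance : DescendsAlong (@IsIntegralHom : MorphismProperty Scheme.{u})
    (@Surjective ⊓ @Flat ⊓ @QuasiCompact) := by
  refine DescendsAlong.mk' fun {_ _ _} f g _ hf h => ?_
  rw [IsIntegralHom.iff_universallyClosed_and_isAffineHom] at h ⊢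
  exact ⟨of_pullback_fst_of_descendsAlong (P := @UniversallyClosed) hf h.1,
    of_pullback_fst_of_descendsAlong (P := @IsAffineHom) hf h.2⟩

/-- Finite morphisms descend along fpqc covers. -/
instance : DescendsAlong (@IsFinite : MorphismProperty Scheme.{u})
    (@Surjective ⊓ @Flat ⊓ @QuasiCompact) := by
  refine DescendsAlong.mk' fun {_ _ _} f g _ hf h => ?_
  rw [IsFinite.iff_isIntegralHom_and_locallyOfFiniteType] at h ⊢
  exact ⟨of_pullback_fst_of_descendsAlong (P := @IsIntegralHom) hf h.1,
    of_pullback_fst_of_descendsAlong (P := @LocallyOfFiniteType) hf h.2⟩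

variable {S : Scheme.{u}} {X Y : Sp S}

/-- Representability can be tested on affine schemes. -/
theorem representable_of_affine (f : X ⟶ Y)
    (h : ∀ ⦃Z : Over S⦄, IsAffine Z.left → ∀ g : (yon S).obj Z ⟶ Y,
      ∃ (W : Over S) (i : W ⟶ Z) (fst : (yon S).obj W ⟶ X), IsPullback fst ((yon S).map i) f g) :
    Representable f := by
  intro T g
  have sq := IsPullback.of_hasPullback f g
  obtain ⟨G, π, θ, hθ, hθq⟩ := exists_isPullback_of_affine_opens (pullback.snd f g) fun B => by
    obtain ⟨W, i, fst, sqB⟩ := h (Z := openOver T B.1) B.2 ((yon S).map (openOverι T B.1) ≫ g)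
    refine ⟨W, sq.lift fst ((yon S).map i ≫ (yon S).map (openOverι T B.1))
      (by rw [Category.assoc]; exact sqB.w), i, IsPullback.of_right ?_ (sq.lift_snd _ _ _) sq⟩
    rw [sq.lift_fst]
    exact sqB
  exact ⟨G, π, θ ≫ pullback.fst f g, sq.of_iso (asIso θ).symm (Iso.refl _) (Iso.refl _) (Iso.refl _)
    (by simp) (by simp [← hθq]) (by simp) (by simp)⟩

/-- A Zariski local property of a representable map can be tested on affine schemes. -/
theorem repWith_of_affine {P : MorphismProperty Scheme.{u}} [P.IsStableUnderBaseChange]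
    [IsZariskiLocalAtTarget P] (f : X ⟶ Y)
    (h : ∀ ⦃Z : Over S⦄, IsAffine Z.left → ∀ g : (yon S).obj Z ⟶ Y,
      ∃ (W : Over S) (i : W ⟶ Z) (fst : (yon S).obj W ⟶ X),
        IsPullback fst ((yon S).map i) f g ∧ P i.left) : RepWith P f := by
  have hf := representable_of_affine f fun Z hZ g => by
    obtain ⟨W, i, fst, sq, -⟩ := h hZ g
    exact ⟨W, i, fst, sq⟩
  refine repWith_of_snd hf fun T g => ?_
  rw [IsZariskiLocalAtTarget.iff_of_iSup_eq_top (P := P) _ (iSup_affineOpens_eq_top T.left)]
  intro B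
  obtain ⟨W, i, fst, sq, hP⟩ := h (Z := openOver T B.1) B.2 ((yon S).map (openOverι T B.1) ≫ g)
  have sq₁ := IsPullback.of_hasPullback (hf.snd g) (openOverι T B.1)
  have sq₂ := (sq₁.map (yon S)).paste_horiz (hf.isPullback g)
  obtain ⟨k, hk⟩ := (yon S).map_surjective (sq.isoIsPullback _ _ sq₂).hom
  have : IsIso k := by
    have : IsIso ((yon S).map k) := hk ▸ inferInstance
    exact isIso_of_fully_faithful (yon S) k
  have hki : k ≫ pullback.snd _ _ = i := (yon S).map_injective (by
    rw [Functor.map_comp, hk, IsPullback.isoIsPullback_hom_snd])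
  have hsnd : P (pullback.snd (hf.snd g) (openOverι T B.1)).left := by
    rw [← hki, Over.comp_left] at hP
    have : IsIso k.left := inferInstanceAs (IsIso ((Over.forget S).map k))
    exact (P.cancel_left_of_respectsIso _ _).1 hP
  have sq₃ : IsPullback (pullback.fst (hf.snd g) (openOverι T B.1)).left
      (pullback.snd (hf.snd g) (openOverι T B.1)).left (hf.snd g).left B.1.ι := sq₁.map (Over.forget S)
  have sq₄ := isPullback_morphismRestrict (hf.snd g).left B.1
  rw [← P.cancel_left_of_respectsIso (sq₃.flip.isoIsPullback _ _ sq₄).hom]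
  exact (sq₃.flip.isoIsPullback_hom_fst _ _ sq₄).symm ▸ hsnd

theorem repWith_isAffineHom_of_isAffineMor {f : X ⟶ Y} (hf : IsAffineMor f) : RepWith @IsAffineHom f :=
  repWith_of_affine f fun Z hZ g => by
    obtain ⟨W, i, fst, sq, hW⟩ := hf hZ g
    exact ⟨W, i, fst, sq, isAffineHom_of_isAffine _⟩

theorem isAffineMor_iff {f : X ⟶ Y} : IsAffineMor f ↔ RepWith @IsAffineHom f := by
  refine ⟨repWith_isAffineHom_of_isAffineMor, fun h Z hZ g => ?_⟩
  have := repWith_snd h g
  exact ⟨_, h.1.snd g, h.1.fst g, h.1.isPullback g, isAffine_of_isAffineHom (h.1.snd g).left⟩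

theorem isIntegralMor_iff {f : X ⟶ Y} : IsIntegralMor f ↔ RepWith @IsIntegralHom f := by
  refine ⟨fun hf => repWith_of_affine f fun Z hZ g => ?_, fun h Z hZ g => ?_⟩
  · obtain ⟨W, i, fst, sq, -, hi⟩ := hf hZ g
    exact ⟨W, i, fst, sq, hi⟩
  · have := repWith_snd h g
    exact ⟨_, h.1.snd g, h.1.fst g, h.1.isPullback g, isAffine_of_isAffineHom (h.1.snd g).left, this⟩

theorem isFiniteMor_iff {f : X ⟶ Y} : IsFiniteMor f ↔ RepWith @IsFinite f := by
  refine ⟨fun hf => repWith_of_affine f fun Z hZ g => ?_, fun h Z hZ g => ?_⟩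
  · obtain ⟨W, i, fst, sq, -, hi⟩ := hf hZ g
    exact ⟨W, i, fst, sq, hi⟩
  · have := repWith_snd h g
    exact ⟨_, h.1.snd g, h.1.fst g, h.1.isPullback g, isAffine_of_isAffineHom (h.1.snd g).left, this⟩

/-- Refine a map from an affine scheme through an etale chart by an affine etale cover. -/
theorem exists_affine_refine {V : Over S} {p : (yon S).obj V ⟶ Y} (hp : RepWith @Etale p)
    (hps : RepWith @Surjective p) {Z : Over S} [IsAffine Z.left] (g : (yon S).obj Z ⟶ Y) :
    ∃ (Z' : Over S) (e : Z' ⟶ Z) (m : Z' ⟶ V), IsAffine Z'.left ∧ Etale e.left ∧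
      Surjective e.left ∧ (yon S).map m ≫ p = (yon S).map e ≫ g := by
  obtain ⟨T', e, m, w, he, hes, -⟩ := exists_refine hp hps g
  have : Surjective e.left := ⟨hes⟩
  obtain ⟨m, rfl⟩ := (yon S).map_surjective m
  obtain ⟨n, U, hU, hs⟩ := exists_affine_refinement e.left
  have : ∀ i, IsAffine (U i : Scheme.{u}) := hU
  let π := Sigma.desc fun i => (U i).ι
  let j : Over.mk (π ≫ T'.hom) ⟶ T' := Over.homMk π
  have hπ : π ≫ e.left = Sigma.desc fun i => (U i).ι ≫ e.left := by ext i; simp [π]
  refine ⟨_, j ≫ e, j ≫ m, inferInstanceAs (IsAffine (∐ fun i => (U i : Scheme.{u}))), ?_, ?_, ?_⟩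
  · show Etale (π ≫ e.left)
    rw [hπ]
    exact IsZariskiLocalAtSource.sigmaDesc fun i => inferInstance
  · show Surjective (π ≫ e.left)
    rw [hπ]; exact hs
  · rw [Functor.map_comp, Functor.map_comp, Category.assoc, w, Category.assoc]

/-- Affineness is etale local on the target. -/
theorem isAffineMor_of_cover {f : X ⟶ Y} {V : Over S} {p : (yon S).obj V ⟶ Y}
    (hp : RepWith @Etale p) (hps : RepWith @Surjective p) {P : Sp S} {fst : P ⟶ X}
    {snd : P ⟶ (yon S).obj V} (sq : IsPullback fst snd f p) (h : IsAffineMor snd) : IsAffineMor f := by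
  intro Z hZ g
  obtain ⟨Z', e, m, hZ', he, hes, w⟩ := exists_affine_refine hp hps g
  obtain ⟨W', i', fst', sq', hW'⟩ := h hZ' ((yon S).map m)
  have sqX := sq'.paste_horiz sq
  rw [w] at sqX
  have sqg := IsPullback.of_hasPullback f g
  let p' := sqg.lift (fst' ≫ fst) ((yon S).map i' ≫ (yon S).map e) (by rw [Category.assoc]; exact sqX.w)
  have sqp : IsPullback p' ((yon S).map i') (pullback.snd f g) ((yon S).map e) :=
    IsPullback.of_right (by rw [sqg.lift_fst]; exact sqX) (sqg.lift_snd _ _ _) sqg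
  obtain ⟨A, k, ā, hA, hk, hkq⟩ := exists_affine_of_etale_cover e sqp
  exact ⟨A, ā, inv k ≫ pullback.fst f g, sqg.of_iso (asIso k) (Iso.refl _) (Iso.refl _) (Iso.refl _)
    (by simp) (by simp [hkq]) (by simp) (by simp), hA⟩

end Groth.L23

namespace Groth.L23

variable {S : Scheme.{u}} {X Y : Sp S}

/-- Cancellation : if `g ≫ q` and the diagonal of `q` are `P`, so is `g`. -/
theorem repWith_of_comp_diagonal {P : MorphismProperty Scheme.{u}} [P.IsStableUnderBaseChange]
    [P.IsStableUnderComposition] {B : Sp S} {g : X ⟶ Y} {q : Y ⟶ B} (h : RepWith P (g ≫ q))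
    (hd : RepWith P (pullback.diagonal q)) : RepWith P g := by
  have h₁ : RepWith P (pullback.lift (𝟙 X) g (by simp) : X ⟶ pullback (g ≫ q) q) :=
    repWith_of_isPullback (pullback_lift_diagonal_isPullback g q) hd
  have h₂ : RepWith P (pullback.snd (g ≫ q) q) :=
    repWith_of_isPullback (IsPullback.of_hasPullback _ _) h
  have := repWith_comp h₁ h₂
  rwa [pullback.lift_snd] at this

/-- Affineness over a scheme can be tested on affine opens. -/
theorem isAffineMor_of_affine_opens {T : Over S} {F : Sp S} (q : F ⟶ (yon S).obj T)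
    (h : ∀ B : T.left.affineOpens, ∃ (W : Over S) (fst : (yon S).obj W ⟶ F) (i : W ⟶ openOver T B.1),
      IsPullback fst ((yon S).map i) q ((yon S).map (openOverι T B.1)) ∧ IsAffine W.left) :
    IsAffineMor q := by
  obtain ⟨G, π, θ, hθ, hθq⟩ := exists_isPullback_of_affine_opens q fun B => by
    obtain ⟨W, fst, i, sq, -⟩ := h B
    exact ⟨W, fst, i, sq⟩
  have hπ : IsAffineHom π.left := by
    rw [IsZariskiLocalAtTarget.iff_of_iSup_eq_top (P := @IsAffineHom) _
      (iSup_affineOpens_eq_top T.left)]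
    intro B
    obtain ⟨W, fst, i, sq, hW⟩ := h B
    have sq' : IsPullback (fst ≫ inv θ) ((yon S).map i) ((yon S).map π)
        ((yon S).map (openOverι T B.1)) :=
      sq.of_iso (Iso.refl _) (asIso θ).symm (Iso.refl _) (Iso.refl _) (by simp) (by simp)
        (by simp [← hθq]) (by simp)
    obtain ⟨fst', hfst'⟩ := (yon S).map_surjective (fst ≫ inv θ)
    rw [← hfst'] at sq'
    have sq₃ : IsPullback fst'.left i.left π.left B.1.ι :=
      (IsPullback.of_map (yon S) ((yon S).map_injective (by simpa using sq'.w)) sq').map (Over.forget S)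
    have : IsAffine (openOver T B.1).left := B.2
    have : IsAffineHom i.left := isAffineHom_of_isAffine _
    exact (MorphismProperty.arrow_mk_iso_iff @IsAffineHom (Arrow.isoMk (sq₃.flip.isoIsPullback _ _ (isPullback_morphismRestrict π.left B.1)) (Iso.refl _) (by simp))).1 this
  have h' := repWith_map (S := S) (P := @IsAffineHom) hπ
  rw [← hθq] at h'
  refine isAffineMor_iff.2 ?_
  have := repWith_comp (repWith_of_isIso (P := @IsAffineHom) (inv θ)) h'
  rwa [IsIso.inv_hom_id_assoc] at this

end Groth.L23
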