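import Mathlib.AlgebraicGeometry.Morphisms.FinitePresentation
import Mathlib.AlgebraicGeometry.Noetherian

/-!
# Finite presentation and finite type
-/

universe u

open CategoryTheory AlgebraicGeometry

set_option backward.isDefEq.respectTransparency.types false

namespace Groth.L23

/-- `X ⟶ Y` is locally of finite presentation if `X ⟶ Z` is and `Y ⟶ Z` is locally of finite type. -/
theorem lfp_of_comp_lft {X Y Z : Scheme.{u}} (f : X ⟶ Y) (g : Y ⟶ Z) [LocallyOfFiniteType g]
    (h : LocallyOfFinitePresentation (f ≫ g)) : LocallyOfFinitePresentation f := by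
  wlog hZ : IsAffine Z generalizing X Y Z
  · rw [IsZariskiLocalAtTarget.iff_of_iSup_eq_top (P := @LocallyOfFinitePresentation) _
      (g.iSup_preimage_eq_top (iSup_affineOpens_eq_top Z))]
    intro U
    have H := IsZariskiLocalAtTarget.restrict h U.1
    rw [morphismRestrict_comp] at H
    have hg : LocallyOfFiniteType (g ∣_ U.1) := IsZariskiLocalAtTarget.restrict ‹_› U.1
    exact this _ (g ∣_ U.1) H inferInstance
  wlog hY : IsAffine Y generalizing X Y
  · rw [IsZariskiLocalAtTarget.iff_of_iSup_eq_top (P := @LocallyOfFinitePresentation) _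
      (iSup_affineOpens_eq_top Y)]
    intro U
    have H := HasRingHomProperty.comp_of_isOpenImmersion @LocallyOfFinitePresentation
      (f ⁻¹ᵁ U.1).ι (f ≫ g) h
    rw [← morphismRestrict_ι_assoc] at H
    have hg : LocallyOfFiniteType (U.1.ι ≫ g) :=
      HasRingHomProperty.comp_of_isOpenImmersion @LocallyOfFiniteType U.1.ι g ‹_›
    exact this _ (U.1.ι ≫ g) H inferInstance
  wlog hX : IsAffine X generalizing X
  · rw [IsZariskiLocalAtSource.iff_of_iSup_eq_top (P := @LocallyOfFinitePresentation) _
      (iSup_affineOpens_eq_top X)]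
    intro U
    have H := HasRingHomProperty.comp_of_isOpenImmersion @LocallyOfFinitePresentation
      U.1.ι (f ≫ g) h
    rw [← Category.assoc] at H
    exact this _ H inferInstance
  rw [HasRingHomProperty.iff_of_isAffine (P := @LocallyOfFinitePresentation)] at h ⊢
  rw [Scheme.Hom.comp_appTop] at h
  exact RingHom.FinitePresentation.of_comp_finiteType _ h
    ((HasRingHomProperty.iff_of_isAffine (P := @LocallyOfFiniteType)).1 ‹_›)

/-- Over a locally Noetherian scheme, locally of finite type is locally of finite presentation. -/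
theorem lfp_of_lft_locallyNoetherian {X Y : Scheme.{u}} (f : X ⟶ Y) [IsLocallyNoetherian Y]
    [LocallyOfFiniteType f] : LocallyOfFinitePresentation f := by
  refine ⟨fun {U} hU {V} hV e => ?_⟩
  have : IsNoetherianRing Γ(Y, U) := IsLocallyNoetherian.component_noetherian ⟨U, hU⟩
  exact RingHom.FinitePresentation.of_finiteType.1
    (HasRingHomProperty.appLE @LocallyOfFiniteType f ‹_› ⟨U, hU⟩ ⟨V, hV⟩ e)

end Groth.L23
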