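import Mathlib.AlgebraicGeometry.Morphisms.FlatDescent
import Mathlib.AlgebraicGeometry.Morphisms.LocalFlatDescent
import Mathlib.AlgebraicGeometry.ZariskisMainTheorem

/-!
# Flat descent of quasi-compactness and closed immersions
-/

universe u

open CategoryTheory CategoryTheory.Limits AlgebraicGeometry

set_option backward.isDefEq.respectTransparency.types false

namespace Groth.L23

instance descendsAlong_quasiCompact_surjective :
    MorphismProperty.DescendsAlong (@QuasiCompact : MorphismProperty Scheme.{u})
      (@Surjective ⊓ @QuasiCompact) := by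
  refine MorphismProperty.DescendsAlong.mk' fun {X Y Z} f g _ hf hp => ?_
  obtain ⟨hs, hq⟩ := hf
  have : QuasiCompact (pullback.snd f g ≫ g) := by
    rw [← pullback.condition]; infer_instance
  have hsn : Surjective (pullback.snd f g) := MorphismProperty.pullback_snd _ _ hs
  refine ⟨fun s hs' hc => ?_⟩
  have h1 := this.isCompact_preimage s hs' hc
  rw [Scheme.Hom.comp_base] at h1
  have h2 := h1.image (pullback.snd f g).continuous
  rwa [TopCat.coe_comp, Set.preimage_comp, Set.image_preimage_eq _ (pullback.snd f g).surjective] at h2

instance descendsAlong_quasiCompact :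
    MorphismProperty.DescendsAlong (@QuasiCompact : MorphismProperty Scheme.{u})
      (@Surjective ⊓ @Flat ⊓ @QuasiCompact) :=
  .of_le (Q := @Surjective ⊓ @QuasiCompact) fun _ _ _ h => ⟨h.1.1, h.2⟩

lemma isClosedImmersion_eq :
    (@IsClosedImmersion : MorphismProperty Scheme.{u}) =
      (((@LocallyOfFiniteType : MorphismProperty Scheme.{u}) ⊓
        (@UniversallyClosed : MorphismProperty Scheme.{u}) : MorphismProperty Scheme.{u}) ⊓
        MorphismProperty.monomorphisms Scheme.{u} : MorphismProperty Scheme.{u}) := by
  ext X Y f
  constructor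
  · intro h
    exact ⟨⟨inferInstance, inferInstance⟩, inferInstanceAs (Mono f)⟩
  · rintro ⟨⟨h₁, h₂⟩, (h₃ : Mono f)⟩
    have : IsProper f := {}
    exact (IsClosedImmersion.iff_isFinite_and_mono f).2
      ⟨IsFinite.of_isProper_of_locallyQuasiFinite f, h₃⟩

instance descendsAlong_monomorphisms :
    (MorphismProperty.monomorphisms Scheme.{u}).DescendsAlong (@Surjective ⊓ @Flat ⊓ @QuasiCompact) := by
  rw [← MorphismProperty.diagonal_isomorphisms]
  infer_instance

instance descendsAlong_isClosedImmersion :
    MorphismProperty.DescendsAlong (@IsClosedImmersion : MorphismProperty Scheme.{u})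
      (@Surjective ⊓ @Flat ⊓ @QuasiCompact) := by
  rw [isClosedImmersion_eq]
  infer_instance

instance descendsAlong_isClosedImmersion_fppf :
    MorphismProperty.DescendsAlong (@IsClosedImmersion : MorphismProperty Scheme.{u})
      (@Surjective ⊓ @Flat ⊓ @LocallyOfFinitePresentation) :=
  inferInstance

instance descendsAlong_quasiCompact_fppf :
    MorphismProperty.DescendsAlong (@QuasiCompact : MorphismProperty Scheme.{u})
      (@Surjective ⊓ @Flat ⊓ @LocallyOfFinitePresentation) :=
  inferInstance

end Groth.L23
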