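import Groth.Agent.L23.Coprod2
import Groth.Agent.L23.AffineMor
import Mathlib.AlgebraicGeometry.Morphisms.Finite
import Mathlib.RingTheory.Finiteness.Prod

/-!
# Finite coproducts of finite morphisms
-/

universe u

open CategoryTheory CategoryTheory.Limits AlgebraicGeometry AlgSp Opposite Topology

set_option backward.isDefEq.respectTransparency.types false
set_option linter.style.haveILetI false

namespace Groth.L23.Coprod

theorem isFinite_sigmaDesc {J : Type u} [Finite J] {W : J → Scheme.{u}} {Z : Scheme.{u}} [IsAffine Z]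
    [∀ j, IsAffine (W j)] (f : ∀ j, W j ⟶ Z) [∀ j, IsFinite (f j)] : IsFinite (Sigma.desc f) := by
  let R : J → CommRingCat.{u} := fun j => Γ(W j, ⊤)
  let φ : Γ(Z, ⊤) ⟶ CommRingCat.of (∀ j, R j) := CommRingCat.ofHom (RingHom.pi fun j => (f j).appTop.hom)
  let m : (∐ W) ⟶ ∐ fun j => Spec (R j) := CategoryTheory.Limits.Sigma.map fun j => (W j).isoSpec.hom
  let m' : (∐ fun j => Spec (R j)) ⟶ ∐ W := CategoryTheory.Limits.Sigma.map fun j => (W j).isoSpec.inv
  have : IsIso m := ⟨m', by
    refine Sigma.hom_ext _ _ fun j => ?_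
    rw [Sigma.ι_map_assoc, Sigma.ι_map, Iso.hom_inv_id_assoc, Category.comp_id], by
    refine Sigma.hom_ext _ _ fun j => ?_
    rw [Sigma.ι_map_assoc, Sigma.ι_map, Iso.inv_hom_id_assoc, Category.comp_id]⟩
  have e : Sigma.desc f ≫ Z.isoSpec.hom = (m ≫ sigmaSpec R) ≫ Spec.map φ := by
    refine Sigma.hom_ext _ _ fun j => ?_
    rw [Sigma.ι_desc_assoc, Category.assoc, Sigma.ι_map_assoc, ι_sigmaSpec_assoc, ← Spec.map_comp,
      ← Scheme.isoSpec_hom_naturality]
    rfl
  have hφ : φ.hom.Finite := by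
    algebraize [φ.hom]
    letI : ∀ j, Algebra Γ(Z, ⊤) (R j) := fun j => (f j).appTop.hom.toAlgebra
    have : ∀ j, Module.Finite Γ(Z, ⊤) (R j) := fun j => ((isFinite_iff (f j)).1 inferInstance).2 _ (isAffineOpen_top Z)
    exact inferInstanceAs (Module.Finite Γ(Z, ⊤) (∀ j, R j))
  have : IsFinite (Spec.map φ) := (IsFinite.SpecMap_iff φ).2 hφ
  have h : IsFinite (Sigma.desc f ≫ Z.isoSpec.hom) := by
    rw [e]
    infer_instance
  exact (MorphismProperty.cancel_right_of_respectsIso @IsFinite _ Z.isoSpec.hom).1 h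

variable {S : Scheme.{u}}

/-- The coproduct of schemes gives the coproduct of sheaves. -/
theorem nonempty_isColimit_yon_sigma {ι : Type u} (W : ι → Over S) {G : Over S} (k : ∀ i, W i ⟶ G)
    [∀ i, IsOpenImmersion (k i).left] (hcov : ∀ t : G.left, ∃ i w, (k i).left w = t)
    (hdisj : ∀ i j (x : (W i).left) (y : (W j).left), (k i).left x = (k j).left y → i = j) :
    Nonempty (IsColimit (Cofan.mk ((yon S).obj G) fun i => (yon S).map (k i))) := by
  have H : ∀ {T : Sp S} (g : ∀ i, (yon S).obj (W i) ⟶ T),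
      ∃! l : (yon S).obj G ⟶ T, ∀ i, (yon S).map (k i) ≫ l = g i := fun g =>
    existsUnique_glue k hcov g fun Z i j a b w => by
      by_cases h : IsEmpty Z.left
      · exact hom_ext_of_isEmpty _ _
      · obtain ⟨z⟩ := not_isEmpty_iff.1 h
        obtain rfl : i = j := hdisj i j (a.left z) (b.left z) (by
          rw [← Scheme.Hom.comp_apply, ← Scheme.Hom.comp_apply, ← Over.comp_left, ← Over.comp_left, w])
        have : Mono ((Over.forget S).map (k i)) := inferInstanceAs (Mono (k i).left)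
        have : Mono (k i) := (Over.forget S).mono_of_mono_map this
        rw [(cancel_mono (k i)).1 w]
  exact ⟨Cofan.IsColimit.mk _ (fun t => (H t.inj).choose) (fun t i => (H t.inj).choose_spec.1 i)
    fun t m hm => (H t.inj).choose_spec.2 m hm⟩

/-- Finiteness passes to finite coproducts. -/
theorem isFiniteMor_desc {n : ℕ} {F : Fin n → Sp S} {Y : Sp S} {c : Cofan F} (hc : IsColimit c) (d : c.pt ⟶ Y)
    (h : ∀ i, IsFiniteMor (c.inj i ≫ d)) : IsFiniteMor d := by
  intro Z hZ g
  choose W i fst sq hW hi using fun j => h j hZ g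
  have := hW
  let f : ∀ j : ULift.{u} (Fin n), (W j.down).left ⟶ Z.left := fun j => (i j.down).left
  have : ∀ j, IsFinite (f j) := fun j => hi j.down
  have : ∀ j : ULift.{u} (Fin n), IsAffine ((fun j : ULift.{u} (Fin n) => (W j.down).left) j) := fun j => hW j.down
  let G : Over S := Over.mk (Sigma.desc f ≫ Z.hom)
  let π : G ⟶ Z := Over.homMk (Sigma.desc f)
  let k : ∀ j : ULift.{u} (Fin n), W j.down ⟶ G := fun j => Over.homMk (Sigma.ι (fun j : ULift.{u} (Fin n) => (W j.down).left) j)
    (by show Sigma.ι _ j ≫ Sigma.desc f ≫ Z.hom = _; rw [Sigma.ι_desc_assoc]; exact Over.w (i j.down))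
  have : ∀ j, IsOpenImmersion (k j).left := fun j =>
    inferInstanceAs (IsOpenImmersion ((sigmaOpenCover fun j : ULift.{u} (Fin n) => (W j.down).left).f j))
  obtain ⟨hG⟩ := nonempty_isColimit_yon_sigma _ k
    (fun t => (sigmaOpenCover fun j : ULift.{u} (Fin n) => (W j.down).left).exists_eq t)
    fun a b x y e => congrArg Sigma.fst ((sigmaι_eq_iff (fun j : ULift.{u} (Fin n) => (W j.down).left) _ _ _ _).1 e)
  have sqP := IsPullback.of_hasPullback d g
  let l : ∀ j : Fin n, (yon S).obj (W j) ⟶ pullback d g := fun j =>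
    sqP.lift (fst j ≫ c.inj j) ((yon S).map (i j)) (by rw [Category.assoc]; exact (sq j).w)
  have sl : ∀ j, IsPullback (l j) (fst j) (pullback.fst d g) (c.inj j) := fun j => by
    refine IsPullback.of_right (h₁₂ := pullback.snd d g) (h₂₂ := d) ?_ (sqP.lift_fst _ _ _) sqP.flip
    rw [show l j ≫ pullback.snd d g = (yon S).map (i j) from sqP.lift_snd _ _ _]
    exact (sq j).flip
  let c' : Cofan fun j : Fin n => (yon S).obj (W j) := Cofan.mk (pullback d g) l
  obtain ⟨hc'⟩ := (FinitaryExtensive.isVanKampen_finiteCoproducts hc c'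
    (Discrete.natTrans fun j => fst j.as) (pullback.fst d g)
    (NatTrans.ext (funext fun ⟨j⟩ => (sqP.lift_fst _ _ _).symm)) (.of_discrete _)).2 fun j => (sl j.as)
  let θ : (yon S).obj G ⟶ pullback d g := Cofan.IsColimit.desc hG fun j => l j.down
  let θ' : pullback d g ⟶ (yon S).obj G := Cofan.IsColimit.desc hc' fun j => (yon S).map (k ⟨j⟩)
  have : IsIso θ := ⟨θ', Cofan.IsColimit.hom_ext hG _ _ fun j => by
      rw [Cofan.IsColimit.fac_assoc]
      exact (Cofan.IsColimit.fac hc' _ j.down).trans (Category.comp_id _).symm,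
    Cofan.IsColimit.hom_ext hc' _ _ fun j => by
      rw [Cofan.IsColimit.fac_assoc]
      exact (Cofan.IsColimit.fac hG _ (⟨j⟩ : ULift.{u} (Fin n))).trans (Category.comp_id _).symm⟩
  have hθ : θ ≫ pullback.snd d g = (yon S).map π := Cofan.IsColimit.hom_ext hG _ _ fun j => by
    rw [Cofan.IsColimit.fac_assoc, sqP.lift_snd]
    show _ = (yon S).map (k j) ≫ (yon S).map π
    rw [← Functor.map_comp]
    exact congrArg _ (Over.OverMorphism.ext (by show f j = Sigma.ι _ j ≫ Sigma.desc f; rw [Sigma.ι_desc]))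
  have hπ : IsFinite π.left := isFinite_sigmaDesc f
  exact ⟨G, π, θ ≫ pullback.fst d g, sqP.of_iso (asIso θ).symm (Iso.refl _) (Iso.refl _) (Iso.refl _)
    (by simp) (by simp [← hθ]) (by simp) (by simp), inferInstanceAs (IsAffine (∐ fun j : ULift.{u} (Fin n) => (W j.down).left)), hπ⟩

end Groth.L23.Coprod
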