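import Groth.Agent.L20.FibreScheme
import Groth.Agent.L20.FlatStalk
import Mathlib.AlgebraicGeometry.Morphisms.Etale
import Mathlib.AlgebraicGeometry.Morphisms.FormallyUnramified
import Mathlib.RingTheory.Unramified.Finite
import Mathlib.AlgebraicGeometry.Restrict

/-!
# Flatness at a point: etale localisation and base change
-/

universe u

open CategoryTheory CategoryTheory.Limits AlgebraicGeometry

set_option backward.isDefEq.respectTransparency.types false

namespace Groth.L23

variable {X Y Z : Scheme.{u}}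

theorem flat_stalkMap_congr {f g : X ⟶ Y} (e : f = g) (x : X) :
    (f.stalkMap x).hom.Flat ↔ (g.stalkMap x).hom.Flat := by subst e; rfl

theorem flat_stalkMap_comp (f : X ⟶ Y) (g : Y ⟶ Z) (x : X) (hf : (f.stalkMap x).hom.Flat)
    (hg : (g.stalkMap (f x)).hom.Flat) : ((f ≫ g).stalkMap x).hom.Flat := by
  rw [Scheme.Hom.stalkMap_comp]
  exact RingHom.Flat.comp hg hf

/-- Flatness at a point is insensitive to an etale morphism after. -/
theorem flat_stalkMap_comp_etale_iff (f : X ⟶ Y) (g : Y ⟶ Z) [Etale g] (x : X) :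
    ((f ≫ g).stalkMap x).hom.Flat ↔ (f.stalkMap x).hom.Flat := by
  refine ⟨fun h => ?_, fun h => flat_stalkMap_comp f g x h (Flat.stalkMap g (f x))⟩
  rw [Scheme.Hom.stalkMap_comp] at h
  have hu : (g.stalkMap (f x)).hom.FormallyUnramified :=
    AlgebraicGeometry.FormallyUnramified.stalkMap g (f x)
  have he : (g.stalkMap (f x)).hom.EssFiniteType := LocallyOfFiniteType.stalkMap g (f x)
  algebraize [(f.stalkMap x).hom, (g.stalkMap (f x)).hom, (g.stalkMap (f x) ≫ f.stalkMap x).hom]
  haveI : IsScalarTower (Z.presheaf.stalk (g (f x))) (Y.presheaf.stalk (f x)) (X.presheaf.stalk x) :=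
    IsScalarTower.of_algebraMap_eq fun a => rfl
  haveI : Module.Flat (Z.presheaf.stalk (g (f x))) (X.presheaf.stalk x) := h
  exact Algebra.FormallyUnramified.flat_of_restrictScalars
    (R := Z.presheaf.stalk (g (f x))) (S := Y.presheaf.stalk (f x)) (M := X.presheaf.stalk x)

/-- Flatness at a point is insensitive to an etale morphism before. -/
theorem flat_stalkMap_etale_comp_iff (f : X ⟶ Y) (g : Y ⟶ Z) [Etale f] (x : X) :
    ((f ≫ g).stalkMap x).hom.Flat ↔ (g.stalkMap (f x)).hom.Flat :=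
  ⟨fun h => Groth.L20.flat_stalkMap_of_comp f g x h (Flat.stalkMap f x),
    fun h => flat_stalkMap_comp f g x (Flat.stalkMap f x) h⟩

theorem flat_stalkMap_fiberMap_congr (f : X ⟶ Y) (g : Y ⟶ Z) (z : Z) (y : (f ≫ g).fiber z) (x : X)
    (hx : (f ≫ g).fiberι z y = x) :
    ((MoreMor.fiberMap f g z).stalkMap y).hom.Flat ↔
      ((MoreMor.fiberMap f g (g (f x))).stalkMap ((f ≫ g).asFiber x)).hom.Flat := by
  have hz : z = g (f x) := by
    have h : (f ≫ g).fiberι z y ∈ Set.range ((f ≫ g).fiberι z) := ⟨y, rfl⟩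
    rw [Scheme.Hom.range_fiberι, hx] at h
    exact h.symm
  subst hz
  obtain rfl : y = (f ≫ g).asFiber x :=
    ((f ≫ g).fiberι _).isEmbedding.injective (hx.trans ((f ≫ g).fiberι_asFiber x).symm)
  rfl

theorem flat_specMap_of_field {K L : CommRingCat.{u}} (hK : IsField K) (φ : K ⟶ L) :
    Flat (Spec.map φ) := by
  rw [HasRingHomProperty.Spec_iff (P := @Flat)]
  letI := hK.toField
  letI := φ.hom.toAlgebra
  exact (inferInstance : Module.Flat K L)

/-- The fibre of a base change is flat over the fibre. -/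
theorem exists_fiber_baseChange {U W U' W' : Scheme.{u}} {f : U ⟶ W} {f' : U' ⟶ W'} {p : U' ⟶ U}
    {g₀ : W' ⟶ W} (sq : IsPullback p f' f g₀) (w' : W') :
    ∃ pr : f'.fiber w' ⟶ f.fiber (g₀ w'),
      IsPullback pr (f'.fiberToSpecResidueField w') (f.fiberToSpecResidueField (g₀ w'))
        (Spec.map (g₀.residueFieldMap w')) ∧
      pr ≫ f.fiberι (g₀ w') = f'.fiberι w' ≫ p ∧ Flat pr := by
  have sq₁ : IsPullback (f'.fiberι w' ≫ p) (f'.fiberToSpecResidueField w') f
      (Spec.map (g₀.residueFieldMap w') ≫ W.fromSpecResidueField (g₀ w')) := by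
    rw [Scheme.Hom.SpecMap_residueFieldMap_fromSpecResidueField]
    exact (IsPullback.of_hasPullback f' (W'.fromSpecResidueField w')).paste_horiz sq
  have sq₂ : IsPullback (f.fiberι (g₀ w')) (f.fiberToSpecResidueField (g₀ w')) f
      (W.fromSpecResidueField (g₀ w')) := IsPullback.of_hasPullback _ _
  let pr := sq₂.lift (f'.fiberι w' ≫ p)
    (f'.fiberToSpecResidueField w' ≫ Spec.map (g₀.residueFieldMap w'))
    (by rw [sq₁.w, Category.assoc])
  have sq₃ : IsPullback pr (f'.fiberToSpecResidueField w') (f.fiberToSpecResidueField (g₀ w'))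
      (Spec.map (g₀.residueFieldMap w')) := by
    refine IsPullback.of_right ?_ (sq₂.lift_snd _ _ _) sq₂
    rw [sq₂.lift_fst]
    exact sq₁
  have : Flat (Spec.map (g₀.residueFieldMap w')) :=
    flat_specMap_of_field (Field.toIsField (W.residueField (g₀ w'))) _
  exact ⟨pr, sq₃, sq₂.lift_fst _ _ _, MorphismProperty.of_isPullback sq₃.flip this⟩

/-- Base change of flatness at a point. -/
theorem flat_stalkMap_baseChange {U V U' V' : Scheme.{u}} {f : U ⟶ V} [LocallyOfFinitePresentation f]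
    {pV : V' ⟶ V} {pU : U' ⟶ U} {f' : U' ⟶ V'} (sq : IsPullback pU f' f pV) (u' : U')
    (h : (f.stalkMap (pU u')).hom.Flat) : (f'.stalkMap u').hom.Flat := by
  let U₀ : U.Opens := ⟨{x | (f.stalkMap x).hom.Flat}, Groth.L20.isOpen_flat_stalkMap f⟩
  have h₀ : Flat (U₀.ι ≫ f) := Flat.of_stalkMap _ fun x =>
    (flat_stalkMap_etale_comp_iff U₀.ι f x).2 x.2
  have : Flat ((pU ⁻¹ᵁ U₀).ι ≫ f') :=
    MorphismProperty.of_isPullback ((isPullback_morphismRestrict pU U₀).paste_vert sq) h₀
  exact (flat_stalkMap_etale_comp_iff (pU ⁻¹ᵁ U₀).ι f' ⟨u', h⟩).1 (Flat.stalkMap _ _)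

/-- For a morphism over a base, with flat source, flatness at a point is detected after any base change. -/
theorem flat_stalkMap_baseChange_iff {U V W U' V' W' : Scheme.{u}} {f : U ⟶ V} {g : V ⟶ W}
    [LocallyOfFinitePresentation (f ≫ g)] [Flat (f ≫ g)] [LocallyOfFiniteType g]
    {g₀ : W' ⟶ W} {pV : V' ⟶ V} {g' : V' ⟶ W'} {pU : U' ⟶ U} {f' : U' ⟶ V'}
    (sqU : IsPullback pU f' f pV) (sqV : IsPullback pV g' g g₀) (u' : U') :
    (f'.stalkMap u').hom.Flat ↔ (f.stalkMap (pU u')).hom.Flat := by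
  refine ⟨fun h => ?_, fun h => ?_⟩
  swap
  · have := Groth.L20.locallyOfFinitePresentation_of_comp f g
    exact flat_stalkMap_baseChange sqU u' h
  let w' := g' (f' u')
  obtain ⟨pr, sp, hpr, hprf⟩ := exists_fiber_baseChange (sqU.paste_vert sqV) w'
  obtain ⟨q, sq, hq, hqf⟩ := exists_fiber_baseChange sqV w'
  have comm : pr ≫ MoreMor.fiberMap f g (g₀ w') = MoreMor.fiberMap f' g' w' ≫ q := by
    have sqf : IsPullback (g.fiberι (g₀ w')) (g.fiberToSpecResidueField (g₀ w')) g
        (W.fromSpecResidueField (g₀ w')) := IsPullback.of_hasPullback _ _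
    apply sqf.hom_ext
    · simp only [Category.assoc]
      rw [show MoreMor.fiberMap f g (g₀ w') ≫ g.fiberι (g₀ w') = (f ≫ g).fiberι (g₀ w') ≫ f from
          pullback.lift_fst _ _ _,
        show q ≫ g.fiberι (g₀ w') = g'.fiberι w' ≫ pV from hq, reassoc_of% hpr,
        reassoc_of% (show MoreMor.fiberMap f' g' w' ≫ g'.fiberι w' = (f' ≫ g').fiberι w' ≫ f' from
          pullback.lift_fst _ _ _), sqU.w]
    · simp only [Category.assoc]
      rw [show MoreMor.fiberMap f g (g₀ w') ≫ g.fiberToSpecResidueField (g₀ w') =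
          (f ≫ g).fiberToSpecResidueField (g₀ w') from pullback.lift_snd _ _ _,
        show q ≫ g.fiberToSpecResidueField (g₀ w') = g'.fiberToSpecResidueField w' ≫ _ from sq.w,
        reassoc_of% (show MoreMor.fiberMap f' g' w' ≫ g'.fiberToSpecResidueField w' =
          (f' ≫ g').fiberToSpecResidueField w' from pullback.lift_snd _ _ _)]
      exact sp.w
  have h₁ := flat_stalkMap_comp (MoreMor.fiberMap f' g' w') q ((f' ≫ g').asFiber u')
    (Groth.L20.flat_stalkMap_fiberMap_of_flat f' g' u' h) (Flat.stalkMap q _)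
  rw [← flat_stalkMap_congr comm] at h₁
  replace h₁ := Groth.L20.flat_stalkMap_of_comp pr (MoreMor.fiberMap f g (g₀ w')) _ h₁ (Flat.stalkMap pr _)
  refine Groth.L20.flat_stalkMap_of_fiberMap f g (pU u') (Flat.stalkMap _ _)
    ((flat_stalkMap_fiberMap_congr f g _ _ (pU u') ?_).1 h₁)
  rw [← Scheme.Hom.comp_apply, hpr, Scheme.Hom.comp_apply]
  exact congrArg pU ((f' ≫ g').fiberι_asFiber u')

end Groth.L23
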