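import Groth.Prelude.Def_Flat
import Groth.Agent.L22.Cyc.FieldExt
import Groth.Agent.L22.FibreSemicont
import Mathlib.AlgebraicGeometry.Morphisms.UniversallyOpen
import Mathlib.AlgebraicGeometry.Morphisms.Flat
import Mathlib.AlgebraicGeometry.Fiber

/-!
# Base change invariance of the local dimension of fibres
-/

universe u

open CategoryTheory CategoryTheory.Limits AlgebraicGeometry Topology TopologicalSpace

set_option backward.isDefEq.respectTransparency.types false

namespace Groth.L23

theorem exists_maximal_generization {X : Scheme.{u}} (x : X) :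
    ∃ z : X, z ⤳ x ∧ ∀ w, w ⤳ z → w = z := by
  obtain ⟨z, hz⟩ := QuasiSober.sober (isIrreducible_irreducibleComponent (x := x))
    isClosed_irreducibleComponent
  refine ⟨z, hz.specializes mem_irreducibleComponent, fun w hw => ?_⟩
  have h1 : irreducibleComponent x ⊆ closure ({w} : Set X) := by
    rw [← hz.def]
    exact closure_minimal (Set.singleton_subset_iff.2 hw.mem_closure) isClosed_closure
  have h2 := (irreducibleComponent_mem_irreducibleComponents x).2 isIrreducible_singleton.closure h1
  have h3 : w ∈ irreducibleComponent x := h2 (subset_closure rfl)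
  exact (hw.antisymm (hz.specializes h3)).eq

/-- The local dimension is invariant under extension of the ground field. -/
theorem localDim_baseChange_field (k K : Type u) [Field k] [Field K]
    {F F' : Scheme.{u}} (π : F ⟶ Spec (CommRingCat.of k)) [LocallyOfFiniteType π]
    (ψ : CommRingCat.of k ⟶ CommRingCat.of K) (π' : F' ⟶ Spec (CommRingCat.of K))
    (pr : F' ⟶ F) (hpb : IsPullback pr π' π (Spec.map ψ)) (x : F') :
    FlatMor.localDim F' x = FlatMor.localDim F (pr x) := by
  letI : F.Over (Spec (CommRingCat.of k)) := ⟨π⟩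
  letI : F'.Over (Spec (CommRingCat.of K)) := ⟨π'⟩
  haveI : LocallyOfFiniteType (F ↘ Spec (CommRingCat.of k)) := ‹LocallyOfFiniteType π›
  haveI : LocallyOfFiniteType (F' ↘ Spec (CommRingCat.of K)) :=
    MorphismProperty.of_isPullback hpb ‹LocallyOfFiniteType π›
  haveI : Flat (Spec.map ψ) := by
    rw [HasRingHomProperty.Spec_iff (P := @Flat)]
    letI := ψ.hom.toAlgebra
    show Module.Flat k K
    infer_instance
  haveI : Flat pr := MorphismProperty.of_isPullback hpb.flip ‹Flat (Spec.map ψ)›
  rw [Groth.L22.FibreSemicont.localDim_eq_iSup K, Groth.L22.FibreSemicont.localDim_eq_iSup k]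
  refine le_antisymm (iSup_le fun η => ?_) (iSup_le fun η => ?_)
  · obtain ⟨z, hz, hz'⟩ := exists_maximal_generization η.1
    obtain ⟨n, hn, -⟩ := Groth.L22.SchemeDim.exists_dim_closure_eq_trdeg k _ (pr z)
    have := Groth.L22.Cyc.dim_closure_baseChange k K π ψ π' pr hpb hz' hn
    refine le_iSup_of_le ⟨pr z, (hz.trans η.2).map pr.continuous⟩ ?_
    show _ ≤ topologicalKrullDim (closure {pr z})
    rw [hn, ← this]
    exact Groth.L22.SchemeDim.topologicalKrullDim_mono
      (closure_minimal (Set.singleton_subset_iff.mpr hz.mem_closure) isClosed_closure)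
  · obtain ⟨P, hP, hPη⟩ := Flat.generalizingMap pr η.2
    obtain ⟨z, hz, hz'⟩ := exists_maximal_generization P
    obtain ⟨n, hn, -⟩ := Groth.L22.SchemeDim.exists_dim_closure_eq_trdeg k _ (pr z)
    have := Groth.L22.Cyc.dim_closure_baseChange k K π ψ π' pr hpb hz' hn
    refine le_iSup_of_le ⟨z, hz.trans hP⟩ ?_
    show _ ≤ topologicalKrullDim (closure {z})
    rw [this, ← hn]
    refine Groth.L22.SchemeDim.topologicalKrullDim_mono
      (closure_minimal (Set.singleton_subset_iff.mpr (Specializes.mem_closure ?_)) isClosed_closure)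
    rw [← hPη]
    exact hz.map pr.continuous

theorem fibreDimAt_eq_localDim_fiber {X Y : Scheme.{u}} (f : X ⟶ Y) {y : Y} (w : f.fiber y) :
    FlatMor.fibreDimAt f (f.fiberι y w) = FlatMor.localDim (f.fiber y) w := by
  have hy : f (f.fiberι y w) = y := (f.range_fiberι y).subset ⟨w, rfl⟩
  have key : ∀ (y' : Y) (_ : y' = y) (w' : f.fiber y'), f.fiberι y' w' = f.fiberι y w →
      FlatMor.localDim (f.fiber y') w' = FlatMor.localDim (f.fiber y) w := by
    intro y' e
    subst e
    intro w' hw
    rw [(f.fiberι y').isEmbedding.injective hw]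
  exact key _ hy _ (f.fiberι_asFiber _)

/-- The dimension of the fibre at a point is invariant under base change. -/
theorem fibreDimAt_of_isPullback {X Y X' Y' : Scheme.{u}} {g' : X' ⟶ X} {f' : X' ⟶ Y'} {f : X ⟶ Y}
    {g : Y' ⟶ Y} [LocallyOfFiniteType f] (sq : IsPullback g' f' f g) (x : X') :
    FlatMor.fibreDimAt f' x = FlatMor.fibreDimAt f (g' x) := by
  have H := isPullback_fiberToSpecResidueField_of_isPullback sq (f' x)
  let m : f'.fiber (f' x) ⟶ f.fiber (g (f' x)) :=
    pullback.map _ _ _ _ g' (Spec.map (g.residueFieldMap (f' x))) g sq.w.symm (by simp)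
  have h0 : m ≫ f.fiberι (g (f' x)) = f'.fiberι (f' x) ≫ g' := pullback.lift_fst _ _ _
  have h1 : f.fiberι (g (f' x)) (m (f'.asFiber x)) = g' x := by
    rw [← Scheme.Hom.comp_apply, h0, Scheme.Hom.comp_apply, f'.fiberι_asFiber]
  rw [← h1, fibreDimAt_eq_localDim_fiber]
  refine @localDim_baseChange_field _ _ _ _ _ _ (f.fiberToSpecResidueField (g (f' x))) ?_ _ _ m H _
  exact MorphismProperty.pullback_snd f (Y.fromSpecResidueField _) inferInstance

end Groth.L23
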