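import Mathlib.AlgebraicGeometry.Morphisms.QuasiFinite
import Mathlib.AlgebraicGeometry.Morphisms.LocalFlatDescent
import Mathlib.AlgebraicGeometry.Morphisms.Etale
import Mathlib.RingTheory.Unramified.LocalStructure

/-!
# Descent of flatness and quasi-finiteness; unramified morphisms are quasi-finite
-/

universe u

open CategoryTheory AlgebraicGeometry MorphismProperty
open scoped TensorProduct

namespace Groth.L23

lemma flat_codescendsAlong : RingHom.CodescendsAlong RingHom.Flat.{u, u} RingHom.FaithfullyFlat := by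
  apply RingHom.CodescendsAlong.mk _ RingHom.Flat.respectsIso
  intro R S T _ _ _ _ _ h H
  rw [RingHom.faithfullyFlat_algebraMap_iff] at h
  rw [RingHom.flat_algebraMap_iff] at H ⊢
  exact Module.Flat.of_flat_tensorProduct R T S

theorem quasiFinite_of_tensorProduct (R S T : Type u) [CommRing R] [CommRing S] [CommRing T]
    [Algebra R S] [Algebra R T] [Module.FaithfullyFlat R S] [Algebra.QuasiFinite S (S ⊗[R] T)] :
    Algebra.QuasiFinite R T := by
  refine ⟨fun p hp => ?_⟩
  obtain ⟨P, hP, hPp⟩ := Ideal.exists_isPrime_liesOver_of_faithfullyFlat (B := S) p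
  let := Localization.AtPrime.algebraOfLiesOver p P
  let e : P.Fiber (S ⊗[R] T) ≃ₐ[P.ResidueField] P.ResidueField ⊗[p.ResidueField] (p.Fiber T) :=
    (Algebra.TensorProduct.cancelBaseChange _ _ _ _ _).trans
      (Algebra.TensorProduct.cancelBaseChange _ _ _ _ _).symm
  have : Module.Finite P.ResidueField (P.ResidueField ⊗[p.ResidueField] (p.Fiber T)) :=
    .of_surjective e.toLinearMap e.surjective
  exact Module.Finite.of_finite_tensorProduct_of_faithfullyFlat P.ResidueField

lemma quasiFinite_codescendsAlong :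
    RingHom.CodescendsAlong RingHom.QuasiFinite RingHom.FaithfullyFlat.{u, u} := by
  apply RingHom.CodescendsAlong.mk _ RingHom.QuasiFinite.respectsIso
  intro R S T _ _ _ _ _ h H
  rw [RingHom.faithfullyFlat_algebraMap_iff] at h
  rw [RingHom.quasiFinite_algebraMap] at H ⊢
  exact quasiFinite_of_tensorProduct R S T

instance : DescendsAlong (@Flat : MorphismProperty Scheme.{u}) (@Surjective ⊓ @Flat ⊓ @QuasiCompact) :=
  HasRingHomProperty.descendsAlong_flat flat_codescendsAlong

instance : DescendsAlong (@LocallyQuasiFinite : MorphismProperty Scheme.{u})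
    (@Surjective ⊓ @Flat ⊓ @QuasiCompact) :=
  HasRingHomProperty.descendsAlong_flat quasiFinite_codescendsAlong

/-- A formally unramified morphism locally of finite type is locally quasi-finite. -/
theorem locallyQuasiFinite_of_unramified {X Y : Scheme.{u}} (f : X ⟶ Y) [LocallyOfFiniteType f]
    [FormallyUnramified f] : LocallyQuasiFinite f := by
  refine ⟨fun {U} hU {V} hV e => ?_⟩
  have h₁ : (f.appLE U V e).hom.FiniteType := HasRingHomProperty.appLE @LocallyOfFiniteType f ‹_› ⟨U, hU⟩ ⟨V, hV⟩ e
  have h₂ : (f.appLE U V e).hom.FormallyUnramified :=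
    HasRingHomProperty.appLE @FormallyUnramified f ‹_› ⟨U, hU⟩ ⟨V, hV⟩ e
  algebraize [(f.appLE U V e).hom]
  exact (inferInstance : Algebra.QuasiFinite Γ(Y, U) Γ(X, V))

instance (priority := low) {X Y : Scheme.{u}} (f : X ⟶ Y) [Etale f] : LocallyQuasiFinite f :=
  locallyQuasiFinite_of_unramified f

end Groth.L23
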