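import Groth.Prelude.Def_Flat
import Groth.Agent.L23.QFDescent
import Mathlib.Topology.KrullDimension
import Mathlib.Topology.Sober
import Mathlib.AlgebraicGeometry.Morphisms.Etale
import Mathlib.AlgebraicGeometry.Morphisms.QuasiFinite
import Mathlib.AlgebraicGeometry.Morphisms.UniversallyOpen
import Mathlib.AlgebraicGeometry.Fiber

/-!
# Invariance of the local dimension under etale morphisms
-/

universe u v

open CategoryTheory AlgebraicGeometry Topology TopologicalSpace Order

set_option backward.isDefEq.respectTransparency.types false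

namespace Groth.L23

section Top

attribute [local instance] specializationOrder

variable {A : Type u} {B : Type v} [TopologicalSpace A] [TopologicalSpace B]

/-- A surjective generalizing map without specializations in its fibres preserves the dimension. -/
theorem topologicalKrullDim_eq_of_generalizing [T0Space A] [QuasiSober A] [T0Space B] [QuasiSober B]
    {φ : A → B} (hφ : Continuous φ) (hs : Function.Surjective φ) (hg : GeneralizingMap φ)
    (hstrict : ∀ x y, x ⤳ y → φ x = φ y → x = y) :
    topologicalKrullDim A = topologicalKrullDim B := by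
  unfold topologicalKrullDim
  rw [krullDim_eq_of_orderIso (irreducibleSetEquivPoints (α := A)),
    krullDim_eq_of_orderIso (irreducibleSetEquivPoints (α := B))]
  have hmono : StrictMono φ := fun a b hab => by
    refine lt_of_le_of_ne (Specializes.map (show b ⤳ a from hab.le) hφ) fun e => hab.ne ?_
    exact (hstrict b a hab.le e.symm).symm
  refine le_antisymm (krullDim_le_of_strictMono φ hmono) ?_
  have key : ∀ (n : ℕ) (p : Fin (n + 1) → B), StrictMono p →
      ∃ q : Fin (n + 1) → A, StrictMono q ∧ ∀ i, φ (q i) = p i := by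
    intro n
    induction n with
    | zero =>
      intro p _
      obtain ⟨a, ha⟩ := hs (p 0)
      exact ⟨fun _ => a, fun i j hij => absurd hij (by simp [Subsingleton.elim (α := Fin 1) i j]),
        fun i => by rw [Subsingleton.elim (α := Fin 1) i 0]; exact ha⟩
    | succ n ih =>
      intro p hp
      obtain ⟨q, hq, hqp⟩ := ih (p ∘ Fin.castSucc) (hp.comp Fin.strictMono_castSucc)
      have hlt : p (Fin.castSucc (Fin.last n)) < p (Fin.last (n + 1)) := hp (Fin.castSucc_lt_last _)
      obtain ⟨a, ha, hap⟩ := hg (show p (Fin.last (n + 1)) ⤳ φ (q (Fin.last n)) by rw [hqp]; exact hlt.le)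
      refine ⟨Fin.snoc q a, Fin.strictMono_iff_lt_succ.2 fun i => ?_, fun i => ?_⟩
      · induction i using Fin.lastCases with
        | last =>
          rw [Fin.succ_last, Fin.snoc_last, Fin.snoc_castSucc]
          refine lt_of_le_of_ne ha fun e => hlt.ne ?_
          rw [← hap, ← e, hqp]
          rfl
        | cast i =>
          rw [Fin.succ_castSucc, Fin.snoc_castSucc, Fin.snoc_castSucc]
          exact hq Fin.castSucc_lt_succ
      · induction i using Fin.lastCases with
        | last => rw [Fin.snoc_last]; exact hap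
        | cast i => rw [Fin.snoc_castSucc]; exact hqp i
  refine iSup_le fun p => ?_
  obtain ⟨q, hq, -⟩ := key p.length p.toFun p.strictMono
  exact le_iSup_of_le (LTSeries.mk p.length q hq) le_rfl

/-- An open generalizing map without specializations in its fibres preserves local dimensions. -/
theorem localDim_eq_of_open_generalizing [T0Space A] [QuasiSober A] [T0Space B] [QuasiSober B]
    {φ : A → B} (hφ : Continuous φ) (ho : IsOpenMap φ) (hg : GeneralizingMap φ)
    (hstrict : ∀ x y, x ⤳ y → φ x = φ y → x = y) (a : A) :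
    FlatMor.localDim A a = FlatMor.localDim B (φ a) := by
  have key : ∀ O : Opens A, topologicalKrullDim (O : Set A) = topologicalKrullDim (φ '' (O : Set A)) := by
    intro O
    have := O.2.isOpenEmbedding_subtypeVal.quasiSober
    have := (ho _ O.2).isOpenEmbedding_subtypeVal.quasiSober
    refine topologicalKrullDim_eq_of_generalizing (φ := fun x : (O : Set A) => (⟨φ x.1, x.1, x.2, rfl⟩ : φ '' (O : Set A)))
      ((hφ.comp continuous_subtype_val).subtype_mk _) (fun ⟨_, x, hx, rfl⟩ => ⟨⟨x, hx⟩, rfl⟩) ?_ ?_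
    · intro x b hb
      obtain ⟨z, hz, hzb⟩ := hg (show b.1 ⤳ φ x.1 from hb.map continuous_subtype_val)
      exact ⟨⟨z, hz.mem_open O.2 x.2⟩, (subtype_specializes_iff _ _).2 hz, Subtype.ext hzb⟩
    · exact fun x y hxy e => Subtype.ext (hstrict _ _ (hxy.map continuous_subtype_val) (congrArg Subtype.val e))
  refine le_antisymm (le_iInf fun W => ?_) (le_iInf fun O => ?_)
  · refine iInf_le_of_le ⟨⟨φ ⁻¹' W.1, W.1.2.preimage hφ⟩, W.2⟩ ?_
    rw [key]
    have hsub : φ '' (φ ⁻¹' W.1) ⊆ (W.1 : Set B) := Set.image_preimage_subset _ _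
    exact (IsInducing.topologicalKrullDim_le (f := Set.inclusion hsub)
      (IsEmbedding.inclusion hsub).isInducing)
  · exact iInf_le_of_le ⟨⟨φ '' O.1, ho _ O.1.2⟩, a, O.2, rfl⟩ (key O.1).ge

theorem localDim_homeomorph [T0Space A] [QuasiSober A] [T0Space B] [QuasiSober B] (e : A ≃ₜ B) (a : A) :
    FlatMor.localDim A a = FlatMor.localDim B (e a) := by
  refine localDim_eq_of_open_generalizing e.continuous e.isOpenMap ?_
    (fun x y _ h => e.injective h) a
  intro x b hb
  refine ⟨e.symm b, ?_, e.apply_symm_apply b⟩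
  simpa using hb.map e.symm.continuous

end Top

variable {X Y : Scheme.{u}}

theorem eq_of_specializes_of_lqf (f : X ⟶ Y) [LocallyQuasiFinite f] {x y : X} (h : x ⤳ y) (e : f x = f y) :
    x = y := by
  have := (f.isDiscrete_preimage_singleton (f y)).to_subtype
  have h' : (⟨x, e⟩ : f ⁻¹' {f y}) ⤳ ⟨y, rfl⟩ := (subtype_specializes_iff _ _).2 h
  exact congrArg Subtype.val h'.eq

theorem lqf_of_etale (f : X ⟶ Y) [Etale f] : LocallyQuasiFinite f :=
  locallyQuasiFinite_of_unramified f

theorem localDim_eq_of_etale (f : X ⟶ Y) [Etale f] (x : X) :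
    FlatMor.localDim X x = FlatMor.localDim Y (f x) :=
  localDim_eq_of_open_generalizing f.continuous f.isOpenMap (Flat.generalizingMap f)
    (fun _ _ h e => haveI := lqf_of_etale f; eq_of_specializes_of_lqf f h e) x

theorem quasiSober_preimage_singleton (f : X ⟶ Y) (y : Y) : QuasiSober (f ⁻¹' {y}) :=
  (f.fiberHomeo y).symm.isOpenEmbedding.quasiSober

theorem fibreDimAt_eq_preimage (f : X ⟶ Y) (x : X) :
    FlatMor.fibreDimAt f x = FlatMor.localDim (f ⁻¹' {f x}) (⟨x, rfl⟩ : f ⁻¹' {f x}) := by
  have := quasiSober_preimage_singleton f (f x)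
  show FlatMor.localDim (f.fiber (f x)) (f.asFiber x) = _
  rw [localDim_homeomorph (f.fiberHomeo (f x))]
  congr 1
  exact (f.fiberHomeo (f x)).apply_symm_apply _

theorem fibreDimAt_etale_comp (a : X ⟶ Y) {Z : Scheme.{u}} (h : Y ⟶ Z) [Etale a] (x : X) :
    FlatMor.fibreDimAt (a ≫ h) x = FlatMor.fibreDimAt h (a x) := by
  rw [fibreDimAt_eq_preimage, fibreDimAt_eq_preimage]
  have := quasiSober_preimage_singleton (a ≫ h) ((a ≫ h) x)
  have := quasiSober_preimage_singleton h (h (a x))
  let φ : ((a ≫ h) ⁻¹' {(a ≫ h) x}) → (h ⁻¹' {h (a x)}) := fun z => ⟨a z.1, z.2⟩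
  refine localDim_eq_of_open_generalizing (φ := φ) ((a.continuous.comp continuous_subtype_val).subtype_mk _)
    (IsOpenMap.restrictPreimage a.isOpenMap (h ⁻¹' {h (a x)})) ?_ ?_ _
  · intro z b hb
    obtain ⟨w, hw, hwb⟩ := Flat.generalizingMap a (show b.1 ⤳ a z.1 from hb.map continuous_subtype_val)
    exact ⟨⟨w, by show h (a w) = h (a x); rw [hwb]; exact b.2⟩, (subtype_specializes_iff _ _).2 hw, Subtype.ext hwb⟩
  · have := lqf_of_etale a
    exact fun z w hzw e => Subtype.ext
        (eq_of_specializes_of_lqf a (hzw.map continuous_subtype_val) (congrArg Subtype.val e))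

theorem fibreDimAt_comp_etale (h : X ⟶ Y) {Z : Scheme.{u}} (b : Y ⟶ Z) [Etale b] (x : X) :
    FlatMor.fibreDimAt (h ≫ b) x = FlatMor.fibreDimAt h x := by
  rw [fibreDimAt_eq_preimage, fibreDimAt_eq_preimage]
  have := quasiSober_preimage_singleton (h ≫ b) ((h ≫ b) x)
  have := quasiSober_preimage_singleton h (h x)
  let ι : (h ⁻¹' {h x}) → ((h ≫ b) ⁻¹' {(h ≫ b) x}) := fun z => ⟨z.1, congrArg b z.2⟩
  have hι : IsOpenEmbedding ι := by
    refine ⟨⟨⟨?_⟩, fun z w e => Subtype.ext (congrArg (fun t => t.1) e)⟩, ?_⟩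
    · rw [instTopologicalSpaceSubtype, instTopologicalSpaceSubtype, induced_compose]
      rfl
    · have := lqf_of_etale b
      have hd := (b.isDiscrete_preimage_singleton (b (h x))).to_subtype
      have hopen : IsOpen ((fun z : (h ≫ b) ⁻¹' {(h ≫ b) x} =>
          (⟨h z.1, z.2⟩ : b ⁻¹' {b (h x)})) ⁻¹' {⟨h x, rfl⟩}) :=
        (isOpen_discrete _).preimage ((h.continuous.comp continuous_subtype_val).subtype_mk _)
      convert hopen using 1
      ext z
      exact ⟨fun ⟨w, hw⟩ => hw ▸ Subtype.ext w.2, fun hz => ⟨⟨z.1, congrArg Subtype.val hz⟩, rfl⟩⟩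
  refine (localDim_eq_of_open_generalizing hι.continuous hι.isOpenMap ?_ (fun z w _ e => hι.injective e)
    (⟨x, rfl⟩ : h ⁻¹' {h x})).symm
  intro z b' hb
  obtain ⟨w, hw⟩ : b' ∈ Set.range ι := hι.isOpenMap.isOpen_range.stableUnderGeneralization hb ⟨z, rfl⟩
  subst hw
  exact ⟨w, hι.isInducing.specializes_iff.1 hb, rfl⟩

theorem fibreDimAt_eq_of_etale_nhds {U U' V V' : Scheme.{u}} (h : U ⟶ V) (h' : U' ⟶ V') (a : U' ⟶ U)
    (b : V' ⟶ V) [Etale a] [Etale b] (comm : h' ≫ b = a ≫ h) (u' : U') :
    FlatMor.fibreDimAt h (a u') = FlatMor.fibreDimAt h' u' := by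
  rw [← fibreDimAt_etale_comp a h u', ← fibreDimAt_comp_etale h' b u', comm]

end Groth.L23
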