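import Groth.Agent.L19.Closure
import Groth.Agent.L23.Descent
import Mathlib.AlgebraicGeometry.Morphisms.FlatDescent
import Mathlib.AlgebraicGeometry.Morphisms.Immersion
import Mathlib.AlgebraicGeometry.Morphisms.UniversallyOpen

/-!
# Descent of immersions
-/

universe u

open CategoryTheory CategoryTheory.Limits AlgebraicGeometry MorphismProperty Topology

set_option backward.isDefEq.respectTransparency.types false

namespace Groth.L23

/-- An immersion descends along a flat surjection which preserves the closure of the image and is a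
quotient map. -/
theorem isImmersion_of_closure_preimage {Q : MorphismProperty Scheme.{u}} [Q.IsStableUnderBaseChange]
    [DescendsAlong (@IsClosedImmersion : MorphismProperty Scheme.{u}) Q]
    {X Y X' Y' : Scheme.{u}} {f : X ⟶ Y} {g : Y' ⟶ Y} {g' : X' ⟶ X} {f' : X' ⟶ Y'}
    (sq : IsPullback g' f' f g) (hg : Q g) [Surjective g] (hq : IsQuotientMap g)
    (hcl : closure (g ⁻¹' Set.range f) = g ⁻¹' closure (Set.range f)) [IsImmersion f'] : IsImmersion f := by
  have hr : g ⁻¹' Set.range f = Set.range f' := by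
    refine Set.Subset.antisymm (fun y ⟨x, hx⟩ => ?_) ?_
    · obtain ⟨w, -, hw⟩ := Scheme.exists_preimage_of_isPullback sq x y hx
      exact ⟨w, hw⟩
    · rintro _ ⟨w, rfl⟩
      exact ⟨g' w, by rw [← Scheme.Hom.comp_apply, ← Scheme.Hom.comp_apply, sq.w]⟩
  have hcb : g ⁻¹' coborder (Set.range f) = coborder (Set.range f') := by
    rw [coborder, coborder, Set.preimage_compl, Set.preimage_sdiff, ← hcl, hr]
  let U : Y.Opens := ⟨coborder (Set.range f), hq.isOpen_preimage.1 (by
    rw [hcb]; exact f'.isLocallyClosed_range.isOpen_coborder)⟩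
  let fU : X ⟶ U := IsOpenImmersion.lift U.ι f (by simpa [U] using! subset_coborder)
  have hfU : fU ≫ U.ι = f := IsOpenImmersion.lift_fac _ _ _
  let fU' : X' ⟶ g ⁻¹ᵁ U := IsOpenImmersion.lift (g ⁻¹ᵁ U).ι f' (by
    rw [Scheme.Opens.range_ι, ← hr]
    exact Set.preimage_mono subset_coborder)
  have hfU' : fU' ≫ (g ⁻¹ᵁ U).ι = f' := IsOpenImmersion.lift_fac _ _ _
  have sqg := isPullback_morphismRestrict g U
  have sqU : IsPullback g' fU' fU (g ∣_ U) := by
    refine IsPullback.of_bot ?_ ?_ sqg
    · rw [hfU, hfU']; exact sq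
    · rw [← cancel_mono U.ι, Category.assoc, hfU, sq.w, Category.assoc, morphismRestrict_ι,
        ← Category.assoc, hfU']
  have : IsImmersion (fU' ≫ (g ⁻¹ᵁ U).ι) := by rw [hfU']; infer_instance
  have : IsImmersion fU' := IsImmersion.of_comp fU' (g ⁻¹ᵁ U).ι
  have : IsClosedImmersion fU' := by
    refine IsClosedImmersion.of_isPreimmersion _ ?_
    have e : Set.range fU' = (g ⁻¹ᵁ U).ι ⁻¹' closure (Set.range f') := by
      ext u
      constructor
      · rintro ⟨x, rfl⟩
        exact subset_closure ⟨x, by rw [← Scheme.Hom.comp_apply, hfU']⟩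
      · intro hu
        have hmem : (g ⁻¹ᵁ U).ι u ∈ coborder (Set.range f') := by rw [← hcb]; exact u.2
        obtain ⟨x, hx⟩ : (g ⁻¹ᵁ U).ι u ∈ Set.range f' := by
          rw [← closure_inter_coborder (s := Set.range f')]; exact ⟨hu, hmem⟩
        exact ⟨x, (g ⁻¹ᵁ U).ι.injective (by rw [← Scheme.Hom.comp_apply, hfU', hx])⟩
    rw [e]
    exact isClosed_closure.preimage (g ⁻¹ᵁ U).ι.continuous
  have : IsClosedImmersion fU :=
    MorphismProperty.of_isPullback_of_descendsAlong (Q := Q) sqU.flip
      (MorphismProperty.of_isPullback sqg.flip hg) ‹_›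
  rw [← hfU]
  infer_instance

/-- Immersions descend along fppf surjections. -/
theorem descendsAlong_isImmersion_fppf : DescendsAlong (@IsImmersion : MorphismProperty Scheme.{u})
    (@Surjective ⊓ @Flat ⊓ @LocallyOfFinitePresentation) := by
  refine DescendsAlong.mk' fun {_ _ _} f g _ hf h => ?_
  obtain ⟨⟨_, _⟩, _⟩ := hf
  have ho := f.isOpenMap
  refine isImmersion_of_closure_preimage
    (Q := (@Surjective ⊓ @Flat ⊓ @LocallyOfFinitePresentation : MorphismProperty Scheme.{u}))
    (IsPullback.of_hasPullback f g).flip ⟨⟨‹_›, ‹_›⟩, ‹_›⟩ (ho.isQuotientMap f.continuous f.surjective)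
    (ho.preimage_closure_eq_closure_preimage f.continuous _).symm

/-- Quasi-compact immersions descend along fpqc surjections. -/
theorem descendsAlong_qcImmersion :
    DescendsAlong (@IsImmersion ⊓ @QuasiCompact : MorphismProperty Scheme.{u})
      (@Surjective ⊓ @Flat ⊓ @QuasiCompact) := by
  refine DescendsAlong.mk' fun {_ _ _} f g _ hf h => ?_
  obtain ⟨h, h'⟩ := h
  have hqc : QuasiCompact g :=
    of_pullback_fst_of_descendsAlong (P := @QuasiCompact) hf h'
  refine ⟨?_, hqc⟩
  obtain ⟨⟨_, _⟩, _⟩ := hf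
  refine isImmersion_of_closure_preimage
    (Q := (@Surjective ⊓ @Flat ⊓ @QuasiCompact : MorphismProperty Scheme.{u}))
    (IsPullback.of_hasPullback f g).flip ⟨⟨‹_›, ‹_›⟩, ‹_›⟩ (Flat.isQuotientMap_of_surjective f)
    (Set.Subset.antisymm (f.continuous.closure_preimage_subset _) fun z hz => ?_)
  obtain ⟨a, ha⟩ := Groth.L19.exists_specializes_of_mem_closure_range g hz
  obtain ⟨a', ha', e⟩ := (Flat.generalizingMap f) ha
  exact ha'.mem_closed isClosed_closure (subset_closure ⟨a, e.symm⟩)

end Groth.L23
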