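import Groth.Agent.L24.Alg.SourceFppf
import Groth.Agent.L03.GeomRegular
import Groth.Agent.L07.RationalSmooth
import Groth.Agent.L05.Point.Crit
import Groth.Agent.L19.FlatComp
import Groth.Agent.S9406
import Mathlib.RingTheory.Smooth.Fiber
import Mathlib.RingTheory.Etale.Descent
import Mathlib.RingTheory.Etale.Field
import Mathlib.FieldTheory.IsAlgClosed.AlgebraicClosure
import Mathlib.RingTheory.Jacobson.Ring

/-!
# Smooth and etale morphisms descend along fppf coverings of the source
-/

universe u

open CategoryTheory CategoryTheory.Limits AlgebraicGeometry TensorProduct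

set_option linter.style.haveILetI false

namespace Groth.L23.FppfSmooth

section Field

variable {K B C : Type u} [Field K] [IsAlgClosed K] [CommRing B] [CommRing C] [Algebra K B] [Algebra K C]
  [Algebra B C] [IsScalarTower K B C] [Module.FaithfullyFlat B C] [Algebra.FiniteType K B]

theorem smooth_of_faithfullyFlat_algClosed [Algebra.Smooth K C] : Algebra.Smooth K B := by
  haveI : IsRegularRing C := Groth.L03.GeomRegular.isRegularRing_of_smooth K C
  haveI : IsRegularRing B := Groth.Agent.S9406.result B C
  haveI : Algebra.FinitePresentation K B := Algebra.FinitePresentation.of_finiteType.mp ‹_›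
  refine ⟨Algebra.smoothLocus_eq_univ_iff.mp (Set.eq_univ_iff_forall.mpr fun q => ?_), ‹_›⟩
  obtain ⟨m, hm, hqm⟩ := Ideal.exists_le_maximal q.asIdeal q.isPrime.ne_top
  let mp : PrimeSpectrum B := ⟨m, hm.isPrime⟩
  refine ((PrimeSpectrum.le_iff_specializes q mp).1 hqm).mem_open Algebra.isOpen_smoothLocus ?_
  haveI := hm
  letI := Ideal.Quotient.field m
  haveI : Algebra.FiniteType K (B ⧸ m) := Algebra.FiniteType.trans (S := B) ‹_› inferInstance
  haveI : Module.Finite K (B ⧸ m) := finite_of_finite_type_of_isJacobsonRing K (B ⧸ m)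
  let e : K ≃ₐ[K] B ⧸ m := AlgEquiv.ofBijective (Algebra.ofId K (B ⧸ m)) IsAlgClosed.algebraMap_bijective_of_isIntegral
  let χ : B →ₐ[K] K := e.symm.toAlgHom.comp (Ideal.Quotient.mkₐ K m)
  have hχ : m = RingHom.ker χ := by
    ext x
    simp [χ, RingHom.mem_ker, Ideal.Quotient.eq_zero_iff_mem]
  haveI : IsRegularLocalRing (Localization.AtPrime m) := IsRegularRing.isRegularLocalRing_localization m
  exact Groth.L07.RationalSmooth.isSmoothAt_of_regular m χ hχ

theorem etale_of_faithfullyFlat_algClosed [Algebra.Etale K C] : Algebra.Etale K B := by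
  haveI := Algebra.FormallyUnramified.finite_of_free K C
  haveI := Algebra.FormallyUnramified.isReduced_of_field K C
  have hinj : Function.Injective (IsScalarTower.toAlgHom K B C) := FaithfulSMul.algebraMap_injective B C
  haveI : Module.Finite K B := Module.Finite.of_injective (IsScalarTower.toAlgHom K B C).toLinearMap hinj
  haveI : IsReduced B := isReduced_of_injective (algebraMap B C) hinj
  haveI : IsArtinianRing B := isArtinian_of_tower K inferInstance
  letI : ∀ m : MaximalSpectrum B, Field (B ⧸ m.asIdeal) := fun m => Ideal.Quotient.field m.asIdeal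
  rw [Algebra.Etale.iff_exists_algEquiv_prod]
  exact ⟨MaximalSpectrum B, inferInstance, fun m => B ⧸ m.asIdeal, inferInstance, inferInstance,
    (IsArtinianRing.equivPi B).restrictScalars K, fun m => ⟨inferInstance, inferInstance⟩⟩

end Field

/-- Base change of a faithfully flat map of algebras. -/
theorem faithfullyFlat_map {A B C T : Type u} [CommRing A] [CommRing B] [CommRing C] [CommRing T]
    [Algebra A B] [Algebra A C] [Algebra A T] [Algebra B C] [IsScalarTower A B C] [Module.FaithfullyFlat B C] :
    (Algebra.TensorProduct.map (AlgHom.id T T) (IsScalarTower.toAlgHom A B C) :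
      T ⊗[A] B →ₐ[T] T ⊗[A] C).toRingHom.FaithfullyFlat := by
  let e := Algebra.TensorProduct.cancelBaseChange A B B C T
  let ι : B ⊗[A] T →+* C ⊗[B] (B ⊗[A] T) :=
    (Algebra.TensorProduct.includeRight (R := B) (A := C) (B := B ⊗[A] T)).toRingHom
  have hι : ι.FaithfullyFlat := by
    have h : (algebraMap (B ⊗[A] T) ((B ⊗[A] T) ⊗[B] C)).FaithfullyFlat :=
      RingHom.faithfullyFlat_algebraMap_iff.2 inferInstance
    have := RingHom.FaithfullyFlat.stableUnderComposition _
      (Algebra.TensorProduct.comm B (B ⊗[A] T) C).toRingEquiv.toRingHom h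
      (RingHom.FaithfullyFlat.of_bijective (Algebra.TensorProduct.comm B (B ⊗[A] T) C).bijective)
    convert this using 1
    refine RingHom.ext fun x => ?_
    simp [ι]
  have h₁ := RingHom.FaithfullyFlat.stableUnderComposition ι e.toRingEquiv.toRingHom hι
    (RingHom.FaithfullyFlat.of_bijective e.bijective)
  have h₂ := RingHom.FaithfullyFlat.stableUnderComposition _ (Algebra.TensorProduct.comm A C T).toRingEquiv.toRingHom h₁
    (RingHom.FaithfullyFlat.of_bijective (Algebra.TensorProduct.comm A C T).bijective)
  have h₃ := RingHom.FaithfullyFlat.stableUnderComposition (Algebra.TensorProduct.comm A T B).toRingEquiv.toRingHom _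
    (RingHom.FaithfullyFlat.of_bijective (Algebra.TensorProduct.comm A T B).bijective) h₂
  convert h₃ using 1
  apply RingHom.ext
  intro x
  induction x with
  | zero => simp
  | add a b ha hb => simp only [map_add, ha, hb]
  | tmul t b => simp [e, ι, Algebra.smul_def]

section Ring

variable (A B C : Type u) [CommRing A] [CommRing B] [CommRing C] [Algebra A B] [Algebra A C] [Algebra B C]
  [IsScalarTower A B C] [Module.FaithfullyFlat B C] [Algebra.FinitePresentation B C]

theorem smooth_fibre (p : Ideal A) [p.IsPrime] [Algebra.FinitePresentation A B] [Algebra.Smooth A C] :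
    Algebra.Smooth p.ResidueField (p.Fiber B) := by
  let k := p.ResidueField
  let K := AlgebraicClosure k
  have hff := faithfullyFlat_map (A := A) (B := B) (C := C) (T := K)
  letI := (Algebra.TensorProduct.map (AlgHom.id K K) (IsScalarTower.toAlgHom A B C) :
      K ⊗[A] B →ₐ[K] K ⊗[A] C).toRingHom.toAlgebra
  haveI : IsScalarTower K (K ⊗[A] B) (K ⊗[A] C) := IsScalarTower.of_algebraMap_eq fun x =>
    ((Algebra.TensorProduct.map (AlgHom.id K K) (IsScalarTower.toAlgHom A B C)).commutes x).symm
  haveI : Module.FaithfullyFlat (K ⊗[A] B) (K ⊗[A] C) := hff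
  haveI : Algebra.Smooth K (K ⊗[A] B) :=
    smooth_of_faithfullyFlat_algClosed (K := K) (B := K ⊗[A] B) (C := K ⊗[A] C)
  haveI : Algebra.Smooth K (K ⊗[k] (k ⊗[A] B)) :=
    Algebra.Smooth.of_equiv (Algebra.TensorProduct.cancelBaseChange A k K K B).symm
  exact Algebra.Smooth.of_smooth_tensorProduct_of_faithfullyFlat K

theorem unramified_fibre (p : Ideal A) [p.IsPrime] [Algebra.FinitePresentation A B] [Algebra.Etale A C] :
    Algebra.FormallyUnramified p.ResidueField (p.Fiber B) := by
  let k := p.ResidueField
  let K := AlgebraicClosure k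
  have hff := faithfullyFlat_map (A := A) (B := B) (C := C) (T := K)
  letI := (Algebra.TensorProduct.map (AlgHom.id K K) (IsScalarTower.toAlgHom A B C) :
      K ⊗[A] B →ₐ[K] K ⊗[A] C).toRingHom.toAlgebra
  haveI : IsScalarTower K (K ⊗[A] B) (K ⊗[A] C) := IsScalarTower.of_algebraMap_eq fun x =>
    ((Algebra.TensorProduct.map (AlgHom.id K K) (IsScalarTower.toAlgHom A B C)).commutes x).symm
  haveI : Module.FaithfullyFlat (K ⊗[A] B) (K ⊗[A] C) := hff
  haveI : Algebra.Etale K (K ⊗[A] B) :=
    etale_of_faithfullyFlat_algClosed (K := K) (B := K ⊗[A] B) (C := K ⊗[A] C)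
  haveI : Algebra.FormallyUnramified K (K ⊗[k] (k ⊗[A] B)) :=
    Algebra.FormallyUnramified.of_equiv (Algebra.TensorProduct.cancelBaseChange A k K K B).symm
  exact Algebra.FormallyUnramified.of_formallyUnramified_tensorProduct_of_faithfullyFlat K

/-- Smooth algebras descend along fppf coverings. -/
theorem smooth_of_fppf [Algebra.Smooth A C] : Algebra.Smooth A B := by
  haveI : Algebra.FinitePresentation A B := Groth.L24.Alg.finitePresentation_of_flat_comp (C := C)
  haveI : Module.Flat A B := Groth.L19.flat_of_flat_of_faithfullyFlat A B C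
  exact Algebra.Smooth.of_formallySmooth_fiber fun p _ => (smooth_fibre A B C p).1

/-- Etale algebras descend along fppf coverings. -/
theorem etale_of_fppf [Algebra.Etale A C] : Algebra.Etale A B := by
  haveI := smooth_of_fppf A B C
  haveI : Algebra.FormallyUnramified A B :=
    Algebra.unramifiedLocus_eq_univ_iff.mp (Set.eq_univ_iff_forall.mpr fun q =>
      Groth.L05.Point.isUnramifiedAt_of_fiber q.asIdeal (unramified_fibre A B C _))
  exact Algebra.Etale.iff_formallyUnramified_and_smooth.2 ⟨inferInstance, inferInstance⟩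

end Ring

variable {X' X Y : Scheme.{u}} (χ : X' ⟶ X) (g : X ⟶ Y) [Flat χ] [LocallyOfFinitePresentation χ] [Surjective χ]

theorem smooth_of_fppf_comp (h : Smooth (χ ≫ g)) : Smooth g :=
  Groth.L24.Alg.of_fppf_surjective_comp (P := @Smooth) (fun {A B C} _ _ _ φ ψ hp hf hQ => by
    algebraize [φ, ψ, ψ.comp φ]
    exact RingHom.smooth_algebraMap.2 (smooth_of_fppf A B C)) χ g h

theorem etale_of_fppf_comp (h : Etale (χ ≫ g)) : Etale g :=
  Groth.L24.Alg.of_fppf_surjective_comp (P := @Etale) (fun {A B C} _ _ _ φ ψ hp hf hQ => by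
    algebraize [φ, ψ, ψ.comp φ]
    exact RingHom.etale_algebraMap.2 (etale_of_fppf A B C)) χ g h

end Groth.L23.FppfSmooth
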