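import Groth.Agent.L23.LocP
import Groth.Agent.L20.WeaklyEtale
import Groth.Agent.L20.GeomFibre
import Groth.Agent.S0116
import Groth.Prelude.Def_AlgSpSub

/-!
# Descent of reducedness and local noetherianity to the target
-/

universe u

open CategoryTheory CategoryTheory.Limits AlgebraicGeometry AlgSp Opposite Topology

set_option backward.isDefEq.respectTransparency.types false

namespace Groth.L23

variable {S : Scheme.{u}}

/-- A scheme etale over a reduced scheme is reduced. -/
theorem isReduced_of_etale {Y X : Scheme.{u}} (f : Y ⟶ X) [Etale f] [IsReduced X] : IsReduced Y := by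
  have hy : ∀ y : Y, _root_.IsReduced (Y.presheaf.stalk y) := by
    intro y
    obtain ⟨_, ⟨V, hV, rfl⟩, hfy, -⟩ :=
      X.isBasis_affineOpens.exists_subset_of_mem_open (Set.mem_univ (f y)) isOpen_univ
    obtain ⟨_, ⟨U, hU, rfl⟩, hyU, hUV⟩ :=
      Y.isBasis_affineOpens.exists_subset_of_mem_open (show y ∈ f ⁻¹ᵁ V from hfy) (f ⁻¹ᵁ V).2
    have hw := (Groth.L20.weaklyEtale_specMap_iff (f.appLE V U hUV)).1
      (Groth.L20.weaklyEtale_specMap_appLE f hU hV hUV)
    algebraize [(f.appLE V U hUV).hom]
    have : Algebra.WeaklyEtale Γ(X, V) Γ(Y, U) := hw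
    have : _root_.IsReduced Γ(Y, U) := Groth.L20.isReduced_of_weaklyEtale Γ(X, V) Γ(Y, U)
    letI := TopCat.Presheaf.algebra_section_stalk Y.presheaf (⟨y, hyU⟩ : U)
    have := hU.isLocalization_stalk ⟨y, hyU⟩
    exact isReduced_localizationPreserves (hU.primeIdealOf ⟨y, hyU⟩).asIdeal.primeCompl
      (Y.presheaf.stalk y) inferInstance
  exact isReduced_of_isReduced_stalk Y

/-- A surjective morphism of spaces with a property has a surjective chart with the property, whose source is
etale over any given chart. -/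
theorem exists_surjective_chart {X Y : Sp S} (hX : IsAlgSpace X) (hY : IsAlgSpace Y) (f : X ⟶ Y)
    (hs : Function.Surjective (Points.map f)) {U' : Over S} {a' : (yon S).obj U' ⟶ X}
    (ha' : RepWith @Etale a') (has' : RepWith @Surjective a') :
    ∃ (U V : Over S) (a : (yon S).obj U ⟶ X) (b : (yon S).obj V ⟶ Y) (k : U ⟶ V) (π : U ⟶ U'),
      RepWith @Etale a ∧ RepWith @Surjective a ∧ RepWith @Etale b ∧ RepWith @Surjective b ∧
      a ≫ f = (yon S).map k ≫ b ∧ Surjective k.left ∧ Etale π.left := by
  obtain ⟨V, b, hb, hbs⟩ := hY.atlas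
  have sq := IsPullback.of_hasPullback f b
  have hP : IsAlgSpace (pullback f b) := isAlgSpace_of_isPullback hY.diag hX (IsAlgSpace.yon_obj V) sq
  obtain ⟨U₀, c, hc, hcs⟩ := hP.atlas
  have hfe : RepWith @Etale (pullback.fst f b) := repWith_of_isPullback sq.flip hb
  have hfs : RepWith @Surjective (pullback.fst f b) := repWith_of_isPullback sq.flip hbs
  obtain ⟨U, p, π, sU⟩ := exists_isPullback_of_representable (repWith_comp hc hfe).1 a'
  obtain ⟨k, hk⟩ := (yon S).map_surjective ((yon S).map p ≫ c ≫ pullback.snd f b)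
  have hpe : Etale p.left := repWith_prop ha' sU.flip
  have hps : Surjective p.left := repWith_prop has' sU.flip
  refine ⟨U, V, (yon S).map p ≫ c ≫ pullback.fst f b, b, k, π, repWith_comp (repWith_map hpe) (repWith_comp hc hfe),
    repWith_comp (repWith_map hps) (repWith_comp hcs hfs), hb, hbs, ?_, ⟨fun v => ?_⟩,
    repWith_prop (repWith_comp hc hfe) sU⟩
  · rw [hk, Category.assoc, Category.assoc, pullback.condition, Category.assoc, Category.assoc]
  · obtain ⟨x, hx⟩ := hs (Points.ofPt b v)
    obtain ⟨q, -, hq⟩ := exists_of_isPullback sq x (Points.ofScheme V v)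
      (hx.trans (Points.ofPt_eq_map_ofScheme b v))
    obtain ⟨u₀, rfl⟩ := surjective_ofPt hcs q
    obtain ⟨u, rfl⟩ := hps.surj u₀
    refine ⟨u, ?_⟩
    apply (Points.schemeEquiv V).injective
    change Points.ofScheme V (k.left u) = Points.ofScheme V v
    rw [← ofPt_map, hk, ofPt_comp, ← Points.map_ofPt]
    exact hq

theorem isReducedSp_of_flat_surjective {X Y : Sp S} (hX : IsAlgSpace X) (hY : IsAlgSpace Y) {f : X ⟶ Y}
    (hfl : LocP @Flat f) (hs : Function.Surjective (Points.map f)) (h : IsReducedSp X) : IsReducedSp Y := by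
  obtain ⟨U', a', ha', has', hU'⟩ := h
  obtain ⟨U, V, a, b, k, π, ha, -, hb, hbs, w, hks, hπ⟩ := exists_surjective_chart hX hY f hs ha' has'
  have : Flat k.left := hfl a b k ha hb w
  have : IsReduced U'.left := hU'
  have : IsReduced U.left := isReduced_of_etale π.left
  exact ⟨V, b, hb, hbs, Groth.L20.isReduced_of_surjective_of_flat k.left⟩

theorem isLocNoethSp_of_fppf_surjective {X Y : Sp S} (hX : IsAlgSpace X) (hY : IsAlgSpace Y) {f : X ⟶ Y}
    (hfl : LocP @Flat f) (hfp : LocP @LocallyOfFinitePresentation f) (hs : Function.Surjective (Points.map f))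
    (h : IsLocNoethSp X) : IsLocNoethSp Y := by
  obtain ⟨U', a', ha', has', hU'⟩ := h
  obtain ⟨U, V, a, b, k, π, ha, -, hb, hbs, w, hks, hπ⟩ := exists_surjective_chart hX hY f hs ha' has'
  have : Flat k.left := hfl a b k ha hb w
  have : LocallyOfFinitePresentation k.left := hfp a b k ha hb w
  have : IsLocallyNoetherian U'.left := hU'
  have : IsLocallyNoetherian U.left := LocallyOfFiniteType.isLocallyNoetherian π.left
  exact ⟨V, b, hb, hbs, Groth.Agent.S0116.result k.left⟩

end Groth.L23
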