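import Groth.Agent.L23.SchDense
import Groth.Agent.L23.SourceReduced
import Groth.Agent.L18.KerReduced
import Mathlib.AlgebraicGeometry.IdealSheaf.Functorial
import Mathlib.AlgebraicGeometry.Morphisms.SchemeTheoreticallyDominant

/-!
# Kernels of morphisms of schemes and flat base change
-/

universe u

open CategoryTheory CategoryTheory.Limits AlgebraicGeometry TopologicalSpace

set_option autoImplicit false
set_option linter.style.haveILetI false
set_option backward.isDefEq.respectTransparency.types false

namespace Groth.L23.SchKer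

variable {X Y W : Scheme.{u}}

/-- The kernel only depends on the morphism up to flat surjections on the source. -/
theorem ker_comp_of_flat_surjective {W' : Scheme.{u}} (π : W' ⟶ W) [Flat π] [Surjective π] (w : W ⟶ Y) :
    (π ≫ w).ker = w.ker := by
  refine le_antisymm ?_ (π.le_ker_comp w)
  refine Scheme.IdealSheafData.le_ofIdeals_iff.mpr fun U x hx => ?_
  have h0 : (π ≫ w).app U x = 0 := RingHom.mem_ker.1 (Scheme.Hom.ideal_ker_le _ U hx)
  rw [Scheme.Hom.comp_app] at h0
  exact RingHom.mem_ker.2 (app_injective_of_flat_surjective π _ (h0.trans (map_zero _).symm))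

theorem isSchemeTheoreticallyDominant_toImage (w : W ⟶ Y) [QuasiCompact w] :
    IsSchemeTheoreticallyDominant w.toImage := by
  rw [isSchemeTheoreticallyDominant_iff]
  refine Scheme.IdealSheafData.ext_of_iSup_eq_top
    (fun U : Y.affineOpens => ⟨w.imageι ⁻¹ᵁ U.1, U.2.preimage w.imageι⟩) ?_ fun U => ?_
  · exact (TopologicalSpace.IsOpenCover.comap (iSup_affineOpens_eq_top Y) w.imageι.base.hom :)
  · rw [Scheme.Hom.ker_apply, Scheme.IdealSheafData.ideal_bot, Pi.bot_apply,
      ← RingHom.injective_iff_ker_eq_bot]
    exact w.toImage_app_injective U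

/-- Kernels of quasi-compact morphisms commute with flat base change. -/
theorem comap_ker_of_quasiCompact (w : W ⟶ Y) [QuasiCompact w] (π : X ⟶ Y) [Flat π] :
    w.ker.comap π = (pullback.fst π w).ker := by
  haveI := isSchemeTheoreticallyDominant_toImage w
  let m : pullback π w ⟶ pullback π w.imageι := pullback.map π w π w.imageι (𝟙 _) w.toImage (𝟙 _) (by simp) (by simp)
  have hm : IsPullback (pullback.snd π w) m w.toImage (pullback.snd π w.imageι) := by
    have h := IsPullback.of_hasPullback π w
    refine IsPullback.of_bot ?_ ?_ (IsPullback.of_hasPullback π w.imageι).flip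
    · simpa [m, pullback.lift_fst] using h.flip
    · simp [m, pullback.lift_snd]
  haveI : IsSchemeTheoreticallyDominant m := IsSchemeTheoreticallyDominant.of_isPullback hm
  show (pullback.fst π w.imageι).ker = _
  conv_rhs => rw [← show m ≫ pullback.fst π w.imageι = pullback.fst π w by simp [m, pullback.lift_fst],
    Scheme.Hom.ker_comp, m.ker_eq_bot, Scheme.IdealSheafData.map_bot]

/-- The kernel of a morphism from a reduced scheme. -/
theorem ker_eq_vanishingIdeal [IsReduced W] (w : W ⟶ Y) :
    w.ker = Scheme.IdealSheafData.vanishingIdeal ⟨closure (Set.range w), isClosed_closure⟩ := by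
  refine le_antisymm ?_ (Groth.L18.vanishingIdeal_le_ker w _ subset_closure)
  rw [← Scheme.IdealSheafData.le_support_iff_le_vanishingIdeal]
  intro y hy
  show y ∈ (w.ker.support : Set Y)
  rw [Groth.L18.support_ker_of_isReduced]
  exact hy

/-- Kernels of morphisms from reduced schemes commute with etale base change. -/
theorem comap_ker_of_isReduced [IsReduced W] (w : W ⟶ Y) (π : X ⟶ Y) [Etale π] :
    w.ker.comap π = (pullback.fst π w).ker := by
  haveI : IsReduced (pullback π w) := isReduced_of_etale (pullback.snd π w)
  have hi : IsReduced w.ker.subscheme := by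
    rw [ker_eq_vanishingIdeal w]
    exact Groth.L18.isReduced_vanishingIdeal_subscheme _
  haveI : IsReduced (pullback π w.imageι) := isReduced_of_etale (pullback.snd π w.imageι)
  show (pullback.fst π w.imageι).ker = _
  rw [ker_eq_vanishingIdeal (pullback.fst π w.imageι), ker_eq_vanishingIdeal (pullback.fst π w)]
  congr 2
  rw [Scheme.Pullback.range_fst, Scheme.Pullback.range_fst, Scheme.IdealSheafData.range_subschemeι,
    Groth.L18.support_ker_of_isReduced, π.isOpenMap.preimage_closure_eq_closure_preimage π.continuous,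
    closure_closure]

/-- The kernel of an open immersion is zero if and only if, for quasi-compact ones, it is dense. -/
theorem isSchematicallyDense_of_ker_eq_bot (U : Y.Opens) [QuasiCompact U.ι] (h : U.ι.ker = ⊥) :
    CInt.IsSchematicallyDense U := by
  haveI : IsSchemeTheoreticallyDominant U.ι := ⟨h⟩
  intro V a b hab
  apply U.ι.app_injective V
  have hle : U.ι ''ᵁ (U.ι ⁻¹ᵁ V) ≤ V ⊓ U := by
    rw [Scheme.Hom.image_preimage_eq_opensRange_inf, Scheme.Opens.opensRange_ι, inf_comm]
  rw [Scheme.Opens.ι_app]
  have := congrArg (Y.presheaf.map (homOfLE hle).op) hab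
  erw [← ConcreteCategory.comp_apply, ← ConcreteCategory.comp_apply, ← Functor.map_comp] at this
  exact this

theorem ker_ι_eq_bot_of_isSchematicallyDense (U : Y.Opens) (h : CInt.IsSchematicallyDense U) : U.ι.ker = ⊥ := by
  refine le_antisymm (fun V s hs => ?_) bot_le
  rw [Scheme.IdealSheafData.ideal_bot, Pi.bot_apply, Ideal.mem_bot]
  apply h V.1
  rw [map_zero]
  have h0 : U.ι.app V.1 s = 0 := RingHom.mem_ker.1 (Scheme.Hom.ideal_ker_le _ V hs)
  rw [Scheme.Opens.ι_app] at h0
  have h2 := congrArg (Y.presheaf.map (homOfLE (show V.1 ⊓ U ≤ U.ι ''ᵁ (U.ι ⁻¹ᵁ V.1) by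
    rw [Scheme.Hom.image_preimage_eq_opensRange_inf, Scheme.Opens.opensRange_ι, inf_comm])).op) h0
  erw [map_zero, ← ConcreteCategory.comp_apply, ← Functor.map_comp] at h2
  exact h2

end Groth.L23.SchKer
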