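import Groth.Agent.L23.Decent

/-!
# Permanence of decency
-/

universe u

open CategoryTheory CategoryTheory.Limits AlgebraicGeometry Opposite AlgSp Topology

set_option backward.isDefEq.respectTransparency.types false
set_option linter.style.haveILetI false

namespace Groth.L23.Pt

variable {S : Scheme.{u}} {X : Sp S}

/-- Finiteness of the fibre in affine charts is tested on any etale covering. -/
theorem finite_fibre_of_cover (x : Points X) (hX : IsAlgSpace X) {ι : Type*} (U : ι → Over S)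
    (φ : ∀ i, (yon S).obj (U i) ⟶ X) (hφ : ∀ i, RepWith @Etale (φ i))
    (hsurj : ∀ y : Points X, ∃ (i : ι) (v : (U i).left), Points.ofPt (φ i) v = y)
    (hfin : ∀ i, (Points.ofPt (φ i) ⁻¹' {x}).Finite) {V : Over S} [IsAffine V.left] (ψ : (yon S).obj V ⟶ X)
    (hψ : RepWith @Etale ψ) : (Points.ofPt ψ ⁻¹' {x}).Finite := by
  have key : ∀ v : V.left, ∃ O : V.left.Opens, v ∈ O ∧ ((O : Set V.left) ∩ Points.ofPt ψ ⁻¹' {x}).Finite := by
    intro v
    obtain ⟨i, u, hu⟩ := hsurj (Points.ofPt ψ v)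
    obtain ⟨R, p, q, sq⟩ := exists_isPullback_of_representable (hX.representable_from_yon (φ i)) ψ
    obtain ⟨r, hr, hr'⟩ := (ofPt_eq_ofPt_iff sq u v).1 hu
    have : Etale q.left := repWith_prop (hφ i) sq
    have : Etale p.left := repWith_prop hψ sq.flip
    obtain ⟨_, ⟨B, hB, rfl⟩, huB, -⟩ :=
      (U i).left.isBasis_affineOpens.exists_subset_of_mem_open (Set.mem_univ u) isOpen_univ
    change (U i).left.Opens at B
    obtain ⟨_, ⟨A, hA, rfl⟩, hrA, hAB⟩ := R.left.isBasis_affineOpens.exists_subset_of_mem_open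
      (show r ∈ p.left ⁻¹ᵁ B by show p.left r ∈ B; rw [hr]; exact huB) (p.left ⁻¹ᵁ B).isOpen
    change R.left.Opens at A
    have : IsAffine (A : Scheme.{u}) := hA
    have : IsAffine (B : Scheme.{u}) := hB
    let g : (A : Scheme.{u}) ⟶ B := p.left.resLE B A hAB
    have : Etale g := by
      have : Etale (g ≫ B.ι) := by rw [Scheme.Hom.resLE_comp_ι]; infer_instance
      exact Etale.of_comp g B.ι
    have : QuasiCompact g := (HasAffineProperty.iff_of_isAffine (P := @QuasiCompact)).2 inferInstance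
    refine ⟨⟨q.left '' (A : Set R.left), q.left.isOpenMap _ A.isOpen⟩, ⟨r, hrA, hr'⟩, ?_⟩
    have hfB : (B.ι ⁻¹' (Points.ofPt (φ i) ⁻¹' {x})).Finite :=
      (hfin i).preimage B.ι.isOpenEmbedding.injective.injOn
    refine (((g.finite_preimage hfB).image A.ι).image q.left).subset ?_
    rintro _ ⟨⟨a, ha, rfl⟩, hax⟩
    refine ⟨a, ⟨⟨a, ha⟩, ?_, rfl⟩, rfl⟩
    show Points.ofPt (φ i) (B.ι (g ⟨a, ha⟩)) = x
    rw [← Scheme.Hom.comp_apply, Scheme.Hom.resLE_comp_ι]
    exact (((ofPt_eq_ofPt_iff sq (p.left a) (q.left a)).2 ⟨a, rfl, rfl⟩)).trans hax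
  choose O hO hOfin using key
  obtain ⟨s, hs⟩ := isCompact_univ.elim_finite_subcover (fun v => (O v : Set V.left)) (fun v => (O v).isOpen)
    fun v _ => Set.mem_iUnion.2 ⟨v, hO v⟩
  refine ((s.finite_toSet.biUnion fun v _ => hOfin v)).subset fun w hw => ?_
  obtain ⟨v, hv, hwv⟩ := Set.mem_iUnion₂.1 (hs (Set.mem_univ w))
  exact Set.mem_biUnion hv ⟨hwv, hw⟩

/-- Schemes are decent. -/
theorem isDecent_yon (T : Over S) : IsDecent ((yon S).obj T) := by
  intro x
  obtain ⟨z, rfl⟩ := (Points.schemeEquiv T).surjective x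
  obtain ⟨m, hm, hmm, hq⟩ := exists_mono_of_scheme (𝟙 ((yon S).obj T)) z
  exact ⟨m, by rw [hm, Points.ofPt_eq_map_ofScheme, Points.map_id]; rfl, hmm,
    hq (repWith_of_isIso (P := (@QuasiCompact : MorphismProperty Scheme.{u})) _)⟩

/-- A space with decent fibres over a decent space is decent. -/
theorem isDecent_of_fibres {F G : Sp S} (h : F ⟶ G) (hG : IsDecent G)
    (H : ∀ (p : FieldPt G) (P : Sp S) (a : P ⟶ F) (b : P ⟶ (yon S).obj p.pt), IsPullback a b h p.toHom → IsDecent P) :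
    IsDecent F := by
  intro x
  obtain ⟨p, hp, hm, hq⟩ := hG (Points.map h x)
  have sq := IsPullback.of_hasPullback h p.toHom
  obtain ⟨ρ, hρ, -⟩ := exists_of_isPullback sq x (Points.ofScheme p.pt (IsLocalRing.closedPoint p.K)) (by
    rw [← Points.ofPt_eq_map_ofScheme, Points.ofPt_toHom, hp])
  obtain ⟨m, hm', hmm, hmq⟩ := H p _ _ _ sq ρ
  have hqc : RepWith @QuasiCompact (pullback.fst h p.toHom) := repWith_of_isPullback sq.flip hq
  have : Mono (pullback.fst h p.toHom) := sq.mono_fst_of_mono hm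
  refine ⟨m.map (pullback.fst h p.toHom), by rw [← Points.map_mk, hm', hρ], ?_, ?_⟩
  · rw [FieldPt.toHom_map]; exact @mono_comp _ _ _ _ _ _ hmm _ this
  · rw [FieldPt.toHom_map]; exact repWith_comp hmq hqc

theorem isDecent_of_representable {F G : Sp S} (h : F ⟶ G) (hh : Representable h) (hG : IsDecent G) : IsDecent F :=
  isDecent_of_fibres h hG fun p P a b sq => by
    obtain ⟨T, t₁, t₂, sT⟩ : ∃ (T : Over S) (t₁ : (yon S).obj T ⟶ F) (t₂ : T ⟶ p.pt),
        IsPullback t₁ ((yon S).map t₂) h p.toHom := ⟨_, _, _, hh.isPullback p.toHom⟩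
    exact (isDecent_yon T).of_iso (sT.isoIsPullback _ _ sq)

/-- The base change of decent spaces is decent. -/
theorem isDecent_of_isPullback {Y Z P : Sp S} (hY : IsAlgSpace Y) {f : X ⟶ Y} {g : Z ⟶ Y} {fst : P ⟶ X} {snd : P ⟶ Z}
    (sq : IsPullback fst snd f g) (hX : IsDecent X) (hZ : IsDecent Z) : IsDecent P :=
  isDecent_of_fibres fst hX fun p Q a b sQ => isDecent_of_representable (a ≫ snd) (by
    exact representable_of_isPullback (sQ.flip.paste_vert sq) (hY.representable_from_yon _)) hZ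

/-- Decency is local for the Zariski topology. -/
theorem isDecent_of_open_cover (hX : IsAlgSpace X) {ι : Type*} (Y : ι → Sp S) (j : ∀ i, Y i ⟶ X)
    (hY : ∀ i, IsAlgSpace (Y i)) (hj : ∀ i, RepWith @IsOpenImmersion (j i))
    (hs : ∀ x : Points X, ∃ i, x ∈ Set.range (Points.map (j i))) (hd : ∀ i, IsDecent (Y i)) : IsDecent X := by
  intro x
  obtain ⟨i, y, rfl⟩ := hs x
  obtain ⟨p, hp, hm, -⟩ := hd i y
  have := mono_of_repWith_openImmersion (hj i)
  have : Mono (p.map (j i)).toHom := by rw [FieldPt.toHom_map]; exact @mono_comp _ _ _ _ _ _ hm _ this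
  refine ⟨p.map (j i), by rw [← Points.map_mk, hp], this, (qc_iff_finite_fibres hX _).2 fun V ψ hV hψ => ?_⟩
  rw [← Points.map_mk, hp]
  choose W a hW ha hmem using fun c : (Σ k, Points (Y k)) => exists_affine_etale_nhd (hY c.1) c.2
  refine finite_fibre_of_cover _ hX W (fun c => a c ≫ j c.1) (fun c => repWith_comp (ha c)
    (repWith_mono (fun φ (_ : IsOpenImmersion φ) => inferInstanceAs (Etale φ)) (hj c.1))) (fun z => ?_) (fun c => ?_) ψ hψ
  · obtain ⟨k, z', rfl⟩ := hs z
    obtain ⟨w, hw⟩ := hmem ⟨k, z'⟩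
    exact ⟨⟨k, z'⟩, w, by rw [← Points.map_ofPt, hw]⟩
  · rcases Set.eq_empty_or_nonempty (Points.ofPt (a c ≫ j c.1) ⁻¹' {Points.map (j i) y}) with h | ⟨w, hw⟩
    · rw [h]; exact Set.finite_empty
    · obtain ⟨p', hp', hm', hq'⟩ := hd c.1 (Points.ofPt (a c) w)
      refine ((qc_iff_finite_fibres (hY c.1) p').1 hq' (W c) (a c) (hW c) (ha c)).subset fun w' hw' => ?_
      have := mono_of_repWith_openImmersion (hj c.1)
      show Points.ofPt (a c) w' = Points.mk p'
      rw [hp']
      refine QFL.map_injective_of_mono (j c.1) ?_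
      rw [Points.map_ofPt, Points.map_ofPt]
      exact hw'.trans hw.symm

/-- Points lying over a space with quasi-compact diagonal have compact comparisons. -/
theorem compact_of_qcDiag {G : Sp S} {h : X ⟶ G} (hh : RepWith @QuasiCompact (pullback.diagonal h)) {A B : Over S}
    (p : (yon S).obj A ⟶ X) (g : (yon S).obj B ⟶ X)
    (hc : CompactSpace (Points (pullback (p ≫ h) (g ≫ h)))) (hP : IsAlgSpace (pullback (p ≫ h) (g ≫ h))) :
    CompactSpace (Points (pullback p g)) := by
  have hsq := pullback_map_diagonal_isPullback p g h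
  have hm := isQuasiCompactMor_of_repWith (repWith_of_isPullback hsq hh)
  have h₀ := hm hP (qcSp_of_compactSpace hP hc) (𝟙 _) (𝟙 _) _ IsPullback.of_id_fst
  exact compactSpace_of_qcSp h₀

end Groth.L23.Pt
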