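import Groth.Agent.L23.EtaleModel
import Mathlib.RingTheory.Etale.Descent
import Mathlib.RingTheory.RingHom.QuasiFinite
import Mathlib.RingTheory.Etale.Kaehler

/-!
# Descent of finite presentation, smoothness, quasi-finiteness along etale algebras
-/

universe u

open TensorProduct

namespace Groth.L23

variable {A B C : Type u} [CommRing A] [CommRing B] [CommRing C] [Algebra A B] [Algebra B C]
  [Algebra A C] [IsScalarTower A B C]

/-- Finite presentation descends along faithfully flat etale algebras. -/
theorem finitePresentation_of_etale_comp [Algebra.Etale B C] [Module.FaithfullyFlat B C]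
    [Algebra.FinitePresentation A C] : Algebra.FinitePresentation A B := by
  have : Algebra.FiniteType A B := finiteType_of_etale_comp (C := C)
  obtain ⟨P, C', _, _, _, _, _, _, π, ψ, _, _, _, hπ, hψ, -, hk⟩ :=
    exists_smooth_model (A := A) (B := B) (C := C)
  have : Algebra.FinitePresentation A C' := .trans A P C'
  have hfg := Algebra.FinitePresentation.ker_fG_of_surjective ψ hψ
  exact .of_surjective hπ (Ideal.FG.of_FG_map_of_faithfullyFlat (S := C') (hk ▸ hfg))

/-- Unramifiedness descends along faithfully flat etale algebras. -/
theorem formallyUnramified_of_etale_comp [Algebra.Etale B C] [Module.FaithfullyFlat B C]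
    [Algebra.FormallyUnramified A C] : Algebra.FormallyUnramified A B := by
  constructor
  have : Subsingleton (C ⊗[B] Ω[B⁄A]) :=
    (KaehlerDifferential.tensorKaehlerEquivOfFormallyEtale A B C).toEquiv.subsingleton
  exact Module.FaithfullyFlat.lTensor_reflects_triviality B C _

/-- Smoothness descends along faithfully flat etale algebras. -/
theorem smooth_of_etale_comp [Algebra.Etale B C] [Module.FaithfullyFlat B C]
    [Algebra.Smooth A C] : Algebra.Smooth A B := by
  have hfp : Algebra.FinitePresentation A B := finitePresentation_of_etale_comp (C := C)
  refine ⟨?_, hfp⟩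
  rw [Algebra.formallySmooth_iff]
  constructor
  · have : Module.Flat C (C ⊗[B] Ω[B⁄A]) :=
      .of_linearEquiv (KaehlerDifferential.tensorKaehlerEquivOfFormallyEtale A B C)
    have : Module.Flat B Ω[B⁄A] := Module.Flat.of_flat_tensorProduct _ _ C
    exact Module.Flat.projective_of_finitePresentation
  · obtain ⟨P, C', _, _, _, instPC', _, _, π, ψ, _, _, _, hπ, hψ, hcomm, hk⟩ :=
      exists_smooth_model (A := A) (B := B) (C := C)
    let E : Algebra.Extension A B := .ofSurjective π hπ
    let F : Algebra.Extension A C := .ofSurjective ψ hψ
    let f : E.Hom F :=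
      { toRingHom := algebraMap P C'
        toRingHom_algebraMap := fun x => (IsScalarTower.algebraMap_apply A P C' x).symm
        algebraMap_toRingHom := hcomm }
    have : Algebra.FormallySmooth A E.Ring := inferInstanceAs (Algebra.FormallySmooth A P)
    have : Algebra.Smooth A C' := Algebra.Smooth.comp A P C'
    have : Algebra.FormallySmooth A F.Ring := inferInstanceAs (Algebra.FormallySmooth A C')
    have : Module.Flat B C := inferInstance
    let _ : Algebra E.Ring F.Ring := instPC'
    have hb : Function.Bijective ((f.mapKer rfl).liftBaseChange F.Ring) := by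
      have hF : Module.Flat E.Ring F.Ring :=
        (inferInstance : Module.Flat P C')
      constructor
      · have hfac : (F.ker.subtype.comp ((f.mapKer rfl).liftBaseChange F.Ring)) =
            (AlgebraTensorModule.rid E.Ring F.Ring F.Ring).toLinearMap.comp
              (AlgebraTensorModule.lTensor F.Ring F.Ring E.ker.subtype) := by
          ext x; simp [Algebra.smul_def]; rfl
        have hinj : Function.Injective ((AlgebraTensorModule.rid E.Ring F.Ring F.Ring).toLinearMap.comp
              (AlgebraTensorModule.lTensor F.Ring F.Ring E.ker.subtype)) :=
          (AlgebraTensorModule.rid E.Ring F.Ring F.Ring).injective.comp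
            (Module.Flat.lTensor_preserves_injective_linearMap (M := F.Ring) _ Subtype.val_injective)
        rw [← hfac] at hinj
        exact fun a b hab => hinj (congrArg F.ker.subtype hab)
      · rw [← LinearMap.range_eq_top]
        refine Submodule.map_injective_of_injective F.ker.subtype_injective ?_
        rw [Submodule.map_top, Submodule.range_subtype, ← LinearMap.range_comp]
        refine le_antisymm ?_ ?_
        · rintro _ ⟨x, rfl⟩
          exact ((f.mapKer rfl).liftBaseChange F.Ring x).2
        · change RingHom.ker ψ ≤ _
          rw [hk]
          refine Ideal.span_le.2 ?_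
          rintro _ ⟨p, hp, rfl⟩
          exact ⟨1 ⊗ₜ ⟨p, hp⟩, by simp; rfl⟩
    have : Subsingleton (C ⊗[B] Algebra.H1Cotangent A B) :=
      (((LinearEquiv.baseChange B C _ _ (Algebra.Extension.equivH1CotangentOfFormallySmooth E).symm).trans
        (Algebra.Extension.tensorH1CotangentOfFormallyEtale f rfl
          (RingHom.formallyEtale_algebraMap.mpr (inferInstanceAs (Algebra.FormallyEtale P C'))) hb)).trans
        (Algebra.Extension.equivH1CotangentOfFormallySmooth F)).toEquiv.subsingleton
    exact Module.FaithfullyFlat.lTensor_reflects_triviality B C _

/-- Etaleness descends along faithfully flat etale algebras. -/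
theorem etale_of_etale_comp [Algebra.Etale B C] [Module.FaithfullyFlat B C]
    [Algebra.Etale A C] : Algebra.Etale A B := by
  rw [Algebra.Etale.iff_formallyUnramified_and_smooth]
  exact ⟨formallyUnramified_of_etale_comp (C := C), smooth_of_etale_comp (C := C)⟩

/-- Quasi-finiteness descends along faithfully flat algebras. -/
theorem quasiFinite_of_faithfullyFlat_comp [Module.FaithfullyFlat B C] [Algebra.QuasiFinite A C] :
    Algebra.QuasiFinite A B := by
  refine ⟨fun p _ => ?_⟩
  let g : p.Fiber B →ₗ[p.ResidueField] p.Fiber C :=
    (Algebra.TensorProduct.map (AlgHom.id p.ResidueField p.ResidueField)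
      (IsScalarTower.toAlgHom A B C)).toLinearMap
  let h : B ⊗[A] p.ResidueField →ₗ[A] C ⊗[A] p.ResidueField :=
    (IsScalarTower.toAlgHom A B C).toLinearMap.rTensor _
  have hh : Function.Injective h := by
    have := Module.FaithfullyFlat.tensorProduct_mk_injective (A := B) (B := C) (B ⊗[A] p.ResidueField)
    have hc : h = ((AlgebraTensorModule.cancelBaseChange A B C C p.ResidueField).restrictScalars A).toLinearMap.comp
        ((TensorProduct.mk B C (B ⊗[A] p.ResidueField) 1).restrictScalars A) := by
      ext b k; simp [h, Algebra.smul_def]
    rw [hc]
    exact ((AlgebraTensorModule.cancelBaseChange A B C C p.ResidueField).injective).comp this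
  have hg : Function.Injective g := by
    have e : ∀ x : p.ResidueField ⊗[A] B, TensorProduct.comm A _ C (g x) = h (TensorProduct.comm A _ B x) := fun x => by
      induction x with
      | zero => simp
      | add a b ha hb => simp [ha, hb]
      | tmul a b => rfl
    intro x y hxy
    exact (TensorProduct.comm A _ B).injective (hh (by rw [← e, ← e, hxy]))
  exact Module.Finite.of_injective g hg

end Groth.L23
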