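import Groth.Agent.L23.SourceReduce
import Groth.Agent.L23.EtaleAlgSmooth
import Groth.Agent.L19.FlatComp
import Mathlib.AlgebraicGeometry.Morphisms.QuasiFinite
import Mathlib.AlgebraicGeometry.Morphisms.Smooth
import Mathlib.AlgebraicGeometry.Morphisms.FormallyUnramified

/-!
# Etale descent on the source for properties of morphisms of schemes
-/

universe u

open CategoryTheory CategoryTheory.Limits AlgebraicGeometry

set_option backward.isDefEq.respectTransparency.types false

namespace Groth.L23

section Ring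

variable {A B C : Type u} [CommRing A] [CommRing B] [CommRing C] (φ : A →+* B) (ψ : B →+* C)

lemma finiteType_of_comp_etale (he : ψ.Etale) (hf : ψ.FaithfullyFlat)
    (h : (ψ.comp φ).FiniteType) : φ.FiniteType := by
  algebraize [φ, ψ, ψ.comp φ]
  exact RingHom.finiteType_algebraMap.2 (finiteType_of_etale_comp (A := A) (B := B) (C := C))

lemma finitePresentation_of_comp_etale (he : ψ.Etale) (hf : ψ.FaithfullyFlat)
    (h : (ψ.comp φ).FinitePresentation) : φ.FinitePresentation := by
  algebraize [φ, ψ, ψ.comp φ]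
  exact finitePresentation_of_etale_comp (A := A) (B := B) (C := C)

lemma smooth_of_comp_etale (he : ψ.Etale) (hf : ψ.FaithfullyFlat)
    (h : (ψ.comp φ).Smooth) : φ.Smooth := by
  algebraize [φ, ψ, ψ.comp φ]
  exact smooth_of_etale_comp (A := A) (B := B) (C := C)

lemma etale_of_comp_etale (he : ψ.Etale) (hf : ψ.FaithfullyFlat)
    (h : (ψ.comp φ).Etale) : φ.Etale := by
  algebraize [φ, ψ, ψ.comp φ]
  exact etale_of_etale_comp (A := A) (B := B) (C := C)

lemma formallyUnramified_of_comp_etale (he : ψ.Etale) (hf : ψ.FaithfullyFlat)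
    (h : (ψ.comp φ).FormallyUnramified) : φ.FormallyUnramified := by
  algebraize [φ, ψ, ψ.comp φ]
  exact formallyUnramified_of_etale_comp (A := A) (B := B) (C := C)

lemma quasiFinite_of_comp_etale (hf : ψ.FaithfullyFlat)
    (h : (ψ.comp φ).QuasiFinite) : φ.QuasiFinite := by
  algebraize [φ, ψ, ψ.comp φ]
  exact quasiFinite_of_faithfullyFlat_comp (A := A) (B := B) (C := C)

lemma flat_of_comp_etale (hf : ψ.FaithfullyFlat) (h : (ψ.comp φ).Flat) : φ.Flat := by
  algebraize [φ, ψ, ψ.comp φ]
  exact Groth.L19.flat_of_flat_of_faithfullyFlat A B C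

end Ring

section Scheme

variable {X' X Y : Scheme.{u}} (χ : X' ⟶ X) (g : X ⟶ Y) [Etale χ] [Surjective χ]

theorem locallyOfFiniteType_of_etale_comp' (h : LocallyOfFiniteType (χ ≫ g)) : LocallyOfFiniteType g :=
  of_etale_surjective_comp (P := @LocallyOfFiniteType) (fun φ ψ he hf hQ => finiteType_of_comp_etale φ ψ he hf hQ) χ g h

theorem locallyOfFinitePresentation_of_etale_comp' (h : LocallyOfFinitePresentation (χ ≫ g)) : LocallyOfFinitePresentation g :=
  of_etale_surjective_comp (P := @LocallyOfFinitePresentation) (fun φ ψ he hf hQ => finitePresentation_of_comp_etale φ ψ he hf hQ) χ g h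

theorem smooth_of_etale_comp' (h : Smooth (χ ≫ g)) : Smooth g :=
  of_etale_surjective_comp (P := @Smooth) (fun φ ψ he hf hQ => smooth_of_comp_etale φ ψ he hf hQ) χ g h

theorem etale_of_etale_comp' (h : Etale (χ ≫ g)) : Etale g :=
  of_etale_surjective_comp (P := @Etale) (fun φ ψ he hf hQ => etale_of_comp_etale φ ψ he hf hQ) χ g h

theorem formallyUnramified_of_etale_comp' (h : FormallyUnramified (χ ≫ g)) : FormallyUnramified g :=
  of_etale_surjective_comp (P := @FormallyUnramified) (fun φ ψ he hf hQ => formallyUnramified_of_comp_etale φ ψ he hf hQ) χ g h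

theorem locallyQuasiFinite_of_etale_comp' (h : LocallyQuasiFinite (χ ≫ g)) : LocallyQuasiFinite g :=
  of_etale_surjective_comp (P := @LocallyQuasiFinite) (fun φ ψ he hf hQ => quasiFinite_of_comp_etale φ ψ hf hQ) χ g h

theorem flat_of_etale_comp' (h : Flat (χ ≫ g)) : Flat g :=
  of_etale_surjective_comp (P := @Flat) (fun φ ψ he hf hQ => flat_of_comp_etale φ ψ hf hQ) χ g h

end Scheme

end Groth.L23
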