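import Groth.Prelude.Def_AlgSp3
import Groth.Agent.L23.SourceDescent
import Groth.Agent.L23.TargetLocal
import Groth.Agent.L23.Descent
import Groth.Agent.L23.QFDescent

/-!
# Properties of morphisms which are etale local on source and target
-/

universe u

open CategoryTheory CategoryTheory.Limits AlgebraicGeometry Opposite AlgSp

set_option backward.isDefEq.respectTransparency.types false

namespace Groth.L23

/-- What is needed of a property of morphisms of schemes to pass to algebraic spaces by charts. -/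
structure EtLocal (P : MorphismProperty Scheme.{u}) : Prop where
  stable : P.IsStableUnderBaseChange
  comp : P.IsStableUnderComposition
  etale : ∀ {X Y : Scheme.{u}} (f : X ⟶ Y), Etale f → P f
  source : ∀ {X' X Y : Scheme.{u}} (χ : X' ⟶ X) (g : X ⟶ Y), Etale χ → Surjective χ → P (χ ≫ g) → P g
  target : P.IsLocalAtTarget Scheme.fppfPrecoverage

lemma EtLocal.of_comp_etale {P : MorphismProperty Scheme.{u}} (hP : EtLocal P) {X Y Z : Scheme.{u}}
    (f : X ⟶ Y) (g : Y ⟶ Z) [Etale g] (h : P (f ≫ g)) : P f := by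
  have := hP.stable
  have := hP.comp
  have sq := IsPullback.of_hasPullback (f ≫ g) g
  let σ := sq.lift (𝟙 X) f (Category.id_comp _)
  have h1 : σ ≫ pullback.fst (f ≫ g) g = 𝟙 X := sq.lift_fst _ _ _
  have : Etale (σ ≫ pullback.fst (f ≫ g) g) := by rw [h1]; infer_instance
  have hσ : Etale σ := Etale.of_comp _ (pullback.fst (f ≫ g) g)
  rw [← sq.lift_snd (𝟙 X) f (Category.id_comp _)]
  exact P.comp_mem _ _ (hP.etale _ hσ) (P.pullback_snd _ _ h)

/-- The conjunction of two such properties. -/
lemma EtLocal.inf {P Q : MorphismProperty Scheme.{u}} (hP : EtLocal P) (hQ : EtLocal Q) :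
    EtLocal (P ⊓ Q) where
  stable := by have := hP.stable; have := hQ.stable; infer_instance
  comp := ⟨fun f g h h' => ⟨hP.comp.comp_mem f g h.1 h'.1, hQ.comp.comp_mem f g h.2 h'.2⟩⟩
  etale f hf := ⟨hP.etale f hf, hQ.etale f hf⟩
  source χ g h h' hh := ⟨hP.source χ g h h' hh.1, hQ.source χ g h h' hh.2⟩
  target := by have := hP.target; have := hQ.target; infer_instance

theorem etLocal_lft : EtLocal (@LocallyOfFiniteType : MorphismProperty Scheme.{u}) where
  stable := inferInstance
  comp := inferInstance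
  etale f hf := inferInstance
  source χ g _ _ h := locallyOfFiniteType_of_etale_comp' χ g h
  target := isLocalAtTarget_fppf _

theorem etLocal_lfp : EtLocal (@LocallyOfFinitePresentation : MorphismProperty Scheme.{u}) where
  stable := inferInstance
  comp := inferInstance
  etale f hf := inferInstance
  source χ g _ _ h := locallyOfFinitePresentation_of_etale_comp' χ g h
  target := isLocalAtTarget_fppf _

theorem etLocal_flat : EtLocal (@Flat : MorphismProperty Scheme.{u}) where
  stable := inferInstance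
  comp := inferInstance
  etale f hf := inferInstance
  source χ g _ _ h := flat_of_etale_comp' χ g h
  target := isLocalAtTarget_fppf _

theorem etLocal_smooth : EtLocal (@Smooth : MorphismProperty Scheme.{u}) where
  stable := inferInstance
  comp := inferInstance
  etale f hf := inferInstance
  source χ g _ _ h := smooth_of_etale_comp' χ g h
  target := isLocalAtTarget_fppf _

theorem etLocal_etale : EtLocal (@Etale : MorphismProperty Scheme.{u}) where
  stable := inferInstance
  comp := inferInstance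
  etale f hf := hf
  source χ g _ _ h := etale_of_etale_comp' χ g h
  target := isLocalAtTarget_fppf _

theorem etLocal_lqfLft : EtLocal
    ((@LocallyQuasiFinite : MorphismProperty Scheme.{u}) ⊓ @LocallyOfFiniteType) :=
  EtLocal.inf
    { stable := inferInstance
      comp := inferInstance
      etale := fun f hf => inferInstance
      source := fun χ g _ _ h => locallyQuasiFinite_of_etale_comp' χ g h
      target := isLocalAtTarget_fppf _ } etLocal_lft

theorem etLocal_unramified : EtLocal
    ((@LocallyOfFiniteType : MorphismProperty Scheme.{u}) ⊓ @FormallyUnramified) :=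
  EtLocal.inf etLocal_lft
    { stable := inferInstance
      comp := inferInstance
      etale := fun f hf => inferInstance
      source := fun χ g _ _ h => formallyUnramified_of_etale_comp' χ g h
      target := isLocalAtTarget_fppf _ }

/-- The seven properties listed in the statements. -/
theorem etLocal_cases {P : MorphismProperty Scheme.{u}}
    (hP : P = @LocallyOfFiniteType ∨ P = @LocallyOfFinitePresentation ∨ P = @Flat ∨ P = @Smooth ∨
      P = @Etale ∨ (∀ ⦃A B : Scheme.{u}⦄ (g : A ⟶ B), P g ↔ (LocallyQuasiFinite g ∧ LocallyOfFiniteType g)) ∨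
      (∀ ⦃A B : Scheme.{u}⦄ (g : A ⟶ B), P g ↔ (LocallyOfFiniteType g ∧ FormallyUnramified g))) :
    EtLocal P := by
  rcases hP with rfl | rfl | rfl | rfl | rfl | h | h
  · exact etLocal_lft
  · exact etLocal_lfp
  · exact etLocal_flat
  · exact etLocal_smooth
  · exact etLocal_etale
  · convert etLocal_lqfLft using 1
    ext A B g; exact h g
  · convert etLocal_unramified using 1
    ext A B g; exact h g

variable {S : Scheme.{u}} {X Y Z X' Y' : Sp S}

/-- A lift into a represented fibre product, as a morphism of schemes. -/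
lemma exists_lift_yon {F : Sp S} {U V W T : Over S} {a : (yon S).obj U ⟶ F} {b : (yon S).obj V ⟶ F}
    {p : W ⟶ U} {q : W ⟶ V} (sq : IsPullback ((yon S).map p) ((yon S).map q) a b)
    (x : T ⟶ U) (y : T ⟶ V) (e : (yon S).map x ≫ a = (yon S).map y ≫ b) :
    ∃ l : T ⟶ W, l ≫ p = x ∧ l ≫ q = y := by
  obtain ⟨l, hl⟩ := (yon S).map_surjective (sq.lift _ _ e)
  exact ⟨l, (yon S).map_injective (by rw [(yon S).map_comp, hl, sq.lift_fst]),
    (yon S).map_injective (by rw [(yon S).map_comp, hl, sq.lift_snd])⟩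

/-- Charts of `f` over a given etale chart of the target. -/
theorem exists_chart_over (hX : IsAlgSpace X) (hY : IsAlgSpace Y) (f : X ⟶ Y) {V : Over S}
    {b : (yon S).obj V ⟶ Y} (hb : RepWith @Etale b) :
    ∃ (U : Over S) (a : (yon S).obj U ⟶ X) (h : U ⟶ V), RepWith @Etale a ∧
      a ≫ f = (yon S).map h ≫ b ∧ (RepWith @Surjective b → RepWith @Surjective a) := by
  have sq := IsPullback.of_hasPullback f b
  obtain ⟨U, p, hp, hps⟩ := (isAlgSpace_of_isPullback hY.diag hX (IsAlgSpace.yon_obj V) sq).atlas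
  obtain ⟨h, hh⟩ := (yon S).map_surjective (p ≫ pullback.snd f b)
  exact ⟨U, p ≫ pullback.fst f b, h, repWith_comp hp (repWith_of_isPullback sq.flip hb),
    by rw [hh, Category.assoc, pullback.condition, Category.assoc],
    fun hs => repWith_comp hps (repWith_of_isPullback sq.flip hs)⟩

/-- A morphism of algebraic spaces has charts. -/
theorem exists_chart (hX : IsAlgSpace X) (hY : IsAlgSpace Y) (f : X ⟶ Y) :
    ∃ (U V : Over S) (a : (yon S).obj U ⟶ X) (b : (yon S).obj V ⟶ Y) (h : U ⟶ V),
      RepWith @Etale a ∧ RepWith @Surjective a ∧ RepWith @Etale b ∧ RepWith @Surjective b ∧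
      a ≫ f = (yon S).map h ≫ b := by
  obtain ⟨V, b, hb, hbs⟩ := hY.atlas
  obtain ⟨U, a, h, ha, w, has⟩ := exists_chart_over hX hY f hb
  exact ⟨U, V, a, b, h, ha, has hbs, hb, hbs, w⟩

variable {P : MorphismProperty Scheme.{u}}

theorem locP_of_chart (hP : EtLocal P) {f : X ⟶ Y} {U V : Over S} {a : (yon S).obj U ⟶ X}
    {b : (yon S).obj V ⟶ Y} {h : U ⟶ V} (ha : RepWith @Etale a) (has : RepWith @Surjective a)
    (hb : RepWith @Etale b) (w : a ≫ f = (yon S).map h ≫ b) (hh : P h.left) : LocP P f := by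
  intro U' V' a' b' h' ha' hb' w'
  have := hP.comp
  obtain ⟨W, p, q, sq⟩ := exists_isPullback_of_representable ha.1 a'
  obtain ⟨T, r, s, sqT⟩ := exists_isPullback_of_representable hb.1 b'
  have hq : Etale q.left := repWith_prop ha sq
  have hqs : Surjective q.left := repWith_prop has sq
  have hp : Etale p.left := repWith_prop ha' sq.flip
  have hr : Etale r.left := repWith_prop hb' sqT.flip
  have hs : Etale s.left := repWith_prop hb sqT
  obtain ⟨l, hl₁, hl₂⟩ := exists_lift_yon sqT (p ≫ h) (q ≫ h') (by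
    simp only [Functor.map_comp, Category.assoc, ← w, ← w', reassoc_of% sq.w])
  have h₁ : P (l.left ≫ r.left) := by
    rw [← Over.comp_left, hl₁]
    exact P.comp_mem _ _ (hP.etale _ hp) hh
  refine hP.source q.left h'.left hq hqs ?_
  rw [← Over.comp_left, ← hl₂]
  exact P.comp_mem _ _ (hP.of_comp_etale _ _ h₁) (hP.etale _ hs)

theorem locP_iff_exists_chart (hP : EtLocal P) (hX : IsAlgSpace X) (hY : IsAlgSpace Y) (f : X ⟶ Y) :
    LocP P f ↔ ∃ (U V : Over S) (a : (yon S).obj U ⟶ X) (b : (yon S).obj V ⟶ Y) (h : U ⟶ V),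
      RepWith @Etale a ∧ RepWith @Surjective a ∧ RepWith @Etale b ∧ RepWith @Surjective b ∧
      a ≫ f = (yon S).map h ≫ b ∧ P h.left := by
  constructor
  · intro hf
    obtain ⟨U, V, a, b, h, ha, has, hb, hbs, w⟩ := exists_chart hX hY f
    exact ⟨U, V, a, b, h, ha, has, hb, hbs, w, hf a b h ha hb w⟩
  · rintro ⟨U, V, a, b, h, ha, has, hb, -, w, hh⟩
    exact locP_of_chart hP ha has hb w hh

/-- If a representable morphism `c` has `P` and `c = h ≫ b` with `b` etale, then `h` has `P`. -/
theorem prop_of_repWith_of_eq (hP : EtLocal P) {U V : Over S} {c : (yon S).obj U ⟶ Y}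
    {b : (yon S).obj V ⟶ Y} {h : U ⟶ V} (hc : RepWith P c) (hb : RepWith @Etale b)
    (w : c = (yon S).map h ≫ b) : P h.left := by
  have := hP.stable
  have := hP.comp
  obtain ⟨W, p, q, sq⟩ := exists_isPullback_of_representable hb.1 c
  have hq : Etale q.left := repWith_prop hb sq
  obtain ⟨l, hl₁, hl₂⟩ := exists_lift_yon sq h (𝟙 U) (by simp [w])
  rw [← hl₁]
  have : Etale (l.left ≫ q.left) := by
    rw [← Over.comp_left, hl₂]; exact inferInstanceAs (Etale (𝟙 U.left))
  exact P.comp_mem _ _ (hP.etale _ (Etale.of_comp l.left q.left)) (repWith_prop hc sq.flip)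

theorem locP_of_repWith (hP : EtLocal P) {f : X ⟶ Y} (hf : RepWith P f) : LocP P f := by
  intro U V a b h ha hb w
  have := hP.stable
  have := hP.comp
  exact prop_of_repWith_of_eq hP
    (repWith_comp (repWith_mono (fun φ hφ => hP.etale φ hφ) ha) hf) hb w

theorem repWith_of_locP (hP : EtLocal P) (hY : IsAlgSpace Y) {f : X ⟶ Y} (hf : Representable f)
    (h : LocP P f) : RepWith P f := by
  have := hP.stable
  have := hP.target
  obtain ⟨V, b, hb, hbs⟩ := hY.atlas
  have := isLocallySurjective_of_etale b hb hbs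
  refine (repWith_iff_of_chart hf (hf.isPullback b)).2 ?_
  exact h (hf.fst b) b (hf.snd b) (repWith_of_isPullback (hf.isPullback b).flip hb) hb (hf.w b)

theorem locP_iff_repWith (hP : EtLocal P) (hY : IsAlgSpace Y) {f : X ⟶ Y} (hf : Representable f) :
    LocP P f ↔ RepWith P f :=
  ⟨repWith_of_locP hP hY hf, locP_of_repWith hP⟩

theorem locP_comp (hP : EtLocal P) (hX : IsAlgSpace X) (hY : IsAlgSpace Y) (hZ : IsAlgSpace Z)
    {f : X ⟶ Y} {g : Y ⟶ Z} (hf : LocP P f) (hg : LocP P g) : LocP P (f ≫ g) := by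
  have := hP.comp
  obtain ⟨W, c, hc, hcs⟩ := hZ.atlas
  obtain ⟨V, b, k, hb, w₂, hbs⟩ := exists_chart_over hY hZ g hc
  obtain ⟨U, a, h, ha, w₁, has⟩ := exists_chart_over hX hY f hb
  refine locP_of_chart hP ha (has (hbs hcs)) hc (h := h ≫ k) ?_
    (P.comp_mem _ _ (hf a b h ha hb w₁) (hg b c k hb hc w₂))
  rw [Functor.map_comp, Category.assoc, ← w₂, reassoc_of% w₁]

theorem locP_of_comp_of_locP (hP : EtLocal P) {Q : MorphismProperty Scheme.{u}}
    (hpost : ∀ {A B C : Scheme.{u}} (φ : A ⟶ B) (ψ : B ⟶ C), Q ψ → P (φ ≫ ψ) → P φ)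
    (hX : IsAlgSpace X) (hY : IsAlgSpace Y) (hZ : IsAlgSpace Z)
    {f : X ⟶ Y} {g : Y ⟶ Z} (hfg : LocP P (f ≫ g)) (hg : LocP Q g) : LocP P f := by
  obtain ⟨W, c, hc, hcs⟩ := hZ.atlas
  obtain ⟨V, b, k, hb, w₂, hbs⟩ := exists_chart_over hY hZ g hc
  obtain ⟨U, a, h, ha, w₁, has⟩ := exists_chart_over hX hY f hb
  refine locP_of_chart hP ha (has (hbs hcs)) hb w₁ (hpost _ k.left (hg b c k hb hc w₂) ?_)
  exact hfg a c (h ≫ k) ha hc (by rw [Functor.map_comp, Category.assoc, ← w₂, reassoc_of% w₁])

theorem locP_of_comp (hP : EtLocal P)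
    (hpost : ∀ {A B C : Scheme.{u}} (φ : A ⟶ B) (ψ : B ⟶ C), P (φ ≫ ψ) → P φ)
    (hX : IsAlgSpace X) (hY : IsAlgSpace Y) (hZ : IsAlgSpace Z)
    {f : X ⟶ Y} {g : Y ⟶ Z} (hfg : LocP P (f ≫ g)) : LocP P f := by
  obtain ⟨W, c, hc, hcs⟩ := hZ.atlas
  obtain ⟨V, b, k, hb, w₂, hbs⟩ := exists_chart_over hY hZ g hc
  obtain ⟨U, a, h, ha, w₁, has⟩ := exists_chart_over hX hY f hb
  refine locP_of_chart hP ha (has (hbs hcs)) hb w₁ (hpost _ k.left ?_)
  exact hfg a c (h ≫ k) ha hc (by rw [Functor.map_comp, Category.assoc, ← w₂, reassoc_of% w₁])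

theorem locP_of_isPullback (hP : EtLocal P) (hX : IsAlgSpace X) (hY : IsAlgSpace Y)
    (hY' : IsAlgSpace Y') {f : X ⟶ Y} {g : Y' ⟶ Y} {fst : X' ⟶ X} {f' : X' ⟶ Y'}
    (sq : IsPullback fst f' f g) (hf : LocP P f) : LocP P f' := by
  have := hP.stable
  obtain ⟨U, V, a, b, h, ha, has, hb, hbs, w⟩ := exists_chart hX hY f
  obtain ⟨W, d, hd, hds⟩ := hY'.atlas
  obtain ⟨V₁, r, s, sqV⟩ := exists_isPullback_of_representable hb.1 (d ≫ g)
  have hbd : RepWith @Etale ((yon S).map s ≫ d) := repWith_comp (repWith_of_isPullback sqV hb) hd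
  have hh : P (pullback.snd h r).left := MorphismProperty.of_isPullback
    ((IsPullback.of_hasPullback h r).map (Over.forget S)) (hf a b h ha hb w)
  -- `U ×_Y Y'`, etale surjective over `X'`
  have sqA := IsPullback.of_hasPullback a fst
  -- `U ×_Y W`
  have sqW : IsPullback ((yon S).map (pullback.fst h r)) ((yon S).map (pullback.snd h r) ≫ (yon S).map s)
      (a ≫ f) (d ≫ g) := by
    have := ((IsPullback.of_hasPullback h r).map (yon S)).paste_vert sqV
    rwa [← w] at this
  have sqAY : IsPullback (pullback.fst a fst) (pullback.snd a fst ≫ f') (a ≫ f) g := sqA.paste_vert sq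
  let k := sqAY.lift ((yon S).map (pullback.fst h r))
    (((yon S).map (pullback.snd h r) ≫ (yon S).map s) ≫ d)
    (by rw [Category.assoc]; exact sqW.w)
  have hk₁ : k ≫ pullback.fst a fst = (yon S).map (pullback.fst h r) := sqAY.lift_fst _ _ _
  have hk₂ : k ≫ pullback.snd a fst ≫ f' =
      ((yon S).map (pullback.snd h r) ≫ (yon S).map s) ≫ d := sqAY.lift_snd _ _ _
  have sqK : IsPullback ((yon S).map (pullback.snd h r) ≫ (yon S).map s) k d
      (pullback.snd a fst ≫ f') :=
    IsPullback.of_bot (by simpa [hk₁] using sqW.flip) hk₂.symm sqAY.flip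
  refine locP_of_chart hP (a := k ≫ pullback.snd a fst) (h := pullback.snd h r)
    (b := (yon S).map s ≫ d)
    (repWith_comp (repWith_of_isPullback sqK hd) (repWith_of_isPullback sqA ha))
    (repWith_comp (repWith_of_isPullback sqK hds) (repWith_of_isPullback sqA has)) hbd ?_ hh
  simpa using hk₂

theorem locP_mono {Q : MorphismProperty Scheme.{u}} (hPQ : ∀ {A B : Scheme.{u}} (φ : A ⟶ B), P φ → Q φ)
    {f : X ⟶ Y} (hf : LocP P f) : LocP Q f :=
  fun _ _ a b h ha hb w => hPQ _ (hf a b h ha hb w)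

/-- `P` descends along an etale surjection onto the source. -/
theorem locP_of_source_cover (hP : EtLocal P) (hX' : IsAlgSpace X') (hY : IsAlgSpace Y) {f : X ⟶ Y}
    {φ : X' ⟶ X} (hφ : RepWith @Etale φ) (hφs : RepWith @Surjective φ) (h : LocP P (φ ≫ f)) :
    LocP P f := by
  obtain ⟨U, V, a, b, k, ha, has, hb, -, w⟩ := exists_chart hX' hY (φ ≫ f)
  exact locP_of_chart hP (repWith_comp ha hφ) (repWith_comp has hφs) hb
    (by rw [Category.assoc]; exact w) (h a b k ha hb w)

/-- `P` descends along an etale surjection onto the target. -/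
theorem locP_of_target_cover (hP : EtLocal P) (hX : IsAlgSpace X) (hY : IsAlgSpace Y)
    (hY' : IsAlgSpace Y') {f : X ⟶ Y} {g : Y' ⟶ Y} (hg : RepWith @Etale g)
    (hgs : RepWith @Surjective g) {fst : X' ⟶ X} {f' : X' ⟶ Y'} (sq : IsPullback fst f' f g)
    (h : LocP P f') : LocP P f := by
  obtain ⟨U, V, a, b, k, ha, has, hb, -, w⟩ :=
    exists_chart (isAlgSpace_of_isPullback hY.diag hX hY' sq) hY' f'
  exact locP_of_chart hP (repWith_comp ha (repWith_of_isPullback sq.flip hg))
    (repWith_comp has (repWith_of_isPullback sq.flip hgs)) (repWith_comp hb hg)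
    (by rw [Category.assoc, sq.w, reassoc_of% w]) (h a b k ha hb w)

/-- For morphisms of algebraic spaces, etale is etale on charts. -/
theorem isEtaleMor_iff_locP (hX : IsAlgSpace X) (hY : IsAlgSpace Y) (f : X ⟶ Y) :
    IsEtaleMor f ↔ LocP @Etale f := by
  refine ⟨fun hf U V a b h ha hb w => prop_of_repWith_of_eq etLocal_etale (hf a ha) hb w,
    fun hf U φ hφ => ?_⟩
  exact repWith_of_locP etLocal_etale hY (hY.representable_from_yon _)
    (locP_comp etLocal_etale (IsAlgSpace.yon_obj U) hX hY (locP_of_repWith etLocal_etale hφ) hf)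

end Groth.L23
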