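import Groth.Agent.L23.Compact

/-!
# Calculus of quasi-compact morphisms
-/

universe u

open CategoryTheory CategoryTheory.Limits AlgebraicGeometry Opposite AlgSp Topology

set_option backward.isDefEq.respectTransparency.types false

namespace Groth.L23

variable {S : Scheme.{u}} {X Y Z : Sp S}

attribute [local simp] pullback.lift_fst pullback.lift_snd pullback.lift_fst_assoc
  pullback.lift_snd_assoc prod.lift_fst prod.lift_snd prod.lift_fst_assoc prod.lift_snd_assoc

theorem qcMor_comp (hY : IsAlgSpace Y) (hZ : IsAlgSpace Z) {f : X ⟶ Y} {g : Y ⟶ Z}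
    (hf : IsQuasiCompactMor f) (hg : IsQuasiCompactMor g) : IsQuasiCompactMor (f ≫ g) := by
  intro T T' hT hqc h fst snd sq
  have sq₁ := IsPullback.of_hasPullback g h
  let k := sq₁.lift (fst ≫ f) snd (by simp [sq.w])
  have sq₂ : IsPullback fst k f (pullback.fst g h) := by
    refine IsPullback.of_bot ?_ (sq₁.lift_fst _ _ _).symm sq₁
    rwa [sq₁.lift_snd]
  exact hf (isAlgSpace_of_isPullback hZ.diag hY hT sq₁) (hg hT hqc h _ _ sq₁) _ _ _ sq₂

theorem qcMor_of_comp (hX : IsAlgSpace X) (hY : IsAlgSpace Y) (hZ : IsAlgSpace Z) {f : X ⟶ Y}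
    {g : Y ⟶ Z} (h : IsQuasiCompactMor (f ≫ g)) (hg : IsQuasiSeparatedMor g) :
    IsQuasiCompactMor f := by
  have hfac : pullback.lift (𝟙 X) f (by simp) ≫ pullback.snd (f ≫ g) g = f := by simp
  rw [← hfac]
  refine qcMor_comp (isAlgSpace_of_isPullback hZ.diag hX hY (IsPullback.of_hasPullback (f ≫ g) g)) hY
    ?_ (qcMor_of_isPullback (IsPullback.of_hasPullback (f ≫ g) g) h)
  refine isQuasiCompactMor_of_repWith (repWith_of_isPullback (a := f) (b := pullback.lift
    (pullback.fst _ _ ≫ f) (pullback.snd _ _) (by simp [pullback.condition])) ?_ hg)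
  refine IsPullback.mk' (by apply pullback.hom_ext <;> simp) ?_ ?_
  · intro W φ φ' h₁ h₂
    simpa using h₂ =≫ pullback.fst _ _
  · intro W z w e
    have h₁ : z = w ≫ pullback.fst _ _ ≫ f := by simpa using e =≫ pullback.fst g g
    have h₂ : z = w ≫ pullback.snd _ _ := by simpa using e =≫ pullback.snd g g
    exact ⟨w ≫ pullback.fst _ _, by simp [h₁], by apply pullback.hom_ext <;> simp [← h₁, ← h₂]⟩

lemma compactSpace_of_over [QuasiSeparatedSpace S] {U V : Over S} [CompactSpace U.left]
    [CompactSpace V.left] : CompactSpace (U ⨯ V : Over S).left := by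
  have : QuasiCompact U.hom := inferInstance
  have : CompactSpace (Limits.pullback U.hom V.hom : Scheme) :=
    QuasiCompact.compactSpace_of_compactSpace (pullback.snd U.hom V.hom)
  exact (Over.prodLeftIsoPullback U V).inv.homeomorph.compactSpace

/-- Fibre products of quasi-compact schemes over a space with quasi-compact diagonal. -/
theorem compactSpace_of_qs [QuasiSeparatedSpace S] (hX : RepWith @QuasiCompact (Limits.diag X))
    {U V P : Over S} [CompactSpace U.left] [CompactSpace V.left]
    {a : (yon S).obj U ⟶ X} {b : (yon S).obj V ⟶ X} {fst : P ⟶ U} {snd : P ⟶ V}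
    (h : IsPullback ((yon S).map fst) ((yon S).map snd) a b) : CompactSpace P.left := by
  have h' := repWith_of_isPullback (isPullback_diag h) hX
  rw [show prod.lift ((yon S).map fst) ((yon S).map snd) =
    (yon S).map (prod.lift fst snd) ≫ prodComparison (yon S) U V by
      ext <;> simp [← Functor.map_comp]] at h'
  have : QuasiCompact (prod.lift fst snd).left :=
    (repWith_yon_map_iff _ _).1
      ((MorphismProperty.cancel_right_of_respectsIso (RepWith @QuasiCompact) _ _).1 h')
  have := compactSpace_of_over (U := U) (V := V)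
  exact QuasiCompact.compactSpace_of_compactSpace (prod.lift fst snd).left

theorem qcMor_of_qc_source [QuasiSeparatedSpace S] (hX : IsAlgSpace X) (hY : IsAlgSpace Y)
    (hq : IsQuasiCompactSp X) (hqs : IsQuasiSeparatedSp Y) (f : X ⟶ Y) : IsQuasiCompactMor f := by
  refine isQuasiCompactMor_of_affine hX hY fun W hW g => ?_
  obtain ⟨U, p, he, hs, hU⟩ := hq
  obtain ⟨P, i, j, sqU⟩ := exists_isPullback_of_representable (hY.representable_from_yon (p ≫ f)) g
  have : CompactSpace P.left := compactSpace_of_qs hqs sqU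
  have sq := IsPullback.of_hasPullback f g
  let m := sq.lift ((yon S).map i ≫ p) ((yon S).map j) (by rw [Category.assoc]; exact sqU.w)
  refine qcSp_of_surjective (isAlgSpace_of_isPullback hY.diag hX (IsAlgSpace.yon_obj W) sq) m ?_
    isQuasiCompactSp_of_compactSpace
  refine surjective_map_of_repWith (repWith_of_isPullback (a := (yon S).map i)
    (b := pullback.fst f g) (f := p) ?_ hs)
  refine IsPullback.of_bot ?_ (sq.lift_fst _ _ _).symm sq
  rw [sq.lift_snd]
  exact sqU

theorem isQuasiSeparatedSp_of_isPullback {P : Sp S} {f : X ⟶ Y} {g : Z ⟶ Y} {fst : P ⟶ X}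
    {snd : P ⟶ Z} (sq : IsPullback fst snd f g) (hX : IsQuasiSeparatedSp X)
    (hY : IsQuasiSeparatedSp Y) (hZ : IsQuasiSeparatedSp Z) : IsQuasiSeparatedSp P := by
  have := isPullback_lift sq
  refine repWith_of_comp_mono (m := prod.map (prod.lift fst snd) (prod.lift fst snd)) ?_
  rw [show Limits.diag P ≫ prod.map (prod.lift fst snd) (prod.lift fst snd) =
      prod.lift fst snd ≫ prod.map (Limits.diag X) (Limits.diag Z) ≫
        prod.lift (prod.map prod.fst prod.fst) (prod.map prod.snd prod.snd) by
    ext <;> simp]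
  refine repWith_comp (repWith_of_isPullback (isPullback_diag sq) hY)
    (repWith_comp (prop_prod_map (RepWith @QuasiCompact) hX hZ) ?_)
  have : IsIso (prod.lift (prod.map prod.fst prod.fst) (prod.map prod.snd prod.snd) :
      (X ⨯ X) ⨯ (Z ⨯ Z) ⟶ (X ⨯ Z) ⨯ (X ⨯ Z)) :=
    ⟨prod.lift (prod.map prod.fst prod.fst) (prod.map prod.snd prod.snd),
      by ext <;> simp, by ext <;> simp⟩
  exact repWith_of_isIso _

end Groth.L23
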