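import Groth.Agent.L23.Descent
import Groth.Agent.L23.QcCalc

/-!
# Separation axioms are local on the target
-/

universe u

open CategoryTheory CategoryTheory.Limits AlgebraicGeometry Opposite AlgSp

set_option backward.isDefEq.respectTransparency.types false

namespace Groth.L23

variable {S : Scheme.{u}} {X Y P : Sp S}

attribute [local simp] pullback.lift_fst pullback.lift_snd pullback.lift_fst_assoc
  pullback.lift_snd_assoc

section Cat

variable {C : Type*} [Category C] [HasPullbacks C] {X Y V P : C}

/-- The comparison `P ×_V P ⟶ X ×_Y X`. -/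
noncomputable abbrev diagComp {f : X ⟶ Y} {g : V ⟶ Y} {fst : P ⟶ X} {snd : P ⟶ V}
    (sq : IsPullback fst snd f g) : pullback.diagonalObj snd ⟶ pullback.diagonalObj f :=
  pullback.map _ _ _ _ fst fst g sq.w.symm sq.w.symm

lemma isPullback_diagonal {f : X ⟶ Y} {g : V ⟶ Y} {fst : P ⟶ X} {snd : P ⟶ V}
    (sq : IsPullback fst snd f g) :
    IsPullback fst (pullback.diagonal snd) (pullback.diagonal f) (diagComp sq) := by
  refine IsPullback.mk' (by apply pullback.hom_ext <;> simp) ?_ ?_
  · intro T φ φ' _ h₂
    simpa using h₂ =≫ pullback.fst _ _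
  · intro T a b w
    have w₁ : a = b ≫ pullback.fst _ _ ≫ fst := by simpa using w =≫ pullback.fst f f
    have w₂ : a = b ≫ pullback.snd _ _ ≫ fst := by simpa using w =≫ pullback.snd f f
    refine ⟨b ≫ pullback.fst _ _, by simp [w₁], ?_⟩
    apply pullback.hom_ext
    · simp
    · simp only [Category.assoc, pullback.diagonal_snd, Category.comp_id]
      apply sq.hom_ext
      · simp [← w₁, ← w₂]
      · simpa using congrArg (b ≫ ·) (pullback.condition (f := snd) (g := snd))

lemma isPullback_diagComp {f : X ⟶ Y} {g : V ⟶ Y} {fst : P ⟶ X} {snd : P ⟶ V}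
    (sq : IsPullback fst snd f g) :
    IsPullback (pullback.fst snd snd ≫ snd) (diagComp sq) g (pullback.fst f f ≫ f) := by
  refine IsPullback.mk' (by simp [sq.w]) ?_ ?_
  · intro T φ φ' h₁ h₂
    have e₁ := h₂ =≫ pullback.fst f f
    have e₂ := h₂ =≫ pullback.snd f f
    simp at e₁ e₂
    have k₁ : φ ≫ pullback.fst snd snd = φ' ≫ pullback.fst snd snd :=
      sq.hom_ext (by simpa using e₁) (by simpa using h₁)
    apply pullback.hom_ext
    · exact k₁
    · refine sq.hom_ext (by simpa using e₂) ?_
      simp only [Category.assoc, ← pullback.condition]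
      exact h₁
  · intro T v z w
    let a := sq.lift (z ≫ pullback.fst f f) v (by simpa using w.symm)
    let b := sq.lift (z ≫ pullback.snd f f) v (by rw [Category.assoc, ← pullback.condition]; simpa using w.symm)
    refine ⟨pullback.lift a b (by simp [a, b]), by simp [a], ?_⟩
    apply pullback.hom_ext <;> simp [a, b]

end Cat

variable {Q : MorphismProperty Scheme.{u}} [Q.IsStableUnderBaseChange]

theorem repWith_diagonal_of_cover [Q.IsLocalAtTarget Scheme.fppfPrecoverage] (hX : IsAlgSpace X)
    {f : X ⟶ Y} {V : Over S} {p : (yon S).obj V ⟶ Y} (hp : RepWith @Etale p)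
    (hps : RepWith @Surjective p) {fst : P ⟶ X} {snd : P ⟶ (yon S).obj V}
    (sq : IsPullback fst snd f p) (h : RepWith Q (pullback.diagonal snd)) :
    RepWith Q (pullback.diagonal f) := by
  have := isLocallySurjective_of_etale (diagComp sq) (repWith_of_isPullback (isPullback_diagComp sq) hp)
    (repWith_of_isPullback (isPullback_diagComp sq) hps)
  exact repWith_of_locallySurjective (diagonal_properties hX f).1 (isPullback_diagonal sq) h

theorem repWith_diagonal_of_affine [IsZariskiLocalAtTarget Q] (hX : IsAlgSpace X) {f : X ⟶ Y}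
    (h : ∀ (W : Over S), IsAffine W.left → ∀ (g : (yon S).obj W ⟶ Y),
      RepWith Q (pullback.diagonal (pullback.snd f g))) :
    RepWith Q (pullback.diagonal f) := by
  have hd := (diagonal_properties hX f).1
  refine repWith_of_snd hd fun T m => ?_
  rw [IsZariskiLocalAtTarget.iff_of_openCover (P := Q) T.left.affineCover]
  intro i
  let W : Over S := Over.mk (T.left.affineCover.f i ≫ T.hom)
  let j : W ⟶ T := Over.homMk (T.left.affineCover.f i) rfl
  have hW : IsAffine W.left := isAffine_Spec _
  have sq₀ := IsPullback.of_hasPullback (hd.snd m) j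
  have sq₁ := (sq₀.map (yon S)).paste_horiz (hd.isPullback m)
  let g := ((yon S).map j ≫ m) ≫ pullback.fst f f ≫ f
  have sqP := IsPullback.of_hasPullback f g
  let n : (yon S).obj W ⟶ pullback.diagonalObj (pullback.snd f g) := pullback.lift
    (sqP.lift (((yon S).map j ≫ m) ≫ pullback.fst f f) (𝟙 _) (by simp [g]))
    (sqP.lift (((yon S).map j ≫ m) ≫ pullback.snd f f) (𝟙 _) (by simp [g, pullback.condition]))
    (by simp)
  have hn : n ≫ diagComp sqP = (yon S).map j ≫ m := by
    apply pullback.hom_ext <;> simp [n]
  rw [← hn] at sq₁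
  let k := (isPullback_diagonal sqP).lift ((yon S).map (pullback.fst (hd.snd m) j) ≫ hd.fst m)
    ((yon S).map (pullback.snd (hd.snd m) j) ≫ n) (by simpa using sq₁.w)
  have sq₂ : IsPullback k ((yon S).map (pullback.snd (hd.snd m) j))
      (pullback.diagonal (pullback.snd f g)) n := by
    refine IsPullback.of_right ?_ ((isPullback_diagonal sqP).lift_snd _ _ _) (isPullback_diagonal sqP)
    rwa [(isPullback_diagonal sqP).lift_fst]
  have hq := repWith_prop (h W hW g) sq₂
  have sq₃ := sq₀.map (Over.forget S)
  refine (Q.cancel_left_of_respectsIso sq₃.isoPullback.hom _).1 ?_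
  have e : sq₃.isoPullback.hom ≫ pullback.snd (hd.snd m).left j.left =
      (pullback.snd (hd.snd m) j).left := sq₃.isoPullback_hom_snd
  exact e ▸ hq

end Groth.L23
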