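import Groth.Agent.L23.Univ
import Groth.Agent.L23.SepLocal
import Groth.Agent.L23.TargetLocal
import Groth.Agent.L23.LocP
import Mathlib.AlgebraicGeometry.Morphisms.Proper
import Mathlib.RingTheory.Spectrum.Prime.Polynomial

/-!
# Calculus of universally closed, separated and proper morphisms
-/

universe u

open CategoryTheory CategoryTheory.Limits AlgebraicGeometry Opposite AlgSp MorphismProperty Topology

set_option backward.isDefEq.respectTransparency.types false

namespace Groth.L23

variable {S : Scheme.{u}} {X Y Z P : Sp S}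

attribute [local simp] pullback.lift_fst pullback.lift_snd pullback.lift_fst_assoc
  pullback.lift_snd_assoc

theorem univSp_comp {Q : MorphismProperty (Sp S)} [Q.IsStableUnderComposition] (hY : IsAlgSpace Y)
    (hZ : IsAlgSpace Z) {f : X ⟶ Y} {g : Y ⟶ Z} (hf : UnivSp Q f) (hg : UnivSp Q g) :
    UnivSp Q (f ≫ g) := by
  intro T T' hT h fst snd sq
  have sq₁ := IsPullback.of_hasPullback g h
  let k := sq₁.lift (fst ≫ f) snd (by simp [sq.w])
  have hk : k ≫ pullback.snd g h = snd := sq₁.lift_snd _ _ _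
  have sq₂ : IsPullback fst k f (pullback.fst g h) := by
    refine IsPullback.of_bot ?_ (sq₁.lift_fst _ _ _).symm sq₁
    rwa [hk]
  rw [← hk]
  exact Q.comp_mem _ _ (hf (isAlgSpace_of_isPullback hZ.diag hY hT sq₁) _ _ _ sq₂)
    (hg hT h _ _ sq₁)

instance : MorphismProperty.IsStableUnderComposition (IsClosedMor (S := S)) where
  comp_mem f g hf hg := by
    show IsClosedMap (Points.map (f ≫ g))
    rw [show Points.map (f ≫ g) = Points.map g ∘ Points.map f from funext (Points.map_comp f g)]
    exact hg.comp hf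

theorem univClosed_comp (hY : IsAlgSpace Y) (hZ : IsAlgSpace Z) {f : X ⟶ Y} {g : Y ⟶ Z}
    (hf : IsUnivClosedMor f) (hg : IsUnivClosedMor g) : IsUnivClosedMor (f ≫ g) :=
  univSp_comp hY hZ hf hg

theorem surjective_snd_of_isPullback {fst : P ⟶ X} {snd : P ⟶ Z} {f : X ⟶ Y} {g : Z ⟶ Y}
    (sq : IsPullback fst snd f g) (hf : Function.Surjective (Points.map f)) :
    Function.Surjective (Points.map snd) := fun z => by
  obtain ⟨x, hx⟩ := hf (Points.map g z)
  obtain ⟨p, -, hp⟩ := exists_of_isPullback sq x z hx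
  exact ⟨p, hp⟩

theorem univClosed_of_surjective_comp {f : X ⟶ Y} {g : Y ⟶ Z} (h : IsUnivClosedMor (f ≫ g))
    (hf : Function.Surjective (Points.map f)) : IsUnivClosedMor g := by
  intro T T' hT k fst snd sq A hA
  have sqf := IsPullback.of_hasPullback f fst
  have hs := surjective_snd_of_isPullback sqf hf
  have hc := h hT k _ _ (sqf.paste_vert sq) _ (hA.preimage (Points.continuous_map (pullback.snd f fst)))
  rwa [show Points.map (pullback.snd f fst ≫ snd) = Points.map snd ∘ Points.map (pullback.snd f fst)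
      from funext (Points.map_comp _ _), Set.image_comp, Set.image_preimage_eq _ hs] at hc

theorem univOpen_of_surjective_comp {f : X ⟶ Y} {g : Y ⟶ Z} (h : IsUnivOpenMor (f ≫ g))
    (hf : Function.Surjective (Points.map f)) : IsUnivOpenMor g := by
  intro T T' hT k fst snd sq A hA
  have sqf := IsPullback.of_hasPullback f fst
  have hs := surjective_snd_of_isPullback sqf hf
  have hc := h hT k _ _ (sqf.paste_vert sq) _ (hA.preimage (Points.continuous_map (pullback.snd f fst)))
  rwa [show Points.map (pullback.snd f fst ≫ snd) = Points.map snd ∘ Points.map (pullback.snd f fst)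
      from funext (Points.map_comp _ _), Set.image_comp, Set.image_preimage_eq _ hs] at hc

theorem qcMor_of_surjective_comp (hY : IsAlgSpace Y) (hZ : IsAlgSpace Z) {f : X ⟶ Y} {g : Y ⟶ Z}
    (h : IsQuasiCompactMor (f ≫ g)) (hf : Function.Surjective (Points.map f)) :
    IsQuasiCompactMor g := by
  intro T T' hT hqc k fst snd sq
  have sqf := IsPullback.of_hasPullback f fst
  exact qcSp_of_surjective (isAlgSpace_of_isPullback hZ.diag hY hT sq) _
    (surjective_snd_of_isPullback sqf hf) (h hT hqc k _ _ (sqf.paste_vert sq))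

theorem separated_comp {f : X ⟶ Y} {g : Y ⟶ Z} (hf : IsSeparatedMor f) (hg : IsSeparatedMor g) :
    IsSeparatedMor (f ≫ g) := by
  have hc : (RepWith (S := S) @IsClosedImmersion).IsStableUnderComposition := ⟨fun _ _ => repWith_comp⟩
  have := repWith_isStableUnderBaseChange (S := S) (@IsClosedImmersion : MorphismProperty Scheme.{u})
  exact (RepWith (S := S) @IsClosedImmersion).diagonal.comp_mem _ _ hf hg

theorem qsMor_comp {f : X ⟶ Y} {g : Y ⟶ Z} (hf : IsQuasiSeparatedMor f)
    (hg : IsQuasiSeparatedMor g) : IsQuasiSeparatedMor (f ≫ g) := by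
  have hc : (RepWith (S := S) @QuasiCompact).IsStableUnderComposition := ⟨fun _ _ => repWith_comp⟩
  have := repWith_isStableUnderBaseChange (S := S) (@QuasiCompact : MorphismProperty Scheme.{u})
  exact (RepWith (S := S) @QuasiCompact).diagonal.comp_mem _ _ hf hg

theorem separated_of_isPullback {X' Y' : Sp S} {f : X ⟶ Y} {a : X' ⟶ X} {b : Y' ⟶ Y}
    {f' : X' ⟶ Y'} (sq : IsPullback a f' f b) (h : IsSeparatedMor f) : IsSeparatedMor f' :=
  repWith_of_isPullback (isPullback_diagonal sq) h

theorem repWith_diagonal_of_comp {Q : MorphismProperty Scheme.{u}} [Q.IsStableUnderBaseChange]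
    {f : X ⟶ Y} {g : Y ⟶ Z} (h : RepWith Q (pullback.diagonal (f ≫ g))) :
    RepWith Q (pullback.diagonal f) := by
  let m : pullback.diagonalObj f ⟶ pullback.diagonalObj (f ≫ g) :=
    pullback.map _ _ _ _ (𝟙 X) (𝟙 X) g (by simp) (by simp)
  have : Mono m := ⟨fun a b e => by
    have e₁ := e =≫ pullback.fst _ _
    have e₂ := e =≫ pullback.snd _ _
    exact pullback.hom_ext (by simpa [m] using e₁) (by simpa [m] using e₂)⟩
  refine repWith_of_comp_mono (m := m) ?_
  rwa [show pullback.diagonal f ≫ m = pullback.diagonal (f ≫ g) by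
    apply pullback.hom_ext <;> simp [m]]

theorem univClosed_of_comp_separated (hX : IsAlgSpace X) (hY : IsAlgSpace Y) (hZ : IsAlgSpace Z)
    {f : X ⟶ Y} {g : Y ⟶ Z} (h : IsUnivClosedMor (f ≫ g)) (hg : IsSeparatedMor g) :
    IsUnivClosedMor f := by
  have h₁ : RepWith @IsClosedImmersion
      (pullback.lift (𝟙 X) f (by simp) : X ⟶ pullback (f ≫ g) g) :=
    repWith_of_isPullback (pullback_lift_diagonal_isPullback f g) hg
  have h₁' : RepWith @UniversallyClosed _ :=
    repWith_mono (fun φ (_ : IsClosedImmersion φ) => by infer_instance) h₁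
  have := univClosed_comp
    (isAlgSpace_of_isPullback hZ.diag hX hY (IsPullback.of_hasPullback (f ≫ g) g)) hY
    ((repWith_universallyClosed_iff h₁'.1).1 h₁')
    (univSp_of_isPullback (IsPullback.of_hasPullback (f ≫ g) g) h)
  rwa [pullback.lift_snd] at this

theorem isProperMor_of_repWith {f : X ⟶ Y} (hi : RepWith @IsProper f) : IsProperMor f :=
  ⟨(isSeparatedMor_iff hi.1).2 (repWith_mono (fun φ (_ : IsProper φ) => by infer_instance) hi),
    ⟨locP_of_repWith etLocal_lft (repWith_mono (fun φ (_ : IsProper φ) => by infer_instance) hi),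
      isQuasiCompactMor_of_repWith (repWith_mono (fun φ (_ : IsProper φ) => by infer_instance) hi)⟩,
    (repWith_universallyClosed_iff hi.1).1
      (repWith_mono (fun φ (_ : IsProper φ) => by infer_instance) hi)⟩

theorem isProperMor_comp (hX : IsAlgSpace X) (hY : IsAlgSpace Y) (hZ : IsAlgSpace Z) {f : X ⟶ Y}
    {g : Y ⟶ Z} (hf : IsProperMor f) (hg : IsProperMor g) : IsProperMor (f ≫ g) :=
  ⟨separated_comp hf.1 hg.1,
    ⟨locP_comp etLocal_lft hX hY hZ hf.2.1.1 hg.2.1.1, qcMor_comp hY hZ hf.2.1.2 hg.2.1.2⟩,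
    univClosed_comp hY hZ hf.2.2 hg.2.2⟩

theorem isProperMor_of_isPullback {X' Y' : Sp S} (hX : IsAlgSpace X) (hY : IsAlgSpace Y)
    (hY' : IsAlgSpace Y') {f : X ⟶ Y} {a : X' ⟶ X} {b : Y' ⟶ Y} {f' : X' ⟶ Y'}
    (sq : IsPullback a f' f b) (h : IsProperMor f) : IsProperMor f' :=
  ⟨separated_of_isPullback sq h.1,
    ⟨locP_of_isPullback etLocal_lft hX hY hY' sq h.2.1.1, qcMor_of_isPullback sq h.2.1.2⟩,
    univSp_of_isPullback sq h.2.2⟩

theorem isProperMor_of_comp_separated (hX : IsAlgSpace X) (hY : IsAlgSpace Y) (hZ : IsAlgSpace Z)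
    {f : X ⟶ Y} {g : Y ⟶ Z} (h : IsProperMor (f ≫ g)) (hg : IsSeparatedMor g) : IsProperMor f :=
  ⟨repWith_diagonal_of_comp h.1,
    ⟨locP_of_comp etLocal_lft (fun φ ψ h => locallyOfFiniteType_of_comp φ ψ) hX hY hZ h.2.1.1,
      qcMor_of_comp hX hY hZ h.2.1.2
        (repWith_mono (fun φ (_ : IsClosedImmersion φ) => by infer_instance) hg)⟩,
    univClosed_of_comp_separated hX hY hZ h.2.2 hg⟩

/-- Local finite type can be tested after base change to affine schemes. -/
theorem locP_of_affine {Q : MorphismProperty Scheme.{u}} (hQ : EtLocal Q) [IsZariskiLocalAtTarget Q]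
    (hX : IsAlgSpace X) (hY : IsAlgSpace Y) {f : X ⟶ Y}
    (h : ∀ (W : Over S), IsAffine W.left → ∀ (g : (yon S).obj W ⟶ Y) (P : Sp S) (fst : P ⟶ X)
      (snd : P ⟶ (yon S).obj W), IsPullback fst snd f g → LocP Q snd) : LocP Q f := by
  obtain ⟨V, p, hp, hps⟩ := hY.atlas
  have sqV := IsPullback.of_hasPullback f p
  have hP : IsAlgSpace (pullback f p) :=
    isAlgSpace_of_isPullback hY.diag hX (IsAlgSpace.yon_obj V) sqV
  refine locP_of_target_cover hQ hX hY (IsAlgSpace.yon_obj V) hp hps sqV ?_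
  obtain ⟨U, a, ha, has⟩ := hP.atlas
  obtain ⟨φ, hφ⟩ := (yon S).map_surjective (a ≫ pullback.snd f p)
  refine locP_of_chart hQ ha has (repWith_id _ V) (h := φ) (by simp [hφ]) ?_
  rw [IsZariskiLocalAtTarget.iff_of_iSup_eq_top (P := Q) _ (iSup_affineOpens_eq_top V.left)]
  intro B
  let B' : Over S := Over.mk (B.1.ι ≫ V.hom)
  let j : B' ⟶ V := Over.homMk B.1.ι rfl
  have sqB := IsPullback.of_hasPullback (pullback.snd f p) ((yon S).map j)
  have hl := h B' B.2 ((yon S).map j ≫ p) _ _ _ (sqB.paste_horiz sqV)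
  have sq₀ := (IsPullback.of_hasPullback φ j).map (yon S)
  rw [hφ] at sq₀
  let a' := sqB.lift ((yon S).map (pullback.fst φ j) ≫ a) ((yon S).map (pullback.snd φ j))
    (by rw [Category.assoc]; exact sq₀.w)
  have sqa : IsPullback ((yon S).map (pullback.fst φ j)) a' a
      (pullback.fst (pullback.snd f p) ((yon S).map j)) := by
    refine IsPullback.of_bot ?_ (sqB.lift_fst _ _ _).symm sqB
    rw [sqB.lift_snd]
    exact sq₀
  have hB := hl a' (𝟙 _) (pullback.snd φ j) (repWith_of_isPullback sqa ha) (repWith_id _ B')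
    (by rw [Category.comp_id, sqB.lift_snd])
  have sq₃ : IsPullback (pullback.fst φ j).left (pullback.snd φ j).left φ.left B.1.ι :=
    (IsPullback.of_hasPullback φ j).map (Over.forget S)
  exact (MorphismProperty.arrow_mk_iso_iff Q (Arrow.isoMk
    (sq₃.flip.isoIsPullback _ _ (isPullback_morphismRestrict φ.left B.1)) (Iso.refl _)
    ((sq₃.flip.isoIsPullback_hom_fst _ _ _).trans (Category.comp_id _).symm))).1 hB

theorem isQuasiCompactMor_of_cover (hX : IsAlgSpace X) (hY : IsAlgSpace Y) {f : X ⟶ Y}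
    {V : Over S} {p : (yon S).obj V ⟶ Y} (hp : RepWith @Etale p)
    (hps : RepWith @Surjective p) {fst : P ⟶ X} {snd : P ⟶ (yon S).obj V}
    (sq : IsPullback fst snd f p) (h : IsQuasiCompactMor snd) : IsQuasiCompactMor f := by
  refine isQuasiCompactMor_of_affine hX hY fun W hW g => ?_
  obtain ⟨T', e, m, w, he, hs, -⟩ := exists_refine hp hps g
  have : Surjective e.left := ⟨hs⟩
  obtain ⟨n, U, hU, hUs⟩ := exists_affine_refinement e.left
  have : ∀ i, IsAffine (U i : Scheme.{u}) := hU
  let π := Sigma.desc fun i => (U i).ι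
  let A : Over S := Over.mk (π ≫ T'.hom)
  let j : A ⟶ T' := Over.homMk π
  have : IsAffine A.left := inferInstanceAs (IsAffine (∐ fun i => (U i : Scheme.{u})))
  have hπ : π ≫ e.left = Sigma.desc fun i => (U i).ι ≫ e.left := by ext i; simp [π]
  have hje : Surjective ((j ≫ e).left) := by
    show Surjective (π ≫ e.left)
    rw [hπ]; exact hUs
  have sqW := IsPullback.of_hasPullback f g
  have hWS : IsAlgSpace (pullback f g) :=
    isAlgSpace_of_isPullback hY.diag hX (IsAlgSpace.yon_obj W) sqW
  have sqA := IsPullback.of_hasPullback snd ((yon S).map j ≫ m)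
  have hA : IsQuasiCompactSp (pullback snd ((yon S).map j ≫ m)) :=
    isQuasiCompactMor_of_pullback h _
  have sqX := sqA.paste_horiz sq
  rw [show ((yon S).map j ≫ m) ≫ p = (yon S).map (j ≫ e) ≫ g by
    rw [Category.assoc, w, Functor.map_comp, Category.assoc]] at sqX
  let l := sqW.lift (pullback.fst snd ((yon S).map j ≫ m) ≫ fst)
    (pullback.snd snd ((yon S).map j ≫ m) ≫ (yon S).map (j ≫ e)) (by
      rw [Category.assoc, Category.assoc]
      have := sqX.w
      simpa using this)
  have sql : IsPullback l (pullback.snd snd ((yon S).map j ≫ m)) (pullback.snd f g)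
      ((yon S).map (j ≫ e)) :=
    IsPullback.of_right (by rw [sqW.lift_fst]; exact sqX) (sqW.lift_snd _ _ _) sqW
  refine qcSp_of_surjective hWS l (surjective_snd_of_isPullback sql.flip
    (surjective_map_of_repWith (repWith_map hje))) hA

theorem isProperMor_of_cover (hX : IsAlgSpace X) (hY : IsAlgSpace Y) {f : X ⟶ Y}
    {V : Over S} {p : (yon S).obj V ⟶ Y} (hp : RepWith @Etale p)
    (hps : RepWith @Surjective p) {fst : P ⟶ X} {snd : P ⟶ (yon S).obj V}
    (sq : IsPullback fst snd f p) (h : IsProperMor snd) : IsProperMor f := by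
  have : MorphismProperty.IsLocalAtTarget @IsClosedImmersion Scheme.fppfPrecoverage.{u} :=
    isLocalAtTarget_fppf _
  exact ⟨repWith_diagonal_of_cover hX hp hps sq h.1,
    ⟨locP_of_target_cover etLocal_lft hX hY (IsAlgSpace.yon_obj V) hp hps sq h.2.1.1,
      isQuasiCompactMor_of_cover hX hY hp hps sq h.2.1.2⟩,
    isUnivClosedMor_of_cover hp hps sq h.2.2⟩

theorem isProperMor_of_affine (hX : IsAlgSpace X) (hY : IsAlgSpace Y) {f : X ⟶ Y}
    (h : ∀ (W : Over S), IsAffine W.left → ∀ (g : (yon S).obj W ⟶ Y) (P : Sp S) (fst : P ⟶ X)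
      (snd : P ⟶ (yon S).obj W), IsPullback fst snd f g → IsProperMor snd) : IsProperMor f :=
  ⟨repWith_diagonal_of_affine hX fun W hW g => (h W hW g _ _ _ (IsPullback.of_hasPullback f g)).1,
    ⟨locP_of_affine etLocal_lft hX hY fun W hW g P fst snd sq => (h W hW g P fst snd sq).2.1.1,
      isQuasiCompactMor_of_affine hX hY fun W hW g =>
        have : IsAffine W.left := hW
        (h W hW g _ _ _ (IsPullback.of_hasPullback f g)).2.1.2 (IsAlgSpace.yon_obj W)
          isQuasiCompactSp_of_compactSpace (𝟙 _) (𝟙 _) _ IsPullback.of_id_fst⟩,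
    (isUnivClosedMor_iff_affine f).2 fun W hW g =>
      (h W hW g _ _ _ (IsPullback.of_hasPullback f g)).2.2 (IsAlgSpace.yon_obj W) (𝟙 _) (𝟙 _) _
        IsPullback.of_id_fst⟩

/-- Flat and locally of finite presentation implies universally open. -/
theorem isUnivOpenMor_of_flat_lfp (hX : IsAlgSpace X) (hY : IsAlgSpace Y) {f : X ⟶ Y}
    (hfl : LocP @Flat f) (hfp : LocP @LocallyOfFinitePresentation f) : IsUnivOpenMor f := by
  obtain ⟨V, p, hp, hps⟩ := hY.atlas
  have sqV := IsPullback.of_hasPullback f p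
  have hP : IsAlgSpace (pullback f p) :=
    isAlgSpace_of_isPullback hY.diag hX (IsAlgSpace.yon_obj V) sqV
  refine isUnivOpenMor_of_cover hp hps sqV ?_
  obtain ⟨U, a, ha, has⟩ := hP.atlas
  obtain ⟨φ, hφ⟩ := (yon S).map_surjective (a ≫ pullback.snd f p)
  have w : a ≫ pullback.snd f p = (yon S).map φ ≫ 𝟙 _ := by simp [hφ]
  have : Flat φ.left := locP_of_isPullback etLocal_flat hX hY (IsAlgSpace.yon_obj V) sqV hfl a (𝟙 _) φ
    ha (repWith_id _ V) w
  have : LocallyOfFinitePresentation φ.left := locP_of_isPullback etLocal_lfp hX hY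
    (IsAlgSpace.yon_obj V) sqV hfp a (𝟙 _) φ ha (repWith_id _ V) w
  refine univOpen_of_surjective_comp (f := a) ?_ (surjective_map_of_repWith has)
  rw [← hφ]
  have h' : RepWith @UniversallyOpen ((yon S).map φ) := repWith_map (by infer_instance)
  exact (repWith_universallyOpen_iff h'.1).1 h'

lemma isQuotientMap_of_affine_chart (hX : IsAlgSpace X) (hY : IsAlgSpace Y) {f : X ⟶ Y}
    (hfl : LocP @Flat f) (hqc : IsQuasiCompactMor f) (hs : Function.Surjective (Points.map f))
    {W : Over S} [IsAffine W.left] (g : (yon S).obj W ⟶ Y) {A : Set (Points Y)}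
    (hA : IsOpen (Points.map f ⁻¹' A)) : IsOpen (Points.ofPt g ⁻¹' A) := by
  have sq := IsPullback.of_hasPullback f g
  have hP : IsAlgSpace (pullback f g) := isAlgSpace_of_isPullback hY.diag hX (IsAlgSpace.yon_obj W) sq
  obtain ⟨U, a, ha, has, hU⟩ := isQuasiCompactMor_of_pullback hqc g
  obtain ⟨φ, hφ⟩ := (yon S).map_surjective (a ≫ pullback.snd f g)
  have : Flat φ.left := locP_of_isPullback etLocal_flat hX hY (IsAlgSpace.yon_obj W) sq hfl a (𝟙 _) φ
    ha (repWith_id _ W) (by simp [hφ])
  have : CompactSpace U.left := hU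
  have : QuasiCompact φ.left := (quasiCompact_iff_compactSpace φ.left).2 hU
  have hsφ : Function.Surjective φ.left := by
    intro t
    obtain ⟨q, hq⟩ := surjective_snd_of_isPullback sq hs (Points.ofScheme W t)
    obtain ⟨u, rfl⟩ := surjective_ofPt has q
    refine ⟨u, (Points.schemeEquiv W).injective ?_⟩
    show Points.ofScheme W _ = Points.ofScheme W t
    rw [← ofPt_map, hφ, ← Points.map_ofPt, hq]
  have : Surjective φ.left := ⟨hsφ⟩
  have e : φ.left ⁻¹' (Points.ofPt g ⁻¹' A) =
      Points.ofPt (a ≫ pullback.fst f g) ⁻¹' (Points.map f ⁻¹' A) := by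
    ext u
    simp only [Set.mem_preimage]
    rw [← ofPt_comp φ g u, hφ, Category.assoc, ← sq.w, Points.map_ofPt, Category.assoc]
  have := hA.preimage (Points.continuous_ofPt (a ≫ pullback.fst f g))
  rw [← e] at this
  exact (Flat.isQuotientMap_of_surjective φ.left).isOpen_preimage.1 this

theorem isSubmersiveMor_of_flat (hX : IsAlgSpace X) (hY : IsAlgSpace Y) {f : X ⟶ Y}
    (hfl : LocP @Flat f) (hqc : IsQuasiCompactMor f) (hs : Function.Surjective (Points.map f)) :
    IsSubmersiveMor f := by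
  refine (isQuotientMap_iff _).2 ⟨isCoinducing_iff.2 fun A => ⟨fun hA => ?_,
    fun hA => hA.preimage (Points.continuous_map f)⟩, hs⟩
  refine Points.isOpen_iff.2 fun T k => isOpen_of_affine_cover fun B hB => ?_
  let B' : Over S := Over.mk (B.ι ≫ T.hom)
  let j : B' ⟶ T := Over.homMk B.ι rfl
  have : IsAffine B'.left := hB
  have e : B.ι ⁻¹' (Points.ofPt k ⁻¹' A) = Points.ofPt ((yon S).map j ≫ k) ⁻¹' A := by
    ext b
    exact iff_of_eq (congrArg (· ∈ A) (ofPt_comp j k b).symm)
  rw [e]
  exact isQuotientMap_of_affine_chart hX hY hfl hqc hs ((yon S).map j ≫ k) hA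

open _root_.PrimeSpectrum MvPolynomial in
/-- A universally closed space over a field has a quasi-compact space of points. -/
theorem compactSpace_points_of_univClosed_field (hX : IsAlgSpace X) {K : Type u} [Field K]
    {str : Spec (CommRingCat.of K) ⟶ S} (f : X ⟶ (yon S).obj (Over.mk str))
    (hf : IsUnivClosedMor f) : CompactSpace (Points X) := by
  classical
  obtain ⟨W, a, ha, has⟩ := hX.atlas
  let ι := W.left.affineCover.I₀
  let V (i : ι) : Set (Points X) := Points.ofPt a '' Set.range (W.left.affineCover.f i)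
  have hV : ∀ i, IsOpen (V i) := fun i =>
    isOpenMap_ofPt ha _ (W.left.affineCover.f i).isOpenEmbedding.isOpen_range
  have hVc : ∀ i, IsCompact (V i) := fun i =>
    (isCompact_range (W.left.affineCover.f i).continuous).image (Points.continuous_ofPt a)
  have hcov : ∀ x, ∃ i, x ∈ V i := fun x => by
    obtain ⟨w, rfl⟩ := surjective_ofPt has x
    obtain ⟨i, z, hz⟩ := W.left.affineCover.exists_eq w
    exact ⟨i, w, ⟨z, hz⟩, rfl⟩
  let k : Over S := Over.mk str
  let T : Over S := Over.mk (Spec.map (CommRingCat.ofHom (MvPolynomial.C (σ := ι) (R := K))) ≫ str)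
  let q : T ⟶ k := Over.homMk (Spec.map (CommRingCat.ofHom (MvPolynomial.C (σ := ι) (R := K)))) rfl
  have sq := IsPullback.of_hasPullback f ((yon S).map q)
  let fT : Points (pullback f ((yon S).map q)) → PrimeSpectrum (MvPolynomial ι K) :=
    fun z => Points.toScheme T (Points.map (pullback.snd f ((yon S).map q)) z)
  have hfTc : Continuous fT :=
    (Points.schemeHomeo T).symm.continuous.comp (Points.continuous_map _)
  have hfTcl : IsClosedMap fT :=
    (Points.schemeHomeo T).symm.isClosedMap.comp (hf (IsAlgSpace.yon_obj T) _ _ _ sq)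
  let p := Points.map (pullback.fst f ((yon S).map q))
  let Z : Set (Points (pullback f ((yon S).map q))) :=
    (⋃ i, fT ⁻¹' (basicOpen (MvPolynomial.X (R := K) (σ := ι) i)).carrier ∩ p ⁻¹' V i)ᶜ
  have hZ : IsClosed Z := isClosed_compl_iff.2 <| isOpen_iUnion fun i =>
    ((basicOpen (MvPolynomial.X i)).2.preimage hfTc).inter
      ((hV i).preimage (Points.continuous_map _))
  let Zc : TopologicalSpace.Opens (PrimeSpectrum (MvPolynomial ι K)) :=
    ⟨(fT '' Z)ᶜ, (hfTcl _ hZ).isOpen_compl⟩
  let ψ : MvPolynomial ι K →ₐ[K] K := MvPolynomial.aeval (fun _ ↦ 1)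
  let t : PrimeSpectrum (MvPolynomial ι K) := PrimeSpectrum.comap ψ.toRingHom default
  have ht (i : ι) : t ∈ basicOpen (MvPolynomial.X (R := K) i) := show ψ (.X i) ∉ (default : PrimeSpectrum K).asIdeal by
    simpa [ψ] using (Ideal.ne_top_iff_one _).1 (default : PrimeSpectrum K).isPrime.ne_top
  have htZc : t ∈ Zc := by
    rintro ⟨z, hz, hzt⟩
    obtain ⟨i, hi⟩ := hcov (p z)
    exact hz (Set.mem_iUnion.2 ⟨i, show fT z ∈ _ by rw [hzt]; exact ht i, hi⟩)
  obtain ⟨U', ⟨g, rfl⟩, htU', hU'le⟩ :=
    TopologicalSpace.Opens.isBasis_iff_nbhd.mp isBasis_basic_opens htZc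
  let σ : Finset ι := MvPolynomial.vars g
  let φ : MvPolynomial ι K →+* MvPolynomial ι K :=
    (MvPolynomial.aeval fun i : ι ↦ if i ∈ σ then MvPolynomial.X i else 0).toRingHom
  let t' := PrimeSpectrum.comap φ t
  have ht'g : t' ∈ PrimeSpectrum.basicOpen g :=
    show φ g ∉ t.asIdeal from (show φ g = g from aeval_ite_mem_eq_self g subset_rfl).symm ▸ htU'
  have h : t' ∉ fT '' Z := hU'le ht'g
  suffices (⋃ i ∈ σ, V i) = Set.univ from
    ⟨this ▸ Finset.isCompact_biUnion _ fun i _ => hVc i⟩
  rw [Set.iUnion₂_eq_univ_iff]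
  contrapose! h
  obtain ⟨x, hx⟩ := h
  have : Subsingleton (Points ((yon S).obj k)) := by
    have : Subsingleton k.left := inferInstanceAs (Subsingleton (PrimeSpectrum K))
    exact (Points.schemeEquiv k).symm.subsingleton
  obtain ⟨z, hz₁, hz₂⟩ := exists_of_isPullback sq x (Points.ofScheme T t') (Subsingleton.elim _ _)
  have hz : fT z = t' := by
    show Points.toScheme T _ = _
    rw [hz₂, Points.toScheme_ofScheme]
  refine ⟨z, ?_, hz⟩
  simp only [Z, Set.mem_compl_iff, Set.mem_iUnion, not_exists]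
  rintro i ⟨hi₁, hi₂⟩
  rw [Set.mem_preimage, hz] at hi₁
  have hiσ : i ∉ σ := fun hi => hx i hi (hz₁ ▸ hi₂)
  exact hi₁ (by show φ (MvPolynomial.X i) ∈ t.asIdeal; simp [φ, hiσ])

theorem isQuasiCompactMor_of_isUnivClosedMor (hX : IsAlgSpace X) (hY : IsAlgSpace Y) {f : X ⟶ Y}
    (hf : IsUnivClosedMor f) : IsQuasiCompactMor f := by
  refine isQuasiCompactMor_of_affine hX hY fun W hW g => ?_
  have : IsAffine W.left := hW
  have sq := IsPullback.of_hasPullback f g
  have hP : IsAlgSpace (pullback f g) := isAlgSpace_of_isPullback hY.diag hX (IsAlgSpace.yon_obj W) sq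
  have hs := univSp_of_isPullback sq hf
  have hc : IsProperMap (Points.map (pullback.snd f g)) := by
    refine isProperMap_iff_isClosedMap_and_compact_fibers.2 ⟨Points.continuous_map _,
      hs (IsAlgSpace.yon_obj W) (𝟙 _) (𝟙 _) _ IsPullback.of_id_fst, fun y => ?_⟩
    obtain ⟨w, rfl⟩ := (Points.schemeEquiv W).surjective y
    let k : Over S := Over.mk (W.left.fromSpecResidueField w ≫ W.hom)
    let j : k ⟶ W := Over.homMk (W.left.fromSpecResidueField w) rfl
    have hr : Set.range (Points.map ((yon S).map j)) = {Points.schemeEquiv W w} := by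
      rw [range_map_yon]
      ext x
      constructor
      · rintro ⟨t, rfl⟩
        rw [ofPt_map]
        exact congrArg (Points.ofScheme W) (by
          have := Set.mem_range_self (f := (W.left.fromSpecResidueField w)) t
          rwa [Scheme.range_fromSpecResidueField] at this)
      · rintro rfl
        refine ⟨IsLocalRing.closedPoint _, ?_⟩
        rw [ofPt_map]
        exact congrArg (Points.ofScheme W) (Scheme.fromSpecResidueField_apply _ _)
    have sqk := IsPullback.of_hasPullback (pullback.snd f g) ((yon S).map j)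
    have : CompactSpace (Points (pullback (pullback.snd f g) ((yon S).map j))) :=
      compactSpace_points_of_univClosed_field
        (isAlgSpace_of_isPullback (IsAlgSpace.yon_obj W).diag hP (IsAlgSpace.yon_obj k) sqk)
        (str := W.left.fromSpecResidueField w ≫ W.hom) _ (univSp_of_isPullback sqk hs)
    rw [← hr, ← range_fst_of_isPullback sqk]
    exact isCompact_range (Points.continuous_map _)
  have : CompactSpace (Points ((yon S).obj W)) := (Points.schemeHomeo W).compactSpace
  refine qcSp_of_compactSpace hP (isCompact_univ_iff.1 ?_)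
  simpa using hc.isCompact_preimage isCompact_univ

theorem separation_of_surjective_univClosed {B : Sp S} (hX : IsAlgSpace X) (hY : IsAlgSpace Y)
    (hB : IsAlgSpace B) {f : X ⟶ Y} {q : Y ⟶ B} (hs : Function.Surjective (Points.map f))
    (hc : IsUnivClosedMor f) :
    (IsQuasiSeparatedMor (f ≫ q) → IsQuasiSeparatedMor q) ∧
      (IsSeparatedMor (f ≫ q) → IsSeparatedMor q) := by
  have hD : IsAlgSpace (pullback.diagonalObj q) :=
    isAlgSpace_of_isPullback hB.diag hY hY (IsPullback.of_hasPullback q q)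
  have hd := diagonal_properties hY q
  have hM : IsAlgSpace (pullback (f ≫ q) q) :=
    isAlgSpace_of_isPullback hB.diag hX hY (IsPullback.of_hasPullback _ _)
  let m₁ : pullback.diagonalObj (f ≫ q) ⟶ pullback (f ≫ q) q :=
    pullback.map _ _ _ _ (𝟙 X) f (𝟙 B) (by simp) (by simp)
  let m₂ : pullback (f ≫ q) q ⟶ pullback.diagonalObj q :=
    pullback.map _ _ _ _ f (𝟙 Y) (𝟙 B) (by simp) (by simp)
  have sq₁ : IsPullback (pullback.snd (f ≫ q) (f ≫ q)) m₁ f (pullback.snd (f ≫ q) q) := by
    refine IsPullback.of_bot ?_ (by simp [m₁]) (IsPullback.of_hasPullback (f ≫ q) q).flip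
    have : m₁ ≫ pullback.fst (f ≫ q) q = pullback.fst (f ≫ q) (f ≫ q) := by simp [m₁]
    rw [this]
    exact (IsPullback.of_hasPullback (f ≫ q) (f ≫ q)).flip
  have sq₂ : IsPullback (pullback.fst (f ≫ q) q) m₂ f (pullback.fst q q) := by
    refine IsPullback.of_bot ?_ (by simp [m₂]) (IsPullback.of_hasPullback q q)
    have : m₂ ≫ pullback.snd q q = pullback.snd (f ≫ q) q := by simp [m₂]
    rw [this]
    exact IsPullback.of_hasPullback (f ≫ q) q
  have hm : IsUnivClosedMor (m₁ ≫ m₂) :=
    univClosed_comp hM hD (univSp_of_isPullback sq₁ hc) (univSp_of_isPullback sq₂ hc)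
  have hD' : IsAlgSpace (pullback.diagonalObj (f ≫ q)) :=
    isAlgSpace_of_isPullback hB.diag hX hX (IsPullback.of_hasPullback _ _)
  have e : pullback.diagonal (f ≫ q) ≫ m₁ ≫ m₂ = f ≫ pullback.diagonal q := by
    apply pullback.hom_ext <;> simp [m₁, m₂]
  refine ⟨fun hp => ?_, fun hp => ?_⟩
  · have := qcMor_comp hD' hD (isQuasiCompactMor_of_repWith hp)
      (isQuasiCompactMor_of_isUnivClosedMor hD' hD hm)
    rw [e] at this
    exact repWith_quasiCompact_of_isQuasiCompactMor hd.1
      (qcMor_of_surjective_comp hY hD this hs)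
  · have hp' : RepWith @UniversallyClosed (pullback.diagonal (f ≫ q)) :=
      repWith_mono (fun φ (_ : IsClosedImmersion φ) => by infer_instance) hp
    have := univClosed_comp hD' hD ((repWith_universallyClosed_iff hp'.1).1 hp') hm
    rw [e] at this
    refine repWith_mono (fun φ hφ => ?_) (repWith_inf_iff.2
      ⟨hd, (repWith_universallyClosed_iff hd.1).2 (univClosed_of_surjective_comp this hs)⟩)
    rw [isClosedImmersion_eq]
    exact ⟨⟨hφ.1.1, hφ.2⟩, hφ.1.2⟩

theorem isSeparatedMor_iff_univClosed (hX : IsAlgSpace X) (f : X ⟶ Y) :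
    IsSeparatedMor f ↔ IsUnivClosedMor (pullback.diagonal f) := by
  have hd := diagonal_properties hX f
  refine ⟨fun h => (repWith_universallyClosed_iff hd.1).1
    (repWith_mono (fun φ (_ : IsClosedImmersion φ) => by infer_instance) h), fun h => ?_⟩
  refine repWith_mono (fun φ hφ => ?_)
    (repWith_inf_iff.2 ⟨hd, (repWith_universallyClosed_iff hd.1).2 h⟩)
  rw [isClosedImmersion_eq]
  exact ⟨⟨hφ.1.1, hφ.2⟩, hφ.1.2⟩

end Groth.L23
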