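import Groth.Agent.L23.Sober
import Groth.Agent.L23.LocalDimEtale
import Groth.Agent.S10352
import Mathlib.AlgebraicGeometry.Properties

/-!
# Dimensions and decent algebraic spaces
-/

universe u v

open CategoryTheory CategoryTheory.Limits AlgebraicGeometry Opposite AlgSp Topology

set_option backward.isDefEq.respectTransparency.types false
set_option linter.style.haveILetI false

namespace Groth.L23.Pt

variable {S : Scheme.{u}} {X : Sp S}

section Order

attribute [local instance] specializationOrder

theorem coheight_eq_of_map {A : Scheme.{u}} {B : Type v} [TopologicalSpace B] [T0Space B] {φ : A → B}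
    (hc : Continuous φ) (hg : GeneralizingMap φ) (hs : ∀ x y, x ⤳ y → φ x = φ y → x = y) (a : A) :
    Order.coheight a = Order.coheight (φ a) := by
  have hlt : ∀ x y : A, x < y ↔ y ⤳ x ∧ ¬ x ⤳ y := fun x y => lt_iff_le_not_ge
  have hltB : ∀ x y : B, x < y ↔ y ⤳ x ∧ ¬ x ⤳ y := fun x y => lt_iff_le_not_ge
  refine Order.coheight_eq_of_strictMono φ (fun x y h => ?_) (fun x b h => ?_) a
  · obtain ⟨h1, h2⟩ := (hlt x y).1 h
    exact (hltB _ _).2 ⟨h1.map hc, fun h3 => h2 (by rw [hs y x h1 ((h1.map hc).antisymm h3).eq])⟩
  · obtain ⟨h1, h2⟩ := (hltB _ _).1 h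
    obtain ⟨x', hx', hx''⟩ := hg h1
    exact ⟨x', (hlt x x').2 ⟨hx', fun h3 => h2 (hx'' ▸ h3.map hc)⟩, hx''⟩

/-- Generic points of components are the maximal points. -/
theorem isGeneric_component_iff {B : Type v} [TopologicalSpace B] [T0Space B] [QuasiSober B] (x : B) :
    (∃ T ∈ irreducibleComponents B, IsGenericPoint x T) ↔ Order.coheight x = 0 := by
  rw [Order.coheight_eq_zero]
  constructor
  · rintro ⟨T, hT, hx⟩ y hy
    have hy : y ⤳ x := hy
    have hsub : T ≤ closure {y} := hx.def ▸ closure_minimal (Set.singleton_subset_iff.2 hy.mem_closure) isClosed_closure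
    have h := hT.2 isIrreducible_singleton.closure hsub
    exact hx.specializes (h (subset_closure rfl))
  · intro hx
    refine ⟨closure {x}, ⟨isIrreducible_singleton.closure, fun t ht hle => ?_⟩, isGenericPoint_closure⟩
    have hg := ht.closure.isGenericPoint_genericPoint isClosed_closure
    have h : x ⤳ ht.closure.genericPoint := hx (hg.specializes (subset_closure (hle (subset_closure rfl))))
    exact fun z hz => specializes_iff_mem_closure.1 (h.trans (hg.specializes (subset_closure hz)))

theorem coheight_irreducibleCloseds {B : Type v} [TopologicalSpace B] [T0Space B] [QuasiSober B]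
    (T : TopologicalSpace.IrreducibleCloseds B) {ξ : B} (hξ : IsGenericPoint ξ (T : Set B)) :
    Order.coheight T = Order.coheight ξ := by
  rw [← Order.coheight_orderIso (irreducibleSetEquivPoints (α := B)) T]
  exact congrArg Order.coheight ((T.2.isGenericPoint_genericPoint_closure.eq (by
    rw [T.3.closure_eq]; exact hξ)))

end Order

section Decent

variable (hX : IsAlgSpace X) (hd : IsDecent X) {U : Over S} {a : (yon S).obj U ⟶ X} (ha : RepWith @Etale a)

include hX hd ha

theorem generalizingMap_ofPt : GeneralizingMap (Points.ofPt a) :=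
  fun v y hy => exists_gen_lift hX hy (hd y) ha v rfl

theorem ofPt_strict : ∀ v w : U.left, v ⤳ w → Points.ofPt a v = Points.ofPt a w → v = w :=
  fun v w h e => (eq_of_specializes_of_isDecent hX hd ha w v e.symm h).symm

theorem localDim_chart (u : U.left) :
    FlatMor.localDim U.left u = FlatMor.localDim (Points X) (Points.ofPt a u) := by
  have := t0Space_of_isDecent hX hd
  have := quasiSober_of_isDecent hX hd
  exact localDim_eq_of_open_generalizing (Points.continuous_ofPt a) (isOpenMap_ofPt ha)
    (generalizingMap_ofPt hX hd ha) (ofPt_strict hX hd ha) u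

theorem dim_chart_le : topologicalKrullDim U.left ≤ topologicalKrullDim (Points X) := by
  let := specializationOrder U.left
  have := t0Space_of_isDecent hX hd
  have := quasiSober_of_isDecent hX hd
  let := specializationOrder (Points X)
  unfold topologicalKrullDim
  rw [Order.krullDim_eq_of_orderIso (irreducibleSetEquivPoints (α := U.left)),
    Order.krullDim_eq_of_orderIso (irreducibleSetEquivPoints (α := Points X))]
  refine Order.krullDim_le_of_strictMono (Points.ofPt a) fun v w h => ?_
  refine lt_of_le_of_ne (show Points.ofPt a w ⤳ Points.ofPt a v from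
    Specializes.map (show w ⤳ v from h.le) (Points.continuous_ofPt a)) fun e => h.ne ?_
  exact (ofPt_strict hX hd ha w v h.le e.symm).symm

theorem stalkDim_chart (u : U.left) : ringKrullDim (U.left.presheaf.stalk u) =
    haveI := t0Space_of_isDecent hX hd
    ((@Order.coheight _ (specializationOrder (Points X)).toPreorder (Points.ofPt a u) : ℕ∞) : WithBot ℕ∞) := by
  have := t0Space_of_isDecent hX hd
  rw [ringKrullDim_stalk_eq_coheight]
  exact congrArg WithBot.some
    (coheight_eq_of_map (Points.continuous_ofPt a) (generalizingMap_ofPt hX hd ha) (ofPt_strict hX hd ha) u)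

end Decent

theorem topologicalKrullDim_points (hX : IsAlgSpace X) (hd : IsDecent X) :
    topologicalKrullDim (Points X) = dim X := by
  refine le_antisymm ?_ (iSup_le fun U => iSup_le fun a => iSup_le fun ha => dim_chart_le hX hd ha)
  obtain ⟨U, a, ha, has⟩ := hX.atlas
  have := t0Space_of_isDecent hX hd
  have := quasiSober_of_isDecent hX hd
  rw [← topologicalKrullDim_eq_of_generalizing (Points.continuous_ofPt a) (surjective_ofPt has)
    (generalizingMap_ofPt hX hd ha) (ofPt_strict hX hd ha)]
  exact le_iSup_of_le U (le_iSup_of_le a (le_iSup_of_le ha le_rfl))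

theorem coheight_eq_of_etale {A B : Scheme.{u}} (f : A ⟶ B) [Etale f] (a : A) :
    ringKrullDim (B.presheaf.stalk (f a)) = ringKrullDim (A.presheaf.stalk a) := by
  rw [ringKrullDim_stalk_eq_coheight, ringKrullDim_stalk_eq_coheight]
  have := lqf_of_etale f
  exact congrArg WithBot.some
    (coheight_eq_of_map f.continuous (Flat.generalizingMap f) (fun x y h e => eq_of_specializes_of_lqf f h e) a).symm

/-- The dimension of the local ring does not depend on the chart. -/
theorem stalkDim_eq (hX : IsAlgSpace X) {U V : Over S} {a : (yon S).obj U ⟶ X} (ha : RepWith @Etale a)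
    {b : (yon S).obj V ⟶ X} (hb : RepWith @Etale b) {u : U.left} {v : V.left}
    (e : Points.ofPt a u = Points.ofPt b v) :
    ringKrullDim (U.left.presheaf.stalk u) = ringKrullDim (V.left.presheaf.stalk v) := by
  obtain ⟨R, p, q, sq⟩ := exists_isPullback_of_representable (hX.representable_from_yon a) b
  obtain ⟨r, hr, hr'⟩ := (ofPt_eq_ofPt_iff sq u v).1 e
  have : Etale p.left := repWith_prop hb sq.flip
  have : Etale q.left := repWith_prop ha sq
  rw [← hr, ← hr', coheight_eq_of_etale, coheight_eq_of_etale]

theorem hasAt_stalkDim_iff (hX : IsAlgSpace X) {U : Over S} {a : (yon S).obj U ⟶ X} (ha : RepWith @Etale a)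
    (u : U.left) (P : WithBot ℕ∞ → Prop) :
    HasAt (fun V v => P (ringKrullDim (V.presheaf.stalk v))) X (Points.ofPt a u) ↔
      P (ringKrullDim (U.left.presheaf.stalk u)) := by
  refine ⟨?_, fun h => ⟨U, a, u, ha, rfl, h⟩⟩
  rintro ⟨V, b, v, hb, e, h⟩
  exact stalkDim_eq hX ha hb e.symm ▸ h

theorem hasAt_zero_iff (hX : IsAlgSpace X) (hd : IsDecent X) (x : Points X) :
    (∃ T ∈ irreducibleComponents (Points X), IsGenericPoint x T) ↔
      HasAt (fun U u => ringKrullDim (U.presheaf.stalk u) = 0) X x := by
  obtain ⟨U, a, ha, has⟩ := hX.atlas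
  obtain ⟨u, rfl⟩ := surjective_ofPt has x
  have := t0Space_of_isDecent hX hd
  have := quasiSober_of_isDecent hX hd
  rw [hasAt_stalkDim_iff hX ha u (fun d => d = 0), stalkDim_chart hX hd ha u, isGeneric_component_iff]
  exact WithBot.coe_eq_zero.symm

theorem isGeneric_iff_of_isEtaleMor {X Y : AlgSp.Space S} (hd : IsDecent X.obj) (f : Y ⟶ X)
    (hf : IsEtaleMor f.hom) (y : Points Y.obj) :
    (∃ T ∈ irreducibleComponents (Points Y.obj), IsGenericPoint y T) ↔
      (∃ T ∈ irreducibleComponents (Points X.obj), IsGenericPoint (Points.map f.hom y) T) := by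
  rw [hasAt_zero_iff X.property hd, hasAt_zero_iff Y.property (Groth.Agent.S10352.result f hf hd)]
  obtain ⟨V, b, hb, hbs⟩ := Y.property.atlas
  obtain ⟨v, rfl⟩ := surjective_ofPt hbs y
  rw [Points.map_ofPt, hasAt_stalkDim_iff Y.property hb v (fun d => d = 0),
    hasAt_stalkDim_iff X.property (hf b hb) v (fun d => d = 0)]

/-- Locally quasi-finite morphisms of schemes do not increase the local dimensions. -/
theorem stalkDim_le_of_lqf {A B : Scheme.{u}} (f : A ⟶ B) [LocallyQuasiFinite f] (a : A) :
    ringKrullDim (A.presheaf.stalk a) ≤ ringKrullDim (B.presheaf.stalk (f a)) := by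
  rw [ringKrullDim_stalk_eq_coheight, ringKrullDim_stalk_eq_coheight]
  exact WithBot.coe_le_coe.2 (Order.coheight_le_coheight_apply_of_strictMono f (fun x y h => by
    obtain ⟨h1, h2⟩ := lt_iff_le_not_ge.1 h
    refine lt_iff_le_not_ge.2 ⟨Specializes.map (show y ⤳ x from h1) f.continuous, fun h3 => h2 ?_⟩
    rw [eq_of_specializes_of_lqf f (show y ⤳ x from h1)
      ((Specializes.map (show y ⤳ x from h1) f.continuous).antisymm h3).eq]) a)

theorem dim_le_of_lqf {A B : Scheme.{u}} (f : A ⟶ B) [LocallyQuasiFinite f] :
    topologicalKrullDim A ≤ topologicalKrullDim B := by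
  let := specializationOrder A
  let := specializationOrder B
  unfold topologicalKrullDim
  rw [Order.krullDim_eq_of_orderIso (irreducibleSetEquivPoints (α := A)),
    Order.krullDim_eq_of_orderIso (irreducibleSetEquivPoints (α := B))]
  refine Order.krullDim_le_of_strictMono f fun v w h => ?_
  refine lt_of_le_of_ne (show f w ⤳ f v from Specializes.map (show w ⤳ v from h.le) f.continuous) fun e => h.ne ?_
  exact (eq_of_specializes_of_lqf f (show w ⤳ v from h.le) e.symm).symm

theorem dim_eq_of_etale_surjective {A B : Scheme.{u}} (f : A ⟶ B) [Etale f] [Surjective f] :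
    topologicalKrullDim A = topologicalKrullDim B :=
  have := lqf_of_etale f
  topologicalKrullDim_eq_of_generalizing f.continuous f.surjective (Flat.generalizingMap f)
    fun x y h e => eq_of_specializes_of_lqf f h e

/-- Codimension zero points are dense. -/
theorem dense_stalkDim_zero (hX : IsAlgSpace X) :
    Dense {x : Points X | HasAt (fun U u => ringKrullDim (U.presheaf.stalk u) = 0) X x} := by
  rw [dense_iff_inter_open]
  rintro O hO ⟨x, hx⟩
  obtain ⟨U, a, ha, has⟩ := hX.atlas
  obtain ⟨u, rfl⟩ := surjective_ofPt has x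
  obtain ⟨η, hη, hηu⟩ := SoberTop.exists_minPts (isClosed_univ (X := U.left)) (Set.mem_univ u)
  refine ⟨Points.ofPt a η, (hηu.map (Points.continuous_ofPt a)).mem_open hO hx, U, a, η, ha, rfl, ?_⟩
  show ringKrullDim _ = 0
  rw [ringKrullDim_stalk_eq_coheight, WithBot.coe_eq_zero, Order.coheight_eq_zero]
  intro w hw
  have : w = η := hη.2 w trivial (show w ⤳ η from hw)
  exact this ▸ le_rfl

end Groth.L23.Pt
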