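import Groth.Agent.L23.Points

/-!
# Properties of morphisms of algebraic spaces defined through points or quasi-compact test spaces
-/

universe u

open CategoryTheory CategoryTheory.Limits AlgebraicGeometry Opposite AlgSp Topology

set_option backward.isDefEq.respectTransparency.types false

namespace Groth.L23

attribute [local simp] pullback.lift_fst pullback.lift_snd pullback.lift_fst_assoc
  pullback.lift_snd_assoc

variable {S : Scheme.{u}} {F G H P : Sp S}

theorem univSp_of_isPullback {Q : MorphismProperty (Sp S)} {F' G' : Sp S} {f : F ⟶ G}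
    {a : F' ⟶ F} {b : G' ⟶ G} {f' : F' ⟶ G'} (sq : IsPullback a f' f b) (h : UnivSp Q f) :
    UnivSp Q f' :=
  fun _ _ hZ g fst snd sq' => h hZ (g ≫ b) (fst ≫ a) snd (sq'.paste_horiz sq)

theorem qcMor_of_isPullback {F' G' : Sp S} {f : F ⟶ G}
    {a : F' ⟶ F} {b : G' ⟶ G} {f' : F' ⟶ G'} (sq : IsPullback a f' f b) (h : IsQuasiCompactMor f) :
    IsQuasiCompactMor f' :=
  fun _ _ hZ hq g fst snd sq' => h hZ hq (g ≫ b) (fst ≫ a) snd (sq'.paste_horiz sq)

lemma isQuasiCompactSp_of_compactSpace {T : Over S} [CompactSpace T.left] :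
    IsQuasiCompactSp ((yon S).obj T) :=
  ⟨T, 𝟙 _, AlgSp.repWith_id _ T, AlgSp.repWith_id _ T, inferInstance⟩

lemma compactSpace_of_isQuasiCompactSp {T : Over S} (h : IsQuasiCompactSp ((yon S).obj T)) :
    CompactSpace T.left := by
  obtain ⟨U, p, -, hs, hU⟩ := h
  obtain ⟨φ, rfl⟩ := (yon S).map_surjective p
  have : Surjective φ.left := (repWith_yon_map_iff _ _).1 hs
  exact φ.left.surjective.compactSpace φ.left.continuous

theorem isQuasiCompactMor_of_repWith {f : F ⟶ G} (h : RepWith @QuasiCompact f) :
    IsQuasiCompactMor f := by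
  intro Z Z' hZ hqc g fst snd sq
  obtain ⟨U, p, he, hs, hU⟩ := hqc
  have h' := repWith_of_isPullback sq h
  have sq' := h'.1.isPullback p
  have := repWith_snd h' p
  exact ⟨_, h'.1.fst p, repWith_of_isPullback sq'.flip he, repWith_of_isPullback sq'.flip hs,
    QuasiCompact.compactSpace_of_compactSpace (h'.1.snd p).left⟩

theorem repWith_quasiCompact_of_isQuasiCompactMor {f : F ⟶ G} (hf : Representable f)
    (h : IsQuasiCompactMor f) : RepWith @QuasiCompact f :=
  repWith_of_snd hf fun U g => by
    rw [quasiCompact_iff_forall_isAffineOpen]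
    intro W hW
    let W' : Over S := Over.mk (W.ι ≫ U.hom)
    let j : W' ⟶ U := Over.homMk W.ι rfl
    have : IsAffine W'.left := hW
    have sq₀ := IsPullback.of_hasPullback (hf.snd g) j
    have := compactSpace_of_isQuasiCompactSp (h (IsAlgSpace.yon_obj W')
      isQuasiCompactSp_of_compactSpace _ _ _ ((sq₀.map (yon S)).paste_horiz (hf.isPullback g)))
    have sq₁ := sq₀.map (Over.forget S)
    have : CompactSpace ((Over.forget S).obj (pullback (hf.snd g) j) : Scheme) := this
    have hc : CompactSpace (Limits.pullback (hf.snd g).left W.ι : Scheme) :=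
      sq₁.isoPullback.hom.homeomorph.compactSpace
    have := isCompact_range (Scheme.Hom.continuous (pullback.fst (hf.snd g).left W.ι))
    rw [Scheme.Pullback.range_fst, W.range_ι] at this
    exact this

lemma isClosedMap_yon_map_iff {U V : Over S} (φ : U ⟶ V) :
    IsClosedMap (Points.map ((yon S).map φ)) ↔ IsClosedMap φ.left := by
  rw [Points.map_yon_map_eq]
  constructor
  · intro h
    have := ((Points.schemeHomeo V).symm.isClosedMap.comp h).comp (Points.schemeHomeo U).isClosedMap
    simpa [Function.comp_def] using this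
  · exact fun h =>
      (Points.schemeHomeo V).isClosedMap.comp (h.comp (Points.schemeHomeo U).symm.isClosedMap)

lemma isOpenMap_yon_map_iff {U V : Over S} (φ : U ⟶ V) :
    IsOpenMap (Points.map ((yon S).map φ)) ↔ IsOpenMap φ.left := by
  rw [Points.map_yon_map_eq]
  constructor
  · intro h
    have := ((Points.schemeHomeo V).symm.isOpenMap.comp h).comp (Points.schemeHomeo U).isOpenMap
    simpa [Function.comp_def] using this
  · exact fun h =>
      (Points.schemeHomeo V).isOpenMap.comp (h.comp (Points.schemeHomeo U).symm.isOpenMap)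

lemma injective_yon_map_iff {U V : Over S} (φ : U ⟶ V) :
    Function.Injective (Points.map ((yon S).map φ)) ↔ Function.Injective φ.left := by
  rw [Points.map_yon_map_eq, EquivLike.comp_injective, EquivLike.injective_comp]

/-- A universal property over test schemes gives the scheme property on every representing pullback. -/
lemma universally_of_univSp {Q : MorphismProperty (Sp S)} {T : MorphismProperty Scheme.{u}}
    (hT : ∀ {U V : Over S} (φ : U ⟶ V), Q ((yon S).map φ) → T φ.left) {f : F ⟶ G}
    (hf : Representable f) (h : UnivSp Q f) {U : Over S} (g : (yon S).obj U ⟶ G) :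
    T.universally (hf.snd g).left := by
  intro X' Y' i₁ i₂ f' sq
  let Y₁ : Over S := Over.mk (i₂ ≫ U.hom)
  let X₁ : Over S := Over.mk (f' ≫ i₂ ≫ U.hom)
  let j₂ : Y₁ ⟶ U := Over.homMk i₂ rfl
  let j₁ : X₁ ⟶ hf.pullback g := Over.homMk i₁ (by
    change i₁ ≫ _ = f' ≫ i₂ ≫ U.hom
    rw [← Over.w (hf.snd g), ← Category.assoc, ← sq.w, Category.assoc])
  let k : X₁ ⟶ Y₁ := Over.homMk f' rfl
  have sq₁ : IsPullback j₁ k (hf.snd g) j₂ := IsPullback.of_map_of_faithful (Over.forget S) sq.flip
  exact hT k (h (IsAlgSpace.yon_obj Y₁) _ _ _ ((sq₁.map (yon S)).paste_horiz (hf.isPullback g)))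

theorem repWith_universallyClosed_iff {f : F ⟶ G} (hf : Representable f) :
    RepWith @UniversallyClosed f ↔ IsUnivClosedMor f :=
  ⟨fun h _ _ _ g _ _ sq => by
    have h' := repWith_of_isPullback sq h
    exact isClosedMap_map_of_representable h'.1 fun _ k =>
      (repWith_snd h' k).universally_isClosedMap _ _ _ IsPullback.of_id_snd,
  fun h => repWith_of_snd hf fun _ g =>
    ⟨universally_of_univSp (fun φ hφ => (isClosedMap_yon_map_iff φ).1 hφ) hf h g⟩⟩

theorem repWith_universallyOpen_iff {f : F ⟶ G} (hf : Representable f) :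
    RepWith @UniversallyOpen f ↔ IsUnivOpenMor f :=
  ⟨fun h _ _ _ g _ _ sq => isOpenMap_map_of_universallyOpen (repWith_of_isPullback sq h),
  fun h => repWith_of_snd hf fun _ g =>
    ⟨universally_of_univSp (fun φ hφ => (isOpenMap_yon_map_iff φ).1 hφ) hf h g⟩⟩

theorem repWith_universallyInjective_iff {f : F ⟶ G} (hf : Representable f) :
    RepWith @UniversallyInjective f ↔ IsUnivInjectiveMor f :=
  ⟨fun h _ _ _ g _ _ sq => injective_map_of_repWith (repWith_of_isPullback sq h),
  fun h => repWith_of_snd hf fun _ g =>
    ⟨universally_of_univSp (fun φ hφ => (injective_yon_map_iff φ).1 hφ) hf h g⟩⟩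

section Separation

variable {Q : MorphismProperty Scheme.{u}}

theorem diagonal_repWith_iff [Q.IsStableUnderBaseChange] {f : F ⟶ G} (hf : Representable f) :
    RepWith Q (pullback.diagonal f) ↔ RepWith Q.diagonal f := by
  constructor
  · intro h
    refine repWith_of_snd hf fun U g => ?_
    have h' : (RepWith (S := S) Q).diagonal f := h
    have := MorphismProperty.of_isPullback (P := (RepWith (S := S) Q).diagonal) (hf.isPullback g) h'
    exact (repWith_diagonal_yon_map_iff Q _).1 this
  · intro h
    refine repWith_of_exists fun E e => ?_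
    let r := e ≫ pullback.fst _ _ ≫ f
    let s : hf.pullback r ⟶ E := hf.snd r
    let σ := hf.lift (g := r) (e ≫ pullback.fst _ _) (𝟙 E) (by simp [r])
    let τ := hf.lift (g := r) (e ≫ pullback.snd _ _) (𝟙 E) (by simp [r, pullback.condition])
    have hd : RepWith Q (pullback.diagonal ((yon S).map s)) :=
      (repWith_diagonal_yon_map_iff Q s).2 (repWith_snd h r)
    let m : (yon S).obj E ⟶ pullback.diagonalObj ((yon S).map s) :=
      pullback.lift ((yon S).map σ) ((yon S).map τ) (by
        rw [← Functor.map_comp, ← Functor.map_comp]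
        simp [σ, τ, s])
    have sqm := hd.1.isPullback m
    have hP := repWith_snd hd m
    let c : pullback.diagonalObj ((yon S).map s) ⟶ pullback.diagonalObj f :=
      pullback.map _ _ _ _ (hf.fst r) (hf.fst r) r (hf.w r).symm (hf.w r).symm
    have sqc : IsPullback (hf.fst r) (pullback.diagonal ((yon S).map s)) (pullback.diagonal f) c := by
      refine IsPullback.mk' (by apply pullback.hom_ext <;> simp [c]) ?_ ?_
      · intro T φ φ' _ h₂
        simpa using h₂ =≫ pullback.fst _ _
      · intro T a b w
        have w₁ : a = b ≫ pullback.fst _ _ ≫ hf.fst r := by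
          simpa [c] using w =≫ pullback.fst f f
        have w₂ : a = b ≫ pullback.snd _ _ ≫ hf.fst r := by
          simpa [c] using w =≫ pullback.snd f f
        refine ⟨b ≫ pullback.fst _ _, by simp [w₁], ?_⟩
        apply pullback.hom_ext
        · simp
        · simp only [Category.assoc, pullback.diagonal_snd, Category.comp_id]
          apply (hf.isPullback r).hom_ext
          · simp [← w₁, ← w₂]
          · simpa using congrArg (b ≫ ·) (pullback.condition (f := (yon S).map s) (g := (yon S).map s))
    have hme : m ≫ c = e := by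
      apply pullback.hom_ext <;> simp [m, c, σ, τ, pullback.lift_fst, pullback.lift_snd,
        pullback.lift_fst_assoc, pullback.lift_snd_assoc]
    exact ⟨_, _, _, hme ▸ sqm.paste_horiz sqc, hP⟩

theorem isSeparatedMor_iff {f : F ⟶ G} (hf : Representable f) :
    IsSeparatedMor f ↔ RepWith @IsSeparated f := by
  refine (diagonal_repWith_iff hf).trans ?_
  rw [← IsSeparated.isSeparated_eq_diagonal_isClosedImmersion]

theorem isQuasiSeparatedMor_iff {f : F ⟶ G} (hf : Representable f) :
    IsQuasiSeparatedMor f ↔ RepWith @QuasiSeparated f := by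
  refine (diagonal_repWith_iff hf).trans ?_
  rw [← quasiSeparated_eq_diagonal_is_quasiCompact]

end Separation

end Groth.L23
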