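import Groth.Prelude.Def_Flat
import Groth.Prelude.Def_SGA1
import Groth.Agent.L23.Univ
import Mathlib.AlgebraicGeometry.Morphisms.Immersion
import Mathlib.AlgebraicGeometry.Morphisms.UniversallyInjective

/-!
# More properties of representable morphisms read off from points
-/

universe u

open CategoryTheory CategoryTheory.Limits AlgebraicGeometry Opposite AlgSp Topology

set_option backward.isDefEq.respectTransparency.types false

namespace Groth.L23

variable {S : Scheme.{u}} {F G : Sp S}

instance : SGA1.UnivSubmersive.{u}.IsStableUnderBaseChange :=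
  inferInstanceAs (MorphismProperty.universally _).IsStableUnderBaseChange

instance : FlatMor.IsUnivHomeo.{u}.IsStableUnderBaseChange :=
  inferInstanceAs (MorphismProperty.universally _).IsStableUnderBaseChange

theorem isQuotientMap_map_of_representable {f : F ⟶ G} (hf : Representable f)
    (h : ∀ (U : Over S) (g : (yon S).obj U ⟶ G), IsQuotientMap (hf.snd g).left) :
    IsQuotientMap (Points.map f) := by
  refine (isQuotientMap_iff _).2 ⟨isCoinducing_iff.2 fun W => ⟨fun hW => ?_, fun hW => hW.preimage (Points.continuous_map f)⟩, fun y => ?_⟩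
  · refine Points.isOpen_iff.2 fun T g => ((h T g).isOpen_preimage).1 ?_
    have e : (hf.snd g).left ⁻¹' (Points.ofPt g ⁻¹' W) = Points.ofPt (hf.fst g) ⁻¹' (Points.map f ⁻¹' W) := by
      ext v
      simp only [Set.mem_preimage]
      rw [map_ofPt_of_isPullback (hf.isPullback g)]
    rw [e]
    exact hW.preimage (Points.continuous_ofPt _)
  · obtain ⟨T, g, t, rfl⟩ := exists_eq_ofPt y
    obtain ⟨v, rfl⟩ := (h T g).surjective t
    exact ⟨_, map_ofPt_of_isPullback (hf.isPullback g) v⟩

lemma isQuotientMap_yon_map_iff {U V : Over S} (φ : U ⟶ V) :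
    IsQuotientMap (Points.map ((yon S).map φ)) → IsQuotientMap φ.left := by
  rw [Points.map_yon_map_eq]
  intro h
  have := ((Points.schemeHomeo V).symm.isQuotientMap.comp h).comp (Points.schemeHomeo U).isQuotientMap
  simpa [Function.comp_def] using this

lemma isHomeomorph_yon_map_iff {U V : Over S} (φ : U ⟶ V) :
    IsHomeomorph (Points.map ((yon S).map φ)) → IsHomeomorph φ.left := by
  rw [Points.map_yon_map_eq]
  intro h
  have := ((Points.schemeHomeo V).symm.isHomeomorph.comp h).comp (Points.schemeHomeo U).isHomeomorph
  simpa [Function.comp_def] using this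

theorem repWith_univSubmersive_iff {f : F ⟶ G} (hf : Representable f) :
    RepWith SGA1.UnivSubmersive f ↔ IsUnivSubmersiveMor f :=
  ⟨fun h _ _ _ g _ _ sq => by
    have h' := repWith_of_isPullback sq h
    exact isQuotientMap_map_of_representable h'.1 fun U k =>
      (repWith_snd h' k) _ _ _ IsPullback.of_id_snd,
  fun h => repWith_of_snd hf fun _ g =>
    universally_of_univSp (fun φ hφ => isQuotientMap_yon_map_iff φ hφ) hf h g⟩

theorem repWith_isUnivHomeo_iff {f : F ⟶ G} (hf : Representable f) :
    RepWith FlatMor.IsUnivHomeo f ↔ IsUnivHomeoMor f :=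
  ⟨fun h Z Z' _ g fst snd sq => by
    have h' := repWith_of_isPullback sq h
    have hh : ∀ (U : Over S) (k : (yon S).obj U ⟶ Z), IsHomeomorph (h'.1.snd k).left := fun U k =>
      (repWith_snd h' k) _ _ _ IsPullback.of_id_snd
    refine ⟨Points.continuous_map _, isOpenMap_map_of_representable h'.1 fun U k => (hh U k).isOpenMap,
      injective_map_of_repWith (f := snd) ?_, surjective_map_of_repWith (f := snd) ?_⟩
    · exact repWith_mono (fun φ (hφ : FlatMor.IsUnivHomeo φ) =>
        ⟨fun _ _ i₁ i₂ φ' sq' => IsHomeomorph.injective (hφ i₁ i₂ φ' sq')⟩) h'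
    · exact repWith_of_snd h'.1 fun U k => ⟨(hh U k).surjective⟩,
  fun h => repWith_of_snd hf fun _ g =>
    universally_of_univSp (fun φ hφ => isHomeomorph_yon_map_iff φ hφ) hf h g⟩

theorem repWith_universallyInjective_iff_fieldPoints {f : F ⟶ G} (hf : Representable f) :
    RepWith @UniversallyInjective f ↔ ∀ (K : Type u) [Field K] (str : Spec (CommRingCat.of K) ⟶ S),
      Function.Injective (fun a : (yon S).obj (Over.mk str) ⟶ F => a ≫ f) := by
  constructor
  · intro h K _ str a b e
    let r := a ≫ f
    let σ := hf.lift (g := r) a (𝟙 _) (by simp [r])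
    let τ := hf.lift (g := r) b (𝟙 _) (by simp [r]; exact e.symm)
    have h₁ : (yon S).map σ ≫ hf.fst r = a := hf.lift_fst _ _ _
    have h₂ : (yon S).map τ ≫ hf.fst r = b := hf.lift_fst _ _ _
    rw [← h₁, ← h₂]
    congr 2
    ext1
    refine ((tfae_universallyInjective (hf.snd r).left).out 0 1 : UniversallyInjective (hf.snd r).left ↔ ∀ (K : Type u) [Field K], Function.Injective (fun g : Spec (.of K) ⟶ (hf.pullback r).left => g ≫ (hf.snd r).left)).1 (repWith_snd h r) K ?_
    exact congrArg Over.Hom.left ((hf.lift_snd (g := r) _ _ _).trans (hf.lift_snd (g := r) _ _ _).symm)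
  · intro h
    refine repWith_of_snd hf fun U g => ?_
    refine ((tfae_universallyInjective (hf.snd g).left).out 0 1 : UniversallyInjective (hf.snd g).left ↔ ∀ (K : Type u) [Field K], Function.Injective (fun k : Spec (.of K) ⟶ (hf.pullback g).left => k ≫ (hf.snd g).left)).2 fun K _ a b e => ?_
    change a ≫ _ = b ≫ _ at e
    let str := a ≫ (hf.pullback g).hom
    have hb : b ≫ (hf.pullback g).hom = str := by
      change _ = a ≫ _
      rw [← Over.w (hf.snd g), ← Category.assoc, ← Category.assoc, e]
    let a' : Over.mk str ⟶ hf.pullback g := Over.homMk a rfl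
    let b' : Over.mk str ⟶ hf.pullback g := Over.homMk b hb
    have e' : a' ≫ hf.snd g = b' ≫ hf.snd g := by ext1; exact e
    suffices a' = b' from congrArg Over.Hom.left this
    apply (yon S).map_injective
    apply (hf.isPullback g).hom_ext
    · refine h K str ?_
      change (_ ≫ _) ≫ f = (_ ≫ _) ≫ f
      rw [Category.assoc, Category.assoc, hf.w g, ← Category.assoc, ← Category.assoc,
        ← Functor.map_comp, ← Functor.map_comp, e']
    · rw [← Functor.map_comp, ← Functor.map_comp, e']

theorem repWith_isClosedImmersion_iff {f : F ⟶ G} (h : RepWith @IsImmersion f) :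
    RepWith @IsClosedImmersion f ↔ IsClosed (Set.range (Points.map f)) := by
  have key : ∀ (U : Over S) (g : (yon S).obj U ⟶ G),
      Points.ofPt g ⁻¹' Set.range (Points.map f) = Set.range (h.1.snd g).left := fun U g => by
    rw [← Set.image_univ, preimage_image_map (h.1.isPullback g), Set.preimage_univ, Set.image_univ]
  constructor
  · intro hc
    refine isOpen_compl_iff.1 (Points.isOpen_iff.2 fun U g => ?_)
    rw [Set.preimage_compl, key, isOpen_compl_iff]
    have := repWith_snd (P := @IsClosedImmersion) ⟨h.1, hc.2⟩ g
    exact (h.1.snd g).left.isClosedEmbedding.isClosed_range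
  · intro hc
    refine repWith_of_snd h.1 fun U g => ?_
    have := repWith_snd h g
    refine IsClosedImmersion.of_isPreimmersion _ ?_
    rw [← key]
    exact hc.preimage (Points.continuous_ofPt _)

end Groth.L23
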