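import Groth.Agent.L23.LocP
import Groth.Agent.L23.PointProps
import Groth.Prelude.Def_AlgSpDec
import Mathlib.AlgebraicGeometry.ZariskisMainTheorem

/-!
# Quasi-finite points of a morphism of algebraic spaces
-/

universe u

open CategoryTheory CategoryTheory.Limits AlgebraicGeometry Opposite AlgSp Topology

set_option backward.isDefEq.respectTransparency.types false

namespace Groth.L23.QFL

variable {S : Scheme.{u}}

/-- Quasi-finite near a point. -/
abbrev qfAt (U V : Scheme.{u}) (h : U ⟶ V) (u : U) : Prop :=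
  ∃ W : U.Opens, u ∈ W ∧ LocallyQuasiFinite (W.ι ≫ h) ∧ LocallyOfFiniteType (W.ι ≫ h)

theorem qfAt_iff_quasiFiniteAt {U V : Scheme.{u}} (h : U ⟶ V) [LocallyOfFiniteType h] (u : U) :
    qfAt U V h u ↔ h.QuasiFiniteAt u := by
  refine ⟨fun ⟨W, hu, h₁, h₂⟩ => ?_, fun hu => ⟨h.quasiFiniteLocus, hu, inferInstance, inferInstance⟩⟩
  have := (Scheme.Hom.quasiFiniteAt_comp_iff_of_isOpenImmersion (f := W.ι) (g := h) (x := ⟨u, hu⟩)).1
    ((W.ι ≫ h).quasiFiniteAt _)
  exact this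

theorem qfAt_precomp_iff {U' U V : Scheme.{u}} (e : U' ⟶ U) [Etale e] (h : U ⟶ V) (u : U') :
    qfAt U' V (e ≫ h) u ↔ qfAt U V h (e u) := by
  constructor
  · rintro ⟨W, hu, h₁, h₂⟩
    let W' : U.Opens := ⟨e '' W, e.isOpenMap _ W.2⟩
    have hle : W ≤ e ⁻¹ᵁ W' := fun z hz => ⟨z, hz, rfl⟩
    let e' : (W : Scheme.{u}) ⟶ W' := e.resLE W' W hle
    have he' : e' ≫ W'.ι = W.ι ≫ e := e.resLE_comp_ι hle
    have : Etale e' := by
      have : Etale (e' ≫ W'.ι) := by rw [he']; infer_instance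
      exact Etale.of_comp e' W'.ι
    have : Surjective e' := ⟨fun ⟨z, hz⟩ => by
      obtain ⟨y, hy, rfl⟩ := hz
      refine ⟨⟨y, hy⟩, W'.ι.isOpenEmbedding.injective ?_⟩
      rw [← Scheme.Hom.comp_apply, he']
      rfl⟩
    have hh : ((@LocallyQuasiFinite : MorphismProperty Scheme.{u}) ⊓ @LocallyOfFiniteType) (e' ≫ W'.ι ≫ h) := by
      rw [← Category.assoc, he', Category.assoc]; exact ⟨h₁, h₂⟩
    obtain ⟨g₁, g₂⟩ := etLocal_lqfLft.source e' (W'.ι ≫ h) ‹_› ‹_› hh
    exact ⟨W', ⟨u, hu, rfl⟩, g₁, g₂⟩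
  · rintro ⟨W, hu, h₁, h₂⟩
    refine ⟨e ⁻¹ᵁ W, hu, ?_, ?_⟩ <;>
    · rw [← Category.assoc, ← morphismRestrict_ι, Category.assoc]
      infer_instance

theorem qfAt_postcomp_iff {U V V' : Scheme.{u}} (h : U ⟶ V) (e : V ⟶ V') [Etale e] (u : U) :
    qfAt U V' (h ≫ e) u ↔ qfAt U V h u := by
  refine exists_congr fun W => and_congr_right fun _ => ⟨fun ⟨h₁, h₂⟩ => ?_, fun ⟨h₁, h₂⟩ => ?_⟩
  · rw [← Category.assoc] at h₁ h₂
    exact etLocal_lqfLft.of_comp_etale (W.ι ≫ h) e ⟨h₁, h₂⟩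
  · rw [← Category.assoc]
    exact ⟨inferInstance, inferInstance⟩

theorem qfAt_lqfLft {U V : Scheme.{u}} (h : U ⟶ V) (H : ∀ u, qfAt U V h u) :
    ((@LocallyQuasiFinite : MorphismProperty Scheme.{u}) ⊓ @LocallyOfFiniteType) h := by
  choose W hW h₁ h₂ using H
  have hc : TopologicalSpace.IsOpenCover W :=
    TopologicalSpace.Opens.coe_eq_univ.1 (Set.eq_univ_of_forall fun u => by simpa using ⟨u, hW u⟩)
  exact ⟨(IsZariskiLocalAtSource.iff_of_openCover (P := @LocallyQuasiFinite) (U.openCoverOfIsOpenCover W hc)).2 h₁,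
    (IsZariskiLocalAtSource.iff_of_openCover (P := @LocallyOfFiniteType) (U.openCoverOfIsOpenCover W hc)).2 h₂⟩

variable {X Y : Sp S}

theorem qfAt_of_other_chart {f : X ⟶ Y} {U V U' V' : Over S} {a : (yon S).obj U ⟶ X}
    {b : (yon S).obj V ⟶ Y} {h : U ⟶ V} {a' : (yon S).obj U' ⟶ X} {b' : (yon S).obj V' ⟶ Y}
    {h' : U' ⟶ V'} (ha : RepWith @Etale a) (hb : RepWith @Etale b) (ha' : RepWith @Etale a')
    (hb' : RepWith @Etale b') (w : a ≫ f = (yon S).map h ≫ b) (w' : a' ≫ f = (yon S).map h' ≫ b')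
    {u : U.left} {u' : U'.left} (e : Points.ofPt a' u' = Points.ofPt a u) :
    qfAt U'.left V'.left h'.left u' ↔ qfAt U.left V.left h.left u := by
  obtain ⟨U₂, p', p, sqU⟩ := exists_isPullback_of_representable ha'.1 a
  obtain ⟨V₂, r', r, sqV⟩ := exists_isPullback_of_representable hb'.1 b
  have hp : Etale p.left := repWith_prop ha' sqU
  have hr : Etale r.left := repWith_prop hb' sqV
  have hp' : Etale p'.left := repWith_prop ha sqU.flip
  have hr' : Etale r'.left := repWith_prop hb sqV.flip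
  obtain ⟨l, hl', hl⟩ := exists_lift_yon sqV (p' ≫ h') (p ≫ h) (by
    rw [Functor.map_comp, Functor.map_comp, Category.assoc, Category.assoc, ← w, ← w', ← Category.assoc,
      ← Category.assoc, sqU.w])
  obtain ⟨v, hv, hv'⟩ := exists_point_of_isPullback sqU (x := Points.ofScheme U' u') (u := u) (by
    rw [← Points.ofPt_eq_map_ofScheme, e])
  replace hv : p'.left v = u' := (Points.schemeEquiv U').injective (by
    show Points.ofScheme U' _ = Points.ofScheme U' _
    rw [← ofPt_map]; exact hv)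
  subst hv hv'
  rw [← qfAt_precomp_iff p'.left h'.left v, ← qfAt_precomp_iff p.left h.left v, ← Over.comp_left, ← hl',
    ← Over.comp_left, ← hl, Over.comp_left, Over.comp_left, qfAt_postcomp_iff, qfAt_postcomp_iff]

/-- One chart diagram decides quasi-finiteness at a point. -/
theorem hasAtMor_iff {f : X ⟶ Y} {U V : Over S} {a : (yon S).obj U ⟶ X} {b : (yon S).obj V ⟶ Y} {h : U ⟶ V}
    (ha : RepWith @Etale a) (hb : RepWith @Etale b) (w : a ≫ f = (yon S).map h ≫ b) (u : U.left) :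
    HasAtMor qfAt f (Points.ofPt a u) ↔ qfAt U.left V.left h.left u := by
  refine ⟨?_, fun H => ⟨U, V, a, b, h, u, ha, hb, w, rfl, H⟩⟩
  rintro ⟨U', V', a', b', h', u', ha', hb', w', e, H⟩
  exact (qfAt_of_other_chart ha hb ha' hb' w w' e).1 H

/-- The quasi-finite locus is open. -/
theorem isOpen_qfSet (f : X ⟶ Y) : IsOpen {x | HasAtMor qfAt f x} := by
  rw [isOpen_iff_forall_mem_open]
  rintro x ⟨U, V, a, b, h, u, ha, hb, w, rfl, W, hu, h₁, h₂⟩
  refine ⟨Points.ofPt a '' W, ?_, isOpenMap_ofPt ha _ W.2, ⟨u, hu, rfl⟩⟩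
  rintro _ ⟨z, hz, rfl⟩
  exact ⟨U, V, a, b, h, z, ha, hb, w, rfl, W, hz, h₁, h₂⟩

theorem hasAtMor_of_locP (hX : IsAlgSpace X) (hY : IsAlgSpace Y) {f : X ⟶ Y}
    (hf : LocP (@LocallyQuasiFinite ⊓ @LocallyOfFiniteType) f) (x : Points X) : HasAtMor qfAt f x := by
  obtain ⟨U, V, a, b, h, ha, has, hb, -, w⟩ := exists_chart hX hY f
  obtain ⟨z, rfl⟩ := surjective_ofPt has x
  obtain ⟨h₁, h₂⟩ := hf a b h ha hb w
  exact (hasAtMor_iff ha hb w z).2 ⟨⊤, trivial, inferInstance, inferInstance⟩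

theorem locP_of_hasAtMor {f : X ⟶ Y} (H : ∀ x, HasAtMor qfAt f x) :
    LocP (@LocallyQuasiFinite ⊓ @LocallyOfFiniteType) f :=
  fun _ _ _ _ h ha hb w => qfAt_lqfLft h.left fun u => (hasAtMor_iff ha hb w u).1 (H _)

/-- Quasi-finiteness on a piece etale over the space. -/
theorem hasAtMor_comp_iff {X₀ : Sp S} (hX₀ : IsAlgSpace X₀) (hY : IsAlgSpace Y) {j : X₀ ⟶ X}
    (hj : RepWith @Etale j) {f : X ⟶ Y} (x : Points X₀) :
    HasAtMor qfAt (j ≫ f) x ↔ HasAtMor qfAt f (Points.map j x) := by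
  obtain ⟨U, V, a, b, h, ha, has, hb, -, w⟩ := exists_chart hX₀ hY (j ≫ f)
  obtain ⟨z, rfl⟩ := surjective_ofPt has x
  rw [Points.map_ofPt, hasAtMor_iff ha hb w z,
    hasAtMor_iff (repWith_comp ha hj) hb ((Category.assoc _ _ _).trans w) z]

/-- Quasi-finiteness is stable under base change. -/
theorem hasAtMor_of_isPullback {X' Y' : Sp S} (hY' : IsAlgSpace Y') {f : X ⟶ Y} {g : Y' ⟶ Y} {p : X' ⟶ X}
    {f' : X' ⟶ Y'} (sq : IsPullback p f' f g) {x' : Points X'} (hx : HasAtMor qfAt f (Points.map p x')) :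
    HasAtMor qfAt f' x' := by
  obtain ⟨U, V, a, b, h, u, ha, hb, w, e, W, hu, h₁, h₂⟩ := hx
  obtain ⟨V₀, d, hd, hds⟩ := hY'.atlas
  obtain ⟨V₁, r, s, sV⟩ := exists_isPullback_of_representable hb.1 (d ≫ g)
  let b' : (yon S).obj V₁ ⟶ Y' := (yon S).map s ≫ d
  have hb' : RepWith @Etale b' := repWith_comp (repWith_of_isPullback sV hb) hd
  have sU := IsPullback.of_hasPullback h r
  have sUV : IsPullback (pullback.fst h r).left (pullback.snd h r).left h.left r.left := sU.map (Over.forget S)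
  obtain ⟨a', ha'₁, ha'₂⟩ := sq.exists_lift ((yon S).map (pullback.fst h r) ≫ a)
    ((yon S).map (pullback.snd h r) ≫ b') (by
      rw [Category.assoc, w, ← Functor.map_comp_assoc, pullback.condition, Functor.map_comp_assoc, sV.w]
      simp only [b', Category.assoc])
  obtain ⟨R, pu, px, sR⟩ : ∃ (R : Sp S) (pu : R ⟶ (yon S).obj U) (px : R ⟶ X'), IsPullback pu px a p :=
    ⟨_, _, _, IsPullback.of_hasPullback a p⟩
  have sRY : IsPullback pu (px ≫ f') (a ≫ f) g := sR.paste_vert sq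
  obtain ⟨k, hk₁, hk₂⟩ := sR.exists_lift ((yon S).map (pullback.fst h r)) a' ha'₁.symm
  have hk₂' : k ≫ px ≫ f' = (yon S).map (pullback.snd h r) ≫ b' := by rw [reassoc_of% hk₂, ha'₂]
  have sK : IsPullback k ((yon S).map (pullback.snd h r) ≫ (yon S).map s) (px ≫ f') d := by
    refine (IsPullback.of_bot ?_ ?_ sRY.flip).flip
    · rw [hk₁]
      have := ((sU.map (yon S)).paste_vert sV)
      rw [← w] at this
      exact this.flip
    · rw [hk₂', Category.assoc]
  have hk : RepWith @Etale k := repWith_of_isPullback sK.flip hd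
  have hpx : RepWith @Etale px := repWith_of_isPullback sR ha
  have ha' : RepWith @Etale a' := hk₂ ▸ repWith_comp hk hpx
  obtain ⟨ρ, hρ₁, hρ₂⟩ := exists_of_isPullback sR (Points.ofScheme U u) x' (by
    rw [← Points.ofPt_eq_map_ofScheme, e])
  obtain ⟨z, hz⟩ : ∃ z, Points.ofPt k z = ρ := by
    have : RepWith @Surjective k := repWith_of_isPullback sK.flip hds
    exact surjective_ofPt this ρ
  have hzu : (pullback.fst h r).left z = u := (Points.schemeEquiv U).injective (by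
    show Points.ofScheme U _ = Points.ofScheme U _
    rw [← ofPt_map, ← hk₁, ← Points.map_ofPt, hz, hρ₁])
  refine ⟨_, V₁, a', b', pullback.snd h r, z, ha', hb', ha'₂, by rw [← hk₂, ← Points.map_ofPt, hz, hρ₂],
    (pullback.fst h r).left ⁻¹ᵁ W, (by show (pullback.fst h r).left z ∈ W; rw [hzu]; exact hu), ?_⟩
  exact MorphismProperty.of_isPullback (P := (@LocallyQuasiFinite ⊓ @LocallyOfFiniteType : MorphismProperty Scheme.{u}))
    ((isPullback_morphismRestrict (pullback.fst h r).left W).paste_vert sUV) ⟨h₁, h₂⟩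

end Groth.L23.QFL
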