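import Groth.Agent.L23.Univ

/-!
# Quasi-compact algebraic spaces and morphisms
-/

universe u

open CategoryTheory CategoryTheory.Limits AlgebraicGeometry Opposite AlgSp Topology

set_option backward.isDefEq.respectTransparency.types false

namespace Groth.L23

variable {S : Scheme.{u}} {F G : Sp S}

lemma repWith_etale_openMk {U : Over S} (W : U.left.Opens) :
    RepWith @Etale ((yon S).map (Over.homMk W.ι rfl : Over.mk (W.ι ≫ U.hom) ⟶ U)) :=
  repWith_map (show Etale W.ι from inferInstance)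

lemma ofPt_openMk {U : Over S} (W : U.left.Opens) (p : (yon S).obj U ⟶ F) (w : (W : Scheme.{u})) :
    Points.ofPt ((yon S).map (Over.homMk W.ι rfl : Over.mk (W.ι ≫ U.hom) ⟶ U) ≫ p) w =
      Points.ofPt p w.1 :=
  ofPt_comp (Over.homMk W.ι rfl : Over.mk (W.ι ≫ U.hom) ⟶ U) p w

/-- A point is in the open image of an affine etale chart inside a given open. -/
lemma exists_affine_etale_nhd {X : Sp S} (hX : IsAlgSpace X) (x : Points X) :
    ∃ (W : Over S) (a : (yon S).obj W ⟶ X), IsAffine W.left ∧ RepWith @Etale a ∧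
      x ∈ Set.range (Points.ofPt a) := by
  obtain ⟨U, p, he, hs⟩ := hX.atlas
  obtain ⟨u, rfl⟩ := surjective_ofPt hs x
  obtain ⟨B, hB, hu, -⟩ := U.left.isBasis_affineOpens.exists_subset_of_mem_open
    (Set.mem_univ u) isOpen_univ
  obtain ⟨B', hB', rfl⟩ := hB
  exact ⟨Over.mk (Scheme.Opens.ι (X := U.left) B' ≫ U.hom), _, hB', repWith_comp (repWith_etale_openMk B') he,
    ⟨u, hu⟩, ofPt_openMk B' p ⟨u, hu⟩⟩

theorem compactSpace_of_qcSp (h : IsQuasiCompactSp F) : CompactSpace (Points F) := by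
  obtain ⟨U, p, he, hs, hU⟩ := h
  exact (surjective_ofPt hs).compactSpace (Points.continuous_ofPt p)

theorem qcSp_of_compactSpace {X : Sp S} (hX : IsAlgSpace X) (h : CompactSpace (Points X)) :
    IsQuasiCompactSp X := by
  obtain ⟨U, p, he, hs⟩ := hX.atlas
  obtain ⟨K, hK, hKe⟩ := (isOpenMap_ofPt he).exists_opens_image_eq_of_prespectralSpace
    (Points.continuous_ofPt p) (U := Set.univ) (fun x _ => surjective_ofPt hs x) isOpen_univ
    isCompact_univ
  have : CompactSpace (K : Scheme.{u}) := isCompact_iff_compactSpace.mp hK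
  refine ⟨_, _, repWith_comp (repWith_etale_openMk K) he, ?_, inferInstanceAs (CompactSpace (K : Scheme.{u}))⟩
  refine repWith_surjective_of_map (hX.representable_from_yon _) fun x => ?_
  obtain ⟨u, hu, rfl⟩ := hKe.ge (Set.mem_univ x)
  refine ⟨Points.ofScheme (Over.mk (Scheme.Opens.ι (X := U.left) K ≫ U.hom)) ⟨u, hu⟩, ?_⟩
  exact (Points.ofPt_eq_map_ofScheme _ _).symm.trans (ofPt_openMk K p ⟨u, hu⟩)

theorem qcSp_iff {X : Sp S} (hX : IsAlgSpace X) : IsQuasiCompactSp X ↔ CompactSpace (Points X) :=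
  ⟨compactSpace_of_qcSp, qcSp_of_compactSpace hX⟩

theorem qcSp_of_surjective {X Y : Sp S} (hY : IsAlgSpace Y) (f : X ⟶ Y)
    (hf : Function.Surjective (Points.map f)) (hX : IsQuasiCompactSp X) : IsQuasiCompactSp Y := by
  have := compactSpace_of_qcSp hX
  exact qcSp_of_compactSpace hY (hf.compactSpace (Points.continuous_map f))

/-- A compact open of the space of points is the image of finitely many affine etale charts. -/
lemma exists_finite_affine_cover {X : Sp S} (hX : IsAlgSpace X) {V : Set (Points X)}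
    (hV : IsOpen V) (hVc : IsCompact V) :
    ∃ (ι : Type (u + 1)) (_ : Finite ι) (W : ι → Over S) (a : ∀ i, (yon S).obj (W i) ⟶ X),
      (∀ i, IsAffine (W i).left) ∧ (∀ i, RepWith @Etale (a i)) ∧
        V = ⋃ i, Set.range (Points.ofPt (a i)) := by
  obtain ⟨U, p, he, hs⟩ := hX.atlas
  have ho : IsOpen (Points.ofPt p ⁻¹' V) := hV.preimage (Points.continuous_ofPt p)
  have H : ∀ x : V, ∃ B : U.left.Opens, IsAffineOpen B ∧ x.1 ∈ Points.ofPt p '' B ∧
      Points.ofPt p '' B ⊆ V := by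
    rintro ⟨x, hx⟩
    obtain ⟨u, rfl⟩ := surjective_ofPt hs x
    obtain ⟨B, hB, hu, hsub⟩ := U.left.isBasis_affineOpens.exists_subset_of_mem_open hx ho
    obtain ⟨B', hB', rfl⟩ := hB
    exact ⟨B', hB', ⟨u, hu, rfl⟩, Set.image_subset_iff.2 hsub⟩
  choose B hB hmem hsub using H
  obtain ⟨t, ht⟩ := hVc.elim_finite_subcover (fun x => Points.ofPt p '' (B x : Set U.left))
    (fun x => isOpenMap_ofPt he _ (B x).isOpen)
    (fun x hx => Set.mem_iUnion.2 ⟨⟨x, hx⟩, hmem ⟨x, hx⟩⟩)
  refine ⟨(t : Set V), inferInstance, fun i => Over.mk ((B i.1).ι ≫ U.hom),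
    fun i => (yon S).map (Over.homMk (B i.1).ι rfl : Over.mk ((B i.1).ι ≫ U.hom) ⟶ U) ≫ p,
    fun i => hB i.1, fun i => repWith_comp (repWith_etale_openMk _) he, ?_⟩
  have key : ∀ i : V, Set.range (Points.ofPt
      ((yon S).map (Over.homMk (B i).ι rfl : Over.mk ((B i).ι ≫ U.hom) ⟶ U) ≫ p)) =
        Points.ofPt p '' B i := fun i => by
    ext x
    constructor
    · rintro ⟨w, rfl⟩
      exact ⟨w.1, w.2, (ofPt_openMk _ p w).symm⟩
    · rintro ⟨u, hu, rfl⟩
      exact ⟨⟨u, hu⟩, ofPt_openMk _ p ⟨u, hu⟩⟩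
  simp only [key]
  refine Set.Subset.antisymm (fun x hx => ?_) (Set.iUnion_subset fun i => hsub i.1)
  obtain ⟨i, hi, hxi⟩ := Set.mem_iUnion₂.1 (ht hx)
  exact Set.mem_iUnion.2 ⟨⟨i, hi⟩, hxi⟩

lemma range_fst_of_isPullback {X Y Z P : Sp S} {fst : P ⟶ X} {snd : P ⟶ Z} {f : X ⟶ Y} {g : Z ⟶ Y}
    (sq : IsPullback fst snd f g) :
    Set.range (Points.map fst) = Points.map f ⁻¹' Set.range (Points.map g) := by
  ext x
  constructor
  · rintro ⟨p, rfl⟩
    exact ⟨Points.map snd p, by rw [← Points.map_comp, ← Points.map_comp, sq.w]⟩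
  · rintro ⟨z, hz⟩
    obtain ⟨p, hp, -⟩ := exists_of_isPullback sq x z hz.symm
    exact ⟨p, hp⟩

/-- Compactness of a preimage from compactness of affine base changes. -/
lemma isCompact_preimage_of_affine {X Y : Sp S} (hY : IsAlgSpace Y) {f : X ⟶ Y}
    (h : ∀ (W : Over S), IsAffine W.left → ∀ (g : (yon S).obj W ⟶ Y),
      IsQuasiCompactSp (pullback f g))
    {V : Set (Points Y)} (hV : IsOpen V) (hVc : IsCompact V) :
    IsCompact (Points.map f ⁻¹' V) := by
  obtain ⟨ι, _, W, a, hW, -, rfl⟩ := exists_finite_affine_cover hY hV hVc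
  rw [Set.preimage_iUnion]
  refine isCompact_iUnion fun i => ?_
  rw [← range_map_yon, ← range_fst_of_isPullback (IsPullback.of_hasPullback f (a i))]
  have := compactSpace_of_qcSp (h (W i) (hW i) (a i))
  exact isCompact_range (Points.continuous_map _)

theorem isQuasiCompactMor_of_affine {X Y : Sp S} (hX : IsAlgSpace X) (hY : IsAlgSpace Y) {f : X ⟶ Y}
    (h : ∀ (W : Over S), IsAffine W.left → ∀ (g : (yon S).obj W ⟶ Y),
      IsQuasiCompactSp (pullback f g)) : IsQuasiCompactMor f := by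
  intro Z Z' hZ hqc g fst snd sq
  have hZ' : IsAlgSpace Z' := isAlgSpace_of_isPullback hY.diag hX hZ sq
  refine qcSp_of_compactSpace hZ' (isCompact_univ_iff.1 ?_)
  have := compactSpace_of_qcSp hqc
  refine isCompact_preimage_of_affine hZ (f := snd) (fun W hW k => ?_) (V := Set.univ) isOpen_univ
    isCompact_univ
  have sq' := (IsPullback.of_hasPullback snd k).paste_horiz sq
  obtain ⟨U, p, he, hs, hU⟩ := h W hW (k ≫ g)
  let e := sq'.isoPullback
  exact ⟨U, p ≫ e.inv, repWith_comp he (repWith_of_isIso (P := (@Etale : MorphismProperty Scheme.{u})) e.inv),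
    repWith_comp hs (repWith_of_isIso (P := (@Surjective : MorphismProperty Scheme.{u})) e.inv), hU⟩

theorem isQuasiCompactMor_of_pullback {X Y : Sp S} {f : X ⟶ Y} (h : IsQuasiCompactMor f)
    {W : Over S} [CompactSpace W.left] (g : (yon S).obj W ⟶ Y) :
    IsQuasiCompactSp (pullback f g) :=
  h (IsAlgSpace.yon_obj W) isQuasiCompactSp_of_compactSpace g _ _ (IsPullback.of_hasPullback f g)

end Groth.L23
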