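import Groth.Agent.L23.Cover
import Mathlib.AlgebraicGeometry.Morphisms.QuasiFinite
import Mathlib.AlgebraicGeometry.Morphisms.UniversallyInjective

/-!
# Fibre products of algebraic spaces and properties of diagonals
-/

universe u

open CategoryTheory CategoryTheory.Limits AlgebraicGeometry Opposite AlgSp

namespace Groth.L23

variable {S : Scheme.{u}}

attribute [local simp] prod.lift_fst prod.lift_snd prod.lift_fst_assoc prod.lift_snd_assoc
  prod.map_fst prod.map_snd

lemma isPullback_of_comp_mono {C : Type*} [Category C] {A B D T W : C} {a : A ⟶ B} {m : B ⟶ D}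
    [Mono m] {g : T ⟶ B} {fst : W ⟶ A} {snd : W ⟶ T}
    (sq : IsPullback fst snd (a ≫ m) (g ≫ m)) : IsPullback fst snd a g := by
  exact IsPullback.mk' (by rw [← cancel_mono m]; simpa using sq.w)
    (by intro T φ φ' h₁ h₂; exact sq.hom_ext h₁ h₂)
    (fun T' x y e => ⟨sq.lift x y (by rw [← Category.assoc, e, Category.assoc]), sq.lift_fst _ _ _,
      sq.lift_snd _ _ _⟩)

lemma representable_of_comp_mono {F G H : Sp S} {a : F ⟶ G} {m : G ⟶ H} [Mono m]
    (h : Representable (a ≫ m)) : Representable a :=
  fun _ g => ⟨_, _, _, isPullback_of_comp_mono (h.isPullback (g ≫ m))⟩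

lemma repWith_of_comp_mono {P : MorphismProperty Scheme.{u}} [P.IsStableUnderBaseChange]
    {F G H : Sp S} {a : F ⟶ G} {m : G ⟶ H} [Mono m] (h : RepWith P (a ≫ m)) : RepWith P a :=
  repWith_of_exists fun _ g => ⟨_, _, _, isPullback_of_comp_mono (h.1.isPullback (g ≫ m)),
    repWith_prop h (h.1.isPullback (g ≫ m))⟩

lemma isPullback_prod_map_left {C : Type*} [Category C] [HasBinaryProducts C] {A B : C}
    (f : A ⟶ B) (D : C) :
    IsPullback (prod.fst : A ⨯ D ⟶ A) (prod.map f (𝟙 D)) f prod.fst :=
  IsPullback.mk' (by simp)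
    (by intro T φ φ' h₁ h₂; exact prod.hom_ext h₁ (by simpa using h₂ =≫ prod.snd))
    (fun T x y e => ⟨prod.lift x (y ≫ prod.snd), by simp, by ext <;> simp [e]⟩)

lemma isPullback_prod_map_right {C : Type*} [Category C] [HasBinaryProducts C] {A B : C}
    (f : A ⟶ B) (D : C) :
    IsPullback (prod.snd : D ⨯ A ⟶ A) (prod.map (𝟙 D) f) f prod.snd :=
  IsPullback.mk' (by simp)
    (by intro T φ φ' h₁ h₂; exact prod.hom_ext (by simpa using h₂ =≫ prod.fst) h₁)
    (fun T x y e => ⟨prod.lift (y ≫ prod.fst) x, by simp, by ext <;> simp [e]⟩)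

lemma prop_prod_map {C : Type*} [Category C] [HasBinaryProducts C] (W : MorphismProperty C)
    [W.IsStableUnderBaseChange] [W.IsStableUnderComposition] {A A' B B' : C} {f : A ⟶ A'}
    {g : B ⟶ B'} (hf : W f) (hg : W g) : W (prod.map f g) := by
  rw [show prod.map f g = prod.map f (𝟙 B) ≫ prod.map (𝟙 A') g by simp]
  exact W.comp_mem _ _ (W.of_isPullback (isPullback_prod_map_left f B) hf)
    (W.of_isPullback (isPullback_prod_map_right g A') hg)

/-- `U ×_F V` is the pullback of the diagonal of `F` along `U ⨯ V ⟶ F ⨯ F`. -/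
lemma isPullback_diag {C : Type*} [Category C] [HasBinaryProducts C] {F U V W : C} {a : U ⟶ F}
    {b : V ⟶ F} {p : W ⟶ U} {q : W ⟶ V} (sq : IsPullback p q a b) :
    IsPullback (p ≫ a) (prod.lift p q) (Limits.diag F) (prod.map a b) :=
  IsPullback.mk' (by ext <;> simp [sq.w])
    (by intro T φ φ' _ h₂; exact sq.hom_ext (by simpa using h₂ =≫ prod.fst) (by simpa using h₂ =≫ prod.snd))
    (fun T x y e => by
      have e₁ : x = y ≫ prod.fst ≫ a := by simpa using e =≫ prod.fst
      have e₂ : x = y ≫ prod.snd ≫ b := by simpa using e =≫ prod.snd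
      refine ⟨sq.lift (y ≫ prod.fst) (y ≫ prod.snd) (by simp [← e₁, ← e₂]), ?_, ?_⟩
      · simp [e₁]
      · ext <;> simp)

lemma isPullback_lift {C : Type*} [Category C] [HasBinaryProducts C] {H X Y W : C} {f : X ⟶ H}
    {g : Y ⟶ H} {p : W ⟶ X} {q : W ⟶ Y} (sq : IsPullback p q f g) : Mono (prod.lift p q) :=
  ⟨fun φ φ' h => sq.hom_ext (by simpa using h =≫ prod.fst) (by simpa using h =≫ prod.snd)⟩

lemma representable_diag_of_isPullback {H X Y P : Sp S} (hH : Representable (Limits.diag H))
    (hX : Representable (Limits.diag X)) (hY : Representable (Limits.diag Y))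
    {f : X ⟶ H} {g : Y ⟶ H} {fst : P ⟶ X} {snd : P ⟶ Y} (sq : IsPullback fst snd f g) :
    Representable (Limits.diag P) := by
  have := isPullback_lift sq
  refine representable_of_comp_mono (m := prod.map (prod.lift fst snd) (prod.lift fst snd)) ?_
  have h₁ : Representable (prod.lift fst snd) :=
    representable_of_isPullback (isPullback_diag sq) hH
  have h₂ : Representable (prod.map (Limits.diag X) (Limits.diag Y)) :=
    prop_prod_map Representable hX hY
  rw [show Limits.diag P ≫ prod.map (prod.lift fst snd) (prod.lift fst snd) =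
      prod.lift fst snd ≫ prod.map (Limits.diag X) (Limits.diag Y) ≫
        prod.lift (prod.map prod.fst prod.fst) (prod.map prod.snd prod.snd) by
    ext <;> simp]
  refine representable_comp h₁ (representable_comp h₂ ?_)
  have : IsIso (prod.lift (prod.map prod.fst prod.fst) (prod.map prod.snd prod.snd) :
      (X ⨯ X) ⨯ (Y ⨯ Y) ⟶ (X ⨯ Y) ⨯ (X ⨯ Y)) :=
    ⟨prod.lift (prod.map prod.fst prod.fst) (prod.map prod.snd prod.snd),
      by ext <;> simp, by ext <;> simp⟩
  exact representable_of_isIso _

/-- A fibre product of algebraic spaces over a sheaf with representable diagonal. -/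
theorem isAlgSpace_of_isPullback {H X Y P : Sp S} (hH : Representable (Limits.diag H))
    (hX : IsAlgSpace X) (hY : IsAlgSpace Y) {f : X ⟶ H} {g : Y ⟶ H} {fst : P ⟶ X} {snd : P ⟶ Y}
    (sq : IsPullback fst snd f g) : IsAlgSpace P where
  diag := representable_diag_of_isPullback hH hX.diag hY.diag sq
  atlas := by
    obtain ⟨U, p, hp, hp'⟩ := hX.atlas
    obtain ⟨V, q, hq, hq'⟩ := hY.atlas
    have hg : Representable (q ≫ g) := Functor.relativelyRepresentable.of_diag hH _
    have sqW := hg.isPullback (p ≫ f)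
    let W := hg.pullback (p ≫ f)
    let m := sq.lift ((yon S).map (hg.snd (p ≫ f)) ≫ p) (hg.fst (p ≫ f) ≫ q)
      (by simpa using sqW.w.symm)
    have sq₁ := (IsPullback.of_hasPullback p fst).paste_vert sq
    have hW : IsPullback (hg.fst (p ≫ f)) ((yon S).map (hg.snd (p ≫ f))) (q ≫ g) (p ≫ f) := sqW
    have hk : ((yon S).map (hg.snd (p ≫ f))) ≫ p = m ≫ fst := (sq.lift_fst _ _ _).symm
    let k := (IsPullback.of_hasPullback p fst).lift _ _ hk
    have sq₂ : IsPullback k (hg.fst (p ≫ f)) (pullback.snd p fst ≫ snd) q := by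
      refine IsPullback.of_right ?_ ?_ sq₁
      · simpa [k] using hW.flip
      · simp [k, m]
    have hm : m = k ≫ pullback.snd p fst := ((IsPullback.of_hasPullback p fst).lift_snd _ _ hk).symm
    exact ⟨W, m,
      hm ▸ repWith_comp (repWith_of_isPullback sq₂.flip hq)
        (repWith_of_isPullback (IsPullback.of_hasPullback p fst) hp),
      hm ▸ repWith_comp (repWith_of_isPullback sq₂.flip hq')
        (repWith_of_isPullback (IsPullback.of_hasPullback p fst) hp')⟩

lemma relativelyRepresentable_diagonal {C D : Type*} [Category C] [Category D] (Φ : C ⥤ D)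
    [Φ.Full] [Φ.Faithful] [HasPullbacks C] [PreservesLimitsOfShape WalkingCospan Φ]
    [HasPullbacks D] {G X : D} {a : G ⟶ X} (ha : Φ.relativelyRepresentable a) :
    Φ.relativelyRepresentable (pullback.diagonal a) := by
  intro E e
  let r := e ≫ pullback.fst _ _ ≫ a
  let σ := ha.lift (g := r) (e ≫ pullback.fst _ _) (𝟙 E) (by simp [r])
  let τ := ha.lift (g := r) (e ≫ pullback.snd _ _) (𝟙 E) (by simp [r, pullback.condition])
  have sqE := (IsPullback.of_hasPullback σ τ).map Φ
  have hfs : pullback.fst σ τ = pullback.snd σ τ := by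
    have := congrArg (fun k => k ≫ ha.snd r) (pullback.condition (f := σ) (g := τ))
    simpa [σ, τ] using this
  refine ⟨_, pullback.fst σ τ, Φ.map (pullback.fst σ τ) ≫ e ≫ pullback.fst _ _, ?_⟩
  refine IsPullback.mk' ?_ (fun T φ φ' h₁ h₂ => sqE.hom_ext h₂ (by rwa [← hfs])) ?_
  · apply pullback.hom_ext
    · simp
    · have := congrArg (fun k => Φ.map k ≫ ha.fst r) (pullback.condition (f := σ) (g := τ))
      simp [σ, τ] at this
      change _ = Φ.map (pullback.snd σ τ) ≫ e ≫ pullback.snd _ _ at this
      simpa [σ, τ, hfs] using this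
  · intro Z z w h
    have h₁ : w ≫ e ≫ pullback.fst _ _ = z := by simpa using (h =≫ pullback.fst _ _).symm
    have h₂ : w ≫ e ≫ pullback.snd _ _ = z := by simpa using (h =≫ pullback.snd _ _).symm
    have hw : w ≫ Φ.map σ = w ≫ Φ.map τ := by
      apply (ha.isPullback r).hom_ext
      · simp [σ, τ, h₁, h₂]
      · simp [σ, τ, ← Functor.map_comp]
    exact ⟨sqE.lift w w hw, by simp [h₁], by simp⟩

lemma representable_diagonal {G X : Sp S} {a : G ⟶ X} (ha : Representable a) :
    Representable (pullback.diagonal a) :=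
  relativelyRepresentable_diagonal _ ha

theorem isAlgSpace_of_representable_to {X G : Sp S} (hX : IsAlgSpace X) {a : G ⟶ X}
    (ha : Representable a) : IsAlgSpace G := by
  obtain ⟨U, p, hp, hp'⟩ := hX.atlas
  refine ⟨?_, ⟨_, ha.fst p, repWith_of_isPullback (ha.isPullback p).flip hp,
    repWith_of_isPullback (ha.isPullback p).flip hp'⟩⟩
  rw [show Limits.diag G = pullback.diagonal a ≫ prod.lift (pullback.fst a a) (pullback.snd a a) by
    ext <;> simp]
  exact representable_comp (representable_diagonal ha)
    (representable_of_isPullback (isPullback_diag (IsPullback.of_hasPullback a a)) hX.diag)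

section Diag

variable {X : Sp S}

instance mono_diag {C : Type*} [Category C] [HasBinaryProducts C] (A : C) : Mono (Limits.diag A) :=
  ⟨fun a b h => by simpa using h =≫ prod.fst⟩

lemma repWith_monomorphisms_of_mono {F G : Sp S} {f : F ⟶ G} [Mono f] (hf : Representable f) :
    RepWith (MorphismProperty.monomorphisms Scheme.{u}) f :=
  repWith_of_snd hf fun U g => by
    have := (MorphismProperty.monomorphisms (Sp S)).of_isPullback (hf.isPullback g)
      (MorphismProperty.monomorphisms.infer_property f)
    have : Mono ((yon S).map (hf.snd g)) := this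
    have : Mono (hf.snd g) := (yon S).mono_of_mono_map this
    exact inferInstanceAs (Mono ((Over.forget S).map (hf.snd g)))

lemma lft_diag (hX : IsAlgSpace X) : RepWith @LocallyOfFiniteType (Limits.diag X) := by
  obtain ⟨U, p, hp, hp'⟩ := hX.atlas
  have : Sheaf.IsLocallySurjective p := isLocallySurjective_of_etale p hp hp'
  have := isLocalAtTarget_fppf @LocallyOfFiniteType
  have hsq := (isPullback_diag (hp.1.isPullback' p)).paste_horiz
    (IsPullback.of_horiz_isIso (fst := 𝟙 X) (g := 𝟙 _) (f := Limits.diag X) ⟨by simp⟩)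
  have hl : Sheaf.IsLocallySurjective (prod.map p p) := isLocallySurjective_of_etale _
    (prop_prod_map (RepWith @Etale) hp hp) (prop_prod_map (RepWith @Surjective) hp' hp')
  let c := inv (prodComparison (yon S) U U)
  have hc : prod.lift ((yon S).map (hp.1.fst' p)) ((yon S).map (hp.1.snd p)) =
      (yon S).map (prod.lift (hp.1.fst' p) (hp.1.snd p)) ≫ prodComparison (yon S) U U := by
    ext <;> simp [← Functor.map_comp]
  refine repWith_of_locallySurjective hX.diag (isPullback_diag (hp.1.isPullback' p)) ?_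
  rw [hc]
  refine (MorphismProperty.cancel_right_of_respectsIso (RepWith @LocallyOfFiniteType) _ _).2 ?_
  refine repWith_map ?_
  have : Etale (hp.1.snd p).left := repWith_snd hp p
  have : LocallyOfFiniteType ((prod.lift (hp.1.fst' p) (hp.1.snd p)).left ≫
      (prod.snd : U ⨯ U ⟶ U).left) := by
    rw [← Over.comp_left, prod.lift_snd]
    infer_instance
  exact locallyOfFiniteType_of_comp _ (prod.snd : U ⨯ U ⟶ U).left

/-- The properties shared by diagonals: locally of finite type and monomorphism. -/
abbrev diagProp : MorphismProperty Scheme.{u} :=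
  @LocallyOfFiniteType ⊓ MorphismProperty.monomorphisms Scheme.{u}

lemma diag_properties (hX : IsAlgSpace X) : RepWith diagProp (Limits.diag X) :=
  repWith_inf_iff.2 ⟨lft_diag hX, repWith_monomorphisms_of_mono hX.diag⟩

lemma diagonal_properties {Y : Sp S} (hX : IsAlgSpace X) (f : X ⟶ Y) :
    RepWith diagProp (pullback.diagonal f) := by
  have : Mono (prod.lift (pullback.fst f f) (pullback.snd f f)) :=
    isPullback_lift (IsPullback.of_hasPullback f f)
  refine repWith_of_comp_mono (m := prod.lift (pullback.fst f f) (pullback.snd f f)) ?_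
  rw [show pullback.diagonal f ≫ prod.lift (pullback.fst f f) (pullback.snd f f) =
      Limits.diag X by ext <;> simp]
  exact diag_properties hX

lemma diagProp_isSeparated {A B : Scheme.{u}} (f : A ⟶ B) (h : diagProp f) : IsSeparated f := by
  obtain ⟨-, h : Mono f⟩ := h
  exact ⟨inferInstance⟩

lemma diagProp_lqf {A B : Scheme.{u}} (f : A ⟶ B) (h : diagProp f) : LocallyQuasiFinite f := by
  obtain ⟨h', h : Mono f⟩ := h
  have : LocallyOfFiniteType f := h'
  infer_instance

end Diag

end Groth.L23
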