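import Groth.Prelude.Def_AlgSpGpd
import Groth.Agent.L23.AlgSpace
import Mathlib.CategoryTheory.Sites.RegularEpi

/-!
# Epimorphisms of fppf sheaves and kernel pairs
-/

universe u

open CategoryTheory CategoryTheory.Limits AlgebraicGeometry Opposite AlgSp

set_option backward.isDefEq.respectTransparency.types false

namespace Groth.L23

variable {S : Scheme.{u}}

theorem epi_of_repWith {F G : Sp S} (a : F ⟶ G) (h₁ : RepWith @Etale a) (h₂ : RepWith @Surjective a) :
    Epi a :=
  have : Sheaf.IsLocallySurjective a := isLocallySurjective_of_etale a h₁ h₂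
  inferInstance

theorem effectiveEpi_of_epi {F G : Sp S} (a : F ⟶ G) [Epi a] : EffectiveEpi a := by
  rw [← isRegularEpi_iff_effectiveEpi]
  exact IsRegularEpiCategory.regularEpiOfEpi a

theorem nonempty_isColimit_cofork {U F R : Sp S} (p : U ⟶ F) [Epi p] {a b : R ⟶ U}
    (sq : IsPullback a b p p) : Nonempty (IsColimit (Cofork.ofπ p sq.w)) := by
  have := effectiveEpi_of_epi p
  exact ⟨isColimitCoforkOfEffectiveEpi p _ sq.isLimit⟩

theorem isIso_quotSpDesc {R U M : Sp S} {s t : R ⟶ U} (q : U ⟶ M) (w : s ≫ q = t ≫ q) [Epi q]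
    [Epi (pullback.lift t s w.symm : R ⟶ pullback q q)] : IsIso (quotSpDesc q w) := by
  obtain ⟨hc⟩ := nonempty_isColimit_cofork q (IsPullback.of_hasPullback q q)
  have hw : pullback.fst q q ≫ quotSpπ s t = pullback.snd q q ≫ quotSpπ s t := by
    rw [← cancel_epi (pullback.lift t s w.symm : R ⟶ pullback q q), pullback.lift_fst_assoc,
      pullback.lift_snd_assoc]
    exact (quotSp_condition s t).symm
  let g := hc.desc (Cofork.ofπ (quotSpπ s t) hw)
  have hg : q ≫ g = quotSpπ s t := hc.fac (Cofork.ofπ (quotSpπ s t) hw) WalkingParallelPair.one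
  have : Epi (quotSpπ s t) := inferInstanceAs (Epi (coequalizer.π s t))
  refine ⟨g, ?_, ?_⟩
  · rw [← cancel_epi (quotSpπ s t), quotSpπ_desc_assoc, hg, Category.comp_id]
  · rw [← cancel_epi q, reassoc_of% hg, quotSpπ_desc, Category.comp_id]

theorem mono_of_cover {X Y P : Sp S} (f : X ⟶ Y) {V : Over S} (p : (yon S).obj V ⟶ Y)
    (hp : RepWith @Etale p) (hps : RepWith @Surjective p) {fst : P ⟶ X} {snd : P ⟶ (yon S).obj V}
    (sq : IsPullback fst snd f p) [Mono snd] : Mono f := by
  refine mono_of_yon fun T a b e => ?_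
  let g := a ≫ f
  have sqT := hp.1.isPullback g
  have := epi_of_repWith _ (repWith_of_isPullback sqT hp) (repWith_of_isPullback sqT hps)
  rw [← cancel_epi ((yon S).map (hp.1.snd g))]
  let la := sq.lift ((yon S).map (hp.1.snd g) ≫ a) (hp.1.fst g) (by
    rw [Category.assoc]; exact (hp.1.w g).symm)
  let lb := sq.lift ((yon S).map (hp.1.snd g) ≫ b) (hp.1.fst g) (by
    rw [Category.assoc, ← e]; exact (hp.1.w g).symm)
  have : la = lb := by rw [← cancel_mono snd, sq.lift_snd, sq.lift_snd]
  simpa [la, lb] using congrArg (· ≫ fst) this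

end Groth.L23
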