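import Groth.Agent.L23.PSheaf
import Groth.Agent.L23.PointProps
import Groth.Agent.L23.Epi
import Mathlib.AlgebraicGeometry.Morphisms.IsIso
import Mathlib.CategoryTheory.Subfunctor.Basic

/-!
# Open subspaces
-/

universe u

open CategoryTheory CategoryTheory.Limits AlgebraicGeometry Opposite AlgSp Topology

set_option backward.isDefEq.respectTransparency.types false

namespace Groth.L23

variable {S : Scheme.{u}}

/-- The subfunctor of sections landing in a subset of the points. -/
noncomputable def subOfSet (X : Sp S) (W : Set (Points X)) : Subfunctor X.obj where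
  obj T := {x | ∀ t, Points.ofPt (toHom (T := T.unop) x) t ∈ W}
  map {T T'} i := by
    intro x hx t
    have h : toHom (T := T'.unop) (X.obj.map i x) = (yon S).map i.unop ≫ toHom (T := T.unop) x := by
      apply (J S).uliftYonedaEquiv.injective
      rw [Equiv.apply_symm_apply, ← GrothendieckTopology.uliftYonedaEquiv_naturality,
        Equiv.apply_symm_apply]
      rfl
    rw [h, ofPt_comp]
    exact hx _

section

variable {X : Sp S} (W : TopologicalSpace.Opens (Points X))

/-- The open of a test scheme cut out by an open set of points. -/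
noncomputable def openPre {T : Over S} (g : (yon S).obj T ⟶ X) : T.left.Opens :=
  ⟨Points.ofPt g ⁻¹' W, W.isOpen.preimage (Points.continuous_ofPt g)⟩

lemma subOfSet_relativelyRepresentable :
    (pyon S).relativelyRepresentable (subOfSet X W).ι := by
  intro T k
  let g : (yon S).obj T ⟶ X := ObjectProperty.homMk k
  let V := openPre W g
  let j : Over.mk (V.ι ≫ T.hom) ⟶ T := Over.homMk V.ι rfl
  have hk : ∀ {T' : Over S} (b : T' ⟶ T), toHom (k.app (op T') ⟨b⟩) = (yon S).map b ≫ g := fun b => by
    apply (J S).uliftYonedaEquiv.injective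
    rw [Equiv.apply_symm_apply, GrothendieckTopology.uliftYonedaEquiv_comp]
    rfl
  refine ⟨Over.mk (V.ι ≫ T.hom), j,
    { app := fun T' => ↾fun b => ⟨k.app T' ⟨b.down ≫ j⟩, fun t => ?_⟩
      naturality := ?_ }, ?_⟩
  · rw [hk, ofPt_comp]
    exact (b.down.left t).2
  · intro T₁ T₂ i
    ext b
    apply Subtype.ext
    exact (congrArg (fun z => k.app T₂ ⟨z⟩) (Category.assoc i.unop b.down j)).trans
      (NatTrans.naturality_apply k i ⟨b.down ≫ j⟩)
  · refine IsPullback.of_forall_isPullback_app fun T' => ?_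
    rw [Types.isPullback_iff]
    refine ⟨rfl, ?_, ?_⟩
    · rintro ⟨b₁⟩ ⟨b₂⟩ ⟨-, h⟩
      have h' : b₁ ≫ j = b₂ ≫ j := congrArg ULift.down h
      congr 1
      exact Over.OverMorphism.ext ((cancel_mono V.ι).1 (congrArg Over.Hom.left h'))
    · rintro ⟨x, hx⟩ ⟨b⟩ e
      change x = k.app T' ⟨b⟩ at e
      have hb : Set.range b.left ⊆ Set.range V.ι := by
        rw [Scheme.Opens.range_ι]
        rintro _ ⟨t, rfl⟩
        have := hx t
        rw [e, hk, ofPt_comp] at this
        exact this
      let l : T'.unop ⟶ Over.mk (V.ι ≫ T.hom) :=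
        Over.homMk (IsOpenImmersion.lift V.ι b.left hb) (by
          change IsOpenImmersion.lift V.ι b.left hb ≫ V.ι ≫ T.hom = _
          rw [IsOpenImmersion.lift_fac_assoc, Over.w])
      have hl : l ≫ j = b := by ext1; exact IsOpenImmersion.lift_fac _ _ _
      exact ⟨⟨l⟩, Subtype.ext ((congrArg (fun z => k.app T' ⟨z⟩) hl).trans e.symm),
        congrArg ULift.up hl⟩

/-- The open subspace on an open set of points. -/
noncomputable def openSub : Sp S :=
  ⟨(subOfSet X W).toFunctor,
    isSheaf_of_relativelyRepresentable _ (subOfSet_relativelyRepresentable W) X.property⟩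

/-- Its inclusion. -/
noncomputable def openSubι : openSub W ⟶ X := ObjectProperty.homMk (subOfSet X W).ι

lemma representable_openSubι : Representable (openSubι W) :=
  representable_of_pyon _ (subOfSet_relativelyRepresentable W)

lemma isAlgSpace_openSub (hX : IsAlgSpace X) : IsAlgSpace (openSub W) :=
  isAlgSpace_of_representable_to hX (representable_openSubι W)

lemma exists_factor_openSub_iff {T : Over S} (g : (yon S).obj T ⟶ X) :
    (∃ l, l ≫ openSubι W = g) ↔ ∀ t, Points.ofPt g t ∈ W := by
  constructor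
  · rintro ⟨l, rfl⟩ t
    let x : (subOfSet X W).toFunctor.obj (op T) := (J S).uliftYonedaEquiv l
    have h : toHom x.1 = l ≫ openSubι W := by
      apply (J S).uliftYonedaEquiv.injective
      rw [Equiv.apply_symm_apply, GrothendieckTopology.uliftYonedaEquiv_comp]
      rfl
    rw [← h]
    exact x.2 t
  · intro h
    let x : (subOfSet X W).toFunctor.obj (op T) := ⟨(J S).uliftYonedaEquiv g, fun t => by
      change Points.ofPt ((J S).uliftYonedaEquiv.symm _) t ∈ W
      rw [Equiv.symm_apply_apply]; exact h t⟩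
    refine ⟨(J S).uliftYonedaEquiv.symm x, (J S).uliftYonedaEquiv.injective ?_⟩
    rw [GrothendieckTopology.uliftYonedaEquiv_comp, Equiv.apply_symm_apply]
    rfl

instance mono_openSubι : Mono (openSubι W) :=
  (sheafToPresheaf (J S) (Type (u + 1))).mono_of_mono_map
    (inferInstanceAs (Mono (subOfSet X W).ι))

lemma isPullback_openSub {T : Over S} (g : (yon S).obj T ⟶ X) :
    ∃ fst, IsPullback fst
      ((yon S).map (Over.homMk (openPre W g).ι rfl : Over.mk ((openPre W g).ι ≫ T.hom) ⟶ T))
      (openSubι W) g := by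
  let j : Over.mk ((openPre W g).ι ≫ T.hom) ⟶ T := Over.homMk (openPre W g).ι rfl
  obtain ⟨l, hl⟩ := (exists_factor_openSub_iff W ((yon S).map j ≫ g)).2 fun t => by
    rw [ofPt_comp]; exact t.2
  have : Mono j.left := inferInstanceAs (Mono (openPre W g).ι)
  have : Mono j := Over.mono_of_mono_left j
  refine ⟨l, IsPullback.mk' hl (fun T' φ φ' _ h => (cancel_mono ((yon S).map j)).1 h) ?_⟩
  intro Z a b e
  have sqr := (representable_openSubι W).isPullback g
  let fr := (representable_openSubι W).fst g
  let sr := (representable_openSubι W).snd g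
  have hr : Set.range sr.left ⊆ Set.range (openPre W g).ι := by
    rw [Scheme.Opens.range_ι]
    rintro _ ⟨t, rfl⟩
    have := (exists_factor_openSub_iff W ((yon S).map sr ≫ g)).1 ⟨fr, sqr.w⟩ t
    rwa [ofPt_comp] at this
  let k : (representable_openSubι W).pullback g ⟶ Over.mk ((openPre W g).ι ≫ T.hom) :=
    Over.homMk (IsOpenImmersion.lift (openPre W g).ι sr.left hr) (by
      change IsOpenImmersion.lift _ _ hr ≫ (openPre W g).ι ≫ T.hom = _
      rw [IsOpenImmersion.lift_fac_assoc, Over.w])
  have hk : k ≫ j = sr := by ext1; exact IsOpenImmersion.lift_fac _ _ _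
  refine ⟨sqr.lift a b e ≫ (yon S).map k, ?_, ?_⟩
  · rw [← cancel_mono (openSubι W), Category.assoc, hl, Category.assoc, ← Functor.map_comp_assoc,
      hk, ← sqr.w, sqr.lift_fst_assoc]
  · rw [Category.assoc, ← Functor.map_comp, hk, sqr.lift_snd]

lemma repWith_openSubι : RepWith @IsOpenImmersion (openSubι W) :=
  repWith_of_exists fun T g => by
    obtain ⟨fst, sq⟩ := isPullback_openSub W g
    exact ⟨_, fst, _, sq, inferInstanceAs (IsOpenImmersion (openPre W g).ι)⟩

lemma range_openSubι : Set.range (Points.map (openSubι W)) = W := by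
  ext x
  constructor
  · rintro ⟨p, rfl⟩
    obtain ⟨T, g, t, rfl⟩ := exists_eq_ofPt p
    rw [Points.map_ofPt]
    exact (exists_factor_openSub_iff W _).1 ⟨g, rfl⟩ t
  · intro hx
    obtain ⟨T, g, t, rfl⟩ := exists_eq_ofPt x
    obtain ⟨fst, sq⟩ := isPullback_openSub W g
    exact ⟨Points.ofPt fst ⟨t, hx⟩, map_ofPt_of_isPullback sq ⟨t, hx⟩⟩

end

variable {X X' Y : Sp S}

lemma mono_of_repWith_openImmersion {j : X' ⟶ X} (h : RepWith @IsOpenImmersion j) : Mono j :=
  mono_of_repWith (fun _ _ φ (h : IsOpenImmersion φ) => inferInstanceAs (Mono φ)) h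

lemma isIso_of_openImmersion_surjective {f : Y ⟶ X} (h : RepWith @IsOpenImmersion f)
    (hs : Function.Surjective (Points.map f)) : IsIso f := by
  have := mono_of_repWith_openImmersion h
  have := epi_of_repWith f (repWith_mono (Q := (@Etale : MorphismProperty Scheme.{u}))
    (fun φ (_ : IsOpenImmersion φ) => inferInstanceAs (Etale φ)) h)
    (repWith_surjective_of_map h.1 hs)
  exact Balanced.isIso_of_mono_of_epi f

theorem exists_factor_iff {j : X' ⟶ X} (hj : RepWith @IsOpenImmersion j) (f : Y ⟶ X) :
    (∃ g : Y ⟶ X', g ≫ j = f) ↔ Set.range (Points.map f) ⊆ Set.range (Points.map j) := by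
  constructor
  · rintro ⟨g, rfl⟩ _ ⟨y, rfl⟩
    exact ⟨Points.map g y, (Points.map_comp g j y).symm⟩
  · intro h
    have sq := IsPullback.of_hasPullback j f
    have h' := repWith_of_isPullback sq hj
    have : IsIso (pullback.snd j f) := isIso_of_openImmersion_surjective h' fun y => by
      obtain ⟨x', hx⟩ := h ⟨y, rfl⟩
      obtain ⟨p, -, hp⟩ := exists_of_isPullback sq x' y hx
      exact ⟨p, hp⟩
    exact ⟨inv (pullback.snd j f) ≫ pullback.fst j f, by
      rw [Category.assoc, pullback.condition, IsIso.inv_hom_id_assoc]⟩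

theorem isEmbedding_map_of_immersion (hX : IsAlgSpace X) {f : Y ⟶ X}
    (h : RepWith @IsImmersion f) :
    IsEmbedding (Points.map f) ∧ IsLocallyClosed (Set.range (Points.map f)) := by
  obtain ⟨U, p, hp, hs⟩ := hX.atlas
  have hpo := isOpenMap_ofPt hp
  have := repWith_snd h p
  have sq := h.1.isPullback p
  refine ⟨⟨⟨le_antisymm (Points.continuous_map f).le_induced ?_⟩, injective_map_of_repWith
    (repWith_mono (Q := (@UniversallyInjective : MorphismProperty Scheme.{u}))
      (fun φ (_ : IsImmersion φ) => inferInstanceAs (UniversallyInjective φ)) h)⟩, ?_⟩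
  · intro A hA
    obtain ⟨B, hB, hB'⟩ :=
      (h.1.snd p).left.isEmbedding.isOpen_iff.1 (hA.preimage (Points.continuous_ofPt (h.1.fst p)))
    refine isOpen_induced_iff.2 ⟨Points.ofPt p '' B, hpo _ hB, ?_⟩
    ext y
    constructor
    · rintro ⟨b, hb, e⟩
      obtain ⟨v, hv, hv'⟩ := exists_point_of_isPullback sq e.symm
      have : v ∈ Points.ofPt (h.1.fst p) ⁻¹' A := hB' ▸ (show (h.1.snd p).left v ∈ B by rwa [hv'])
      simpa [hv] using this
    · intro hy
      obtain ⟨u, hu⟩ := surjective_ofPt hs (Points.map f y)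
      obtain ⟨v, hv, hv'⟩ := exists_point_of_isPullback sq hu.symm
      have : v ∈ (h.1.snd p).left ⁻¹' B := by
        rw [hB']; simpa [hv] using hy
      exact ⟨u, hv' ▸ this, hu⟩
  · have hl : IsLocallyClosed (Points.ofPt p ⁻¹' Set.range (Points.map f)) := by
      rw [← Set.image_univ, preimage_image_map sq, Set.preimage_univ, Set.image_univ]
      exact IsImmersion.isLocallyClosed_range
    rw [isLocallyClosed_iff_isOpen_coborder] at hl ⊢
    rw [coborder_preimage hpo (Points.continuous_ofPt p)] at hl
    simpa [Set.image_preimage_eq _ (surjective_ofPt hs)] using hpo _ hl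

end Groth.L23
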