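import Groth.Agent.L23.TargetLocal
import Groth.Agent.L23.Compact
import Groth.Agent.L23.QcCalc
import Groth.Agent.L23.OpenSub
import Mathlib.AlgebraicGeometry.AffineSpace
import Mathlib.AlgebraicGeometry.Morphisms.Affine
import Mathlib.Algebra.Category.Ring.Constructions
import Mathlib.LinearAlgebra.TensorProduct.Finiteness

/-!
# Closedness over affine spaces gives universal closedness, for quasi-compact morphisms
-/

universe u

open CategoryTheory CategoryTheory.Limits AlgebraicGeometry AlgSp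
open scoped TensorProduct

set_option backward.isDefEq.respectTransparency.types false

namespace Groth.L23

/-- Elements of a pushout of rings are sums of products. -/
lemma exists_sum_of_isPushout {A B₁ B₂ C : CommRingCat.{u}} {f : A ⟶ B₁} {g : A ⟶ B₂}
    {inl : B₁ ⟶ C} {inr : B₂ ⟶ C} (h : IsPushout f g inl inr) (c : C) :
    ∃ (n : ℕ) (x : Fin n → B₁) (y : Fin n → B₂), c = ∑ k, inl.hom (x k) * inr.hom (y k) := by
  let := f.hom.toAlgebra
  let := g.hom.toAlgebra
  have hT : IsPushout f g _ _ := CommRingCat.isPushout_tensorProduct A B₁ B₂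
  let e := hT.isoIsPushout _ _ h
  obtain ⟨s, hs⟩ : ∃ s : Finset (B₁ × B₂), e.inv c = ∑ p ∈ s, p.1 ⊗ₜ[A] p.2 :=
    TensorProduct.exists_finset (e.inv c)
  refine ⟨s.card, fun k => (s.equivFin.symm k).1.1, fun k => (s.equivFin.symm k).1.2, ?_⟩
  have h1 : ∀ x y, e.hom (x ⊗ₜ[A] y) = inl.hom x * inr.hom y := fun x y => by
    have hl := congr($(hT.inl_isoIsPushout_hom _ _ h).hom x)
    have hr := congr($(hT.inr_isoIsPushout_hom _ _ h).hom y)
    rw [← hl, ← hr]
    simp only [CommRingCat.hom_comp, RingHom.coe_comp, Function.comp_apply]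
    rw [← map_mul]
    simp
    rfl
  refine .trans ?_ ((Equiv.sum_comp s.equivFin.symm (fun p : s => inl.hom p.1.1 * inr.hom p.1.2)).trans
    (Finset.sum_coe_sort s (fun p => inl.hom p.1 * inr.hom p.2))).symm
  calc c = e.hom (e.inv c) := by simp
    _ = _ := by rw [hs, map_sum]; exact Finset.sum_congr rfl fun p _ => h1 _ _

variable {S : Scheme.{u}} {P : Sp S}

/-- Affine space over a scheme over `S`. -/
noncomputable abbrev affOver (W : Over S) (ι : Type u) : Over S :=
  Over.mk ((𝔸(ι; W.left) ↘ W.left) ≫ W.hom)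

noncomputable abbrev affProj (W : Over S) (ι : Type u) : affOver W ι ⟶ W :=
  Over.homMk (𝔸(ι; W.left) ↘ W.left)

lemma toScheme_map_yon {R R' : Over S} (l : R ⟶ R') (x : Points ((yon S).obj R)) :
    Points.toScheme R' (Points.map ((yon S).map l) x) = l.left (Points.toScheme R x) := by
  obtain ⟨t, rfl⟩ := (Points.schemeEquiv R).surjective x
  change Points.toScheme R' (Points.map _ (Points.ofScheme R t)) =
    l.left (Points.toScheme R (Points.ofScheme R t))
  rw [← Points.ofPt_eq_map_ofScheme, Points.toScheme_ofPt, Points.toScheme_ofScheme]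

/-- If `P ×_W 𝔸ⁿ_W ⟶ 𝔸ⁿ_W` is closed for all `n`, with `W` affine and `P` quasi-compact, then
`P ×_W T ⟶ T` is closed for affine `T`. -/
theorem isClosedMap_snd_of_affineSpace {W : Over S} [IsAffine W.left] (hP : IsAlgSpace P)
    (hqc : IsQuasiCompactSp P) (s : P ⟶ (yon S).obj W)
    (H : ∀ n : ℕ, IsClosedMap
      (Points.map (pullback.snd s ((yon S).map (affProj W (ULift.{u} (Fin n)))))))
    {T : Over S} [IsAffine T.left] (e : T ⟶ W) :
    IsClosedMap (Points.map (pullback.snd s ((yon S).map e))) := by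
  classical
  set q₁ := pullback.fst s ((yon S).map e)
  set q₂ := pullback.snd s ((yon S).map e)
  have sqQ : IsPullback q₁ q₂ s ((yon S).map e) := IsPullback.of_hasPullback _ _
  have hPc := compactSpace_of_qcSp hqc
  obtain ⟨κ, _, U, a, hU, ha, hcov⟩ := exists_finite_affine_cover hP isOpen_univ isCompact_univ
  choose v hv using fun i => (yon S).map_surjective (a i ≫ s)
  let R := fun i => pullback (v i) e
  have sq' : ∀ i, IsPullback (pullback.fst (v i) e).left (pullback.snd (v i) e).left (v i).left e.left :=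
    fun i => (IsPullback.of_hasPullback (v i) e).map (Over.forget S)
  have hRaff : ∀ i, IsAffine (R i).left := fun i =>
    have := hU i
    IsAffine.of_isPullback (sq' i)
  let c := fun i => sqQ.lift ((yon S).map (pullback.fst (v i) e) ≫ a i) ((yon S).map (pullback.snd (v i) e))
    (by rw [Category.assoc, ← hv, ← Functor.map_comp, ← Functor.map_comp, pullback.condition])
  have sqc : ∀ i, IsPullback (c i) ((yon S).map (pullback.fst (v i) e)) q₁ (a i) := fun i => by
    refine IsPullback.of_right ?_ (sqQ.lift_fst _ _ _) sqQ.flip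
    rw [sqQ.lift_snd, ← hv]
    exact ((IsPullback.of_hasPullback (v i) e).map (yon S)).flip
  intro A hA
  rw [← isOpen_compl_iff, isOpen_iff_forall_mem_open]
  intro y hy
  let O := fun i => Points.ofPt (c i) ⁻¹' Aᶜ
  have hO : ∀ i, IsOpen (O i) := fun i => hA.isOpen_compl.preimage (Points.continuous_ofPt _)
  let K := fun i => (pullback.snd (v i) e).left ⁻¹' {Points.toScheme T y}
  have hsnd : ∀ i (p : (R i).left), Points.map q₂ (Points.ofPt (c i) p) =
      Points.ofScheme T ((pullback.snd (v i) e).left p) := fun i p => by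
    rw [Points.map_ofPt, sqQ.lift_snd, ofPt_map]
  have hKc : ∀ i, IsCompact (K i) := fun i =>
    have := hRaff i
    have : QuasiCompact (pullback.snd (v i) e).left := inferInstance
    (pullback.snd (v i) e).left.isCompact_preimage_singleton _
  have hKO : ∀ i, ∀ p ∈ K i, ∃ r : Γ((R i).left, ⊤), p ∈ (R i).left.basicOpen r ∧
      ((R i).left.basicOpen r : Set (R i).left) ⊆ O i := fun i p hp => by
    have := hRaff i
    have hpO : p ∈ O i := fun hpA => hy ⟨_, hpA, by
      rw [hsnd, show (pullback.snd (v i) e).left p = _ from hp, Points.ofScheme_toScheme]⟩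
    obtain ⟨_, ⟨_, ⟨r, rfl⟩, rfl⟩, hr, hr'⟩ :=
      (isBasis_basicOpen (R i).left).exists_subset_of_mem_open hpO (hO i)
    exact ⟨r, hr, hr'⟩
  choose! r hr hrO using hKO
  choose t htK hts using fun i => (hKc i).elim_nhds_subcover (fun p => ((R i).left.basicOpen (r i p) : Set (R i).left))
    (fun p hp => ((R i).left.basicOpen (r i p)).isOpen.mem_nhds (hr i p hp))
  let J := Σ i, { p // p ∈ t i }
  choose N bs as hsum using fun j : J =>
    have := hU j.1
    exists_sum_of_isPushout (isPushout_appTop_of_isPullback (sq' j.1)) (r j.1 j.2.1)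
  let M := Σ j : J, Fin (N j)
  have : Finite κ := inferInstance
  obtain ⟨n, ⟨en⟩⟩ := Finite.exists_equiv_fin M
  let g : T.left ⟶ 𝔸(ULift.{u} (Fin n); W.left) :=
    AffineSpace.homOfVector e.left fun k => as (en.symm k.down).1 (en.symm k.down).2
  let g' : T ⟶ affOver W (ULift.{u} (Fin n)) := Over.homMk g (by
    show g ≫ (𝔸(ULift.{u} (Fin n); W.left) ↘ W.left) ≫ W.hom = T.hom
    rw [AffineSpace.homOfVector_over_assoc, Over.w e])
  let π := affProj W (ULift.{u} (Fin n))
  have hg' : g' ≫ π = e := Over.OverMorphism.ext (AffineSpace.homOfVector_over _ _)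
  have sqQ' : IsPullback (pullback.fst s ((yon S).map π)) (pullback.snd s ((yon S).map π)) s
    ((yon S).map π) := IsPullback.of_hasPullback _ _
  let m := sqQ'.lift q₁ (q₂ ≫ (yon S).map g') (by
    rw [Category.assoc, ← Functor.map_comp, hg']; exact sqQ.w)
  have sqm : IsPullback m q₂ (pullback.snd s ((yon S).map π)) ((yon S).map g') := by
    refine IsPullback.of_right ?_ (sqQ'.lift_snd _ _ _) sqQ'
    rw [sqQ'.lift_fst, ← Functor.map_comp, hg']
    exact sqQ
  let R' := fun i => pullback (v i) π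
  let c' := fun i => sqQ'.lift ((yon S).map (pullback.fst (v i) π) ≫ a i)
    ((yon S).map (pullback.snd (v i) π))
    (by rw [Category.assoc, ← hv, ← Functor.map_comp, ← Functor.map_comp, pullback.condition])
  have sqc' : ∀ i, IsPullback (c' i) ((yon S).map (pullback.fst (v i) π))
      (pullback.fst s ((yon S).map π)) (a i) := fun i => by
    refine IsPullback.of_right ?_ (sqQ'.lift_fst _ _ _) sqQ'.flip
    rw [sqQ'.lift_snd, ← hv]
    exact ((IsPullback.of_hasPullback (v i) π).map (yon S)).flip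
  let l := fun i => (IsPullback.of_hasPullback (v i) π).lift (pullback.fst (v i) e)
    (pullback.snd (v i) e ≫ g') (by rw [Category.assoc, hg', pullback.condition])
  have hl₁ : ∀ i, l i ≫ pullback.fst (v i) π = pullback.fst (v i) e := fun i =>
    (IsPullback.of_hasPullback (v i) π).lift_fst _ _ _
  have hl₂ : ∀ i, l i ≫ pullback.snd (v i) π = pullback.snd (v i) e ≫ g' := fun i =>
    (IsPullback.of_hasPullback (v i) π).lift_snd _ _ _
  have sql : ∀ i, IsPullback (c i) ((yon S).map (l i)) m (c' i) := fun i => by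
    refine IsPullback.of_bot ?_ ?_ (sqc' i)
    · rw [← Functor.map_comp, hl₁, sqQ'.lift_fst]
      exact sqc i
    · apply sqQ'.hom_ext
      · simp only [c, c', m, Category.assoc, sqQ'.lift_fst, sqQ.lift_fst, ← Functor.map_comp_assoc, hl₁]
      · simp only [c, c', m, Category.assoc, sqQ'.lift_snd, reassoc_of% sqQ.lift_snd, ← Functor.map_comp, hl₂]
  let r' := fun j : J => ∑ k, (pullback.fst (v j.1) π).left.appTop.hom (bs j k) *
    (pullback.snd (v j.1) π).left.appTop.hom (AffineSpace.coord W.left ⟨en ⟨j, k⟩⟩)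
  have hr' : ∀ j : J, (l j.1).left.appTop.hom (r' j) = r j.1 j.2.1 := fun j => by
    refine (map_sum _ _ _).trans ((Finset.sum_congr rfl fun k _ => ?_).trans (hsum j).symm)
    have e₁ := congr($(Scheme.Hom.comp_appTop (l j.1).left (pullback.fst (v j.1) π).left).hom (bs j k))
    have e₂ := congr($(Scheme.Hom.comp_appTop (l j.1).left (pullback.snd (v j.1) π).left).hom
      (AffineSpace.coord W.left ⟨en ⟨j, k⟩⟩))
    rw [← Over.comp_left, hl₁] at e₁
    rw [← Over.comp_left, hl₂, Over.comp_left, Scheme.Hom.comp_appTop] at e₂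
    rw [map_mul]
    refine congrArg₂ (· * ·) e₁.symm (e₂.symm.trans ?_)
    show (pullback.snd (v j.1) e).left.appTop.hom (g.appTop.hom _) = _
    erw [AffineSpace.homOfVector_appTop_coord]
    exact congrArg (fun z : M => (pullback.snd (v j.1) e).left.appTop.hom (as z.1 z.2))
      (en.symm_apply_apply ⟨j, k⟩)
  let D := fun j : J => Points.map (c' j.1) ''
    (Points.toScheme (R' j.1) ⁻¹' ((R' j.1).left.basicOpen (r' j) : Set (R' j.1).left))
  have hD : ∀ j, IsOpen (D j) := fun j =>
    isOpenMap_map_of_universallyOpen (repWith_universallyOpen_of_etale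
      (repWith_of_isPullback (sqc' j.1).flip (ha j.1))) _
      (((R' j.1).left.basicOpen (r' j)).isOpen.preimage (Points.schemeHomeo (R' j.1)).symm.continuous)
  have hmD : ∀ j, Points.map m ⁻¹' D j =
      Points.ofPt (c j.1) '' ((R j.1).left.basicOpen (r j.1 j.2.1) : Set (R j.1).left) := fun j => by
    rw [preimage_image_of_isPullback (sql j.1).flip, ← hr', ← Scheme.preimage_basicOpen_top]
    ext z
    constructor
    · rintro ⟨x, hx, rfl⟩
      simp only [Set.mem_preimage, toScheme_map_yon] at hx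
      refine ⟨Points.toScheme _ x, hx, ?_⟩
      rw [Points.ofPt_eq_map_ofScheme, Points.ofScheme_toScheme]
    · rintro ⟨p, hp, rfl⟩
      refine ⟨Points.ofScheme _ p, ?_, (Points.ofPt_eq_map_ofScheme _ _).symm⟩
      simp only [Set.mem_preimage, toScheme_map_yon, Points.toScheme_ofScheme]
      exact hp
  have hC := (H n _ (isOpen_iUnion hD).isClosed_compl).preimage
    (Points.continuous_map ((yon S).map g'))
  rw [preimage_image_of_isPullback sqm, Set.preimage_compl, Set.preimage_iUnion] at hC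
  refine ⟨_, ?_, hC.isOpen_compl, ?_⟩
  · refine Set.compl_subset_compl.2 (Set.image_mono fun z hz hz' => ?_)
    obtain ⟨j, hj⟩ := Set.mem_iUnion.1 hz'
    rw [hmD] at hj
    obtain ⟨p, hp, rfl⟩ := hj
    exact hrO j.1 j.2.1 (htK _ _ j.2.2) hp hz
  · rintro ⟨z, hz, rfl⟩
    refine hz (Set.mem_iUnion.2 ?_)
    have : Points.map q₁ z ∈ ⋃ i, Set.range (Points.ofPt (a i)) := hcov ▸ Set.mem_univ _
    obtain ⟨i, u, hu⟩ := Set.mem_iUnion.1 this
    obtain ⟨p, hp, -⟩ := exists_point_of_isPullback (sqc i) hu.symm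
    subst hp
    have hpK : p ∈ K i := by
      show (pullback.snd (v i) e).left p = _
      rw [hsnd, Points.toScheme_ofScheme]
    obtain ⟨q, hq, hpq⟩ := Set.mem_iUnion₂.1 (hts i hpK)
    exact ⟨⟨i, q, hq⟩, by rw [hmD]; exact ⟨p, hpq, rfl⟩⟩

/-- A closed map stays closed after a base change along an open immersion. -/
lemma isClosedMap_of_openImmersion {X Z Q Q' Z' : Sp S} (hQ : IsAlgSpace Q) {f : X ⟶ Z}
    {m : Q' ⟶ Q} {s' : Q' ⟶ Z'} {s : Q ⟶ Z} {j : Z' ⟶ Z} (sq : IsPullback m s' s j)
    (hj : RepWith @IsOpenImmersion j) (h : IsClosedMap (Points.map s)) :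
    IsClosedMap (Points.map s') := by
  intro A hA
  have hm := (isEmbedding_map_of_immersion hQ (f := m) (repWith_mono (P := @IsOpenImmersion)
    (fun φ (_ : IsOpenImmersion φ) => by infer_instance) (repWith_of_isPullback sq.flip hj))).1
  obtain ⟨B, hB, rfl⟩ := hm.isInducing.isClosed_iff.1 hA
  rw [← preimage_image_of_isPullback sq]
  exact (h B hB).preimage (Points.continuous_map j)

theorem isUnivClosedMor_of_affineSpace {X Y : Sp S} (hX : IsAlgSpace X) (hY : IsAlgSpace Y)
    {f : X ⟶ Y} (hqc : IsQuasiCompactMor f) {V : Over S} {p : (yon S).obj V ⟶ Y}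
    (hp : RepWith @Etale p) (hps : RepWith @Surjective p)
    (H : ∀ (n : ℕ) (Q : Sp S) (fst : Q ⟶ X) (snd : Q ⟶ (yon S).obj (affOver V (ULift.{u} (Fin n)))),
      IsPullback fst snd f ((yon S).map (affProj V (ULift.{u} (Fin n))) ≫ p) →
        IsClosedMap (Points.map snd)) :
    IsUnivClosedMor f := by
  have sqV := IsPullback.of_hasPullback f p
  refine isUnivClosedMor_of_cover hp hps sqV ((isUnivClosedMor_iff_affine _).2 fun T hT g => ?_)
  obtain ⟨e, rfl⟩ := (yon S).map_surjective g
  intro A hA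
  rw [← isOpen_compl_iff, isOpen_iff_forall_mem_open]
  intro y hy
  obtain ⟨t, rfl⟩ : ∃ t, Points.ofScheme T t = y := ⟨_, Points.ofScheme_toScheme T y⟩
  obtain ⟨_, ⟨(W₀ : V.left.Opens), hW₀, rfl⟩, htW, -⟩ := V.left.isBasis_affineOpens.exists_subset_of_mem_open
    (Set.mem_univ (e.left t)) isOpen_univ
  obtain ⟨_, ⟨(B : T.left.Opens), hB, rfl⟩, htB, hBW⟩ := T.left.isBasis_affineOpens.exists_subset_of_mem_open
    (show t ∈ e.left ⁻¹ᵁ W₀ from htW) (e.left ⁻¹ᵁ W₀).isOpen
  let W : Over S := Over.mk (W₀.ι ≫ V.hom)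
  let ιW : W ⟶ V := Over.homMk W₀.ι
  let T₀ : Over S := Over.mk (B.ι ≫ T.hom)
  let ιT : T₀ ⟶ T := Over.homMk B.ι
  let e₀ : T₀ ⟶ W := Over.homMk (e.left.resLE W₀ B hBW) (by
    show e.left.resLE W₀ B hBW ≫ W₀.ι ≫ V.hom = B.ι ≫ T.hom
    rw [Scheme.Hom.resLE_comp_ι_assoc, Over.w e])
  have he₀ : e₀ ≫ ιW = ιT ≫ e := Over.OverMorphism.ext (Scheme.Hom.resLE_comp_ι _ hBW)
  have : IsAffine W.left := hW₀
  have : IsAffine T₀.left := hB
  have sqW := IsPullback.of_hasPullback (pullback.snd f p) ((yon S).map ιW)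
  have hPV : IsAlgSpace (pullback f p) := isAlgSpace_of_isPullback hY.diag hX (IsAlgSpace.yon_obj V) sqV
  have hP : IsAlgSpace (pullback (pullback.snd f p) ((yon S).map ιW)) :=
    isAlgSpace_of_isPullback (IsAlgSpace.yon_obj V).diag hPV (IsAlgSpace.yon_obj W) sqW
  have hqW := hqc (IsAlgSpace.yon_obj W) isQuasiCompactSp_of_compactSpace
    ((yon S).map ιW ≫ p) _ _ (sqW.paste_horiz sqV)
  have hcl : IsClosedMap (Points.map
      (pullback.snd (pullback.snd (pullback.snd f p) ((yon S).map ιW)) ((yon S).map e₀))) := by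
    refine isClosedMap_snd_of_affineSpace hP hqW _ (fun n => ?_) e₀
    let jn : affOver W (ULift.{u} (Fin n)) ⟶ affOver V (ULift.{u} (Fin n)) :=
      Over.homMk (AffineSpace.map (ULift.{u} (Fin n)) W₀.ι)
        (AffineSpace.map_over_assoc W₀.ι V.hom)
    have hjn : jn ≫ affProj V _ = affProj W _ ≫ ιW := Over.OverMorphism.ext (AffineSpace.map_over _)
    have hjo : RepWith @IsOpenImmersion ((yon S).map jn) := (repWith_yon_map_iff _ _).2
      (MorphismProperty.of_isPullback (AffineSpace.isPullback_map (n := ULift.{u} (Fin n)) W₀.ι).flip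
        (inferInstanceAs (IsOpenImmersion W₀.ι)))
    have sqn := IsPullback.of_hasPullback (pullback.snd (pullback.snd f p) ((yon S).map ιW))
      ((yon S).map (affProj W (ULift.{u} (Fin n))))
    have sqb := sqn.paste_horiz sqW
    rw [← Functor.map_comp, ← hjn, Functor.map_comp] at sqb
    have sqv := IsPullback.of_hasPullback (pullback.snd f p) ((yon S).map (affProj V (ULift.{u} (Fin n))))
    let m := sqv.lift (pullback.fst _ _ ≫ pullback.fst (pullback.snd f p) ((yon S).map ιW))
      (pullback.snd _ _ ≫ (yon S).map jn) (by rw [sqb.w, Category.assoc])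
    exact isClosedMap_of_openImmersion
      (isAlgSpace_of_isPullback (IsAlgSpace.yon_obj V).diag hPV (IsAlgSpace.yon_obj _) sqv)
      (f := (yon S).map jn) (m := m)
      (IsPullback.of_right (by rw [sqv.lift_fst]; exact sqb) (sqv.lift_snd _ _ _) sqv) hjo
      (H n _ _ _ (sqv.paste_horiz sqV))
  have sqT := IsPullback.of_hasPullback (pullback.snd f p) ((yon S).map e)
  have sq₀ := (IsPullback.of_hasPullback (pullback.snd (pullback.snd f p) ((yon S).map ιW))
    ((yon S).map e₀)).paste_horiz sqW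
  rw [← Functor.map_comp, he₀, Functor.map_comp] at sq₀
  let k := sqT.lift (pullback.fst _ _ ≫ pullback.fst (pullback.snd f p) ((yon S).map ιW))
    (pullback.snd _ _ ≫ (yon S).map ιT) (by rw [sq₀.w, Category.assoc])
  have sqk : IsPullback k (pullback.snd _ ((yon S).map e₀)) (pullback.snd (pullback.snd f p) ((yon S).map e))
      ((yon S).map ιT) :=
    IsPullback.of_right (by rw [sqT.lift_fst]; exact sq₀) (sqT.lift_snd _ _ _) sqT
  have hc := hcl _ (hA.preimage (Points.continuous_map k))
  rw [← preimage_image_of_isPullback sqk] at hc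
  set Z := Points.map (pullback.snd (pullback.snd f p) ((yon S).map e)) '' A
  have hO : IsOpen (Points.map ((yon S).map ιT) '' (Points.map ((yon S).map ιT) ⁻¹' Z)ᶜ) :=
    isOpenMap_map_of_universallyOpen (repWith_universallyOpen_of_etale
      ((repWith_yon_map_iff _ _).2 (inferInstanceAs (Etale B.ι)))) _ hc.isOpen_compl
  refine ⟨_, ?_, hO, ⟨Points.ofScheme T₀ ⟨t, htB⟩, ?_, ?_⟩⟩
  · rintro _ ⟨z, hz, rfl⟩
    exact hz
  · rw [Set.mem_compl_iff, Set.mem_preimage, ← Points.ofPt_eq_map_ofScheme, ofPt_map]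
    exact hy
  · rw [← Points.ofPt_eq_map_ofScheme, ofPt_map]
    rfl

end Groth.L23
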