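import Groth.Agent.L23.Valuative2
import Groth.Agent.L23.ClosedAffineSpace
import Groth.Agent.L18.ValCrit2
import Mathlib.AlgebraicGeometry.Morphisms.Smooth

/-!
# The refined valuative criterion along a dense quasi-compact morphism
-/

universe u

open CategoryTheory CategoryTheory.Limits AlgebraicGeometry Opposite AlgSp Topology IsLocalRing

set_option backward.isDefEq.respectTransparency.types false

namespace Groth.L23

variable {S : Scheme.{u}} {U X Y : Sp S}

/-- The valuative hypothesis only for squares whose top arrow factors through `h`. -/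
def RefinedVC (h : U ⟶ X) (f : X ⟶ Y) : Prop :=
  ∀ sq : ValSq f, (∃ t : (yon S).obj sq.ptK ⟶ U, t ≫ h = sq.top) → sq.HasUniq ∧ sq.HasLiftExt

/-- The top arrow of the square factors through an etale affine chart of `U` whose image generates
the field. -/
def FGTop (h : U ⟶ X) {f : X ⟶ Y} (v : ValSq f) : Prop :=
  ∃ (E : CommRingCat.{u}) (sE : Spec E ⟶ S) (c : (yon S).obj (Over.mk sE) ⟶ U) (θ : E →+* v.K)
    (tE : v.ptK ⟶ Over.mk sE), RepWith @Etale c ∧ tE.left = Spec.map (CommRingCat.ofHom θ) ∧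
      Subfield.closure (Set.range θ) = ⊤ ∧ (yon S).map tE ≫ c ≫ h = v.top

theorem refinedVC_of_isPullback {U' X' Y' : Sp S} {h : U ⟶ X} {f : X ⟶ Y} {g : Y' ⟶ Y}
    {fst : X' ⟶ X} {f' : X' ⟶ Y'} {u : U' ⟶ U} {h' : U' ⟶ X'} (sq : IsPullback fst f' f g)
    (sqh : IsPullback u h' h fst) (hv : RefinedVC h f) : RefinedVC h' f' := by
  rintro v ⟨t, ht⟩
  let v' : ValSq f := {
    A := v.A, K := v.K, str := v.str, top := v.top ≫ fst, bot := v.bot ≫ g,
    comm := by rw [Category.assoc, sq.w, reassoc_of% v.comm] }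
  obtain ⟨hu, he⟩ := hv v' ⟨t ≫ u, by
    show (t ≫ u) ≫ h = v.top ≫ fst
    rw [Category.assoc, sqh.w, reassoc_of% ht]⟩
  refine ⟨fun l l' a b a' b' => sq.hom_ext ?_ (b.trans b'.symm), ?_⟩
  · refine hu _ _ ((Category.assoc _ _ _).symm.trans (congrArg (· ≫ fst) a)) ?_
      ((Category.assoc _ _ _).symm.trans (congrArg (· ≫ fst) a')) ?_
    · change (l ≫ fst) ≫ f = v.bot ≫ g; rw [Category.assoc, sq.w, reassoc_of% b]
    · change (l' ≫ fst) ≫ f = v.bot ≫ g; rw [Category.assoc, sq.w, reassoc_of% b']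
  obtain ⟨e, l, h₁, h₂⟩ := he
  let e' : v.DomExt :=
    { A' := e.A', K' := e.K', φ := e.φ, ψ := e.ψ, comm := e.comm, isLocalHom := e.isLocalHom }
  refine ⟨e', sq.lift l ((yon S).map (Over.homMk (Spec.map (CommRingCat.ofHom e.φ)) rfl :
      e'.ptA' ⟶ v.ptA) ≫ v.bot) (h₂.trans (Category.assoc _ _ _).symm), ?_, sq.lift_snd _ _ _⟩
  apply sq.hom_ext
  · rw [Category.assoc, sq.lift_fst, Category.assoc]; exact h₁
  · rw [Category.assoc, sq.lift_snd, Category.assoc, v.comm, ← Category.assoc, ← Category.assoc,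
      ← Functor.map_comp, ← Functor.map_comp]
    congr 2
    ext1
    simp only [Over.comp_left, Over.homMk_left]
    rw [← Spec.map_comp, ← Spec.map_comp, ← CommRingCat.ofHom_comp, ← CommRingCat.ofHom_comp]
    exact congrArg (fun r => Spec.map (CommRingCat.ofHom r)) e.comm

/-- A quasi-compact space has an affine etale atlas. -/
lemma exists_affine_atlas {P : Sp S} (h : IsQuasiCompactSp P) :
    ∃ (D : CommRingCat.{u}) (s : Spec D ⟶ S) (a : (yon S).obj (Over.mk s) ⟶ P),
      RepWith @Etale a ∧ RepWith @Surjective a := by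
  obtain ⟨U₀, a₀, ha₀, has₀, hU₀⟩ := h
  have : CompactSpace U₀.left := hU₀
  let 𝒰 := U₀.left.affineCover.finiteSubcover
  let j : (∐ fun i : 𝒰.I₀ => 𝒰.X i) ⟶ U₀.left := Sigma.desc fun i => 𝒰.f i
  have : Surjective j := ⟨fun x => by
    obtain ⟨i, y, rfl⟩ := 𝒰.exists_eq x
    exact ⟨Sigma.ι 𝒰.X i y, by rw [← Scheme.Hom.comp_apply, Sigma.ι_desc]⟩⟩
  have : Etale j := IsZariskiLocalAtSource.sigmaDesc fun i => inferInstance
  let jB := (∐ fun i : 𝒰.I₀ => 𝒰.X i).isoSpec.inv ≫ j
  exact ⟨_, jB ≫ U₀.hom, (yon S).map (Over.homMk jB rfl : Over.mk (jB ≫ U₀.hom) ⟶ U₀) ≫ a₀,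
    repWith_comp (repWith_map (inferInstanceAs (Etale jB))) ha₀,
    repWith_comp (repWith_map (inferInstanceAs (Surjective jB))) has₀⟩

section Core

/-- A valuation ring dominating a prime containing the kernel of a map to a field. -/
theorem exists_valuation_over {D L : Type u} [CommRing D] [Field L] (θ : D →+* L)
    (𝔭 : PrimeSpectrum D) (hker : ∀ d, θ d = 0 → d ∈ 𝔭.asIdeal) :
    ∃ (R : ValuationSubring L) (θR : D →+* R), R.subtype.comp θR = θ ∧
      PrimeSpectrum.comap θR (closedPoint R) = 𝔭 := by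
  have hunit : ∀ d : 𝔭.asIdeal.primeCompl, IsUnit (θ d) := fun d =>
    isUnit_iff_ne_zero.2 fun e => d.2 (hker _ e)
  obtain ⟨R, hR, hloc⟩ :=
    exists_factor_valuationRing (IsLocalization.lift (S := Localization.AtPrime 𝔭.asIdeal) hunit)
  have hmem : ∀ d, θ d ∈ R := fun d => by
    have := hR (algebraMap D _ d)
    rwa [IsLocalization.lift_eq] at this
  refine ⟨R, θ.codRestrict R.toSubring hmem, rfl, ?_⟩
  generalize hg : ((IsLocalization.lift (S := Localization.AtPrime 𝔭.asIdeal) hunit).codRestrict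
    R.toSubring hR) = θ₀ at hloc
  have hfac : θ.codRestrict R.toSubring hmem =
      θ₀.comp (algebraMap D (Localization.AtPrime 𝔭.asIdeal)) := by
    refine RingHom.ext fun d => Subtype.ext ?_
    rw [← hg]
    exact (IsLocalization.lift_eq hunit d).symm
  rw [hfac, PrimeSpectrum.comap_comp_apply, comap_closedPoint]
  exact PrimeSpectrum.ext (IsLocalization.AtPrime.comap_maximalIdeal _ 𝔭.asIdeal)

lemma closure_range_residueField {E : Type u} [CommRing E] (ε : Ideal E) [ε.IsPrime] :
    Subfield.closure (Set.range (algebraMap E ε.ResidueField)) = ⊤ := by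
  refine eq_top_iff.2 fun z _ => ?_
  obtain ⟨a, b, -, rfl⟩ := IsFractionRing.div_surjective (E ⧸ ε) z
  obtain ⟨a, rfl⟩ := Ideal.Quotient.mk_surjective a
  obtain ⟨b, rfl⟩ := Ideal.Quotient.mk_surjective b
  exact div_mem (Subfield.subset_closure ⟨a, rfl⟩) (Subfield.subset_closure ⟨b, rfl⟩)

/-- Valuation rings realising a specialization below a point dominated by `E`. -/
theorem exists_valuations {C D E : CommRingCat.{u}} (ψ : C ⟶ D) (χ : D ⟶ E)
    (hdense : DenseRange (PrimeSpectrum.comap χ.hom)) (𝔭 : PrimeSpectrum D) (𝔮 : PrimeSpectrum C)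
    (hsp : PrimeSpectrum.comap ψ.hom 𝔭 ⤳ 𝔮) :
    ∃ (L : Type u) (_ : Field L) (R R₂ : ValuationSubring L) (θE : E →+* L) (θR : D →+* R)
      (δ : C →+* R₂), R₂ ≤ R ∧ R.subtype.comp θR = θE.comp χ.hom ∧
      R₂.subtype.comp δ = (θE.comp χ.hom).comp ψ.hom ∧ Subfield.closure (Set.range θE) = ⊤ ∧
      PrimeSpectrum.comap θR (closedPoint R) = 𝔭 ∧
      PrimeSpectrum.comap δ (closedPoint R₂) = 𝔮 := by
  obtain ⟨q₀, hq₀, hq₀le⟩ := Ideal.exists_minimalPrimes_le (J := 𝔭.asIdeal) (bot_le)
  obtain ⟨ε, hε⟩ := (PrimeSpectrum.denseRange_comap_iff_minimalPrimes χ.hom).1 hdense q₀ hq₀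
  obtain ⟨R, θR, hθR, hclR⟩ :=
    exists_valuation_over ((algebraMap E ε.asIdeal.ResidueField).comp χ.hom) 𝔭 fun d hd => hq₀le <| by
      have h1 : q₀ = _ := (congrArg PrimeSpectrum.asIdeal hε).symm
      rw [h1]
      exact (Ideal.algebraMap_residueField_eq_zero (R := E)).1 hd
  have hle : (PrimeSpectrum.comap ψ.hom 𝔭).asIdeal ≤ 𝔮.asIdeal :=
    (PrimeSpectrum.le_iff_specializes _ _).2 hsp
  obtain ⟨B, β₀, hβ, hclB⟩ :=
    exists_valuation_over ((IsLocalRing.residue R).comp (θR.comp ψ.hom)) 𝔮 fun c hc => hle <| by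
      show ψ.hom c ∈ 𝔭.asIdeal
      rw [← hclR]
      exact (IsLocalRing.residue_eq_zero_iff _).1 hc
  let δ : C →+* Groth.L18.composite R B :=
    ((R.subtype.comp (θR.comp ψ.hom))).codRestrict (Groth.L18.composite R B).toSubring
      fun c => ⟨θR (ψ.hom c), (congrArg (· ∈ B) (RingHom.congr_fun hβ c)).mp (β₀ c).2, rfl⟩
  have hδres : (Groth.L18.compositeRes R B).comp δ = β₀ := by
    refine RingHom.ext fun c => Subtype.ext ?_
    exact ((congrArg (IsLocalRing.residue R) (Subtype.ext rfl)).trans (RingHom.congr_fun hβ c).symm)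
  have : IsLocalHom (Groth.L18.compositeRes R B) :=
    .of_surjective _ (Groth.L18.compositeRes_surjective R B)
  refine ⟨_, inferInstance, R, _, algebraMap E ε.asIdeal.ResidueField, θR, δ,
    Groth.L18.composite_le R B, hθR, ?_, closure_range_residueField _, hclR, ?_⟩
  · rw [← hθR]; rfl
  · rw [← comap_closedPoint (Groth.L18.compositeRes R B), ← PrimeSpectrum.comap_comp_apply, hδres,
      hclB]

/-- The valuation ring generated by an overring of `R₂` and an extension of `R₂`. -/
theorem exists_enlargement {L : Type u} [Field L] {R R₂ : ValuationSubring L} (hle : R₂ ≤ R)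
    {A' K' : Type u} [CommRing A'] [IsDomain A'] [ValuationRing A'] [Field K'] [Algebra A' K']
    [IsFractionRing A' K'] (φ : R₂ →+* A') [IsLocalHom φ] (ψK : L →+* K')
    (hcomm : ∀ r : R₂, algebraMap A' K' (φ r) = ψK (r : L)) :
    ∃ (R' : ValuationSubring K') (i : A' →+* R') (ρ : R →+* R'), IsLocalHom ρ ∧
      R'.subtype.comp i = algebraMap A' K' ∧ R'.subtype.comp ρ = ψK.comp R.subtype := by
  let M : Subring K' :=
    { carrier := {x | ∃ (r : R) (a' : A'), x = ψK (r : L) * algebraMap A' K' a'}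
      one_mem' := ⟨1, 1, by simp⟩
      zero_mem' := ⟨0, 0, by simp⟩
      mul_mem' := by
        rintro _ _ ⟨r, a', rfl⟩ ⟨r', b', rfl⟩
        exact ⟨r * r', a' * b', by simp only [MulMemClass.coe_mul, map_mul]; ring⟩
      neg_mem' := by
        rintro _ ⟨r, a', rfl⟩
        exact ⟨r, -a', by simp⟩
      add_mem' := by
        rintro _ _ ⟨r, a', rfl⟩ ⟨r', b', rfl⟩
        by_cases hr : (r : L) = 0
        · exact ⟨r', b', by simp [hr]⟩
        by_cases hr' : (r' : L) = 0
        · exact ⟨r, a', by simp [hr']⟩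
        rcases R₂.mem_or_inv_mem ((r : L) / r') with ht | ht
        · refine ⟨r', φ ⟨_, ht⟩ * a' + b', ?_⟩
          rw [map_add, map_mul, hcomm, mul_add, ← mul_assoc, ← map_mul]
          congr 3
          field_simp
        · refine ⟨r, a' + φ ⟨_, ht⟩ * b', ?_⟩
          rw [map_add, map_mul, hcomm, mul_add, ← mul_assoc, ← map_mul]
          congr 3
          field_simp }
  have hMA : ∀ a', algebraMap A' K' a' ∈ M := fun a' => ⟨1, a', by simp⟩
  let R' : ValuationSubring K' := ValuationSubring.ofSubring M fun x => by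
    rcases ValuationRing.isInteger_or_isInteger A' x with ⟨a', ha'⟩ | ⟨a', ha'⟩
    · exact Or.inl (ha' ▸ hMA a')
    · exact Or.inr (ha' ▸ hMA a')
  refine ⟨R', (algebraMap A' K').codRestrict R'.toSubring hMA,
    (ψK.comp R.subtype).codRestrict R'.toSubring fun r => ⟨r, 1, by simp⟩, ⟨fun x hx => ?_⟩, rfl, rfl⟩
  obtain ⟨⟨w, r, a', rfl⟩, hw⟩ := hx.exists_right_inv
  have hw' : ψK (x : L) * (ψK (r : L) * algebraMap A' K' a') = 1 := congrArg Subtype.val hw
  have hxr : ((x : L) * r) ≠ 0 := fun h0 => by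
    rw [← mul_assoc, ← map_mul, h0, map_zero, zero_mul] at hw'
    exact zero_ne_one hw'
  have hz : ((x : L) * r)⁻¹ ∈ R₂ := by
    by_contra hz
    have hm : (x : L) * r ∈ R₂ := by
      simpa using (R₂.mem_or_inv_mem ((x : L) * r)⁻¹).resolve_left hz
    have hu : IsUnit (φ ⟨_, hm⟩) := IsUnit.of_mul_eq_one a'
      (IsFractionRing.injective A' K' (by
        rw [map_mul, map_one, hcomm, map_mul, mul_assoc]; exact hw'))
    obtain ⟨⟨w, hwm⟩, hw⟩ := (hu.of_map φ _).exists_right_inv
    exact hz (by rw [inv_eq_of_mul_eq_one_right (congrArg Subtype.val hw)]; exact hwm)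
  refine IsUnit.of_mul_eq_one (r * ⟨_, hle hz⟩) (Subtype.ext ?_)
  show (x : L) * ((r : L) * ((x : L) * r)⁻¹) = 1
  rw [← mul_assoc, mul_inv_cancel₀ hxr]

variable {C : CommRingCat.{u}} {str : Spec C ⟶ S} {P U' : Sp S}

set_option maxHeartbeats 1000000 in
/-- The core of the refined criterion, over an affine scheme. -/
theorem isClosedMap_of_refined {π : P ⟶ (yon S).obj (Over.mk str)} (hP : IsQuasiCompactSp P)
    {h : U' ⟶ P} (hh : IsQuasiCompactMor h) (hd : DenseRange (Points.map h))
    (hu : ∀ v : ValSq π, (∃ t : (yon S).obj v.ptK ⟶ U', t ≫ h = v.top) → v.HasUniq)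
    (he : ∀ v : ValSq π, FGTop h v → v.HasLiftExt) : IsClosedMap (Points.map π) := by
  obtain ⟨D, sD, a, ha, has⟩ := exists_affine_atlas hP
  let W : Over S := Over.mk sD
  obtain ⟨φ, hφ⟩ := (yon S).map_surjective (a ≫ π)
  obtain ⟨ψ, hψ⟩ := Spec.map_surjective φ.left
  have : CompactSpace W.left := inferInstanceAs (CompactSpace (Spec D))
  have sqU := IsPullback.of_hasPullback h a
  obtain ⟨E, sE, b, hb, hbs⟩ := exists_affine_atlas
    (hh (IsAlgSpace.yon_obj W) isQuasiCompactSp_of_compactSpace a _ _ sqU)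
  obtain ⟨k, hk⟩ := (yon S).map_surjective (b ≫ pullback.snd h a)
  obtain ⟨χ, hχ⟩ := Spec.map_surjective k.left
  let c₀ : (yon S).obj (Over.mk sE) ⟶ U' := b ≫ pullback.fst h a
  have hc₀ : c₀ ≫ h = (yon S).map k ≫ a := by
    rw [Category.assoc, sqU.w, reassoc_of% hk]
  have hdense : DenseRange (PrimeSpectrum.comap χ.hom) := by
    have h₁ : Dense (Points.ofPt a ⁻¹' Set.range (Points.map h)) :=
      hd.preimage (isOpenMap_ofPt ha)
    refine h₁.mono ?_
    intro w hw
    obtain ⟨x, hx⟩ := hw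
    obtain ⟨q, -, hq⟩ := exists_of_isPullback sqU x (Points.ofScheme W w)
      (hx.trans (Points.ofPt_eq_map_ofScheme a w))
    obtain ⟨e, rfl⟩ := surjective_ofPt hbs q
    refine ⟨e, ?_⟩
    change Spec.map χ e = w
    rw [hχ]
    refine (Points.schemeEquiv W).injective ?_
    show Points.ofScheme W _ = Points.ofScheme W w
    rw [← ofPt_map, hk, ← Points.map_ofPt, hq]
  intro A hA
  let C' : Set (PrimeSpectrum D) := Points.ofPt a ⁻¹' A
  have hC : IsClosed C' := hA.preimage (Points.continuous_ofPt a)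
  have hkey : Points.map π '' A =
      Points.schemeHomeo (Over.mk str) '' (PrimeSpectrum.comap ψ.hom '' C') := by
    rw [show A = Points.ofPt a '' C' from (Set.image_preimage_eq _ (surjective_ofPt has)).symm,
      Set.image_image, Set.image_image]
    refine Set.image_congr fun x _ => ?_
    rw [Points.map_ofPt, ← hφ, ofPt_map, ← hψ]
    rfl
  rw [hkey]
  refine (Points.schemeHomeo _).isClosedMap _
    (PrimeSpectrum.isClosed_image_of_stableUnderSpecialization _ _ hC ?_)
  rintro _ 𝔮 hsp ⟨𝔭, h𝔭, rfl⟩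
  obtain ⟨L, _, R, R₂, θE, θR, δ, hR₂, hθR, hθψ', hgen, hclR, hclδ⟩ :=
    exists_valuations ψ χ hdense 𝔭 𝔮 hsp
  -- the square
  let str₂ : Spec (CommRingCat.of R₂) ⟶ S := Spec.map (CommRingCat.ofHom δ) ≫ str
  let ptK : Over S := Over.mk (Spec.map (CommRingCat.ofHom (algebraMap R₂ L)) ≫ str₂)
  have hθψ : (algebraMap R₂ L).comp δ = (θE.comp χ.hom).comp ψ.hom := hθψ'
  have hψw : Spec.map ψ ≫ str = sD := by rw [hψ]; exact Over.w φ
  have hχw : Spec.map χ ≫ sD = sE := by rw [hχ]; exact Over.w k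
  let tE : ptK ⟶ Over.mk sE := Over.homMk (Spec.map (CommRingCat.ofHom θE)) (by
    show Spec.map (CommRingCat.ofHom θE) ≫ sE = Spec.map _ ≫ Spec.map _ ≫ str
    rw [← hχw, ← hψw, ← Spec.map_comp_assoc, ← Spec.map_comp_assoc, ← Spec.map_comp_assoc,
      ← CommRingCat.ofHom_comp, hθψ]
    rfl)
  let top₀ : (yon S).obj ptK ⟶ P := (yon S).map tE ≫ c₀ ≫ h
  let v : ValSq π :=
    { A := R₂, K := L, str := str₂, top := top₀
      bot := (yon S).map (Over.homMk (Spec.map (CommRingCat.ofHom δ)) rfl)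
      comm := by
        simp only [top₀, Category.assoc, reassoc_of% hc₀, ← hφ, ← Functor.map_comp]
        congr 1
        ext1
        simp only [Over.comp_left, Over.homMk_left, tE, ← hψ, ← hχ, ← Spec.map_comp]
        refine congrArg Spec.map ?_
        ext c
        exact (RingHom.congr_fun hθψ c).symm }
  obtain ⟨e, l, hl₁, hl₂⟩ := he v ⟨E, sE, c₀, θE, tE,
    repWith_comp hb (repWith_of_isPullback sqU.flip ha), rfl, hgen, rfl⟩
  let ψK : L →+* e.K' := e.ψ
  let φA : R₂ →+* e.A' := e.φ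
  have hcomm : ∀ r : R₂, algebraMap e.A' e.K' (φA r) = ψK (r : L) := fun r =>
    RingHom.congr_fun e.comm r
  have hφloc : IsLocalHom φA := e.isLocalHom
  obtain ⟨R', i, ρ, hρ, hi, hρK⟩ := exists_enlargement hR₂ φA ψK hcomm
  have hiK : (algebraMap R' e.K').comp i = algebraMap e.A' e.K' := hi
  have hρi : i.comp (φA.comp δ) = ρ.comp (θR.comp ψ.hom) := by
    refine RingHom.ext fun c => Subtype.ext ?_
    refine (RingHom.congr_fun hi _).trans ((hcomm (δ c)).trans ?_)
    refine Eq.trans ?_ (RingHom.congr_fun hρK _).symm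
    exact congrArg ψK ((RingHom.congr_fun hθψ' c).trans (RingHom.congr_fun hθR _).symm)
  -- the two lifts
  let str' : Spec (CommRingCat.of R') ⟶ S :=
    Spec.map (CommRingCat.ofHom i) ≫ Spec.map (CommRingCat.ofHom e.φ) ≫ str₂
  let ptK' : Over S := Over.mk (Spec.map (CommRingCat.ofHom (algebraMap R' e.K')) ≫ str')
  let iA : Over.mk str' ⟶ e.ptA' := Over.homMk (Spec.map (CommRingCat.ofHom i)) rfl
  let iW : Over.mk str' ⟶ W := Over.homMk (Spec.map (CommRingCat.ofHom (ρ.comp θR))) (by
    show _ ≫ sD = _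
    simp only [str', str₂, ← hψw, ← Spec.map_comp_assoc]
    simp only [Over.mk_hom, ← Spec.map_comp_assoc, Category.assoc]
    exact congrArg (fun r => Spec.map (CommRingCat.ofHom r) ≫ str) hρi.symm)
  let tK : ptK' ⟶ ptK := Over.homMk (Spec.map (CommRingCat.ofHom ψK)) (by
    show _ = Spec.map (CommRingCat.ofHom (algebraMap R' e.K')) ≫ str'
    simp only [ptK, str', str₂, Over.mk_hom, ← Spec.map_comp_assoc]
    congr 2
    ext c
    exact ((RingHom.congr_fun hiK _).trans (hcomm (δ c))).symm)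
  let lamA := (yon S).map iA ≫ l
  let lamW := (yon S).map iW ≫ a
  have hlam : lamA ≫ π = lamW ≫ π := by
    simp only [lamA, lamW, Category.assoc, hl₂, ← hφ, v, ← Functor.map_comp]
    congr 1
    ext1
    simp only [iA, iW, Over.comp_left, Over.homMk_left, ← hψ, ← Spec.map_comp]
    refine congrArg Spec.map ?_
    exact congrArg CommRingCat.ofHom hρi
  let j' : ptK' ⟶ Over.mk str' :=
    Over.homMk (Spec.map (CommRingCat.ofHom (algebraMap R' e.K'))) rfl
  let jA : e.ptK' ⟶ e.ptA' :=
    Over.homMk (Spec.map (CommRingCat.ofHom (algebraMap e.A' e.K'))) rfl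
  let κ : ptK' ⟶ e.ptK' := Over.homMk (𝟙 _) (by
    show 𝟙 _ ≫ Spec.map _ ≫ Spec.map _ ≫ str₂ = Spec.map _ ≫ Spec.map _ ≫ Spec.map _ ≫ str₂
    rw [Category.id_comp, ← Spec.map_comp_assoc (CommRingCat.ofHom i), ← CommRingCat.ofHom_comp, hiK])
  have ha1 : (yon S).map j' ≫ lamA = (yon S).map tK ≫ top₀ := by
    have hji : j' ≫ iA = κ ≫ jA := Over.OverMorphism.ext ((Spec.map_comp _ _).symm.trans
      ((congrArg (fun r => Spec.map (CommRingCat.ofHom r)) hiK).trans (Category.id_comp _).symm))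
    rw [← Category.assoc, ← Functor.map_comp, hji, Functor.map_comp, Category.assoc]
    refine (congrArg ((yon S).map κ ≫ ·) hl₁).trans ?_
    rw [← Category.assoc, ← Functor.map_comp]
    congr 2
  have ha2 : (yon S).map j' ≫ lamW = (yon S).map tK ≫ top₀ := by
    simp only [lamW, top₀, reassoc_of% hc₀, hc₀, ← Functor.map_comp_assoc]
    congr 2
    ext1
    simp only [j', iW, tK, tE, Over.comp_left, Over.homMk_left, ← hχ, ← Spec.map_comp]
    refine congrArg Spec.map ?_
    ext d
    exact (RingHom.congr_fun hρK _).trans (congrArg ψK (RingHom.congr_fun hθR d))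
  let v' : ValSq π :=
    { A := R', K := e.K', str := str', top := (yon S).map tK ≫ top₀, bot := lamW ≫ π
      comm := by rw [← ha2, Category.assoc] }
  have heq : lamA = lamW := (hu v' ⟨(yon S).map tK ≫ (yon S).map tE ≫ c₀, by
    simp [v', top₀]⟩) lamA lamW ha1 hlam ha2 rfl
  -- points
  have hp : Points.ofPt l (Spec.map (CommRingCat.ofHom i) (closedPoint R')) = Points.ofPt a 𝔭 := by
    refine (ofPt_comp iA l _).symm.trans ((congrArg (fun m => Points.ofPt m _) heq).trans
      ((ofPt_comp iW a _).trans (congrArg (Points.ofPt a) ?_)))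
    show PrimeSpectrum.comap (ρ.comp θR) (closedPoint R') = 𝔭
    rw [PrimeSpectrum.comap_comp_apply, comap_closedPoint, hclR]
  have hqA : Points.ofPt l (closedPoint e.A') ∈ A := by
    have hs : Spec.map (CommRingCat.ofHom i) (closedPoint R') ⤳ closedPoint e.A' :=
      specializes_closedPoint _
    exact hs.mem_closed (hA.preimage (Points.continuous_ofPt l))
      (show Points.ofPt l _ ∈ A by rw [hp]; exact h𝔭)
  obtain ⟨x, hx⟩ := surjective_ofPt has (Points.ofPt l (closedPoint e.A'))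
  refine ⟨x, show Points.ofPt a x ∈ A by rw [hx]; exact hqA, ?_⟩
  refine (Points.schemeEquiv (Over.mk str)).injective ?_
  show Points.ofScheme (Over.mk str) (Spec.map ψ x) = Points.ofScheme (Over.mk str) 𝔮
  rw [hψ, ← ofPt_map, hφ, ← Points.map_ofPt, hx, Points.map_ofPt, hl₂, ofPt_comp,
    show v.bot = (yon S).map _ from rfl, ofPt_map]
  refine congrArg (Points.ofScheme (Over.mk str)) ?_
  show PrimeSpectrum.comap δ (PrimeSpectrum.comap e.φ (closedPoint e.A')) = 𝔮
  rw [comap_closedPoint, hclδ]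

end Core

lemma flat_affineSpace {n : Type u} (T : Scheme.{u}) : Flat (𝔸(n; T) ↘ T) :=
  MorphismProperty.pullback_fst _ _ <| by
  have := isIso_of_isTerminal specULiftZIsTerminal.{u} terminalIsTerminal (terminal.from _)
  rw [← terminal.comp_from (Spec.map (CommRingCat.ofHom MvPolynomial.C)),
    MorphismProperty.cancel_right_of_respectsIso (P := @Flat),
    HasRingHomProperty.Spec_iff (P := @Flat)]
  exact RingHom.flat_algebraMap_iff.2 (inferInstanceAs (Module.Flat (ULift.{u} ℤ) (MvPolynomial n (ULift.{u} ℤ))))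

/-- Universal closedness follows from closedness over affine opens of affine spaces over a chart. -/
theorem isUnivClosedMor_of_affineOpens (hX : IsAlgSpace X) (hY : IsAlgSpace Y)
    {f : X ⟶ Y} (hf : IsQuasiCompactMor f) {V : Over S} {p : (yon S).obj V ⟶ Y}
    (hp : RepWith @Etale p) (hps : RepWith @Surjective p)
    (H : ∀ (n : ℕ) (C : CommRingCat.{u}) (j : Spec C ⟶ (affOver V (ULift.{u} (Fin n))).left)
      [IsOpenImmersion j] (g : (yon S).obj (Over.mk (j ≫ (affOver V _).hom)) ⟶ Y),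
      g = (yon S).map (Over.homMk j rfl) ≫ (yon S).map (affProj V _) ≫ p →
      RepWith @UniversallyOpen g →
      ∀ (Q : Sp S) (k : Q ⟶ X) (π : Q ⟶ (yon S).obj (Over.mk (j ≫ (affOver V _).hom))),
        IsPullback k π f g → IsClosedMap (Points.map π)) :
    IsUnivClosedMor f := by
  refine isUnivClosedMor_of_affineSpace hX hY hf hp hps fun n Q fst snd sq => ?_
  let T := affOver V (ULift.{u} (Fin n))
  let g := (yon S).map (affProj V (ULift.{u} (Fin n))) ≫ p
  have hg : RepWith @UniversallyOpen g := by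
    refine repWith_comp ?_ (repWith_universallyOpen_of_etale hp)
    refine repWith_map ?_
    have : Flat (affProj V (ULift.{u} (Fin n))).left := flat_affineSpace _
    have : LocallyOfFinitePresentation (affProj V (ULift.{u} (Fin n))).left :=
      inferInstanceAs (LocallyOfFinitePresentation (𝔸(ULift.{u} (Fin n); V.left) ↘ V.left))
    infer_instance
  intro A hA
  refine isOpen_compl_iff.1 ((Points.schemeHomeo T).isQuotientMap.isOpen_preimage.1
    (isOpen_of_affine_cover fun B hB => ?_))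
  have : IsAffine (B : Scheme.{u}) := hB
  let j : Spec Γ((B : Scheme.{u}), ⊤) ⟶ T.left := (B : Scheme.{u}).isoSpec.inv ≫ B.ι
  let jT : Over.mk (j ≫ T.hom) ⟶ T := Over.homMk j rfl
  have hg' : RepWith @UniversallyOpen ((yon S).map jT ≫ g) :=
    repWith_comp (repWith_map (inferInstanceAs (UniversallyOpen j))) hg
  have sqB := IsPullback.of_hasPullback snd ((yon S).map jT)
  have sqX := sqB.paste_horiz sq
  have hcl := H n _ j _ rfl hg' _ _ _ sqX
  have himg : Points.map (pullback.snd snd ((yon S).map jT)) ''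
        (Points.map (pullback.fst snd _) ⁻¹' A) =
      Points.map ((yon S).map jT) ⁻¹' (Points.map snd '' A) :=
    (preimage_image_of_isPullback sqB A).symm
  have := hcl _ (hA.preimage (Points.continuous_map (pullback.fst snd ((yon S).map jT))))
  rw [himg] at this
  have h2 := ((this.preimage (Points.schemeHomeo _).continuous).preimage
    (B : Scheme.{u}).isoSpec.hom.continuous).isOpen_compl
  refine (congrArg IsOpen ?_).mp h2
  ext z
  simp only [Set.mem_preimage, Set.mem_compl_iff]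
  rw [Points.map_yon_map_apply]
  have hz : jT.left ((B : Scheme.{u}).isoSpec.hom z) = B.ι z := by
    show ((B : Scheme.{u}).isoSpec.inv ≫ B.ι) ((B : Scheme.{u}).isoSpec.hom z) = _
    rw [← Scheme.Hom.comp_apply, Iso.hom_inv_id_assoc]
  rw [hz]

theorem isUnivClosedMor_of_refined (hU : IsAlgSpace U) (hX : IsAlgSpace X) (hY : IsAlgSpace Y)
    {h : U ⟶ X} {f : X ⟶ Y} (hf : IsQuasiCompactMor f) (hh : IsQuasiCompactMor h)
    (hd : DenseRange (Points.map h)) (hv : RefinedVC h f) : IsUnivClosedMor f := by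
  obtain ⟨V, p, hp, hps⟩ := hY.atlas
  refine isUnivClosedMor_of_affineOpens hX hY hf hp hps fun n C j _ g _ hg Q k π sqX => ?_
  have sqh := IsPullback.of_hasPullback h k
  have : CompactSpace (Over.mk (j ≫ (affOver V (ULift.{u} (Fin n))).hom)).left :=
    inferInstanceAs (CompactSpace (Spec C))
  have hd' : DenseRange (Points.map (pullback.snd h k)) := by
    rw [DenseRange, range_fst_of_isPullback sqh.flip]
    exact hd.preimage (isOpenMap_map_of_universallyOpen (repWith_of_isPullback sqX.flip hg))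
  have hv' := refinedVC_of_isPullback sqX sqh hv
  exact isClosedMap_of_refined
    (hf (IsAlgSpace.yon_obj _) isQuasiCompactSp_of_compactSpace _ k π sqX)
    (qcMor_of_isPullback sqh hh) hd' (fun v ht => (hv' v ht).1)
    (fun v ⟨E, sE, c, θ, tE, _, _, _, e⟩ => (hv' v ⟨(yon S).map tE ≫ c,
      (Category.assoc _ _ _).trans e⟩).2)

theorem isSeparatedMor_of_refined (hU : IsAlgSpace U) (hX : IsAlgSpace X) (hY : IsAlgSpace Y)
    {h : U ⟶ X} {f : X ⟶ Y} (hh : IsQuasiCompactMor h) (hd : DenseRange (Points.map h))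
    (hqs : IsQuasiSeparatedMor f) (hv : RefinedVC h f) : IsSeparatedMor f := by
  refine (isSeparatedMor_iff_univClosed hX f).2 (isUnivClosedMor_of_refined hU hX
    (isAlgSpace_of_isPullback hY.diag hX hX (IsPullback.of_hasPullback f f))
    (isQuasiCompactMor_of_repWith hqs) hh hd ?_)
  rintro v ⟨t, ht⟩
  let v' : ValSq f :=
    { A := v.A, K := v.K, str := v.str, top := v.top, bot := v.bot ≫ pullback.fst f f ≫ f,
      comm := by rw [← reassoc_of% v.comm]; simp }
  have hu := (hv v' ⟨t, ht⟩).1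
  have hd₁ : ∀ {Z : Sp S} (l l' : Z ⟶ X), l ≫ pullback.diagonal f = l' ≫ pullback.diagonal f → l = l' :=
    fun l l' e => by simpa using e =≫ pullback.fst f f
  refine ⟨fun l l' _ b _ b' => hd₁ l l' (b.trans b'.symm), ?_⟩
  have h' : v.bot ≫ pullback.fst f f = v.bot ≫ pullback.snd f f :=
    hu _ _ (by rw [← reassoc_of% v.comm]; simp [v']) (Category.assoc _ _ _)
      (by rw [← reassoc_of% v.comm]; simp [v'])
      ((Category.assoc _ _ _).trans (congrArg (v.bot ≫ ·) pullback.condition.symm))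
  let e : v.DomExt :=
    { A' := v.A, K' := v.K, φ := RingHom.id _, ψ := RingHom.id _, comm := rfl
      isLocalHom := ⟨fun _ h => h⟩ }
  let i : e.ptA' ⟶ v.ptA := Over.homMk (Spec.map (CommRingCat.ofHom e.φ)) rfl
  refine ⟨e, (yon S).map i ≫ v.bot ≫ pullback.fst f f, ?_, ?_⟩
  · rw [show v.top = ((yon S).map v.j ≫ v.bot) ≫ pullback.fst f f by rw [← v.comm]; simp]
    simp only [Category.assoc, ← Functor.map_comp_assoc]
    congr 2
    ext1
    simp only [i, e, Over.comp_left, Over.homMk_left, CommRingCat.ofHom_id, Spec.map_id]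
    exact (Category.comp_id _).trans (Category.id_comp _).symm
  · simp only [Category.assoc]
    congr 1
    apply pullback.hom_ext <;> simp [h']

end Groth.L23
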