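import Groth.Agent.L23.SpaceFibre
import Groth.Agent.L20.ThickeningFlat
import Groth.Agent.L17.ThickBasic
import Groth.Agent.L22.Ideal
import Groth.Prelude.Def_AlgSpInf

/-!
# Charts for deformations of morphisms of algebraic spaces along a thickening of the base
-/

universe u

open CategoryTheory CategoryTheory.Limits AlgebraicGeometry AlgSp

set_option backward.isDefEq.respectTransparency.types false

namespace Groth.L23

variable {S : Scheme.{u}}

theorem isThickening_of_isThickMor {F G : Sp S} {i : F ⟶ G} (h : IsThickMor i) {V W : Over S}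
    {b : (yon S).obj V ⟶ G} {c : (yon S).obj W ⟶ F} {snd : W ⟶ V}
    (sq : IsPullback ((yon S).map snd) c b i) : MoreMor.IsThickening snd.left :=
  repWith_prop h sq.flip

/-- A finite order thickening pulls back along an etale chart to a finite order thickening of schemes. -/
theorem isFiniteOrderThickening_of_isFinThickMor {F G : Sp S} {i : F ⟶ G} (h : IsFinThickMor i)
    {V W : Over S} {b : (yon S).obj V ⟶ G} (hb : RepWith @Etale b) {c : (yon S).obj W ⟶ F}
    {snd : W ⟶ V} (sq : IsPullback ((yon S).map snd) c b i) :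
    MoreMor.IsFiniteOrderThickening snd.left := by
  obtain ⟨n, hi, hn⟩ := h
  have hth := isThickening_of_isThickMor hi sq
  refine ⟨hth, n + 1, ?_⟩
  have := hth.1
  ext O : 2
  rw [Scheme.IdealSheafData.ideal_pow, Pi.pow_apply]
  let V₀ : Over S := Over.mk (O.1.ι ≫ V.hom)
  let W₀ : Over S := Over.mk ((snd.left ⁻¹ᵁ O.1).ι ≫ W.hom)
  let o : V₀ ⟶ V := Over.homMk O.1.ι rfl
  let o' : W₀ ⟶ W := Over.homMk (snd.left ⁻¹ᵁ O.1).ι rfl
  let r : W₀ ⟶ V₀ := Over.homMk (snd.left ∣_ O.1) (by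
    show _ ≫ _ ≫ V.hom = _ ≫ W.hom
    rw [morphismRestrict_ι_assoc, Over.w snd])
  have sqr : IsPullback r o' o snd :=
    IsPullback.of_map (Over.forget S) (Over.OverMorphism.ext (morphismRestrict_ι _ _))
      (isPullback_morphismRestrict snd.left O.1)
  have hE : RepWith @Etale ((yon S).map o ≫ b) :=
    repWith_comp (repWith_map (show Etale o.left from inferInstanceAs (Etale O.1.ι))) hb
  have hp : powZero n r.left := hn ((yon S).map o ≫ b) ((yon S).map o' ≫ c) r
    (show IsAffine O.1.toScheme from O.2) hE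
    ((sqr.map (yon S)).paste_vert sq).flip
  have hk : (snd.left ∣_ O.1).ker = snd.left.ker.comap O.1.ι :=
    Groth.L17.Thick.ker_of_isPullback (isPullback_morphismRestrict snd.left O.1)
  have h0 := congr(($(show (snd.left ∣_ O.1).ker ^ (n + 1) = ⊥ from hp)).ideal ⟨⊤, @isAffineOpen_top _ O.2⟩)
  rw [hk, Scheme.IdealSheafData.ideal_pow, Pi.pow_apply, Groth.L22.Ideals.comap_ideal_ι, ← Ideal.map_pow,
    Scheme.IdealSheafData.ideal_bot, Pi.bot_apply,
    Ideal.map_eq_bot_iff_of_injective] at h0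
  · exact h0.trans (by simp [Scheme.IdealSheafData.ideal_bot])
  · exact (ConcreteCategory.bijective_of_isIso O.1.topIso.inv).1

/-- Compatible charts of a deformation of a morphism of algebraic spaces. -/
structure DeformChart {X X' Y Y' B B' : Sp S} (iX : X ⟶ X') (iY : Y ⟶ Y') (iB : B ⟶ B')
    (f : X ⟶ Y) (f' : X' ⟶ Y') (g : Y ⟶ B) (g' : Y' ⟶ B') where
  (U U' V V' W W' : Over S)
  (h : U ⟶ V) (h' : U' ⟶ V') (k : V ⟶ W) (k' : V' ⟶ W')
  (iU : U ⟶ U') (iV : V ⟶ V') (iW : W ⟶ W')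
  (a : (yon S).obj U ⟶ X) (a' : (yon S).obj U' ⟶ X') (b : (yon S).obj V ⟶ Y)
  (b' : (yon S).obj V' ⟶ Y') (c : (yon S).obj W ⟶ B) (c' : (yon S).obj W' ⟶ B')
  ha : RepWith @Etale a
  has : RepWith @Surjective a
  ha' : RepWith @Etale a'
  has' : RepWith @Surjective a'
  hb : RepWith @Etale b
  hbs : RepWith @Surjective b
  hb' : RepWith @Etale b'
  hbs' : RepWith @Surjective b'
  hc : RepWith @Etale c
  hc' : RepWith @Etale c'
  w₁ : a ≫ f = (yon S).map h ≫ b
  w₁' : a' ≫ f' = (yon S).map h' ≫ b'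
  w₂ : b ≫ g = (yon S).map k ≫ c
  w₂' : b' ≫ g' = (yon S).map k' ≫ c'
  sqa : IsPullback ((yon S).map iU) a a' iX
  sqb : IsPullback ((yon S).map iV) b b' iY
  sqc : IsPullback ((yon S).map iW) c c' iB
  sqU : IsPullback iU.left (h.left ≫ k.left) (h'.left ≫ k'.left) iW.left
  sqV : IsPullback iV.left k.left k'.left iW.left
  sq₁ : IsPullback iU.left h.left h'.left iV.left
  w : iU.left ≫ h'.left = h.left ≫ iV.left

theorem nonempty_deformChart {X X' Y Y' B B' : Sp S} (hX' : IsAlgSpace X') (hY' : IsAlgSpace Y')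
    (hB' : IsAlgSpace B') {iX : X ⟶ X'} {iY : Y ⟶ Y'} {iB : B ⟶ B'} {f : X ⟶ Y} {f' : X' ⟶ Y'}
    {g : Y ⟶ B} {g' : Y' ⟶ B'} (hcX : IsPullback iX (f ≫ g) (f' ≫ g') iB)
    (hcY : IsPullback iY g g' iB) (w : iX ≫ f' = f ≫ iY) (hiB : IsThickMor iB) :
    Nonempty (DeformChart iX iY iB f f' g g') := by
  obtain ⟨W', c', hc', hcs'⟩ := hB'.atlas
  obtain ⟨V₁, b₁, hb₁, hbs₁⟩ := hY'.atlas
  obtain ⟨U₁, a₁, ha₁, has₁⟩ := hX'.atlas
  obtain ⟨V', q, k', -, hb', hbs', w₂'⟩ := exists_chart_of_charts g' hb₁ hbs₁ hc' hcs'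
  obtain ⟨U', p, h', -, ha', has', w₁'⟩ := exists_chart_of_charts f' ha₁ has₁ hb' hbs'
  generalize (yon S).map q ≫ b₁ = b' at hb' hbs' w₂' w₁'
  generalize (yon S).map p ≫ a₁ = a' at ha' has' w₁'
  obtain ⟨W, iW, c, sqc⟩ : ∃ (W : Over S) (iW : W ⟶ W') (c : (yon S).obj W ⟶ B),
      IsPullback ((yon S).map iW) c c' iB :=
    ⟨_, _, _, (hiB.1.isPullback c').flip⟩
  let V := pullback k' iW
  let iV : V ⟶ V' := pullback.fst k' iW
  let k : V ⟶ W := pullback.snd k' iW
  let U := pullback h' iV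
  let iU : U ⟶ U' := pullback.fst h' iV
  let h : U ⟶ V := pullback.snd h' iV
  have sV : IsPullback iV k k' iW := IsPullback.of_hasPullback _ _
  have sU : IsPullback iU h h' iV := IsPullback.of_hasPullback _ _
  have bigV : IsPullback ((yon S).map iV) ((yon S).map k ≫ c) (b' ≫ g') iB :=
    w₂' ▸ (sV.map (yon S)).paste_vert sqc
  let b : (yon S).obj V ⟶ Y :=
    hcY.lift ((yon S).map iV ≫ b') ((yon S).map k ≫ c) (by rw [Category.assoc, bigV.w])
  have eb : b ≫ g = (yon S).map k ≫ c := hcY.lift_snd _ _ _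
  have sqb : IsPullback ((yon S).map iV) b b' iY :=
    IsPullback.of_bot (eb.symm ▸ bigV) (hcY.lift_fst _ _ _).symm hcY
  have hc₁ : IsPullback iX f f' iY := IsPullback.of_bot hcX w hcY
  have bigU : IsPullback ((yon S).map iU) ((yon S).map h ≫ b) (a' ≫ f') iY :=
    w₁' ▸ (sU.map (yon S)).paste_vert sqb
  let a : (yon S).obj U ⟶ X :=
    hc₁.lift ((yon S).map iU ≫ a') ((yon S).map h ≫ b) (by rw [Category.assoc, bigU.w])
  have ea : a ≫ f = (yon S).map h ≫ b := hc₁.lift_snd _ _ _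
  have sqa : IsPullback ((yon S).map iU) a a' iX :=
    IsPullback.of_bot (ea.symm ▸ bigU) (hc₁.lift_fst _ _ _).symm hc₁
  exact ⟨{
    U := U, U' := U', V := V, V' := V', W := W, W' := W', h := h, h' := h', k := k, k' := k',
    iU := iU, iV := iV, iW := iW, a := a, a' := a', b := b, b' := b', c := c, c' := c',
    ha := repWith_of_isPullback sqa ha', has := repWith_of_isPullback sqa has', ha' := ha', has' := has',
    hb := repWith_of_isPullback sqb hb', hbs := repWith_of_isPullback sqb hbs', hb' := hb', hbs' := hbs',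
    hc := repWith_of_isPullback sqc hc', hc' := hc', w₁ := ea, w₁' := w₁', w₂ := eb, w₂' := w₂',
    sqa := sqa, sqb := sqb, sqc := sqc,
    sqU := (sU.paste_vert sV).map (Over.forget S), sqV := sV.map (Over.forget S),
    sq₁ := sU.map (Over.forget S), w := (sU.map (Over.forget S)).w }⟩

namespace DeformChart

variable {X X' Y Y' B B' : Sp S} {iX : X ⟶ X'} {iY : Y ⟶ Y'} {iB : B ⟶ B'}
    {f : X ⟶ Y} {f' : X' ⟶ Y'} {g : Y ⟶ B} {g' : Y' ⟶ B'} (D : DeformChart iX iY iB f f' g g')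

include D

theorem locP_iff {P : MorphismProperty Scheme.{u}} (hP : EtLocal P) : LocP P f ↔ P D.h.left :=
  ⟨fun H => H D.a D.b D.h D.ha D.hb D.w₁, fun H => locP_of_chart hP D.ha D.has D.hb D.w₁ H⟩

theorem locP_iff' {P : MorphismProperty Scheme.{u}} (hP : EtLocal P) : LocP P f' ↔ P D.h'.left :=
  ⟨fun H => H D.a' D.b' D.h' D.ha' D.hb' D.w₁', fun H => locP_of_chart hP D.ha' D.has' D.hb' D.w₁' H⟩

theorem locP_comp_apply {P : MorphismProperty Scheme.{u}} (H : LocP P (f' ≫ g')) :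
    P (D.h'.left ≫ D.k'.left) :=
  H D.a' D.c' (D.h' ≫ D.k') D.ha' D.hc' (by
    rw [reassoc_of% D.w₁', D.w₂', Functor.map_comp, Category.assoc])

theorem locP_apply_right {P : MorphismProperty Scheme.{u}} (H : LocP P g') : P D.k'.left :=
  H D.b' D.c' D.k' D.hb' D.hc' D.w₂'

theorem isThickening (hB : IsThickMor iB) : MoreMor.IsThickening D.iW.left :=
  isThickening_of_isThickMor hB D.sqc

theorem isFiniteOrderThickening (hB : IsFinThickMor iB) : MoreMor.IsFiniteOrderThickening D.iW.left :=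
  isFiniteOrderThickening_of_isFinThickMor hB D.hc' D.sqc

end DeformChart

end Groth.L23
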