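import Groth.Agent.L23.LocalDimEtale
import Groth.Agent.L23.DeformChart
import Groth.Agent.L23.LocP
import Groth.Prelude.Def_AlgSpDec

/-!
# The relative dimension of a morphism of algebraic spaces at a point
-/

universe u

open CategoryTheory CategoryTheory.Limits AlgebraicGeometry AlgSp Topology

set_option backward.isDefEq.respectTransparency.types false

namespace Groth.L23

variable {S : Scheme.{u}} {X Y : Sp S}

theorem fibreDimAt_of_other_chart {f : X ⟶ Y} {U V U' V' : Over S} {a : (yon S).obj U ⟶ X}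
    {b : (yon S).obj V ⟶ Y} {h : U ⟶ V} {a' : (yon S).obj U' ⟶ X} {b' : (yon S).obj V' ⟶ Y}
    {h' : U' ⟶ V'} (ha : RepWith @Etale a) (hb : RepWith @Etale b) (ha' : RepWith @Etale a')
    (hb' : RepWith @Etale b') (w : a ≫ f = (yon S).map h ≫ b) (w' : a' ≫ f = (yon S).map h' ≫ b')
    {u : U.left} {u' : U'.left} (e : Points.ofPt a' u' = Points.ofPt a u) :
    FlatMor.fibreDimAt h'.left u' = FlatMor.fibreDimAt h.left u := by
  obtain ⟨U₂, p', p, sqU⟩ := exists_isPullback_of_representable ha'.1 a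
  obtain ⟨V₂, r', r, sqV⟩ := exists_isPullback_of_representable hb'.1 b
  have hp : Etale p.left := repWith_prop ha' sqU
  have hr : Etale r.left := repWith_prop hb' sqV
  have hp' : Etale p'.left := repWith_prop ha sqU.flip
  have hr' : Etale r'.left := repWith_prop hb sqV.flip
  obtain ⟨l, hl', hl⟩ := exists_lift_yon sqV (p' ≫ h') (p ≫ h) (by
    rw [Functor.map_comp, Functor.map_comp, Category.assoc, Category.assoc, ← w, ← w', ← Category.assoc,
      ← Category.assoc, sqU.w])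
  obtain ⟨v, hv, hv'⟩ := exists_point_of_isPullback sqU (x := Points.ofScheme U' u') (u := u) (by
    rw [← Points.ofPt_eq_map_ofScheme, e])
  replace hv : p'.left v = u' := (Points.schemeEquiv U').injective (by
    show Points.ofScheme U' _ = Points.ofScheme U' _
    rw [← ofPt_map]; exact hv)
  subst hv hv'
  rw [fibreDimAt_eq_of_etale_nhds h'.left l.left p'.left r'.left congr($(hl').left) v,
    fibreDimAt_eq_of_etale_nhds h.left l.left p.left r.left congr($(hl).left) v]

/-- One chart diagram computes the relative dimension at a point. -/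
theorem hasAtMor_fibreDim_iff (P : WithBot ℕ∞ → Prop) {f : X ⟶ Y} {U V : Over S}
    {a : (yon S).obj U ⟶ X} {b : (yon S).obj V ⟶ Y} {h : U ⟶ V} (ha : RepWith @Etale a)
    (hb : RepWith @Etale b) (w : a ≫ f = (yon S).map h ≫ b) (u : U.left) :
    HasAtMor (fun _ _ h u => P (FlatMor.fibreDimAt h u)) f (Points.ofPt a u) ↔
      P (FlatMor.fibreDimAt h.left u) := by
  refine ⟨?_, fun H => ⟨U, V, a, b, h, u, ha, hb, w, rfl, H⟩⟩
  rintro ⟨U', V', a', b', h', u', ha', hb', w', e, H⟩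
  rwa [fibreDimAt_of_other_chart ha hb ha' hb' w w' e] at H

theorem forall_hasAtMor_fibreDim_iff (P : WithBot ℕ∞ → Prop) {f : X ⟶ Y} {U V : Over S}
    {a : (yon S).obj U ⟶ X} {b : (yon S).obj V ⟶ Y} {h : U ⟶ V} (ha : RepWith @Etale a)
    (has : RepWith @Surjective a) (hb : RepWith @Etale b) (w : a ≫ f = (yon S).map h ≫ b) :
    (∀ x, HasAtMor (fun _ _ h u => P (FlatMor.fibreDimAt h u)) f x) ↔
      ∀ u, P (FlatMor.fibreDimAt h.left u) :=
  ⟨fun H u => (hasAtMor_fibreDim_iff P ha hb w u).1 (H _), fun H x => by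
    obtain ⟨u, rfl⟩ := surjective_ofPt has x
    exact (hasAtMor_fibreDim_iff P ha hb w u).2 (H u)⟩

/-- The fibres do not change along a thickening. -/
theorem fibreDimAt_thick {A A' B B' : Scheme.{u}} {i : A ⟶ A'} {j : B ⟶ B'} {φ : A ⟶ B}
    {φ' : A' ⟶ B'} (hi : IsHomeomorph i) (hj : Function.Injective j) (w : i ≫ φ' = φ ≫ j) (x : A) :
    FlatMor.fibreDimAt φ' (i x) = FlatMor.fibreDimAt φ x := by
  have e : φ ⁻¹' {φ x} = i ⁻¹' (φ' ⁻¹' {φ' (i x)}) := by
    ext z
    simp only [Set.mem_preimage, Set.mem_singleton_iff, ← Scheme.Hom.comp_apply, w]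
    simp only [Scheme.Hom.comp_apply, hj.eq_iff]
  rw [fibreDimAt_eq_preimage, fibreDimAt_eq_preimage]
  have := quasiSober_preimage_singleton φ (φ x)
  have := quasiSober_preimage_singleton φ' (φ' (i x))
  let h : (φ ⁻¹' {φ x}) ≃ₜ (φ' ⁻¹' {φ' (i x)}) := hi.homeomorph.sets e
  exact (localDim_homeomorph h ⟨x, rfl⟩).symm

theorem DeformChart.forall_fibreDim_iff {X' Y' B B' : Sp S} {iX : X ⟶ X'} {iY : Y ⟶ Y'}
    {iB : B ⟶ B'} {f : X ⟶ Y} {f' : X' ⟶ Y'} {g : Y ⟶ B} {g' : Y' ⟶ B'}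
    (D : DeformChart iX iY iB f f' g g') (hW : MoreMor.IsThickening D.iW.left)
    (P : WithBot ℕ∞ → Prop) :
    (∀ x, HasAtMor (fun _ _ h u => P (FlatMor.fibreDimAt h u)) f x) ↔
      (∀ x', HasAtMor (fun _ _ h u => P (FlatMor.fibreDimAt h u)) f' x') := by
  rw [forall_hasAtMor_fibreDim_iff P D.ha D.has D.hb D.w₁,
    forall_hasAtMor_fibreDim_iff P D.ha' D.has' D.hb' D.w₁']
  obtain ⟨_, _⟩ := Groth.L20.Thick.isThickening_of_isPullback hW D.sqU
  obtain ⟨_, _⟩ := Groth.L20.Thick.isThickening_of_isPullback hW D.sqV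
  have hinj : Function.Injective D.iV.left := D.iV.left.isClosedEmbedding.injective
  have hh : IsHomeomorph D.iU.left :=
    isHomeomorph_iff_isEmbedding_surjective.2 ⟨D.iU.left.isClosedEmbedding.isEmbedding, D.iU.left.surjective⟩
  refine ⟨fun H u' => ?_, fun H u => ?_⟩
  · obtain ⟨u, rfl⟩ := D.iU.left.surjective u'
    rw [fibreDimAt_thick hh hinj D.w]; exact H u
  · rw [← fibreDimAt_thick hh hinj D.w]; exact H _

end Groth.L23
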