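import Groth.Agent.L23.RelDim
import Groth.Agent.S5795
import Mathlib.AlgebraicGeometry.Noetherian
import Mathlib.AlgebraicGeometry.Morphisms.QuasiFinite

/-!
# Relative dimension zero is locally quasi-finite
-/

universe u

open CategoryTheory CategoryTheory.Limits AlgebraicGeometry AlgSp Topology TopologicalSpace

set_option backward.isDefEq.respectTransparency.types false

namespace Groth.L23

theorem isOpen_singleton_iff_localDim {X : Scheme.{u}} [IsLocallyNoetherian X] (x : X) :
    IsOpen ({x} : Set X) ↔ FlatMor.localDim X x = 0 := by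
  obtain ⟨_, ⟨V₀, hV, rfl⟩, hxV, -⟩ :=
    X.isBasis_affineOpens.exists_subset_of_mem_open (Set.mem_univ x) isOpen_univ
  let V : X.Opens := V₀
  have hV' : IsAffine V.toScheme := hV
  have : IsLocallyNoetherian V.toScheme := isLocallyNoetherian_of_isOpenImmersion V.ι
  have : IsNoetherian V.toScheme := ⟨⟩
  have key := Groth.Agent.S5795.result V.toScheme (⟨x, hxV⟩ : V)
  rw [localDim_eq_of_etale V.ι (⟨x, hxV⟩ : V)] at key
  refine Iff.trans ?_ key
  have e : ({⟨x, hxV⟩} : Set V) = Subtype.val ⁻¹' {x} := by
    ext z; exact Subtype.ext_iff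
  constructor
  · intro h
    show IsOpen ({⟨x, hxV⟩} : Set V)
    rw [e]
    exact h.preimage continuous_subtype_val
  · intro h
    have := V.2.isOpenMap_subtype_val _ h
    convert this using 1
    exact (Set.image_singleton (f := Subtype.val) (a := (⟨x, hxV⟩ : V))).symm

theorem locallyQuasiFinite_iff_fibreDim {U V : Scheme.{u}} (h : U ⟶ V) [LocallyOfFiniteType h] :
    LocallyQuasiFinite h ↔ ∀ u, FlatMor.fibreDimAt h u = 0 := by
  rw [locallyQuasiFinite_iff_isDiscrete_preimage_singleton]
  have hN : ∀ y, IsLocallyNoetherian (h.fiber y) := fun y =>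
    have : LocallyOfFiniteType (h.fiberToSpecResidueField y) :=
      MorphismProperty.pullback_snd _ _ ‹LocallyOfFiniteType h›
    LocallyOfFiniteType.isLocallyNoetherian (h.fiberToSpecResidueField y)
  constructor
  · intro H u
    have := hN (h u)
    have := (H (h u)).to_subtype
    show FlatMor.localDim (h.fiber (h u)) (h.asFiber u) = 0
    rw [← isOpen_singleton_iff_localDim]
    have := (h.fiberHomeo (h u)).discreteTopology_iff.2 this
    exact isOpen_discrete _
  · intro H y
    have := hN y
    have hd : DiscreteTopology (h.fiber y) := discreteTopology_iff_isOpen_singleton.2 fun z => by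
      rw [isOpen_singleton_iff_localDim]
      obtain ⟨⟨u, hu⟩, e⟩ : ∃ t, (h.fiberHomeo y).symm t = z :=
        ⟨h.fiberHomeo y z, (h.fiberHomeo y).symm_apply_apply z⟩
      cases hu
      rw [← e]
      exact H u
    have := (h.fiberHomeo y).discreteTopology_iff.1 hd
    exact isDiscrete_iff_discreteTopology.2 this

end Groth.L23
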