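import Groth.Agent.L23.QFLocus
import Groth.Agent.L23.RelDimZero
import Groth.Agent.L23.RelDim
import Groth.Agent.L23.Refined
import Groth.Agent.L23.QFDescent
import Groth.Agent.L23.OpenSub
import Groth.Agent.L23.Compact
import Mathlib.AlgebraicGeometry.Morphisms.UniversallyOpen

/-!
# Quasi-finite points: descent along base change and finiteness in fibres
-/

universe u

open CategoryTheory CategoryTheory.Limits AlgebraicGeometry Opposite AlgSp Topology

set_option backward.isDefEq.respectTransparency.types false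

namespace Groth.L23.QFL

theorem quasiFiniteAt_of_isPullback {X Y X' Y' : Scheme.{u}} {p : X' ⟶ X} {h' : X' ⟶ Y'} {h : X ⟶ Y}
    {g : Y' ⟶ Y} (sq : IsPullback p h' h g) [LocallyOfFiniteType h] {u' : X'}
    (H : h'.QuasiFiniteAt u') : h.QuasiFiniteAt (p u') := by
  have : LocallyOfFiniteType h' := MorphismProperty.of_isPullback sq ‹_›
  have key : ∀ v, g (h' u') = v → ∃ φ : h'.fiber (h' u') ⟶ h.fiber v,
      φ ≫ h.fiberι v = h'.fiberι (h' u') ≫ p ∧ UniversallyOpen φ := by
    rintro _ rfl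
    have e₀ := (g.SpecMap_residueFieldMap_fromSpecResidueField (h' u')).symm
    have sq' : IsPullback (h'.fiberι (h' u') ≫ p) (h'.fiberToSpecResidueField (h' u')) h
        (Spec.map (g.residueFieldMap (h' u')) ≫ Y.fromSpecResidueField (g (h' u'))) :=
      e₀ ▸ (IsPullback.of_hasPullback h' (Y'.fromSpecResidueField (h' u'))).paste_horiz sq
    have sF : IsPullback (h.fiberι (g (h' u'))) (h.fiberToSpecResidueField (g (h' u'))) h
        (Y.fromSpecResidueField (g (h' u'))) := IsPullback.of_hasPullback _ _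
    obtain ⟨φ, hφ₁, hφ₂⟩ := sF.exists_lift (h'.fiberι (h' u') ≫ p)
      (h'.fiberToSpecResidueField (h' u') ≫ Spec.map (g.residueFieldMap (h' u')))
      (sq'.w.trans (Category.assoc _ _ _).symm)
    refine ⟨φ, hφ₁, ?_⟩
    rw [← hφ₁] at sq'
    exact MorphismProperty.of_isPullback (P := @UniversallyOpen) (sq'.of_right hφ₂ sF).flip inferInstance
  obtain ⟨φ, hφ, hφo⟩ := key (h (p u')) (by rw [← Scheme.Hom.comp_apply, ← Scheme.Hom.comp_apply, sq.w])
  rw [Scheme.Hom.quasiFiniteAt_iff_isOpen_singleton_asFiber] at H ⊢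
  have e : φ (h'.asFiber u') = h.asFiber (p u') := (h.fiberι _).isEmbedding.injective (by
    rw [h.fiberι_asFiber, ← Scheme.Hom.comp_apply, hφ, Scheme.Hom.comp_apply, h'.fiberι_asFiber])
  have := φ.isOpenMap _ H
  rwa [Set.image_singleton, e] at this

theorem qfAt_of_isPullback {X Y X' Y' : Scheme.{u}} {p : X' ⟶ X} {h' : X' ⟶ Y'} {h : X ⟶ Y}
    {g : Y' ⟶ Y} (sq : IsPullback p h' h g) [LocallyOfFiniteType h] {u' : X'}
    (H : qfAt X' Y' h' u') : qfAt X Y h (p u') := by
  have : LocallyOfFiniteType h' := MorphismProperty.of_isPullback sq ‹_›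
  exact (qfAt_iff_quasiFiniteAt h _).2 (quasiFiniteAt_of_isPullback sq ((qfAt_iff_quasiFiniteAt h' _).1 H))

theorem qfAt_of_isOpen_singleton {X Y : Scheme.{u}} (h : X ⟶ Y) [LocallyOfFiniteType h] {u : X}
    (H : IsOpen ({u} : Set X)) : qfAt X Y h u := by
  rw [qfAt_iff_quasiFiniteAt, Scheme.Hom.quasiFiniteAt_iff_isOpen_singleton_asFiber]
  have := H.preimage (h.fiberι (h u)).continuous
  convert this using 1
  ext z
  simp only [Set.mem_singleton_iff, Set.mem_preimage]
  exact ⟨fun e => by rw [e, h.fiberι_asFiber],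
    fun e => (h.fiberι _).isEmbedding.injective (e.trans (h.fiberι_asFiber u).symm)⟩

theorem one_le_fibreDimAt {X Y : Scheme.{u}} (h : X ⟶ Y) [LocallyOfFiniteType h] {u : X}
    (H : ¬ qfAt X Y h u) : 1 ≤ FlatMor.fibreDimAt h u := by
  rw [qfAt_iff_quasiFiniteAt, Scheme.Hom.quasiFiniteAt_iff_isOpen_singleton_asFiber] at H
  have : LocallyOfFiniteType (h.fiberToSpecResidueField (h u)) :=
    MorphismProperty.pullback_snd _ _ ‹LocallyOfFiniteType h›
  have := LocallyOfFiniteType.isLocallyNoetherian (h.fiberToSpecResidueField (h u))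
  rw [isOpen_singleton_iff_localDim] at H
  have h0 : 0 ≤ FlatMor.localDim (h.fiber (h u)) (h.asFiber u) := le_iInf fun U => by
    have : Nonempty (TopologicalSpace.IrreducibleCloseds (U.1 : Set (h.fiber (h u)))) :=
      ⟨⟨closure {⟨_, U.2⟩}, isIrreducible_singleton.closure, isClosed_closure⟩⟩
    exact Order.krullDim_nonneg
  show 1 ≤ FlatMor.localDim (h.fiber (h u)) (h.asFiber u)
  generalize FlatMor.localDim (h.fiber (h u)) (h.asFiber u) = d at h0 H ⊢
  induction d with
  | bot => simp at h0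
  | coe n => exact WithBot.coe_le_coe.2 (Order.one_le_iff_pos.2 (pos_iff_ne_zero.2 fun e => H (by simp [e])))

theorem finite_qf_fibre {U V : Scheme.{u}} (h : U ⟶ V) [LocallyOfFiniteType h] [QuasiCompact h] (v : V) :
    {u | h u = v ∧ qfAt U V h u}.Finite := by
  have : LocallyOfFiniteType (h.fiberToSpecResidueField v) :=
    MorphismProperty.pullback_snd _ _ ‹LocallyOfFiniteType h›
  have := LocallyOfFiniteType.isLocallyNoetherian (h.fiberToSpecResidueField v)
  have : QuasiCompact (h.fiberToSpecResidueField v) := MorphismProperty.pullback_snd _ _ ‹QuasiCompact h›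
  have : CompactSpace (h.fiber v) := QuasiCompact.compactSpace_of_compactSpace (h.fiberToSpecResidueField v)
  have : IsNoetherian (h.fiber v) := ⟨⟩
  let D : Set (h.fiber v) := {z | IsOpen ({z} : Set (h.fiber v))}
  have hD : D.Finite := (TopologicalSpace.NoetherianSpace.isCompact D).finite
    (isDiscrete_iff_forall_mem_exists_isOpen.2 fun z hz => ⟨_, hz, by simpa using hz⟩)
  refine (hD.image (h.fiberι v)).subset fun u => ?_
  rintro ⟨rfl, H⟩
  rw [qfAt_iff_quasiFiniteAt, Scheme.Hom.quasiFiniteAt_iff_isOpen_singleton_asFiber] at H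
  exact ⟨_, H, h.fiberι_asFiber u⟩

variable {S : Scheme.{u}} {X Y X' Y' : Sp S}

theorem map_injective_of_mono (f : X ⟶ Y) [Mono f] : Function.Injective (Points.map f) := by
  intro x y e
  obtain ⟨p, rfl⟩ := Points.mk_surjective x
  obtain ⟨q, rfl⟩ := Points.mk_surjective y
  obtain ⟨Ω, hΩ, w, a, b, h⟩ := (rel_iff_toHom _ _).1 (Points.mk_eq_mk_iff.1 e)
  rw [FieldPt.toHom_map, FieldPt.toHom_map] at h
  change Over.mk w ⟶ p.pt at a
  change Over.mk w ⟶ q.pt at b
  refine Points.mk_eq_mk_iff.2 ((rel_iff_toHom _ _).2 ⟨Ω, hΩ, w, a, b, ?_⟩)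
  exact (cancel_mono f).1 ((Category.assoc _ _ _).trans (h.trans (Category.assoc _ _ _).symm))

/-- A chart of the base change through a given point, over a given chart. -/
theorem exists_chart_of_isPullback (hY' : IsAlgSpace Y') {f : X ⟶ Y} {g : Y' ⟶ Y} {p : X' ⟶ X}
    {f' : X' ⟶ Y'} (sq : IsPullback p f' f g) {U V : Over S} {a : (yon S).obj U ⟶ X}
    {b : (yon S).obj V ⟶ Y} {h : U ⟶ V} (ha : RepWith @Etale a) (hb : RepWith @Etale b)
    (w : a ≫ f = (yon S).map h ≫ b) {u : U.left} {x' : Points X'} (e : Points.ofPt a u = Points.map p x') :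
    ∃ (U' V₁ : Over S) (a' : (yon S).obj U' ⟶ X') (b' : (yon S).obj V₁ ⟶ Y') (h' : U' ⟶ V₁) (q : U' ⟶ U)
      (r : V₁ ⟶ V) (z : U'.left), RepWith @Etale a' ∧ RepWith @Etale b' ∧ a' ≫ f' = (yon S).map h' ≫ b' ∧
        IsPullback q.left h'.left h.left r.left ∧ q.left z = u ∧ Points.ofPt a' z = x' := by
  obtain ⟨V₀, d, hd, hds⟩ := hY'.atlas
  obtain ⟨V₁, r, s, sV⟩ := exists_isPullback_of_representable hb.1 (d ≫ g)
  let b' : (yon S).obj V₁ ⟶ Y' := (yon S).map s ≫ d
  have hb' : RepWith @Etale b' := repWith_comp (repWith_of_isPullback sV hb) hd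
  have sU := IsPullback.of_hasPullback h r
  obtain ⟨a', ha'₁, ha'₂⟩ := sq.exists_lift ((yon S).map (pullback.fst h r) ≫ a)
    ((yon S).map (pullback.snd h r) ≫ b') (by
      rw [Category.assoc, w, ← Functor.map_comp_assoc, pullback.condition, Functor.map_comp_assoc, sV.w]
      simp only [b', Category.assoc])
  obtain ⟨R, pu, px, sR⟩ : ∃ (R : Sp S) (pu : R ⟶ (yon S).obj U) (px : R ⟶ X'), IsPullback pu px a p :=
    ⟨_, _, _, IsPullback.of_hasPullback a p⟩
  have sRY : IsPullback pu (px ≫ f') (a ≫ f) g := sR.paste_vert sq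
  obtain ⟨k, hk₁, hk₂⟩ := sR.exists_lift ((yon S).map (pullback.fst h r)) a' ha'₁.symm
  have hk₂' : k ≫ px ≫ f' = (yon S).map (pullback.snd h r) ≫ b' := by rw [reassoc_of% hk₂, ha'₂]
  have sK : IsPullback k ((yon S).map (pullback.snd h r) ≫ (yon S).map s) (px ≫ f') d := by
    refine (IsPullback.of_bot ?_ ?_ sRY.flip).flip
    · rw [hk₁]
      have := ((sU.map (yon S)).paste_vert sV)
      rw [← w] at this
      exact this.flip
    · rw [hk₂', Category.assoc]
  have hk : RepWith @Etale k := repWith_of_isPullback sK.flip hd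
  have hpx : RepWith @Etale px := repWith_of_isPullback sR ha
  have ha' : RepWith @Etale a' := hk₂ ▸ repWith_comp hk hpx
  obtain ⟨ρ, hρ₁, hρ₂⟩ := exists_of_isPullback sR (Points.ofScheme U u) x' (by
    rw [← Points.ofPt_eq_map_ofScheme, e])
  obtain ⟨z, hz⟩ : ∃ z, Points.ofPt k z = ρ := by
    have : RepWith @Surjective k := repWith_of_isPullback sK.flip hds
    exact surjective_ofPt this ρ
  refine ⟨_, V₁, a', b', pullback.snd h r, pullback.fst h r, r, z, ha', hb', ha'₂, sU.map (Over.forget S),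
    (Points.schemeEquiv U).injective ?_, by rw [← hk₂, ← Points.map_ofPt, hz, hρ₂]⟩
  show Points.ofScheme U _ = Points.ofScheme U _
  rw [← ofPt_map, ← hk₁, ← Points.map_ofPt, hz, hρ₁]

/-- Quasi-finiteness descends along a base change. -/
theorem hasAtMor_descend (hX : IsAlgSpace X) (hY : IsAlgSpace Y) (hY' : IsAlgSpace Y') {f : X ⟶ Y}
    {g : Y' ⟶ Y} {p : X' ⟶ X} {f' : X' ⟶ Y'} (sq : IsPullback p f' f g) (hf : LocP @LocallyOfFiniteType f)
    {x' : Points X'} (hx : HasAtMor qfAt f' x') : HasAtMor qfAt f (Points.map p x') := by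
  obtain ⟨U, V, a, b, h, ha, has, hb, -, w⟩ := exists_chart hX hY f
  obtain ⟨u, hu⟩ := surjective_ofPt has (Points.map p x')
  have : LocallyOfFiniteType h.left := hf a b h ha hb w
  obtain ⟨U', V₁, a', b', h', q, r, z, ha', hb', w', sU, rfl, rfl⟩ :=
    exists_chart_of_isPullback hY' sq ha hb w hu
  rw [← hu, hasAtMor_iff ha hb w]
  exact qfAt_of_isPullback sU ((hasAtMor_iff ha' hb' w' z).1 hx)

/-- Only finitely many quasi-finite points lie over a point. -/
theorem finite_qf_over (hY : IsAlgSpace Y) {f : X ⟶ Y}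
    (hf : LocP @LocallyOfFiniteType f) (hq : IsQuasiCompactMor f) (y : Points Y) :
    {x | Points.map f x = y ∧ HasAtMor qfAt f x}.Finite := by
  obtain ⟨V, b, hV, hb, ⟨v, rfl⟩⟩ := exists_affine_etale_nhd hY y
  have sq := IsPullback.of_hasPullback f b
  have : CompactSpace V.left := inferInstance
  obtain ⟨U, a, ha, has, hU⟩ := isQuasiCompactMor_of_pullback hq b
  obtain ⟨h, hh⟩ := (yon S).map_surjective (a ≫ pullback.snd f b)
  have ha' : RepWith @Etale (a ≫ pullback.fst f b) := repWith_comp ha (repWith_of_isPullback sq.flip hb)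
  have w : (a ≫ pullback.fst f b) ≫ f = (yon S).map h ≫ b := by
    rw [Category.assoc, sq.w, ← Category.assoc, hh]
  have : LocallyOfFiniteType h.left := hf _ _ h ha' hb w
  have : QuasiCompact h.left := (HasAffineProperty.iff_of_isAffine (P := @QuasiCompact)).2 hU
  refine ((finite_qf_fibre h.left v).image (Points.ofPt (a ≫ pullback.fst f b))).subset ?_
  rintro x ⟨hx, hqf⟩
  obtain ⟨ρ, hρ₁, hρ₂⟩ := exists_of_isPullback sq x (Points.ofScheme V v) (by
    rw [hx, Points.ofPt_eq_map_ofScheme])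
  obtain ⟨u, rfl⟩ := surjective_ofPt has ρ
  rw [Points.map_ofPt] at hρ₁
  refine ⟨u, ⟨(Points.schemeEquiv V).injective ?_, (hasAtMor_iff ha' hb w u).1 (hρ₁ ▸ hqf)⟩, hρ₁⟩
  show Points.ofScheme V _ = Points.ofScheme V _
  rw [← hρ₂, ← ofPt_map, hh, Points.map_ofPt]

end Groth.L23.QFL
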