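import Groth.Agent.L23.RelDim
import Groth.Agent.L23.FibreDimBC
import Groth.Agent.L23.QFPoints
import Groth.Agent.L23.Compact
import Groth.Agent.L23.RelDimZero
import Groth.Agent.S0402
import Groth.Agent.L22.FibreDim
import Groth.Agent.L22.SchemeDim

/-!
# The dimension of the fibres of a morphism of algebraic spaces
-/

universe u

open CategoryTheory CategoryTheory.Limits AlgebraicGeometry AlgSp TopologicalSpace

set_option autoImplicit false
set_option linter.style.haveILetI false
set_option backward.isDefEq.respectTransparency.types false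

namespace Groth.L23.SpDim

theorem dim_le_iff_localDim (k : Type u) [Field k] {W : Scheme.{u}} (π : W ⟶ Spec (CommRingCat.of k))
    [LocallyOfFiniteType π] (c : WithBot ℕ∞) :
    topologicalKrullDim W ≤ c ↔ ∀ w : W, FlatMor.localDim W w ≤ c := by
  letI : W.Over (Spec (CommRingCat.of k)) := ⟨π⟩
  haveI : LocallyOfFiniteType (W ↘ Spec (CommRingCat.of k)) := ‹LocallyOfFiniteType π›
  refine ⟨fun h w => ((iInf_le _ ⟨⊤, trivial⟩).trans ?_).trans h, fun h => ?_⟩
  · exact Topology.IsInducing.subtypeVal.topologicalKrullDim_le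
  · rw [Groth.L22.FibreDim.topologicalKrullDim_eq_iSup_closure]
    refine iSup_le fun w => le_trans ?_ (h w)
    rw [Groth.L22.FibreSemicont.localDim_eq_iSup k]
    exact le_iSup_of_le ⟨w, specializes_refl w⟩ le_rfl

theorem exists_nat_fibreDimAt {U V : Scheme.{u}} (h : U ⟶ V) [LocallyOfFiniteType h] (x : U) :
    ∃ n : ℕ, FlatMor.fibreDimAt h x ≤ (n : WithBot ℕ∞) := by
  letI : (h.fiber (h x)).Over (Spec (CommRingCat.of (V.residueField (h x)))) :=
    ⟨h.fiberToSpecResidueField (h x)⟩
  haveI : LocallyOfFiniteType ((h.fiber (h x)) ↘ Spec (CommRingCat.of (V.residueField (h x)))) :=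
    MorphismProperty.pullback_snd h (V.fromSpecResidueField (h x)) inferInstance
  obtain ⟨a, b, -, -, e⟩ := Groth.L22.SchemeDim.exists_localDim (V.residueField (h x)) (h.fiber (h x)) (h.asFiber x)
  exact ⟨a + b, e.le⟩

theorem fibreDimAt_eq_localDim_of_subsingleton {U V : Scheme.{u}} [Subsingleton V] (h : U ⟶ V) (x : U) :
    FlatMor.fibreDimAt h x = FlatMor.localDim U x := by
  rw [fibreDimAt_eq_preimage]
  have := quasiSober_preimage_singleton h (h x)
  let e : ↥(h ⁻¹' {h x}) ≃ₜ U :=
    (Homeomorph.setCongr (Set.eq_univ_of_forall fun z => Subsingleton.elim (h z) (h x))).trans (Homeomorph.Set.univ U)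
  exact localDim_homeomorph (A := ↥(h ⁻¹' {h x})) e _

variable {S : Scheme.{u}} {X Y : Sp S}

theorem isOpen_relDim_le (hX : IsAlgSpace X) (hY : IsAlgSpace Y) {f : X ⟶ Y}
    (hf : LocP @LocallyOfFiniteType f) (n : ℕ) :
    IsOpen {x : Points X | HasAtMor (fun _ _ h u => FlatMor.fibreDimAt h u ≤ (n : WithBot ℕ∞)) f x} := by
  obtain ⟨U, V, a, b, h, ha, has, hb, -, w⟩ := exists_chart hX hY f
  haveI : LocallyOfFiniteType h.left := hf a b h ha hb w
  rw [← (isOpenQuotientMap_ofPt ha has).isQuotientMap.isOpen_preimage]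
  convert Groth.Agent.S0402.result h.left n using 1
  ext u
  exact hasAtMor_fibreDim_iff (· ≤ (n : WithBot ℕ∞)) ha hb w u

theorem dim_fibre_le_iff (hX : IsAlgSpace X) (hY : IsAlgSpace Y) {f : X ⟶ Y}
    (hf : LocP @LocallyOfFiniteType f) {y : Points Y} {k : FieldPt Y} (hk : Points.mk k = y)
    {Xk : Sp S} {fst : Xk ⟶ X} {snd : Xk ⟶ (yon S).obj k.pt} (sq : IsPullback fst snd f k.toHom)
    (c : WithBot ℕ∞) :
    dim Xk ≤ c ↔ ∀ x : Points X, Points.map f x = y → HasAtMor (fun _ _ h u => FlatMor.fibreDimAt h u ≤ c) f x := by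
  haveI : Subsingleton k.pt.left := inferInstanceAs (Subsingleton (Spec (CommRingCat.of k.K)))
  have hXk : IsAlgSpace Xk := isAlgSpace_of_isPullback hY.diag hX (IsAlgSpace.yon_obj _) sq
  have hsnd : LocP @LocallyOfFiniteType snd :=
    locP_of_isPullback etLocal_lft hX hY (IsAlgSpace.yon_obj _) sq hf
  have hid : RepWith @Etale (𝟙 ((yon S).obj k.pt)) := repWith_of_isIso _
  obtain ⟨U, V, a, b, h, ha, has, hb, -, w⟩ := exists_chart hX hY f
  haveI : LocallyOfFiniteType h.left := hf a b h ha hb w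
  have main : ∀ (W : Over S) (q : (yon S).obj W ⟶ Xk), RepWith @Etale q → ∀ z : W.left,
      Points.map f (Points.map fst (Points.ofPt q z)) = y ∧
      (FlatMor.localDim W.left z ≤ c ↔
        HasAtMor (fun _ _ h u => FlatMor.fibreDimAt h u ≤ c) f (Points.map fst (Points.ofPt q z))) := by
    intro W q hq z
    obtain ⟨m, hm⟩ := (yon S).map_surjective (q ≫ snd)
    refine ⟨?_, ?_⟩
    · rw [← Points.map_comp, sq.w, Points.map_ofPt, ← Category.assoc, ← hm, ofPt_comp, ← hk,
        Subsingleton.elim (m.left z) (IsLocalRing.closedPoint k.K), Points.ofPt_toHom]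
    obtain ⟨u, hu⟩ := surjective_ofPt has (Points.map fst (Points.ofPt q z))
    obtain ⟨U', V₁, a', b', h', p, r, z', ha', hb', w', sU, hz, he⟩ :=
      QFL.exists_chart_of_isPullback (IsAlgSpace.yon_obj _) sq ha hb w hu
    rw [← hu, hasAtMor_fibreDim_iff (· ≤ c) ha hb w u, ← hz, ← fibreDimAt_of_isPullback sU,
      ← fibreDimAt_eq_localDim_of_subsingleton m.left z,
      fibreDimAt_of_other_chart (h := m) (b := 𝟙 _) hq hid ha' hb' (by rw [Category.comp_id, hm]) w' he]
  constructor
  · intro H x hx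
    obtain ⟨xk, hxk, -⟩ := exists_of_isPullback sq x (Points.ofScheme k.pt (IsLocalRing.closedPoint k.K)) (by
      rw [← Points.ofPt_eq_map_ofScheme, Points.ofPt_toHom, hx, hk])
    obtain ⟨W, q, hq, hqs⟩ := hXk.atlas
    obtain ⟨z, rfl⟩ := surjective_ofPt hqs xk
    rw [← hxk]
    refine ((main W q hq z).2).1 (le_trans ?_ H)
    refine le_trans ((iInf_le _ ⟨⊤, trivial⟩).trans Topology.IsInducing.subtypeVal.topologicalKrullDim_le) ?_
    exact le_iSup_of_le W (le_iSup_of_le q (le_iSup_of_le hq le_rfl))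
  · intro H
    refine iSup_le fun W => iSup_le fun q => iSup_le fun hq => ?_
    obtain ⟨m, hm⟩ := (yon S).map_surjective (q ≫ snd)
    haveI : LocallyOfFiniteType m.left := hsnd q (𝟙 _) m hq hid (by rw [Category.comp_id, hm])
    refine (dim_le_iff_localDim k.K m.left c).2 fun z => ?_
    obtain ⟨h1, h2⟩ := main W q hq z
    exact h2.2 (H _ h1)

theorem dim_fibre_eq_bot_iff (hX : IsAlgSpace X) (hY : IsAlgSpace Y) {f : X ⟶ Y}
    (hf : LocP @LocallyOfFiniteType f) {y : Points Y} {k : FieldPt Y} (hk : Points.mk k = y)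
    {Xk : Sp S} {fst : Xk ⟶ X} {snd : Xk ⟶ (yon S).obj k.pt} (sq : IsPullback fst snd f k.toHom) :
    dim Xk = ⊥ ↔ y ∉ Set.range (Points.map f) := by
  rw [← le_bot_iff, dim_fibre_le_iff hX hY hf hk sq]
  refine ⟨?_, fun h x hx => (h ⟨x, hx⟩).elim⟩
  rintro h ⟨x, hx⟩
  obtain ⟨U, V, a, b, k', u, -, -, -, -, hle⟩ := h x hx
  haveI : Nonempty (k'.left.fiber (k'.left u)) := ⟨k'.left.asFiber u⟩
  refine not_lt_of_ge hle (lt_of_lt_of_le (WithBot.bot_lt_coe 0) ?_)
  refine le_iInf fun O => ?_
  let z : (O.1 : Set (k'.left.fiber (k'.left u))) := ⟨_, O.2⟩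
  haveI : Nonempty (IrreducibleCloseds (O.1 : Set (k'.left.fiber (k'.left u)))) :=
    ⟨⟨closure {z}, isIrreducible_singleton.closure, isClosed_closure⟩⟩
  exact Order.krullDim_nonneg

theorem exists_nat_dim_fibre_le (hX : IsAlgSpace X) (hY : IsAlgSpace Y) {f : X ⟶ Y}
    (hf : IsFiniteTypeMor f) {y : Points Y} {k : FieldPt Y} (hk : Points.mk k = y)
    {Xk : Sp S} {fst : Xk ⟶ X} {snd : Xk ⟶ (yon S).obj k.pt} (sq : IsPullback fst snd f k.toHom) :
    ∃ n : ℕ, dim Xk ≤ (n : WithBot ℕ∞) := by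
  haveI : CompactSpace (Points ((yon S).obj k.pt)) :=
    haveI : CompactSpace k.pt.left := inferInstanceAs (CompactSpace (Spec (CommRingCat.of k.K)))
    (Points.schemeHomeo k.pt).compactSpace
  haveI := compactSpace_of_qcSp
    (hf.2 (IsAlgSpace.yon_obj _) (qcSp_of_compactSpace (IsAlgSpace.yon_obj _) ‹_›) k.toHom fst snd sq)
  obtain ⟨U, V, a, b, h, ha, has, hb, -, w⟩ := exists_chart hX hY f
  haveI : LocallyOfFiniteType h.left := hf.1 a b h ha hb w
  let O : ℕ → Set (Points Xk) := fun n => Points.map fst ⁻¹'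
    {x : Points X | HasAtMor (fun _ _ h u => FlatMor.fibreDimAt h u ≤ (n : WithBot ℕ∞)) f x}
  obtain ⟨n, hn⟩ : ∃ n, Set.univ ⊆ O n := by
    refine isCompact_univ.elim_directed_cover O
      (fun n => (isOpen_relDim_le hX hY hf.1 n).preimage (Points.continuous_map fst)) (fun xk _ => ?_) ?_
    · obtain ⟨u, hu⟩ := surjective_ofPt has (Points.map fst xk)
      obtain ⟨n, hn⟩ := exists_nat_fibreDimAt h.left u
      refine Set.mem_iUnion.2 ⟨n, ?_⟩
      show HasAtMor (fun _ _ h u => FlatMor.fibreDimAt h u ≤ (n : WithBot ℕ∞)) f (Points.map fst xk)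
      rw [← hu]
      exact (hasAtMor_fibreDim_iff (· ≤ (n : WithBot ℕ∞)) ha hb w u).2 hn
    · refine directed_of_isDirected_le fun i j hij xk hxk => ?_
      obtain ⟨U', V', a', b', h', u', ha', hb', w', e, H⟩ := hxk
      exact ⟨U', V', a', b', h', u', ha', hb', w', e, H.trans (by exact_mod_cast hij)⟩
  refine ⟨n, (dim_fibre_le_iff hX hY hf.1 hk sq _).2 fun x hx => ?_⟩
  obtain ⟨xk, hxk, -⟩ := exists_of_isPullback sq x (Points.ofScheme k.pt (IsLocalRing.closedPoint k.K)) (by
    rw [← Points.ofPt_eq_map_ofScheme, Points.ofPt_toHom, hx, hk])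
  exact hxk ▸ hn trivial

theorem isOpen_fibre_dim_lt (hX : IsAlgSpace X) (hY : IsAlgSpace Y) {f : X ⟶ Y}
    (hf : IsFiniteTypeMor f) (hc : IsClosedMap (Points.map f)) (d : WithBot ℕ∞) :
    IsOpen {y : Points Y | ∀ (k : FieldPt Y), Points.mk k = y →
      ∀ (Xk : Sp S) (fst : Xk ⟶ X) (snd : Xk ⟶ (yon S).obj k.pt),
        IsPullback fst snd f k.toHom → dim Xk < d} := by
  have hd : d = ⊥ ∨ d = ⊤ ∨ ∃ n : ℕ, d = (n : WithBot ℕ∞) := by
    cases d with
    | bot => exact Or.inl rfl
    | coe d =>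
      cases d with
      | top => exact Or.inr (Or.inl rfl)
      | coe n => exact Or.inr (Or.inr ⟨n, rfl⟩)
  obtain rfl | rfl | ⟨n, rfl⟩ := hd
  · convert isOpen_empty
    refine Set.eq_empty_of_forall_notMem fun y hy => ?_
    obtain ⟨k, hk⟩ := Points.mk_surjective y
    exact not_lt_bot (hy k hk _ _ _ (IsPullback.of_hasPullback f k.toHom))
  · convert isOpen_univ
    refine Set.eq_univ_of_forall fun y k hk Xk fst snd sq => ?_
    obtain ⟨n, hn⟩ := exists_nat_dim_fibre_le hX hY hf hk sq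
    exact lt_of_le_of_lt hn (WithBot.coe_lt_coe.2 (ENat.natCast_lt_top n))
  · cases n with
    | zero =>
      convert (hc.isClosed_range).isOpen_compl using 1
      ext y
      constructor
      · intro hy
        obtain ⟨k, hk⟩ := Points.mk_surjective y
        have := hy k hk _ _ _ (IsPullback.of_hasPullback f k.toHom)
        refine (dim_fibre_eq_bot_iff hX hY hf.1 hk (IsPullback.of_hasPullback f k.toHom)).1 ?_
        revert this
        generalize dim (pullback f k.toHom) = r
        intro this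
        cases r with
        | bot => rfl
        | coe r => exact absurd this (not_lt_of_ge (WithBot.coe_le_coe.2 bot_le))
      · intro hy k hk Xk fst snd sq
        rw [(dim_fibre_eq_bot_iff hX hY hf.1 hk sq).2 hy]
        exact WithBot.bot_lt_coe _
    | succ m =>
      convert (hc _ (isOpen_relDim_le hX hY hf.1 m).isClosed_compl).isOpen_compl using 1
      ext y
      have e : ∀ r : WithBot ℕ∞, r < ((m + 1 : ℕ) : WithBot ℕ∞) ↔ r ≤ (m : WithBot ℕ∞) := fun r => by
        cases r with
        | bot => exact iff_of_true (WithBot.bot_lt_coe _) bot_le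
        | coe r =>
          cases r with
          | top => exact iff_of_false (by simp) (fun h => absurd (WithBot.coe_le_coe.1 h) (by simp))
          | coe r => exact_mod_cast Nat.lt_succ_iff
      constructor
      · rintro hy ⟨x, hx, rfl⟩
        obtain ⟨k, hk⟩ := Points.mk_surjective (Points.map f x)
        have hsq := IsPullback.of_hasPullback f k.toHom
        exact hx ((dim_fibre_le_iff hX hY hf.1 hk hsq _).1 ((e _).1 (hy k hk _ _ _ hsq)) x rfl)
      · intro hy k hk Xk fst snd sq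
        rw [e, dim_fibre_le_iff hX hY hf.1 hk sq]
        intro x hx
        by_contra hne
        exact hy ⟨x, hne, hx⟩

end Groth.L23.SpDim

namespace Groth.L23.SpDim

theorem lqf_iff_dim_le_zero (k : Type u) [Field k] {X : Sp (Spec (CommRingCat.of k))} (hX : IsAlgSpace X)
    (p : X ⟶ (yon (Spec (CommRingCat.of k))).obj (Over.mk (𝟙 _))) :
    LocP (@LocallyQuasiFinite ⊓ @LocallyOfFiniteType : MorphismProperty Scheme.{u}) p ↔
      LocP @LocallyOfFiniteType p ∧ dim X ≤ 0 := by
  have hsub : Subsingleton (Over.mk (𝟙 (Spec (CommRingCat.of k)))).left :=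
    inferInstanceAs (Subsingleton (Spec (CommRingCat.of k)))
  have hid : RepWith @Etale (𝟙 ((yon (Spec (CommRingCat.of k))).obj (Over.mk (𝟙 _)))) := repWith_of_isIso _
  constructor
  · intro H
    refine ⟨locP_mono (fun φ h => h.2) H, iSup_le fun W => iSup_le fun q => iSup_le fun hq => ?_⟩
    obtain ⟨m, hm⟩ := (yon (Spec (CommRingCat.of k))).map_surjective (q ≫ p)
    obtain ⟨h1, h2⟩ := H q (𝟙 _) m hq hid (by rw [Category.comp_id, hm])
    haveI := h2
    refine (dim_le_iff_localDim k m.left 0).2 fun z => ?_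
    rw [← fibreDimAt_eq_localDim_of_subsingleton (V := (Over.mk (𝟙 (Spec (CommRingCat.of k)))).left) m.left z,
      (locallyQuasiFinite_iff_fibreDim m.left).1 h1 z]
  · rintro ⟨H, hd⟩
    obtain ⟨W, q, hq, hqs⟩ := hX.atlas
    obtain ⟨m, hm⟩ := (yon (Spec (CommRingCat.of k))).map_surjective (q ≫ p)
    haveI : LocallyOfFiniteType m.left := H q (𝟙 _) m hq hid (by rw [Category.comp_id, hm])
    refine locP_of_chart etLocal_lqfLft hq hqs hid (h := m) (by rw [Category.comp_id, hm]) ⟨?_, ‹_›⟩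
    refine (locallyQuasiFinite_iff_fibreDim m.left).2 fun z => ?_
    rw [fibreDimAt_eq_localDim_of_subsingleton]
    refine le_antisymm ?_ ?_
    · have hW : topologicalKrullDim W.left ≤ dim X := le_iSup_of_le W (le_iSup_of_le q (le_iSup_of_le hq le_rfl))
      exact (dim_le_iff_localDim k m.left 0).1 (hW.trans hd) z
    · refine le_iInf fun O => ?_
      let z' : (O.1 : Set W.left) := ⟨_, O.2⟩
      haveI : Nonempty (IrreducibleCloseds (O.1 : Set W.left)) :=
        ⟨⟨closure {z'}, isIrreducible_singleton.closure, isClosed_closure⟩⟩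
      exact Order.krullDim_nonneg

end Groth.L23.SpDim
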