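import Groth.Agent.L23.RelDim
import Groth.Agent.L23.SpaceFibreDim
import Groth.Agent.L23.QFLocus
import Groth.Agent.L22.SchemeDim
import Groth.Agent.L22.Cyc.RelDim
import Groth.Agent.S7407
import Groth.Prelude.Def_Dual3

/-!
# Transcendence degrees at points of algebraic spaces
-/

universe u

open CategoryTheory CategoryTheory.Limits AlgebraicGeometry AlgSp Topology

set_option backward.isDefEq.respectTransparency.types false
set_option linter.style.haveILetI false

namespace Groth.L23.Trdeg

variable {S : Scheme.{u}} {X Y Z : Sp S}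

theorem resTrdeg_comp {A B C : Scheme.{u}} (f : A ⟶ B) (g : B ⟶ C) (x : A) :
    Dual3.resTrdeg (f ≫ g) x = Dual3.resTrdeg g (f x) + Dual3.resTrdeg f x :=
  Groth.L22.Cyc.rtrdeg_comp f g x

theorem resTrdeg_congr {A B : Scheme.{u}} {f f' : A ⟶ B} (h : f = f') (x : A) :
    Dual3.resTrdeg f x = Dual3.resTrdeg f' x := by subst h; rfl

theorem resTrdeg_of_other_chart {f : X ⟶ Y} {U V U' V' : Over S} {a : (yon S).obj U ⟶ X}
    {b : (yon S).obj V ⟶ Y} {h : U ⟶ V} {a' : (yon S).obj U' ⟶ X} {b' : (yon S).obj V' ⟶ Y}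
    {h' : U' ⟶ V'} (ha : RepWith @Etale a) (hb : RepWith @Etale b) (ha' : RepWith @Etale a')
    (hb' : RepWith @Etale b') (w : a ≫ f = (yon S).map h ≫ b) (w' : a' ≫ f = (yon S).map h' ≫ b')
    {u : U.left} {u' : U'.left} (e : Points.ofPt a' u' = Points.ofPt a u) :
    Dual3.resTrdeg h'.left u' = Dual3.resTrdeg h.left u := by
  obtain ⟨U₂, p', p, sqU⟩ := exists_isPullback_of_representable ha'.1 a
  obtain ⟨V₂, r', r, sqV⟩ := exists_isPullback_of_representable hb'.1 b
  have hp : Etale p.left := repWith_prop ha' sqU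
  have hr : Etale r.left := repWith_prop hb' sqV
  have hp' : Etale p'.left := repWith_prop ha sqU.flip
  have hr' : Etale r'.left := repWith_prop hb sqV.flip
  obtain ⟨l, hl', hl⟩ := exists_lift_yon sqV (p' ≫ h') (p ≫ h) (by
    rw [Functor.map_comp, Functor.map_comp, Category.assoc, Category.assoc, ← w, ← w', ← Category.assoc,
      ← Category.assoc, sqU.w])
  obtain ⟨v, hv, hv'⟩ := exists_point_of_isPullback sqU (x := Points.ofScheme U' u') (u := u) (by
    rw [← Points.ofPt_eq_map_ofScheme, e])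
  replace hv : p'.left v = u' := (Points.schemeEquiv U').injective (by
    show Points.ofScheme U' _ = Points.ofScheme U' _
    rw [← ofPt_map]; exact hv)
  subst hv hv'
  exact (Groth.Agent.S7407.result h'.left l.left p'.left r'.left congr($(hl').left) v).trans
    (Groth.Agent.S7407.result h.left l.left p.left r.left congr($(hl).left) v).symm

theorem hasAtMor_resTrdeg_iff (P : Cardinal.{u} → Prop) {f : X ⟶ Y} {U V : Over S}
    {a : (yon S).obj U ⟶ X} {b : (yon S).obj V ⟶ Y} {h : U ⟶ V} (ha : RepWith @Etale a)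
    (hb : RepWith @Etale b) (w : a ≫ f = (yon S).map h ≫ b) (u : U.left) :
    HasAtMor (fun _ _ h u => P (Dual3.resTrdeg h u)) f (Points.ofPt a u) ↔
      P (Dual3.resTrdeg h.left u) := by
  refine ⟨?_, fun H => ⟨U, V, a, b, h, u, ha, hb, w, rfl, H⟩⟩
  rintro ⟨U', V', a', b', h', u', ha', hb', w', e, H⟩
  rwa [resTrdeg_of_other_chart ha hb ha' hb' w w' e] at H

/-- Charts for a composition. -/
theorem exists_chart₂ (hX : IsAlgSpace X) (hY : IsAlgSpace Y) (hZ : IsAlgSpace Z) (f : X ⟶ Y) (g : Y ⟶ Z) :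
    ∃ (U V W : Over S) (a : (yon S).obj U ⟶ X) (b : (yon S).obj V ⟶ Y) (c : (yon S).obj W ⟶ Z)
      (h : U ⟶ V) (k : V ⟶ W), RepWith @Etale a ∧ RepWith @Surjective a ∧ RepWith @Etale b ∧
        RepWith @Etale c ∧ a ≫ f = (yon S).map h ≫ b ∧ b ≫ g = (yon S).map k ≫ c ∧
        a ≫ f ≫ g = (yon S).map (h ≫ k) ≫ c := by
  obtain ⟨V, W, b, c, k, hb, hbs, hc, -, w'⟩ := exists_chart hY hZ g
  obtain ⟨U, a, h, ha, w, has⟩ := exists_chart_over hX hY f hb
  exact ⟨U, V, W, a, b, c, h, k, ha, has hbs, hb, hc, w, w', by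
    rw [reassoc_of% w, w', Functor.map_comp, Category.assoc]⟩

theorem resTrdeg_eq_zero_of_lqf {A B : Scheme.{u}} (f : A ⟶ B) (x : A)
    (H : LocallyQuasiFinite (A.fromSpecResidueField x ≫ f)) : Dual3.resTrdeg f x = 0 := by
  unfold Dual3.resTrdeg
  letI := (f.residueFieldMap x).hom.toAlgebra
  haveI : LocallyQuasiFinite (Spec.map (f.residueFieldMap x) ≫ B.fromSpecResidueField (f x)) := by
    rwa [Scheme.Hom.SpecMap_residueFieldMap_fromSpecResidueField]
  haveI : LocallyQuasiFinite (Spec.map (f.residueFieldMap x)) :=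
    LocallyQuasiFinite.of_comp _ (B.fromSpecResidueField (f x))
  haveI : IsFinite (Spec.map (f.residueFieldMap x)) := IsFinite.of_locallyQuasiFinite _
  have h : (f.residueFieldMap x).hom.Finite := (IsFinite.SpecMap_iff _).1 inferInstance
  haveI : Module.Finite (B.residueField (f x)) (A.residueField x) := h
  haveI : Algebra.IsAlgebraic (B.residueField (f x)) (A.residueField x) := Algebra.IsAlgebraic.of_finite _ _
  exact trdeg_eq_zero

theorem resTrdeg_eq_zero_of_locallyQuasiFinite {A B : Scheme.{u}} (f : A ⟶ B) [LocallyQuasiFinite f]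
    (x : A) : Dual3.resTrdeg f x = 0 :=
  resTrdeg_eq_zero_of_lqf f x inferInstance

/-- The residue field extension at a closed point is finite, for a morphism locally of finite type. -/
theorem resTrdeg_eq_zero_of_isClosed {A B : Scheme.{u}} (f : A ⟶ B) [LocallyOfFiniteType f] (x : A)
    (hx : IsClosed ({x} : Set A)) : Dual3.resTrdeg f x = 0 := by
  haveI : IsClosedImmersion (A.fromSpecResidueField x) :=
    .of_isPreimmersion _ (by simpa [Scheme.range_fromSpecResidueField] using hx)
  refine resTrdeg_eq_zero_of_lqf f x ?_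
  haveI : LocallyOfFiniteType (Spec.map (f.residueFieldMap x) ≫ B.fromSpecResidueField (f x)) := by
    rw [Scheme.Hom.SpecMap_residueFieldMap_fromSpecResidueField]; infer_instance
  haveI : LocallyOfFiniteType (Spec.map (f.residueFieldMap x)) :=
    locallyOfFiniteType_of_comp _ (B.fromSpecResidueField (f x))
  haveI : LocallyQuasiFinite (Spec.map (f.residueFieldMap x)) :=
    LocallyQuasiFinite.of_injective (fun _ _ _ => Subsingleton.elim _ _)
  rw [← Scheme.Hom.SpecMap_residueFieldMap_fromSpecResidueField]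
  infer_instance

theorem fibreDimAt_eq_add {A B : Scheme.{u}} (h : A ⟶ B) [LocallyOfFiniteType h] (x : A) :
    FlatMor.fibreDimAt h x = ringKrullDim ((h.fiber (h x)).presheaf.stalk (h.asFiber x)) +
      ((Cardinal.toENat (Dual3.resTrdeg h x) : ℕ∞) : WithBot ℕ∞) := by
  letI : (h.fiber (h x)).Over (Spec (CommRingCat.of (B.residueField (h x)))) :=
    ⟨h.fiberToSpecResidueField (h x)⟩
  haveI : LocallyOfFiniteType ((h.fiber (h x)) ↘ Spec (CommRingCat.of (B.residueField (h x)))) :=
    MorphismProperty.pullback_snd h (B.fromSpecResidueField (h x)) inferInstance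
  obtain ⟨a, b, ha, hb, e⟩ := Groth.L22.SchemeDim.exists_localDim (B.residueField (h x)) (h.fiber (h x)) (h.asFiber x)
  have e₀ : h.fiberι (h x) (h.asFiber x) = x := h.fiberι_asFiber x
  have := Groth.L22.Cyc.rtrdeg_fiberι h (h x) (h.asFiber x)
  rw [e₀] at this
  have htr : Dual3.resTrdeg h x = (a : Cardinal) := this.trans ha
  unfold FlatMor.fibreDimAt
  rw [e, hb, htr, Cardinal.toENat_nat]
  push_cast
  exact add_comm _ _

/-- Lifting a closed point to a chart over a given chart of the target. -/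
theorem exists_closed_lift {f : X ⟶ Y} {V : Over S} {b : (yon S).obj V ⟶ Y}
    (hb : RepWith @Etale b) (hbs : RepWith @Surjective b) {U : Over S} {a : (yon S).obj U ⟶ X}
    (ha : RepWith @Etale a) {z : U.left} (hz : IsClosed ({z} : Set U.left)) :
    ∃ (U' : Over S) (a' : (yon S).obj U' ⟶ X) (h : U' ⟶ V) (z' : U'.left), RepWith @Etale a' ∧
      a' ≫ f = (yon S).map h ≫ b ∧ Points.ofPt a' z' = Points.ofPt a z ∧ IsClosed ({z'} : Set U'.left) := by
  obtain ⟨U', h, p, sq⟩ := exists_isPullback_of_representable hb.1 (a ≫ f)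
  have hp : Etale p.left := repWith_prop hb sq
  have hps : Surjective p.left := repWith_prop hbs sq
  obtain ⟨z', hz'⟩ := p.left.surjective z
  refine ⟨U', (yon S).map p ≫ a, h, z', repWith_comp (repWith_map (P := @Etale) hp) ha,
    by rw [Category.assoc, sq.w], by rw [ofPt_comp, hz'], ?_⟩
  have hd : _root_.IsDiscrete (p.left ⁻¹' {z}) := p.left.isDiscrete_preimage_singleton z
  have hmem : z' ∈ p.left ⁻¹' {z} := hz'
  have hF : IsClosed (p.left ⁻¹' {z}) := hz.preimage p.left.continuous
  haveI := hd.to_subtype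
  have hc : IsClosed ({⟨z', hmem⟩} : Set ↥(p.left ⁻¹' {z})) := isClosed_discrete _
  have := hF.isClosedEmbedding_subtypeVal.isClosedMap _ hc
  simpa using this

end Groth.L23.Trdeg
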