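import Groth.Agent.L23.FibreConditions
import Groth.Agent.L23.SpaceTrdeg
import Groth.Agent.L23.DimDecent
import Groth.Agent.L07.DimToolkit

/-!
# Quasi-finiteness over points of codimension at most one
-/

universe u

open CategoryTheory CategoryTheory.Limits AlgebraicGeometry AlgSp Topology

set_option backward.isDefEq.respectTransparency.types false
set_option backward.isDefEq.respectTransparency false
set_option maxSynthPendingDepth 3
set_option linter.style.haveILetI false

namespace Groth.L23.CodimOne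

open Groth.L07.DimToolkit Groth.L07.Equidim

theorem stalkDim_eq_zero_iff {W : Scheme.{u}} (x : W) :
    ringKrullDim (W.presheaf.stalk x) = 0 ↔ ∀ q, q ⤳ x → q = x := by
  let := specializationOrder W
  rw [ringKrullDim_stalk_eq_coheight, WithBot.coe_eq_zero, Order.coheight_eq_zero]
  constructor
  · exact fun h q hq => (le_antisymm (show x ≤ q from hq) (h (show x ≤ q from hq))).symm
  · exact fun h q hq => (h q hq).le

theorem mem_of_dense_of_maximal {W : Scheme.{u}} [IsLocallyNoetherian W] {D : Set W} (hD : IsOpen D)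
    (hd : Dense D) {ξ : W} (hξ : ∀ q, q ⤳ ξ → q = ξ) : ξ ∈ D := by
  obtain ⟨O, hO, hO'⟩ := exists_nhd_maximal (X := W) ξ
  obtain ⟨w, hw, hwD⟩ := hd.inter_open_nonempty _ O.2 ⟨ξ, hO⟩
  obtain ⟨q, hq, hqm⟩ := exists_maximal_generization w
  exact (hξ q (hO' q (hq.mem_open O.2 hw) hqm)) ▸ hq.mem_open hD hwD

theorem rtrdeg_eq_zero_of_qfAt {U V : Scheme.{u}} (h : U ⟶ V) (u : U) (H : QFL.qfAt U V h u) :
    Dual3.resTrdeg h u = 0 := by
  obtain ⟨W, hu, h₁, -⟩ := H
  have h0 := Trdeg.resTrdeg_eq_zero_of_locallyQuasiFinite (W.ι ≫ h) ⟨u, hu⟩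
  rw [Trdeg.resTrdeg_comp, Trdeg.resTrdeg_eq_zero_of_locallyQuasiFinite W.ι, add_zero] at h0
  exact h0

/-- Points over a point of codimension at most one are quasi-finite once the maximal points above are. -/
theorem qfAt_of_maximal {U V : Scheme.{u}} [IsLocallyNoetherian V] (h : U ⟶ V) [LocallyOfFiniteType h] (u : U)
    (hy : ringKrullDim (V.presheaf.stalk (h u)) ≤ 1)
    (hgen : ∀ ξ : U, (∀ q, q ⤳ ξ → q = ξ) → h ξ ⤳ h u → Dual3.resTrdeg h ξ = 0) : QFL.qfAt U V h u := by
  by_contra hne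
  have h1 := QFL.one_le_fibreDimAt h hne
  obtain ⟨z, hzu, hfz, -, hz⟩ := Groth.L07.OpenEquiv.exists_maximal_fdim_eq h u
  obtain ⟨ξ, hξ, hmax⟩ := exists_maximal_generization z
  obtain ⟨A, B, n, N, hA, hB, hn, hN, hle, -⟩ := formula h hξ
  obtain ⟨N', hN', hNt⟩ := exists_fdim_rtrdeg h ξ
  have hN0 : N = 0 := by
    have e1 : N = N' := by exact_mod_cast hN.symm.trans hN'
    have e2 : (N' : Cardinal.{u}) = 0 := hNt.symm.trans (hgen ξ hmax ((hξ.trans hzu).map h.continuous))
    exact e1.trans (by exact_mod_cast e2)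
  have hn1 : 1 ≤ n := by
    rw [← hz, hn] at h1
    exact_mod_cast h1
  have hB1 : B ≤ 1 := by
    have h2 : (B : WithBot ℕ∞) ≤ 1 := hB.symm.trans_le ((dim_locQuot_le _ _ _).trans (by rw [hfz]; exact hy))
    exact_mod_cast h2
  have hA1 : 1 ≤ A := by
    rcases Nat.eq_zero_or_pos A with rfl | hA0
    · exfalso
      have hzξ : z = ξ := by
        obtain ⟨P, hP⟩ := exists_prime z ξ hξ
        rw [dim_locQuot_eq_coheight z ξ hξ P hP, Nat.cast_zero, WithBot.coe_eq_zero, Order.coheight_eq_zero] at hA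
        have e : P = IsLocalRing.closedPoint (U.presheaf.stalk z) :=
          le_antisymm (show P ≤ IsLocalRing.closedPoint _ from IsLocalRing.le_maximalIdeal P.2.ne_top)
            (hA (show P ≤ IsLocalRing.closedPoint _ from IsLocalRing.le_maximalIdeal P.2.ne_top))
        rw [← hP, e, Scheme.fromSpecStalk_closedPoint]
      subst hzξ
      have : n = N := by exact_mod_cast hn.symm.trans hN
      omega
    · exact hA0
  omega

/-- The space version. -/
theorem hasAtMor_qf {S : Scheme.{u}} {X Y : AlgSp.Space S} {f : X.obj ⟶ Y.obj}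
    (hf : LocP @LocallyOfFiniteType f) (hY : IsLocNoethSp Y.obj) (y : Points Y.obj)
    (hy : HasAt (fun U u => ringKrullDim ↥(U.presheaf.stalk u) ≤ 1) Y.obj y)
    (h : ∀ ξ : Points X.obj, HasAt (fun U u => ringKrullDim ↥(U.presheaf.stalk u) = 0) X.obj ξ →
      Points.map f ξ ⤳ y → HasAtMor (fun _ _ h u => Dual3.resTrdeg h u = 0) f ξ)
    (x : Points X.obj) (hx : Points.map f x = y) : HasAtMor QFL.qfAt f x := by
  obtain ⟨U, V, a, b, g, ha, has, hb, -, w⟩ := exists_chart X.property Y.property f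
  haveI : LocallyOfFiniteType g.left := hf a b g ha hb w
  haveI : IsLocallyNoetherian V.left := Pt.isLocallyNoetherian_of_chart Y.property hY hb
  obtain ⟨u, rfl⟩ := surjective_ofPt has x
  have him : ∀ v : U.left, Points.map f (Points.ofPt a v) = Points.ofPt b (g.left v) := fun v => by
    rw [Points.map_ofPt, w, ofPt_comp]
  rw [← hx, him, Pt.hasAt_stalkDim_iff Y.property hb (g.left u) (fun t => t ≤ 1)] at hy
  refine ⟨U, V, a, b, g, u, ha, hb, w, rfl, qfAt_of_maximal g.left u hy fun ξ hξ hs => ?_⟩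
  refine (Trdeg.hasAtMor_resTrdeg_iff (· = 0) ha hb w ξ).1 (h _ ?_ ?_)
  · exact ⟨U, a, ξ, ha, rfl, (stalkDim_eq_zero_iff ξ).2 hξ⟩
  · rw [← hx, him, him]
    exact hs.map (Points.continuous_ofPt b)

theorem resTrdeg_zero_of_qf {S : Scheme.{u}} {X Y : Sp S} {f : X ⟶ Y} {x : Points X}
    (h : HasAtMor QFL.qfAt f x) : HasAtMor (fun _ _ h u => Dual3.resTrdeg h u = 0) f x := by
  obtain ⟨U, V, a, b, g, u, ha, hb, w, e, H⟩ := h
  exact ⟨U, V, a, b, g, u, ha, hb, w, e, rtrdeg_eq_zero_of_qfAt g.left u H⟩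

/-- Points of codimension zero lie in every dense open set. -/
theorem qf_of_dense {S : Scheme.{u}} {X Y : AlgSp.Space S} {f : X.obj ⟶ Y.obj}
    (hf : LocP @LocallyOfFiniteType f) (hY : IsLocNoethSp Y.obj)
    (hd : Dense {x : Points X.obj | HasAtMor QFL.qfAt f x}) (ξ : Points X.obj)
    (hξ : HasAt (fun U u => ringKrullDim ↥(U.presheaf.stalk u) = 0) X.obj ξ) : HasAtMor QFL.qfAt f ξ := by
  obtain ⟨U, V, a, b, g, ha, has, hb, -, w⟩ := exists_chart X.property Y.property f
  haveI : LocallyOfFiniteType g.left := hf a b g ha hb w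
  haveI : IsLocallyNoetherian V.left := Pt.isLocallyNoetherian_of_chart Y.property hY hb
  haveI : IsLocallyNoetherian U.left := LocallyOfFiniteType.isLocallyNoetherian g.left
  obtain ⟨z, rfl⟩ := surjective_ofPt has ξ
  rw [Pt.hasAt_stalkDim_iff X.property ha z (fun t => t = 0)] at hξ
  exact mem_of_dense_of_maximal (D := Points.ofPt a ⁻¹' {x | HasAtMor QFL.qfAt f x})
    ((QFL.isOpen_qfSet f).preimage (Points.continuous_ofPt a)) (hd.preimage (isOpenMap_ofPt ha))
    ((stalkDim_eq_zero_iff z).1 hξ)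

end Groth.L23.CodimOne
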