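import Mathlib.Topology.Spectral.ConstructibleTopology
import Mathlib.Topology.Constructible
import Mathlib.Topology.Baire.LocallyCompactRegular
import Mathlib.Topology.Baire.Lemmas
import Mathlib.Topology.Inseparable

/-!
# Generic points of images of spectral spaces under open maps with finite fibres
-/

universe u v

open Topology Set

namespace Groth.L23.SoberTop

variable {A : Type u} [TopologicalSpace A]

/-- Open sets of the constructible topology. -/
abbrev COpen (s : Set A) : Prop :=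
  IsOpen (WithTopology.ofTopology ⁻¹' s : Set (WithConstructibleTopology A))

lemma cOpen_of {s : Set A} (h : IsOpen[constructibleTopology A] s) : COpen s :=
  @Continuous.isOpen_preimage _ _ _ (constructibleTopology A) _ (WithTopology.continuous_ofTopology _) _ h

lemma cOpen_of_isConstructible [QuasiSeparatedSpace A] [PrespectralSpace A] [CompactSpace A] {s : Set A}
    (hs : IsConstructible s) : COpen s ∧ COpen sᶜ := by
  induction hs using IsConstructible.empty_union_induction with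
  | open_retrocompact U hU hU' =>
    exact ⟨cOpen_of (hU'.isCompact.isOpen_constructibleTopology_of_isOpen hU), cOpen_of
      (IsCompact.isOpen_constructibleTopology_of_isClosed (by rw [compl_compl]; exact hU'.isCompact) hU.isClosed_compl)⟩
  | union s hs t ht hs' ht' =>
    refine ⟨hs'.1.union ht'.1, ?_⟩
    rw [compl_union]
    exact hs'.2.inter ht'.2
  | compl s hs hs' => exact ⟨hs'.2, by rw [compl_compl]; exact hs'.1⟩

lemma exists_isConstructible_of_cOpen [QuasiSeparatedSpace A] [PrespectralSpace A] [CompactSpace A]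
    {s : Set A} (hs₀ : COpen s) : ∀ a ∈ s, ∃ C, IsConstructible C ∧ a ∈ C ∧ C ⊆ s := by
  have hs : IsOpen[constructibleTopology A] s := hs₀
  clear hs₀
  change TopologicalSpace.GenerateOpen _ s at hs
  induction hs with
  | basic t ht =>
    rcases ht with ⟨h1, h2⟩ | ⟨h1, h2⟩
    · exact fun a ha => ⟨t, h2.isConstructible h1, ha, subset_rfl⟩
    · exact fun a ha => ⟨t, isConstructible_compl.1 (h2.isConstructible h1.isOpen_compl), ha, subset_rfl⟩
  | univ => exact fun a _ => ⟨univ, .univ, trivial, subset_rfl⟩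
  | inter s t _ _ hs' ht' =>
    rintro a ⟨ha, ha'⟩
    obtain ⟨C, hC, haC, hCs⟩ := hs' a ha
    obtain ⟨D, hD, haD, hDt⟩ := ht' a ha'
    exact ⟨C ∩ D, hC.inter hD, ⟨haC, haD⟩, inter_subset_inter hCs hDt⟩
  | sUnion S _ ih =>
    rintro a ⟨t, ht, hat⟩
    obtain ⟨C, hC, haC, hCt⟩ := ih t ht a hat
    exact ⟨C, hC, haC, hCt.trans (subset_sUnion_of_mem ht)⟩

lemma cOpen_of_isOpen [PrespectralSpace A] {s : Set A} (hs : IsOpen s) : COpen s := by
  obtain ⟨F, hF, rfl⟩ := PrespectralSpace.isTopologicalBasis.open_eq_sUnion hs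
  show IsOpen _
  rw [preimage_sUnion]
  exact isOpen_biUnion fun t ht => cOpen_of ((hF ht).2.isOpen_constructibleTopology_of_isOpen (hF ht).1)

lemma exists_separation [T0Space A] [PrespectralSpace A] {x y : A} (h : x ≠ y) :
    ∃ C D : Set A, COpen C ∧ COpen D ∧ x ∈ C ∧ y ∈ D ∧ Disjoint C D := by
  obtain ⟨U, hU, hx⟩ := exists_isOpen_xor_mem h
  rcases hx with ⟨hxU, hyU⟩ | ⟨hyU, hxU⟩
  · obtain ⟨B, ⟨hB, hB'⟩, hxB, hBU⟩ := PrespectralSpace.isTopologicalBasis.exists_subset_of_mem_open hxU hU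
    exact ⟨B, Bᶜ, cOpen_of (hB'.isOpen_constructibleTopology_of_isOpen hB),
      cOpen_of (IsCompact.isOpen_constructibleTopology_of_isClosed (by rwa [compl_compl]) hB.isClosed_compl), hxB,
      fun h => hyU (hBU h), disjoint_compl_right⟩
  · obtain ⟨B, ⟨hB, hB'⟩, hyB, hBU⟩ := PrespectralSpace.isTopologicalBasis.exists_subset_of_mem_open hyU hU
    exact ⟨Bᶜ, B, cOpen_of (IsCompact.isOpen_constructibleTopology_of_isClosed (by rwa [compl_compl]) hB.isClosed_compl),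
      cOpen_of (hB'.isOpen_constructibleTopology_of_isOpen hB), fun h => hxU (hBU h), hyB, disjoint_compl_left⟩

lemma t2Space [T0Space A] [PrespectralSpace A] : T2Space (WithConstructibleTopology A) := by
  refine ⟨fun x y h => ?_⟩
  obtain ⟨C, D, hC, hD, hx, hy, hd⟩ := exists_separation ((WithTopology.ofTopology_injective _).ne h)
  exact ⟨_, _, hC, hD, hx, hy, hd.preimage _⟩

/-- Minimal points of a set. -/
def minPts (Z : Set A) : Set A := {η | η ∈ Z ∧ ∀ w ∈ Z, w ⤳ η → w = η}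

lemma exists_minPts [T0Space A] [QuasiSober A] {Z : Set A} (hZ : IsClosed Z) {z : A} (hz : z ∈ Z) :
    ∃ η ∈ minPts Z, η ⤳ z := by
  have := hZ.isClosedEmbedding_subtypeVal.quasiSober
  let c : Set Z := irreducibleComponent ⟨z, hz⟩
  have hc : IsIrreducible c := isIrreducible_irreducibleComponent
  have hg := hc.isGenericPoint_genericPoint isClosed_irreducibleComponent
  refine ⟨hc.genericPoint.1, ⟨hc.genericPoint.2, fun w hw hwg => ?_⟩, ?_⟩
  · have hw' : (⟨w, hw⟩ : Z) ⤳ hc.genericPoint := (subtype_specializes_iff _ _).2 hwg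
    have hsub : irreducibleComponent (⟨z, hz⟩ : Z) ⊆ closure {(⟨w, hw⟩ : Z)} := by
      show c ⊆ _
      rw [← hg.def]
      exact closure_minimal (singleton_subset_iff.2 hw'.mem_closure) isClosed_closure
    have he := eq_irreducibleComponent (isIrreducible_singleton.isPreirreducible.closure) hsub
    have : hc.genericPoint ⤳ (⟨w, hw⟩ : Z) := hg.specializes (show (⟨w, hw⟩ : Z) ∈ irreducibleComponent (⟨z, hz⟩ : Z) from he ▸ subset_closure rfl)
    exact congrArg Subtype.val (hw'.antisymm this).eq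
  · exact (hg.specializes (mem_irreducibleComponent : (⟨z, hz⟩ : Z) ∈ c)).map continuous_subtype_val

lemma exists_open_of_minPts [SpectralSpace A] {Z : Set A} (hZ : IsClosed Z) {η : A} (hη : η ∈ minPts Z)
    {C : Set A} (hC : COpen C) (hηC : η ∈ C) : ∃ W : Set A, IsOpen W ∧ η ∈ W ∧ W ∩ Z ⊆ C := by
  let ι := {B : Set A // (IsOpen B ∧ IsCompact B) ∧ η ∈ B}
  let e : WithConstructibleTopology A → A := WithTopology.ofTopology
  let t : ι → Set (WithConstructibleTopology A) := fun B => e ⁻¹' (B.1 ∩ Z ∩ Cᶜ)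
  have htc : ∀ B, IsClosed (t B) := fun B => by
    refine (IsClosed.inter ?_ ?_).inter ?_
    · exact isOpen_compl_iff.1 (cOpen_of
        (IsCompact.isOpen_constructibleTopology_of_isClosed (by rw [compl_compl]; exact B.2.1.2) B.2.1.1.isClosed_compl))
    · exact isOpen_compl_iff.1 (cOpen_of_isOpen hZ.isOpen_compl)
    · exact isClosed_compl_iff.2 hC
  have : Nonempty ι := by
    obtain ⟨B, hB, hηB, -⟩ := PrespectralSpace.isTopologicalBasis.exists_subset_of_mem_open (mem_univ η) isOpen_univ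
    exact ⟨⟨B, hB, hηB⟩⟩
  have hdir : Directed (· ⊇ ·) t := fun B B' =>
    ⟨⟨B.1 ∩ B'.1, ⟨B.2.1.1.inter B'.2.1.1,
      B.2.1.2.inter_of_isOpen B'.2.1.2 B.2.1.1 B'.2.1.1⟩, B.2.2, B'.2.2⟩,
      fun x hx => ⟨⟨hx.1.1.1, hx.1.2⟩, hx.2⟩, fun x hx => ⟨⟨hx.1.1.2, hx.1.2⟩, hx.2⟩⟩
  obtain ⟨B, hB⟩ := isCompact_univ.elim_directed_family_closed t htc (by
    rw [eq_empty_iff_forall_notMem]
    rintro w ⟨-, hw⟩
    rw [mem_iInter] at hw
    have hwZ : e w ∈ Z := (hw (Classical.arbitrary ι)).1.2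
    have hwη : e w ⤳ η := specializes_iff_forall_open.2 fun V hV hηV => by
      obtain ⟨B, hB, hηB, hBV⟩ := PrespectralSpace.isTopologicalBasis.exists_subset_of_mem_open hηV hV
      exact hBV (hw ⟨B, hB, hηB⟩).1.1
    exact (hw (Classical.arbitrary ι)).2 (by rw [hη.2 _ hwZ hwη]; exact hηC)) hdir
  refine ⟨B.1, B.2.1.1, B.2.2, fun w hw => ?_⟩
  by_contra hwC
  exact (eq_empty_iff_forall_notMem.1 hB) (WithTopology.toTopology _ w) ⟨trivial, hw, hwC⟩

variable {P : Type v} [TopologicalSpace P]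

theorem exists_genericPoint [SpectralSpace A] {φ : A → P} (hc : Continuous φ) (ho : IsOpenMap φ)
    (hg : GeneralizingMap φ) (hfin : ∀ y, (φ ⁻¹' {y}).Finite)
    (hstrict : ∀ x y, x ⤳ y → φ x = φ y → x = y) (hcons : ∀ K, COpen K → COpen (φ ⁻¹' (φ '' K)))
    {T : Set P} (hTc : IsClosed T) (hTi : IsPreirreducible T) (hne : (φ ⁻¹' T).Nonempty) :
    ∃ ξ ∈ T, closure {ξ} = T := by
  classical
  let Z := φ ⁻¹' T
  have hZ : IsClosed Z := hTc.preimage hc
  let e : WithConstructibleTopology A → A := WithTopology.ofTopology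
  have := t2Space (A := A)
  have hsame : ∀ η ∈ minPts Z, ∀ f, φ f = φ η → f ∈ minPts Z := by
    intro η hη f hf
    refine ⟨show φ f ∈ T from hf ▸ hη.1, fun w hw hwf => ?_⟩
    obtain ⟨w', hw', hw''⟩ := hg (show φ w ⤳ φ η from hf ▸ hwf.map hc)
    have := hη.2 w' (show φ w' ∈ T from hw''.symm ▸ hw) hw'
    exact hstrict w f hwf (by rw [← hw'', this, hf])
  let N : A → ℕ := fun a => (φ ⁻¹' {φ a}).ncard
  have hlsc : ∀ a : A, ∃ C, COpen C ∧ a ∈ C ∧ ∀ v ∈ C, N a ≤ N v := by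
    intro a
    let F := φ ⁻¹' {φ a}
    obtain ⟨U, hU, hd⟩ := ((hfin (φ a)).preimage (f := e)
      (WithTopology.ofTopology_injective _).injOn).t2_separation
    let K : A → Set A := fun f => WithTopology.toTopology _ ⁻¹' U (WithTopology.toTopology _ f)
    have hK : ∀ f, COpen (K f) := fun f => (hU _).2
    refine ⟨⋂ f ∈ F, φ ⁻¹' (φ '' K f), ?_, mem_iInter₂.2 fun f hf => ⟨f, (hU _).1, hf⟩, fun v hv => ?_⟩
    · show IsOpen _
      rw [preimage_iInter₂]
      exact (hfin _).isOpen_biInter fun f _ => hcons _ (hK f)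
    rw [mem_iInter₂] at hv
    choose g hg hg' using hv
    refine Set.ncard_le_ncard_of_injOn (fun f => if hf : f ∈ F then g f hf else f)
      (fun f hf => by simp only [dif_pos (show f ∈ F from hf)]; exact hg' f hf) (fun f hf f' hf' h => ?_) (hfin _)
    simp only [dif_pos (show f ∈ F from hf), dif_pos (show f' ∈ F from hf')] at h
    by_contra hne
    exact (hd (x := WithTopology.toTopology _ f) hf (y := WithTopology.toTopology _ f') hf'
      (fun h => hne (WithTopology.toTopology_injective _ h))).le_bot ⟨hg f hf, h ▸ hg f' hf'⟩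
  let M := closure (e ⁻¹' minPts Z)
  obtain ⟨z, hz⟩ := hne
  obtain ⟨η₀, hη₀, -⟩ := exists_minPts hZ (z := z) hz
  have : Nonempty M := ⟨⟨WithTopology.toTopology _ η₀, subset_closure hη₀⟩⟩
  have : CompactSpace M := isCompact_iff_compactSpace.1 isClosed_closure.isCompact
  obtain ⟨n, w₀, hw₀⟩ := nonempty_interior_of_iUnion_of_closed (f := fun n : ℕ => {m : M | N (e m.1) ≤ n})
    (fun n => by
      rw [← isOpen_compl_iff, isOpen_iff_forall_mem_open]
      intro m hm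
      obtain ⟨C, hC, hmC, hCN⟩ := hlsc (e m.1)
      refine ⟨(fun m : M => e m.1) ⁻¹' C, fun m' hm' => ?_, ?_, hmC⟩
      · exact fun h => hm ((hCN _ hm').trans h)
      · exact hC.preimage continuous_subtype_val)
    (eq_univ_of_forall fun m => mem_iUnion.2 ⟨_, le_refl (N (e m.1))⟩)
  obtain ⟨O, hO, hOn, hwO⟩ : ∃ O : Set (WithConstructibleTopology A), IsOpen O ∧
      (∀ m : M, m.1 ∈ O → N (e m.1) ≤ n) ∧ w₀.1 ∈ O := by
    obtain ⟨s, hs, hs', hws⟩ := mem_interior.1 hw₀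
    obtain ⟨O, hO, rfl⟩ := isOpen_induced_iff.1 hs'
    exact ⟨O, hO, fun m hm => hs hm, hws⟩
  obtain ⟨η₁, hη₁O, hη₁⟩ := mem_closure_iff.1 w₀.2 O hO hwO
  obtain ⟨W₁, hW₁, hηW₁, hW₁O⟩ := exists_open_of_minPts hZ hη₁ (C := WithTopology.toTopology _ ⁻¹' O) hO hη₁O
  have hbd : ∀ η ∈ minPts Z ∩ W₁, N η ≤ n := fun η hη =>
    hOn ⟨WithTopology.toTopology _ η, subset_closure hη.1⟩ (hW₁O ⟨hη.2, hη.1.1⟩)
  obtain ⟨η, ⟨hη, hηW⟩, hmax⟩ : ∃ η ∈ minPts Z ∩ W₁, ∀ η' ∈ minPts Z ∩ W₁, N η' ≤ N η := by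
    obtain ⟨m, ⟨η, hη, hm⟩, hm'⟩ := Set.exists_max_image (N '' (minPts Z ∩ W₁)) id
      ((finite_Iic n).subset (by rintro _ ⟨η, hη, rfl⟩; exact hbd η hη)) ⟨_, e η₁, ⟨hη₁, hηW₁⟩, rfl⟩
    exact ⟨η, hη, fun η' hη' => hm ▸ hm' _ ⟨η', hη', rfl⟩⟩
  let F := φ ⁻¹' {φ η}
  obtain ⟨U, hU, hd⟩ := ((hfin (φ η)).preimage (f := e) (WithTopology.ofTopology_injective _).injOn).t2_separation
  have hW : ∀ f : F, ∃ W : Set A, IsOpen W ∧ f.1 ∈ W ∧
      W ∩ Z ⊆ WithTopology.toTopology _ ⁻¹' U (WithTopology.toTopology _ f.1) := fun f =>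
    exists_open_of_minPts hZ (hsame η hη f.1 f.2) (hU _).2 (hU _).1
  choose W hWo hWf hWU using hW
  have hdis : ∀ (f f' : F) (a : A), a ∈ Z → a ∈ W f → a ∈ W f' → f = f' := by
    intro f f' a ha hf hf'
    by_contra hne
    exact (hd (x := WithTopology.toTopology _ f.1) f.2 (y := WithTopology.toTopology _ f'.1) f'.2
      (fun h => hne (Subtype.ext (WithTopology.toTopology_injective _ h)))).le_bot ⟨hWU f ⟨hf, ha⟩, hWU f' ⟨hf', ha⟩⟩
  have := (hfin (φ η)).to_subtype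
  let O' : Set P := ⋂ f : F, φ '' W f
  let G := W₁ ∩ W ⟨η, rfl⟩ ∩ φ ⁻¹' O'
  have hG : IsOpen G := (hW₁.inter (hWo _)).inter ((isOpen_iInter_of_finite fun f => ho _ (hWo f)).preimage hc)
  have hηG : η ∈ G := ⟨⟨hηW, hWf _⟩, mem_iInter.2 fun f => ⟨f.1, hWf f, f.2⟩⟩
  have hinj : ∀ a ∈ minPts Z ∩ G, ∀ b ∈ minPts Z ∩ G, φ a = φ b → a = b := by
    intro a ha b hb hab
    choose g hg hga using fun f : F => mem_iInter.1 (show φ a ∈ O' from ha.2.2) f
    have hgZ : ∀ f, g f ∈ Z := fun f => show φ (g f) ∈ T from (hga f).symm ▸ ha.1.1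
    let g' : F → φ ⁻¹' {φ a} := fun f => ⟨g f, hga f⟩
    have hg' : Function.Injective g' := fun f f' h =>
      hdis f f' (g f) (hgZ f) (hg f) (by rw [show g f = g f' from congrArg Subtype.val h]; exact hg f')
    have := (hfin (φ a)).to_subtype
    have hbij : Function.Surjective g' := (hg'.bijective_of_nat_card_le (by
      rw [Nat.card_coe_set_eq, Nat.card_coe_set_eq]; exact hmax a ⟨ha.1, ha.2.1.1⟩)).2
    have key : ∀ c ∈ minPts Z ∩ G, φ c = φ a → c = g ⟨η, rfl⟩ := by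
      intro c hc hca
      obtain ⟨f, hf⟩ := hbij ⟨c, hca⟩
      have hf' : g f = c := congrArg Subtype.val hf
      have := hdis f ⟨η, rfl⟩ c hc.1.1 (hf' ▸ hg f) hc.2.1.2
      rw [← hf', this]
    rw [key a ha rfl, key b hb hab.symm]
  have hgen : ∀ z ∈ G ∩ Z, η ⤳ z := by
    intro z hz
    obtain ⟨η', hη', hη'z⟩ := exists_minPts hZ hz.2
    have hη'G : η' ∈ G := hη'z.mem_open hG hz.1
    suffices η' = η from this ▸ hη'z
    by_contra hne
    obtain ⟨C, D, hC, hD, hC', hD', hCD⟩ := exists_separation hne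
    obtain ⟨W', hW', hW'η, hW'C⟩ := exists_open_of_minPts hZ hη' hC hC'
    obtain ⟨W'', hW'', hW''η, hW''D⟩ := exists_open_of_minPts hZ hη hD hD'
    obtain ⟨y, hy, ⟨z₁, hz₁, hz₁y⟩, ⟨z₂, hz₂, hz₂y⟩⟩ := hTi _ _ (ho _ (hG.inter hW')) (ho _ (hG.inter hW''))
      ⟨φ η', hη'.1, ⟨η', ⟨hη'G, hW'η⟩, rfl⟩⟩ ⟨φ η, hη.1, ⟨η, ⟨hηG, hW''η⟩, rfl⟩⟩
    obtain ⟨μ, hμ, hμz⟩ := exists_minPts hZ (show φ z₁ ∈ T from hz₁y.symm ▸ hy)
    have hμG := hμz.mem_open (hG.inter hW') hz₁
    obtain ⟨ν, hν, hν'⟩ := hg (show φ μ ⤳ φ z₂ by rw [hz₂y, ← hz₁y]; exact hμz.map hc)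
    have hνG := hν.mem_open (hG.inter hW'') hz₂
    have hνm := hsame μ hμ ν hν'
    have := hinj μ ⟨hμ, hμG.1⟩ ν ⟨hνm, hνG.1⟩ hν'.symm
    exact hCD.le_bot ⟨hW'C ⟨hμG.2, hμ.1⟩, hW''D ⟨this ▸ hνG.2, hμ.1⟩⟩
  refine ⟨φ η, hη.1, subset_antisymm (closure_minimal (singleton_subset_iff.2 hη.1) hTc) fun y hy => ?_⟩
  rw [mem_closure_iff]
  intro V hV hyV
  obtain ⟨y', hy', hy'V, z, hz, rfl⟩ := hTi V (φ '' G) hV (ho _ hG) ⟨y, hy, hyV⟩ ⟨φ η, hη.1, η, hηG, rfl⟩
  exact ⟨φ η, ((hgen z ⟨hz, hy'⟩).map hc).mem_open hV hy'V, rfl⟩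

end Groth.L23.SoberTop
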