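import Groth.Agent.L19.Closure
import Groth.Agent.L19.IntegralHom
import Groth.Agent.L23.SoberTop
import Mathlib.AlgebraicGeometry.ZariskisMainTheorem
import Mathlib.AlgebraicGeometry.Morphisms.Finite
import Mathlib.AlgebraicGeometry.Properties
import Mathlib.AlgebraicGeometry.Limits
import Mathlib.AlgebraicGeometry.Morphisms.QuasiSeparated
import Mathlib.Topology.Spectral.Basic

/-!
# Neighbourhoods of generic points
-/

universe u

open CategoryTheory CategoryTheory.Limits AlgebraicGeometry Topology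

set_option backward.isDefEq.respectTransparency.types false
set_option linter.style.haveILetI false

namespace Groth.L23.Gen

/-- A separated quasi-finite morphism is finite over a neighbourhood of a generic point. -/
theorem exists_finite_nhd {X Y : Scheme.{u}} (f : X ⟶ Y) [LocallyQuasiFinite f] [LocallyOfFiniteType f]
    [IsSeparated f] [QuasiCompact f] {η : Y} (hmin : ∀ y : Y, y ⤳ η → y = η) :
    ∃ O : Y.Opens, η ∈ O ∧ IsFinite (f ∣_ O) := by
  let N := f.normalization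
  let j := f.toNormalization
  let g := f.fromNormalization
  have hg : ∀ w, g w = η → w ∈ Set.range j := by
    intro w hw
    obtain ⟨x, hx⟩ := Groth.L19.exists_specializes_of_mem_closure_range j (z := w) (j.denseRange w)
    refine ⟨x, Groth.L19.eq_of_specializes_of_isIntegralHom g hx ?_⟩
    rw [hw]
    exact hmin _ (hw ▸ hx.map g.continuous)
  let Z : Set Y := g '' (Set.range j)ᶜ
  have hZ : IsClosed Z := g.isClosedMap _ j.isOpenEmbedding.isOpen_range.isClosed_compl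
  let O : Y.Opens := ⟨Zᶜ, hZ.isOpen_compl⟩
  refine ⟨O, fun ⟨w, hw, e⟩ => hw (hg w e), ?_⟩
  have hsur : Surjective (j ∣_ (g ⁻¹ᵁ O)) := ⟨fun w => by
    obtain ⟨x, hx⟩ : w.1 ∈ Set.range j := by
      by_contra hh
      exact w.2 ⟨w.1, hh, rfl⟩
    refine ⟨⟨x, show j x ∈ g ⁻¹ᵁ O from hx.symm ▸ w.2⟩, Subtype.ext ?_⟩
    simpa [morphismRestrict_base] using hx⟩
  have hiso : IsIso (j ∣_ (g ⁻¹ᵁ O)) :=
    (isIso_iff_isOpenImmersion_and_surjective _).mpr ⟨inferInstance, hsur⟩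
  have e : f ∣_ O = (Scheme.isoOfEq X (by rw [← Scheme.Hom.comp_preimage, f.toNormalization_fromNormalization])).hom ≫
      (j ∣_ (g ⁻¹ᵁ O)) ≫ (g ∣_ O) := by
    rw [← cancel_mono O.ι]
    simp [morphismRestrict_ι, j, g]
  have : IsIntegralHom (g ∣_ O) := inferInstance
  refine (IsFinite.iff_isIntegralHom_and_locallyOfFiniteType _).mpr ⟨?_, inferInstance⟩
  rw [e]
  infer_instance

variable {U : Scheme.{u}} [QuasiSeparatedSpace U]

/-- A generic point outside an affine open has neighbourhoods avoiding it. -/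
theorem exists_affine_disjoint {η η' : U} (hη : ∀ y : U, y ⤳ η → y = η) (hη' : ∀ y : U, y ⤳ η' → y = η')
    (hne : η ≠ η') : ∃ B B' : U.Opens, IsAffineOpen B ∧ IsAffineOpen B' ∧ η ∈ B ∧ η' ∈ B' ∧ Disjoint B B' := by
  obtain ⟨_, ⟨A, hA, rfl⟩, hηA, -⟩ := U.isBasis_affineOpens.exists_subset_of_mem_open (Set.mem_univ η) isOpen_univ
  change U.Opens at A
  obtain ⟨_, ⟨A', hA', rfl⟩, hηA', -⟩ := U.isBasis_affineOpens.exists_subset_of_mem_open (Set.mem_univ η') isOpen_univ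
  change U.Opens at A'
  have hmin : ∀ (A : U.Opens) (η : U) (hA : η ∈ A), (∀ y, y ⤳ η → y = η) →
      (⟨η, hA⟩ : (A : Scheme.{u})) ∈ SoberTop.minPts (Set.univ : Set (A : Scheme.{u})) := fun A η hA h =>
    ⟨trivial, fun w _ hw => Subtype.ext (h w.1 (hw.map A.ι.continuous))⟩
  have key : ∀ (A : U.Opens), IsAffineOpen A → ∀ (η : U) (hA : η ∈ A), (∀ y, y ⤳ η → y = η) →
      ∀ C : Set (A : Scheme.{u}), SoberTop.COpen C → (⟨η, hA⟩ : (A : Scheme.{u})) ∈ C →
      ∃ B : U.Opens, IsAffineOpen B ∧ η ∈ B ∧ ∀ z ∈ B, ∃ hz : z ∈ A, (⟨z, hz⟩ : (A : Scheme.{u})) ∈ C := by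
    intro A hA η hηA hη C hC hηC
    have : IsAffine (A : Scheme.{u}) := hA
    have : SpectralSpace (A : Scheme.{u}) := {}
    obtain ⟨W, hW, hηW, hWC⟩ := SoberTop.exists_open_of_minPts (A := ↥(A : Scheme.{u})) isClosed_univ (hmin A η hηA hη) hC hηC
    obtain ⟨_, ⟨B, hB, rfl⟩, hηB, hBW⟩ :=
      U.isBasis_affineOpens.exists_subset_of_mem_open (a := η) (u := A.ι '' W) ⟨⟨η, hηA⟩, hηW, rfl⟩
        (A.ι.isOpenEmbedding.isOpenMap _ hW)
    refine ⟨B, hB, hηB, fun z hz => ?_⟩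
    obtain ⟨⟨z', hz'⟩, hw, rfl⟩ := hBW hz
    exact ⟨hz', hWC ⟨hw, trivial⟩⟩
  have hcap : IsCompact ((A : Set U) ∩ A') := QuasiSeparatedSpace.inter_isCompact _ _ A.2 hA.isCompact A'.2 hA'.isCompact
  by_cases h : η' ∈ A
  · have : IsAffine (A : Scheme.{u}) := hA
    have : SpectralSpace (A : Scheme.{u}) := {}
    obtain ⟨C, D, hC, hD, hηC, hηD, hCD⟩ :=
      SoberTop.exists_separation (A := ↥(A : Scheme.{u})) (x := (⟨η, hηA⟩ : (A : Scheme.{u}))) (y := ⟨η', h⟩) fun e => hne (congrArg Subtype.val e)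
    obtain ⟨B, hB, hηB, hBC⟩ := key A hA η hηA hη C hC hηC
    obtain ⟨B', hB', hηB', hBD⟩ := key A hA η' h hη' D hD hηD
    refine ⟨B, B', hB, hB', hηB, hηB', disjoint_iff_inf_le.2 fun z ⟨hz, hz'⟩ => ?_⟩
    obtain ⟨hz₁, hz₂⟩ := hBC z hz
    obtain ⟨hz₃, hz₄⟩ := hBD z hz'
    exact (hCD.le_bot ⟨hz₂, hz₄⟩).elim
  · have : IsAffine (A' : Scheme.{u}) := hA'
    have : SpectralSpace (A' : Scheme.{u}) := {}
    let C : Set (A' : Scheme.{u}) := (A'.ι ⁻¹' (A : Set U))ᶜ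
    have hc : IsCompact (A'.ι ⁻¹' (A : Set U)) := by
      rw [A'.ι.isOpenEmbedding.isEmbedding.isCompact_iff, Set.image_preimage_eq_inter_range]
      simpa using hcap
    have hC : SoberTop.COpen C := SoberTop.cOpen_of (IsCompact.isOpen_constructibleTopology_of_isClosed
      (by rw [compl_compl]; exact hc) (A.2.preimage A'.ι.continuous).isClosed_compl)
    obtain ⟨B', hB', hηB', hBC⟩ := key A' hA' η' hηA' hη' C hC h
    refine ⟨A, B', hA, hB', hηA, hηB', disjoint_iff_inf_le.2 fun z ⟨hz, hz'⟩ => ?_⟩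
    obtain ⟨hz₁, hz₂⟩ := hBC z hz'
    exact (hz₂ hz).elim

/-- Finitely many generic points lie in an affine open. -/
theorem exists_affine_of_finite {F : Set U} (hF : F.Finite) (hmin : ∀ η ∈ F, ∀ y : U, y ⤳ η → y = η)
    (O : U.Opens) (hO : F ⊆ O) : ∃ V : U.Opens, IsAffineOpen V ∧ F ⊆ V ∧ V ≤ O := by
  classical
  have := hF.to_subtype
  have := Fintype.ofFinite F
  have : ∀ a b : F, ∃ B B' : U.Opens, a ≠ b → a.1 ∈ B ∧ b.1 ∈ B' ∧ Disjoint B B' := fun a b => by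
    by_cases h : a = b
    · exact ⟨⊤, ⊤, fun h' => (h' h).elim⟩
    · obtain ⟨B, B', -, -, h₁, h₂, h₃⟩ :=
        exists_affine_disjoint (hmin a a.2) (hmin b b.2) fun e => h (Subtype.ext e)
      exact ⟨B, B', fun _ => ⟨h₁, h₂, h₃⟩⟩
  choose B B' hB using this
  let W : F → U.Opens := fun a => O ⊓ Finset.univ.inf fun b => if a = b then ⊤ else B a b ⊓ B' b a
  have hW : ∀ a, a.1 ∈ W a := fun a => by
    refine ⟨hO a.2, ?_⟩
    show a.1 ∈ Finset.univ.inf fun b => if a = b then (⊤ : U.Opens) else B a b ⊓ B' b a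
    rw [← SetLike.mem_coe, TopologicalSpace.Opens.coe_finset_inf, Finset.inf_set_eq_iInter, Set.mem_iInter₂]
    intro b _
    simp only [Function.comp_apply]
    split_ifs with h
    · trivial
    · exact ⟨(hB a b h).1, (hB b a (Ne.symm h)).2.1⟩
  have : ∀ a : F, ∃ V : U.Opens, IsAffineOpen V ∧ a.1 ∈ V ∧ V ≤ W a := fun a => by
    obtain ⟨_, ⟨V, hV, rfl⟩, hηV, hVW⟩ := U.isBasis_affineOpens.exists_subset_of_mem_open (hW a) (W a).2
    exact ⟨V, hV, hηV, hVW⟩
  choose V hV hηV hVW using this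
  refine ⟨⨆ a, V a, IsAffineOpen.iSup_of_disjoint hV fun a b hab => ?_, fun η hη => ?_, iSup_le fun a => (hVW a).trans inf_le_left⟩
  · refine ((hB a b hab).2.2).mono ?_ ?_
    · refine (hVW a).trans (inf_le_right.trans ((Finset.inf_le (Finset.mem_univ b)).trans ?_))
      simp [hab]
    · refine (hVW b).trans (inf_le_right.trans ((Finset.inf_le (Finset.mem_univ a)).trans ?_))
      simp [Ne.symm hab]
  · exact TopologicalSpace.Opens.mem_iSup.2 ⟨⟨η, hη⟩, hηV ⟨η, hη⟩⟩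

end Groth.L23.Gen
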