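import Groth.Agent.L07.DimToolkit
import Groth.Agent.L20.FibreStalk
import Groth.Agent.L22.Cyc.RelDim
import Mathlib.RingTheory.Ideal.KrullsHeightTheorem
import Mathlib.RingTheory.Flat.Stability

/-!
# The local fibre dimension of a composition
-/

universe u

open CategoryTheory AlgebraicGeometry IsLocalRing

set_option autoImplicit false
set_option maxSynthPendingDepth 3
set_option backward.isDefEq.respectTransparency.types false
set_option backward.isDefEq.respectTransparency false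
set_option linter.style.haveILetI false

namespace Groth.L23.FibComp

open Groth.L07.DimToolkit Groth.L07.Equidim

theorem ringKrullDim_quotient_map_add {B A : Type u} [CommRing B] [CommRing A] [IsLocalRing B] [IsLocalRing A]
    (ψ : B →+* A) [IsLocalHom ψ] (hψ : ψ.Flat) (I : Ideal B) (hI : I ≤ maximalIdeal B)
    [IsNoetherianRing (B ⧸ I)] [IsNoetherianRing (A ⧸ I.map ψ)] :
    ringKrullDim (A ⧸ I.map ψ) = ringKrullDim (B ⧸ I) + ringKrullDim (A ⧸ (maximalIdeal B).map ψ) := by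
  have hJ : (maximalIdeal B).map ψ ≤ maximalIdeal A :=
    ((local_hom_TFAE ψ).out 0 2).mp ‹IsLocalHom ψ›
  have hIA : I.map ψ ≤ maximalIdeal A := (Ideal.map_mono hI).trans hJ
  haveI : Nontrivial (B ⧸ I) := Ideal.Quotient.nontrivial_iff.mpr fun h => (maximalIdeal.isMaximal B).ne_top (top_le_iff.mp (h ▸ hI))
  haveI : Nontrivial (A ⧸ I.map ψ) := Ideal.Quotient.nontrivial_iff.mpr fun h => (maximalIdeal.isMaximal A).ne_top (top_le_iff.mp (h ▸ hIA))
  haveI : IsLocalRing (B ⧸ I) := .of_surjective' (Ideal.Quotient.mk I) Ideal.Quotient.mk_surjective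
  haveI : IsLocalRing (A ⧸ I.map ψ) := .of_surjective' (Ideal.Quotient.mk _) Ideal.Quotient.mk_surjective
  let φ : B ⧸ I →+* A ⧸ I.map ψ := Ideal.quotientMap (I.map ψ) ψ Ideal.le_comap_map
  have hmB : maximalIdeal (B ⧸ I) = (maximalIdeal B).map (Ideal.Quotient.mk I) :=
    (IsLocalRing.map_maximalIdeal_of_surjective _ Ideal.Quotient.mk_surjective).symm
  have hmA : maximalIdeal (A ⧸ I.map ψ) = (maximalIdeal A).map (Ideal.Quotient.mk _) :=
    (IsLocalRing.map_maximalIdeal_of_surjective _ Ideal.Quotient.mk_surjective).symm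
  have hmap : (maximalIdeal (B ⧸ I)).map φ = ((maximalIdeal B).map ψ).map (Ideal.Quotient.mk (I.map ψ)) := by
    rw [hmB, Ideal.map_map, Ideal.map_map, Ideal.quotientMap_comp_mk]
  letI := φ.toAlgebra
  haveI : Module.Flat (B ⧸ I) (A ⧸ I.map ψ) := Groth.L20.flat_quotientMap_of_flat ψ I hψ
  have hle : (maximalIdeal (B ⧸ I)).map φ ≤ maximalIdeal (A ⧸ I.map ψ) := by
    rw [hmap, hmA]; exact Ideal.map_mono hJ
  haveI : (maximalIdeal (A ⧸ I.map ψ)).LiesOver (maximalIdeal (B ⧸ I)) :=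
    ⟨(maximalIdeal.isMaximal (B ⧸ I)).eq_of_le (Ideal.comap_ne_top φ (maximalIdeal.isMaximal _).ne_top)
      (Ideal.map_le_iff_le_comap.mp hle)⟩
  rw [← maximalIdeal_height_eq_ringKrullDim, ← maximalIdeal_height_eq_ringKrullDim,
    Ideal.height_eq_height_add_of_liesOver_of_hasGoingDown (maximalIdeal (B ⧸ I)) (maximalIdeal (A ⧸ I.map ψ))]
  have hle' : (maximalIdeal (B ⧸ I)).map (algebraMap (B ⧸ I) (A ⧸ I.map ψ)) ≤ maximalIdeal (A ⧸ I.map ψ) := hle
  haveI : Nontrivial ((A ⧸ I.map ψ) ⧸ (maximalIdeal (B ⧸ I)).map (algebraMap (B ⧸ I) (A ⧸ I.map ψ))) :=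
    Ideal.Quotient.nontrivial_iff.mpr fun h => (maximalIdeal.isMaximal (A ⧸ I.map ψ)).ne_top (top_le_iff.mp (h ▸ hle'))
  haveI : IsLocalRing ((A ⧸ I.map ψ) ⧸ (maximalIdeal (B ⧸ I)).map (algebraMap (B ⧸ I) (A ⧸ I.map ψ))) :=
    .of_surjective' (Ideal.Quotient.mk _) Ideal.Quotient.mk_surjective
  rw [IsLocalRing.map_maximalIdeal_of_surjective _ Ideal.Quotient.mk_surjective, WithBot.coe_add]
  refine congrArg (_ + ·) ?_
  rw [maximalIdeal_height_eq_ringKrullDim]
  exact ringKrullDim_eq_of_ringEquiv ((Ideal.quotEquivOfEq hmap).trans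
    (DoubleQuot.quotQuotEquivQuotOfLE (Ideal.map_mono (f := ψ) hI)))

variable {X Y Z : Scheme.{u}}

/-- The local ring of the fibre as a quotient of the local ring of the scheme. -/
theorem exists_equiv_fibre_stalk (f : X ⟶ Y) (x : X) :
    Nonempty ((X.presheaf.stalk x ⧸ (maximalIdeal (Y.presheaf.stalk (f x))).map (f.stalkMap x).hom) ≃+*
      (f.fiber (f x)).presheaf.stalk (f.asFiber x)) := by
  have e := f.fiberι_asFiber x
  exact ⟨(Ideal.quotEquivOfEq (Groth.L20.ker_stalkCongr_comp f (f x) (f.asFiber x) e).symm).trans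
    (RingHom.quotientKerEquivOfSurjective (Groth.L20.surjective_stalkCongr_comp f (f x) (f.asFiber x) e))⟩

theorem isNoetherianRing_quotient (f : X ⟶ Y) [LocallyOfFiniteType f] (x : X) :
    IsNoetherianRing (X.presheaf.stalk x ⧸ (maximalIdeal (Y.presheaf.stalk (f x))).map (f.stalkMap x).hom) := by
  haveI : LocallyOfFiniteType (f.fiberToSpecResidueField (f x)) :=
    MorphismProperty.pullback_snd _ _ inferInstance
  haveI : IsLocallyNoetherian (f.fiber (f x)) :=
    LocallyOfFiniteType.isLocallyNoetherian (f.fiberToSpecResidueField (f x))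
  obtain ⟨e⟩ := exists_equiv_fibre_stalk f x
  exact isNoetherianRing_of_ringEquiv _ e.symm

theorem fibre_stalk_dim_comp (f : X ⟶ Y) (g : Y ⟶ Z) [LocallyOfFiniteType f] [LocallyOfFiniteType g] (x : X)
    (hfl : (f.stalkMap x).hom.Flat) :
    ringKrullDim (((f ≫ g).fiber ((f ≫ g) x)).presheaf.stalk ((f ≫ g).asFiber x)) =
      ringKrullDim ((g.fiber (g (f x))).presheaf.stalk (g.asFiber (f x))) +
        ringKrullDim ((f.fiber (f x)).presheaf.stalk (f.asFiber x)) := by
  obtain ⟨e₁⟩ := exists_equiv_fibre_stalk (f ≫ g) x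
  obtain ⟨e₂⟩ := exists_equiv_fibre_stalk g (f x)
  obtain ⟨e₃⟩ := exists_equiv_fibre_stalk f x
  have hmap : (maximalIdeal (Z.presheaf.stalk ((f ≫ g) x))).map ((f ≫ g).stalkMap x).hom =
      ((maximalIdeal (Z.presheaf.stalk (g (f x)))).map (g.stalkMap (f x)).hom).map (f.stalkMap x).hom := by
    rw [Ideal.map_map, Scheme.Hom.stalkMap_comp]
    rfl
  haveI := isNoetherianRing_quotient g (f x)
  haveI := isNoetherianRing_quotient (f ≫ g) x
  haveI : IsNoetherianRing (X.presheaf.stalk x ⧸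
      ((maximalIdeal (Z.presheaf.stalk (g (f x)))).map (g.stalkMap (f x)).hom).map (f.stalkMap x).hom) :=
    isNoetherianRing_of_ringEquiv _ (Ideal.quotEquivOfEq hmap)
  rw [← ringKrullDim_eq_of_ringEquiv e₁, ← ringKrullDim_eq_of_ringEquiv e₂, ← ringKrullDim_eq_of_ringEquiv e₃,
    ringKrullDim_eq_of_ringEquiv (Ideal.quotEquivOfEq hmap)]
  exact ringKrullDim_quotient_map_add (f.stalkMap x).hom hfl _
    (((local_hom_TFAE (g.stalkMap (f x)).hom).out 0 2).mp (inferInstance : IsLocalHom (g.stalkMap (f x)).hom))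

theorem fibreDimAt_comp_eq (f : X ⟶ Y) (g : Y ⟶ Z) [LocallyOfFiniteType f] [LocallyOfFiniteType g] (x : X)
    (hfl : (f.stalkMap x).hom.Flat) :
    FlatMor.fibreDimAt (f ≫ g) x = FlatMor.fibreDimAt f x + FlatMor.fibreDimAt g (f x) := by
  obtain ⟨a, b, ha, hb, h₁⟩ := exists_fibreDimAt f x
  obtain ⟨c, d, hc, hd, h₂⟩ := exists_fibreDimAt g (f x)
  obtain ⟨e, m, he, hm, h₃⟩ := exists_fibreDimAt (f ≫ g) x
  obtain ⟨a', ha', hat⟩ := exists_fdim_rtrdeg f x
  obtain ⟨c', hc', hct⟩ := exists_fdim_rtrdeg g (f x)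
  obtain ⟨e', he', het⟩ := exists_fdim_rtrdeg (f ≫ g) x
  rw [Groth.L22.Cyc.rtrdeg_comp, hat, hct] at het
  have htr : c' + a' = e' := by exact_mod_cast het
  obtain rfl : a = a' := by exact_mod_cast ha.symm.trans ha'
  obtain rfl : c = c' := by exact_mod_cast hc.symm.trans hc'
  obtain rfl : e = e' := by exact_mod_cast he.symm.trans he'
  have hdim := fibre_stalk_dim_comp f g x hfl
  rw [hm, hb, hd] at hdim
  have hm' : m = d + b := by exact_mod_cast hdim
  rw [h₁, h₂, h₃]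
  exact_mod_cast (show e + m = a + b + (c + d) by omega)

theorem fibreDimAt_comp_le (f : X ⟶ Y) (g : Y ⟶ Z) [LocallyOfFiniteType f] [LocallyOfFiniteType g] (x : X) :
    FlatMor.fibreDimAt (f ≫ g) x ≤ FlatMor.fibreDimAt f x + FlatMor.fibreDimAt g (f x) := by
  obtain ⟨z, hz, -, -, heq⟩ := Groth.L07.OpenEquiv.exists_maximal_fdim_eq (f ≫ g) x
  obtain ⟨n, hn, hnt⟩ := exists_fdim_rtrdeg (f ≫ g) z
  obtain ⟨p, hp, hpt⟩ := exists_fdim_rtrdeg f z
  obtain ⟨q, hq, hqt⟩ := exists_fdim_rtrdeg g (f z)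
  rw [Groth.L22.Cyc.rtrdeg_comp, hqt, hpt] at hnt
  have hnpq : q + p = n := by exact_mod_cast hnt
  rw [← heq, hn, ← hnpq, add_comm q p, Nat.cast_add, ← hp, ← hq]
  exact add_le_add (fdim_le_fibreDimAt_of_specializes f hz)
    (fdim_le_fibreDimAt_of_specializes g (hz.map f.continuous))

end Groth.L23.FibComp
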