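import Groth.Agent.L23.EffCartierSch
import Groth.Agent.L02.Flat
import Groth.Agent.L13.BlowUp.Local
import Mathlib.AlgebraicGeometry.Morphisms.Flat

/-!
# Effective Cartier ideals flat over a base are stable under base change
-/

universe u

open CategoryTheory CategoryTheory.Limits AlgebraicGeometry TopologicalSpace TensorProduct

set_option autoImplicit false
set_option linter.style.haveILetI false
set_option backward.isDefEq.respectTransparency.types false

namespace Groth.L23.EffCart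

theorem tmul_one_mem_nonZeroDivisors {R A C R' : Type u} [CommRing R] [CommRing A] [CommRing C] [CommRing R']
    [Algebra R A] [Algebra R C] [Algebra R R'] (π : A →ₐ[R] C) (hπ : Function.Surjective π) [Module.Flat R C]
    (f : A) (hf : f ∈ nonZeroDivisors A) (hker : RingHom.ker π.toRingHom = Ideal.span {f}) :
    f ⊗ₜ[R] (1 : R') ∈ nonZeroDivisors (A ⊗[R] R') := by
  let m : A →ₗ[R] A := LinearMap.mulLeft R f
  have hinj : Function.Injective m := fun a b hab => by
    have : (a - b) * f = 0 := by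
      rw [sub_mul, sub_eq_zero, mul_comm a, mul_comm b]; exact hab
    exact sub_eq_zero.1 ((mem_nonZeroDivisors_iff_right.1 hf) _ this)
  have hex : Function.Exact m π.toLinearMap := fun a => by
    have h1 : π a = 0 ↔ a ∈ Ideal.span {f} := by rw [← hker]; rfl
    refine h1.trans (Ideal.mem_span_singleton'.trans ⟨?_, ?_⟩)
    · rintro ⟨b, rfl⟩; exact ⟨b, mul_comm _ _⟩
    · rintro ⟨b, rfl⟩; exact ⟨b, mul_comm _ _⟩
  have hu := Groth.L02.universallyInjective_of_flat_coker m π.toLinearMap hinj hex hπ R'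
  rw [mem_nonZeroDivisors_iff_left]
  intro x hx
  apply hu
  rw [map_zero, ← hx]
  induction x with
  | zero => simp
  | tmul a r => simp [m, Algebra.TensorProduct.tmul_mul_tmul]
  | add x y hx' hy' =>
    have e : ∀ z, m.rTensor R' z = (f ⊗ₜ[R] (1 : R')) * z := fun z => by
      induction z with
      | zero => simp
      | tmul a r => simp [m, Algebra.TensorProduct.tmul_mul_tmul]
      | add u v hu' hv' => rw [map_add, hu', hv', mul_add]
    exact e _

theorem isEffCartier_comap_pullback {X Y Y' P : Scheme.{u}} {fst : P ⟶ X} {snd : P ⟶ Y'} {k : X ⟶ Y} {g : Y' ⟶ Y}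
    (H : IsPullback fst snd k g) {K : X.IdealSheafData} (hK : BlowUp.IsEffCartierIdeal K)
    [Flat (K.subschemeι ≫ k)] : BlowUp.IsEffCartierIdeal (K.comap fst) := by
  intro z
  obtain ⟨U₀, hz₀, f₀, -, -, hU₀⟩ := Groth.L22.Ideals.exists_generator hK (fst z)
  obtain ⟨V, U, hUV, hzU, hUU, -⟩ := Groth.L22.Ideals.exists_affine_pair k (fst z) hz₀ (W' := (⊤ : Y.Opens)) trivial
  have hgz : snd z ∈ g ⁻¹ᵁ V.1 := by
    show g (snd z) ∈ V.1
    rw [← Scheme.Hom.comp_apply, ← H.w, Scheme.Hom.comp_apply]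
    exact hUV hzU
  obtain ⟨V', hV', hzV', hV'V⟩ := exists_isAffineOpen_mem_and_subset hgz
  obtain ⟨hf, hKU⟩ := hU₀ U hUU
  set f := X.presheaf.map (homOfLE hUU).op f₀
  let W : P.Opens := fst ⁻¹ᵁ U.1 ⊓ snd ⁻¹ᵁ V'
  have hW : IsAffineOpen W := by
    haveI : IsAffine _ := U.2
    haveI : IsAffine _ := hV'
    haveI : IsAffine _ := V.2
    exact .of_isIso (Scheme.Hom.isPullback_resLE H hV'V hUV (rfl : W = _)).isoPullback.hom
  have po := (isIso_pushoutSection_iff H hV'V hUV (rfl : W = _)).1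
    (isIso_pushoutSection_of_isAffineOpen H hV'V hUV rfl V.2 hV' U.2)
  let hWU : W ≤ fst ⁻¹ᵁ U.1 := inf_le_left
  refine ⟨⟨W, hW⟩, ⟨hzU, hzV'⟩, fst.appLE U.1 W hWU f, ?_,
    by rw [Groth.L22.Ideals.comap_ideal fst K U ⟨W, hW⟩ hWU, hKU, Ideal.map_span, Set.image_singleton]⟩
  algebraize [(k.appLE V.1 U.1 hUV).hom, (g.appLE V.1 V' hV'V).hom]
  have hsub : K.subschemeι ⁻¹ᵁ U.1 ≤ (K.subschemeι ≫ k) ⁻¹ᵁ V.1 := fun x hx => hUV hx
  have hflat : ((K.subschemeι ≫ k).appLE V.1 (K.subschemeι ⁻¹ᵁ U.1) hsub).hom.Flat :=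
    HasRingHomProperty.appLE @Flat _ ‹_› V ⟨_, U.2.preimage K.subschemeι⟩ hsub
  letI := ((K.subschemeι ≫ k).appLE V.1 (K.subschemeι ⁻¹ᵁ U.1) hsub).hom.toAlgebra
  haveI : Module.Flat Γ(Y, V.1) Γ(K.subscheme, K.subschemeι ⁻¹ᵁ U.1) := hflat
  let π : Γ(X, U.1) →ₐ[Γ(Y, V.1)] Γ(K.subscheme, K.subschemeι ⁻¹ᵁ U.1) :=
    { (K.subschemeι.app U.1).hom with
      commutes' := fun r => by
        show (k.appLE V.1 U.1 hUV ≫ K.subschemeι.app U.1) r = (K.subschemeι ≫ k).appLE V.1 _ hsub r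
        rw [Scheme.Hom.app_eq_appLE, Scheme.Hom.appLE_comp_appLE] }
  have hker : RingHom.ker π.toRingHom = Ideal.span {f} := by
    show RingHom.ker (K.subschemeι.app U.1).hom = _
    rw [K.ker_subschemeι_app U, hKU]
  have h1 := tmul_one_mem_nonZeroDivisors (R' := Γ(Y', V')) π (K.subschemeι_app_surjective U) f hf hker
  let e := (CommRingCat.isPushout_tensorProduct Γ(Y, V.1) Γ(X, U.1) Γ(Y', V')).isoIsPushout _ _ po
  have he : e.hom.hom (f ⊗ₜ[Γ(Y, V.1)] (1 : Γ(Y', V'))) = fst.appLE U.1 W hWU f :=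
    congrArg (fun φ : Γ(X, U.1) ⟶ Γ(P, W) => φ.hom f)
      ((CommRingCat.isPushout_tensorProduct Γ(Y, V.1) Γ(X, U.1) Γ(Y', V')).inl_isoIsPushout_hom _ _ po)
  rw [← he, mem_nonZeroDivisors_iff_right]
  intro x hx
  let er := e.commRingCatIsoToRingEquiv
  refine er.symm.map_eq_zero_iff.1 ((mem_nonZeroDivisors_iff_right.1 h1) _ (er.map_eq_zero_iff.1 ?_))
  rw [map_mul, RingEquiv.apply_symm_apply]
  exact hx

end Groth.L23.EffCart
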