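import Groth.Agent.L23.Decent2
import Groth.Agent.L23.Compact
import Groth.Agent.L23.LocalDimEtale
import Groth.Agent.L23.LocP
import Groth.Agent.S0116
import Mathlib.AlgebraicGeometry.Noetherian
import Mathlib.RingTheory.Ideal.KrullsHeightTheorem

/-!
# Specializations and decent spaces
-/

universe u

open CategoryTheory CategoryTheory.Limits AlgebraicGeometry Opposite AlgSp Topology

set_option backward.isDefEq.respectTransparency.types false
set_option linter.style.haveILetI false

namespace Groth.L23.Pt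

variable {S : Scheme.{u}} {X : Sp S}

/-- A strict generization with the same image has again one. -/
theorem exists_next_gen (hX : IsAlgSpace X) {U : Over S} {a : (yon S).obj U ⟶ X} (ha : RepWith @Etale a)
    {v v' : U.left} (e : Points.ofPt a v' = Points.ofPt a v) (h : v' ⤳ v) (hne : v' ≠ v) :
    ∃ v'' : U.left, Points.ofPt a v'' = Points.ofPt a v' ∧ v'' ⤳ v' ∧ v'' ≠ v' := by
  obtain ⟨R, s, t, sq⟩ := exists_isPullback_of_representable (hX.representable_from_yon a) a
  obtain ⟨r, hr, hr'⟩ := (ofPt_eq_ofPt_iff sq v v').1 e.symm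
  have : Etale t.left := repWith_prop ha sq
  have : Etale s.left := repWith_prop ha sq.flip
  obtain ⟨r', hr's, hr''⟩ := Flat.generalizingMap s.left (show v' ⤳ s.left r by rw [hr]; exact h)
  refine ⟨t.left r', ((ofPt_eq_ofPt_iff sq v' _).2 ⟨r', hr'', rfl⟩).symm, hr' ▸ hr's.map t.left.continuous, ?_⟩
  intro hh
  have := lqf_of_etale t.left
  have := eq_of_specializes_of_lqf t.left hr's (hh.trans hr'.symm)
  rw [this, hr] at hr''
  exact hne hr''.symm

theorem eq_of_specializes_of_finite (hX : IsAlgSpace X) {U : Over S} {a : (yon S).obj U ⟶ X}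
    (ha : RepWith @Etale a) {x : Points X} (hfin : (Points.ofPt a ⁻¹' {x}).Finite) (v v' : U.left)
    (hv : Points.ofPt a v = x) (hv' : Points.ofPt a v' = x) (h : v' ⤳ v) : v = v' := by
  by_contra hne
  suffices ∀ (n : ℕ) (w w' : U.left), Points.ofPt a w = x → Points.ofPt a w' = x → w' ⤳ w → w' ≠ w →
      {z ∈ Points.ofPt a ⁻¹' {x} | z ⤳ w}.ncard ≤ n → False from
    this _ v v' hv hv' h (Ne.symm hne) le_rfl
  intro n
  induction n with
  | zero =>
    intro w w' hw _ _ _ hc
    have : w ∈ {z ∈ Points.ofPt a ⁻¹' {x} | z ⤳ w} := ⟨hw, specializes_rfl⟩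
    exact absurd hc (not_le.2 ((Set.ncard_pos (hfin.subset fun z hz => hz.1)).2 ⟨w, this⟩))
  | succ n ih =>
    intro w w' hw hw' hs hne hc
    obtain ⟨w'', e, hs', hne'⟩ := exists_next_gen hX ha (hw'.trans hw.symm) hs hne
    refine ih w' w'' hw' (e.trans hw') hs' hne' (Nat.lt_succ_iff.1 (lt_of_lt_of_le ?_ hc))
    refine Set.ncard_lt_ncard ⟨fun z hz => ⟨hz.1, hz.2.trans hs⟩, fun hsub => ?_⟩ (hfin.subset fun z hz => hz.1)
    exact hne (hs.antisymm (hsub ⟨hw, specializes_rfl⟩).2).eq

theorem eq_of_specializes_of_finite_fibres (hX : IsAlgSpace X) {x : Points X}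
    (hx : ∀ (V : Over S) (b : (yon S).obj V ⟶ X), IsAffine V.left → RepWith @Etale b →
      (Points.ofPt b ⁻¹' {x}).Finite)
    {U : Over S} {a : (yon S).obj U ⟶ X} (ha : RepWith @Etale a) (v v' : U.left)
    (hv : Points.ofPt a v = x) (hv' : Points.ofPt a v' = x) (h : v' ⤳ v) : v = v' := by
  obtain ⟨_, ⟨B, hB, rfl⟩, hvB, -⟩ :=
    U.left.isBasis_affineOpens.exists_subset_of_mem_open (Set.mem_univ v) isOpen_univ
  change U.left.Opens at B
  have hv'B : v' ∈ B := h.mem_open B.isOpen hvB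
  have hb := repWith_comp (repWith_etale_openMk B) ha
  have hs : (⟨v', hv'B⟩ : (B : Scheme.{u})) ⤳ ⟨v, hvB⟩ := (subtype_specializes_iff _ _).2 h
  exact congrArg Subtype.val (eq_of_specializes_of_finite hX hb (hx _ _ hB hb) ⟨v, hvB⟩ ⟨v', hv'B⟩
    ((ofPt_openMk B a ⟨v, hvB⟩).trans hv) ((ofPt_openMk B a ⟨v', hv'B⟩).trans hv') hs)

theorem eq_of_specializes_of_isDecent (hX : IsAlgSpace X) (hd : IsDecent X)
    {U : Over S} {a : (yon S).obj U ⟶ X} (ha : RepWith @Etale a) (v v' : U.left)
    (e : Points.ofPt a v = Points.ofPt a v') (h : v' ⤳ v) : v = v' := by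
  obtain ⟨p, hp, hm, hq⟩ := hd (Points.ofPt a v)
  exact eq_of_specializes_of_finite_fibres hX
    (fun V b hV hb => hp ▸ (qc_iff_finite_fibres hX p).1 hq V b hV hb) ha v v' rfl e.symm h

/-- Generizations lift to etale charts at good points. -/
theorem exists_gen_lift (hX : IsAlgSpace X) {x x' : Points X} (h : x' ⤳ x) (hx' : GoodPt x')
    {U : Over S} {a : (yon S).obj U ⟶ X} (ha : RepWith @Etale a) (v : U.left) (hv : Points.ofPt a v = x) :
    ∃ v' : U.left, v' ⤳ v ∧ Points.ofPt a v' = x' := by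
  obtain ⟨p, hp, hm, hq⟩ := hx'
  obtain ⟨_, ⟨B, hB, rfl⟩, hvB, -⟩ :=
    U.left.isBasis_affineOpens.exists_subset_of_mem_open (Set.mem_univ v) isOpen_univ
  change U.left.Opens at B
  have hb := repWith_comp (repWith_etale_openMk B) ha
  have hF := (qc_iff_finite_fibres hX p).1 hq (Over.mk (B.ι ≫ U.hom)) _ hB hb
  rw [hp] at hF
  let b := (yon S).map (Over.homMk B.ι rfl : Over.mk (B.ι ≫ U.hom) ⟶ U) ≫ a
  have hmem : (⟨v, hvB⟩ : (B : Scheme.{u})) ∈ closure (Points.ofPt b ⁻¹' {x'}) := by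
    rw [← (isOpenMap_ofPt hb).preimage_closure_eq_closure_preimage (Points.continuous_ofPt b)]
    show Points.ofPt b (⟨v, hvB⟩ : (B : Scheme.{u})) ∈ closure {x'}
    rw [ofPt_openMk B a ⟨v, hvB⟩, hv]
    exact h.mem_closure
  rw [← Set.biUnion_of_singleton (Points.ofPt b ⁻¹' {x'}), hF.closure_biUnion] at hmem
  obtain ⟨w, hw, hwv⟩ := Set.mem_iUnion₂.1 hmem
  exact ⟨w.1, (specializes_iff_mem_closure.2 hwv).map B.ι.continuous, (ofPt_openMk B a w).symm.trans hw⟩

theorem t0Space_of_isDecent (hX : IsAlgSpace X) (hd : IsDecent X) : T0Space (Points X) := by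
  refine ⟨fun x x' h => ?_⟩
  obtain ⟨U, a, he, hes⟩ := hX.atlas
  obtain ⟨v, hv⟩ := surjective_ofPt hes x
  obtain ⟨v', hs, hv'⟩ := exists_gen_lift hX h.specializes' (hd x') he v hv
  obtain ⟨v'', hs', hv''⟩ := exists_gen_lift hX h.specializes (hd x) he v' hv'
  have e := eq_of_specializes_of_isDecent hX hd he v v'' (hv.trans hv''.symm) (hs'.trans hs)
  subst e
  rw [← hv, ← hv', (hs'.antisymm hs).eq]

theorem isLocallyNoetherian_of_chart (hX : IsAlgSpace X) (hN : IsLocNoethSp X) {U : Over S}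
    {a : (yon S).obj U ⟶ X} (ha : RepWith @Etale a) : IsLocallyNoetherian U.left := by
  obtain ⟨V, b, hb, hbs, hV⟩ := hN
  obtain ⟨R, s, t, sq⟩ := exists_isPullback_of_representable (hX.representable_from_yon a) b
  have : Etale s.left := repWith_prop hb sq.flip
  have : Etale t.left := repWith_prop ha sq
  have : Surjective s.left := repWith_prop hbs sq.flip
  have : IsLocallyNoetherian V.left := hV
  have : IsLocallyNoetherian R.left := LocallyOfFiniteType.isLocallyNoetherian t.left
  exact Groth.Agent.S0116.result s.left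

theorem eq_of_specializes_of_isLocNoethSp (hX : IsAlgSpace X) (hN : IsLocNoethSp X) {U : Over S}
    {a : (yon S).obj U ⟶ X} (ha : RepWith @Etale a) (v v' : U.left)
    (e : Points.ofPt a v = Points.ofPt a v') (h : v' ⤳ v) : v = v' := by
  have := isLocallyNoetherian_of_chart hX hN ha
  have hlt : ∀ w : U.left, Order.coheight w < ⊤ := fun w => by
    have : ringKrullDim (U.left.presheaf.stalk w) ≠ ⊤ := ringKrullDim_ne_top
    rw [ringKrullDim_stalk_eq_coheight] at this
    exact lt_top_iff_ne_top.2 fun ht => this (by rw [ht]; rfl)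
  by_contra hne
  suffices ∀ (n : ℕ∞) (w w' : U.left), Order.coheight w = n → Points.ofPt a w' = Points.ofPt a w → w' ⤳ w →
      w' ≠ w → False from this _ v v' rfl e.symm h (Ne.symm hne)
  intro n
  induction n using WellFoundedLT.induction with
  | ind n ih =>
    intro w w' hn e hs hne
    obtain ⟨w'', e', hs', hne'⟩ := exists_next_gen hX ha e hs hne
    have hlt' : w < w' := lt_iff_le_not_ge.2
      ⟨Scheme.le_iff_specializes.2 hs, fun hle => hne (hs.antisymm (Scheme.le_iff_specializes.1 hle)).eq⟩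
    exact ih _ (hn ▸ Order.coheight_strictAnti hlt' (hlt w')) w' w'' rfl e' hs' hne'

/-- Generizations lift along flat morphisms at good points. -/
theorem exists_gen_lift_of_flat {Y : Sp S} (hX : IsAlgSpace X) (hY : IsAlgSpace Y) {f : Y ⟶ X}
    (hf : LocP @Flat f) {x x' : Points X} (h : x' ⤳ x) (hx' : GoodPt x') (y : Points Y)
    (hy : Points.map f y = x) : ∃ y' : Points Y, y' ⤳ y ∧ Points.map f y' = x' := by
  obtain ⟨V, U, b, a, g, hb, hbs, ha, -, w⟩ := exists_chart hY hX f
  obtain ⟨v, rfl⟩ := surjective_ofPt hbs y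
  have he : ∀ z, Points.map f (Points.ofPt b z) = Points.ofPt a (g.left z) := fun z => by
    rw [Points.map_ofPt, w, ofPt_comp]
  obtain ⟨u', hu's, hu'⟩ := exists_gen_lift hX h hx' ha (g.left v) ((he v).symm.trans hy)
  have : Flat g.left := hf b a g hb ha w
  obtain ⟨v', hv', hv''⟩ := Flat.generalizingMap g.left hu's
  exact ⟨Points.ofPt b v', hv'.map (Points.continuous_ofPt b), by rw [he, hv'', hu']⟩

end Groth.L23.Pt
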