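import Groth.Agent.L23.BranchTensor
import Groth.Prelude.Def_Brnch

/-!
# Branches are the minimal primes of the (strict) henselization
-/

universe u

open IsLocalRing TensorProduct

set_option linter.style.haveILetI false
set_option backward.isDefEq.respectTransparency.types false

namespace Groth.L23.Branch

theorem encard_minimalPrimes_le_of_flat (R T : Type u) [CommRing R] [IsLocalRing R] [CommRing T]
    [IsLocalRing T] [Algebra R T] [IsLocalHom (algebraMap R T)] [Module.Flat R T] :
    (minimalPrimes R).encard ≤ (minimalPrimes T).encard := by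
  haveI : Module.FaithfullyFlat R T := Module.FaithfullyFlat.of_flat_of_isLocalHom
  refine le_trans (Set.encard_le_encard fun p hp => ?_)
    (Set.encard_image_le (Ideal.comap (algebraMap R T)) (minimalPrimes T))
  haveI := hp.isPrime
  obtain ⟨P, hP, hPp⟩ : ∃ P : Ideal T, P.IsPrime ∧ P.comap (algebraMap R T) = p := by
    obtain ⟨P, hP⟩ := PrimeSpectrum.comap_surjective_of_faithfullyFlat (A := R) (B := T) ⟨p, inferInstance⟩
    exact ⟨P.asIdeal, P.isPrime, congrArg PrimeSpectrum.asIdeal hP⟩
  obtain ⟨Q, hQ, hle⟩ := Ideal.exists_minimalPrimes_le (I := (⊥ : Ideal T)) (J := P) bot_le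
  haveI := hQ.isPrime
  exact ⟨Q, hQ, le_antisymm ((Ideal.comap_mono hle).trans hPp.le)
    (hp.2 ⟨Ideal.IsPrime.comap _, bot_le⟩ ((Ideal.comap_mono hle).trans hPp.le))⟩

variable (A S : Type u) [CommRing A] [IsLocalRing A] [CommRing S] [IsLocalRing S] [Algebra A S]
  [IsLocalHom (algebraMap A S)]

theorem isIntegral_right (M : Type u) [CommRing M] [Algebra A M] [Algebra.IsIntegral A M] :
    letI : Algebra S (M ⊗[A] S) := Algebra.TensorProduct.rightAlgebra
    Algebra.IsIntegral S (M ⊗[A] S) := by
  letI : Algebra S (M ⊗[A] S) := Algebra.TensorProduct.rightAlgebra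
  refine ⟨fun z => ?_⟩
  have h := Algebra.IsIntegral.isIntegral (R := S) ((Algebra.TensorProduct.comm A M S) z)
  let e : S ⊗[A] M →ₐ[S] M ⊗[A] S :=
    { (Algebra.TensorProduct.comm A S M).toRingEquiv.toRingHom with
      commutes' := fun s => by
        show Algebra.TensorProduct.comm A S M (s ⊗ₜ[A] 1) = _
        rfl }
  have h' := h.map e
  rwa [show e (Algebra.TensorProduct.comm A M S z) = z from
    (Algebra.TensorProduct.comm A M S).symm_apply_apply z] at h'

variable [Module.Flat A S]

/-- With trivial residue field extension the maximal ideals of the tensor product are those of `M`. -/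
theorem card_maximal_of_surjective (M : Type u) [CommRing M] [Algebra A M] [Algebra.IsIntegral A M]
    (hres : ∀ s : S, ∃ a : A, s - algebraMap A S a ∈ maximalIdeal S) :
    ENat.card (MaximalSpectrum (M ⊗[A] S)) = ENat.card (MaximalSpectrum M) := by
  let iN : M →+* M ⊗[A] S := Algebra.TensorProduct.includeLeftRingHom
  have hcm : ∀ Q : MaximalSpectrum (M ⊗[A] S), (Q.asIdeal.comap iN).IsMaximal := fun Q =>
    haveI := Q.isMaximal
    (Groth.L05.Henselization.Branches.comap_maximal A S M Q.asIdeal).2
  have hval : ∀ z : M ⊗[A] S, ∃ r : M, ∀ Q : Ideal (M ⊗[A] S), Q.IsMaximal → z - iN r ∈ Q := by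
    intro z
    induction z using TensorProduct.induction_on with
    | zero => exact ⟨0, fun Q _ => by simp⟩
    | tmul a s =>
      obtain ⟨b, hb⟩ := hres s
      refine ⟨b • a, fun Q hQ => ?_⟩
      haveI := hQ
      have h1 : (1 : M) ⊗ₜ[A] (s - algebraMap A S b) ∈ Q :=
        (Groth.L05.Henselization.Branches.comap_maximal A S M Q).1.ge hb
      have h2 : a ⊗ₜ[A] s - iN (b • a) =
          (a ⊗ₜ[A] (1 : S)) * ((1 : M) ⊗ₜ[A] (s - algebraMap A S b)) := by
        show _ - (b • a) ⊗ₜ[A] (1 : S) = _
        rw [Algebra.TensorProduct.tmul_mul_tmul, mul_one, one_mul, tmul_sub, Algebra.algebraMap_eq_smul_one,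
          smul_tmul]
      exact h2 ▸ Q.mul_mem_left _ h1
    | add x y hx hy =>
      obtain ⟨r, hr⟩ := hx
      obtain ⟨t, ht⟩ := hy
      exact ⟨r + t, fun Q hQ => by rw [map_add, add_sub_add_comm]; exact Q.add_mem (hr Q hQ) (ht Q hQ)⟩
  have key : ∀ Q Q' : MaximalSpectrum (M ⊗[A] S),
      Q.asIdeal.comap iN = Q'.asIdeal.comap iN → Q.asIdeal ≤ Q'.asIdeal := by
    intro Q Q' h z hz
    obtain ⟨r, hr⟩ := hval z
    have hrQ : iN r ∈ Q.asIdeal := by simpa using Q.asIdeal.sub_mem hz (hr _ Q.isMaximal)
    have hrQ' : iN r ∈ Q'.asIdeal := h.le hrQ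
    simpa using Q'.asIdeal.add_mem (hr _ Q'.isMaximal) hrQ'
  refine ENat.card_congr (Equiv.ofBijective (fun Q => (⟨_, hcm Q⟩ : MaximalSpectrum M))
    ⟨fun Q Q' h => MaximalSpectrum.ext (le_antisymm (key Q Q' (congrArg MaximalSpectrum.asIdeal h))
      (key Q' Q (congrArg MaximalSpectrum.asIdeal h.symm))), fun m => ?_⟩)
  haveI := m.isMaximal
  obtain ⟨P, hP, hPm⟩ := Groth.L05.Henselization.Branches.exists_maximal_over A S M m.asIdeal
  exact ⟨⟨P, hP⟩, MaximalSpectrum.ext hPm⟩

omit [Module.Flat A S] in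
/-- With separably closed residue field the maximal ideals of the tensor product are the geometric
points of `M` over the closed point. -/
theorem card_maximal_eq_card_algHom (M : Type u) [CommRing M] [Algebra A M] [Algebra.IsIntegral A M]
    [IsSepClosed (ResidueField S)] (Ω : Type u) [Field Ω] [IsAlgClosed Ω] [Algebra A Ω]
    (τ : ResidueField S →+* Ω) (hτ : ∀ a, τ (residue S (algebraMap A S a)) = algebraMap A Ω a) :
    ENat.card (M →ₐ[A] Ω) = ENat.card (MaximalSpectrum (M ⊗[A] S)) := by
  letI : Algebra S (M ⊗[A] S) := Algebra.TensorProduct.rightAlgebra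
  haveI : Algebra.IsIntegral S (M ⊗[A] S) := isIntegral_right A S M
  let g : S →ₐ[A] Ω := { τ.comp (residue S) with commutes' := hτ }
  let Φ : (M →ₐ[A] Ω) → (M ⊗[A] S →ₐ[A] Ω) := fun f =>
    Algebra.TensorProduct.lift f g fun _ _ => Commute.all _ _
  have hΦS : ∀ f s, Φ f (1 ⊗ₜ s) = τ (residue S s) := fun f s => by
    refine (Algebra.TensorProduct.lift_tmul _ _ _ 1 s).trans ?_
    rw [map_one, one_mul]
    rfl
  have hΦM : ∀ f n, Φ f (n ⊗ₜ 1) = f n := fun f n => by
    refine (Algebra.TensorProduct.lift_tmul _ _ _ n 1).trans ?_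
    rw [map_one, mul_one]
  have hcomap : ∀ f, (RingHom.ker (Φ f).toRingHom).comap (algebraMap S (M ⊗[A] S)) = maximalIdeal S := by
    intro f
    ext s
    show Φ f ((1 : M) ⊗ₜ[A] s) = 0 ↔ _
    rw [hΦS, map_eq_zero τ, residue_eq_zero_iff]
  have hmax : ∀ f, (RingHom.ker (Φ f).toRingHom).IsMaximal := fun f => by
    haveI : (RingHom.ker (Φ f).toRingHom).IsPrime := RingHom.ker_isPrime _
    refine Ideal.isMaximal_of_isIntegral_of_isMaximal_comap (R := S) _ ?_
    rw [hcomap f]
    infer_instance
  refine ENat.card_congr (Equiv.ofBijective (fun f => (⟨_, hmax f⟩ : MaximalSpectrum (M ⊗[A] S))) ?_)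
  have main : ∀ P : MaximalSpectrum (M ⊗[A] S),
      (∀ f f', RingHom.ker (Φ f).toRingHom = P.asIdeal → RingHom.ker (Φ f').toRingHom = P.asIdeal → f = f') ∧
        ∃ f, RingHom.ker (Φ f).toRingHom = P.asIdeal := by
    intro P
    haveI := P.isMaximal
    letI := Ideal.Quotient.field P.asIdeal
    let mk := Ideal.Quotient.mk P.asIdeal
    have hS : P.asIdeal.comap (algebraMap S (M ⊗[A] S)) = maximalIdeal S :=
      eq_maximalIdeal (Ideal.isMaximal_comap_of_isIntegral_of_isMaximal P.asIdeal)
    let j : ResidueField S →+* (M ⊗[A] S) ⧸ P.asIdeal :=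
      Ideal.Quotient.lift (maximalIdeal S) (mk.comp (algebraMap S (M ⊗[A] S)))
        fun s hs => Ideal.Quotient.eq_zero_iff_mem.2 (hS.ge hs)
    letI : Algebra (ResidueField S) ((M ⊗[A] S) ⧸ P.asIdeal) := j.toAlgebra
    haveI : IsScalarTower S (ResidueField S) ((M ⊗[A] S) ⧸ P.asIdeal) :=
      IsScalarTower.of_algebraMap_eq fun s => rfl
    haveI : Algebra.IsIntegral S ((M ⊗[A] S) ⧸ P.asIdeal) := ⟨fun z => by
      obtain ⟨a, rfl⟩ := Ideal.Quotient.mk_surjective z
      exact (Algebra.IsIntegral.isIntegral (R := S) a).map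
        (IsScalarTower.toAlgHom S (M ⊗[A] S) ((M ⊗[A] S) ⧸ P.asIdeal))⟩
    haveI : Algebra.IsIntegral (ResidueField S) ((M ⊗[A] S) ⧸ P.asIdeal) := Algebra.IsIntegral.tower_top (R := S)
    haveI : Algebra.IsAlgebraic (ResidueField S) ((M ⊗[A] S) ⧸ P.asIdeal) := inferInstance
    haveI := Groth.L05.isPurelyInseparable_of_isSepClosed_base (ResidueField S) ((M ⊗[A] S) ⧸ P.asIdeal)
    letI : Algebra (ResidueField S) Ω := τ.toAlgebra
    refine ⟨fun f f' h h' => ?_, ?_⟩
    · have mkHom : ∀ f, RingHom.ker (Φ f).toRingHom = P.asIdeal →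
          ∃ ρ : (M ⊗[A] S) ⧸ P.asIdeal →ₐ[ResidueField S] Ω, ∀ z, ρ (mk z) = Φ f z := fun f hf =>
        ⟨{ Ideal.Quotient.lift P.asIdeal (Φ f).toRingHom fun a ha => hf.ge ha with
            commutes' := fun x => by
              obtain ⟨s, rfl⟩ := residue_surjective x
              exact hΦS f s }, fun z => rfl⟩
      obtain ⟨ρ, hρ⟩ := mkHom f h
      obtain ⟨ρ', hρ'⟩ := mkHom f' h'
      refine AlgHom.ext fun n => ?_
      rw [← hΦM f, ← hΦM f', ← hρ, ← hρ', Subsingleton.elim ρ ρ']
    · let ψ : (M ⊗[A] S) ⧸ P.asIdeal →ₐ[ResidueField S] Ω := IsAlgClosed.lift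
      have hA : ∀ a, ψ (mk (algebraMap A (M ⊗[A] S) a)) = algebraMap A Ω a := fun a => by
        rw [← hτ, show algebraMap A (M ⊗[A] S) a = algebraMap S (M ⊗[A] S) (algebraMap A S a) from
          ((Algebra.TensorProduct.includeRight : S →ₐ[A] M ⊗[A] S).commutes a).symm]
        exact ψ.commutes (residue S (algebraMap A S a))
      let F : M ⊗[A] S →ₐ[A] Ω := { ψ.toRingHom.comp mk with commutes' := hA }
      refine ⟨F.comp Algebra.TensorProduct.includeLeft, ?_⟩
      have hF : ∀ z, Φ (F.comp Algebra.TensorProduct.includeLeft) z = F z := fun z => by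
        induction z using TensorProduct.induction_on with
        | zero => simp
        | add x y hx hy => rw [map_add, map_add, hx, hy]
        | tmul n s =>
          rw [show n ⊗ₜ[A] s = (n ⊗ₜ[A] (1 : S)) * (1 ⊗ₜ[A] s) by
            rw [Algebra.TensorProduct.tmul_mul_tmul, mul_one, one_mul], map_mul, map_mul, hΦM, hΦS]
          exact congrArg (F (n ⊗ₜ 1) * ·) (ψ.commutes (residue S s)).symm
      ext z
      show Φ _ z = 0 ↔ _
      rw [hF]
      show ψ (mk z) = 0 ↔ _
      rw [map_eq_zero_iff ψ ψ.toRingHom.injective]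
      exact Ideal.Quotient.eq_zero_iff_mem
  refine ⟨fun f f' h => (main ⟨_, hmax f⟩).1 f f' rfl (congrArg MaximalSpectrum.asIdeal h).symm, fun P => ?_⟩
  obtain ⟨f, hf⟩ := (main P).2
  exact ⟨f, MaximalSpectrum.ext hf⟩

omit [IsLocalRing S] [IsLocalHom (algebraMap A S)] [Module.Flat A S] in
/-- The points of the normalisation counted by the definition of geometric branches. -/
theorem card_sigma_emb : letI : Algebra A (AlgebraicClosure (ResidueField A)) := (Brnch.toClosure A).toAlgebra
    ENat.card (Σ m' : MaximalSpectrum (CAlg2.normRed A), Brnch.Emb A m') =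
      ENat.card (CAlg2.normRed A →ₐ[A] AlgebraicClosure (ResidueField A)) := by
  letI : Algebra A (AlgebraicClosure (ResidueField A)) := (Brnch.toClosure A).toAlgebra
  haveI : Algebra.IsIntegral A (CAlg2.normRed A) := Groth.L05.Henselization.Branches.isIntegral_normRed
  let F : (Σ m' : MaximalSpectrum (CAlg2.normRed A), Brnch.Emb A m') →
      (CAlg2.normRed A →ₐ[A] AlgebraicClosure (ResidueField A)) := fun x =>
    { x.2.1.comp (Ideal.Quotient.mk x.1.asIdeal) with
      commutes' := fun a => DFunLike.congr_fun x.2.2 a }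
  have hker : ∀ x, RingHom.ker (F x).toRingHom = x.1.asIdeal := fun x => by
    haveI := x.1.isMaximal
    letI := Ideal.Quotient.field x.1.asIdeal
    ext n
    show x.2.1 (Ideal.Quotient.mk _ n) = 0 ↔ _
    rw [map_eq_zero_iff x.2.1 (RingHom.injective x.2.1)]
    exact Ideal.Quotient.eq_zero_iff_mem
  refine ENat.card_congr (Equiv.ofBijective F ⟨fun x y h => ?_, fun f => ?_⟩)
  · have hm : x.1 = y.1 := MaximalSpectrum.ext ((hker x).symm.trans (h ▸ hker y))
    obtain ⟨m, σ⟩ := x
    obtain ⟨m', σ'⟩ := y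
    obtain rfl : m = m' := hm
    have : σ = σ' := Subtype.ext (Ideal.Quotient.ringHom_ext (RingHom.ext fun n => DFunLike.congr_fun h n))
    rw [this]
  · haveI : (RingHom.ker f.toRingHom).IsPrime := RingHom.ker_isPrime _
    have hm : (RingHom.ker f.toRingHom).IsMaximal := by
      refine Ideal.isMaximal_of_isIntegral_of_isMaximal_comap (R := A) _ ?_
      have : (RingHom.ker f.toRingHom).comap (algebraMap A (CAlg2.normRed A)) = maximalIdeal A := by
        ext a
        show f (algebraMap A _ a) = 0 ↔ _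
        rw [f.commutes]
        show Brnch.toClosure A a = 0 ↔ _
        rw [Brnch.toClosure, RingHom.comp_apply, map_eq_zero, residue_eq_zero_iff]
      rw [this]
      infer_instance
    exact ⟨⟨⟨_, hm⟩, Ideal.Quotient.lift _ f.toRingHom fun a ha => ha, RingHom.ext fun a => f.commutes a⟩,
      AlgHom.ext fun n => rfl⟩

omit [IsLocalRing S] [IsLocalHom (algebraMap A S)] [Module.Flat A S] in
theorem exists_residueHom [IsLocalRing S] [IsLocalHom (algebraMap A S)]
    [Algebra.IsAlgebraic (ResidueField A) (ResidueField S)] :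
    ∃ τ : ResidueField S →+* AlgebraicClosure (ResidueField A),
      ∀ a, τ (residue S (algebraMap A S a)) = Brnch.toClosure A a := by
  let τ : ResidueField S →ₐ[ResidueField A] AlgebraicClosure (ResidueField A) := IsAlgClosed.lift
  exact ⟨τ.toRingHom, fun a => τ.commutes (residue A a)⟩

/-- Branches are the minimal primes of a henselization. -/
theorem card_minimalPrimes_hens [hS : Hensel.IsHenselization A S] :
    ENat.card (minimalPrimes S) = Brnch.numBranches A := by
  classical
  haveI := Groth.L05.Henselization.Branches.weaklyEtale_hens (R := A) (S := S)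
  haveI : HenselianLocalRing S := hS.henselian
  haveI : Algebra.IsIntegral A (CAlg2.normRed A) := Groth.L05.Henselization.Branches.isIntegral_normRed
  show (minimalPrimes S).encard = _
  unfold Brnch.numBranches
  split_ifs with hfin
  · rw [encard_minimalPrimes_eq_card_maximal A S hfin]
    exact card_maximal_of_surjective A S (CAlg2.normRed A)
      Groth.L05.Henselization.Branches.residue_surjective_hens
  · exact top_le_iff.1 ((Set.Infinite.encard_eq hfin).ge.trans (encard_minimalPrimes_le_of_flat A S))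

/-- Geometric branches are the minimal primes of a strict henselization. -/
theorem card_minimalPrimes_strict [hS : Hensel.IsStrictHenselization A S] :
    ENat.card (minimalPrimes S) = Brnch.numGeomBranches A := by
  classical
  haveI : Algebra.WeaklyEtale A S := Groth.L27.IndEtale.weaklyEtale A S
    (Groth.L05.Henselization.isIndEtale_of_isStrictHenselization A S)
  haveI : HenselianLocalRing S := hS.henselian
  haveI : Algebra.IsIntegral A (CAlg2.normRed A) := Groth.L05.Henselization.Branches.isIntegral_normRed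
  haveI : Algebra.IsSeparable (ResidueField A) (ResidueField S) := hS.isSepClosure.separable
  haveI : IsSepClosed (ResidueField S) := hS.isSepClosure.sep_closed
  show (minimalPrimes S).encard = _
  unfold Brnch.numGeomBranches
  split_ifs with hfin
  · obtain ⟨τ, hτ⟩ := exists_residueHom A S
    rw [encard_minimalPrimes_eq_card_maximal A S hfin, card_sigma_emb A]
    letI : Algebra A (AlgebraicClosure (ResidueField A)) := (Brnch.toClosure A).toAlgebra
    exact (card_maximal_eq_card_algHom A S (CAlg2.normRed A) _ τ hτ).symm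
  · exact top_le_iff.1 ((Set.Infinite.encard_eq hfin).ge.trans (encard_minimalPrimes_le_of_flat A S))

end Groth.L23.Branch
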