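import Groth.Agent.L23.StalkHensel
import Groth.Prelude.Def_EtBase
import Mathlib.FieldTheory.IsAlgClosed.AlgebraicClosure

/-!
# Transfer of properties to the étale local rings
-/

universe u v w

open CategoryTheory AlgebraicGeometry Opposite AlgSp

set_option linter.style.haveILetI false

namespace Groth.L23.SH

theorem henselian_ringEquiv {R : Type v} {S : Type w} [CommRing R] [CommRing S] [HenselianLocalRing R]
    (e : R ≃+* S) : HenselianLocalRing S := by
  haveI := e.isLocalRing
  refine { is_henselian := fun f hf a₀ h1 h2 => ?_ }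
  have hmax : ∀ x : R, x ∈ IsLocalRing.maximalIdeal R ↔ e x ∈ IsLocalRing.maximalIdeal S := fun x => by
    simp only [IsLocalRing.mem_maximalIdeal, mem_nonunits_iff, isUnit_map_iff e]
  have hev : ∀ (p : Polynomial S) (x : R), e (Polynomial.eval x (p.map e.symm.toRingHom)) =
      Polynomial.eval (e x) p := fun p x => by
    have h := Polynomial.eval_map_apply e.symm.toRingHom (p := p) (e x)
    simp only [RingEquiv.toRingHom_eq_coe, RingHom.coe_coe, RingEquiv.symm_apply_apply] at h ⊢
    rw [h, e.apply_symm_apply]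
  obtain ⟨a, ha, ha'⟩ := HenselianLocalRing.is_henselian (f.map e.symm.toRingHom) (hf.map _) (e.symm a₀)
    (by rw [hmax, hev, e.apply_symm_apply]; exact h1)
    (by rw [← isUnit_map_iff e, Polynomial.derivative_map, hev, e.apply_symm_apply]; exact h2)
  refine ⟨e a, ?_, ?_⟩
  · rw [Polynomial.IsRoot, ← hev, ha, map_zero]
  · rw [hmax, map_sub, e.apply_symm_apply] at ha'
    exact ha'

theorem isSepClosed_ringEquiv {k : Type v} {K : Type w} [Field k] [Field K] [IsSepClosed k]
    (e : k ≃+* K) : IsSepClosed K := by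
  refine IsSepClosed.of_exists_root _ fun p hp hirr hsep => ?_
  have hdeg : (p.map e.symm.toRingHom).degree ≠ 0 := by
    rw [Polynomial.degree_map]
    exact (Polynomial.degree_pos_of_irreducible hirr).ne'
  obtain ⟨x, hx⟩ := IsSepClosed.exists_root _ hdeg (hsep.map)
  refine ⟨e x, ?_⟩
  have h := Polynomial.eval_map_apply e.symm.toRingHom (p := p) (e x)
  simp only [RingEquiv.toRingHom_eq_coe, RingHom.coe_coe, RingEquiv.symm_apply_apply] at h hx
  rw [hx] at h
  exact e.symm.injective (by rw [map_zero]; exact h.symm)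

variable {S : Scheme.{u}} {X : Sp S}

/-- Every point is the class of a geometric point. -/
theorem exists_geometric (x : Points X) : ∃ p : FieldPt X, p.IsGeometric ∧ Points.mk p = x := by
  obtain ⟨q, rfl⟩ := Points.mk_surjective x
  let K := AlgebraicClosure q.K
  let a : Over.mk (Spec.map (CommRingCat.ofHom (algebraMap q.K K)) ≫ q.str) ⟶ q.pt :=
    Over.homMk (Spec.map (CommRingCat.ofHom (algebraMap q.K K))) rfl
  let p : FieldPt X := ⟨K, Spec.map (CommRingCat.ofHom (algebraMap q.K K)) ≫ q.str,
    X.obj.map a.op q.val⟩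
  refine ⟨p, (inferInstance : IsAlgClosed K), Points.sound ⟨K, inferInstance, _, 𝟙 _, a, ?_⟩⟩
  simp [p]

/-- Every geometric point lies over a point of the atlas. -/
theorem exists_chart_point (hX : IsAlgSpace X) (p : FieldPt X) :
    ∃ (U : Over S) (a : (yon S).obj U ⟶ X) (u : U.left), RepWith @Etale a ∧ Points.ofPt a u = Points.mk p := by
  obtain ⟨U, a, ha, has⟩ := hX.atlas
  obtain ⟨u, hu⟩ := Groth.L23.surjective_ofPt has (Points.mk p)
  exact ⟨U, a, u, ha, hu⟩

/-- A property of local rings preserved by strict henselization holds at a point iff it holds for the étale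
local ring at a geometric point over it. -/
theorem hasAt_iff_stalk (Q : ∀ (R : Type u) [CommRing R], Prop) (Q' : ∀ (R : Type (u + 1)) [CommRing R], Prop)
    (hQ : ∀ (R R' : Type u) [CommRing R] [CommRing R'], (R ≃+* R') → Q R → Q R')
    (hQ' : ∀ (R : Type u) (R' : Type (u + 1)) [CommRing R] [CommRing R'], (R ≃+* R') → (Q R ↔ Q' R'))
    (hsh : ∀ (R T : Type u) [CommRing R] [IsLocalRing R] [CommRing T] [IsLocalRing T] [Algebra R T]
      [IsLocalHom (algebraMap R T)], Hensel.IsStrictHenselization R T → (Q T ↔ Q R))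
    (hX : IsAlgSpace X) (p : FieldPt X) (hp : p.IsGeometric) :
    HasAt (fun U u => Q ↥(U.presheaf.stalk u)) X (Points.mk p) ↔ Q' ↥(OEtStalk p) := by
  have key : ∀ {U : Over S} (a : (yon S).obj U ⟶ X) (u : U.left), RepWith @Etale a →
      Points.ofPt a u = Points.mk p → (Q ↥(U.left.presheaf.stalk u) ↔ Q' ↥(OEtStalk p)) := by
    intro U a u ha hu
    obtain ⟨R, T, _, _, _, _, _, _, hT, ⟨e⟩, ⟨e'⟩⟩ := exists_stalk_strictHenselization hX p hp ha u hu
    exact (Iff.intro (hQ _ _ e) (hQ _ _ e.symm)).trans ((hsh R T hT).symm.trans (hQ' _ _ e'))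
  refine ⟨fun ⟨U, a, u, ha, hu, h⟩ => (key a u ha hu).1 h, fun h => ?_⟩
  obtain ⟨U, a, u, ha, hu⟩ := exists_chart_point hX p
  exact ⟨U, a, u, ha, hu, (key a u ha hu).2 h⟩

end Groth.L23.SH
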