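import Groth.Agent.L23.StalkBranch
import Groth.Agent.L23.StalkProps
import Groth.Agent.L23.BranchCount

/-!
# Geometric branches of algebraic spaces
-/

universe u

open CategoryTheory AlgebraicGeometry Opposite AlgSp

set_option backward.isDefEq.respectTransparency.types false
set_option linter.style.haveILetI false

namespace Groth.L23.SH

variable {S : Scheme.{u}} {X : Sp S}

/-- The geometric branches at a chart point are the minimal primes of the étale local ring. -/
theorem numGeomBranchesAt_eq_encard (hX : IsAlgSpace X) (p : FieldPt X) (hp : p.IsGeometric)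
    {U : Over S} {a : (yon S).obj U ⟶ X} (ha : RepWith @Etale a) (u : U.left)
    (hu : Points.ofPt a u = Points.mk p) :
    Brnch.numGeomBranchesAt U.left u = (minimalPrimes ↥(OEtStalk p)).encard := by
  obtain ⟨T, _, _, _, _, hT, ⟨e⟩⟩ := exists_strictHenselization_stalk hX p hp ha u hu
  haveI := Groth.L05.Henselization.flat_of_isStrictHenselization ↥(U.left.presheaf.stalk u) T
  rw [← encard_minimalPrimes_ringEquiv e]
  exact (Groth.L23.Branch.card_minimalPrimes_strict ↥(U.left.presheaf.stalk u) T).symm

theorem encard_stalk_le_numGeom {U : Scheme.{u}} (u : U) :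
    (minimalPrimes ↥(U.presheaf.stalk u)).encard ≤ Brnch.numGeomBranchesAt U u := by
  obtain ⟨T, _, _, _, _, hT⟩ := Groth.L05.Henselization.exists_isStrictHenselization ↥(U.presheaf.stalk u)
  haveI := Groth.L05.Henselization.flat_of_isStrictHenselization ↥(U.presheaf.stalk u) T
  exact (encard_minimalPrimes_le_strict ↥(U.presheaf.stalk u) T).trans_eq
    (Groth.L23.Branch.card_minimalPrimes_strict ↥(U.presheaf.stalk u) T)

/-- The étale local ring has at most `n` minimal primes when every chart point has. -/
theorem encard_OEtStalk_le (hX : IsAlgSpace X) (p : FieldPt X) (hp : p.IsGeometric) (n : ℕ)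
    (h : ∀ (U : Over S) (a : (yon S).obj U ⟶ X) (u : U.left),
      RepWith @Etale a → Points.ofPt a u = Points.mk p →
      (minimalPrimes ↥(U.left.presheaf.stalk u)).encard ≤ n) :
    (minimalPrimes ↥(OEtStalk p)).encard ≤ n := by
  classical
  by_contra hlt
  push Not at hlt
  obtain ⟨s, hs, hcard⟩ := Set.exists_subset_encard_eq (Order.add_one_le_of_lt hlt)
  have hfin : s.Finite := by
    rw [← Set.encard_ne_top_iff, hcard]
    exact_mod_cast ENat.natCast_ne_top (n + 1)
  obtain ⟨U, a, u, ha, hu, hle⟩ := exists_chart_card_le hX p hp hfin.toFinset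
    fun P hP => hs (hfin.mem_toFinset.1 hP)
  rw [hfin.encard_eq_coe_toFinset_card] at hcard
  rw [hcard] at hle
  have := hle.trans (h U a u ha hu)
  norm_cast at this
  omega

/-- The étale local ring's minimal primes are attained on a chart. -/
theorem exists_chart_encard_eq (hX : IsAlgSpace X) (p : FieldPt X) (hp : p.IsGeometric) (n : ℕ)
    (h : (minimalPrimes ↥(OEtStalk p)).encard = n) :
    ∃ (U : Over S) (a : (yon S).obj U ⟶ X) (u : U.left),
      RepWith @Etale a ∧ Points.ofPt a u = Points.mk p ∧
      (minimalPrimes ↥(U.left.presheaf.stalk u)).encard = n := by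
  have hfin : (minimalPrimes ↥(OEtStalk p)).Finite := by
    rw [← Set.encard_ne_top_iff, h]
    exact ENat.natCast_ne_top n
  obtain ⟨U, a, u, ha, hu, hle⟩ := exists_chart_card_le hX p hp hfin.toFinset
    fun P hP => hfin.mem_toFinset.1 hP
  rw [← hfin.encard_eq_coe_toFinset_card, h] at hle
  refine ⟨U, a, u, ha, hu, le_antisymm ((encard_stalk_le_numGeom u).trans_eq ?_) hle⟩
  rw [numGeomBranchesAt_eq_encard hX p hp ha u hu, h]

end Groth.L23.SH
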