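import Groth.Agent.L23.Good
import Groth.Agent.L23.QcCalc
import Groth.Agent.L23.OpenSub

/-!
# Decent algebraic spaces
-/

universe u

open CategoryTheory CategoryTheory.Limits AlgebraicGeometry Opposite AlgSp Topology

set_option backward.isDefEq.respectTransparency.types false
set_option linter.style.haveILetI false

namespace Groth.L23.Pt

variable {S : Scheme.{u}} {X Y : Sp S}

lemma quasiCompact_of_finite {A B : Scheme.{u}} [Finite A] (f : A ⟶ B) : QuasiCompact f :=
  ⟨fun _ _ _ => (Set.toFinite _).isCompact⟩

lemma finite_of_etale_field {T : Scheme.{u}} {K : Type u} [Field K] (c : T ⟶ Spec (CommRingCat.of K)) [Etale c]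
    [CompactSpace T] : Finite T := by
  have : DiscreteTopology T := discreteTopology_iff_isOpen_singleton.2 (isOpen_singleton_of_qf c)
  exact finite_of_compact_of_discrete

lemma finite_points_yon {T : Over S} [Finite T.left] : Finite (Points ((yon S).obj T)) :=
  (Points.schemeEquiv T).finite_iff.1 inferInstance

lemma compact_yon {T : Over S} [CompactSpace T.left] : CompactSpace (Points ((yon S).obj T)) :=
  (Points.schemeHomeo T).compactSpace

lemma finite_of_iso {A B : Sp S} (i : A ≅ B) (h : Finite (Points A)) : Finite (Points B) :=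
  Finite.of_surjective (Points.map i.hom) fun b =>
    ⟨Points.map i.inv b, by rw [← Points.map_comp, i.inv_hom_id, Points.map_id]⟩

/-- A point represented by a mono from a scheme has a monomorphic representative. -/
theorem exists_mono_of_scheme {T : Over S} (i : (yon S).obj T ⟶ X) [Mono i] (z : T.left) :
    ∃ m : FieldPt X, Points.mk m = Points.ofPt i z ∧ Mono m.toHom ∧
      (RepWith @QuasiCompact i → RepWith @QuasiCompact m.toHom) := by
  let ι : Over.mk (T.left.fromSpecResidueField z ≫ T.hom) ⟶ T := Over.homMk (T.left.fromSpecResidueField z)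
  let t : ↥(Spec (T.left.residueField z)) := IsLocalRing.closedPoint _
  refine ⟨ofHom _ ((yon S).map ι ≫ i), ?_, ?_, fun h => ?_⟩
  · rw [mk_ofHom _ _ t, ofPt_comp]
    exact congr_arg _ (Scheme.fromSpecResidueField_apply _ _)
  · rw [toHom_ofHom]
    have : Mono ι.left := inferInstanceAs (Mono (T.left.fromSpecResidueField z))
    have : Mono ι := (Over.forget S).mono_of_mono_map this
    have : Mono ((yon S).map ι) := (yon S).map_mono ι
    exact @mono_comp _ _ _ _ _ _ this i inferInstance
  · rw [toHom_ofHom]
    have : Finite (Spec (T.left.residueField z) : Scheme.{u}) := inferInstanceAs (Finite (PrimeSpectrum _))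
    exact repWith_comp (repWith_map (quasiCompact_of_finite (T.left.fromSpecResidueField z))) h

/-- The monomorphic representative with the quasi-compactness criterion. -/
abbrev GoodPt (x : Points X) : Prop :=
  ∃ p : FieldPt X, Points.mk p = x ∧ Mono p.toHom ∧ RepWith @QuasiCompact p.toHom

theorem goodPt_of_qc (hX : IsAlgSpace X) (p : FieldPt X) (h : RepWith @QuasiCompact p.toHom) :
    GoodPt (Points.mk p) := exists_mono_qc hX p h

theorem qc_of_goodPt (hX : IsAlgSpace X) {x : Points X} (h : GoodPt x) (q : FieldPt X) (e : Points.mk q = x) :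
    RepWith @QuasiCompact q.toHom := by
  obtain ⟨p, hp, -, hq⟩ := h
  exact qc_congr hX p q (hp.trans e.symm) hq

/-- The fibre of an etale chart over a monomorphic point. -/
theorem exists_fibre (hX : IsAlgSpace X) (p : FieldPt X) [Mono p.toHom] {U : Over S} (φ : (yon S).obj U ⟶ X)
    (hφ : RepWith @Etale φ) :
    ∃ (T : Over S) (c : T ⟶ p.pt) (t₂ : T ⟶ U), IsPullback ((yon S).map c) ((yon S).map t₂) p.toHom φ ∧
      Etale c.left ∧ Function.Injective t₂.left ∧ Set.range t₂.left = Points.ofPt φ ⁻¹' {Points.mk p} := by
  obtain ⟨T, c, t₂, sT⟩ := exists_isPullback_of_representable (hX.representable_from_yon p.toHom) φ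
  refine ⟨T, c, t₂, sT, repWith_prop hφ sT.flip, ?_, ?_⟩
  · have : Mono ((yon S).map t₂) := sT.mono_snd_of_mono
    have : Mono t₂ := (yon S).mono_of_mono_map this
    have : Mono t₂.left := inferInstanceAs (Mono ((Over.forget S).map t₂))
    exact t₂.left.injective
  · ext u
    constructor
    · rintro ⟨z, rfl⟩
      show Points.ofPt φ (t₂.left z) = _
      rw [← ofPt_comp, ← sT.w, ofPt_comp, Points.ofPt_toHom]
    · intro hu
      obtain ⟨z, -, hz⟩ := (ofPt_eq_ofPt_iff sT (Classical.arbitrary p.pt.left) u).1 (by
        rw [Points.ofPt_toHom]; exact hu.symm)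
      exact ⟨z, hz⟩

/-- A monomorphic point is good iff its fibres in affine etale charts are finite. -/
theorem qc_iff_finite_fibres (hX : IsAlgSpace X) (p : FieldPt X) [Mono p.toHom] :
    RepWith @QuasiCompact p.toHom ↔ ∀ (U : Over S) (φ : (yon S).obj U ⟶ X), IsAffine U.left → RepWith @Etale φ →
      (Points.ofPt φ ⁻¹' {Points.mk p}).Finite := by
  rw [qc_iff hX p]
  refine forall_congr' fun U => forall_congr' fun φ => forall_congr' fun hU => forall_congr' fun hφ => ?_
  obtain ⟨T, c, t₂, sT, hc, hinj, hr⟩ := exists_fibre hX p φ hφ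
  rw [← hr]
  constructor
  · intro h
    have := compact_of_iso sT.isoPullback.symm h
    have : CompactSpace T.left := (Points.schemeHomeo T).symm.compactSpace
    let c' : T.left ⟶ Spec (CommRingCat.of p.K) := c.left
    have : Etale c' := hc
    have := finite_of_etale_field c'
    exact Set.finite_range _
  · intro h
    have := h.to_subtype
    have : Finite T.left := Finite.of_injective_finite_range hinj
    have := finite_points_yon (T := T)
    exact compact_of_iso sT.isoPullback Finite.compactSpace

/-- Finite fibres of the relation give a monomorphic point. -/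
theorem exists_mono_of_finite_rel (hX : IsAlgSpace X) {U : Over S} (φ : (yon S).obj U ⟶ X) (u u' : U.left)
    (e : Points.ofPt φ u = Points.ofPt φ u') {R : Over S} {s t : R ⟶ U}
    (sR : IsPullback ((yon S).map t) ((yon S).map s) φ φ) (h : {r : R.left | s.left r = u ∧ t.left r = u'}.Finite) :
    ∃ m : FieldPt X, Points.mk m = Points.ofPt φ u ∧ Mono m.toHom := by
  let ι : ∀ v : U.left, Over.mk (U.left.fromSpecResidueField v ≫ U.hom) ⟶ U := fun v =>
    Over.homMk (U.left.fromSpecResidueField v)
  let q : ∀ v : U.left, FieldPt X := fun v => ofHom _ ((yon S).map (ι v) ≫ φ)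
  have hq : ∀ v, Points.mk (q v) = Points.ofPt φ v := fun v => by
    rw [mk_ofHom _ _ (IsLocalRing.closedPoint _), ofPt_comp]
    exact congr_arg _ (Scheme.fromSpecResidueField_apply _ _)
  have hιm : ∀ v, Mono ((yon S).map (ι v)) := fun v => by
    have : Mono (ι v).left := inferInstanceAs (Mono (U.left.fromSpecResidueField v))
    have : Mono (ι v) := (Over.forget S).mono_of_mono_map this
    infer_instance
  obtain ⟨P, a, b, sP⟩ := exists_isPullback_of_representable
    (hX.representable_from_yon ((yon S).map (ι u') ≫ φ)) ((yon S).map (ι u) ≫ φ)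
  obtain ⟨l, hl₁, hl₂⟩ := exists_lift_yon sR (a ≫ ι u') (b ≫ ι u) (by
    rw [Functor.map_comp, Functor.map_comp, Category.assoc, Category.assoc]; exact sP.w)
  have : Mono ((yon S).map l) := ⟨fun {Z} f g hfg => by
    have := hιm u
    have := hιm u'
    refine sP.hom_ext ?_ ?_
    · have := congrArg (· ≫ (yon S).map t) hfg
      simp only [Category.assoc, ← Functor.map_comp, hl₁] at this
      rw [Functor.map_comp, ← Category.assoc, ← Category.assoc] at this
      exact (cancel_mono _).1 this
    · have := congrArg (· ≫ (yon S).map s) hfg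
      simp only [Category.assoc, ← Functor.map_comp, hl₂] at this
      rw [Functor.map_comp, ← Category.assoc, ← Category.assoc] at this
      exact (cancel_mono _).1 this⟩
  have : Mono l := (yon S).mono_of_mono_map this
  have : Mono l.left := inferInstanceAs (Mono ((Over.forget S).map l))
  have : Finite P.left := by
    have hsub : Set.range l.left ⊆ {r : R.left | s.left r = u ∧ t.left r = u'} := ?_
    · have := (h.subset hsub).to_subtype
      exact Finite.of_injective_finite_range (f := l.left) l.left.injective
    rintro _ ⟨z, rfl⟩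
    constructor
    · have := congr($(hl₂).left z)
      rw [Over.comp_left, Over.comp_left, Scheme.Hom.comp_apply, Scheme.Hom.comp_apply] at this
      exact this.trans (Scheme.fromSpecResidueField_apply u _)
    · have := congr($(hl₁).left z)
      rw [Over.comp_left, Over.comp_left, Scheme.Hom.comp_apply, Scheme.Hom.comp_apply] at this
      exact this.trans (Scheme.fromSpecResidueField_apply u' _)
  have hc : CompactSpace (Points (pullback (q u').toHom (q u).toHom)) := by
    refine (compact_eq_iff (toHom_ofHom _ _) (toHom_ofHom _ _)).2 ?_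
    have := finite_points_yon (T := P)
    exact compact_of_iso sP.isoPullback Finite.compactSpace
  obtain ⟨m, hm, hmm⟩ := exists_mono_of_selfQc hX (q u)
    ((compact_congr hX (q u') (q u) (by rw [hq, hq, e]) (q u).toHom).1 hc)
  exact ⟨m, hm.trans (hq u), hmm⟩

/-- A monomorphic point has finite fibres in the relation. -/
theorem finite_rel_of_mono (hX : IsAlgSpace X) (p : FieldPt X) [Mono p.toHom] {U : Over S}
    (φ : (yon S).obj U ⟶ X) (hφ : RepWith @Etale φ) (u u' : U.left) (hu : Points.ofPt φ u = Points.mk p)
    (hu' : Points.ofPt φ u' = Points.mk p) {R : Over S} {s t : R ⟶ U}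
    (sR : IsPullback ((yon S).map t) ((yon S).map s) φ φ) : {r : R.left | s.left r = u ∧ t.left r = u'}.Finite := by
  let ι : ∀ v : U.left, Over.mk (U.left.fromSpecResidueField v ≫ U.hom) ⟶ U := fun v =>
    Over.homMk (U.left.fromSpecResidueField v)
  let q : ∀ v : U.left, FieldPt X := fun v => ofHom _ ((yon S).map (ι v) ≫ φ)
  have hq : ∀ v, Points.mk (q v) = Points.ofPt φ v := fun v => by
    rw [mk_ofHom _ _ (IsLocalRing.closedPoint _), ofPt_comp]
    exact congr_arg _ (Scheme.fromSpecResidueField_apply _ _)
  have h₀ : CompactSpace (Points (pullback (q u').toHom (q u).toHom)) :=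
    (compact_congr hX p (q u') (by rw [hq, hu']) _).1 (compact_symm _ _
      ((compact_congr hX p (q u) (by rw [hq, hu]) p.toHom).1 (selfQc_of_mono p)))
  obtain ⟨P, a, b, sP⟩ := exists_isPullback_of_representable
    (hX.representable_from_yon ((yon S).map (ι u') ≫ φ)) ((yon S).map (ι u) ≫ φ)
  obtain ⟨l, hl₁, hl₂⟩ := exists_lift_yon sR (a ≫ ι u') (b ≫ ι u) (by
    rw [Functor.map_comp, Functor.map_comp, Category.assoc, Category.assoc]; exact sP.w)
  have := compact_of_iso sP.isoPullback.symm ((compact_eq_iff (toHom_ofHom _ _) (toHom_ofHom _ _)).1 h₀)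
  have : CompactSpace P.left := (Points.schemeHomeo P).symm.compactSpace
  have : Etale s.left := repWith_prop hφ sR
  have : Etale t.left := repWith_prop hφ sR.flip
  have hsd : Set.range l.left ⊆ s.left ⁻¹' {u} := by
    rintro _ ⟨z, rfl⟩
    have := congr($(hl₂).left z)
    rw [Over.comp_left, Over.comp_left, Scheme.Hom.comp_apply, Scheme.Hom.comp_apply] at this
    exact this.trans (Scheme.fromSpecResidueField_apply u _)
  refine ((isCompact_range l.left.continuous).finite
    ((s.left.isDiscrete_preimage_singleton u).mono hsd)).subset fun r hr => ?_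
  let rb : Over.mk (R.left.fromSpecResidueField r ≫ R.hom) ⟶ R := Over.homMk (R.left.fromSpecResidueField r)
  have fac : ∀ (v : U.left) (m : R ⟶ U), m.left r = v → ∃ d : Over.mk (R.left.fromSpecResidueField r ≫ R.hom) ⟶
      Over.mk (U.left.fromSpecResidueField v ≫ U.hom), d ≫ ι v = rb ≫ m := by
    rintro _ m rfl
    refine ⟨Over.homMk (Spec.map (m.left.residueFieldMap r)) ?_, ?_⟩
    · show Spec.map (m.left.residueFieldMap r) ≫ U.left.fromSpecResidueField (m.left r) ≫ U.hom =
        R.left.fromSpecResidueField r ≫ R.hom
      rw [← Category.assoc, Scheme.Hom.SpecMap_residueFieldMap_fromSpecResidueField, Category.assoc, Over.w]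
    · exact Over.OverMorphism.ext (m.left.SpecMap_residueFieldMap_fromSpecResidueField r)
  obtain ⟨d₁, hd₁⟩ := fac u s hr.1
  obtain ⟨d₂, hd₂⟩ := fac u' t hr.2
  obtain ⟨k, hk₁, hk₂⟩ := exists_lift_yon sP d₂ d₁ (by
    rw [← Functor.map_comp_assoc, ← Functor.map_comp_assoc, hd₁, hd₂, Functor.map_comp, Functor.map_comp,
      Category.assoc, Category.assoc, sR.w])
  have hk : k ≫ l = rb := (yon S).map_injective (sR.hom_ext
    (by rw [← Functor.map_comp, ← Functor.map_comp, Category.assoc, hl₁, reassoc_of% hk₁, hd₂])
    (by rw [← Functor.map_comp, ← Functor.map_comp, Category.assoc, hl₂, reassoc_of% hk₂, hd₁]))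
  refine ⟨k.left (IsLocalRing.closedPoint _), ?_⟩
  have := congr($(hk).left (IsLocalRing.closedPoint _))
  exact this.trans (Scheme.fromSpecResidueField_apply _ _)

end Groth.L23.Pt
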