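import Groth.Prelude.Def_AlgSp4
import Groth.Prelude.Def_AlgSpDec
import Groth.Agent.L23.AlgSpace
import Mathlib.AlgebraicGeometry.Morphisms.UniversallyOpen
import Mathlib.AlgebraicGeometry.Morphisms.UniversallyClosed

/-!
# Points of sheaves and of fibre products
-/

universe u

open CategoryTheory CategoryTheory.Limits AlgebraicGeometry Opposite AlgSp Topology

set_option backward.isDefEq.respectTransparency.types false

namespace Groth.L23

variable {S : Scheme.{u}} {F G H P : Sp S}

lemma ofPt_map {T T' : Over S} (φ : T ⟶ T') (t : ↥T.left) :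
    Points.ofPt ((yon S).map φ) t = Points.ofScheme T' (φ.left t) :=
  (Points.schemeEquiv T').symm.injective
    ((Points.toScheme_ofPt φ t).trans (Points.toScheme_ofScheme T' (φ.left t)).symm)

lemma ofPt_comp {T T' : Over S} (φ : T ⟶ T') (g : (yon S).obj T' ⟶ F) (t : ↥T.left) :
    Points.ofPt ((yon S).map φ ≫ g) t = Points.ofPt g (φ.left t) := by
  rw [← Points.map_ofPt, ofPt_map, ← Points.ofPt_eq_map_ofScheme]

lemma exists_eq_ofPt_field (x : Points F) :
    ∃ p : FieldPt F, Points.mk p = x ∧ Points.ofPt p.toHom (IsLocalRing.closedPoint p.K) = x := by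
  obtain ⟨p, rfl⟩ := Points.mk_surjective x
  exact ⟨p, rfl, Points.ofPt_toHom p _⟩

lemma rel_iff_toHom (p q : FieldPt F) :
    FieldPt.Rel p q ↔ ∃ (Ω : Type u) (_ : Field Ω) (w : Spec (CommRingCat.of Ω) ⟶ S)
      (a : Over.mk w ⟶ p.pt) (b : Over.mk w ⟶ q.pt),
      (yon S).map a ≫ p.toHom = (yon S).map b ≫ q.toHom := by
  refine exists₂_congr fun Ω _ => exists₃_congr fun w a b => ?_
  rw [← (J S).uliftYonedaEquiv.apply_eq_iff_eq,
    ← GrothendieckTopology.uliftYonedaEquiv_naturality,
    ← GrothendieckTopology.uliftYonedaEquiv_naturality,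
    FieldPt.uliftYonedaEquiv_toHom, FieldPt.uliftYonedaEquiv_toHom]

/-- Two points with the same image lift to the fibre product. -/
theorem exists_of_isPullback {fst : P ⟶ F} {snd : P ⟶ H} {f : F ⟶ G} {g : H ⟶ G}
    (sq : IsPullback fst snd f g) (x : Points F) (y : Points H)
    (e : Points.map f x = Points.map g y) :
    ∃ p : Points P, Points.map fst p = x ∧ Points.map snd p = y := by
  obtain ⟨p, rfl⟩ := Points.mk_surjective x
  obtain ⟨q, rfl⟩ := Points.mk_surjective y
  obtain ⟨Ω, hΩ, w, a, b, h⟩ := (rel_iff_toHom _ _).1 (Points.mk_eq_mk_iff.1 e)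
  rw [FieldPt.toHom_map, FieldPt.toHom_map] at h
  change Over.mk w ⟶ p.pt at a
  change Over.mk w ⟶ q.pt at b
  let l := sq.lift ((yon S).map a ≫ p.toHom) ((yon S).map b ≫ q.toHom)
    ((Category.assoc _ _ _).trans (h.trans (Category.assoc _ _ _).symm))
  refine ⟨Points.ofPt l (IsLocalRing.closedPoint Ω), ?_, ?_⟩
  · rw [Points.map_ofPt, sq.lift_fst, ofPt_comp, Points.ofPt_toHom]
  · rw [Points.map_ofPt, sq.lift_snd, ofPt_comp, Points.ofPt_toHom]

lemma exists_eq_ofPt (x : Points F) : ∃ (T : Over S) (g : (yon S).obj T ⟶ F) (t : ↥T.left),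
    Points.ofPt g t = x := by
  obtain ⟨p, -, h⟩ := exists_eq_ofPt_field x
  exact ⟨_, _, _, h⟩

/-- Points of a represented fibre product. -/
lemma exists_point_of_isPullback {U V : Over S} {f : F ⟶ G} {g : (yon S).obj U ⟶ G}
    {fst : (yon S).obj V ⟶ F} {snd : V ⟶ U} (sq : IsPullback fst ((yon S).map snd) f g)
    {x : Points F} {u : ↥U.left} (h : Points.map f x = Points.ofPt g u) :
    ∃ v : ↥V.left, Points.ofPt fst v = x ∧ snd.left v = u := by
  obtain ⟨p, hp₁, hp₂⟩ := exists_of_isPullback sq x (Points.ofScheme U u)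
    (by rwa [← Points.ofPt_eq_map_ofScheme])
  obtain ⟨v, rfl⟩ := (Points.schemeEquiv V).surjective p
  refine ⟨v, ?_, ?_⟩
  · rw [Points.ofPt_eq_map_ofScheme]; exact hp₁
  · change Points.map _ (Points.ofScheme V v) = _ at hp₂
    rw [← Points.ofPt_eq_map_ofScheme, ofPt_map] at hp₂
    exact (Points.schemeEquiv U).injective hp₂

lemma map_ofPt_of_isPullback {U V : Over S} {f : F ⟶ G} {g : (yon S).obj U ⟶ G}
    {fst : (yon S).obj V ⟶ F} {snd : V ⟶ U} (sq : IsPullback fst ((yon S).map snd) f g)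
    (v : ↥V.left) : Points.map f (Points.ofPt fst v) = Points.ofPt g (snd.left v) := by
  rw [Points.map_ofPt, sq.w, ofPt_comp]

lemma preimage_image_map {U V : Over S} {f : F ⟶ G} {g : (yon S).obj U ⟶ G}
    {fst : (yon S).obj V ⟶ F} {snd : V ⟶ U} (sq : IsPullback fst ((yon S).map snd) f g)
    (W : Set (Points F)) :
    Points.ofPt g ⁻¹' (Points.map f '' W) = snd.left '' (Points.ofPt fst ⁻¹' W) := by
  ext u
  constructor
  · rintro ⟨x, hx, e⟩
    obtain ⟨v, hv, hv'⟩ := exists_point_of_isPullback sq e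
    exact ⟨v, by simpa [hv] using hx, hv'⟩
  · rintro ⟨v, hv, rfl⟩
    exact ⟨_, hv, map_ofPt_of_isPullback sq v⟩

theorem surjective_map_of_repWith {f : F ⟶ G} (h : RepWith @Surjective f) :
    Function.Surjective (Points.map f) := fun y => by
  obtain ⟨T, g, t, rfl⟩ := exists_eq_ofPt y
  obtain ⟨v, hv⟩ := (repWith_snd h g).surj t
  exact ⟨Points.ofPt (h.1.fst g) v, by rw [map_ofPt_of_isPullback (h.1.isPullback g), hv]⟩

theorem repWith_surjective_of_map {f : F ⟶ G} (hf : Representable f)
    (h : Function.Surjective (Points.map f)) : RepWith @Surjective f :=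
  repWith_of_snd hf fun _ g => ⟨fun u => by
    obtain ⟨x, hx⟩ := h (Points.ofPt g u)
    obtain ⟨v, -, hv⟩ := exists_point_of_isPullback (hf.isPullback g) hx
    exact ⟨v, hv⟩⟩

theorem isOpenMap_map_of_representable {f : F ⟶ G} (hf : Representable f)
    (h : ∀ (U : Over S) (g : (yon S).obj U ⟶ G), IsOpenMap (hf.snd g).left) :
    IsOpenMap (Points.map f) := fun W hW =>
  Points.isOpen_iff.2 fun T g => by
    rw [preimage_image_map (hf.isPullback g)]
    exact h T g _ (hW.preimage (Points.continuous_ofPt _))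

theorem isClosedMap_map_of_representable {f : F ⟶ G} (hf : Representable f)
    (h : ∀ (U : Over S) (g : (yon S).obj U ⟶ G), IsClosedMap (hf.snd g).left) :
    IsClosedMap (Points.map f) := fun W hW =>
  isOpen_compl_iff.1 <| Points.isOpen_iff.2 fun T g => by
    rw [Set.preimage_compl, preimage_image_map (hf.isPullback g), isOpen_compl_iff]
    exact h T g _ (hW.preimage (Points.continuous_ofPt _))

theorem injective_map_of_repWith {f : F ⟶ G}
    (h : RepWith @UniversallyInjective f) : Function.Injective (Points.map f) := by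
  intro x y e
  obtain ⟨T, g, t, rfl⟩ := exists_eq_ofPt x
  rw [Points.map_ofPt] at e
  have := repWith_snd h (g ≫ f)
  obtain ⟨v₁, h₁, h₁'⟩ := exists_point_of_isPullback (h.1.isPullback (g ≫ f)) (x := Points.ofPt g t)
    (u := t) (Points.map_ofPt g f t)
  obtain ⟨v₂, h₂, h₂'⟩ := exists_point_of_isPullback (h.1.isPullback (g ≫ f)) (x := y) (u := t) e.symm
  rw [← h₁, ← h₂, (h.1.snd (g ≫ f)).left.injective (h₁'.trans h₂'.symm)]

lemma ofPt_eq_comp {T : Over S} (g : (yon S).obj T ⟶ F) :
    Points.ofPt g = Points.map g ∘ Points.schemeEquiv T :=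
  funext (Points.ofPt_eq_map_ofScheme g)

lemma range_map_yon {T : Over S} (g : (yon S).obj T ⟶ F) :
    Set.range (Points.map g) = Set.range (Points.ofPt g) := by
  rw [ofPt_eq_comp, EquivLike.range_comp]

theorem isOpenMap_map_of_universallyOpen {f : F ⟶ G} (h : RepWith @UniversallyOpen f) :
    IsOpenMap (Points.map f) :=
  isOpenMap_map_of_representable h.1 fun _ g => by
    have := repWith_snd h g
    exact Scheme.Hom.isOpenMap _

theorem repWith_universallyOpen_of_etale {f : F ⟶ G} (h : RepWith @Etale f) :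
    RepWith @UniversallyOpen f :=
  repWith_mono (fun g (hg : Etale g) => by infer_instance) h

theorem isOpenMap_ofPt {T : Over S} {a : (yon S).obj T ⟶ F} (ha : RepWith @Etale a) :
    IsOpenMap (Points.ofPt a) := by
  rw [ofPt_eq_comp]
  exact (isOpenMap_map_of_universallyOpen (repWith_universallyOpen_of_etale ha)).comp
    (Points.schemeHomeo T).isOpenMap

theorem surjective_ofPt {T : Over S} {a : (yon S).obj T ⟶ F} (ha : RepWith @Surjective a) :
    Function.Surjective (Points.ofPt a) := by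
  rw [ofPt_eq_comp]
  exact (surjective_map_of_repWith ha).comp (Points.schemeEquiv T).surjective

theorem isOpenQuotientMap_ofPt {T : Over S} {a : (yon S).obj T ⟶ F} (ha : RepWith @Etale a)
    (hs : RepWith @Surjective a) : IsOpenQuotientMap (Points.ofPt a) :=
  ⟨surjective_ofPt hs, Points.continuous_ofPt a, isOpenMap_ofPt ha⟩

theorem ofPt_eq_ofPt_iff {U V R : Over S} {a : (yon S).obj U ⟶ F} {b : (yon S).obj V ⟶ F}
    {p : R ⟶ U} {q : R ⟶ V} (sq : IsPullback ((yon S).map p) ((yon S).map q) a b)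
    (u : ↥U.left) (v : ↥V.left) :
    Points.ofPt a u = Points.ofPt b v ↔ ∃ r : ↥R.left, p.left r = u ∧ q.left r = v := by
  constructor
  · intro e
    obtain ⟨r, hr, hr'⟩ := exists_point_of_isPullback sq (x := Points.ofScheme U u) (u := v)
      (by rwa [← Points.ofPt_eq_map_ofScheme])
    rw [ofPt_map] at hr
    exact ⟨r, (Points.schemeEquiv U).injective hr, hr'⟩
  · rintro ⟨r, rfl, rfl⟩
    rw [← ofPt_comp, ← ofPt_comp, sq.w]

end Groth.L23
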