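import Groth.Prelude.Def_AlgSpGpd
import Groth.Agent.L23.Points
import Mathlib.AlgebraicGeometry.Morphisms.FlatMono

/-!
# Monomorphic field-valued points
-/

universe u

open CategoryTheory CategoryTheory.Limits AlgebraicGeometry Opposite AlgSp

set_option backward.isDefEq.respectTransparency.types false

namespace Groth.L23

variable {S : Scheme.{u}}

lemma isIso_of_mono_to_field {Z : Scheme.{u}} {K : Type u} [Field K] (f : Z ⟶ Spec (CommRingCat.of K))
    [Mono f] (z : Z) : IsIso f := by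
  have : Subsingleton (Spec (CommRingCat.of K) : Scheme) :=
    inferInstanceAs (Subsingleton (PrimeSpectrum K))
  have : Subsingleton Z := f.injective.subsingleton
  have : Finite Z := inferInstance
  have : CompactSpace Z := Finite.compactSpace
  have : Surjective f := ⟨fun y => ⟨z, Subsingleton.elim _ _⟩⟩
  exact Flat.isIso_of_surjective_of_mono f

theorem existsUnique_factor {X : Sp S} (hX : IsAlgSpace X) (p q : FieldPt X)
    (h : Points.mk p = Points.mk q) [Mono p.toHom] :
    ∃! c : q.pt ⟶ p.pt, (yon S).map c ≫ p.toHom = q.toHom := by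
  obtain ⟨Ω, hΩ, w, a, b, e⟩ := (rel_iff_toHom _ _).1 (Points.mk_eq_mk_iff.1 h)
  have hp := hX.representable_from_yon p.toHom
  have sq := hp.isPullback q.toHom
  have hm : Mono ((yon S).map (hp.snd q.toHom)) :=
    MorphismProperty.of_isPullback (P := MorphismProperty.monomorphisms (Sp S)) sq
      (show MorphismProperty.monomorphisms (Sp S) p.toHom from inferInstanceAs (Mono p.toHom))
  have : Mono (hp.snd q.toHom) := (yon S).mono_of_mono_map hm
  have : Mono (hp.snd q.toHom).left := inferInstanceAs (Mono ((Over.forget S).map (hp.snd q.toHom)))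
  let z := hp.lift (g := q.toHom) ((yon S).map a ≫ 𝟙 _) b (by simpa using e)
  have := isIso_of_mono_to_field (hp.snd q.toHom).left (z.left (IsLocalRing.closedPoint Ω))
  have : IsIso ((Over.forget S).map (hp.snd q.toHom)) := this
  have : IsIso (hp.snd q.toHom) := isIso_of_reflects_iso _ (Over.forget S)
  obtain ⟨c, hc⟩ := (yon S).map_surjective (inv ((yon S).map (hp.snd q.toHom)) ≫ hp.fst q.toHom)
  refine ⟨c, ?_, fun c' hc' => ?_⟩
  · change (yon S).map c ≫ p.toHom = q.toHom
    rw [hc, Category.assoc, hp.w, IsIso.inv_hom_id_assoc]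
  · apply (yon S).map_injective
    rw [← cancel_mono p.toHom, hc, hc', Category.assoc, hp.w, IsIso.inv_hom_id_assoc]

theorem points_equivalence {R U : Sp S} {s t : R ⟶ U} (h : IsPreEqvRelSp s t) :
    _root_.Equivalence (fun x y : Points U => ∃ r : Points R, Points.map t r = x ∧ Points.map s r = y) := by
  refine ⟨fun x => ?_, ?_, ?_⟩
  · obtain ⟨T, g, τ, rfl⟩ := exists_eq_ofPt x
    obtain ⟨r, h₁, h₂⟩ := (h T).refl g
    exact ⟨Points.ofPt r τ, by rw [Points.map_ofPt, h₁], by rw [Points.map_ofPt, h₂]⟩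
  · rintro x y ⟨r, rfl, rfl⟩
    obtain ⟨T, g, τ, rfl⟩ := exists_eq_ofPt r
    obtain ⟨r', h₁, h₂⟩ := (h T).symm (x := g ≫ t) (y := g ≫ s) ⟨g, rfl, rfl⟩
    exact ⟨Points.ofPt r' τ, by rw [Points.map_ofPt, h₁, ← Points.map_ofPt],
      by rw [Points.map_ofPt, h₂, ← Points.map_ofPt]⟩
  · rintro x y z ⟨r₁, rfl, hy⟩ ⟨r₂, rfl, rfl⟩
    obtain ⟨p, hp₁, hp₂⟩ := exists_of_isPullback (IsPullback.of_hasPullback s t) r₁ r₂ hy
    subst hp₁ hp₂
    obtain ⟨T, g, τ, rfl⟩ := exists_eq_ofPt p
    obtain ⟨r, h₁, h₂⟩ := (h T).trans (x := g ≫ pullback.fst s t ≫ t)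
      (y := g ≫ pullback.fst s t ≫ s) (z := g ≫ pullback.snd s t ≫ s)
      ⟨g ≫ pullback.fst s t, by simp, by simp⟩
      ⟨g ≫ pullback.snd s t, by simp [pullback.condition], by simp⟩
    exact ⟨Points.ofPt r τ, by simp only [Points.map_ofPt, h₁, Category.assoc],
      by simp only [Points.map_ofPt, h₂, Category.assoc]⟩

end Groth.L23
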