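import Groth.Agent.L23.ElemHens
import Groth.Agent.L23.Decent
import Groth.Agent.L23.FieldMono
import Groth.Agent.L23.LocP
import Groth.Agent.L23.BranchSpace

/-!
# Elementary étale neighbourhoods of points of algebraic spaces
-/

universe u

open CategoryTheory CategoryTheory.Limits AlgebraicGeometry Opposite AlgSp

set_option backward.isDefEq.respectTransparency.types false
set_option linter.style.haveILetI false

namespace Groth.L23.Elem

variable {S : Scheme.{u}} {X : Sp S}

/-- Morphisms between étale charts are étale. -/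
theorem etale_of_rep (hX : IsAlgSpace X) {U U' : Over S} {a : (yon S).obj U ⟶ X} {a' : (yon S).obj U' ⟶ X}
    (ha : RepWith @Etale a) (ha' : RepWith @Etale a') (g : U' ⟶ U) (hg : (yon S).map g ≫ a = a') :
    Etale g.left := by
  obtain ⟨P, p, q, sq⟩ := exists_isPullback_of_representable (hX.representable_from_yon a') a
  obtain ⟨s, hs, hs'⟩ := exists_lift_yon sq (𝟙 U') g (by rw [CategoryTheory.Functor.map_id, Category.id_comp, hg])
  haveI : Etale p.left := repWith_prop ha sq.flip
  haveI : Etale q.left := repWith_prop ha' sq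
  haveI : Etale (s.left ≫ p.left) := by
    rw [← Over.comp_left, hs]
    exact inferInstanceAs (Etale (𝟙 U'.left))
  haveI : Etale s.left := Etale.of_comp s.left p.left
  rw [← hs', Over.comp_left]
  exact inferInstanceAs (Etale (s.left ≫ q.left))

/-- The inclusion of a point. -/
noncomputable abbrev pointι (T : Over S) (t : T.left) :
    Over.mk (T.left.fromSpecResidueField t ≫ T.hom) ⟶ T :=
  Over.homMk (T.left.fromSpecResidueField t) rfl

theorem mono_pointι (T : Over S) (t : T.left) : Mono (pointι T t) := by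
  have : Mono (pointι T t).left := inferInstanceAs (Mono (T.left.fromSpecResidueField t))
  exact (Over.forget S).mono_of_mono_map this

/-- The morphism of points induced by a morphism. -/
theorem exists_pointMap {U U' : Over S} (g : U' ⟶ U) (u' : U'.left) :
    ∃ c : Over.mk (U'.left.fromSpecResidueField u' ≫ U'.hom) ⟶ Over.mk (U.left.fromSpecResidueField (g.left u') ≫ U.hom),
      c.left = Spec.map (g.left.residueFieldMap u') ∧ c ≫ pointι U (g.left u') = pointι U' u' ≫ g := by
  refine ⟨Over.homMk (Spec.map (g.left.residueFieldMap u')) ?_, rfl,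
    Over.OverMorphism.ext (g.left.SpecMap_residueFieldMap_fromSpecResidueField u')⟩
  show Spec.map (g.left.residueFieldMap u') ≫ U.left.fromSpecResidueField (g.left u') ≫ U.hom =
    U'.left.fromSpecResidueField u' ≫ U'.hom
  rw [← Category.assoc, Scheme.Hom.SpecMap_residueFieldMap_fromSpecResidueField, Category.assoc, Over.w]

theorem exists_pointMap_of_eq {U U' : Over S} (g : U' ⟶ U) (u' : U'.left) {v : U.left} (hv : g.left u' = v) :
    ∃ c : Over.mk (U'.left.fromSpecResidueField u' ≫ U'.hom) ⟶ Over.mk (U.left.fromSpecResidueField v ≫ U.hom),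
      c ≫ pointι U v = pointι U' u' ≫ g := by
  subst hv
  obtain ⟨c, -, hc⟩ := exists_pointMap g u'
  exact ⟨c, hc⟩

/-- The point of a chart in the space. -/
noncomputable abbrev ptHom {T : Over S} (a : (yon S).obj T ⟶ X) (t : T.left) :
    (yon S).obj (Over.mk (T.left.fromSpecResidueField t ≫ T.hom)) ⟶ X :=
  (yon S).map (pointι T t) ≫ a

theorem mono_ptHom {x : Points X} {T : Over S} {a : (yon S).obj T ⟶ X} {t : T.left}
    (h : IsElemEtaleNbhd a t x) : Mono (ptHom a t) := by
  have h' := h.mono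
  rw [FieldPt.toHom_ofPt] at h'
  exact h'

theorem mono_toHom {T : Over S} {a : (yon S).obj T ⟶ X} {t : T.left} (h : Mono (ptHom a t)) :
    Mono (FieldPt.ofPt a t).toHom := by
  rw [FieldPt.toHom_ofPt]
  exact h

theorem exists_ptFactor (hX : IsAlgSpace X) {x : Points X} {T T' : Over S} {a : (yon S).obj T ⟶ X}
    {a' : (yon S).obj T' ⟶ X} {t : T.left} {t' : T'.left} (h : IsElemEtaleNbhd a t x)
    (h' : Points.ofPt a' t' = x) :
    ∃ c : Over.mk (T'.left.fromSpecResidueField t' ≫ T'.hom) ⟶ Over.mk (T.left.fromSpecResidueField t ≫ T.hom),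
      (yon S).map c ≫ ptHom a t = ptHom a' t' := by
  haveI := h.mono
  obtain ⟨c, hc, -⟩ := existsUnique_factor hX (FieldPt.ofPt a t) (FieldPt.ofPt a' t') (h.ofPt_eq.trans h'.symm)
  rw [FieldPt.toHom_ofPt, FieldPt.toHom_ofPt] at hc
  exact ⟨c, hc⟩

/-- A morphism of elementary neighbourhoods is an elementary neighbourhood of schemes. -/
theorem isEtaleNbhd_of_hom (hX : IsAlgSpace X) {x : Points X} {U U' : Over S} {a : (yon S).obj U ⟶ X}
    {a' : (yon S).obj U' ⟶ X} (g : U' ⟶ U) (u' : U'.left) (hg : (yon S).map g ≫ a = a')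
    (ha : IsElemEtaleNbhd a (g.left u') x) (ha' : IsElemEtaleNbhd a' u' x) :
    Hens2.IsEtaleNbhd g.left u' (g.left u') := by
  refine ⟨etale_of_rep hX ha.etale ha'.etale g hg, rfl, ?_⟩
  obtain ⟨c, hc, hcι⟩ := exists_pointMap g u'
  haveI := mono_ptHom ha
  haveI := mono_ptHom ha'
  obtain ⟨d, hd⟩ := exists_ptFactor hX ha' ha.ofPt_eq
  have hcX : (yon S).map c ≫ ptHom a (g.left u') = ptHom a' u' := by
    rw [ptHom, ptHom, ← hg, ← Functor.map_comp_assoc, ← Functor.map_comp_assoc, hcι]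
  have h1 : d ≫ c = 𝟙 _ := (yon S).map_injective ((cancel_mono (ptHom a (g.left u'))).1 (by
    rw [Functor.map_comp, Category.assoc, hcX, hd, (yon S).map_id, Category.id_comp]))
  have h2 : c ≫ d = 𝟙 _ := (yon S).map_injective ((cancel_mono (ptHom a' u')).1 (by
    rw [Functor.map_comp, Category.assoc, hd, hcX, (yon S).map_id, Category.id_comp]))
  haveI : IsIso c := ⟨d, h2, h1⟩
  haveI : IsIso c.left := inferInstanceAs (IsIso ((Over.forget S).map c))
  haveI : IsIso (Spec.map (g.left.residueFieldMap u')) := hc ▸ inferInstance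
  haveI : IsIso (Scheme.Spec.map (g.left.residueFieldMap u').op) :=
    inferInstanceAs (IsIso (Spec.map (g.left.residueFieldMap u')))
  haveI : IsIso (g.left.residueFieldMap u').op := isIso_of_fully_faithful Scheme.Spec _
  haveI : IsIso (g.left.residueFieldMap u') := isIso_of_op _
  exact ConcreteCategory.bijective_of_isIso (g.left.residueFieldMap u')

/-- Elementary neighbourhoods of schemes compose with elementary neighbourhoods. -/
theorem isElem_of_nbhd {x : Points X} {U U' : Over S} {a : (yon S).obj U ⟶ X} (g : U' ⟶ U) (u' : U'.left)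
    (hn : Hens2.IsEtaleNbhd g.left u' (g.left u')) (ha : IsElemEtaleNbhd a (g.left u') x) :
    IsElemEtaleNbhd ((yon S).map g ≫ a) u' x := by
  refine ⟨repWith_comp (repWith_map hn.etale) ha.etale, by rw [ofPt_comp]; exact ha.ofPt_eq, ?_⟩
  obtain ⟨c, hc, hcι⟩ := exists_pointMap g u'
  haveI : IsIso (g.left.residueFieldMap u') :=
    (ConcreteCategory.isIso_iff_bijective _).2 hn.residue_bijective
  haveI : IsIso ((Over.forget S).map c) := by
    show IsIso c.left
    rw [hc]
    infer_instance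
  haveI : IsIso c := isIso_of_reflects_iso _ (Over.forget S)
  haveI := mono_ptHom ha
  refine mono_toHom ?_
  have : ptHom ((yon S).map g ≫ a) u' = (yon S).map c ≫ ptHom a (g.left u') := by
    rw [ptHom, ptHom, ← Functor.map_comp_assoc, ← Functor.map_comp_assoc, hcι]
  rw [this]
  exact mono_comp ((yon S).map c) (ptHom a (g.left u'))

/-- A point with a rational lift is residually trivial. -/
theorem bijective_residueFieldMap_of_lift {W U : Scheme.{u}} (h : W ⟶ U) (u : U)
    (k : Spec (U.residueField u) ⟶ W) (hk : k ≫ h = U.fromSpecResidueField u) :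
    h (k (IsLocalRing.closedPoint _)) = u ∧
      Function.Bijective (h.residueFieldMap (k (IsLocalRing.closedPoint _))) := by
  let K := U.residueField u
  let w : W := k (IsLocalRing.closedPoint K)
  let D : W.residueField w ⟶ K := W.descResidueField (K := K) (Scheme.stalkClosedPointTo k)
  have hD : Spec.map D ≫ W.fromSpecResidueField w = k :=
    Scheme.descResidueField_stalkClosedPointTo_fromSpecResidueField K W k
  have hwu : h w = u := by
    show (k ≫ h) (IsLocalRing.closedPoint K) = u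
    rw [hk]
    exact Scheme.fromSpecResidueField_apply u _
  refine ⟨hwu, (h.residueFieldMap w).hom.injective, fun z => ?_⟩
  have key : h.residueFieldMap w ≫ D = (U.residueFieldCongr hwu).hom := by
    rw [← Spec.map_inj, Spec.map_comp, ← cancel_mono (U.fromSpecResidueField _), Category.assoc,
      Scheme.Hom.SpecMap_residueFieldMap_fromSpecResidueField, ← Category.assoc, hD, hk,
      Scheme.residueFieldCongr_fromSpecResidueField]
  obtain ⟨y, hy⟩ := (ConcreteCategory.bijective_of_isIso (U.residueFieldCongr hwu).hom).2 (D z)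
  rw [← key, CommRingCat.comp_apply] at hy
  exact ⟨y, D.hom.injective hy⟩

/-- Two elementary neighbourhoods are dominated by a third. -/
theorem exists_dominating (hX : IsAlgSpace X) {x : Points X} {U₁ U₂ : Over S} {a₁ : (yon S).obj U₁ ⟶ X}
    {a₂ : (yon S).obj U₂ ⟶ X} {u₁ : U₁.left} {u₂ : U₂.left} (e₁ : IsElemEtaleNbhd a₁ u₁ x)
    (e₂ : IsElemEtaleNbhd a₂ u₂ x) :
    ∃ (U : Over S) (a : (yon S).obj U ⟶ X) (v : U.left) (h₁ : U ⟶ U₁) (h₂ : U ⟶ U₂),
      IsElemEtaleNbhd a v x ∧ (yon S).map h₁ ≫ a₁ = a ∧ (yon S).map h₂ ≫ a₂ = a ∧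
        h₁.left v = u₁ ∧ h₂.left v = u₂ := by
  obtain ⟨R, p, q, sq⟩ := exists_isPullback_of_representable (hX.representable_from_yon a₁) a₂
  obtain ⟨c, hc⟩ := exists_ptFactor hX e₂ e₁.ofPt_eq
  rw [ptHom, ptHom, ← Functor.map_comp_assoc] at hc
  obtain ⟨k, hk₁, hk₂⟩ := exists_lift_yon sq (pointι U₁ u₁) (c ≫ pointι U₂ u₂) hc.symm
  obtain ⟨hv, hb⟩ := bijective_residueFieldMap_of_lift p.left u₁ k.left (congrArg Over.Hom.left hk₁)
  let v : R.left := k.left (IsLocalRing.closedPoint _)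
  have hv2 : q.left v = u₂ := by
    show (k ≫ q).left (IsLocalRing.closedPoint _) = u₂
    rw [hk₂, Over.comp_left, Scheme.Hom.comp_apply]
    exact Scheme.fromSpecResidueField_apply u₂ _
  have hn : Hens2.IsEtaleNbhd p.left v (p.left v) := ⟨repWith_prop e₂.etale sq.flip, rfl, hb⟩
  refine ⟨R, (yon S).map p ≫ a₁, v, p, q, isElem_of_nbhd p v hn (hv.symm ▸ e₁), rfl, sq.w.symm, hv, hv2⟩

/-- Parallel morphisms of elementary neighbourhoods are equalised. -/
theorem exists_equalizing (hX : IsAlgSpace X) {x : Points X} {U₁ U₂ : Over S} {a₁ : (yon S).obj U₁ ⟶ X}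
    {a₂ : (yon S).obj U₂ ⟶ X} {u₁ : U₁.left} {u₂ : U₂.left} (b c : U₁ ⟶ U₂) (e₁ : IsElemEtaleNbhd a₁ u₁ x)
    (e₂ : IsElemEtaleNbhd a₂ u₂ x) (hb : (yon S).map b ≫ a₂ = a₁) (hc : (yon S).map c ≫ a₂ = a₁)
    (hbu : b.left u₁ = u₂) (hcu : c.left u₁ = u₂) :
    ∃ (U : Over S) (a : (yon S).obj U ⟶ X) (v : U.left) (h : U ⟶ U₁),
      IsElemEtaleNbhd a v x ∧ (yon S).map h ≫ a₁ = a ∧ h.left v = u₁ ∧ h ≫ b = h ≫ c := by
  obtain ⟨P, p, q, sq⟩ := exists_isPullback_of_representable (hX.representable_from_yon a₂) a₂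
  obtain ⟨l, hl₁, hl₂⟩ := exists_lift_yon sq b c (hb.trans hc.symm)
  obtain ⟨Δ, hΔ₁, hΔ₂⟩ := exists_lift_yon sq (𝟙 U₂) (𝟙 U₂) rfl
  haveI : Etale p.left := repWith_prop e₂.etale sq.flip
  haveI : Etale (Δ.left ≫ p.left) := by
    rw [← Over.comp_left, hΔ₁]
    exact inferInstanceAs (Etale (𝟙 U₂.left))
  haveI : Etale Δ.left := Etale.of_comp Δ.left p.left
  let E := pullback l.left Δ.left
  let h : Over.mk (pullback.fst l.left Δ.left ≫ U₁.hom) ⟶ U₁ := Over.homMk (pullback.fst l.left Δ.left) rfl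
  have hE : Etale h.left := inferInstanceAs (Etale (pullback.fst l.left Δ.left))
  have hbc : h ≫ b = h ≫ c := Over.OverMorphism.ext (by
    show pullback.fst l.left Δ.left ≫ b.left = pullback.fst l.left Δ.left ≫ c.left
    rw [← hl₁, ← hl₂, Over.comp_left, Over.comp_left, pullback.condition_assoc, pullback.condition_assoc,
      show Δ.left ≫ p.left = 𝟙 U₂.left from congrArg Over.Hom.left hΔ₁,
      show Δ.left ≫ q.left = 𝟙 U₂.left from congrArg Over.Hom.left hΔ₂])
  have hι : pointι U₁ u₁ ≫ b = pointι U₁ u₁ ≫ c := by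
    haveI := mono_ptHom e₂
    obtain ⟨c₁, hc₁⟩ := exists_pointMap_of_eq b u₁ hbu
    obtain ⟨c₂, hc₂⟩ := exists_pointMap_of_eq c u₁ hcu
    have : c₁ = c₂ := (yon S).map_injective ((cancel_mono (ptHom a₂ u₂)).1 (by
      rw [ptHom, ← Functor.map_comp_assoc, ← Functor.map_comp_assoc, hc₁, hc₂, Functor.map_comp_assoc,
        Functor.map_comp_assoc, hb, hc]))
    rw [← hc₁, ← hc₂, this]
  obtain ⟨k, hk₁, -⟩ : ∃ k : Spec (U₁.left.residueField u₁) ⟶ E, k ≫ pullback.fst l.left Δ.left =
      U₁.left.fromSpecResidueField u₁ ∧ True := by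
    refine ⟨pullback.lift (U₁.left.fromSpecResidueField u₁) (pointι U₁ u₁ ≫ b).left ?_, pullback.lift_fst _ _ _,
      trivial⟩
    have hh : pointι U₁ u₁ ≫ l = (pointι U₁ u₁ ≫ b) ≫ Δ := by
      refine (yon S).map_injective (sq.hom_ext ?_ ?_)
      · rw [← Functor.map_comp, ← Functor.map_comp, Category.assoc, hl₁, Category.assoc _ Δ, hΔ₁,
          Category.comp_id]
      · rw [← Functor.map_comp, ← Functor.map_comp, Category.assoc, hl₂, Category.assoc _ Δ, hΔ₂,
          Category.comp_id, hι]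
    exact congrArg Over.Hom.left hh
  obtain ⟨hv, hbij⟩ := bijective_residueFieldMap_of_lift h.left u₁ k hk₁
  refine ⟨_, (yon S).map h ≫ a₁, k (IsLocalRing.closedPoint _), h, ?_, rfl, hv, hbc⟩
  exact isElem_of_nbhd h _ ⟨hE, rfl, hbij⟩ (hv.symm ▸ e₁)

/-- Branch numbers do not depend on the elementary neighbourhood. -/
theorem numBranchesAt_eq_of_hom (hX : IsAlgSpace X) {x : Points X} {U U' : Over S} {a : (yon S).obj U ⟶ X}
    {a' : (yon S).obj U' ⟶ X} (g : U' ⟶ U) (u' : U'.left) (hg : (yon S).map g ≫ a = a')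
    (ha : IsElemEtaleNbhd a (g.left u') x) (ha' : IsElemEtaleNbhd a' u' x) :
    Brnch.numBranchesAt U'.left u' = Brnch.numBranchesAt U.left (g.left u') := by
  have hn := isEtaleNbhd_of_hom hX g u' hg ha ha'
  obtain ⟨T, _, _, _, _, hT⟩ := Groth.L05.Henselization.exists_isHenselization ↥(U'.left.presheaf.stalk u')
  letI : Algebra ↥(U.left.presheaf.stalk (g.left u')) T :=
    ((algebraMap ↥(U'.left.presheaf.stalk u') T).comp (g.left.stalkMap u').hom).toAlgebra
  obtain ⟨_, hT'⟩ := Branch.isHenselization_of_isEtaleNbhd hn T rfl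
  haveI := Groth.L05.Henselization.flat_of_isHenselization ↥(U'.left.presheaf.stalk u') T
  haveI := Groth.L05.Henselization.flat_of_isHenselization ↥(U.left.presheaf.stalk (g.left u')) T
  exact (Branch.card_minimalPrimes_hens ↥(U'.left.presheaf.stalk u') T).symm.trans
    (Branch.card_minimalPrimes_hens ↥(U.left.presheaf.stalk (g.left u')) T)

theorem numBranchesAt_eq (hX : IsAlgSpace X) {x : Points X} {U₁ U₂ : Over S} {a₁ : (yon S).obj U₁ ⟶ X}
    {a₂ : (yon S).obj U₂ ⟶ X} {u₁ : U₁.left} {u₂ : U₂.left} (e₁ : IsElemEtaleNbhd a₁ u₁ x)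
    (e₂ : IsElemEtaleNbhd a₂ u₂ x) : Brnch.numBranchesAt U₁.left u₁ = Brnch.numBranchesAt U₂.left u₂ := by
  obtain ⟨U, a, v, h₁, h₂, he, hh₁, hh₂, rfl, rfl⟩ := exists_dominating hX e₁ e₂
  exact (numBranchesAt_eq_of_hom hX h₁ v hh₁ e₁ he).symm.trans (numBranchesAt_eq_of_hom hX h₂ v hh₂ e₂ he)

/-- The branches are attained on elementary neighbourhoods. -/
theorem exists_elem_components_ge {x : Points X} {U₀ : Over S} {a₀ : (yon S).obj U₀ ⟶ X} {u₀ : U₀.left}
    (h₀ : IsElemEtaleNbhd a₀ u₀ x) (m : ℕ) (hm : (m : ℕ∞) ≤ Brnch.numBranchesAt U₀.left u₀) :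
    ∃ (U : Over S) (a : (yon S).obj U ⟶ X) (u : U.left), IsElemEtaleNbhd a u x ∧
      (m : ℕ∞) ≤ {Z : Set U.left | Z ∈ irreducibleComponents U.left ∧ u ∈ Z}.encard := by
  obtain ⟨W, g, w, hn, hle⟩ := Branch.exists_nbhd_components_ge U₀.left u₀ m hm
  obtain ⟨hg, hgw, hr⟩ := hn
  let g' : Over.mk (g ≫ U₀.hom) ⟶ U₀ := Over.homMk g rfl
  refine ⟨Over.mk (g ≫ U₀.hom), (yon S).map g' ≫ a₀, w, ?_, hle⟩
  refine isElem_of_nbhd g' w ⟨hg, rfl, hr⟩ ?_
  show IsElemEtaleNbhd a₀ (g w) x
  rw [show g w = u₀ from hgw]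
  exact h₀

theorem components_le_numBranchesAt (U : Scheme.{u}) (u : U) :
    {Z : Set U | Z ∈ irreducibleComponents U ∧ u ∈ Z}.encard ≤ Brnch.numBranchesAt U u :=
  Branch.components_le_numBranchesAt ⟨(inferInstance : Etale (𝟙 U)), rfl, by
    rw [Scheme.residueFieldMap_id]
    exact Function.bijective_id⟩

end Groth.L23.Elem
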