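import Groth.Agent.L23.LocP
import Groth.Agent.L23.MorCalc
import Groth.Agent.L20.FibreScheme
import Groth.Agent.L20.FibreCriterion

/-!
# Fibres of chart diagrams and the fibrewise criterion of flatness for algebraic spaces
-/

universe u

open CategoryTheory CategoryTheory.Limits AlgebraicGeometry AlgSp

set_option backward.isDefEq.respectTransparency.types false

namespace Groth.L23

variable {S : Scheme.{u}}

/-- A chart of a morphism gives an etale map on base changes. -/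
theorem repWith_etale_lift {X Z : Sp S} {F : X ⟶ Z} {U W T P : Over S} {a : (yon S).obj U ⟶ X}
    (ha : RepWith @Etale a) {c : (yon S).obj W ⟶ Z} (hc : RepWith @Etale c) {p : U ⟶ W}
    (w : a ≫ F = (yon S).map p ≫ c) {g : T ⟶ W} {pu : P ⟶ U} {pt : P ⟶ T}
    (sq : IsPullback pu pt p g) {Q : Sp S} {fst : Q ⟶ X} {snd : Q ⟶ (yon S).obj T}
    (sqQ : IsPullback fst snd F ((yon S).map g ≫ c)) :
    RepWith @Etale (sqQ.lift ((yon S).map pu ≫ a) ((yon S).map pt)
      (by rw [Category.assoc, w, ← Functor.map_comp_assoc, sq.w, Functor.map_comp, Category.assoc])) := by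
  let P₂ := pullback ((yon S).map p ≫ c) ((yon S).map g ≫ c)
  let m₁ : pullback ((yon S).map p) ((yon S).map g) ⟶ P₂ :=
    pullback.map _ _ _ _ (𝟙 _) (𝟙 _) c (by simp) (by simp)
  have hbd : RepWith @IsOpenImmersion (pullback.diagonal c) :=
    (diagonal_repWith_iff hc.1).2 (repWith_mono (fun g (_ : Etale g) =>
      show IsOpenImmersion (pullback.diagonal g) from inferInstance) hc)
  have hm₁ : RepWith @Etale m₁ :=
    repWith_mono (P := @IsOpenImmersion) (Q := @Etale) (fun g (_ : IsOpenImmersion g) => inferInstance)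
      (repWith_of_isPullback (pullback_map_diagonal_isPullback ((yon S).map p) ((yon S).map g) c) hbd)
  let m₂ : P₂ ⟶ Q := sqQ.lift (pullback.fst _ _ ≫ a) (pullback.snd _ _)
    (by rw [Category.assoc, w, pullback.condition])
  have sq₂ : IsPullback (pullback.fst ((yon S).map p ≫ c) ((yon S).map g ≫ c)) m₂ a fst := by
    refine IsPullback.of_bot (v₂₁ := snd) (v₂₂ := F) ?_ (sqQ.lift_fst _ _ _).symm sqQ
    rw [show m₂ ≫ snd = pullback.snd _ _ from sqQ.lift_snd _ _ _, w]
    exact IsPullback.of_hasPullback _ _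
  have hm₂ : RepWith @Etale m₂ := repWith_of_isPullback sq₂ ha
  let e := (sq.map (yon S)).isoPullback
  have key := repWith_comp (repWith_of_isIso (P := (@Etale : MorphismProperty Scheme.{u})) e.hom)
    (repWith_comp hm₁ hm₂)
  convert key using 1
  apply sqQ.hom_ext
  · simp [m₁, m₂, e, pullback.map, pullback.lift_fst_assoc]
  · simp [m₁, m₂, e, pullback.map, pullback.lift_snd]

/-- The fibres of `f` over the points of `Z` have flat maps. -/
def FibrewiseFlat {X Y Z : Sp S} (f : X ⟶ Y) (h : Y ⟶ Z) : Prop :=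
  ∀ (K : Type u) [Field K] (sK : Spec (CommRingCat.of K) ⟶ S)
    (z : (yon S).obj (Over.mk sK) ⟶ Z) (Xz Yz : Sp S) (pX : Xz ⟶ X)
    (qX : Xz ⟶ (yon S).obj (Over.mk sK)) (pY : Yz ⟶ Y) (qY : Yz ⟶ (yon S).obj (Over.mk sK))
    (fz : Xz ⟶ Yz), IsPullback pX qX (f ≫ h) z → IsPullback pY qY h z → fz ≫ pY = pX ≫ f →
    fz ≫ qY = qX → LocP @Flat fz

theorem flat_fiberMap {X Y Z : Sp S} {f : X ⟶ Y} {h : Y ⟶ Z} (hfib : FibrewiseFlat f h)
    {U V W : Over S} {a : (yon S).obj U ⟶ X} {b : (yon S).obj V ⟶ Y} {c : (yon S).obj W ⟶ Z}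
    (ha : RepWith @Etale a) (hb : RepWith @Etale b) (hc : RepWith @Etale c) {h₀ : U ⟶ V}
    {k : V ⟶ W} (w₁ : a ≫ f = (yon S).map h₀ ≫ b) (w₂ : b ≫ h = (yon S).map k ≫ c)
    (z : W.left) : Flat (MoreMor.fiberMap h₀.left k.left z) := by
  let T : Over S := Over.mk (W.left.fromSpecResidueField z ≫ W.hom)
  let g : T ⟶ W := Over.homMk (W.left.fromSpecResidueField z) rfl
  let PU : Over S := Over.mk ((h₀.left ≫ k.left).fiberι z ≫ U.hom)
  let PV : Over S := Over.mk (k.left.fiberι z ≫ V.hom)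
  let uU : PU ⟶ U := Over.homMk ((h₀.left ≫ k.left).fiberι z) rfl
  let uT : PU ⟶ T := Over.homMk ((h₀.left ≫ k.left).fiberToSpecResidueField z) (by
    show _ ≫ _ ≫ W.hom = _ ≫ U.hom
    rw [← Scheme.Hom.fiber_fac_assoc]
    simp)
  let vV : PV ⟶ V := Over.homMk (k.left.fiberι z) rfl
  let vT : PV ⟶ T := Over.homMk (k.left.fiberToSpecResidueField z) (by
    show _ ≫ _ ≫ W.hom = _ ≫ V.hom
    rw [← Scheme.Hom.fiber_fac_assoc]
    simp)
  let φ : PU ⟶ PV := Over.homMk (MoreMor.fiberMap h₀.left k.left z) (by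
    show _ ≫ k.left.fiberι z ≫ V.hom = _ ≫ U.hom
    rw [← Category.assoc, show MoreMor.fiberMap h₀.left k.left z ≫ k.left.fiberι z =
      (h₀.left ≫ k.left).fiberι z ≫ h₀.left from pullback.lift_fst _ _ _, Category.assoc, Over.w h₀])
  have sqU : IsPullback uU uT (h₀ ≫ k) g :=
    IsPullback.of_map (Over.forget S) (Over.OverMorphism.ext ((h₀.left ≫ k.left).fiber_fac z))
      (IsPullback.of_hasPullback (h₀.left ≫ k.left) (W.left.fromSpecResidueField z))
  have sqV : IsPullback vV vT k g :=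
    IsPullback.of_map (Over.forget S) (Over.OverMorphism.ext (k.left.fiber_fac z))
      (IsPullback.of_hasPullback k.left (W.left.fromSpecResidueField z))
  have wU : a ≫ (f ≫ h) = (yon S).map (h₀ ≫ k) ≫ c := by
    rw [reassoc_of% w₁, w₂, Functor.map_comp, Category.assoc]
  have sqX := IsPullback.of_hasPullback (f ≫ h) ((yon S).map g ≫ c)
  have sqY := IsPullback.of_hasPullback h ((yon S).map g ≫ c)
  let fz := sqY.lift (pullback.fst (f ≫ h) ((yon S).map g ≫ c) ≫ f)
    (pullback.snd (f ≫ h) ((yon S).map g ≫ c)) (by rw [Category.assoc, pullback.condition])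
  have hflat : LocP @Flat fz := hfib (W.left.residueField z) _ ((yon S).map g ≫ c) _ _ _ _ _ _ fz
    sqX sqY (sqY.lift_fst _ _ _) (sqY.lift_snd _ _ _)
  refine hflat _ _ φ (repWith_etale_lift ha hc wU sqU sqX) (repWith_etale_lift hb hc w₂ sqV sqY) ?_
  have e₁ : φ ≫ vV = uU ≫ h₀ := Over.OverMorphism.ext (pullback.lift_fst _ _ _)
  have e₂ : φ ≫ vT = uT := Over.OverMorphism.ext (pullback.lift_snd _ _ _)
  apply sqY.hom_ext
  · simp only [fz, Category.assoc, sqY.lift_fst, sqX.lift_fst_assoc, w₁, ← Functor.map_comp_assoc, e₁]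
  · simp only [fz, Category.assoc, sqY.lift_snd, sqX.lift_snd, ← Functor.map_comp, e₂]

/-- Charts of `f` from a chart of the source and a chart of the target. -/
theorem exists_chart_of_charts {X Y : Sp S} (f : X ⟶ Y) {U₁ V : Over S}
    {a₁ : (yon S).obj U₁ ⟶ X} (ha₁ : RepWith @Etale a₁) (has₁ : RepWith @Surjective a₁)
    {b : (yon S).obj V ⟶ Y} (hb : RepWith @Etale b) (hbs : RepWith @Surjective b) :
    ∃ (U : Over S) (p : U ⟶ U₁) (h₀ : U ⟶ V), Etale p.left ∧
      RepWith @Etale ((yon S).map p ≫ a₁) ∧ RepWith @Surjective ((yon S).map p ≫ a₁) ∧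
      ((yon S).map p ≫ a₁) ≫ f = (yon S).map h₀ ≫ b := by
  obtain ⟨U, h₀, p, sq⟩ := exists_isPullback_of_representable hb.1 (a₁ ≫ f)
  have hp : Etale p.left := repWith_prop hb sq
  have hps : Surjective p.left := repWith_prop hbs sq
  exact ⟨U, p, h₀, hp, repWith_comp (repWith_map hp) ha₁, repWith_comp (repWith_map hps) has₁,
    by rw [Category.assoc, sq.w]⟩

/-- The criterion on chart diagrams implies the criterion for spaces. -/
theorem flat_of_charts {X Y Z : Sp S} {f : X ⟶ Y} {h : Y ⟶ Z} (hfl : LocP @Flat (f ≫ h))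
    (hfib : FibrewiseFlat f h) {U V W : Over S} {a : (yon S).obj U ⟶ X} {b : (yon S).obj V ⟶ Y}
    {c : (yon S).obj W ⟶ Z} {h₀ : U ⟶ V} {k : V ⟶ W}
    (ha : RepWith @Etale a) (has : RepWith @Surjective a)
    (hb : RepWith @Etale b) (hbs : RepWith @Surjective b) (hc : RepWith @Etale c)
    (w₁ : a ≫ f = (yon S).map h₀ ≫ b) (w₂ : b ≫ h = (yon S).map k ≫ c)
    (hcover : ∀ (x : Points X) (v : V.left), Points.map f x = Points.ofPt b v →
      ∃ u : U.left, h₀.left u = v)
    (H : ∀ x : U.left, ((h₀.left ≫ k.left).stalkMap x).hom.Flat →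
      ((MoreMor.fiberMap h₀.left k.left (k.left (h₀.left x))).stalkMap
          ((h₀.left ≫ k.left).asFiber x)).hom.Flat → (h₀.left.stalkMap x).hom.Flat) :
    LocP @Flat f ∧ (IsSurjectiveMor f → LocP @Flat h) := by
  have wU : a ≫ (f ≫ h) = (yon S).map (h₀ ≫ k) ≫ c := by
    rw [reassoc_of% w₁, w₂, Functor.map_comp, Category.assoc]
  have hgf : Flat (h₀.left ≫ k.left) := hfl a c (h₀ ≫ k) ha hc wU
  have hfl₀ : ∀ x : U.left, (h₀.left.stalkMap x).hom.Flat := fun x => by
    have := flat_fiberMap hfib ha hb hc w₁ w₂ (k.left (h₀.left x))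
    exact H x (Flat.stalkMap _ x) (Flat.stalkMap _ _)
  refine ⟨locP_of_chart etLocal_flat ha has hb w₁ (Flat.of_stalkMap _ hfl₀), fun hs => ?_⟩
  refine locP_of_chart etLocal_flat hb hbs hc w₂ (Flat.of_stalkMap _ fun v => ?_)
  obtain ⟨x, hx⟩ := hs (Points.ofPt b v)
  obtain ⟨u₀, rfl⟩ := hcover x v hx
  exact Groth.L20.flat_stalkMap_of_comp h₀.left k.left u₀ (Flat.stalkMap _ u₀) (hfl₀ u₀)

/-- Atlases adapted to `X ⟶ Y ⟶ Z`, etale over given atlases of `X` and `Y`. -/
theorem exists_charts₂ {X Y Z : Sp S} (hZ : IsAlgSpace Z) (f : X ⟶ Y) (h : Y ⟶ Z)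
    {U₁ V₁ : Over S} {a₁ : (yon S).obj U₁ ⟶ X} (ha₁ : RepWith @Etale a₁)
    (has₁ : RepWith @Surjective a₁) {b₁ : (yon S).obj V₁ ⟶ Y} (hb₁ : RepWith @Etale b₁)
    (hbs₁ : RepWith @Surjective b₁) :
    ∃ (U V W : Over S) (a : (yon S).obj U ⟶ X) (b : (yon S).obj V ⟶ Y) (c : (yon S).obj W ⟶ Z)
      (h₀ : U ⟶ V) (k : V ⟶ W) (p : U ⟶ U₁) (q : V ⟶ V₁), Etale p.left ∧ Etale q.left ∧
      RepWith @Etale a ∧ RepWith @Surjective a ∧ RepWith @Etale b ∧ RepWith @Surjective b ∧
      RepWith @Etale c ∧ a ≫ f = (yon S).map h₀ ≫ b ∧ b ≫ h = (yon S).map k ≫ c ∧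
      ∀ (x : Points X) (v : V.left), Points.map f x = Points.ofPt b v →
        ∃ u : U.left, h₀.left u = v := by
  obtain ⟨W, c, hc, hcs⟩ := hZ.atlas
  obtain ⟨V, q, k, hq, hb, hbs, w₂⟩ := exists_chart_of_charts h hb₁ hbs₁ hc hcs
  set b := (yon S).map q ≫ b₁ with hbdef
  obtain ⟨U, h₀, p, sq⟩ := exists_isPullback_of_representable hb.1 (a₁ ≫ f)
  have hp : Etale p.left := repWith_prop hb sq
  have hps : Surjective p.left := repWith_prop hbs sq
  refine ⟨U, V, W, (yon S).map p ≫ a₁, b, c, h₀, k, p, q, hp, hq,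
    repWith_comp (repWith_map hp) ha₁, repWith_comp (repWith_map hps) has₁, hb, hbs, hc,
    by rw [Category.assoc, sq.w], w₂, fun x v hxv => ?_⟩
  obtain ⟨u₁, rfl⟩ := surjective_ofPt has₁ x
  obtain ⟨u, hu, -⟩ := exists_point_of_isPullback sq
    (x := Points.ofScheme V v) (u := u₁) (by
      rw [← Points.ofPt_eq_map_ofScheme, ← hxv, Points.map_ofPt])
  refine ⟨u, (Points.schemeEquiv V).injective ?_⟩
  show Points.ofScheme V _ = Points.ofScheme V v
  rw [← ofPt_map, hu]

theorem flat_of_flat_fibres_lfp {X Y Z : Sp S} (hX : IsAlgSpace X) (hY : IsAlgSpace Y)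
    (hZ : IsAlgSpace Z) {f : X ⟶ Y} {h : Y ⟶ Z} (hfp : LocP @LocallyOfFinitePresentation (f ≫ h))
    (hfl : LocP @Flat (f ≫ h)) (hft : LocP @LocallyOfFiniteType h) (hfib : FibrewiseFlat f h) :
    LocP @Flat f ∧ (IsSurjectiveMor f → LocP @Flat h) := by
  obtain ⟨U₁, a₁, ha₁, has₁⟩ := hX.atlas
  obtain ⟨V₁, b₁, hb₁, hbs₁⟩ := hY.atlas
  obtain ⟨U, V, W, a, b, c, h₀, k, p, q, -, -, ha, has, hb, hbs, hc, w₁, w₂, hcov⟩ :=
    exists_charts₂ hZ f h ha₁ has₁ hb₁ hbs₁
  refine flat_of_charts hfl hfib ha has hb hbs hc w₁ w₂ hcov fun x h₁ h₂ => ?_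
  have : LocallyOfFinitePresentation (h₀.left ≫ k.left) :=
    hfp a c (h₀ ≫ k) ha hc (by rw [reassoc_of% w₁, w₂, Functor.map_comp, Category.assoc])
  have : LocallyOfFiniteType k.left := hft b c k hb hc w₂
  exact Groth.L20.flat_stalkMap_of_fiberMap h₀.left k.left x h₁ h₂

theorem flat_stalkMap_of_fiberMap_noetherian {A B C : Scheme.{u}} [IsLocallyNoetherian A]
    [IsLocallyNoetherian B] (f : A ⟶ B) (g : B ⟶ C) (x : A) (h₁ : ((f ≫ g).stalkMap x).hom.Flat)
    (h₂ : ((MoreMor.fiberMap f g (g (f x))).stalkMap ((f ≫ g).asFiber x)).hom.Flat) :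
    (f.stalkMap x).hom.Flat := by
  rw [Groth.L20.flat_stalkMap_fiberMap_iff] at h₂
  rw [Scheme.Hom.stalkMap_comp] at h₁
  let R := C.presheaf.stalk (g (f x))
  let O := B.presheaf.stalk (f x)
  let U := A.presheaf.stalk x
  letI : Algebra R O := (g.stalkMap (f x)).hom.toAlgebra
  letI : Algebra O U := (f.stalkMap x).hom.toAlgebra
  letI : Algebra R U := (g.stalkMap (f x) ≫ f.stalkMap x).hom.toAlgebra
  haveI : IsScalarTower R O U := IsScalarTower.of_algebraMap_eq fun _ => rfl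
  let p := IsLocalRing.maximalIdeal R
  let q := IsLocalRing.maximalIdeal U
  have hlh : IsLocalHom (algebraMap R U) :=
    inferInstanceAs (IsLocalHom ((f.stalkMap x).hom.comp (g.stalkMap (f x)).hom))
  have hp : p = q.comap (algebraMap R U) :=
    (((IsLocalRing.local_hom_TFAE (algebraMap R U)).out 0 4 rfl rfl).1 hlh : q.comap _ = p).symm
  have hle : p.map (algebraMap R O) ≤ (p.map (algebraMap R U)).comap (algebraMap O U) := by
    rw [IsScalarTower.algebraMap_eq R O U, ← Ideal.map_map]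
    exact Ideal.le_comap_map
  letI : Algebra (O ⧸ p.map (algebraMap R O)) (U ⧸ p.map (algebraMap R U)) :=
    (Ideal.quotientMap _ (algebraMap O U) hle).toAlgebra
  haveI : IsScalarTower O (O ⧸ p.map (algebraMap R O)) (U ⧸ p.map (algebraMap R U)) :=
    IsScalarTower.of_algebraMap_eq fun _ => rfl
  have hB : Module.Flat (O ⧸ p.map (algebraMap R O)) (U ⧸ p.map (algebraMap R U)) := by
    refine Groth.L20.flat_quotientMap_congr rfl ?_ hle h₂
    rw [Scheme.Hom.stalkMap_comp]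
    rfl
  haveI : Module.Flat R U := h₁
  haveI : Module.Flat R (LocalizedModule q.primeCompl U) :=
    Groth.L20.FibreCrit.flat_localizedModule_of_flat (R := R) (S := U) (M := U) q.primeCompl
  have hloc : Module.Flat O (LocalizedModule q.primeCompl U) :=
    Groth.L20.FibreCrit.flat_of_fibre_noetherian (R := R) (S := O) (U := U) (M := U)
      (B := O ⧸ p.map (algebraMap R O)) (T := U ⧸ p.map (algebraMap R U))
      (L := U ⧸ p.map (algebraMap R U)) q p hp
      (Algebra.linearMap U _) (IsBaseChange.linearMap U _)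
      (fun htop => by
        rw [Ideal.eq_top_iff_one, Ideal.Quotient.algebraMap_eq] at htop
        obtain ⟨y, hy, hy1⟩ := (Ideal.mem_map_iff_of_surjective _ Ideal.Quotient.mk_surjective).1 htop
        have h2 : y - 1 ∈ p.map (algebraMap R U) := Ideal.Quotient.eq.1 (hy1.trans (map_one _).symm)
        have h3 : p.map (algebraMap R U) ≤ q := Ideal.map_le_iff_le_comap.2 hp.le
        exact (IsLocalRing.maximalIdeal.isMaximal U).ne_top ((Ideal.eq_top_iff_one _).2
          ((Submodule.sub_mem_iff_right _ hy).1 (h3 h2))))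
      (fun y hy => (IsLocalRing.notMem_maximalIdeal.1 hy).map _)
  have hunit : ∀ y : q.primeCompl, IsUnit (y : U) := fun y => IsLocalRing.notMem_maximalIdeal.1 y.2
  have hbij : Function.Bijective (LocalizedModule.mkLinearMap q.primeCompl U) := by
    refine ⟨fun m m' e => ?_, fun z => ?_⟩
    · obtain ⟨c, hc⟩ := LocalizedModule.mk_eq.1 e
      simp only [one_smul, Submonoid.smul_def, smul_eq_mul] at hc
      exact (hunit c).mul_left_cancel hc
    · induction z using LocalizedModule.induction_on with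
      | h m y =>
        refine ⟨↑(hunit y).unit⁻¹ * m, LocalizedModule.mk_eq.2 ⟨1, ?_⟩⟩
        simp only [one_smul, Submonoid.smul_def, smul_eq_mul, ← mul_assoc, IsUnit.mul_val_inv, one_mul]
  show Module.Flat O U
  exact Module.Flat.of_linearEquiv ((LinearEquiv.ofBijective _ hbij).restrictScalars O)

theorem flat_of_flat_fibres_locNoeth {X Y Z : Sp S} (hZ : IsAlgSpace Z) {f : X ⟶ Y} {h : Y ⟶ Z}
    (hXn : IsLocNoethSp X) (hYn : IsLocNoethSp Y) (hfl : LocP @Flat (f ≫ h))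
    (hfib : FibrewiseFlat f h) : LocP @Flat f ∧ (IsSurjectiveMor f → LocP @Flat h) := by
  obtain ⟨U₁, a₁, ha₁, has₁, hU₁⟩ := hXn
  obtain ⟨V₁, b₁, hb₁, hbs₁, hV₁⟩ := hYn
  obtain ⟨U, V, W, a, b, c, h₀, k, p, q, hp, hq, ha, has, hb, hbs, hc, w₁, w₂, hcov⟩ :=
    exists_charts₂ hZ f h ha₁ has₁ hb₁ hbs₁
  have : IsLocallyNoetherian U₁.left := hU₁
  have : IsLocallyNoetherian V₁.left := hV₁
  have : IsLocallyNoetherian U.left := LocallyOfFiniteType.isLocallyNoetherian p.left
  have : IsLocallyNoetherian V.left := LocallyOfFiniteType.isLocallyNoetherian q.left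
  exact flat_of_charts hfl hfib ha has hb hbs hc w₁ w₂ hcov fun x h₁ h₂ =>
    flat_stalkMap_of_fiberMap_noetherian h₀.left k.left x h₁ h₂

end Groth.L23
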