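import Groth.Agent.L23.SourceReduced
import Mathlib.RingTheory.Flat.FaithfullyFlat.Algebra

/-!
# Reducedness of stalks is etale local
-/

universe u

open CategoryTheory CategoryTheory.Limits AlgebraicGeometry AlgSp Opposite Topology TensorProduct

set_option backward.isDefEq.respectTransparency.types false
set_option linter.style.haveILetI false

namespace Groth.L23

/-- Local rings of schemes etale over a reduced local ring are reduced. -/
theorem isReduced_stalk_of_etale {Y X : Scheme.{u}} (f : Y ⟶ X) [Etale f] (y : Y)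
    [_root_.IsReduced (X.presheaf.stalk (f y))] : _root_.IsReduced (Y.presheaf.stalk y) := by
  obtain ⟨_, ⟨V, hV, rfl⟩, hfy, -⟩ :=
    X.isBasis_affineOpens.exists_subset_of_mem_open (Set.mem_univ (f y)) isOpen_univ
  obtain ⟨_, ⟨U, hU, rfl⟩, hyU, hUV⟩ :=
    Y.isBasis_affineOpens.exists_subset_of_mem_open (show y ∈ f ⁻¹ᵁ V from hfy) (f ⁻¹ᵁ V).2
  have hw := (Groth.L20.weaklyEtale_specMap_iff (f.appLE V U hUV)).1
    (Groth.L20.weaklyEtale_specMap_appLE f hU hV hUV)
  algebraize [(f.appLE V U hUV).hom]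
  have : Algebra.WeaklyEtale Γ(X, V) Γ(Y, U) := hw
  letI : Algebra Γ(X, V) (X.presheaf.stalk (f y)) := (X.presheaf.germ V (f y) hfy).hom.toAlgebra
  have : _root_.IsReduced (X.presheaf.stalk (f y) ⊗[Γ(X, V)] Γ(Y, U)) :=
    Groth.L20.isReduced_of_weaklyEtale (X.presheaf.stalk (f y)) _
  letI := TopCat.Presheaf.algebra_section_stalk Y.presheaf (⟨y, hyU⟩ : U)
  have := hU.isLocalization_stalk ⟨y, hyU⟩
  letI : Algebra Γ(X, V) (Y.presheaf.stalk y) :=
    ((Y.presheaf.germ U y hyU).hom.comp (f.appLE V U hUV).hom).toAlgebra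
  let ψ : X.presheaf.stalk (f y) →ₐ[Γ(X, V)] Y.presheaf.stalk y :=
    { toRingHom := (f.stalkMap y).hom
      commutes' := fun a => by
        show (f.stalkMap y).hom ((X.presheaf.germ V (f y) hfy).hom a) = _
        rw [Scheme.Hom.germ_stalkMap_apply]
        show (Y.presheaf.germ (f ⁻¹ᵁ V) y hfy).hom (f.app V a) = (Y.presheaf.germ U y hyU).hom _
        simp only [Scheme.Hom.appLE, CommRingCat.hom_comp, RingHom.coe_comp, Function.comp_apply]
        exact (TopCat.Presheaf.germ_res_apply Y.presheaf (homOfLE hUV) y hyU _).symm }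
  let g : Γ(Y, U) →ₐ[Γ(X, V)] Y.presheaf.stalk y :=
    { toRingHom := (Y.presheaf.germ U y hyU).hom
      commutes' := fun a => rfl }
  let φ := Algebra.TensorProduct.lift ψ g fun _ _ => Commute.all _ _
  refine ⟨fun z ⟨n, hn⟩ => ?_⟩
  obtain ⟨⟨b, s⟩, e⟩ := IsLocalization.surj (hU.primeIdealOf ⟨y, hyU⟩).asIdeal.primeCompl z
  have hb : algebraMap Γ(Y, U) (Y.presheaf.stalk y) (b ^ n) = 0 := by rw [map_pow, ← e, mul_pow, hn, zero_mul]
  obtain ⟨c, hc⟩ := (IsLocalization.map_eq_zero_iff (hU.primeIdealOf ⟨y, hyU⟩).asIdeal.primeCompl _ _).1 hb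
  have h0 : IsNilpotent ((1 : X.presheaf.stalk (f y)) ⊗ₜ[Γ(X, V)] (c.1 * b)) := ⟨n + 1, by
    rw [Algebra.TensorProduct.tmul_pow, one_pow, mul_pow,
      show (c.1) ^ (n + 1) * b ^ (n + 1) = c.1 ^ n * b * (c.1 * b ^ n) by ring, hc, mul_zero, tmul_zero]⟩
  have h1 : (algebraMap Γ(Y, U) (Y.presheaf.stalk y)) (c.1 * b) = 0 := by
    have := congrArg φ h0.eq_zero
    rw [Algebra.TensorProduct.lift_tmul, map_zero, map_one, one_mul] at this
    exact this
  rw [map_mul, (IsLocalization.map_units _ c).mul_right_eq_zero, ← e] at h1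
  exact (IsLocalization.map_units _ s).mul_left_eq_zero.1 h1

/-- Reducedness of local rings descends along etale morphisms. -/
theorem isReduced_stalk_of_etale' {Y X : Scheme.{u}} (f : Y ⟶ X) [Etale f] (y : Y)
    [_root_.IsReduced (Y.presheaf.stalk y)] : _root_.IsReduced (X.presheaf.stalk (f y)) := by
  algebraize [(f.stalkMap y).hom]
  have : Module.Flat (X.presheaf.stalk (f y)) (Y.presheaf.stalk y) := Flat.stalkMap f y
  have : IsLocalHom (algebraMap (X.presheaf.stalk (f y)) (Y.presheaf.stalk y)) := f.toLRSHom.prop y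
  have := Module.FaithfullyFlat.of_flat_of_isLocalHom (A := X.presheaf.stalk (f y)) (B := Y.presheaf.stalk y)
  exact isReduced_of_injective (algebraMap (X.presheaf.stalk (f y)) (Y.presheaf.stalk y))
    (FaithfulSMul.algebraMap_injective _ _)

/-- Transfer to any chart. -/
theorem hasAt_reduced_stalk {S : Scheme.{u}} {X : Sp S} (hX : IsAlgSpace X) {U : Over S} {a : (yon S).obj U ⟶ X}
    (ha : RepWith @Etale a) (u : U.left)
    (h : HasAt (fun U u => _root_.IsReduced (U.presheaf.stalk u)) X (Points.ofPt a u)) :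
    _root_.IsReduced (U.left.presheaf.stalk u) := by
  obtain ⟨V, b, v, hb, e, hv⟩ := h
  obtain ⟨R, p, q, sq⟩ := exists_isPullback_of_representable (hX.representable_from_yon a) b
  obtain ⟨r, hp, hq⟩ := (ofPt_eq_ofPt_iff sq u v).1 e.symm
  have : Etale p.left := repWith_prop hb sq.flip
  have : Etale q.left := repWith_prop ha sq
  subst hp
  subst hq
  have : _root_.IsReduced (V.left.presheaf.stalk (q.left r)) := hv
  have := isReduced_stalk_of_etale q.left r
  exact isReduced_stalk_of_etale' p.left r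

end Groth.L23
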