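import Groth.Agent.L24.LocQ.SmoothLocalST
import Groth.Agent.L23.LocP

/-!
Properties etale-smooth local on the source and target.
-/

universe u

open CategoryTheory CategoryTheory.Limits AlgebraicGeometry AlgSp

set_option backward.isDefEq.respectTransparency.types false

namespace Groth.L23

variable {S : Scheme.{u}} {P : MorphismProperty (Sp S)} {X Y Z : Sp S}

theorem isEtaleMor_of_isIso (hX : IsAlgSpace X) (hY : IsAlgSpace Y) (f : X ⟶ Y) [IsIso f] : IsEtaleMor f :=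
  (isEtaleMor_iff_locP hX hY f).2 (locP_of_repWith etLocal_etale (repWith_of_isIso f))

theorem locP_smooth_of_isEtaleMor (hX : IsAlgSpace X) (hY : IsAlgSpace Y) {f : X ⟶ Y} (h : IsEtaleMor f) :
    LocP @Smooth f :=
  locP_mono (fun φ (_ : Etale φ) => inferInstanceAs (Smooth φ)) ((isEtaleMor_iff_locP hX hY f).1 h)

theorem etSmST_localOnSource (hP : IsEtaleSmoothLocalST P) : IsLocalOnSource (IsEtCover (S := S)) P :=
  fun _ X Xi g hX hXi hτ Y f hY => ⟨fun hf i => hP.precomp (hXi i) hX hY _ _ (hτ.1 i) hf, fun H =>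
    (hP.locality hX hY f).2 fun x => by
      obtain ⟨i, v, hv⟩ := hτ.2 x
      refine ⟨Y, X, Xi i, 𝟙 Y, 𝟙 X, f, g i, v, hY, hX, hXi i, Groth.L24.LocQ.locP_smooth_of_isIso _,
        IsPullback.of_horiz_isIso ⟨by simp⟩, hτ.1 i, ?_, H i⟩
      rw [Category.comp_id, hv]⟩

theorem etSmST_localOnBase (hP : IsEtaleSmoothLocalST P) : IsLocalOnBase (IsSmCover (S := S)) P :=
  fun _ Y Yi g hY hYi hτ X f hX Xi p q hXi sq => ⟨fun hf i =>
    hP.baseChange hX hY (hXi i) (hYi i) f (g i) (p i) (q i) (sq i) (hτ.1 i) hf, fun H =>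
    (hP.locality hX hY f).2 fun x => by
      obtain ⟨i, y, hy⟩ := hτ.2 (Points.map f x)
      obtain ⟨w, hw, -⟩ := exists_of_isPullback (sq i) x y hy.symm
      exact ⟨Yi i, Xi i, Xi i, g i, q i, p i, 𝟙 _, w, hYi i, hXi i, hXi i, hτ.1 i, sq i,
        isEtaleMor_of_isIso (hXi i) (hXi i) _, by rw [Category.id_comp, hw], by rw [Category.id_comp]; exact H i⟩⟩

/-- The graph of a morphism over an etale morphism is etale. -/
theorem isEtaleMor_graph (hX : IsAlgSpace X) (hY : IsAlgSpace Y) (hZ : IsAlgSpace Z) (f : X ⟶ Y) {g : Y ⟶ Z}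
    (hg : IsEtaleMor g) : IsEtaleMor (pullback.lift (f := f ≫ g) (g := g) (𝟙 X) f (by simp)) := by
  have hW : IsAlgSpace (pullback (f ≫ g) g) :=
    isAlgSpace_of_isPullback hZ.diag hX hY (IsPullback.of_hasPullback _ _)
  rw [isEtaleMor_iff_locP hX hW]
  refine locP_of_comp_of_locP (g := pullback.fst (f ≫ g) g) etLocal_etale (Q := @Etale)
    (fun φ ψ h1 h2 => ?_) hX hW hX ?_ ?_
  · have := h1; have := h2; exact Etale.of_comp φ ψ
  · rw [pullback.lift_fst]; exact locP_of_repWith etLocal_etale (repWith_of_isIso _)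
  · exact locP_of_isPullback etLocal_etale hY hZ hX (IsPullback.of_hasPullback _ _).flip
      ((isEtaleMor_iff_locP hY hZ g).1 hg)

theorem etSmST_postcomp (hP : IsEtaleSmoothLocalST P) (hX : IsAlgSpace X) (hY : IsAlgSpace Y)
    (hZ : IsAlgSpace Z) (f : X ⟶ Y) (g : Y ⟶ Z) (hf : P f) (hg : IsEtaleMor g) : P (f ≫ g) := by
  refine (hP.locality hX hZ _).2 fun x => ⟨Y, pullback (f ≫ g) g, X, g, pullback.fst _ _, pullback.snd _ _,
    pullback.lift (𝟙 X) f (by simp), x, hY, isAlgSpace_of_isPullback hZ.diag hX hY (IsPullback.of_hasPullback _ _),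
    hX, locP_smooth_of_isEtaleMor hY hZ hg, IsPullback.of_hasPullback _ _, isEtaleMor_graph hX hY hZ f hg, ?_, ?_⟩
  · rw [pullback.lift_fst, Points.map_id]
  · rwa [pullback.lift_snd]

theorem etSmST_of_comp (hP : IsEtaleSmoothLocalST P) (hX : IsAlgSpace X) (hY : IsAlgSpace Y)
    (hZ : IsAlgSpace Z) (f : X ⟶ Y) (g : Y ⟶ Z) (hg : IsEtaleMor g) (h : P (f ≫ g)) : P f := by
  have hW : IsAlgSpace (pullback (f ≫ g) g) :=
    isAlgSpace_of_isPullback hZ.diag hX hY (IsPullback.of_hasPullback _ _)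
  have := hP.precomp hX hW hY _ _ (isEtaleMor_graph hX hY hZ f hg)
    (hP.baseChange hX hZ hW hY (f ≫ g) g (pullback.snd _ _) (pullback.fst _ _) (IsPullback.of_hasPullback _ _)
      (locP_smooth_of_isEtaleMor hY hZ hg) h)
  rwa [pullback.lift_snd] at this

end Groth.L23
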