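import Groth.Agent.L23.Basic
import Mathlib.AlgebraicGeometry.Morphisms.LocalFlatDescent
import Mathlib.AlgebraicGeometry.Cover.Sigma

/-!
# fppf coverings, locally surjective maps and descent of properties of representable maps
-/

universe u

open CategoryTheory CategoryTheory.Limits AlgebraicGeometry Opposite AlgSp

namespace Groth.L23

variable {S : Scheme.{u}}

/-- Flat, locally of finite presentation and surjective. -/
abbrev fppfSurj : MorphismProperty Scheme.{u} := @Surjective ⊓ @Flat ⊓ @LocallyOfFinitePresentation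

lemma generate_singleton_mem {T' T : Over S} (g : T' ⟶ T) [Surjective g.left] [Flat g.left]
    [LocallyOfFinitePresentation g.left] : Sieve.generate (Presieve.singleton g) ∈ J S T := by
  rw [GrothendieckTopology.mem_over_iff, Sieve.overEquiv_generate]
  refine GrothendieckTopology.superset_covering _ ?_
    (Precoverage.generate_mem_toGrothendieck g.left.singleton_mem_fppfPrecoverage)
  apply Sieve.generate_mono
  rintro W v ⟨⟩
  exact ⟨_, g, 𝟙 _, Presieve.singleton_self g, by simp⟩

lemma isLocallySurjective_of_repWith {F G : Sp S} (a : F ⟶ G)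
    (h₁ : RepWith @Flat a) (h₂ : RepWith @LocallyOfFinitePresentation a)
    (h₃ : RepWith @Surjective a) : Sheaf.IsLocallySurjective a where
  imageSieve_mem {T} x := by
    have := repWith_prop h₁ (h₁.1.isPullback (toHom x))
    have := repWith_prop h₂ (h₁.1.isPullback (toHom x))
    have := repWith_prop h₃ (h₁.1.isPullback (toHom x))
    refine GrothendieckTopology.superset_covering _ ?_ (generate_singleton_mem (h₁.1.snd (toHom x)))
    rw [Sieve.generate_le_iff]
    rintro W v ⟨⟩
    refine ⟨(J S).uliftYonedaEquiv (h₁.1.fst (toHom x)), ?_⟩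
    change a.hom.app _ _ = _
    rw [← GrothendieckTopology.uliftYonedaEquiv_comp, h₁.1.w,
      ← GrothendieckTopology.uliftYonedaEquiv_naturality, Equiv.apply_symm_apply]

lemma isLocallySurjective_of_etale {F G : Sp S} (a : F ⟶ G)
    (h₁ : RepWith @Etale a) (h₂ : RepWith @Surjective a) : Sheaf.IsLocallySurjective a :=
  isLocallySurjective_of_repWith a
    (repWith_mono (fun f (hf : Etale f) => by infer_instance) h₁)
    (repWith_mono (fun f (hf : Etale f) => by infer_instance) h₁) h₂

/-- Fppf descent along single coverings and Zariski locality give locality for the fppf precoverage. -/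
lemma isLocalAtTarget_fppf (P : MorphismProperty Scheme.{u}) [P.IsStableUnderBaseChange]
    [IsZariskiLocalAtTarget P] [P.DescendsAlong fppfSurj] :
    P.IsLocalAtTarget Scheme.fppfPrecoverage := by
  have hr : P.RespectsIso := inferInstance
  refine MorphismProperty.IsLocalAtTarget.mk_of_small
    (K := Scheme.precoverage (@Flat ⊓ @LocallyOfFinitePresentation))
    (fun {X Y f} 𝒰 hf i => P.pullback_snd _ _ hf) ?_
  intro X Y f 𝒰 h
  let π := (Scheme.Cover.sigma 𝒰).f ⟨⟩
  have hπ : fppfSurj π := by
    obtain ⟨h1, h2⟩ := (Scheme.Cover.sigma 𝒰).map_prop ⟨⟩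
    refine ⟨⟨⟨fun y => ?_⟩, h1⟩, h2⟩
    obtain ⟨i, z, hz⟩ := (Scheme.Cover.sigma 𝒰).exists_eq y
    exact ⟨z, hz⟩
  refine MorphismProperty.of_pullback_snd_of_descendsAlong (Q := fppfSurj) (g := π) hπ ?_
  refine IsZariskiLocalAtTarget.of_openCover (P := P) (sigmaOpenCover 𝒰.X) fun i => ?_
  let e := pullbackLeftPullbackSndIso f π ((sigmaOpenCover 𝒰.X).f i)
  change P (pullback.snd (pullback.snd f π) ((sigmaOpenCover 𝒰.X).f i))
  rw [← pullbackLeftPullbackSndIso_hom_snd, P.cancel_left_of_respectsIso]
  have hi : (sigmaOpenCover 𝒰.X).f i ≫ π = 𝒰.f i := Sigma.ι_desc _ _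
  exact tr _ _ hi.symm (h i)
where
  tr {P : MorphismProperty Scheme.{u}} {X Y W : Scheme.{u}} {f : X ⟶ Y} (g g' : W ⟶ Y)
      (e : g = g') (h : P (pullback.snd f g)) : P (pullback.snd f g') := by
    subst e; exact h

/-- A representable map is `P` if it is so after base change along a locally surjective map. -/
lemma repWith_of_locallySurjective {P : MorphismProperty Scheme.{u}} [P.IsStableUnderBaseChange]
    [P.IsLocalAtTarget Scheme.fppfPrecoverage] {F G H Q : Sp S} {a : F ⟶ G}
    (ha : Representable a) {b : H ⟶ G} [Sheaf.IsLocallySurjective b] {b' : Q ⟶ F} {a' : Q ⟶ H}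
    (sq : IsPullback b' a' a b) (h : RepWith P a') : RepWith P a := by
  refine repWith_of_snd ha fun T g => ?_
  have hmem := Presheaf.imageSieve_mem (J S) b.hom (U := op T) ((J S).uliftYonedaEquiv g)
  rw [GrothendieckTopology.mem_over_iff] at hmem
  have : Scheme.fppfPrecoverage.{u}.HasPullbacks := by
    unfold Scheme.fppfPrecoverage; infer_instance
  have : Scheme.fppfPrecoverage.{u}.HasIsos := by
    unfold Scheme.fppfPrecoverage
    have : MorphismProperty.ContainsIdentities (@Flat ⊓ @LocallyOfFinitePresentation) :=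
      ⟨fun X => ⟨inferInstanceAs (Flat (𝟙 X)), inferInstanceAs (LocallyOfFinitePresentation (𝟙 X))⟩⟩
    infer_instance
  obtain ⟨R, hR, hle⟩ :=
    (Precoverage.mem_toGrothendieck_iff_of_isStableUnderComposition (J := Scheme.fppfPrecoverage)).1 hmem
  refine MorphismProperty.IsLocalAtTarget.of_forall_pullbackSnd (P := P) hR ?_
  intro U v _ hv
  have hv' : (Presheaf.imageSieve b.hom ((J S).uliftYonedaEquiv g)).arrows
      (Over.homMk v rfl : Over.mk (v ≫ T.hom) ⟶ T) :=
    (Sieve.overEquiv_iff (Y := T) _ _).1 (hle _ v hv)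
  obtain ⟨y, hy⟩ := hv'
  let v' : Over.mk (v ≫ T.hom) ⟶ T := Over.homMk v rfl
  have hl : toHom y ≫ b = (yon S).map v' ≫ g := by
    apply (J S).uliftYonedaEquiv.injective
    rw [GrothendieckTopology.uliftYonedaEquiv_comp, Equiv.apply_symm_apply,
      ← GrothendieckTopology.uliftYonedaEquiv_naturality]
    exact hy
  have sq₀ : IsPullback (pullback.fst (ha.snd g) v') (pullback.snd _ _) (ha.snd g) v' :=
    IsPullback.of_hasPullback _ _
  have sq₁ := (sq₀.map (yon S)).paste_horiz (ha.isPullback g)
  rw [← hl] at sq₁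
  let k := sq.lift ((yon S).map (pullback.fst (ha.snd g) v') ≫ ha.fst g)
    ((yon S).map (pullback.snd (ha.snd g) v') ≫ toHom y) (by simpa using sq₁.w)
  have sq₂ : IsPullback k ((yon S).map (pullback.snd (ha.snd g) v')) a' (toHom y) := by
    refine IsPullback.of_right ?_ (sq.lift_snd _ _ _) sq
    rwa [sq.lift_fst]
  have hP := repWith_prop h sq₂
  have sq₃ := sq₀.map (Over.forget S)
  refine (P.cancel_left_of_respectsIso sq₃.isoPullback.hom _).1 ?_
  have e : sq₃.isoPullback.hom ≫ pullback.snd (ha.snd g).left v =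
      (pullback.snd (ha.snd g) v').left := sq₃.isoPullback_hom_snd
  exact e ▸ hP

/-- Descent of a property of a representable map along an etale surjective map from a scheme. -/
lemma repWith_iff_of_chart {P : MorphismProperty Scheme.{u}} [P.IsStableUnderBaseChange]
    [P.IsLocalAtTarget Scheme.fppfPrecoverage] {F G : Sp S} {f : F ⟶ G} (hf : Representable f)
    {U V : Over S} {q : (yon S).obj U ⟶ G} [Sheaf.IsLocallySurjective q]
    {fst : (yon S).obj V ⟶ F} {g : V ⟶ U} (sq : IsPullback fst ((yon S).map g) f q) :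
    RepWith P f ↔ P g.left :=
  ⟨fun h => repWith_prop h sq, fun h => repWith_of_locallySurjective hf sq (repWith_map h)⟩

end Groth.L23
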