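import Groth.Prelude.Def_AlgSp
import Mathlib.CategoryTheory.Sites.LocallySurjective
import Mathlib.CategoryTheory.Sites.EpiMono

/-!
# Basic formal facts on representable maps of fppf sheaves
-/

universe u

open CategoryTheory CategoryTheory.Limits AlgebraicGeometry Opposite AlgSp

namespace Groth.L23

variable {S : Scheme.{u}}

section RepWith

variable {P Q : MorphismProperty Scheme.{u}} {F G H : Sp S}

lemma repWith_rep {f : F ⟶ G} (h : RepWith P f) : Representable f := h.1

lemma repWith_prop {f : F ⟶ G} (h : RepWith P f) {U V : Over S} {g : (yon S).obj U ⟶ G}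
    {fst : (yon S).obj V ⟶ F} {snd : V ⟶ U} (sq : IsPullback fst ((yon S).map snd) f g) :
    P snd.left :=
  h.2 g fst snd sq

lemma repWith_mono (hPQ : ∀ {X Y : Scheme.{u}} (f : X ⟶ Y), P f → Q f) {f : F ⟶ G}
    (h : RepWith P f) : RepWith Q f :=
  ⟨h.1, fun _ _ g fst snd sq => hPQ _ (h.2 g fst snd sq)⟩

lemma repWith_inf_iff {f : F ⟶ G} : RepWith (P ⊓ Q) f ↔ RepWith P f ∧ RepWith Q f :=
  ⟨fun h => ⟨repWith_mono (fun _ h => h.1) h, repWith_mono (fun _ h => h.2) h⟩,
    fun h => ⟨h.1.1, fun _ _ g fst snd sq => ⟨h.1.2 g fst snd sq, h.2.2 g fst snd sq⟩⟩⟩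

/-- It is enough to have the property for some represented pullback over each test scheme. -/
lemma repWith_of_exists [P.IsStableUnderBaseChange] {f : F ⟶ G}
    (h : ∀ (U : Over S) (g : (yon S).obj U ⟶ G), ∃ (V : Over S) (fst : (yon S).obj V ⟶ F)
      (snd : V ⟶ U), IsPullback fst ((yon S).map snd) f g ∧ P snd.left) : RepWith P f :=
  MorphismProperty.relative.of_exists fun U g => by
    obtain ⟨V, fst, snd, sq, hP⟩ := h U g
    exact ⟨V, fst, snd, sq, hP⟩

lemma repWith_of_snd [P.IsStableUnderBaseChange] {f : F ⟶ G} (hf : Representable f)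
    (h : ∀ (U : Over S) (g : (yon S).obj U ⟶ G), P (hf.snd g).left) : RepWith P f :=
  repWith_of_exists fun U g => ⟨_, _, _, hf.isPullback g, h U g⟩

lemma repWith_snd {f : F ⟶ G} (h : RepWith P f) {U : Over S} (g : (yon S).obj U ⟶ G) :
    P (h.1.snd g).left :=
  repWith_prop h (h.1.isPullback g)

lemma repWith_comp [P.IsStableUnderBaseChange] [P.IsStableUnderComposition] {f : F ⟶ G}
    {g : G ⟶ H} (hf : RepWith P f) (hg : RepWith P g) : RepWith P (f ≫ g) :=
  MorphismProperty.comp_mem _ _ _ hf hg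

lemma representable_comp {f : F ⟶ G} {g : G ⟶ H} (hf : Representable f) (hg : Representable g) :
    Representable (f ≫ g) :=
  MorphismProperty.comp_mem _ _ _ hf hg

lemma repWith_of_isPullback {F' G' : Sp S} {f : F ⟶ G} {a : F' ⟶ F} {b : G' ⟶ G} {f' : F' ⟶ G'}
    (sq : IsPullback a f' f b) (h : RepWith P f) : RepWith P f' :=
  (repWith_isStableUnderBaseChange P).of_isPullback sq h

lemma representable_of_isPullback {F' G' : Sp S} {f : F ⟶ G} {a : F' ⟶ F} {b : G' ⟶ G}
    {f' : F' ⟶ G'} (sq : IsPullback a f' f b) (h : Representable f) : Representable f' :=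
  (Functor.relativelyRepresentable.isStableUnderBaseChange (yon S)).of_isPullback sq h

lemma representable_of_isIso (f : F ⟶ G) [IsIso f] : Representable f :=
  Functor.relativelyRepresentable.of_isIso _ f

lemma repWith_of_isIso [P.IsStableUnderBaseChange] [P.ContainsIdentities] (f : F ⟶ G) [IsIso f] :
    RepWith P f :=
  repWith_of_exists fun U g =>
    ⟨U, g ≫ inv f, 𝟙 U, IsPullback.of_vert_isIso ⟨by simp⟩, P.id_mem _⟩

lemma repWith_map [P.IsStableUnderBaseChange] {U V : Over S} {g : U ⟶ V} (h : P g.left) :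
    RepWith P ((yon S).map g) :=
  (repWith_yon_map_iff P g).2 h

end RepWith

/-- A pullback of two maps out of representables, represented. -/
lemma exists_isPullback_of_representable {F : Sp S} {U V : Over S} {a : (yon S).obj U ⟶ F}
    (ha : Representable a) (b : (yon S).obj V ⟶ F) :
    ∃ (W : Over S) (p : W ⟶ U) (q : W ⟶ V), IsPullback ((yon S).map p) ((yon S).map q) a b :=
  ⟨_, _, _, ha.isPullback' b⟩

/-- Yoneda: the map `h_T ⟶ F` of a section. -/
noncomputable abbrev toHom {F : Sp S} {T : Over S} (x : F.obj.obj (op T)) : (yon S).obj T ⟶ F :=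
  (J S).uliftYonedaEquiv.symm x

lemma hom_ext_yon {F G : Sp S} {a b : F ⟶ G}
    (h : ∀ (T : Over S) (x : (yon S).obj T ⟶ F), x ≫ a = x ≫ b) : a = b := by
  apply Sheaf.hom_ext
  refine NatTrans.ext (funext fun T => ?_)
  obtain ⟨T⟩ := T
  ext x
  have e := congrArg (J S).uliftYonedaEquiv (h T (toHom x))
  rw [GrothendieckTopology.uliftYonedaEquiv_comp, GrothendieckTopology.uliftYonedaEquiv_comp,
      Equiv.apply_symm_apply] at e
  exact e

lemma mono_of_yon {F G : Sp S} {f : F ⟶ G}
    (h : ∀ (T : Over S) (x y : (yon S).obj T ⟶ F), x ≫ f = y ≫ f → x = y) : Mono f :=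
  ⟨fun a b w => hom_ext_yon fun T x => h T _ _ (by simp [w])⟩

/-- Monomorphic in the representable sense implies monomorphism of sheaves. -/
lemma mono_of_repWith {P : MorphismProperty Scheme.{u}}
    (hP : P ≤ MorphismProperty.monomorphisms Scheme.{u}) {F G : Sp S} {f : F ⟶ G}
    (h : RepWith P f) : Mono f := by
  refine mono_of_yon fun T x y w => ?_
  have hm : Mono (h.1.snd (x ≫ f)) := (Over.forget S).mono_of_mono_map (hP _ (repWith_snd h _))
  have key : h.1.lift (g := x ≫ f) x (𝟙 T) (by simp) =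
      h.1.lift (g := x ≫ f) y (𝟙 T) (by simp [w]) := by
    rw [← cancel_mono (h.1.snd (x ≫ f)), h.1.lift_snd, h.1.lift_snd]
  simpa using congrArg (fun k => (yon S).map k ≫ h.1.fst (x ≫ f)) key

end Groth.L23
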