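import Groth.Agent.L23.PSheaf

/-!
# Maps of presheaves representable by algebraic spaces
-/

universe u

open CategoryTheory CategoryTheory.Limits AlgebraicGeometry Opposite AlgSp

set_option backward.isDefEq.respectTransparency.types false

namespace Groth.L23

variable {S : Scheme.{u}}

attribute [local simp] prod.lift_fst prod.lift_snd prod.lift_fst_assoc prod.lift_snd_assoc
  prod.map_fst prod.map_snd prod.map_fst_assoc prod.map_snd_assoc
  pullback.lift_fst pullback.lift_snd pullback.lift_fst_assoc pullback.lift_snd_assoc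

lemma repBySp_of_isPullback {F G F' G' : PSp S} {a : F ⟶ G} {p : F' ⟶ F} {q : G' ⟶ G}
    {a' : F' ⟶ G'} (sq : IsPullback p a' a q) (ha : RepBySp a) : RepBySp a' :=
  fun _ ξ _ _ _ sq' => ha (ξ ≫ q) _ _ (sq'.paste_horiz sq)

instance repBySp_isStableUnderBaseChange : (RepBySp (S := S)).IsStableUnderBaseChange where
  of_isPullback sq h := repBySp_of_isPullback sq h

lemma repBySp_of_relativelyRepresentable {F G : PSp S} {a : F ⟶ G}
    (ha : (pyon S).relativelyRepresentable a) : RepBySp a := by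
  intro U ξ F' fst snd sq
  obtain ⟨V, j, i, sq'⟩ := ha ξ
  exact ((isAlgSpaceP_obj_iff _).2 (IsAlgSpace.yon_obj V)).of_iso (sq'.isoIsPullback _ _ sq)

lemma repBySp_of_isIso {F G : PSp S} (a : F ⟶ G) [IsIso a] : RepBySp a :=
  repBySp_of_relativelyRepresentable (Functor.relativelyRepresentable.of_isIso _ a)

lemma isAlgSpaceP_of_isPullback {H X Y P : PSp S} (hH : IsAlgSpaceP H) (hX : IsAlgSpaceP X)
    (hY : IsAlgSpaceP Y) {f : X ⟶ H} {g : Y ⟶ H} {fst : P ⟶ X} {snd : P ⟶ Y}
    (sq : IsPullback fst snd f g) : IsAlgSpaceP P := by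
  obtain ⟨h₀, hH⟩ := hH
  obtain ⟨h₁, hX⟩ := hX
  obtain ⟨h₂, hY⟩ := hY
  have hs := isSheaf_of_isPullback (F := ⟨X, h₁⟩) (G := ⟨H, h₀⟩) (H := ⟨Y, h₂⟩) sq
  exact ⟨hs, isAlgSpace_of_isPullback (H := ⟨H, h₀⟩) hH.diag hX hY
    (P := ⟨P, hs⟩) (f := ObjectProperty.homMk f) (g := ObjectProperty.homMk g)
    (fst := ObjectProperty.homMk fst) (snd := ObjectProperty.homMk snd)
    (IsPullback.of_map_of_faithful (sheafToPresheaf (J S) (Type (u + 1))) sq)⟩

/-- The diagonal of a map representable by algebraic spaces is representable by schemes. -/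
theorem relativelyRepresentable_diagonal_of_repBySp {F G : PSp S} {a : F ⟶ G} (ha : RepBySp a) :
    (pyon S).relativelyRepresentable (pullback.diagonal a) := by
  intro E e
  let r := e ≫ pullback.fst _ _ ≫ a
  have sq := IsPullback.of_hasPullback a r
  obtain ⟨hZ, hZ'⟩ := ha r _ _ sq
  let σ := sq.lift (e ≫ pullback.fst _ _) (𝟙 _) (by simp [r])
  let τ := sq.lift (e ≫ pullback.snd _ _) (𝟙 _) (by simp [r, pullback.condition])
  let σ' : (yon S).obj E ⟶ (⟨_, hZ⟩ : Sp S) := ObjectProperty.homMk σ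
  let τ' : (yon S).obj E ⟶ (⟨_, hZ⟩ : Sp S) := ObjectProperty.homMk τ
  have hσ : Representable σ' := hZ'.representable_from_yon σ'
  have sqW : IsPullback ((pyon S).map (hσ.fst' τ')) ((pyon S).map (hσ.snd τ')) σ τ :=
    (hσ.isPullback' τ').map (sheafToPresheaf (J S) (Type (u + 1)))
  have hfs : hσ.fst' τ' = hσ.snd τ' := by
    refine (pyon S).map_injective ?_
    have := congrArg (fun k => k ≫ pullback.snd a r) sqW.w
    simpa [σ, τ] using this
  refine ⟨_, hσ.fst' τ', (pyon S).map (hσ.fst' τ') ≫ e ≫ pullback.fst _ _, ?_⟩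
  refine IsPullback.mk' ?_ (fun T φ φ' h₁ h₂ => sqW.hom_ext h₂ (by rwa [← hfs])) ?_
  · apply pullback.hom_ext
    · simp
    · have := congrArg (fun k => k ≫ pullback.fst a r) sqW.w
      simp [σ, τ] at this
      simpa [hfs] using this
  · intro Z z w h
    have h₁ : w ≫ e ≫ pullback.fst _ _ = z := by simpa using (h =≫ pullback.fst _ _).symm
    have h₂ : w ≫ e ≫ pullback.snd _ _ = z := by simpa using (h =≫ pullback.snd _ _).symm
    have hw : w ≫ σ = w ≫ τ := by
      apply sq.hom_ext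
      · simp [σ, τ, h₁, h₂]
      · simp [σ, τ]
    exact ⟨sqW.lift w w hw, by simp [h₁], by simp⟩

theorem repBySp_diagonal {F G : PSp S} {a : F ⟶ G} (ha : RepBySp a) :
    RepBySp (pullback.diagonal a) :=
  repBySp_of_relativelyRepresentable (relativelyRepresentable_diagonal_of_repBySp ha)

theorem isAlgSpaceP_of_repBySp {F G : PSp S} {a : F ⟶ G} (ha : RepBySp a) (hG : IsAlgSpaceP G) :
    IsAlgSpaceP F := by
  obtain ⟨hG₀, hG⟩ := hG
  have hF₀ := isSheaf_of_repBySp a ha hG₀
  let F₁ : Sp S := ⟨F, hF₀⟩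
  let G₁ : Sp S := ⟨G, hG₀⟩
  let a₁ : F₁ ⟶ G₁ := ObjectProperty.homMk a
  refine ⟨hF₀, ?_, ?_⟩
  · change Representable (Limits.diag F₁)
    rw [show Limits.diag F₁ = pullback.diagonal a₁ ≫
        prod.lift (pullback.fst a₁ a₁) (pullback.snd a₁ a₁) by ext <;> simp]
    refine representable_comp ?_
      (representable_of_isPullback (isPullback_diag (IsPullback.of_hasPullback a₁ a₁)) hG.diag)
    let Φ := sheafToPresheaf (J S) (Type (u + 1))
    refine representable_of_pyon _ ?_
    have h := relativelyRepresentable_diagonal_of_repBySp ha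
    have sq := (IsPullback.of_hasPullback a₁ a₁).map Φ
    have hd : (pullback.diagonal a₁).hom = pullback.diagonal a ≫ sq.isoPullback.inv := by
      apply sq.hom_ext
      · rw [Category.assoc]
        erw [sq.isoPullback_inv_fst, pullback.diagonal_fst]
        exact congrArg (fun k => k.hom) (pullback.diagonal_fst a₁)
      · rw [Category.assoc]
        erw [sq.isoPullback_inv_snd, pullback.diagonal_snd]
        exact congrArg (fun k => k.hom) (pullback.diagonal_snd a₁)
    rw [hd]
    exact (Functor.relativelyRepresentable.respectsIso (pyon S)).toRespectsRight.postcomp _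
      (inferInstance : IsIso _) _ h
  · obtain ⟨U, p, hp, hp'⟩ := hG.atlas
    have sq := IsPullback.of_hasPullback a₁ p
    have hZ : IsAlgSpace (pullback a₁ p) :=
      (repBySp_hom_iff a₁).1 ha p _ _ sq
    obtain ⟨W, q, hq, hq'⟩ := hZ.atlas
    exact ⟨W, q ≫ pullback.fst a₁ p, repWith_comp hq (repWith_of_isPullback sq.flip hp),
      repWith_comp hq' (repWith_of_isPullback sq.flip hp')⟩

theorem isAlgSpaceP_pullback {F G F' X : PSp S} {a : F ⟶ G} (ha : RepBySp a) (hX : IsAlgSpaceP X)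
    {ξ : X ⟶ G} {fst : F' ⟶ X} {snd : F' ⟶ F} (sq : IsPullback fst snd ξ a) : IsAlgSpaceP F' :=
  isAlgSpaceP_of_repBySp (repBySp_of_isPullback sq.flip ha) hX

theorem repBySp_comp {F G H : PSp S} {a : F ⟶ G} {b : G ⟶ H} (ha : RepBySp a) (hb : RepBySp b) :
    RepBySp (a ≫ b) := by
  intro U ξ F' fst snd sq
  have sq₁ := IsPullback.of_hasPullback b ξ
  let k := sq₁.lift (fst ≫ a) snd (by simp [sq.w])
  have sq₂ : IsPullback fst k a (pullback.fst b ξ) := by
    refine IsPullback.of_bot ?_ (sq₁.lift_fst _ _ _).symm sq₁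
    rwa [sq₁.lift_snd]
  exact isAlgSpaceP_pullback ha (hb ξ _ _ sq₁) sq₂.flip

instance repBySp_isStableUnderComposition : (RepBySp (S := S)).IsStableUnderComposition where
  comp_mem _ _ hf hg := repBySp_comp hf hg

theorem repBySp_of_comp {F G H : PSp S} {a : F ⟶ G} {b : G ⟶ H}
    (hΔ : RepBySp (pullback.diagonal b)) (hab : RepBySp (a ≫ b)) : RepBySp a := by
  have hfac : a = pullback.lift (𝟙 F) a (by simp) ≫ pullback.snd (a ≫ b) b := by simp
  rw [hfac]
  refine repBySp_comp (repBySp_of_isPullback (p := a) (q := pullback.lift (pullback.fst _ _ ≫ a)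
      (pullback.snd _ _) (by simp [pullback.condition])) ?_ hΔ)
    (repBySp_of_isPullback (IsPullback.of_hasPullback (a ≫ b) b) hab)
  refine IsPullback.mk' (by apply pullback.hom_ext <;> simp) ?_ ?_
  · intro Z φ φ' h₁ h₂
    simpa using h₂ =≫ pullback.fst _ _
  · intro Z z w h
    have h₁ : z = w ≫ pullback.fst _ _ ≫ a := by simpa using h =≫ pullback.fst b b
    have h₂ : z = w ≫ pullback.snd _ _ := by simpa using h =≫ pullback.snd b b
    exact ⟨w ≫ pullback.fst _ _, by simp [h₁], by apply pullback.hom_ext <;> simp [← h₁, ← h₂]⟩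

theorem repBySp_diag_iff (F : PSp S) :
    RepBySp (Limits.diag F) ↔ ∀ (T : Over S) (ξ : (pyon S).obj T ⟶ F), RepBySp ξ := by
  constructor
  · intro h T ξ U η Z fst snd sq
    have sq' := isPullback_diag sq
    let c := prodComparison (pyon S) T U
    have sq'' : IsPullback (fst ≫ ξ) (prod.lift fst snd ≫ inv c) (Limits.diag F)
        (c ≫ prod.map ξ η) := by
      refine IsPullback.of_iso sq' (Iso.refl _) (Iso.refl _) (asIso c).symm (Iso.refl _) ?_ ?_ ?_ ?_
      all_goals simp
    exact h _ _ _ sq''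
  · intro h T g F' fst snd sq
    have sq₁ := IsPullback.of_hasPullback (g ≫ prod.fst) (g ≫ prod.snd)
    have hZ : IsAlgSpaceP (pullback (g ≫ prod.fst) (g ≫ prod.snd)) := h T _ _ _ _ sq₁
    have e₁ : fst = snd ≫ g ≫ prod.fst := by simpa using sq.w =≫ prod.fst
    have e₂ : fst = snd ≫ g ≫ prod.snd := by simpa using sq.w =≫ prod.snd
    let c := prodComparison (pyon S) T T
    let k := sq₁.lift snd snd (by rw [← e₁, ← e₂])
    refine isAlgSpaceP_of_isPullback (H := (pyon S).obj (T ⨯ T)) (X := (pyon S).obj T)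
      (Y := pullback (g ≫ prod.fst) (g ≫ prod.snd)) ((isAlgSpaceP_obj_iff _).2 (IsAlgSpace.yon_obj _))
      ((isAlgSpaceP_obj_iff _).2 (IsAlgSpace.yon_obj _)) hZ (f := (pyon S).map (Limits.diag T))
      (g := prod.lift (pullback.fst _ _) (pullback.snd _ _) ≫ inv c)
      (fst := snd) (snd := k) ?_
    refine IsPullback.mk' ?_ (fun Z φ φ' h₁ _ => sq.hom_ext (by simp [e₁, reassoc_of% h₁]) h₁) ?_
    · rw [← cancel_mono c]
      ext <;> simp [c, k, ← Functor.map_comp]
    · intro Z x y w
      have w₁ := w =≫ (pyon S).map prod.fst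
      have w₂ := w =≫ (pyon S).map prod.snd
      have i₁ : inv c ≫ (pyon S).map prod.fst = prod.fst := by
        simp [c]
      have i₂ : inv c ≫ (pyon S).map prod.snd = prod.snd := by
        simp [c]
      simp [i₁, i₂, ← Functor.map_comp] at w₁ w₂
      obtain ⟨hx, hy⟩ : x = y ≫ pullback.fst _ _ ∧ x = y ≫ pullback.snd _ _ := ⟨w₁, w₂⟩
      have e : x ≫ g ≫ prod.fst = x ≫ g ≫ prod.snd := by
        conv_lhs => rw [hx]
        conv_rhs => rw [hy]
        simp [pullback.condition]
      have e' : (x ≫ g ≫ prod.fst) ≫ Limits.diag F = x ≫ g := by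
        apply prod.hom_ext
        · simp
        · simpa using e
      refine ⟨sq.lift _ x e', sq.lift_snd _ _ _, ?_⟩
      apply pullback.hom_ext <;> simp [k, ← hx, ← hy]

end Groth.L23
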