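import Groth.Agent.L23.LocP
import Groth.Agent.L23.MorCalc
import Groth.Agent.L23.Epi
import Groth.Agent.L23.FieldMono
import Groth.Agent.L23.OpenSub
import Groth.Agent.L23.QFDescent
import Mathlib.AlgebraicGeometry.Morphisms.FlatMono

/-!
# Unramified morphisms, universally injective morphisms and etale monomorphisms
-/

universe u

open CategoryTheory CategoryTheory.Limits AlgebraicGeometry AlgSp

set_option backward.isDefEq.respectTransparency.types false

namespace Groth.L23

variable {S : Scheme.{u}} {X Y : Sp S}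

theorem repWith_isOpenImmersion_diagonal_of_unramified (hX : IsAlgSpace X) (hY : IsAlgSpace Y)
    {f : X ⟶ Y} (hf : LocP (@LocallyOfFiniteType ⊓ @FormallyUnramified) f) :
    RepWith @IsOpenImmersion (pullback.diagonal f) := by
  obtain ⟨U, V, a, b, h, ha, has, hb, hbs, w⟩ := exists_chart hX hY f
  obtain ⟨h₁, h₂⟩ := hf a b h ha hb w
  have := h₁; have := h₂
  let δ : U ⟶ pullback h h := pullback.diagonal h
  have hδ : IsOpenImmersion δ.left := by
    have sq : IsPullback ((pullback.fst h h).left) ((pullback.snd h h).left) h.left h.left :=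
      (IsPullback.of_hasPullback h h).map (Over.forget S)
    have e : δ.left ≫ sq.isoPullback.hom = pullback.diagonal h.left := by
      apply pullback.hom_ext <;> simp [δ, ← Over.comp_left]
    exact (MorphismProperty.cancel_right_of_respectsIso (P := @IsOpenImmersion) δ.left
      sq.isoPullback.hom).1 (e ▸ inferInstance)
  let p : (yon S).obj (pullback h h) ⟶ pullback f f :=
    pullback.lift ((yon S).map (pullback.fst h h) ≫ a) ((yon S).map (pullback.snd h h) ≫ a) (by
      simp only [Category.assoc, w, ← Functor.map_comp_assoc, pullback.condition])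
  have hp : RepWith @Etale p := by
    let W := (yon S).obj V
    let P := pullback ((yon S).map h) ((yon S).map h)
    let c := pullback.map ((yon S).map h) ((yon S).map h) ((yon S).map h ≫ b) ((yon S).map h ≫ b)
      (𝟙 _) (𝟙 _) b (by simp) (by simp)
    have hc : RepWith @Etale c := by
      have hbd : RepWith @IsOpenImmersion (pullback.diagonal b) :=
        (diagonal_repWith_iff hb.1).2 (repWith_mono (fun g (_ : Etale g) =>
          show IsOpenImmersion (pullback.diagonal g) from inferInstance) hb)
      exact repWith_mono (P := @IsOpenImmersion) (Q := @Etale) (fun g (_ : IsOpenImmersion g) => inferInstance)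
        (repWith_of_isPullback (pullback_map_diagonal_isPullback ((yon S).map h) ((yon S).map h) b) hbd)
    let aa : pullback (a ≫ f) (a ≫ f) ⟶ pullback f f :=
      pullback.map (a ≫ f) (a ≫ f) f f a a (𝟙 Y) (by simp) (by simp)
    have haa : RepWith @Etale aa := by
      let a₁ : pullback (a ≫ f) (a ≫ f) ⟶ pullback f (a ≫ f) :=
        pullback.map _ _ _ _ a (𝟙 _) (𝟙 Y) (by simp) (by simp)
      let a₂ : pullback f (a ≫ f) ⟶ pullback f f :=
        pullback.map _ _ _ _ (𝟙 _) a (𝟙 Y) (by simp) (by simp)
      have e : a₁ ≫ a₂ = aa := by apply pullback.hom_ext <;> simp [pullback.map, pullback.lift_fst, pullback.lift_snd, pullback.lift_fst_assoc, pullback.lift_snd_assoc, a₁, a₂, aa]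
      have s₁ : IsPullback (pullback.fst (a ≫ f) (a ≫ f)) a₁ a (pullback.fst f (a ≫ f)) := by
        refine IsPullback.of_bot ?_ (by simp [pullback.map, pullback.lift_fst, pullback.lift_snd, pullback.lift_fst_assoc, pullback.lift_snd_assoc, a₁]) (IsPullback.of_hasPullback f (a ≫ f))
        simpa [pullback.map, pullback.lift_fst, pullback.lift_snd, pullback.lift_fst_assoc, pullback.lift_snd_assoc, a₁] using IsPullback.of_hasPullback (a ≫ f) (a ≫ f)
      have s₂ : IsPullback (pullback.snd f (a ≫ f)) a₂ a (pullback.snd f f) := by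
        refine IsPullback.of_bot ?_ (by simp [pullback.map, pullback.lift_fst, pullback.lift_snd, pullback.lift_fst_assoc, pullback.lift_snd_assoc, a₂]) (IsPullback.of_hasPullback f f).flip
        simpa [pullback.map, pullback.lift_fst, pullback.lift_snd, pullback.lift_fst_assoc, pullback.lift_snd_assoc, a₂] using (IsPullback.of_hasPullback f (a ≫ f)).flip
      rw [← e]
      exact repWith_comp (repWith_of_isPullback s₁ ha) (repWith_of_isPullback s₂ ha)
    let eq₀ : pullback ((yon S).map h ≫ b) ((yon S).map h ≫ b) ≅ pullback (a ≫ f) (a ≫ f) :=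
      pullback.congrHom w.symm w.symm
    let eY : (yon S).obj (pullback h h) ≅ P :=
      ((IsPullback.of_hasPullback h h).map (yon S)).isoPullback
    have e : eY.hom ≫ c ≫ eq₀.hom ≫ aa = p := by
      apply pullback.hom_ext <;> simp [pullback.map, pullback.lift_fst, pullback.lift_snd, pullback.lift_fst_assoc, pullback.lift_snd_assoc, c, eq₀, aa, p, eY]
    rw [← e]
    exact repWith_comp (repWith_of_isIso _) (repWith_comp hc (repWith_comp (repWith_of_isIso _) haa))
  have hδp : a ≫ pullback.diagonal f = (yon S).map δ ≫ p := by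
    apply pullback.hom_ext <;> simp [δ, p, pullback.lift_fst, pullback.lift_snd, pullback.diagonal, ← Functor.map_comp_assoc]
  have hX2 : IsAlgSpace (pullback f f) :=
    isAlgSpace_of_isPullback hY.diag hX hX (IsPullback.of_hasPullback f f)
  have het : LocP @Etale (pullback.diagonal f) :=
    locP_of_chart etLocal_etale ha has hp hδp (inferInstanceAs (Etale δ.left))
  exact repWith_mono (fun g ⟨(_ : Etale g), (_ : Mono g)⟩ => IsOpenImmersion.of_flat_of_mono g)
    (repWith_inf_iff.2 ⟨repWith_of_locP etLocal_etale hX2 (diagonal_properties hX f).1 het,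
      repWith_monomorphisms_of_mono (diagonal_properties hX f).1⟩)

theorem unramified_of_repWith_isOpenImmersion_diagonal (hX : IsAlgSpace X) (hY : IsAlgSpace Y)
    {f : X ⟶ Y} (hft : LocP @LocallyOfFiniteType f)
    (hd : RepWith @IsOpenImmersion (pullback.diagonal f)) :
    LocP (@LocallyOfFiniteType ⊓ @FormallyUnramified) f := by
  intro U V a b h ha hb w
  refine ⟨hft a b h ha hb w, ?_⟩
  have had : RepWith @IsOpenImmersion (pullback.diagonal a) :=
    (diagonal_repWith_iff ha.1).2 (repWith_mono (fun g (_ : Etale g) =>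
      show IsOpenImmersion (pullback.diagonal g) from inferInstance) ha)
  have hc : (RepWith (S := S) @IsOpenImmersion).IsStableUnderComposition :=
    ⟨fun _ _ => repWith_comp⟩
  have := repWith_isStableUnderBaseChange (S := S) (@IsOpenImmersion : MorphismProperty Scheme.{u})
  have h1 : RepWith @IsOpenImmersion (pullback.diagonal (a ≫ f)) :=
    (RepWith (S := S) @IsOpenImmersion).diagonal.comp_mem _ _ had hd
  have key : ∀ {g g' : (yon S).obj U ⟶ Y}, g = g' → RepWith @IsOpenImmersion (pullback.diagonal g) →
      RepWith @IsOpenImmersion (pullback.diagonal g') := by rintro _ _ rfl h; exact h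
  replace h1 := key w h1
  have h2 : IsOpenImmersion (pullback.diagonal h.left) :=
    (repWith_diagonal_yon_map_iff @IsOpenImmersion h).1 (repWith_diagonal_of_comp h1)
  infer_instance

/-- Two maps from the spectrum of a field that agree on an extension are equal. -/
theorem eq_of_extension (hX : IsAlgSpace X) {K : Type u} [Field K]
    {str : Spec (CommRingCat.of K) ⟶ S} (a b : (yon S).obj (Over.mk str) ⟶ X) {T : Over S}
    (t : T.left) (c : T ⟶ Over.mk str) (e : (yon S).map c ≫ a = (yon S).map c ≫ b) : a = b := by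
  let m : (yon S).obj (Over.mk str) ⟶ X ⨯ X := prod.lift a b
  have hm : Mono ((yon S).map (hX.diag.snd m)) :=
    MorphismProperty.of_isPullback (P := MorphismProperty.monomorphisms (Sp S))
      (hX.diag.isPullback m) (show Mono (Limits.diag X) from inferInstance)
  have : Mono (hX.diag.snd m) := (yon S).mono_of_mono_map hm
  have : Mono (hX.diag.snd m).left := inferInstanceAs (Mono ((Over.forget S).map (hX.diag.snd m)))
  let z := hX.diag.lift (g := m) ((yon S).map c ≫ a) c (by
    apply prod.hom_ext <;> simp [m, e])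
  have := isIso_of_mono_to_field (hX.diag.snd m).left (z.left t)
  have : IsIso ((Over.forget S).map (hX.diag.snd m)) := this
  have : IsIso (hX.diag.snd m) := isIso_of_reflects_iso _ (Over.forget S)
  have hw := hX.diag.w m
  have h1 := hw =≫ prod.fst
  have h2 := hw =≫ prod.snd
  simp only [m, Category.assoc, prod.lift_fst, prod.lift_snd, Category.comp_id] at h1 h2
  exact (cancel_epi ((yon S).map (hX.diag.snd m))).1 (h1.symm.trans h2)

theorem injective_comp_of_univInjective (hX : IsAlgSpace X) {f : X ⟶ Y}
    (hf : IsUnivInjectiveMor f) (K : Type u) [Field K] (str : Spec (CommRingCat.of K) ⟶ S) :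
    Function.Injective (fun a : (yon S).obj (Over.mk str) ⟶ X => a ≫ f) := by
  intro a b e
  change a ≫ f = b ≫ f at e
  have sq := IsPullback.of_hasPullback f (a ≫ f)
  let σa := sq.lift a (𝟙 _) (Category.id_comp _).symm
  let σb := sq.lift b (𝟙 _) (e.symm.trans (Category.id_comp _).symm)
  have hinj : Function.Injective (Points.map (pullback.snd f (a ≫ f))) :=
    univSp_of_isPullback sq hf (IsAlgSpace.yon_obj _) (𝟙 _) (𝟙 _) _ IsPullback.of_id_fst
  let k₀ : ↥(Over.mk str : Over S).left := IsLocalRing.closedPoint K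
  obtain ⟨T, cab, t, hcab, -⟩ : ∃ (T : Over S) (c : T ⟶ Over.mk str) (t : T.left),
      (yon S).map c ≫ a = (yon S).map c ≫ b ∧ True := by
    have he : Points.ofPt σa k₀ = Points.ofPt σb k₀ := hinj (by
      rw [Points.map_ofPt, Points.map_ofPt, sq.lift_snd, sq.lift_snd])
    obtain ⟨p, hp₁, hp₂⟩ := exists_of_isPullback
      (IsPullback.of_hasPullback σa σb) (Points.ofScheme (Over.mk str) k₀)
      (Points.ofScheme (Over.mk str) k₀) (by
        rw [← Points.ofPt_eq_map_ofScheme, ← Points.ofPt_eq_map_ofScheme, he])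
    obtain ⟨T, g, t, -⟩ := exists_eq_ofPt p
    obtain ⟨c₁, hc₁⟩ := (yon S).map_surjective (g ≫ pullback.fst σa σb)
    obtain ⟨c₂, hc₂⟩ := (yon S).map_surjective (g ≫ pullback.snd σa σb)
    have h12 : (yon S).map c₁ ≫ σa = (yon S).map c₂ ≫ σb := by
      rw [hc₁, hc₂, Category.assoc, Category.assoc, pullback.condition]
    have hc : c₁ = c₂ := (yon S).map_injective (by
      have := h12 =≫ pullback.snd f (a ≫ f)
      simpa [σa, σb] using this)
    subst hc
    refine ⟨T, c₁, t, ?_, trivial⟩
    simpa [σa, σb] using h12 =≫ pullback.fst f (a ≫ f)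
  exact eq_of_extension hX a b t cab hcab

theorem surjective_diagonal_of_fieldInjective {f : X ⟶ Y}
    (h : ∀ (K : Type u) [Field K] (str : Spec (CommRingCat.of K) ⟶ S),
      Function.Injective (fun a : (yon S).obj (Over.mk str) ⟶ X => a ≫ f)) :
    IsSurjectiveMor (pullback.diagonal f) := by
  intro z
  obtain ⟨p, rfl⟩ := Points.mk_surjective z
  refine ⟨Points.ofPt (p.toHom ≫ pullback.fst f f) (IsLocalRing.closedPoint p.K), ?_⟩
  have e : (p.toHom ≫ pullback.fst f f) = p.toHom ≫ pullback.snd f f :=
    h p.K _ (by simp only [Category.assoc, pullback.condition])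
  rw [Points.map_ofPt]
  refine Eq.trans (congrArg (fun g => Points.ofPt g _) ?_) (Points.ofPt_toHom p _)
  apply pullback.hom_ext
  · simp
  · simp [e]

theorem isUnivInjectiveMor_of_surjective_diagonal {f : X ⟶ Y}
    (h : IsSurjectiveMor (pullback.diagonal f)) : IsUnivInjectiveMor f := by
  intro T Q hT g fst snd sq x₁ x₂ e
  obtain ⟨q, hq₁, hq₂⟩ := exists_of_isPullback (IsPullback.of_hasPullback snd snd) x₁ x₂ e
  subst hq₁ hq₂
  obtain ⟨W, r, τ, rfl⟩ := exists_eq_ofPt q
  let z : (yon S).obj W ⟶ pullback f f :=
    pullback.lift (r ≫ pullback.fst snd snd ≫ fst) (r ≫ pullback.snd snd snd ≫ fst) (by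
      simp only [Category.assoc, sq.w]
      rw [pullback.condition_assoc])
  obtain ⟨x, hx⟩ := h (Points.ofPt z τ)
  obtain ⟨p, -, hp⟩ := exists_of_isPullback (IsPullback.of_hasPullback (pullback.diagonal f) z) x
    (Points.ofScheme W τ) (hx.trans (Points.ofPt_eq_map_ofScheme _ _))
  obtain ⟨W', r', τ', rfl⟩ := exists_eq_ofPt p
  obtain ⟨c, hc⟩ := (yon S).map_surjective (r' ≫ pullback.snd (pullback.diagonal f) z)
  have hcz : (r' ≫ pullback.fst (pullback.diagonal f) z) ≫ pullback.diagonal f = (yon S).map c ≫ z := by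
    rw [hc, Category.assoc, Category.assoc, pullback.condition]
  have hτ : c.left τ' = τ := by
    refine (Points.schemeEquiv W).injective ?_
    show Points.ofScheme W _ = Points.ofScheme W τ
    rw [← ofPt_map, hc, ← Points.map_ofPt, hp]
  have e₁ := hcz =≫ pullback.fst f f
  have e₂ := hcz =≫ pullback.snd f f
  simp only [z, Category.assoc, pullback.lift_fst, pullback.lift_snd, pullback.diagonal_fst,
    pullback.diagonal_snd, Category.comp_id] at e₁ e₂
  have key : (yon S).map c ≫ r ≫ pullback.fst snd snd = (yon S).map c ≫ r ≫ pullback.snd snd snd := by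
    apply sq.hom_ext
    · simp only [Category.assoc]; exact e₁.symm.trans e₂
    · simp only [Category.assoc, pullback.condition]
  rw [← hτ, Points.map_ofPt, Points.map_ofPt, ← ofPt_comp c (r ≫ pullback.fst snd snd), key, ofPt_comp]

theorem repWith_isOpenImmersion_of_etale_mono (hX : IsAlgSpace X) (hY : IsAlgSpace Y) (f : X ⟶ Y)
    [Mono f] (hf : LocP @Etale f) : RepWith @IsOpenImmersion f := by
  refine repWith_of_exists fun T g => ?_
  have sq := IsPullback.of_hasPullback f g
  let s := pullback.snd f g
  have hP : IsAlgSpace (pullback f g) := isAlgSpace_of_isPullback hY.diag hX (IsAlgSpace.yon_obj T) sq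
  obtain ⟨U, a, ha, has⟩ := hP.atlas
  obtain ⟨k, hk⟩ := (yon S).map_surjective (a ≫ s)
  have hke : Etale k.left := locP_of_isPullback etLocal_etale hX hY (IsAlgSpace.yon_obj T) sq hf a
    (𝟙 _) k ha (repWith_id _ _) (by rw [hk, Category.comp_id])
  let W₀ : T.left.Opens := ⟨Set.range k.left, k.left.isOpenMap.isOpen_range⟩
  let W : Over S := Over.mk (W₀.ι ≫ T.hom)
  let ι : W ⟶ T := Over.homMk W₀.ι rfl
  have hrange : Set.range k.left ⊆ Set.range W₀.ι := by rw [Scheme.Opens.range_ι]; exact le_rfl
  let e : U ⟶ W := Over.homMk (IsOpenImmersion.lift W₀.ι k.left hrange) (by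
    show _ ≫ W₀.ι ≫ T.hom = U.hom
    rw [IsOpenImmersion.lift_fac_assoc, Over.w k])
  have heι : e ≫ ι = k := Over.OverMorphism.ext (IsOpenImmersion.lift_fac _ _ _)
  have hee : Etale e.left := by
    have : Etale (e.left ≫ W₀.ι) := by
      rw [show e.left ≫ W₀.ι = k.left from congrArg CommaMorphism.left heι]; exact hke
    exact Etale.of_comp e.left W₀.ι
  have hes : Surjective e.left := ⟨fun w => by
    obtain ⟨u₀, hu₀⟩ := w.2
    refine ⟨u₀, W₀.ι.isOpenEmbedding.injective ?_⟩
    rw [← Scheme.Hom.comp_apply, show e.left ≫ W₀.ι = k.left from congrArg CommaMorphism.left heι, hu₀]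
    rfl⟩
  have := epi_of_repWith _ (repWith_map hee) (repWith_map hes)
  have : Epi a := epi_of_repWith a ha has
  obtain ⟨hc⟩ := nonempty_isColimit_cofork ((yon S).map e)
    (IsPullback.of_hasPullback ((yon S).map e) ((yon S).map e))
  have hdesc : pullback.fst ((yon S).map e) ((yon S).map e) ≫ a =
      pullback.snd ((yon S).map e) ((yon S).map e) ≫ a := by
    rw [← cancel_mono s, Category.assoc, Category.assoc, ← hk, ← heι, Functor.map_comp,
      pullback.condition_assoc]
  let v : (yon S).obj W ⟶ pullback f g := hc.desc (Cofork.ofπ a hdesc)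
  have hv : (yon S).map e ≫ v = a := hc.fac (Cofork.ofπ a hdesc) WalkingParallelPair.one
  have hvs : v ≫ s = (yon S).map ι := by
    rw [← cancel_epi ((yon S).map e), reassoc_of% hv, ← Functor.map_comp, heι, hk]
  have : Epi v := epi_of_epi_fac hv
  have : Mono ι := by
    have : Mono ((Over.forget S).map ι) := inferInstanceAs (Mono W₀.ι)
    exact (Over.forget S).mono_of_mono_map this
  have : Mono v := mono_of_mono_fac hvs
  have : IsIso v := isIso_of_mono_of_epi v
  refine ⟨W, v ≫ pullback.fst f g, ι, ?_, inferInstanceAs (IsOpenImmersion W₀.ι)⟩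
  exact sq.of_iso (asIso v).symm (Iso.refl _) (Iso.refl _) (Iso.refl _) (by simp)
    (by simp [s, ← hvs]) (by simp) (by simp)

theorem repWith_isOpenImmersion_of_etale_univInjective (hX : IsAlgSpace X) (hY : IsAlgSpace Y)
    {f : X ⟶ Y} (het : LocP @Etale f) (hinj : IsUnivInjectiveMor f) : RepWith @IsOpenImmersion f := by
  have hu : LocP (@LocallyOfFiniteType ⊓ @FormallyUnramified) f :=
    locP_mono (fun φ (_ : Etale φ) => ⟨inferInstance, inferInstance⟩) het
  have hd := repWith_isOpenImmersion_diagonal_of_unramified hX hY hu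
  have := isIso_of_openImmersion_surjective hd
    (surjective_diagonal_of_fieldInjective (fun K _ str => injective_comp_of_univInjective hX hinj K str))
  have : Mono f := (pullback.isIso_diagonal_iff f).1 this
  exact repWith_isOpenImmersion_of_etale_mono hX hY f het

end Groth.L23
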