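import Groth.Agent.L23.FpqcQuasiAffine
import Groth.Agent.L24.Alg.SpaceBaseLocal
import Groth.Prelude.Def_AlgSpInf

/-!
# Immersions are fppf local on the base
-/

universe u

open CategoryTheory CategoryTheory.Limits AlgebraicGeometry AlgSp Opposite Topology

set_option backward.isDefEq.respectTransparency.types false

namespace Groth.L23

variable {S : Scheme.{u}}

/-- An fppf covering is an fpqc covering. -/
theorem isFpqcCover_of_isFppfCover {ι : Type u} {Y : Sp S} {Yi : ι → Sp S} {g : ∀ i, Yi i ⟶ Y}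
    (hY : IsAlgSpace Y) (hYi : ∀ i, IsAlgSpace (Yi i)) (hcov : IsFppfCover Yi g) : IsFpqcCover Yi g := by
  refine ⟨fun i => (hcov.1 i).1, fun W hW k => ?_⟩
  have : IsAffine W.left := hW
  obtain ⟨W', v, l, hl, hvf, hvp, hvs⟩ := Groth.L24.St.exists_scheme_cover hY hYi hcov k
  choose i w hw using hvs
  have hB : ∀ t, ∃ B : (W' (i t)).left.Opens, IsAffineOpen B ∧ w t ∈ B := fun t => by
    obtain ⟨_, ⟨B, hB, rfl⟩, hwB, -⟩ :=
      (W' (i t)).left.isBasis_affineOpens.exists_subset_of_mem_open (Set.mem_univ (w t)) isOpen_univ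
    exact ⟨B, hB, hwB⟩
  choose B hB hwB using hB
  have hop : ∀ t, IsOpenMap ((v (i t)).left) := fun t => by
    have := hvf (i t); have := hvp (i t); exact (v (i t)).left.isOpenMap
  obtain ⟨s, hs⟩ := isCompact_univ.elim_finite_subcover (fun t => (v (i t)).left '' (B t : Set _))
    (fun t => hop t _ (B t).isOpen) (fun t _ => Set.mem_iUnion.2 ⟨t, w t, hwB t, hw t⟩)
  obtain ⟨m, ⟨en⟩⟩ := Finite.exists_equiv_fin s
  refine ⟨m, fun j => Over.mk ((B (en.symm j).1).ι ≫ (W' (i (en.symm j).1)).hom),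
    fun j => (Over.homMk (B (en.symm j).1).ι rfl :
      Over.mk ((B (en.symm j).1).ι ≫ (W' (i (en.symm j).1)).hom) ⟶ W' (i (en.symm j).1)) ≫ v (i (en.symm j).1),
    fun j => hB _, fun j => ?_, fun t => ?_, fun j => ⟨i (en.symm j).1,
      (yon S).map (Over.homMk (B (en.symm j).1).ι rfl :
        Over.mk ((B (en.symm j).1).ι ≫ (W' (i (en.symm j).1)).hom) ⟶ W' (i (en.symm j).1)) ≫ l _, ?_⟩⟩
  · have := hvf (i (en.symm j).1)
    show Flat ((B (en.symm j).1).ι ≫ (v (i (en.symm j).1)).left)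
    infer_instance
  · obtain ⟨t', ht', x, hx, rfl⟩ := Set.mem_iUnion₂.1 (hs (Set.mem_univ t))
    refine ⟨en ⟨t', ht'⟩, ?_⟩
    suffices H : ∀ z : s, z = ⟨t', ht'⟩ → (v (i t')).left x ∈
        Set.range (((B z.1).ι ≫ (v (i z.1)).left : _ ⟶ W.left)) from H _ (en.symm_apply_apply _)
    rintro _ rfl
    exact ⟨⟨x, hx⟩, rfl⟩
  · rw [Category.assoc, ← hl, Functor.map_comp_assoc]

/-- An fpqc covering pulls back. -/
theorem isFpqcCover_of_isPullback {ι : Type u} {Y Y' : Sp S} {Yi Yi' : ι → Sp S} {g : ∀ i, Yi i ⟶ Y}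
    {g' : ∀ i, Yi' i ⟶ Y'} {a : Y' ⟶ Y} {b : ∀ i, Yi' i ⟶ Yi i} (hY : IsAlgSpace Y) (hY' : IsAlgSpace Y')
    (hYi : ∀ i, IsAlgSpace (Yi i)) (sq : ∀ i, IsPullback (g' i) (b i) a (g i)) (hcov : IsFpqcCover Yi g) :
    IsFpqcCover Yi' g' := by
  refine ⟨fun i => locP_of_isPullback etLocal_flat (hYi i) hY hY' (sq i).flip (hcov.1 i), fun Z hZ h => ?_⟩
  obtain ⟨m, W, c, hW, hc, hs, hl⟩ := hcov.2 Z hZ (h ≫ a)
  refine ⟨m, W, c, hW, hc, hs, fun j => ?_⟩
  obtain ⟨i, l, hl⟩ := hl j
  exact ⟨i, (sq i).lift ((yon S).map (c j) ≫ h) l (by rw [Category.assoc, hl]), (sq i).lift_fst _ _ _⟩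

theorem isLocalOnBase_fppf_immersion : IsLocalOnBase (S := S) IsFppfCover (RepWith @IsImmersion) := by
  intro ι Y Yi g hY hYi hcov X f hX Xi p q hXi sq
  refine ⟨fun h i => repWith_of_isPullback (sq i) h, fun h => ?_⟩
  let R := Set.range (Points.map f)
  obtain ⟨V, c, hc, hcs⟩ := hY.atlas
  obtain ⟨W, v, l, hl, hvf, hvp, hvs⟩ := Groth.L24.St.exists_scheme_cover hY hYi hcov c
  have hop : IsOpenMap (Points.ofPt c) := isOpenMap_ofPt hc
  have hvo : ∀ i, IsOpenMap (v i).left := fun i => by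
    have := hvf i; have := hvp i; exact (v i).left.isOpenMap
  have hlc : IsOpen (coborder (Points.ofPt c ⁻¹' R)) := by
    have hi : ∀ i, IsLocallyClosed ((v i).left ⁻¹' (Points.ofPt c ⁻¹' R)) := fun i => by
      have hm : RepWith @IsImmersion (p i) := h i
      have e : (v i).left ⁻¹' (Points.ofPt c ⁻¹' R) = Set.range (hm.1.snd (l i)).left := by
        have sqi := (hm.1.isPullback (l i)).paste_horiz (sq i)
        rw [← hl] at sqi
        have := preimage_image_map sqi (Set.univ : Set (Points X))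
        rw [Set.image_univ, Set.preimage_univ, Set.image_univ] at this
        rw [← this]
        ext t
        simp only [Set.mem_preimage, R]
        rw [ofPt_comp]
      rw [e]
      have := repWith_snd hm (l i)
      exact (hm.1.snd (l i)).left.isLocallyClosed_range
    have hu : coborder (Points.ofPt c ⁻¹' R) =
        ⋃ i, (v i).left '' ((v i).left ⁻¹' coborder (Points.ofPt c ⁻¹' R)) := by
      refine Set.Subset.antisymm (fun t ht => ?_) (Set.iUnion_subset fun i => Set.image_preimage_subset _ _)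
      obtain ⟨i, w, rfl⟩ := hvs t
      exact Set.mem_iUnion.2 ⟨i, w, ht, rfl⟩
    rw [hu]
    refine isOpen_iUnion fun i => hvo i _ ?_
    rw [← coborder_preimage (hvo i) (v i).left.continuous]
    exact (hi i).isOpen_coborder
  have hUo : IsOpen (coborder R) := by
    rw [coborder_preimage hop (Points.continuous_ofPt c)] at hlc
    simpa [Set.image_preimage_eq _ (surjective_ofPt hcs)] using hop _ hlc
  let U : TopologicalSpace.Opens (Points Y) := ⟨coborder R, hUo⟩
  have hUr : Set.range (Points.map (openSubι U)) = coborder R := range_openSubι U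
  obtain ⟨fU, hfU⟩ := (exists_factor_iff (repWith_openSubι U) f).2 (by rw [hUr]; exact subset_coborder)
  have hUs : IsAlgSpace (openSub U) := isAlgSpace_openSub U hY
  have hcovU : IsFpqcCover (fun i => pullback (openSubι U) (g i)) (fun i => pullback.fst _ _) :=
    isFpqcCover_of_isPullback hY hUs hYi (fun i => IsPullback.of_hasPullback (openSubι U) (g i))
      (isFpqcCover_of_isFppfCover hY hYi hcov)
  let pU : ∀ i, Xi i ⟶ pullback (openSubι U) (g i) := fun i =>
    pullback.lift (q i ≫ fU) (p i) (by rw [Category.assoc, hfU]; exact (sq i).w)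
  have sqU : ∀ i, IsPullback (q i) (pU i) fU (pullback.fst (openSubι U) (g i)) := fun i => by
    refine IsPullback.of_bot ?_ ?_ (IsPullback.of_hasPullback (openSubι U) (g i))
    · rw [hfU, pullback.lift_snd]; exact sq i
    · rw [pullback.lift_fst]
  have hcl : RepWith @IsClosedImmersion fU :=
    (isLocalOnBase_fpqc_closedImmersion (fun i => pullback (openSubι U) (g i)) (fun i => pullback.fst _ _) hUs
      (fun i => Groth.L24.St.isAlgSpace_pullback hUs (hYi i) hY _ _) hcovU fU hX Xi pU q hXi sqU).2 fun i => by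
      have hpi : RepWith @IsImmersion (pU i ≫ pullback.snd (openSubι U) (g i)) := by
        rw [pullback.lift_snd]; exact h i
      have hmo : Mono (pullback.snd (openSubι U) (g i)) := inferInstance
      have sqp : IsPullback (𝟙 (Xi i)) (pU i) (p i) (pullback.snd (openSubι U) (g i)) :=
        IsPullback.mk' (by rw [Category.id_comp, pullback.lift_snd])
          (fun _ _ _ h₁ _ => by simpa using h₁) (fun _ a b w => ⟨a, Category.comp_id _, by
            rw [← cancel_mono (pullback.snd (openSubι U) (g i)), Category.assoc, pullback.lift_snd, w]⟩)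
      have himm : RepWith @IsImmersion (pU i) := repWith_of_isPullback sqp (h i)
      refine repWith_of_snd himm.1 fun T m => ?_
      have := repWith_snd himm m
      refine IsClosedImmersion.of_isPreimmersion _ ?_
      have e := preimage_image_map ((himm.1.isPullback m).paste_horiz (sqU i)) (Set.univ : Set (Points X))
      rw [Set.image_univ, Set.preimage_univ, Set.image_univ] at e
      rw [← e]
      have hr : Set.range (Points.map fU) = Points.map (openSubι U) ⁻¹' closure R := by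
        refine Set.Subset.antisymm ?_ fun y hy => ?_
        · rintro _ ⟨x, rfl⟩
          exact subset_closure ⟨x, by rw [← Points.map_comp, hfU]⟩
        · have hy' : Points.map (openSubι U) y ∈ coborder R := hUr ▸ ⟨y, rfl⟩
          obtain ⟨x, hx⟩ : Points.map (openSubι U) y ∈ R := by
            rw [← closure_inter_coborder (s := R)]; exact ⟨hy, hy'⟩
          refine ⟨x, injective_map_of_repWith (repWith_mono (Q := (@UniversallyInjective : MorphismProperty Scheme.{u}))
            (fun φ (_ : IsOpenImmersion φ) => inferInstanceAs (UniversallyInjective φ)) (repWith_openSubι U)) ?_⟩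
          rw [← Points.map_comp, hfU, hx]
      rw [hr]
      exact (isClosed_closure.preimage (Points.continuous_map _)).preimage (Points.continuous_ofPt _)
  rw [← hfU]
  exact repWith_comp (repWith_mono (fun φ (_ : IsClosedImmersion φ) => inferInstanceAs (IsImmersion φ)) hcl)
    (repWith_mono (fun φ (_ : IsOpenImmersion φ) => inferInstanceAs (IsImmersion φ)) (repWith_openSubι U))

end Groth.L23

namespace Groth.L23

theorem isLocalOnBase_fpqc_thick {S : Scheme.{u}} : IsLocalOnBase (S := S) IsFpqcCover IsThickMor := by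
  show IsLocalOnBase (S := S) IsFpqcCover (RepWith AlgSp.thick)
  exact isLocalOnBase_fpqc_of_le_affine ((@IsClosedImmersion : MorphismProperty Scheme.{u}) ⊓ @Surjective)
    fun _ _ φ h => (have : IsClosedImmersion φ := h.1; inferInstance)

end Groth.L23

namespace Groth.L23

variable {S : Scheme.{u}}

/-- Coverings of coverings. -/
theorem isFpqcCover_sigma {ι : Type u} {Y : Sp S} {Yi : ι → Sp S} {g : ∀ i, Yi i ⟶ Y} {κ : ι → Type u}
    {Yij : ∀ i, κ i → Sp S} {gij : ∀ i j, Yij i j ⟶ Yi i} (hY : IsAlgSpace Y) (hYi : ∀ i, IsAlgSpace (Yi i))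
    (hYij : ∀ i j, IsAlgSpace (Yij i j)) (hcov : IsFpqcCover Yi g) (hij : ∀ i, IsFpqcCover (Yij i) (gij i)) :
    IsFpqcCover (fun r : Σ i, κ i => Yij r.1 r.2) (fun r => gij r.1 r.2 ≫ g r.1) := by
  refine ⟨fun r => locP_comp etLocal_flat (hYij _ _) (hYi _) hY ((hij _).1 _) (hcov.1 _), fun Z hZ h => ?_⟩
  obtain ⟨m, W, c, hW, hc, hs, hl⟩ := hcov.2 Z hZ h
  choose i l hl using hl
  choose n W' c' hW' hc' hs' hl' using fun j => (hij (i j)).2 (W j) (hW j) (l j)
  choose k l' hl' using hl'
  let e := (Fintype.equivFin (Σ j, Fin (n j))).symm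
  refine ⟨_, fun r => W' (e r).1 (e r).2, fun r => c' (e r).1 (e r).2 ≫ c (e r).1, fun r => hW' _ _,
    fun r => ?_, fun z => ?_, fun r => ⟨⟨i (e r).1, k (e r).1 (e r).2⟩, l' (e r).1 (e r).2, ?_⟩⟩
  · have := hc' (e r).1 (e r).2
    have := hc (e r).1
    show Flat ((c' (e r).1 (e r).2).left ≫ (c (e r).1).left)
    infer_instance
  · obtain ⟨j, w, rfl⟩ := hs z
    obtain ⟨j', w', rfl⟩ := hs' j w
    refine ⟨e.symm ⟨j, j'⟩, ?_⟩
    suffices H : ∀ r : Σ j, Fin (n j), r = ⟨j, j'⟩ → (c j).left ((c' j j').left w') ∈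
        Set.range (((c' r.1 r.2).left ≫ (c r.1).left : _ ⟶ Z.left)) from H _ (e.apply_symm_apply _)
    rintro _ rfl
    exact ⟨w', rfl⟩
  · rw [← Category.assoc, hl', Category.assoc, hl, Functor.map_comp_assoc]

/-- An etale surjective chart is an fpqc covering. -/
theorem isFpqcCover_chart {X : Sp S} (hX : IsAlgSpace X) {U : Over S} {p : (yon S).obj U ⟶ X}
    (hp : RepWith @Etale p) (hps : RepWith @Surjective p) :
    IsFpqcCover (fun _ : PUnit.{u+1} => (yon S).obj U) (fun _ => p) :=
  isFpqcCover_of_isFppfCover hX (fun _ => IsAlgSpace.yon_obj U)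
    ⟨fun _ => ⟨locP_mono (fun φ (_ : Etale φ) => inferInstanceAs (Flat φ)) (locP_of_repWith etLocal_etale hp),
      locP_mono (fun φ (_ : Etale φ) => inferInstanceAs (LocallyOfFinitePresentation φ))
        (locP_of_repWith etLocal_etale hp)⟩,
      fun x => ⟨⟨⟩, surjective_map_of_repWith hps x⟩⟩

/-- Fpqc coverings can be recognised on a chart. -/
theorem isFpqcCover_iff_of_chart {ι : Type u} {X : Sp S} {Xi Ui : ι → Sp S} {g : ∀ i, Xi i ⟶ X}
    (hX : IsAlgSpace X) (hXi : ∀ i, IsAlgSpace (Xi i)) (hUi : ∀ i, IsAlgSpace (Ui i)) {U : Over S}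
    {p : (yon S).obj U ⟶ X} (hp : RepWith @Etale p) (hps : RepWith @Surjective p)
    {q : ∀ i, Ui i ⟶ (yon S).obj U} {p' : ∀ i, Ui i ⟶ Xi i} (sq : ∀ i, IsPullback (q i) (p' i) p (g i)) :
    IsFpqcCover Xi g ↔ IsFpqcCover Ui q := by
  refine ⟨fun h => isFpqcCover_of_isPullback hX (IsAlgSpace.yon_obj U) hXi sq h, fun h => ⟨fun i => ?_, fun Z hZ k => ?_⟩⟩
  · exact (isLocalOnBase_fpqc_locP etLocal_flat (fun _ : PUnit.{u+1} => (yon S).obj U) (fun _ => p) hX
      (fun _ => IsAlgSpace.yon_obj U) (isFpqcCover_chart hX hp hps) (g i) (hXi i) (fun _ => Ui i) (fun _ => q i)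
      (fun _ => p' i) (fun _ => hUi i) (fun _ => (sq i).flip)).2 fun _ => h.1 i
  · have : IsAffine Z.left := hZ
    obtain ⟨Z', e, m, hZ', he, hes, w⟩ := exists_affine_refine hp hps k
    obtain ⟨n, W, c, hW, hc, hs, hl⟩ := h.2 Z' hZ' ((yon S).map m)
    refine ⟨n, W, fun j => c j ≫ e, hW, fun j => ?_, fun z => ?_, fun j => ?_⟩
    · have := hc j
      show Flat ((c j).left ≫ e.left)
      infer_instance
    · obtain ⟨z', rfl⟩ := hes.surj z
      obtain ⟨j, a, ha⟩ := hs z'
      exact ⟨j, a, by simp only [Over.comp_left, Scheme.Hom.comp_apply, ha]⟩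
    · obtain ⟨i, l, hl⟩ := hl j
      refine ⟨i, l ≫ p' i, ?_⟩
      rw [Category.assoc, ← (sq i).w, reassoc_of% hl, w, Functor.map_comp_assoc]

end Groth.L23
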