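import Groth.Agent.L23.FpqcDiag
import Groth.Agent.L23.AffineMor
import Groth.Prelude.Def_AlgSpMor5
import Mathlib.AlgebraicGeometry.Sites.Fpqc

/-!
# Fpqc descent of affine morphisms of algebraic spaces
-/

universe u

open CategoryTheory CategoryTheory.Limits AlgebraicGeometry AlgSp Opposite

set_option backward.isDefEq.respectTransparency.types false

namespace Groth.L23

variable {S : Scheme.{u}}

/-- Two maps from an empty scheme to a sheaf agree. -/
theorem hom_ext_of_isEmpty {Z : Over S} [IsEmpty Z.left] {F : Sp S} (a b : (yon S).obj Z ⟶ F) : a = b := by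
  let g : ∀ e : PEmpty.{u+1}, (PEmpty.elim e : Over S) ⟶ Z := fun e => e.elim
  have : ∀ e, IsOpenImmersion (g e).left := fun e => e.elim
  exact hom_ext_cover g (fun t => isEmptyElim t) fun e => e.elim

/-- A sheaf over a finite coproduct of affine schemes which is a scheme over every summand is the coproduct of these schemes. -/
theorem exists_scheme_of_sigma {J : Type u} [Finite J] (A : J → Over S) {V : Over S} (ι : ∀ j, A j ⟶ V)
    [∀ j, IsOpenImmersion (ι j).left] (hcov : ∀ t : ↥V.left, ∃ j, t ∈ Set.range (ι j).left)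
    (hdisj : ∀ i j (x : ↥(A i).left) (y : ↥(A j).left), (ι i).left x = (ι j).left y → i = j)
    {F : Sp S} (q : F ⟶ (yon S).obj V) (W : J → Over S) (u : ∀ j, W j ⟶ A j)
    (fst : ∀ j, (yon S).obj (W j) ⟶ F)
    (sq : ∀ j, IsPullback (fst j) ((yon S).map (u j)) q ((yon S).map (ι j)))
    {Q : Scheme.{u} → Prop} (hQ : Q (∐ fun j => (W j).left)) :
    ∃ (G : Over S) (π : G ⟶ V) (θ : (yon S).obj G ⟶ F), IsIso θ ∧ θ ≫ q = (yon S).map π ∧
      Q G.left := by
  let G : Over S := Over.mk (Sigma.desc fun j => (W j).hom)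
  let c : ∀ j, W j ⟶ G := fun j => Over.homMk (Sigma.ι (fun j => (W j).left) j) (Sigma.ι_desc _ _)
  have : ∀ j, IsOpenImmersion (c j).left :=
    fun j => inferInstanceAs (IsOpenImmersion ((sigmaOpenCover fun j => (W j).left).f j))
  have hcs : ∀ t : ↥G.left, ∃ j w, (c j).left w = t :=
    fun t => (sigmaOpenCover fun j => (W j).left).exists_eq t
  let π : G ⟶ V := Over.homMk (Sigma.desc fun j => (u j ≫ ι j).left) (by
    apply Sigma.hom_ext
    intro j
    show Sigma.ι _ j ≫ _ ≫ V.hom = Sigma.ι _ j ≫ Sigma.desc _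
    rw [Sigma.ι_desc, ← Category.assoc, Sigma.ι_desc]
    exact Over.w (u j ≫ ι j))
  have hcπ : ∀ j, c j ≫ π = u j ≫ ι j := fun j => Over.OverMorphism.ext (Sigma.ι_desc _ _)
  obtain ⟨θ, hθ, -⟩ := existsUnique_glue c hcs fst fun Z i j a b w => by
    by_cases h : IsEmpty Z.left
    · exact hom_ext_of_isEmpty _ _
    · obtain ⟨z⟩ := not_isEmpty_iff.1 h
      have e : (c i).left (a.left z) = (c j).left (b.left z) := by
        rw [← Scheme.Hom.comp_apply, ← Scheme.Hom.comp_apply, ← Over.comp_left, ← Over.comp_left, w]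
      obtain rfl : i = j := congrArg Sigma.fst ((sigmaι_eq_iff (fun j => (W j).left) _ _ _ _).1 e)
      have : Mono ((Over.forget S).map (c i)) := inferInstanceAs (Mono (c i).left)
      have : Mono (c i) := (Over.forget S).mono_of_mono_map this
      rw [(cancel_mono (c i)).1 w]
  have hθq : θ ≫ q = (yon S).map π := hom_ext_cover c hcs fun j => by
    rw [reassoc_of% hθ j, (sq j).w, ← Functor.map_comp, ← Functor.map_comp, hcπ]
  let o : ∀ (Z : Over S) (z : Z ⟶ V) (j : J), openOver Z (z.left ⁻¹ᵁ (ι j).left.opensRange) ⟶ Z :=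
    fun Z z j => openOverι Z _
  have ho : ∀ (Z : Over S) (z : Z ⟶ V) (t : ↥Z.left),
      ∃ j w, (o Z z j).left w = t := fun Z z t => by
    obtain ⟨j, hj⟩ := hcov (z.left t)
    exact ⟨j, ⟨t, hj⟩, rfl⟩
  have hoA : ∀ (Z : Over S) (z : Z ⟶ V) (j : J), ∃ r, r ≫ ι j = o Z z j ≫ z := fun Z z j => by
    refine ⟨Over.homMk (IsOpenImmersion.lift (ι j).left (o Z z j ≫ z).left ?_) ?_,
      Over.OverMorphism.ext (IsOpenImmersion.lift_fac _ _ _)⟩
    · rintro _ ⟨⟨t, ht⟩, rfl⟩
      exact ht
    · rw [← Over.w (ι j), IsOpenImmersion.lift_fac_assoc]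
      exact Over.w _
  have hπc : ∀ (j : J) (x : ↥G.left), π.left x ∈ Set.range (ι j).left → x ∈ Set.range (c j).left := by
    intro j x hx
    obtain ⟨i, w, rfl⟩ := hcs x
    obtain ⟨y, hy⟩ := hx
    rw [← Scheme.Hom.comp_apply, ← Over.comp_left, hcπ] at hy
    obtain rfl := hdisj j i y ((u i).left w) (hy.trans (by simp))
    exact ⟨w, rfl⟩
  have hlift : ∀ (Z : Over S) (j : J) (a : Z ⟶ G) (z : Z ⟶ V), a ≫ π = z →
      ∃ la : openOver Z (z.left ⁻¹ᵁ (ι j).left.opensRange) ⟶ W j, la ≫ c j = o Z z j ≫ a := by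
    rintro Z j a z rfl
    refine ⟨Over.homMk (IsOpenImmersion.lift (c j).left (o Z (a ≫ π) j ≫ a).left ?_) ?_,
      Over.OverMorphism.ext (IsOpenImmersion.lift_fac _ _ _)⟩
    · rintro _ ⟨⟨t, ht⟩, rfl⟩
      exact hπc j _ ht
    · rw [← Over.w (c j), IsOpenImmersion.lift_fac_assoc]
      exact Over.w _
  have hinj : ∀ {Z : Over S} (a b : Z ⟶ G), (yon S).map a ≫ θ = (yon S).map b ≫ θ → a = b := by
    intro Z a b e
    have ez : b ≫ π = a ≫ π := (yon S).map_injective (by
      rw [Functor.map_comp, Functor.map_comp, ← hθq, reassoc_of% e])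
    refine hom_ext_cover' (o Z (a ≫ π)) (ho Z (a ≫ π)) fun j => ?_
    obtain ⟨la, hla⟩ := hlift Z j a _ rfl
    obtain ⟨lb, hlb⟩ := hlift Z j b _ ez
    rw [← hla, ← hlb]
    congr 1
    refine (yon S).map_injective ((sq j).hom_ext ?_ ?_)
    · rw [← hθ, ← Functor.map_comp_assoc, ← Functor.map_comp_assoc, hla, hlb, Functor.map_comp_assoc,
        Functor.map_comp_assoc, e]
    · rw [← Functor.map_comp, ← Functor.map_comp]
      have : Mono ((Over.forget S).map (ι j)) := inferInstanceAs (Mono (ι j).left)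
      have : Mono (ι j) := (Over.forget S).mono_of_mono_map this
      congr 1
      rw [← cancel_mono (ι j)]
      simp only [Category.assoc, ← hcπ, reassoc_of% hla, reassoc_of% hlb, ez]
  have : Mono θ := mono_of_yon fun Z a b e => by
    obtain ⟨a, rfl⟩ := (yon S).map_surjective a
    obtain ⟨b, rfl⟩ := (yon S).map_surjective b
    rw [hinj a b e]
  have hsurj : ∀ (Z : Over S) (y : (yon S).obj Z ⟶ F), ∃ l, l ≫ θ = y := by
    intro Z y
    obtain ⟨z, hz⟩ := (yon S).map_surjective (y ≫ q)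
    choose r hr using hoA Z z
    let ly := fun j => (sq j).lift ((yon S).map (o Z z j) ≫ y) ((yon S).map (r j))
      (by rw [Category.assoc, ← hz, ← Functor.map_comp, ← Functor.map_comp, hr])
    have hy : ∀ j, (ly j ≫ (yon S).map (c j)) ≫ θ = (yon S).map (o Z z j) ≫ y := fun j => by
      rw [Category.assoc, hθ, (sq j).lift_fst]
    obtain ⟨l, hl, -⟩ := existsUnique_glue (o Z z) (ho Z z) (fun j => ly j ≫ (yon S).map (c j))
      fun Z' i j a b w => by
        rw [← cancel_mono θ, Category.assoc ((yon S).map a), Category.assoc ((yon S).map b), hy, hy,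
          ← Functor.map_comp_assoc, w, Functor.map_comp_assoc]
    exact ⟨l, hom_ext_cover (o Z z) (ho Z z) fun j => by rw [reassoc_of% hl j, ← hy, Category.assoc]⟩
  refine ⟨G, π, θ, ?_, hθq, hQ⟩
  have : Epi θ := ⟨fun {H} a b e => hom_ext_yon fun Z y => by
    obtain ⟨l, rfl⟩ := hsurj Z y
    rw [Category.assoc, Category.assoc, e]⟩
  exact isIso_of_mono_of_epi θ

/-- A sheaf over a finite coproduct of affine schemes which is affine over every summand is affine. -/
theorem exists_affine_of_sigma {J : Type u} [Finite J] (A : J → Over S) {V : Over S} (ι : ∀ j, A j ⟶ V)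
    [∀ j, IsOpenImmersion (ι j).left] (hcov : ∀ t : ↥V.left, ∃ j, t ∈ Set.range (ι j).left)
    (hdisj : ∀ i j (x : ↥(A i).left) (y : ↥(A j).left), (ι i).left x = (ι j).left y → i = j)
    {F : Sp S} (q : F ⟶ (yon S).obj V) (W : J → Over S) (u : ∀ j, W j ⟶ A j)
    (fst : ∀ j, (yon S).obj (W j) ⟶ F)
    (sq : ∀ j, IsPullback (fst j) ((yon S).map (u j)) q ((yon S).map (ι j)))
    (hW : ∀ j, IsAffine (W j).left) :
    ∃ (G : Over S) (π : G ⟶ V) (θ : (yon S).obj G ⟶ F), IsIso θ ∧ θ ≫ q = (yon S).map π ∧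
      IsAffine G.left :=
  have := hW
  exists_scheme_of_sigma A ι hcov hdisj q W u fst sq (Q := fun X => IsAffine X) inferInstance

end Groth.L23

namespace Groth.L23

variable {S : Scheme.{u}}

/-- Morphisms of schemes over `S` out of the target of an fpqc surjection are determined by the composite. -/
theorem hom_ext_of_fpqc {T' T A : Over S} (e : T' ⟶ T) [Surjective e.left] [Flat e.left]
    [QuasiCompact e.left] {a b : T ⟶ A} (h : e ≫ a = e ≫ b) : a = b :=
  Over.OverMorphism.ext ((cancel_epi e.left).1 (congrArg CommaMorphism.left h))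

/-- Morphisms of schemes over `S` descend along fpqc surjections. -/
theorem exists_desc_of_fpqc {T' T A : Over S} (e : T' ⟶ T) [Surjective e.left] [Flat e.left]
    [QuasiCompact e.left] (a : T' ⟶ A)
    (h : ∀ {R : Over S} (r₁ r₂ : R ⟶ T'), r₁ ≫ e = r₂ ≫ e → r₁ ≫ a = r₂ ≫ a) :
    ∃ k : T ⟶ A, e ≫ k = a := by
  have hh : ∀ {Z : Scheme.{u}} (g₁ g₂ : Z ⟶ T'.left), g₁ ≫ e.left = g₂ ≫ e.left → g₁ ≫ a.left = g₂ ≫ a.left := by
    intro Z g₁ g₂ w
    let R : Over S := Over.mk (g₁ ≫ T'.hom)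
    have := h (Over.homMk g₁ rfl : R ⟶ T') (Over.homMk g₂ (by
      show g₂ ≫ T'.hom = g₁ ≫ T'.hom
      rw [← Over.w e, reassoc_of% w]) : R ⟶ T') (Over.OverMorphism.ext w)
    exact congrArg CommaMorphism.left this
  refine ⟨Over.homMk (EffectiveEpi.desc e.left a.left hh) ?_, Over.OverMorphism.ext (EffectiveEpi.fac e.left a.left hh)⟩
  rw [← cancel_epi e.left, EffectiveEpi.fac_assoc]
  exact (Over.w a).trans (Over.w e).symm

/-- The base change of an fpqc surjection `V ⟶ W` to a scheme over `W`, seen through a cartesian square. -/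
theorem exists_fpqc_baseChange {X : Sp S} {W V U : Over S} {q : X ⟶ (yon S).obj W} {v : V ⟶ W}
    [Surjective v.left] [Flat v.left] [QuasiCompact v.left] {p : (yon S).obj U ⟶ X} {u : U ⟶ V}
    (sq : IsPullback p ((yon S).map u) q ((yon S).map v)) {T : Over S} (c : (yon S).obj T ⟶ X) :
    ∃ (E : Over S) (e : E ⟶ T) (t : E ⟶ U), Surjective e.left ∧ Flat e.left ∧ QuasiCompact e.left ∧
      (yon S).map t ≫ p = (yon S).map e ≫ c := by
  obtain ⟨qT, hqT⟩ := (yon S).map_surjective (c ≫ q)
  have sE := IsPullback.of_hasPullback qT v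
  obtain ⟨t, ht⟩ := (yon S).map_surjective (sq.lift ((yon S).map (pullback.fst qT v) ≫ c)
    ((yon S).map (pullback.snd qT v)) (by
      rw [Category.assoc, ← hqT, ← Functor.map_comp, ← Functor.map_comp, pullback.condition]))
  have sE' := (sE.map (Over.forget S)).flip
  exact ⟨_, pullback.fst qT v, t, MorphismProperty.of_isPullback (P := @Surjective) sE' ‹_›,
    MorphismProperty.of_isPullback (P := @Flat) sE' ‹_›,
    MorphismProperty.of_isPullback (P := @QuasiCompact) sE' ‹_›, by rw [ht, sq.lift_fst]⟩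

/-- Morphisms from an algebraic space to a scheme descend along an fpqc base change. -/
theorem exists_desc_space {X : Sp S} (hX : IsAlgSpace X) {W V U : Over S} {q : X ⟶ (yon S).obj W} {v : V ⟶ W}
    [Surjective v.left] [Flat v.left] [QuasiCompact v.left] {p : (yon S).obj U ⟶ X} {u : U ⟶ V}
    (sq : IsPullback p ((yon S).map u) q ((yon S).map v)) {A : Over S} (a : U ⟶ A)
    (h : ∀ {R : Over S} (x y : R ⟶ U), (yon S).map x ≫ p = (yon S).map y ≫ p → x ≫ a = y ≫ a) :
    ∃ k : X ⟶ (yon S).obj A, p ≫ k = (yon S).map a ∧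
      ∀ k' : X ⟶ (yon S).obj A, p ≫ k' = (yon S).map a → k' = k := by
  obtain ⟨U₀, c, hc, hcs⟩ := hX.atlas
  obtain ⟨E, e, t, _, _, _, ht⟩ := exists_fpqc_baseChange sq c
  obtain ⟨k₀, hk₀⟩ := exists_desc_of_fpqc e (t ≫ a) fun r₁ r₂ w => by
    rw [← Category.assoc, ← Category.assoc]
    refine h _ _ ?_
    rw [Functor.map_comp, Functor.map_comp, Category.assoc, Category.assoc, ht, ← Functor.map_comp_assoc,
      ← Functor.map_comp_assoc, w]
  have key : ∀ {T : Over S} (x : T ⟶ U₀) (y : T ⟶ U),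
      (yon S).map y ≫ p = (yon S).map x ≫ c → x ≫ k₀ = y ≫ a := by
    intro T x y w
    have sT := IsPullback.of_hasPullback x e
    have sT' := (sT.map (Over.forget S)).flip
    have : Surjective (pullback.fst x e).left := MorphismProperty.of_isPullback (P := @Surjective) sT' ‹_›
    have : Flat (pullback.fst x e).left := MorphismProperty.of_isPullback (P := @Flat) sT' ‹_›
    have : QuasiCompact (pullback.fst x e).left := MorphismProperty.of_isPullback (P := @QuasiCompact) sT' ‹_›
    refine hom_ext_of_fpqc (pullback.fst x e) ?_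
    rw [pullback.condition_assoc, hk₀, ← Category.assoc, ← Category.assoc]
    refine h _ _ ?_
    rw [Functor.map_comp, Functor.map_comp, Category.assoc, Category.assoc, ht, w,
      ← Functor.map_comp_assoc, ← Functor.map_comp_assoc, pullback.condition]
  have : Epi c := epi_of_repWith c hc hcs
  obtain ⟨R, r₁, r₂, sR⟩ := exists_isPullback_of_representable hc.1 c
  have hr : (yon S).map r₂ ≫ c = (yon S).map r₁ ≫ c := sR.w.symm
  have hkr : r₁ ≫ k₀ = r₂ ≫ k₀ := by
    obtain ⟨ER, eR, tR, _, _, _, htR⟩ := exists_fpqc_baseChange sq ((yon S).map r₁ ≫ c)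
    refine hom_ext_of_fpqc eR ?_
    rw [← Category.assoc, ← Category.assoc,
      key (eR ≫ r₁) tR (by rw [htR, Functor.map_comp, Category.assoc]),
      key (eR ≫ r₂) tR (by rw [htR, Functor.map_comp, Category.assoc, hr])]
  obtain ⟨hcol⟩ := nonempty_isColimit_cofork c sR
  have hw : (yon S).map r₁ ≫ (yon S).map k₀ = (yon S).map r₂ ≫ (yon S).map k₀ := by
    rw [← Functor.map_comp, ← Functor.map_comp, hkr]
  let k : X ⟶ (yon S).obj A := hcol.desc (Cofork.ofπ ((yon S).map k₀) hw)
  have hck : c ≫ k = (yon S).map k₀ := hcol.fac (Cofork.ofπ ((yon S).map k₀) hw) WalkingParallelPair.one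
  refine ⟨k, ?_, fun k' hk' => ?_⟩
  · obtain ⟨E₁, x, y, sE⟩ := exists_isPullback_of_representable hc.1 p
    have : Epi ((yon S).map y) := epi_of_repWith _ (repWith_of_isPullback sE hc) (repWith_of_isPullback sE hcs)
    have w : (yon S).map y ≫ p = (yon S).map x ≫ c := sE.w.symm
    rw [← cancel_epi ((yon S).map y), ← Category.assoc, w, Category.assoc, hck, ← Functor.map_comp,
      ← Functor.map_comp, key x y w]
  · rw [← cancel_epi c, hck]
    obtain ⟨k₁, hk₁⟩ := (yon S).map_surjective (c ≫ k')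
    rw [← hk₁]
    congr 1
    refine hom_ext_of_fpqc e ((yon S).map_injective ?_)
    rw [hk₀, Functor.map_comp, hk₁, ← Category.assoc, ← ht, Category.assoc, hk', ← Functor.map_comp]

end Groth.L23

namespace Groth.L23

open scoped TensorProduct

variable {S : Scheme.{u}}

/-- A flat surjective map of affine schemes is an fpqc covering. -/
theorem isFpqcCover_singleton_yon {V A : Over S} [IsAffine V.left] [IsAffine A.left] (a : V ⟶ A)
    [Flat a.left] [Surjective a.left] :
    IsFpqcCover (fun _ : PUnit.{u+1} => (yon S).obj V) (fun _ => (yon S).map a) := by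
  refine ⟨fun _ => locP_of_repWith etLocal_flat (repWith_map ‹Flat a.left›), fun Z hZ h => ?_⟩
  obtain ⟨h₀, rfl⟩ := (yon S).map_surjective h
  have := hZ
  have sW := IsPullback.of_hasPullback h₀ a
  have sW' := (sW.map (Over.forget S)).flip
  have : IsAffineHom a.left := isAffineHom_of_isAffine _
  have : IsAffineHom (pullback.fst h₀ a).left := MorphismProperty.of_isPullback (P := @IsAffineHom) sW' ‹_›
  have hs : Surjective (pullback.fst h₀ a).left := MorphismProperty.of_isPullback (P := @Surjective) sW' ‹_›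
  refine ⟨1, fun _ => pullback h₀ a, fun _ => pullback.fst h₀ a,
    fun _ => isAffine_of_isAffineHom (pullback.fst h₀ a).left,
    fun _ => MorphismProperty.of_isPullback (P := @Flat) sW' ‹_›,
    fun z => ⟨0, hs.surj z⟩, fun _ => ⟨⟨⟩, (yon S).map (pullback.snd h₀ a), ?_⟩⟩
  rw [← Functor.map_comp, ← Functor.map_comp, pullback.condition]

/-- A sheaf over an affine scheme which becomes affine after an affine fpqc base change is
affine. -/
theorem exists_affine_of_fpqc_cover {W V U : Over S} [IsAffine W.left] [IsAffine V.left]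
    [IsAffine U.left] {X : Sp S} (hX : IsAlgSpace X) {q : X ⟶ (yon S).obj W} (v : V ⟶ W) [Flat v.left]
    [Surjective v.left] {p : (yon S).obj U ⟶ X} {u : U ⟶ V}
    (sq : IsPullback p ((yon S).map u) q ((yon S).map v)) :
    ∃ (A : Over S) (k : X ⟶ (yon S).obj A) (ā : A ⟶ W), IsAffine A.left ∧ IsIso k ∧
      k ≫ (yon S).map ā = q := by
  let uv := u ≫ v
  have sq₂ := IsPullback.of_hasPullback uv v
  set π₁ := pullback.fst uv v
  set π₂ := pullback.snd uv v
  obtain ⟨σ, hσp, hσu⟩ : ∃ σ : pullback uv v ⟶ U,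
      (yon S).map σ ≫ p = (yon S).map π₁ ≫ p ∧ σ ≫ u = π₂ := by
    obtain ⟨σ, hσ⟩ := (yon S).map_surjective (sq.lift ((yon S).map π₁ ≫ p) ((yon S).map π₂) (by
      rw [Category.assoc, sq.w, ← Functor.map_comp, ← Functor.map_comp, ← Functor.map_comp, pullback.condition]))
    exact ⟨σ, by rw [hσ, sq.lift_fst], (yon S).map_injective (by rw [Functor.map_comp, hσ, sq.lift_snd])⟩
  have hext : ∀ {Z : Over S} {a b : Z ⟶ U}, (yon S).map a ≫ p = (yon S).map b ≫ p → a ≫ u = b ≫ u → a = b :=
    fun h h' => (yon S).map_injective (sq.hom_ext h (by rw [← Functor.map_comp, ← Functor.map_comp, h']))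
  let c₂ := π₁ ≫ uv
  have hσv : σ ≫ uv = c₂ := by
    rw [show σ ≫ uv = (σ ≫ u) ≫ v from (Category.assoc _ _ _).symm, hσu]
    exact pullback.condition.symm
  have sq₃ := IsPullback.of_hasPullback c₂ v
  set ρ₁ := pullback.fst c₂ v
  set ρ₂ := pullback.snd c₂ v
  let c₃ := ρ₁ ≫ c₂
  let m₀ := sq₂.lift (ρ₁ ≫ π₁) ρ₂ (by rw [Category.assoc]; exact sq₃.w)
  let m₁ := sq₂.lift (ρ₁ ≫ σ) ρ₂ (by rw [Category.assoc, hσv]; exact sq₃.w)
  have hm : m₀ ≫ σ = m₁ ≫ σ := hext
    (by rw [Functor.map_comp, Category.assoc, hσp, ← Functor.map_comp_assoc, sq₂.lift_fst,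
      Functor.map_comp, Category.assoc, ← hσp, ← Functor.map_comp_assoc, ← sq₂.lift_fst (ρ₁ ≫ σ) ρ₂ (by
        rw [Category.assoc, hσv]; exact sq₃.w), Functor.map_comp, Category.assoc, ← hσp,
      ← Functor.map_comp_assoc])
    (by rw [Category.assoc, Category.assoc, hσu, sq₂.lift_snd, sq₂.lift_snd])
  let δ := sq₂.lift (𝟙 U) u (Category.id_comp _)
  have hδσ : δ ≫ σ = 𝟙 U := hext
    (by rw [Functor.map_comp, Category.assoc, hσp, ← Functor.map_comp_assoc, sq₂.lift_fst])
    (by rw [Category.assoc, hσu, sq₂.lift_snd, Category.id_comp])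
  -- the rings
  letI := v.left.appTop.hom.toAlgebra
  letI := uv.left.appTop.hom.toAlgebra
  letI := c₂.left.appTop.hom.toAlgebra
  letI := c₃.left.appTop.hom.toAlgebra
  have sq₂' : IsPullback π₁.left π₂.left uv.left v.left := sq₂.map (Over.forget S)
  have sq₃' : IsPullback ρ₁.left ρ₂.left c₂.left v.left := sq₃.map (Over.forget S)
  have : IsAffine (pullback uv v).left := IsAffine.of_isPullback sq₂'
  have : Module.Flat Γ(W.left, ⊤) Γ(V.left, ⊤) :=
    RingHom.flat_algebraMap_iff.1 ((HasRingHomProperty.iff_of_isAffine (P := @Flat)).1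
      (inferInstanceAs (Flat v.left)))
  have L : ∀ {a b c : Over S} {f : a ⟶ b} {g : b ⟶ c} {h : a ⟶ c}, f ≫ g = h → f.left ≫ g.left = h.left :=
    fun {a b c f g h} e => by rw [← Over.comp_left, e]
  let αu := appTopAlgHom u.left (L (rfl : u ≫ v = uv))
  let i₂ := appTopAlgHom π₂.left (L (pullback.condition.symm : π₂ ≫ v = c₂))
  let d₀ := appTopAlgHom π₁.left (L (rfl : π₁ ≫ uv = c₂))
  let d₁ := appTopAlgHom σ.left (L hσv)
  have hm₀c : m₀ ≫ c₂ = c₃ := by
    show m₀ ≫ π₁ ≫ uv = ρ₁ ≫ π₁ ≫ uv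
    rw [sq₂.lift_fst_assoc, Category.assoc]
  have hm₁c : m₁ ≫ c₂ = c₃ := by
    show m₁ ≫ π₁ ≫ uv = ρ₁ ≫ π₁ ≫ uv
    rw [sq₂.lift_fst_assoc, Category.assoc, hσv]
  have hδc : δ ≫ c₂ = uv := by
    show δ ≫ π₁ ≫ uv = uv
    rw [sq₂.lift_fst_assoc, Category.id_comp]
  have comp : ∀ {a b c : Over S} {f : a ⟶ b} {g : b ⟶ c} {k : a ⟶ c}, f ≫ g = k → ∀ x,
      f.left.appTop.hom (g.left.appTop.hom x) = k.left.appTop.hom x := fun {a b c f g k} e x => by
    rw [← e, Over.comp_left, Scheme.Hom.comp_appTop]; rfl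
  have hd : d₁.comp αu = i₂ := AlgHom.ext fun x => comp hσu x
  have hbij := bijective_descend αu i₂ d₀ d₁
    (bijective_mulMap_of_isPullback sq₂' _ _)
    (appTopAlgHom ρ₂.left (L (sq₃.w.symm : ρ₂ ≫ v = c₃))) (appTopAlgHom ρ₁.left (L (rfl : ρ₁ ≫ c₂ = c₃)))
    (bijective_mulMap_of_isPullback sq₃' _ _)
    (appTopAlgHom m₀.left (L hm₀c)) (appTopAlgHom m₁.left (L hm₁c))
    (AlgHom.ext fun x => (comp (sq₂.lift_fst _ _ _) x).trans (comp rfl x).symm)
    (AlgHom.ext fun x => comp (sq₂.lift_snd _ _ _) x)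
    (AlgHom.ext fun x => (comp (sq₂.lift_fst _ _ _) x).trans (comp rfl x).symm)
    (AlgHom.ext fun x => comp (sq₂.lift_snd _ _ _) x)
    (AlgHom.ext fun x => (comp hm x).trans (comp rfl x).symm)
    (appTopAlgHom δ.left (L hδc))
    (AlgHom.ext fun x => (comp (sq₂.lift_fst _ _ _) x).trans (by simp))
    (AlgHom.ext fun x => comp (sq₂.lift_snd _ _ _) x)
    (AlgHom.ext fun x => (comp hδσ x).trans (by simp)) hd
  -- the descended scheme
  let E := AlgHom.equalizer d₀ d₁
  let A : Over S := Over.mk (Spec.map (CommRingCat.ofHom (algebraMap Γ(W.left, ⊤) E)) ≫ W.left.isoSpec.inv ≫ W.hom)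
  let ā : A ⟶ W := Over.homMk (Spec.map (CommRingCat.ofHom (algebraMap Γ(W.left, ⊤) E)) ≫ W.left.isoSpec.inv)
    (Category.assoc _ _ _)
  let a' : U.left ⟶ A.left := U.left.isoSpec.hom ≫ Spec.map (CommRingCat.ofHom E.val.toRingHom)
  have ha' : a' ≫ ā.left = uv.left := by
    show (U.left.isoSpec.hom ≫ _) ≫ _ ≫ W.left.isoSpec.inv = _
    rw [Category.assoc, ← Spec.map_comp_assoc, ← CommRingCat.ofHom_comp,
      show CommRingCat.ofHom (E.val.toRingHom.comp (algebraMap Γ(W.left, ⊤) E)) = uv.left.appTop from rfl,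
      ← Category.assoc, Iso.comp_inv_eq]
    exact Scheme.isoSpec_hom_naturality uv.left
  let a : U ⟶ A := Over.homMk a' (by
    show a' ≫ ā.left ≫ W.hom = U.hom
    rw [← Category.assoc, ha']
    exact Over.w uv)
  have haā : a ≫ ā = uv := Over.OverMorphism.ext ha'
  have hπσ : π₁ ≫ a = σ ≫ a := by
    refine Over.OverMorphism.ext ?_
    show π₁.left ≫ a' = σ.left ≫ a'
    show π₁.left ≫ U.left.isoSpec.hom ≫ _ = σ.left ≫ U.left.isoSpec.hom ≫ _
    rw [← Scheme.isoSpec_hom_naturality_assoc, ← Scheme.isoSpec_hom_naturality_assoc,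
      ← Spec.map_comp, ← Spec.map_comp]
    congr 2
    ext x
    exact x.2
  have sqA : IsPullback a.left u.left ā.left v.left := by
    have hT := CommRingCat.isPushout_tensorProduct Γ(W.left, ⊤) E Γ(V.left, ⊤)
    let α : E ⊗[Γ(W.left, ⊤)] Γ(V.left, ⊤) ≃+* Γ(U.left, ⊤) :=
      RingEquiv.ofBijective ((mulMap αu E.val).toRingHom.comp
        (Algebra.TensorProduct.comm Γ(W.left, ⊤) E Γ(V.left, ⊤)).toAlgHom.toRingHom)
        (hbij.comp (Algebra.TensorProduct.comm Γ(W.left, ⊤) E Γ(V.left, ⊤)).bijective)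
    have hP : IsPushout (CommRingCat.ofHom (algebraMap Γ(W.left, ⊤) E)) v.left.appTop
        (CommRingCat.ofHom E.val.toRingHom) u.left.appTop :=
      hT.of_iso (Iso.refl _) (Iso.refl _) (Iso.refl _) α.toCommRingCatIso (by simp) (by simp; rfl)
        (by ext x; show mulMap αu E.val (1 ⊗ₜ x) = x.1; simp)
        (by ext x; show mulMap αu E.val (x ⊗ₜ 1) = u.left.appTop.hom x; simp; rfl)
    refine (isPullback_SpecMap_of_isPushout _ _ _ _ hP).of_iso U.left.isoSpec.symm (Iso.refl _) V.left.isoSpec.symm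
      W.left.isoSpec.symm ?_ ?_ ?_ ?_
    · simp [a, a']
    · simp [Scheme.isoSpec_inv_naturality]
    · simp [ā]
    · simp [Scheme.isoSpec_inv_naturality]
  have haff : IsAffine A.left := inferInstanceAs (IsAffine (Spec _))
  have sqk : IsPullback ((yon S).map π₁) ((yon S).map σ) p p := by
    refine IsPullback.of_bot ?_ hσp.symm sq
    rw [← Functor.map_comp, hσu]
    have := (sq₂.map (yon S))
    rw [show (yon S).map uv = p ≫ q from ?_] at this
    · exact this
    · rw [Functor.map_comp, sq.w]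
  have hker : ∀ {R : Over S} (x y : R ⟶ U), (yon S).map x ≫ p = (yon S).map y ≫ p → x ≫ a = y ≫ a := by
    intro R x y e
    obtain ⟨m, hm⟩ := (yon S).map_surjective (sqk.lift ((yon S).map x) ((yon S).map y) e)
    rw [← (yon S).map_injective (show (yon S).map (m ≫ π₁) = (yon S).map x by rw [Functor.map_comp, hm, sqk.lift_fst]),
      ← (yon S).map_injective (show (yon S).map (m ≫ σ) = (yon S).map y by rw [Functor.map_comp, hm, sqk.lift_snd]),
      Category.assoc, Category.assoc, hπσ]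
  obtain ⟨k, hpk, -⟩ := exists_desc_space hX sq a hker
  have hkq : k ≫ (yon S).map ā = q := by
    obtain ⟨k₁, hk₁, huniq⟩ := exists_desc_space hX sq uv fun x y e => by
      apply (yon S).map_injective
      rw [(yon S).map_comp x uv, (yon S).map_comp y uv, show (yon S).map uv = p ≫ q by rw [sq.w, ← Functor.map_comp], reassoc_of% e]
    rw [huniq q (by rw [sq.w, ← Functor.map_comp]),
      huniq (k ≫ (yon S).map ā) (by rw [reassoc_of% hpk, ← Functor.map_comp, haā])]
  have sqA' : IsPullback ((yon S).map a) ((yon S).map u) ((yon S).map ā) ((yon S).map v) :=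
    (show IsPullback a u ā v from IsPullback.of_map (Over.forget S) (by rw [haā]) sqA).map (yon S)
  have sqka : IsPullback ((yon S).map (𝟙 U)) p ((yon S).map a) k := by
    refine (IsPullback.of_right ?_ ?_ sqA'.flip).flip.flip
    · rw [hkq, ← Functor.map_comp, Category.id_comp]
      exact sq.flip
    · rw [hpk, ← Functor.map_comp, Category.id_comp]
  have : Flat a.left := MorphismProperty.of_isPullback (P := @Flat) sqA.flip ‹_›
  have : Surjective a.left := MorphismProperty.of_isPullback (P := @Surjective) sqA.flip ‹_›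
  have hcov : IsFpqcCover (fun _ : PUnit.{u+1} => (yon S).obj U) (fun _ => (yon S).map a) :=
    isFpqcCover_singleton_yon a
  have hk : IsIso k := (isLocalOnBase_fpqc_isomorphisms _ _ (IsAlgSpace.yon_obj A) (fun _ => IsAlgSpace.yon_obj U)
    hcov k hX (fun _ => (yon S).obj U) (fun _ => (yon S).map (𝟙 U)) (fun _ => p) (fun _ => IsAlgSpace.yon_obj U)
    (fun _ => sqka.flip)).2 fun _ => show IsIso ((yon S).map (𝟙 U)) by infer_instance
  exact ⟨A, k, ā, haff, hk, hkq⟩

end Groth.L23

namespace Groth.L23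

variable {S : Scheme.{u}}

/-- A property of a representable map is fpqc local on the base. -/
theorem repWith_of_fpqcCover {P : MorphismProperty Scheme.{u}} [P.IsStableUnderBaseChange]
    [IsZariskiLocalAtTarget P] [P.DescendsAlong (@Surjective ⊓ @Flat ⊓ @QuasiCompact)]
    {ι : Type u} {Y : Sp S} {Yi : ι → Sp S} {g : ∀ i, Yi i ⟶ Y} (hcov : IsFpqcCover Yi g)
    {X : Sp S} {f : X ⟶ Y} (hf : Representable f)
    {Xi : ι → Sp S} {p : ∀ i, Xi i ⟶ Yi i} {q : ∀ i, Xi i ⟶ X}
    (sq : ∀ i, IsPullback (q i) (p i) f (g i)) (h : ∀ i, RepWith P (p i)) : RepWith P f := by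
  refine repWith_of_affine f fun Z hZ k => ⟨_, hf.snd k, hf.fst k, hf.isPullback k, ?_⟩
  have : IsAffine Z.left := hZ
  obtain ⟨J, hJ, A, e, i, l, hA, he, hl, hs⟩ := exists_fpqc_affine_family hcov k
  refine prop_of_fpqc_family (hf.snd k).left (fun j => (A j).left) (fun j => (e j).left) hA he hs fun j => ?_
  have sq₀ := IsPullback.of_hasPullback (hf.snd k) (e j)
  have sq₁ := (sq₀.map (yon S)).paste_horiz (hf.isPullback k)
  rw [← hl] at sq₁
  let n := (sq (i j)).lift ((yon S).map (pullback.fst (hf.snd k) (e j)) ≫ hf.fst k)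
    ((yon S).map (pullback.snd (hf.snd k) (e j)) ≫ l j) (by rw [Category.assoc]; simpa using sq₁.w)
  have sq₂ : IsPullback n ((yon S).map (pullback.snd (hf.snd k) (e j))) (p (i j)) (l j) := by
    refine IsPullback.of_right ?_ ((sq (i j)).lift_snd _ _ _) (sq (i j))
    rwa [(sq (i j)).lift_fst]
  have hq := repWith_prop (h (i j)) sq₂
  have sq₃ := sq₀.map (Over.forget S)
  show P (pullback.snd ((Over.forget S).map (hf.snd k)) ((Over.forget S).map (e j)))
  refine (P.cancel_left_of_respectsIso sq₃.isoPullback.hom _).1 ?_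
  exact sq₃.isoPullback_hom_snd.symm ▸ hq

theorem isLocalOnBase_fpqc_affine : IsLocalOnBase (S := S) IsFpqcCover IsAffineMor := by
  intro ι Y Yi g hY hYi hcov X f hX Xi p q hXi sq
  refine ⟨fun h i => isAffineMor_iff.2 (repWith_of_isPullback (sq i) (isAffineMor_iff.1 h)), fun h Z hZ k => ?_⟩
  have : IsAffine Z.left := hZ
  obtain ⟨J, hJ, A, e, i, l, hA, he, hl, hs⟩ := exists_fpqc_affine_family hcov k
  choose W w fst' sqW hW using fun j => h (i j) (hA j) (l j)
  let V : Over S := Over.mk (Sigma.desc fun j => (A j).hom)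
  let c : ∀ j, A j ⟶ V := fun j => Over.homMk (Sigma.ι (fun j => (A j).left) j) (Sigma.ι_desc _ _)
  have : ∀ j, IsOpenImmersion (c j).left :=
    fun j => inferInstanceAs (IsOpenImmersion ((sigmaOpenCover fun j => (A j).left).f j))
  have hcov' : ∀ t : ↥V.left, ∃ j, t ∈ Set.range (c j).left :=
    fun t => (sigmaOpenCover fun j => (A j).left).exists_eq t
  let v : V ⟶ Z := Over.homMk (Sigma.desc fun j => (e j).left) (by
    apply Sigma.hom_ext
    intro j
    show Sigma.ι _ j ≫ _ ≫ Z.hom = Sigma.ι _ j ≫ Sigma.desc _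
    rw [Sigma.ι_desc, ← Category.assoc, Sigma.ι_desc]
    exact Over.w (e j))
  have hcv : ∀ j, c j ≫ v = e j := fun j => Over.OverMorphism.ext (Sigma.ι_desc _ _)
  have : IsAffine V.left := by
    have := hA
    exact inferInstanceAs (IsAffine (∐ fun j => (A j).left))
  have : Surjective v.left := ⟨fun z => by
    obtain ⟨j, a, rfl⟩ := hs z
    exact ⟨(c j).left a, by rw [← Scheme.Hom.comp_apply, ← Over.comp_left, hcv]⟩⟩
  have : Flat v.left := IsZariskiLocalAtSource.of_openCover (P := @Flat) (sigmaOpenCover fun j => (A j).left)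
    fun j => by
      show Flat ((c j).left ≫ v.left)
      rw [← Over.comp_left, hcv]; exact he j
  have hP : IsAlgSpace (pullback f k) :=
    Groth.L24.St.isAlgSpace_pullback hX (IsAlgSpace.yon_obj Z) hY _ _
  have sqF := IsPullback.of_hasPullback (pullback.snd f k) ((yon S).map v)
  choose φ hφ using fun j => exists_refine_square sq k ((yon S).map (e j)) (i j) (l j) (hl j)
  let m : ∀ j, (yon S).obj (W j) ⟶ pullback (pullback.snd f k) ((yon S).map v) := fun j =>
    sqF.lift ((sqW j).isoPullback.hom ≫ φ j) ((yon S).map (w j ≫ c j)) (by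
      rw [Category.assoc, (hφ j).w, reassoc_of% (sqW j).isoPullback_hom_snd, ← Functor.map_comp, ← Functor.map_comp,
        Category.assoc, hcv])
  have sqm : ∀ j, IsPullback (m j) ((yon S).map (w j))
      (pullback.snd (pullback.snd f k) ((yon S).map v)) ((yon S).map (c j)) := fun j => by
    refine IsPullback.of_right ?_ (by rw [sqF.lift_snd, Functor.map_comp]) sqF
    rw [sqF.lift_fst, ← Functor.map_comp, hcv]
    exact (hφ j).of_iso (sqW j).isoPullback.symm (Iso.refl _) (Iso.refl _) (Iso.refl _)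
      (by rw [Iso.refl_hom, Category.comp_id, Iso.symm_hom, Iso.inv_hom_id_assoc])
      (by rw [Iso.refl_hom, Category.comp_id, Iso.symm_hom, IsPullback.isoPullback_inv_snd]) (by simp) (by simp)
  obtain ⟨G, π, θ, hθ, hθq, hG⟩ := exists_affine_of_sigma A c hcov'
    (fun a b x y e => congrArg Sigma.fst ((sigmaι_eq_iff (fun j => (A j).left) _ _ _ _).1 e))
    (pullback.snd (pullback.snd f k) ((yon S).map v)) W w m sqm hW
  have sqG : IsPullback (θ ≫ pullback.fst _ _) ((yon S).map π) (pullback.snd f k) ((yon S).map v) :=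
    sqF.of_iso (asIso θ).symm (Iso.refl _) (Iso.refl _) (Iso.refl _) (by simp) (by simp [← hθq]) (by simp)
      (by simp)
  obtain ⟨T, kk, t, hT, hkk, hkt⟩ := exists_affine_of_fpqc_cover hP v sqG
  exact ⟨T, t, inv kk ≫ pullback.fst f k, (IsPullback.of_hasPullback f k).of_iso (asIso kk) (Iso.refl _) (Iso.refl _)
    (Iso.refl _) (by simp) (by simp [hkt]) (by simp) (by simp), hT⟩

theorem isLocalOnBase_fpqc_of_le_affine (P : MorphismProperty Scheme.{u}) [P.IsStableUnderBaseChange]
    [IsZariskiLocalAtTarget P] [P.DescendsAlong (@Surjective ⊓ @Flat ⊓ @QuasiCompact)]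
    (hP : ∀ ⦃A B : Scheme.{u}⦄ (φ : A ⟶ B), P φ → IsAffineHom φ) :
    IsLocalOnBase (S := S) IsFpqcCover (RepWith P) := by
  intro ι Y Yi g hY hYi hcov X f hX Xi p q hXi sq
  refine ⟨fun h i => repWith_of_isPullback (sq i) h, fun h => ?_⟩
  have ha : IsAffineMor f := (isLocalOnBase_fpqc_affine Yi g hY hYi hcov f hX Xi p q hXi sq).2
    fun i => isAffineMor_iff.2 (repWith_mono (fun φ hφ => hP φ hφ) (h i))
  exact repWith_of_fpqcCover hcov (repWith_isAffineHom_of_isAffineMor ha).1 sq h

theorem isLocalOnBase_fpqc_closedImmersion :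
    IsLocalOnBase (S := S) IsFpqcCover (RepWith @IsClosedImmersion) :=
  isLocalOnBase_fpqc_of_le_affine _ fun _ _ φ (_ : IsClosedImmersion φ) => inferInstance

theorem isLocalOnBase_fpqc_integral : IsLocalOnBase (S := S) IsFpqcCover IsIntegralMor :=
  isLocalOnBase_congr (fun _ _ _ => isIntegralMor_iff)
    (isLocalOnBase_fpqc_of_le_affine _ fun _ _ φ (_ : IsIntegralHom φ) => inferInstance)

theorem isLocalOnBase_fpqc_finite : IsLocalOnBase (S := S) IsFpqcCover IsFiniteMor :=
  isLocalOnBase_congr (fun _ _ _ => isFiniteMor_iff)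
    (isLocalOnBase_fpqc_of_le_affine _ fun _ _ φ (_ : IsFinite φ) => inferInstance)

end Groth.L23

namespace Groth.L23

/-- Flat and locally of finite presentation. -/
abbrev flatLfp : MorphismProperty Scheme.{u} := @Flat ⊓ @LocallyOfFinitePresentation

/-- Finite, flat and locally of finite presentation. -/
abbrev finFlatLfp : MorphismProperty Scheme.{u} := @IsFinite ⊓ flatLfp

theorem finLocFree_eq : (AlgSp.finLocFree : MorphismProperty Scheme.{u}) = finFlatLfp := rfl

theorem isLocalOnBase_fpqc_finLocFree {S : Scheme.{u}} :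
    IsLocalOnBase (S := S) IsFpqcCover IsFinLocFreeMor := by
  show IsLocalOnBase (S := S) IsFpqcCover (RepWith AlgSp.finLocFree)
  rw [finLocFree_eq]
  exact isLocalOnBase_fpqc_of_le_affine _ fun _ _ φ h => (have : IsFinite φ := h.1; inferInstance)

end Groth.L23
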