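import Groth.Agent.L23.Epi
import Mathlib.AlgebraicGeometry.Morphisms.Etale

/-!
# Etale equivalence relations
-/

universe u

open CategoryTheory CategoryTheory.Limits AlgebraicGeometry Opposite AlgSp

set_option backward.isDefEq.respectTransparency.types false

namespace Groth.L23

variable {S : Scheme.{u}}

attribute [local simp] prod.lift_fst prod.lift_snd prod.lift_fst_assoc prod.lift_snd_assoc prod.map_fst
  prod.map_snd

instance overEtale_isStableUnderBaseChange :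
    (MorphismProperty.inverseImage (@Etale : MorphismProperty Scheme.{u}) (Over.forget S)).IsStableUnderBaseChange :=
  ⟨fun sq h => MorphismProperty.of_isPullback (P := (@Etale : MorphismProperty Scheme.{u}))
    (sq.map (Over.forget S)) h⟩

theorem isEtaleEqvRel_restrict {R U R' U' : Over S} {s t : R ⟶ U} {g : U' ⟶ U}
    {s' t' : R' ⟶ U'} {r : R' ⟶ R}
    (hsq : IsPullback (prod.lift t' s') r (prod.map g g) (prod.lift t s)) (h : IsEtaleEqvRel s t)
    [Etale g.left] : IsEtaleEqvRel s' t' := by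
  have ht : t' ≫ g = r ≫ t := by simpa using hsq.w =≫ prod.fst
  have hs : s' ≫ g = r ≫ s := by simpa using hsq.w =≫ prod.snd
  have hr : Etale r.left := MorphismProperty.of_isPullback
    (P := MorphismProperty.inverseImage (@Etale : MorphismProperty Scheme.{u}) (Over.forget S)) hsq
    (prop_prod_map _ (show Etale g.left by assumption) (show Etale g.left by assumption))
  have ext' : ∀ {T : Over S} (a b : T ⟶ R'), a ≫ t' = b ≫ t' → a ≫ s' = b ≫ s' →
      a ≫ r = b ≫ r → a = b := fun a b e₁ e₂ e₃ =>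
    hsq.hom_ext (by apply prod.hom_ext <;> simp [e₁, e₂]) e₃
  have hl : ∀ {T : Over S} (a b : T ⟶ U') (k : T ⟶ R), k ≫ t = a ≫ g → k ≫ s = b ≫ g →
      ∃ k' : T ⟶ R', k' ≫ t' = a ∧ k' ≫ s' = b := fun a b k e₁ e₂ => by
    refine ⟨hsq.lift (prod.lift a b) k (by apply prod.hom_ext <;> simp [e₁, e₂]), ?_, ?_⟩
    · simpa using congrArg (· ≫ prod.fst) (hsq.lift_fst (prod.lift a b) k (by apply prod.hom_ext <;> simp [e₁, e₂]))
    · simpa using congrArg (· ≫ prod.snd) (hsq.lift_fst (prod.lift a b) k (by apply prod.hom_ext <;> simp [e₁, e₂]))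
  refine ⟨⟨fun T a b e₁ e₂ => ext' a b e₁ e₂ (h.injective T _ _ ?_ ?_), fun T => ⟨fun a => ?_, ?_, ?_⟩⟩, ?_, ?_⟩
  · simp [← ht, reassoc_of% e₁]
  · simp [← hs, reassoc_of% e₂]
  · obtain ⟨k, k₁, k₂⟩ := (h.equivalence T).refl (a ≫ g)
    exact hl a a k k₁ k₂
  · rintro a b ⟨k, rfl, rfl⟩
    obtain ⟨k', k₁, k₂⟩ := (h.equivalence T).symm
      (x := (k ≫ t') ≫ g) (y := (k ≫ s') ≫ g) ⟨k ≫ r, by simp [ht], by simp [hs]⟩
    exact hl _ _ k' k₁ k₂
  · rintro a b c ⟨k, rfl, hk⟩ ⟨l, hl₁, rfl⟩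
    obtain ⟨k', k₁, k₂⟩ := (h.equivalence T).trans
      (x := (k ≫ t') ≫ g) (y := b ≫ g) (z := (l ≫ s') ≫ g)
      ⟨k ≫ r, by simp [ht], by rw [← hk]; simp [hs]⟩ ⟨l ≫ r, by rw [← hl₁]; simp [ht], by simp [hs]⟩
    exact hl _ _ k' k₁ k₂
  · have : Etale (s'.left ≫ g.left) := by
      rw [← Over.comp_left, hs]; have := h.etale_left; exact inferInstanceAs (Etale (r.left ≫ s.left))
    exact Etale.of_comp _ g.left
  · have : Etale (t'.left ≫ g.left) := by
      rw [← Over.comp_left, ht]; have := h.etale_right; exact inferInstanceAs (Etale (r.left ≫ t.left))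
    exact Etale.of_comp _ g.left

theorem isEtaleEqvRel_of_atlas {F : Sp S} {R U : Over S} {p : (yon S).obj U ⟶ F}
    (he : RepWith @Etale p) {s t : R ⟶ U}
    (sq : IsPullback ((yon S).map t) ((yon S).map s) p p) : IsEtaleEqvRel s t := by
  refine ⟨⟨fun T a b e₁ e₂ => ?_, fun T => ⟨fun a => ?_, ?_, ?_⟩⟩, ?_, ?_⟩
  · apply (yon S).map_injective
    apply sq.hom_ext <;> rw [← Functor.map_comp, ← Functor.map_comp] <;> simp [e₁, e₂]
  · obtain ⟨k, k₁, k₂⟩ := sq.exists_lift ((yon S).map a) ((yon S).map a) rfl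
    obtain ⟨k, rfl⟩ := (yon S).map_surjective k
    rw [← Functor.map_comp] at k₁ k₂
    exact ⟨k, (yon S).map_injective k₁, (yon S).map_injective k₂⟩
  · rintro a b ⟨l, rfl, rfl⟩
    obtain ⟨k, k₁, k₂⟩ := sq.exists_lift ((yon S).map (l ≫ s)) ((yon S).map (l ≫ t)) (by
      simp [sq.w])
    obtain ⟨k, rfl⟩ := (yon S).map_surjective k
    rw [← Functor.map_comp] at k₁ k₂
    exact ⟨k, (yon S).map_injective k₁, (yon S).map_injective k₂⟩
  · rintro a b c ⟨l, rfl, hl⟩ ⟨m, hm, rfl⟩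
    obtain ⟨k, k₁, k₂⟩ := sq.exists_lift ((yon S).map (l ≫ t)) ((yon S).map (m ≫ s)) (by
      have q : ∀ x : T ⟶ R, (yon S).map (x ≫ t) ≫ p = (yon S).map (x ≫ s) ≫ p := fun x => by
        simp [sq.w]
      rw [q l, hl, ← hm, q m])
    obtain ⟨k, rfl⟩ := (yon S).map_surjective k
    rw [← Functor.map_comp] at k₁ k₂
    exact ⟨k, (yon S).map_injective k₁, (yon S).map_injective k₂⟩
  · exact (repWith_yon_map_iff _ s).1 (repWith_of_isPullback sq he)
  · exact (repWith_yon_map_iff _ t).1 (repWith_of_isPullback sq.flip he)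

end Groth.L23
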