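import Groth.Agent.L23.OpenSub
import Groth.Agent.L23.EqvRel

/-!
# Charts factoring through open subspaces
-/

universe u

open CategoryTheory CategoryTheory.Limits AlgebraicGeometry Opposite AlgSp Topology

set_option backward.isDefEq.respectTransparency.types false

namespace Groth.L23

variable {S : Scheme.{u}} {X X' : Sp S}

theorem exists_factor_chart (hX' : IsAlgSpace X') {U : Over S} {a : (yon S).obj U ⟶ X}
    (ha : RepWith @Etale a) {j : X' ⟶ X} (hj : RepWith @IsOpenImmersion j)
    (himage : Set.range (Points.map j) = Set.range (Points.ofPt a)) :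
    ∃ a' : (yon S).obj U ⟶ X', a' ≫ j = a ∧ RepWith @Etale a' ∧ RepWith @Surjective a' ∧
      ∀ (R : Over S) (s t : R ⟶ U),
        IsPullback ((yon S).map t) ((yon S).map s) a a → IsPresentation s t a' := by
  obtain ⟨a', rfl⟩ := (exists_factor_iff hj a).2 (by rw [range_map_yon, himage])
  have := mono_of_repWith_openImmersion hj
  have he : RepWith @Etale a' := repWith_of_comp_mono ha
  have hs : RepWith @Surjective a' := repWith_surjective_of_map he.1 fun x => by
    have hx : Points.map j x ∈ Set.range (Points.map (a' ≫ j)) := by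
      rw [range_map_yon, ← himage]; exact ⟨x, rfl⟩
    obtain ⟨z, hz⟩ := hx
    exact ⟨z, injective_map_of_repWith (repWith_mono
      (Q := (@UniversallyInjective : MorphismProperty Scheme.{u}))
      (fun φ (_ : IsOpenImmersion φ) => inferInstanceAs (UniversallyInjective φ)) hj)
      ((Points.map_comp _ _ _).symm.trans hz)⟩
  exact ⟨a', rfl, he, hs, fun R s t sq =>
    ⟨isEtaleEqvRel_of_atlas ha sq, he, hs, isPullback_of_comp_mono sq⟩⟩

end Groth.L23
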