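import Groth.Agent.L23.Basic

/-!
# Representable sheaves
-/

universe u

open CategoryTheory CategoryTheory.Limits AlgebraicGeometry Opposite AlgSp

set_option backward.isDefEq.respectTransparency.types false

namespace Groth.L23

variable {S : Scheme.{u}}

lemma isRepresentable_iff_exists_iso {F : Sp S} :
    F.obj.IsRepresentable ↔ ∃ T : Over S, Nonempty ((yon S).obj T ≅ F) := by
  constructor
  · rintro ⟨T, ⟨R⟩⟩
    exact ⟨T, ⟨(fullyFaithfulSheafToPresheaf (J S) (Type (u + 1))).preimageIso
      (Functor.RepresentableBy.equivUliftYonedaIso _ _ R)⟩⟩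
  · rintro ⟨T, ⟨e⟩⟩
    exact ⟨T, ⟨(Functor.RepresentableBy.equivUliftYonedaIso _ _).symm ((sheafToPresheaf (J S) _).mapIso e)⟩⟩

end Groth.L23
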