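import Groth.Agent.L23.LqfMain
import Groth.Agent.L23.MorCalc
import Groth.Agent.L23.OpenFactor
import Groth.Agent.L23.SchemeRep

/-!
# Separated locally quasi-finite maps are representable by schemes
-/

universe u

open CategoryTheory CategoryTheory.Limits AlgebraicGeometry Opposite AlgSp TopologicalSpace

set_option backward.isDefEq.respectTransparency.types false

namespace Groth.L23.Lqf

variable {S : Scheme.{u}}

/-- A space separated and locally quasi-finite over a scheme is a scheme. -/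
theorem exists_scheme_of_lqf {X : Sp S} (hX : IsAlgSpace X) {T : Over S} (f : X ⟶ (yon S).obj T)
    (hq : LocP (@LocallyQuasiFinite ⊓ @LocallyOfFiniteType) f) (hsep : IsSeparatedMor f) :
    ∃ (G : Over S) (θ : (yon S).obj G ⟶ X), IsIso θ := by
  obtain ⟨U, c, hc, hcs⟩ := hX.atlas
  refine OpenCharts.exists_scheme_of_open_charts hX fun x => ?_
  obtain ⟨u, rfl⟩ := surjective_ofPt hcs x
  obtain ⟨h, hh⟩ := (yon S).map_surjective (c ≫ f)
  obtain ⟨_, ⟨W, hW, rfl⟩, huW, -⟩ :=
    T.left.isBasis_affineOpens.exists_subset_of_mem_open (Set.mem_univ (h.left u)) isOpen_univ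
  obtain ⟨_, ⟨U', hU', rfl⟩, huU, hU'W⟩ := U.left.isBasis_affineOpens.exists_subset_of_mem_open
    (show u ∈ h.left ⁻¹ᵁ W from huW) (h.left ⁻¹ᵁ W).isOpen
  let U₁ : Over S := openOver U U'
  let jU : U₁ ⟶ U := openOverι U U'
  have : IsOpenImmersion jU.left := inferInstanceAs (IsOpenImmersion (Scheme.Opens.ι U'))
  have hjU : RepWith @Etale ((yon S).map jU) := repWith_map (inferInstance : Etale jU.left)
  let V₀ : Opens (Points X) := ⟨Set.range (Points.ofPt ((yon S).map jU ≫ c)),
    (isOpenMap_ofPt (repWith_comp hjU hc)).isOpen_range⟩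
  have hV : RepWith @IsOpenImmersion (openSubι V₀) := repWith_openSubι V₀
  obtain ⟨p, hp⟩ := (exists_factor_iff hV ((yon S).map jU ≫ c)).2 (by
    rw [range_openSubι]
    rintro _ ⟨y, rfl⟩
    obtain ⟨z, rfl⟩ := (Points.schemeEquiv U₁).surjective y
    exact ⟨z, Points.ofPt_eq_map_ofScheme _ _⟩)
  have : Mono (openSubι V₀) := mono_of_repWith_openImmersion hV
  have hpe : RepWith @Etale p := repWith_of_comp_mono (m := openSubι V₀) (by rw [hp]; exact repWith_comp hjU hc)
  have hps : RepWith @Surjective p := repWith_surjective_of_map hpe.1 fun y => by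
    have hy : Points.map (openSubι V₀) y ∈ Set.range (Points.map (openSubι V₀)) := ⟨y, rfl⟩
    rw [range_openSubι] at hy
    obtain ⟨z, hz⟩ := hy
    refine ⟨Points.ofScheme U₁ z, ?_⟩
    refine (isEmbedding_map_of_immersion hX (repWith_mono (fun φ (_ : IsOpenImmersion φ) =>
      inferInstanceAs (IsImmersion φ)) hV)).1.injective ?_
    rw [← Points.map_comp, hp, ← Points.ofPt_eq_map_ofScheme, hz]
  let W₁ : Over S := openOver T W
  let jW : W₁ ⟶ T := openOverι T W
  have : IsOpenImmersion jW.left := inferInstanceAs (IsOpenImmersion (Scheme.Opens.ι W))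
  have hjW : RepWith @IsOpenImmersion ((yon S).map jW) := repWith_map ‹_›
  obtain ⟨q, hqe⟩ := (exists_factor_iff hjW (openSubι V₀ ≫ f)).2 (by
    rintro _ ⟨y, rfl⟩
    obtain ⟨z₀, rfl⟩ := surjective_map_of_repWith hps y
    obtain ⟨z, rfl⟩ := (Points.schemeEquiv U₁).surjective z₀
    obtain ⟨w, hw⟩ : h.left (jU.left z) ∈ Set.range jW.left := by
      show _ ∈ Set.range (Scheme.Opens.ι W)
      rw [Scheme.Opens.range_ι]
      exact hU'W z.2
    refine ⟨Points.ofScheme W₁ w, ?_⟩
    rw [← Points.map_comp, ← Category.assoc, hp, Category.assoc, ← hh, ← Functor.map_comp,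
      ← Points.ofPt_eq_map_ofScheme]
    refine Eq.trans ?_ (Points.ofPt_eq_map_ofScheme _ _)
    rw [show (yon S).map jW = (yon S).map jW ≫ 𝟙 _ from (Category.comp_id _).symm,
      show (yon S).map (jU ≫ h) = (yon S).map (jU ≫ h) ≫ 𝟙 _ from (Category.comp_id _).symm, ofPt_comp, ofPt_comp,
      hw]
    rfl)
  have : Mono ((yon S).map jW) := mono_of_repWith_openImmersion hjW
  have hsepV : IsSeparatedMor (openSubι V₀ ≫ f) := separated_comp
    ((isSeparatedMor_iff hV.1).2 (repWith_mono (fun φ (_ : IsOpenImmersion φ) => inferInstanceAs (IsSeparated φ)) hV))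
    hsep
  have hd : RepWith @IsClosedImmersion (pullback.diagonal q) :=
    repWith_diagonal_of_comp (g := (yon S).map jW)
      (show IsSeparatedMor (q ≫ (yon S).map jW) from hqe.symm ▸ hsepV)
  have hqq : LocP (@LocallyQuasiFinite ⊓ @LocallyOfFiniteType) q := fun A B a b k ha hb w => by
    refine hq (a ≫ openSubι V₀) (b ≫ (yon S).map jW) k
      (repWith_comp ha (repWith_mono (fun φ (_ : IsOpenImmersion φ) => inferInstanceAs (Etale φ)) hV))
      (repWith_comp hb (repWith_mono (fun φ (_ : IsOpenImmersion φ) => inferInstanceAs (Etale φ)) hjW)) ?_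
    rw [Category.assoc, ← hqe, reassoc_of% w]
  haveI : IsAffine W₁.left := hW
  haveI : IsAffine U₁.left := hU'
  obtain ⟨G, θ, hθ, -⟩ := exists_quasiAffine_of_lqf (isAlgSpace_openSub V₀ hX) q hd hqq p hpe hps
  obtain ⟨ū, hū⟩ := (yon S).map_surjective (p ≫ inv θ)
  refine ⟨G, θ ≫ openSubι V₀, ū.left ⟨u, huU⟩, MorphismProperty.RespectsIso.precomp _ _ _ hV, ?_⟩
  rw [← ofPt_comp, hū, Category.assoc, IsIso.inv_hom_id_assoc, hp, ofPt_comp]
  rfl

/-- A separated locally quasi-finite map is representable by schemes. -/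
theorem representable_of_lqf {X Y : Sp S} (hX : IsAlgSpace X) (hY : IsAlgSpace Y) {f : X ⟶ Y}
    (hq : LocP (@LocallyQuasiFinite ⊓ @LocallyOfFiniteType) f) (hsep : IsSeparatedMor f) : Representable f := by
  intro T g
  have sq := IsPullback.of_hasPullback f g
  have hP : IsAlgSpace (pullback f g) := isAlgSpace_of_isPullback hY.diag hX (IsAlgSpace.yon_obj T) sq
  obtain ⟨G, θ, hθ⟩ := exists_scheme_of_lqf hP (pullback.snd f g)
    (locP_of_isPullback etLocal_lqfLft hX hY (IsAlgSpace.yon_obj T) sq hq) (separated_of_isPullback sq hsep)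
  obtain ⟨s, hs⟩ := (yon S).map_surjective (θ ≫ pullback.snd f g)
  exact ⟨G, s, θ ≫ pullback.fst f g, sq.of_iso (asIso θ).symm (Iso.refl _) (Iso.refl _) (Iso.refl _)
    (by simp) (by simp [hs]) (by simp) (by simp)⟩

end Groth.L23.Lqf
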