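import Groth.Agent.L23.DenseEtale
import Groth.Agent.L23.OpenSub
import Groth.Agent.L23.Points
import Groth.Prelude.Def_AlgSpSub
import Mathlib.RingTheory.Flat.FaithfullyFlat.Algebra

/-!
# Scheme theoretically dense open subspaces
-/

universe u

open CategoryTheory CategoryTheory.Limits AlgebraicGeometry Opposite AlgSp TopologicalSpace

set_option autoImplicit false
set_option linter.style.haveILetI false
set_option backward.isDefEq.respectTransparency.types false

namespace Groth.L23

variable {S : Scheme.{u}}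

/-- Pullback of sections along a flat surjection is injective. -/
theorem app_injective_of_flat_surjective {Y X : Scheme.{u}} (π : Y ⟶ X) [Flat π] [Surjective π] (V : X.Opens) :
    Function.Injective (π.app V).hom := by
  intro s t h
  refine TopCat.Presheaf.section_ext X.sheaf V s t fun x hx => ?_
  obtain ⟨y, rfl⟩ := π.surjective x
  change X.presheaf.germ V (π y) hx s = X.presheaf.germ V (π y) hx t
  have hinj : Function.Injective (π.stalkMap y).hom := by
    have hfl : (π.stalkMap y).hom.Flat := Flat.stalkMap π y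
    letI := (π.stalkMap y).hom.toAlgebra
    haveI : Module.Flat (X.presheaf.stalk (π y)) (Y.presheaf.stalk y) := hfl
    haveI : IsLocalHom (algebraMap (X.presheaf.stalk (π y)) (Y.presheaf.stalk y)) :=
      inferInstanceAs (IsLocalHom (π.stalkMap y).hom)
    haveI : Module.FaithfullyFlat (X.presheaf.stalk (π y)) (Y.presheaf.stalk y) :=
      Module.FaithfullyFlat.of_flat_of_isLocalHom
    exact FaithfulSMul.algebraMap_injective (X.presheaf.stalk (π y)) (Y.presheaf.stalk y)
  apply hinj
  change (π.stalkMap y).hom (X.presheaf.germ V (π y) hx s) = (π.stalkMap y).hom (X.presheaf.germ V (π y) hx t)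
  have h1 := Scheme.Hom.germ_stalkMap_apply π V y hx s
  have h2 := Scheme.Hom.germ_stalkMap_apply π V y hx t
  exact h1.trans ((congrArg (Y.presheaf.germ (π ⁻¹ᵁ V) y hx) h).trans h2.symm)

theorem isSchematicallyDense_of_preimage {Y X : Scheme.{u}} (π : Y ⟶ X) [Flat π] [Surjective π] (V : X.Opens)
    (h : CInt.IsSchematicallyDense (π ⁻¹ᵁ V)) : CInt.IsSchematicallyDense V := by
  intro W
  rw [injective_iff_map_eq_zero]
  intro s hs
  apply app_injective_of_flat_surjective π W
  rw [map_zero]
  apply h (π ⁻¹ᵁ W)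
  rw [map_zero]
  have h1 := congrArg (π.app (W ⊓ V)) hs
  rw [map_zero, ← ConcreteCategory.comp_apply, π.naturality] at h1
  exact h1

theorem isSchematicallyDense_inf {X : Scheme.{u}} {U V : X.Opens} (hU : CInt.IsSchematicallyDense U)
    (hV : CInt.IsSchematicallyDense V) : CInt.IsSchematicallyDense (U ⊓ V) := by
  intro W
  rw [injective_iff_map_eq_zero]
  intro s hs
  apply hU W
  rw [map_zero]
  apply hV (W ⊓ U)
  rw [map_zero]
  have h := congrArg (X.presheaf.map (homOfLE (inf_assoc W U V).le).op) hs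
  rw [map_zero, ← ConcreteCategory.comp_apply, ← Functor.map_comp] at h
  rw [← ConcreteCategory.comp_apply, ← Functor.map_comp]
  exact h

variable {X G : Sp S}

/-- The inverse image of an open subspace in a chart, as an open subscheme. -/
noncomputable def preOpen {j : G ⟶ X} (hj : RepWith @IsOpenImmersion j) {V : Over S} (φ : (yon S).obj V ⟶ X) :
    V.left.Opens :=
  ⟨Points.ofPt φ ⁻¹' Set.range (Points.map j),
    ((isOpenMap_map_of_representable hj.1 fun _ g => by
      haveI : IsOpenImmersion (hj.1.snd g).left := repWith_snd hj g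
      exact (hj.1.snd g).left.isOpenEmbedding.isOpenMap).isOpen_range).preimage (Points.continuous_ofPt φ)⟩

theorem eq_preOpen {j : G ⟶ X} (hj : RepWith @IsOpenImmersion j) {V : Over S} {φ : (yon S).obj V ⟶ X}
    {W : V.left.Opens} {fst : (yon S).obj (Over.mk (W.ι ≫ V.hom)) ⟶ G}
    (sq : IsPullback fst ((yon S).map (Over.homMk W.ι rfl : Over.mk (W.ι ≫ V.hom) ⟶ V)) j φ) :
    W = preOpen hj φ := by
  apply SetLike.coe_injective
  show (W : Set V.left) = Points.ofPt φ ⁻¹' Set.range (Points.map j)
  rw [← Set.image_univ, preimage_image_map sq, Set.preimage_univ, Set.image_univ]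
  exact W.range_ι.symm

theorem exists_isPullback_preOpen {j : G ⟶ X} (hj : RepWith @IsOpenImmersion j) {V : Over S}
    (φ : (yon S).obj V ⟶ X) :
    ∃ fst, IsPullback fst
      ((yon S).map (Over.homMk (preOpen hj φ).ι rfl : Over.mk ((preOpen hj φ).ι ≫ V.hom) ⟶ V)) j φ := by
  haveI : IsOpenImmersion (hj.1.snd φ).left := repWith_snd hj φ
  have sq := hj.1.isPullback φ
  have hr : Set.range (hj.1.snd φ).left = Set.range (preOpen hj φ).ι := by
    rw [Scheme.Opens.range_ι]
    show _ = Points.ofPt φ ⁻¹' Set.range (Points.map j)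
    rw [← Set.image_univ (f := Points.map j), preimage_image_map sq, Set.preimage_univ, Set.image_univ]
  let e := IsOpenImmersion.isoOfRangeEq (hj.1.snd φ).left (preOpen hj φ).ι hr
  have he : e.hom ≫ (preOpen hj φ).ι = (hj.1.snd φ).left := IsOpenImmersion.isoOfRangeEq_hom_fac _ _ _
  let e' : _ ≅ Over.mk ((preOpen hj φ).ι ≫ V.hom) := Over.isoMk e (by
    show e.hom ≫ _ ≫ V.hom = _
    rw [reassoc_of% he, Over.w (hj.1.snd φ)])
  have he' : e'.hom ≫ (Over.homMk (preOpen hj φ).ι rfl : Over.mk ((preOpen hj φ).ι ≫ V.hom) ⟶ V) = hj.1.snd φ :=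
    Over.OverMorphism.ext he
  refine ⟨(yon S).map e'.inv ≫ hj.1.fst φ, sq.of_iso ((yon S).mapIso e') (Iso.refl _) (Iso.refl _) (Iso.refl _)
    (by rw [Iso.refl_hom, Category.comp_id, Functor.mapIso_hom, ← Functor.map_comp_assoc, e'.hom_inv_id,
          CategoryTheory.Functor.map_id, Category.id_comp])
    (by rw [Iso.refl_hom, Category.comp_id, Functor.mapIso_hom, ← Functor.map_comp, he'])
    (by simp) (by simp)⟩

/-- Scheme theoretic density holds on every etale chart. -/
theorem isSchematicallyDense_preOpen {j : G ⟶ X} (h : IsSchDense j) {V : Over S} {φ : (yon S).obj V ⟶ X}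
    (hφ : RepWith @Etale φ) : CInt.IsSchematicallyDense (preOpen h.1 φ) := by
  obtain ⟨hj, V₀, φ₀, W₀, fst, h₀, h₀s, sq, hd⟩ := h
  obtain rfl := eq_preOpen hj sq
  obtain ⟨R, a, b, sR⟩ := exists_isPullback_of_representable h₀.1 φ
  haveI : Etale a.left := repWith_prop hφ sR.flip
  haveI : Etale b.left := repWith_prop h₀ sR
  haveI : Surjective b.left := repWith_prop h₀s sR
  have hp : a.left ⁻¹ᵁ preOpen hj φ₀ = b.left ⁻¹ᵁ preOpen hj φ := by
    ext r
    show Points.ofPt φ₀ (a.left r) ∈ Set.range (Points.map j) ↔ Points.ofPt φ (b.left r) ∈ Set.range (Points.map j)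
    rw [← ofPt_comp, ← ofPt_comp, sR.w]
  have := DenseEt.isSchematicallyDense_preimage_of_etale a.left _ hd
  rw [hp] at this
  exact isSchematicallyDense_of_preimage b.left _ this

theorem isSchDense_of_preOpen {j : G ⟶ X} (hj : RepWith @IsOpenImmersion j) {V : Over S} {φ : (yon S).obj V ⟶ X}
    (hφ : RepWith @Etale φ) (hs : RepWith @Surjective φ) (h : CInt.IsSchematicallyDense (preOpen hj φ)) :
    IsSchDense j := by
  obtain ⟨fst, sq⟩ := exists_isPullback_preOpen hj φ
  exact ⟨hj, V, φ, preOpen hj φ, fst, hφ, hs, sq, h⟩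

/-- Intersections of scheme theoretically dense open subspaces. -/
theorem isSchDense_inter {U W P : Sp S} {jU : U ⟶ X} {jW : W ⟶ X}
    (hU : IsSchDense jU) (hW : IsSchDense jW) {fst : P ⟶ U} {snd : P ⟶ W} (sq : IsPullback fst snd jU jW) :
    IsSchDense (fst ≫ jU) := by
  have hP : RepWith @IsOpenImmersion (fst ≫ jU) := repWith_comp (repWith_of_isPullback sq.flip hW.1) hU.1
  obtain ⟨V, φ, _, _, hφ, hs, -, -⟩ := hU.2
  refine isSchDense_of_preOpen hP hφ hs ?_
  have : preOpen hP φ = preOpen hU.1 φ ⊓ preOpen hW.1 φ := by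
    ext v
    show Points.ofPt φ v ∈ Set.range (Points.map (fst ≫ jU)) ↔
      Points.ofPt φ v ∈ Set.range (Points.map jU) ∧ Points.ofPt φ v ∈ Set.range (Points.map jW)
    constructor
    · rintro ⟨p, hp⟩
      rw [← hp]
      exact ⟨⟨Points.map fst p, (Points.map_comp _ _ _).symm⟩,
        ⟨Points.map snd p, by rw [← Points.map_comp, sq.w]⟩⟩
    · rintro ⟨⟨a, ha⟩, ⟨b, hb⟩⟩
      obtain ⟨p, hp, -⟩ := exists_of_isPullback sq a b (ha.trans hb.symm)
      exact ⟨p, by rw [Points.map_comp, hp, ha]⟩
  rw [this]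
  exact isSchematicallyDense_inf (isSchematicallyDense_preOpen hU hφ) (isSchematicallyDense_preOpen hW hφ)

end Groth.L23
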