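import Groth.Agent.L23.EtaleAlgDescent
import Mathlib.RingTheory.Smooth.StandardSmoothOfFree
import Mathlib.RingTheory.Extension.Presentation.Core
import Mathlib.RingTheory.Etale.Basic
import Mathlib.RingTheory.TensorProduct.Quotient

/-!
# Lifting etale algebras along surjections, descent of finite presentation and smoothness
-/

universe u

open TensorProduct

namespace Groth.L23

/-- The kernel and image of `M ⟶ B ⊗[P] M` for a quotient `B` of `P`. -/
lemma ker_includeRight_of_surjective {P B M : Type u} [CommRing P] [CommRing B] [CommRing M]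
    [Algebra P B] [Algebra P M] (hπ : Function.Surjective (algebraMap P B)) :
    RingHom.ker (Algebra.TensorProduct.includeRight : M →ₐ[P] B ⊗[P] M) =
      (RingHom.ker (algebraMap P B)).map (algebraMap P M) ∧
    Function.Surjective (Algebra.TensorProduct.includeRight : M →ₐ[P] B ⊗[P] M) := by
  let J := (RingHom.ker (algebraMap P B)).map (algebraMap P M)
  let g0 : P →ₐ[P] M ⧸ J := Algebra.ofId P (M ⧸ J)
  have hle0 : RingHom.ker (Algebra.ofId P B).toRingHom ≤ RingHom.ker g0.toRingHom := fun r hr => by
    change Ideal.Quotient.mk J (algebraMap P M r) = 0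
    exact Ideal.Quotient.eq_zero_iff_mem.2 (Ideal.mem_map_of_mem _ hr)
  let qb := AlgHom.liftOfSurjective (Algebra.ofId P B) hπ g0 hle0
  let back : B ⊗[P] M →ₐ[P] M ⧸ J :=
    Algebra.TensorProduct.lift qb (Ideal.Quotient.mkₐ P J) (fun _ _ => Commute.all _ _)
  refine ⟨le_antisymm (fun x hx => ?_) (Ideal.map_le_iff_le_comap.2 fun r hr => ?_), fun z => ?_⟩
  · have hb : back ((1 : B) ⊗ₜ[P] x) = Ideal.Quotient.mk J x := by simp [back]
    have h0 : (1 : B) ⊗ₜ[P] x = 0 := hx
    rw [h0, map_zero] at hb
    exact Ideal.Quotient.eq_zero_iff_mem.1 hb.symm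
  · rw [Ideal.mem_comap, RingHom.mem_ker, AlgHom.commutes,
      Algebra.TensorProduct.algebraMap_apply, RingHom.mem_ker.1 hr, TensorProduct.zero_tmul]
  · induction z with
    | zero => exact ⟨0, map_zero _⟩
    | add x y hx hy =>
      obtain ⟨a, ha⟩ := hx; obtain ⟨b, hb⟩ := hy
      exact ⟨a + b, by rw [map_add, ha, hb]⟩
    | tmul b m =>
      obtain ⟨r, rfl⟩ := hπ b
      exact ⟨r • m, by
        rw [Algebra.TensorProduct.includeRight_apply, TensorProduct.tmul_smul, TensorProduct.smul_tmul',
          Algebra.algebraMap_eq_smul_one]⟩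

/-- An etale algebra over a quotient lifts to an etale algebra. -/
theorem exists_etale_lift {P B C : Type u} [CommRing P] [CommRing B] [CommRing C] [Algebra P B]
    (hπ : Function.Surjective (algebraMap P B)) [Algebra B C] [Algebra P C] [IsScalarTower P B C]
    [Algebra.Etale B C] :
    ∃ (C' : Type u) (_ : CommRing C') (_ : Algebra P C') (ψ : C' →ₐ[P] C),
      Algebra.Etale P C' ∧ Function.Surjective ψ ∧
        RingHom.ker ψ = (RingHom.ker (algebraMap P B)).map (algebraMap P C') := by
  classical
  have hC : Algebra.IsStandardSmoothOfRelativeDimension 0 B C :=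
    Algebra.Etale.iff_isStandardSmoothOfRelativeDimension_zero.mp ‹_›
  obtain ⟨ι, σ, _, _, p, hp⟩ := hC.out
  have : p.HasCoeffs P := ⟨fun x _ => hπ x⟩
  let q := p.toPreSubmersivePresentation.ofHasCoeffs P
  let M := p.ModelOfHasCoeffs P
  let e : B ⊗[P] M ≃ₐ[B] C := p.tensorModelOfHasCoeffsEquiv P
  let φ : M →ₐ[P] C := (e.restrictScalars P).toAlgHom.comp Algebra.TensorProduct.includeRight
  let I := RingHom.ker (algebraMap P B)
  obtain ⟨hk0, hs0⟩ := ker_includeRight_of_surjective (M := M) hπ
  have hφs : Function.Surjective φ := e.surjective.comp hs0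
  have hφk : RingHom.ker φ = I.map (algebraMap P M) := by
    rw [← hk0]
    ext x
    exact map_eq_zero_iff (e.restrictScalars P) e.injective
  have hjac : φ q.jacobian = p.jacobian := by
    let _ : Fintype σ := Fintype.ofFinite σ
    rw [q.jacobian_eq_jacobiMatrix_det]
    trans e (1 ⊗ₜ Ideal.Quotient.mk _ (p.jacobianOfHasCoeffs P))
    · simp [φ, q, Algebra.SubmersivePresentation.jacobianOfHasCoeffs]
      congr!
      funext y
      exact (Algebra.Generators.algebraMap_apply _ y).symm
    · rw [Algebra.Presentation.tensorModelOfHasCoeffsEquiv_tmul, map_one, one_mul, p.aeval_jacobianOfHasCoeffs]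
  let L := Localization.Away q.jacobian
  let ψ : L →ₐ[P] C := IsLocalization.liftAlgHom (M := Submonoid.powers q.jacobian) (f := φ)
    (fun ⟨y, n, hy⟩ => by
      subst hy
      rw [map_pow, hjac]
      exact p.jacobian_isUnit.pow n)
  have hψ : ∀ m, ψ (algebraMap M L m) = φ m := fun m => IsLocalization.lift_eq _ m
  let w : Algebra.SubmersivePresentation P L (Unit ⊕ ι) (Unit ⊕ σ) :=
    { __ := (Algebra.PreSubmersivePresentation.localizationAway L q.jacobian).comp q
      jacobian_isUnit := by
        rw [Algebra.PreSubmersivePresentation.comp_jacobian_eq_jacobian_smul_jacobian,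
          Algebra.PreSubmersivePresentation.localizationAway_jacobian, Algebra.smul_def]
        exact (IsLocalization.Away.algebraMap_isUnit q.jacobian).mul
          (IsLocalization.Away.algebraMap_isUnit q.jacobian) }
  have hw : Algebra.IsStandardSmoothOfRelativeDimension 0 P L :=
    ⟨_, _, inferInstance, inferInstance, w, by
      have : Nat.card ι - Nat.card σ = 0 := hp
      change Nat.card (Unit ⊕ ι) - Nat.card (Unit ⊕ σ) = 0
      simp [Nat.card_sum]
      omega⟩
  refine ⟨L, inferInstance, inferInstance, ψ, Algebra.Etale.iff_isStandardSmoothOfRelativeDimension_zero.mpr hw,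
    fun c => ?_, ?_⟩
  · obtain ⟨m, rfl⟩ := hφs c
    exact ⟨algebraMap M L m, hψ m⟩
  · rw [IsScalarTower.algebraMap_eq P M L, ← Ideal.map_map, ← hφk]
    refine le_antisymm (fun x hx => ?_) (Ideal.map_le_iff_le_comap.2 fun m hm => ?_)
    · obtain ⟨m, s, rfl⟩ := IsLocalization.exists_mk'_eq (Submonoid.powers q.jacobian) x
      rw [IsLocalization.mk'_eq_mul_mk'_one]
      refine Ideal.mul_mem_right _ _ (Ideal.mem_map_of_mem _ ?_)
      rw [RingHom.mem_ker] at hx ⊢
      have := congrArg ψ (IsLocalization.mk'_spec L m s)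
      rw [map_mul, hx, zero_mul, hψ] at this
      exact this.symm
    · rw [Ideal.mem_comap, RingHom.mem_ker, hψ]
      exact hm


end Groth.L23
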