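import Groth.Agent.L05.Henselization.UnibranchIff
import Groth.Agent.L05.Henselization.StrictUniq
import Groth.Prelude.Def_CAlgX

/-!
# Geometrically unibranch local rings and the strict henselization
-/

universe u

open IsLocalRing TensorProduct Groth.L05.Henselization Groth.L05.Henselization.Branches

set_option linter.style.haveILetI false

namespace Groth.L23.SH

/-- Quotients of strict henselizations. -/
theorem isStrictHenselization_quotient {A S : Type u} [CommRing A] [IsLocalRing A] [CommRing S]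
    [IsLocalRing S] [Algebra A S] [IsLocalHom (algebraMap A S)] [hS : Hensel.IsStrictHenselization A S]
    (I : Ideal A) [IsLocalRing (A ⧸ I)] [IsLocalRing (S ⧸ I.map (algebraMap A S))]
    [IsLocalHom (algebraMap (A ⧸ I) (S ⧸ I.map (algebraMap A S)))] :
    Hensel.IsStrictHenselization (A ⧸ I) (S ⧸ I.map (algebraMap A S)) := by
  set J := I.map (algebraMap A S)
  haveI : IsLocalHom (Ideal.Quotient.mk I) := IsLocalHom.of_surjective _ Ideal.Quotient.mk_surjective
  haveI : IsLocalHom (Ideal.Quotient.mk J) := IsLocalHom.of_surjective _ Ideal.Quotient.mk_surjective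
  let rA : ResidueField A ≃+* ResidueField (A ⧸ I) := RingEquiv.ofBijective (ResidueField.map (Ideal.Quotient.mk I))
    ⟨(ResidueField.map (Ideal.Quotient.mk I)).injective, fun y => by
      obtain ⟨b, rfl⟩ := residue_surjective y
      obtain ⟨a, rfl⟩ := Ideal.Quotient.mk_surjective b
      exact ⟨residue A a, rfl⟩⟩
  let rS : ResidueField S ≃+* ResidueField (S ⧸ J) := RingEquiv.ofBijective (ResidueField.map (Ideal.Quotient.mk J))
    ⟨(ResidueField.map (Ideal.Quotient.mk J)).injective, fun y => by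
      obtain ⟨b, rfl⟩ := residue_surjective y
      obtain ⟨a, rfl⟩ := Ideal.Quotient.mk_surjective b
      exact ⟨residue S a, rfl⟩⟩
  have hcomm : (algebraMap (ResidueField (A ⧸ I)) (ResidueField (S ⧸ J))).comp rA.toRingHom =
      rS.toRingHom.comp (algebraMap (ResidueField A) (ResidueField S)) := by
    refine RingHom.ext fun x => ?_
    obtain ⟨a, rfl⟩ := residue_surjective x
    rfl
  refine ⟨?_, ⟨?_, ?_⟩, fun T _ _ f _ τ hτ => ?_⟩
  · haveI : HenselianLocalRing S := hS.henselian
    haveI : HenselianRing S (IsLocalRing.maximalIdeal S) := inferInstance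
    haveI h1 := Groth.L05.henselianRing_quotient (IsLocalRing.maximalIdeal S) J
    haveI : HenselianRing (S ⧸ J) (IsLocalRing.maximalIdeal (S ⧸ J)) := by
      have e : (IsLocalRing.maximalIdeal S).map (Ideal.Quotient.mk J) = IsLocalRing.maximalIdeal (S ⧸ J) :=
        IsLocalRing.eq_maximalIdeal (Ideal.IsMaximal.map_of_surjective_of_ker_le Ideal.Quotient.mk_surjective
          (Ideal.mk_ker.trans_le (IsLocalRing.le_maximalIdeal (Ideal.Quotient.nontrivial_iff.mp inferInstance))))
      rwa [← e]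
    exact Groth.L05.henselianLocalRing_of_henselianRing
  · haveI : IsSepClosed (ResidueField S) := hS.isSepClosure.sep_closed
    refine IsSepClosed.of_exists_root _ fun p hp hirr hsep => ?_
    obtain ⟨x, hx⟩ := IsSepClosed.exists_root (p.map rS.symm.toRingHom)
      (by rw [Polynomial.degree_map]; exact hirr.degree_pos.ne') hsep.map
    refine ⟨rS x, ?_⟩
    have h := Polynomial.eval_map_apply rS.symm.toRingHom (p := p) (rS x)
    simp only [RingEquiv.toRingHom_eq_coe, RingHom.coe_coe, RingEquiv.symm_apply_apply] at h hx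
    rw [hx] at h
    exact rS.symm.injective (by rw [map_zero]; exact h.symm)
  · haveI : Algebra.IsSeparable (ResidueField A) (ResidueField S) := hS.isSepClosure.separable
    exact Algebra.IsSeparable.of_equiv_equiv rA rS hcomm
  · obtain ⟨g, ⟨hg, hgr⟩, hgu⟩ := hS.universal T (f.comp (Ideal.Quotient.mk I)) (τ.comp rS.toRingHom) (by
      refine RingHom.ext fun x => ?_
      obtain ⟨a, rfl⟩ := residue_surjective x
      exact DFunLike.congr_fun hτ (residue _ (Ideal.Quotient.mk I a)))
    have hker : ∀ x ∈ J, g x = 0 := fun x hx =>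
      (Ideal.map_le_iff_le_comap.mpr fun a ha => by
        rw [Ideal.mem_comap, RingHom.mem_ker, ← RingHom.comp_apply, hg, RingHom.comp_apply,
          Ideal.Quotient.eq_zero_iff_mem.mpr ha, map_zero] : J ≤ RingHom.ker g) hx
    refine ⟨Ideal.Quotient.lift J g hker, ⟨Ideal.Quotient.ringHom_ext (RingHom.ext fun a => ?_), fun x => ?_⟩,
      fun g₂ hg₂ => Ideal.Quotient.ringHom_ext ?_⟩
    · exact DFunLike.congr_fun hg a
    · obtain ⟨s, rfl⟩ := Ideal.Quotient.mk_surjective x
      exact hgr s
    · rw [Ideal.Quotient.lift_comp_mk]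
      exact hgu _ ⟨RingHom.ext fun a => DFunLike.congr_fun hg₂.1 (Ideal.Quotient.mk I a),
        fun s => hg₂.2 (Ideal.Quotient.mk J s)⟩

theorem hasUniqueMinimalPrime_iff (B : Type u) [CommRing B] :
    CAlgX.HasUniqueMinimalPrime B ↔ (nilradical B).IsPrime := by
  constructor
  · rintro ⟨P, hP, hu⟩
    have : nilradical B = P := by
      refine le_antisymm ?_ ?_
      · haveI := hP.isPrime
        exact nilradical_le_prime P
      · rw [nilradical_eq_sInf]
        refine le_sInf fun Q hQ => ?_
        haveI : Q.IsPrime := hQ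
        obtain ⟨Q', hQ', hle⟩ := Ideal.exists_minimalPrimes_le (I := (⊥ : Ideal B)) (J := Q) bot_le
        exact (hu Q' hQ').ge.trans hle
    exact this ▸ hP.isPrime
  · intro h
    exact ⟨nilradical B, ⟨⟨h, bot_le⟩, fun Q hQ _ => haveI := hQ.1; nilradical_le_prime Q⟩,
      fun Q hQ => le_antisymm (hQ.2 ⟨h, bot_le⟩ (haveI := hQ.isPrime; nilradical_le_prime Q))
        (haveI := hQ.isPrime; nilradical_le_prime Q)⟩

theorem isGeomUnibranch_iff_uniqueMinimal {A S : Type u} [CommRing A] [IsLocalRing A] [CommRing S]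
    [IsLocalRing S] [Algebra A S] [IsLocalHom (algebraMap A S)] [hS : Hensel.IsStrictHenselization A S] :
    CAlg2.IsGeomUnibranch A ↔ CAlgX.HasUniqueMinimalPrime S := by
  set I := nilradical A with hI
  set J := I.map (algebraMap A S) with hJ
  have hJn : J ≤ nilradical S := Ideal.map_le_iff_le_comap.mpr fun a ha =>
    (mem_nilradical.1 ha).map (algebraMap A S)
  have hIm : I ≤ maximalIdeal A := nilradical_le_prime _
  haveI : Nontrivial (A ⧸ I) := Ideal.Quotient.nontrivial_iff.mpr fun h =>
    (maximalIdeal.isMaximal A).ne_top (top_le_iff.1 (h ▸ hIm))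
  haveI : Nontrivial (S ⧸ J) := Ideal.Quotient.nontrivial_iff.mpr fun h =>
    (maximalIdeal.isMaximal S).ne_top (top_le_iff.1 (h ▸ hJn.trans (nilradical_le_prime _)))
  haveI : IsLocalRing (A ⧸ I) := .of_surjective' _ Ideal.Quotient.mk_surjective
  haveI : IsLocalRing (S ⧸ J) := .of_surjective' _ Ideal.Quotient.mk_surjective
  haveI : IsLocalHom (algebraMap (A ⧸ I) (S ⧸ J)) := ⟨fun x hx => by
    obtain ⟨a, rfl⟩ := Ideal.Quotient.mk_surjective x
    haveI : IsLocalHom (Ideal.Quotient.mk J) := IsLocalHom.of_surjective _ Ideal.Quotient.mk_surjective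
    change IsUnit (Ideal.Quotient.mk J (algebraMap A S a)) at hx
    exact ((isUnit_of_map_unit (algebraMap A S) a (isUnit_of_map_unit (Ideal.Quotient.mk J) _ hx))).map _⟩
  haveI := isStrictHenselization_quotient (A := A) (S := S) I
  haveI := flat_of_isStrictHenselization (A ⧸ I) (S ⧸ J)
  haveI : Module.FaithfullyFlat (A ⧸ I) (S ⧸ J) := faithfullyFlat_of_flat_local
  have hind := isIndEtale_of_isStrictHenselization (A ⧸ I) (S ⧸ J)
  haveI : Algebra.WeaklyEtale (A ⧸ I) (S ⧸ J) := Groth.L27.IndEtale.weaklyEtale _ _ hind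
  haveI : HenselianLocalRing (S ⧸ J) :=
    Hensel.IsStrictHenselization.henselian (R := A ⧸ I)
  haveI : IsReduced (A ⧸ I) := (Ideal.isRadical_iff_quotient_reduced I).1 (Ideal.radical_isRadical _)
  haveI : IsReduced (S ⧸ J) := (isReduced_iff_of_isIndEtale (A ⧸ I) (S ⧸ J) hind).1 inferInstance
  have hJeq : J = nilradical S :=
    le_antisymm hJn ((Ideal.isRadical_iff_quotient_reduced J).2 inferInstance |>.radical.le.trans'
      (Ideal.radical_mono bot_le))
  have hdom : CAlgX.HasUniqueMinimalPrime S ↔ IsDomain (S ⧸ J) := by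
    rw [hasUniqueMinimalPrime_iff, Ideal.Quotient.isDomain_iff_prime, hJeq]
  rw [hdom]
  let N := CAlg2.normRed A
  haveI : Algebra.IsIntegral (A ⧸ I) N := inferInstanceAs (Algebra.IsIntegral (CAlg2.red A) (CAlg2.normRed A))
  have hinj : Function.Injective (algebraMap (A ⧸ I) N) := fun x y h =>
    IsFractionRing.injective (CAlg2.red A) (FractionRing (CAlg2.red A)) (congrArg Subtype.val h)
  constructor
  · rintro ⟨⟨h1, h2⟩, hpi⟩
    haveI : IsDomain (A ⧸ I) := h1
    haveI : IsDomain (CAlg2.red A) := h1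
    haveI : IsLocalRing N := h2
    haveI : IsIntegrallyClosed N :=
      integralClosure.isIntegrallyClosedOfFiniteExtension (FractionRing (CAlg2.red A))
        (L := FractionRing (CAlg2.red A))
    haveI : IsLocalRing (N ⊗[A ⧸ I] (S ⧸ J)) := isLocalRing_tensor_of_pi (A ⧸ I) (S ⧸ J) N fun x => by
      obtain ⟨n, a, ha⟩ := hpi (maximalIdeal N) x
      exact ⟨n, Ideal.Quotient.mk I a, ha⟩
    exact isDomain_of_local_tensor (A ⧸ I) (S ⧸ J) N hinj
  · intro _
    haveI : IsDomain (A ⧸ I) :=
      Function.Injective.isDomain (algebraMap (A ⧸ I) (S ⧸ J)) (FaithfulSMul.algebraMap_injective _ _)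
    haveI : IsDomain (CAlg2.red A) := ‹IsDomain (A ⧸ I)›
    let j : N →ₐ[A ⧸ I] FractionRing (CAlg2.red A) :=
      (integralClosure (CAlg2.red A) (FractionRing (CAlg2.red A))).val
    haveI := isDomain_tensor_of_isDomain (A ⧸ I) (S ⧸ J) N (FractionRing (CAlg2.red A)) j Subtype.val_injective
    haveI := isLocalRing_tensor_of_isDomain (A ⧸ I) (S ⧸ J) N
    haveI : IsLocalRing N := isLocalRing_of_local_tensor (A ⧸ I) (S ⧸ J) N
    haveI : IsLocalHom (algebraMap (A ⧸ I) N) := ((IsLocalRing.local_hom_TFAE _).out 0 4 rfl rfl).mpr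
      (eq_maximalIdeal (Ideal.isMaximal_comap_of_isIntegral_of_isMaximal (maximalIdeal N)))
    refine ⟨⟨‹_›, ‹_›⟩, fun m' _ => ?_⟩
    obtain rfl : m' = maximalIdeal N := eq_maximalIdeal inferInstance
    intro x
    obtain ⟨n, r, hr⟩ := residue_pi_of_isLocalRing_tensor (A ⧸ I) (S ⧸ J) N x
    obtain ⟨a, rfl⟩ := Ideal.Quotient.mk_surjective r
    exact ⟨n, a, hr⟩

end Groth.L23.SH
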