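import Groth.Agent.L23.StalkHensel
import Groth.Prelude.Def_CAlgX
import Groth.Agent.L05.StrictGalois.Branch
import Mathlib.AlgebraicGeometry.Spec

/-!
# Minimal primes of the étale local rings
-/

universe u

open CategoryTheory AlgebraicGeometry Opposite AlgSp Groth.L05.Henselization

set_option backward.isDefEq.respectTransparency.types false
set_option linter.style.haveILetI false

namespace Groth.L23.SH

theorem comap_mem_minimalPrimes_equiv {A : Type*} {B : Type*} [CommRing A] [CommRing B] (f : A ≃+* B)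
    {P : Ideal B} (hP : P ∈ minimalPrimes B) : P.comap f.toRingHom ∈ minimalPrimes A := by
  haveI := hP.isPrime
  refine ⟨⟨Ideal.IsPrime.comap _, bot_le⟩, fun Q hQ hle x hx => ?_⟩
  haveI : Q.IsPrime := hQ.1
  haveI : (Q.comap f.symm.toRingHom).IsPrime := Ideal.IsPrime.comap _
  have h := hP.2 ⟨inferInstance, bot_le⟩ (show Q.comap f.symm.toRingHom ≤ P from fun y hy => by
    have h' : f (f.symm y) ∈ P := hle hy
    rwa [f.apply_symm_apply] at h')
  have h' : f.symm (f x) ∈ Q := h hx
  rwa [f.symm_apply_apply] at h'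

theorem encard_minimalPrimes_ringEquiv {R : Type*} {R' : Type*} [CommRing R] [CommRing R'] (e : R ≃+* R') :
    (minimalPrimes R).encard = (minimalPrimes R').encard := by
  let i : minimalPrimes R ≃ minimalPrimes R' :=
    { toFun := fun P => ⟨P.1.comap e.symm.toRingHom, comap_mem_minimalPrimes_equiv e.symm P.2⟩
      invFun := fun P => ⟨P.1.comap e.toRingHom, comap_mem_minimalPrimes_equiv e P.2⟩
      left_inv := fun P => Subtype.ext (Ideal.ext fun x => by
        show e.symm (e x) ∈ P.1 ↔ x ∈ P.1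
        rw [e.symm_apply_apply])
      right_inv := fun P => Subtype.ext (Ideal.ext fun x => by
        show e (e.symm x) ∈ P.1 ↔ x ∈ P.1
        rw [e.apply_symm_apply]) }
  simp only [Set.encard]
  exact ENat.card_congr i

theorem hasUniqueMinimalPrime_iff_encard {R : Type*} [CommRing R] :
    CAlgX.HasUniqueMinimalPrime R ↔ (minimalPrimes R).encard = 1 := by
  rw [Set.encard_eq_one]
  exact ⟨fun ⟨P, hP, hu⟩ => ⟨P, Set.eq_singleton_iff_unique_mem.2 ⟨hP, hu⟩⟩,
    fun ⟨P, hP⟩ => ⟨P, hP ▸ rfl, fun Q hQ => by rw [hP] at hQ; exact hQ⟩⟩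

theorem encard_minimalPrimes_le_strict (R T : Type u) [CommRing R] [IsLocalRing R] [CommRing T]
    [IsLocalRing T] [Algebra R T] [IsLocalHom (algebraMap R T)] [Hensel.IsStrictHenselization R T] :
    (minimalPrimes R).encard ≤ (minimalPrimes T).encard := by
  haveI := flat_of_isStrictHenselization R T
  haveI : Module.FaithfullyFlat R T := faithfullyFlat_of_flat_local
  refine le_trans (Set.encard_le_encard fun p hp => ?_)
    (Set.encard_image_le (Ideal.comap (algebraMap R T)) (minimalPrimes T))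
  haveI := hp.isPrime
  obtain ⟨P, hP, hPp⟩ : ∃ P : Ideal T, P.IsPrime ∧ P.comap (algebraMap R T) = p := by
    obtain ⟨P, hP⟩ := PrimeSpectrum.comap_surjective_of_faithfullyFlat (A := R) (B := T) ⟨p, inferInstance⟩
    exact ⟨P.asIdeal, P.isPrime, congrArg PrimeSpectrum.asIdeal hP⟩
  obtain ⟨Q, hQ, hle⟩ := Ideal.exists_minimalPrimes_le (I := (⊥ : Ideal T)) (J := P) bot_le
  haveI := hQ.isPrime
  exact ⟨Q, hQ, le_antisymm ((Ideal.comap_mono hle).trans hPp.le)
    (hp.2 ⟨Ideal.IsPrime.comap _, bot_le⟩ ((Ideal.comap_mono hle).trans hPp.le))⟩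

/-- Finitely many minimal primes of the colimit stay distinct at some stage. -/
theorem exists_stage {A K : Type u} [CommRing A] [Field K] [Algebra A K] (F : Finset (Ideal (Col A K)))
    (hF : ∀ P ∈ F, P ∈ minimalPrimes (Col A K)) :
    ∃ (X : Obj A K) (G : Finset (Ideal X.R)), G.card = F.card ∧
      ∀ P ∈ G, P ∈ minimalPrimes X.R ∧ P ≤ RingHom.ker X.φ := by
  classical
  have hsep : ∀ P Q : Ideal (Col A K), P ≠ Q → ∃ b, ¬(b ∈ P ↔ b ∈ Q) := fun P Q h => by
    by_contra hh
    push Not at hh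
    exact h (Ideal.ext hh)
  choose! w hw using hsep
  obtain ⟨X, hX⟩ := exists_lift_finset (A := A) (K := K) ((F ×ˢ F).image fun PQ => w PQ.1 PQ.2)
  refine ⟨X, F.image (Ideal.comap (ι X).toRingHom), Finset.card_image_of_injOn fun P hP Q hQ e => ?_,
    fun P hP => ?_⟩
  · by_contra hne
    obtain ⟨x, hx⟩ := hX _ (Finset.mem_image_of_mem _ (Finset.mk_mem_product hP hQ))
    refine hw P Q hne ?_
    rw [← show ι X x = w P Q from hx]
    exact SetLike.ext_iff.1 e x
  · obtain ⟨Q, hQ, rfl⟩ := Finset.mem_image.1 hP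
    letI : Algebra X.R (Col A K) := (ι X).toRingHom.toAlgebra
    haveI : Module.Flat X.R (Col A K) := flat_ι X
    refine ⟨Groth.L05.StrictGalois.comap_mem_minimalPrimes_of_flat (hF Q hQ), fun x hx => ?_⟩
    rw [RingHom.mem_ker]
    by_contra h
    refine (hF Q hQ).isPrime.ne_top (Ideal.eq_top_of_isUnit_mem _ (Ideal.mem_comap.1 hx) ?_)
    exact isUnit_of_isUnit_ε (by rw [show (ι X).toRingHom x = ι X x from rfl, ε_ι]; exact isUnit_iff_ne_zero.2 h)

theorem card_le_encard_minimalPrimes_localization {R L : Type u} [CommRing R] [CommRing L] [Algebra R L]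
    (q : Ideal R) [q.IsPrime] [IsLocalization.AtPrime L q] (G : Finset (Ideal R))
    (hG : ∀ P ∈ G, P ∈ minimalPrimes R ∧ P ≤ q) : (G.card : ℕ∞) ≤ (minimalPrimes L).encard := by
  have hdisj : ∀ P ∈ G, Disjoint (q.primeCompl : Set R) P := fun P hP =>
    Set.disjoint_left.2 fun x hx hxP => hx ((hG P hP).2 hxP)
  have hcomap : ∀ P ∈ G, (P.map (algebraMap R L)).comap (algebraMap R L) = P := fun P hP =>
    IsLocalization.comap_map_of_isPrime_disjoint q.primeCompl L (hG P hP).1.isPrime (hdisj P hP)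
  rw [← Set.encard_coe_eq_coe_finsetCard]
  have hinj : Set.InjOn (fun P : Ideal R => P.map (algebraMap R L)) G := fun P hP Q hQ e => by
    rw [← hcomap P hP, ← hcomap Q hQ]
    exact congrArg _ e
  rw [← hinj.encard_image]
  refine Set.encard_le_encard ?_
  rintro _ ⟨P, hP, rfl⟩
  haveI := (hG P hP).1.isPrime
  have hp : (P.map (algebraMap R L)).IsPrime :=
    IsLocalization.isPrime_of_isPrime_disjoint q.primeCompl L P inferInstance (hdisj P hP)
  refine ⟨⟨hp, bot_le⟩, fun Q hQ hle => ?_⟩
  haveI : Q.IsPrime := hQ.1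
  have h := (hG P hP).1.2 ⟨Ideal.IsPrime.comap (algebraMap R L), bot_le⟩
    ((Ideal.comap_mono hle).trans (hcomap P hP).le)
  exact Ideal.map_le_iff_le_comap.2 h

/-- Strict henselizations only depend on the base ring up to isomorphism. -/
theorem isStrictHenselization_of_baseEquiv {R R' T : Type u} [CommRing R] [IsLocalRing R] [CommRing R']
    [IsLocalRing R'] [CommRing T] [IsLocalRing T] [Algebra R T] [IsLocalHom (algebraMap R T)]
    [hT : Hensel.IsStrictHenselization R T] (e : R' ≃+* R) [Algebra R' T] [IsLocalHom (algebraMap R' T)]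
    (he : ∀ x, algebraMap R' T x = algebraMap R T (e x)) : Hensel.IsStrictHenselization R' T := by
  have hcomm : (algebraMap (IsLocalRing.ResidueField R) (IsLocalRing.ResidueField T)).comp
      (IsLocalRing.ResidueField.mapEquiv e).toRingHom =
        algebraMap (IsLocalRing.ResidueField R') (IsLocalRing.ResidueField T) := by
    refine RingHom.ext fun x => ?_
    obtain ⟨a, rfl⟩ := IsLocalRing.residue_surjective x
    exact congrArg (IsLocalRing.residue T) (he a).symm
  refine ⟨hT.henselian, ⟨hT.isSepClosure.sep_closed, ?_⟩, fun U _ _ f _ τ hτ => ?_⟩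
  · haveI : Algebra.IsSeparable (IsLocalRing.ResidueField R) (IsLocalRing.ResidueField T) :=
      hT.isSepClosure.separable
    refine Algebra.IsSeparable.of_equiv_equiv (IsLocalRing.ResidueField.mapEquiv e).symm (RingEquiv.refl _)
      (RingHom.ext fun x => ?_)
    have h := DFunLike.congr_fun hcomm ((IsLocalRing.ResidueField.mapEquiv e).symm x)
    simp only [RingHom.comp_apply, RingEquiv.toRingHom_eq_coe, RingHom.coe_coe,
      RingEquiv.apply_symm_apply] at h
    exact h.symm
  · have hl : IsLocalHom (f.comp e.symm.toRingHom) := ⟨fun a ha => by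
      have := (isUnit_of_map_unit f (e.symm a) ha).map e
      rwa [e.apply_symm_apply] at this⟩
    obtain ⟨g, ⟨hg, hgr⟩, hgu⟩ := hT.universal U (f.comp e.symm.toRingHom) τ (RingHom.ext fun x => by
      obtain ⟨a, rfl⟩ := IsLocalRing.residue_surjective x
      have h := DFunLike.congr_fun hτ (IsLocalRing.residue R' (e.symm a))
      change τ (IsLocalRing.residue T (algebraMap R' T (e.symm a))) = _ at h
      rw [he, e.apply_symm_apply] at h
      exact h)
    refine ⟨g, ⟨RingHom.ext fun a => ?_, hgr⟩, fun g' hg' => hgu g' ⟨RingHom.ext fun a => ?_, hg'.2⟩⟩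
    · rw [RingHom.comp_apply, he, ← RingHom.comp_apply, hg]
      simp
    · have h := DFunLike.congr_fun hg'.1 (e.symm a)
      simp only [RingHom.comp_apply, he, e.apply_symm_apply] at h
      exact h

variable {S : Scheme.{u}} {X : Sp S}

/-- At a geometric point over a point of a chart, the étale local ring is a strict henselization of the
local ring of the chart, with the algebra structure over that local ring. -/
theorem exists_strictHenselization_stalk (hX : IsAlgSpace X) (p : FieldPt X) (hp : p.IsGeometric)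
    {U : Over S} {a : (yon S).obj U ⟶ X} (ha : RepWith @Etale a) (u : U.left)
    (hu : Points.ofPt a u = Points.mk p) :
    ∃ (T : Type u) (_ : CommRing T) (_ : IsLocalRing T) (_ : Algebra ↥(U.left.presheaf.stalk u) T)
      (_ : IsLocalHom (algebraMap ↥(U.left.presheaf.stalk u) T)),
      Hensel.IsStrictHenselization ↥(U.left.presheaf.stalk u) T ∧ Nonempty (T ≃+* OEtStalk p) := by
  obtain ⟨R, T, _, _, _, _, _, _, hT, ⟨e⟩, e'⟩ := exists_stalk_strictHenselization hX p hp ha u hu
  letI : Algebra ↥(U.left.presheaf.stalk u) T := ((algebraMap R T).comp e.toRingHom).toAlgebra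
  haveI : IsLocalHom (algebraMap ↥(U.left.presheaf.stalk u) T) := ⟨fun x hx => by
    change IsUnit (algebraMap R T (e x)) at hx
    exact (isUnit_map_iff e x).1 (isUnit_of_map_unit (algebraMap R T) _ hx)⟩
  exact ⟨T, inferInstance, inferInstance, inferInstance, inferInstance,
    isStrictHenselization_of_baseEquiv (hT := hT) e fun _ => rfl, e'⟩

/-- Finitely many minimal primes of the étale local ring are seen on the local ring of some chart. -/
theorem exists_chart_card_le (hX : IsAlgSpace X) (p : FieldPt X) (hp : p.IsGeometric)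
    (F : Finset (Ideal ↥(OEtStalk p))) (hF : ∀ P ∈ F, P ∈ minimalPrimes ↥(OEtStalk p)) :
    ∃ (U : Over S) (a : (yon S).obj U ⟶ X) (u : U.left), RepWith @Etale a ∧ Points.ofPt a u = Points.mk p ∧
      (F.card : ℕ∞) ≤ (minimalPrimes ↥(U.left.presheaf.stalk u)).encard := by
  haveI : IsAlgClosed p.K := hp
  obtain ⟨V, b, hV, hb, v, hv⟩ := exists_affine_etale_nhd hX (Points.mk p)
  rw [← Points.ofPt_toHom p (IsLocalRing.closedPoint p.K)] at hv
  obtain ⟨γ₀, hγ₀, -⟩ := Groth.L23.QFL.exists_lift_algClosed hb p.toHom v _ hv.symm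
  let i : Over.mk (V.left.isoSpec.inv ≫ V.hom) ⟶ V := Over.homMk V.left.isoSpec.inv rfl
  have hi : Etale i.left := inferInstanceAs (Etale V.left.isoSpec.inv)
  let a := (yon S).map i ≫ b
  have ha : RepWith @Etale a := Groth.L23.repWith_comp (Groth.L23.repWith_map hi) hb
  let γ₁ : Spec (CommRingCat.of p.K) ⟶ Spec Γ(V.left, ⊤) := γ₀.left ≫ V.left.isoSpec.hom
  let γ : p.pt ⟶ Over.mk (V.left.isoSpec.inv ≫ V.hom) := Over.homMk γ₁ (by
    show (γ₀.left ≫ V.left.isoSpec.hom) ≫ V.left.isoSpec.inv ≫ V.hom = p.str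
    rw [Category.assoc, Iso.hom_inv_id_assoc]
    exact Over.w γ₀)
  have hγ : (yon S).map γ ≫ a = p.toHom := by
    rw [← Functor.map_comp_assoc, show γ ≫ i = γ₀ from Over.OverMorphism.ext (by
      show (γ₀.left ≫ V.left.isoSpec.hom) ≫ V.left.isoSpec.inv = γ₀.left
      rw [Category.assoc, Iso.hom_inv_id, Category.comp_id]), hγ₀]
  obtain ⟨ψ, hψ⟩ : ∃ ψ : Γ(V.left, ⊤) ⟶ CommRingCat.of p.K, Spec.map ψ = γ₁ := Spec.map_surjective _
  letI : Algebra Γ(V.left, ⊤) p.K := ψ.hom.toAlgebra
  obtain ⟨e⟩ := exists_stalkEquiv p _ a ha γ hγ hψ.symm hX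
  classical
  obtain ⟨Y, G, hG, hGm⟩ := exists_stage (A := Γ(V.left, ⊤)) (K := p.K)
    (F.image (Ideal.comap e.toRingHom)) (fun P hP => by
      obtain ⟨Q, hQ, rfl⟩ := Finset.mem_image.1 hP
      exact comap_mem_minimalPrimes_equiv e (hF Q hQ))
  let str := objStr p (V.left.isoSpec.inv ≫ V.hom) Y
  have hstr : RepWith @Etale ((yon S).map str ≫ a) :=
    Groth.L23.repWith_comp (Groth.L23.repWith_map (etale_objStr p _ Y)) ha
  obtain ⟨y, hy, hyγ⟩ := exists_pt p (V.left.isoSpec.inv ≫ V.hom) γ hψ.symm Y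
  refine ⟨_, (yon S).map str ≫ a, y.left (IsLocalRing.closedPoint p.K), hstr, ?_, ?_⟩
  · rw [← Groth.L23.ofPt_comp, ← Category.assoc, ← Functor.map_comp, hyγ, hγ, Points.ofPt_toHom]
  · let q : PrimeSpectrum Y.R := (Spec.map (CommRingCat.ofHom Y.φ.toRingHom)) (IsLocalRing.closedPoint p.K)
    have hq : q.asIdeal = RingHom.ker Y.φ := by
      show Ideal.comap Y.φ.toRingHom (IsLocalRing.maximalIdeal p.K) = RingHom.ker Y.φ
      rw [IsLocalRing.maximalIdeal_eq_bot]
      exact (RingHom.ker_eq_comap_bot _).symm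
    rw [hy]
    show (F.card : ℕ∞) ≤ (minimalPrimes ((Spec (CommRingCat.of Y.R)).presheaf.stalk q)).encard
    rw [← Finset.card_image_of_injective F (Ideal.comap_injective_of_surjective e.toRingHom e.surjective), ← hG]
    exact le_of_le_of_eq
      (card_le_encard_minimalPrimes_localization (L := Localization.AtPrime q.asIdeal) q.asIdeal G
        fun P hP => ⟨(hGm P hP).1, hq ▸ (hGm P hP).2⟩)
      (encard_minimalPrimes_ringEquiv (StructureSheaf.stalkIso Y.R q).toRingEquiv)

end Groth.L23.SH
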