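import Groth.Agent.L23.BranchCount
import Groth.Agent.L23.GeomUnibranchSH
import Groth.Agent.L23.StalkBranch
import Groth.Agent.L05.Henselization.Local
import Groth.Agent.L05.Henselization.StrictUniq

/-!
# One branch, and branches component by component
-/

universe u

open IsLocalRing

set_option linter.style.haveILetI false
set_option backward.isDefEq.respectTransparency.types false

namespace Groth.L23.Branch

/-- One branch means unibranch. -/
theorem numBranches_eq_one_iff (A : Type u) [CommRing A] [IsLocalRing A] :
    Brnch.numBranches A = 1 ↔ CAlg2.IsUnibranch A := by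
  classical
  unfold Brnch.numBranches
  constructor
  · intro h
    split_ifs at h with hfin
    · have h1 : Subsingleton (MaximalSpectrum (CAlg2.normRed A)) ∧
          Nonempty (MaximalSpectrum (CAlg2.normRed A)) := by
        constructor
        · exact (ENat.card_le_one_iff_subsingleton _).1 h.le
        · by_contra hne
          rw [not_nonempty_iff] at hne
          rw [ENat.card_eq_zero_iff_empty _ |>.2 hne] at h
          exact zero_ne_one h
      obtain ⟨hs, ⟨m⟩⟩ := h1
      haveI : IsLocalRing (CAlg2.normRed A) := IsLocalRing.of_unique_max_ideal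
        ⟨m.asIdeal, m.isMaximal, fun m' hm' =>
          congrArg MaximalSpectrum.asIdeal (Subsingleton.elim (⟨m', hm'⟩ : MaximalSpectrum _) m)⟩
      refine ⟨?_, inferInstance⟩
      have hd : IsDomain (Localization.AtPrime (maximalIdeal (CAlg2.normRed A))) :=
        (isNormal_normRed A hfin _).1
      have hinj : Function.Injective (algebraMap (CAlg2.normRed A)
          (Localization.AtPrime (maximalIdeal (CAlg2.normRed A)))) := by
        intro x y hxy
        obtain ⟨c, hc⟩ := (IsLocalization.eq_iff_exists (maximalIdeal (CAlg2.normRed A)).primeCompl _).1 hxy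
        exact ((IsLocalRing.notMem_maximalIdeal).1 c.2).mul_left_cancel hc
      haveI : IsDomain (CAlg2.normRed A) := hinj.isDomain
      have hinj' : Function.Injective (algebraMap (CAlg2.red A) (CAlg2.normRed A)) := fun x y h =>
        IsFractionRing.injective (CAlg2.red A) (FractionRing (CAlg2.red A)) (congrArg Subtype.val h)
      exact hinj'.isDomain
    · exact absurd h (by simp)
  · rintro ⟨hd, hl⟩
    haveI : (nilradical A).IsPrime := (Ideal.Quotient.isDomain_iff_prime (nilradical A)).1 hd
    have hfin : (minimalPrimes A).Finite :=
      (Set.finite_singleton (nilradical A)).subset fun P hP => le_antisymm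
        (hP.2 ⟨‹_›, bot_le⟩ (haveI := hP.isPrime; nilradical_le_prime P))
        (haveI := hP.isPrime; nilradical_le_prime P)
    rw [if_pos hfin]
    haveI : Unique (MaximalSpectrum (CAlg2.normRed A)) :=
      ⟨⟨⟨maximalIdeal _, inferInstance⟩⟩, fun m => MaximalSpectrum.ext (eq_maximalIdeal m.isMaximal)⟩
    rw [ENat.card_eq_coe_fintype_card, Fintype.card_unique]
    rfl

/-- One geometric branch means geometrically unibranch. -/
theorem numGeomBranches_eq_one_iff (A : Type u) [CommRing A] [IsLocalRing A] :
    Brnch.numGeomBranches A = 1 ↔ CAlg2.IsGeomUnibranch A := by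
  obtain ⟨S, _, _, _, _, hS⟩ := Groth.L05.Henselization.exists_isStrictHenselization A
  haveI := Groth.L05.Henselization.flat_of_isStrictHenselization A S
  rw [SH.isGeomUnibranch_iff_uniqueMinimal (S := S), SH.hasUniqueMinimalPrime_iff_encard,
    ← card_minimalPrimes_strict A S]
  rfl

/-- Unibranch means that the henselization has a unique minimal prime. -/
theorem isUnibranch_iff_uniqueMinimal (A S : Type u) [CommRing A] [IsLocalRing A] [CommRing S] [IsLocalRing S]
    [Algebra A S] [IsLocalHom (algebraMap A S)] [Hensel.IsHenselization A S] :
    CAlg2.IsUnibranch A ↔ CAlgX.HasUniqueMinimalPrime S := by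
  haveI := Groth.L05.Henselization.flat_of_isHenselization A S
  rw [← numBranches_eq_one_iff A, SH.hasUniqueMinimalPrime_iff_encard, ← card_minimalPrimes_hens A S]
  rfl

end Groth.L23.Branch
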