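import Groth.Agent.L23.BranchSpace
import Groth.Agent.L23.BranchBasic
import Groth.Agent.L16.RatMapExt
import Mathlib.AlgebraicGeometry.Morphisms.Etale

/-!
# Geometric branches of schemes and étale neighbourhoods
-/

universe u

open CategoryTheory AlgebraicGeometry Opposite AlgSp

set_option backward.isDefEq.respectTransparency.types false
set_option linter.style.haveILetI false

namespace Groth.L23.Branch

/-- Irreducible components through a point are the minimal primes of the local ring. -/
theorem encard_components (X : Scheme.{u}) (x : X) :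
    {Z : Set X | Z ∈ irreducibleComponents X ∧ x ∈ Z}.encard =
      (minimalPrimes ↥(X.presheaf.stalk x)).encard := by
  have h := Groth.L16.bijOn_irreducibleComponents_specStalk X x
  rw [← h.image_eq, h.injOn.encard_image]
  have hb : Set.BijOn (fun z : Spec (X.presheaf.stalk x) => (PrimeSpectrum.asIdeal z))
      {z | closure ({z} : Set (Spec (X.presheaf.stalk x))) ∈
        irreducibleComponents (Spec (X.presheaf.stalk x) : Type u)}
      (minimalPrimes ↥(X.presheaf.stalk x)) := by
    refine ⟨fun z hz => ?_, fun z _ z' _ h => PrimeSpectrum.ext h, fun P hP => ?_⟩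
    · simp only [Set.mem_setOf_eq, Groth.L16.closure_singleton_mem_irreducibleComponents_iff] at hz
      exact ⟨⟨z.isPrime, bot_le⟩, fun Q hQ hle => (PrimeSpectrum.le_iff_specializes _ _).2
        (hz ⟨Q, hQ.1⟩ ((PrimeSpectrum.le_iff_specializes (⟨Q, hQ.1⟩ : PrimeSpectrum _) z).1 hle))⟩
    · refine ⟨⟨P, hP.isPrime⟩, ?_, rfl⟩
      simp only [Set.mem_setOf_eq, Groth.L16.closure_singleton_mem_irreducibleComponents_iff]
      intro w hw
      exact (PrimeSpectrum.le_iff_specializes _ w).1
        (hP.2 ⟨w.isPrime, bot_le⟩ ((PrimeSpectrum.le_iff_specializes w ⟨P, hP.isPrime⟩).2 hw))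
  rw [← hb.image_eq, hb.injOn.encard_image]

/-- The geometric branches at `x` are read on étale neighbourhoods. -/
theorem etale_nbhd_facts (X : Scheme.{u}) (x : X) :
    (∀ (U : Scheme.{u}) (g : U ⟶ X) (u : U), Etale g → g u = x →
      {Z : Set U | Z ∈ irreducibleComponents U ∧ u ∈ Z}.encard ≤ Brnch.numGeomBranchesAt X x) ∧
    (∀ m : ℕ, (m : ℕ∞) ≤ Brnch.numGeomBranchesAt X x → ∃ (U : Scheme.{u}) (g : U ⟶ X) (u : U),
      Etale g ∧ g u = x ∧ (m : ℕ∞) ≤ {Z : Set U | Z ∈ irreducibleComponents U ∧ u ∈ Z}.encard) := by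
  classical
  let T : Over X := Over.mk (𝟙 X)
  have hT : IsAlgSpace ((yon X).obj T) := IsAlgSpace.yon_obj T
  obtain ⟨p, hp, hpx⟩ := SH.exists_geometric (Points.ofScheme T x)
  have hid : RepWith @Etale (𝟙 ((yon X).obj T)) := by
    rw [← (yon X).map_id]
    exact (repWith_yon_map_iff _ _).2 (inferInstanceAs (Etale (𝟙 X)))
  have hn : Brnch.numGeomBranchesAt X x = (minimalPrimes ↥(OEtStalk p)).encard :=
    SH.numGeomBranchesAt_eq_encard hT p hp (U := T) hid x hpx.symm
  refine ⟨fun U g u hg hu => ?_, fun m hm => ?_⟩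
  · let φ : Over.mk g ⟶ T := Over.homMk g (Category.comp_id g)
    have ha : RepWith @Etale ((yon X).map φ) := (repWith_yon_map_iff _ _).2 hg
    have hpt : Points.ofPt ((yon X).map φ) u = Points.mk p := by
      rw [hpx, ← Points.ofScheme_toScheme T (Points.ofPt ((yon X).map φ) u), Points.toScheme_ofPt]
      exact congrArg _ hu
    rw [hn, ← SH.numGeomBranchesAt_eq_encard hT p hp ha u hpt, encard_components]
    exact SH.encard_stalk_le_numGeom u
  · rw [hn] at hm
    obtain ⟨s, hs, hcard⟩ := Set.exists_subset_encard_eq hm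
    have hfin : s.Finite := by
      rw [← Set.encard_ne_top_iff, hcard]
      exact ENat.natCast_ne_top m
    obtain ⟨U, a, u, ha, hu, hle⟩ := SH.exists_chart_card_le hT p hp hfin.toFinset
      fun P hP => hs (hfin.mem_toFinset.1 hP)
    rw [← hfin.encard_eq_coe_toFinset_card, hcard] at hle
    obtain ⟨φ, rfl⟩ := (yon X).map_surjective a
    refine ⟨U.left, φ.left, u, (repWith_yon_map_iff _ _).1 ha, ?_, by rwa [encard_components]⟩
    have h := congrArg (Points.toScheme T) (hu.trans hpx)
    rwa [Points.toScheme_ofPt, Points.toScheme_ofScheme] at h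

end Groth.L23.Branch
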