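import Groth.Agent.L05.Henselization.UnibranchIff
import Groth.Agent.L05.StrictGalois.Frac
import Groth.Agent.L05.StrictGalois.Branch
import Groth.Agent.L22.Norm.Reduced
import Groth.Agent.L20.WeaklyEtaleStalk
import Mathlib.RingTheory.Ideal.GoingDown

/-!
# The normalisation tensored with a (strict) henselization
-/

universe u

open IsLocalRing TensorProduct

set_option linter.style.haveILetI false
set_option backward.isDefEq.respectTransparency.types false
set_option backward.isDefEq.respectTransparency false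

namespace Groth.L23.Branch

/-- A map inducing an order embedding on spectra, with all minimal primes in the image, is a bijection on
minimal primes. -/
theorem bijOn_minimalPrimes {R R' : Type*} [CommRing R] [CommRing R'] (f : R →+* R')
    (hassoc : ∀ z : R', ∃ r, Associated z (f r))
    (hsurj : ∀ p ∈ minimalPrimes R, ∃ P : Ideal R', P.IsPrime ∧ P.comap f = p) :
    Set.BijOn (Ideal.comap f) (minimalPrimes R') (minimalPrimes R) := by
  have hrefl : ∀ P Q : Ideal R', P.comap f ≤ Q.comap f → P ≤ Q := by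
    intro P Q h z hz
    obtain ⟨r, v, hv⟩ := hassoc z
    have hr : f r ∈ P := hv ▸ P.mul_mem_right _ hz
    have hq : f r ∈ Q := h hr
    rw [← hv] at hq
    exact (Q.mul_unit_mem_iff_mem v.isUnit).1 hq
  refine ⟨fun P hP => ?_, fun P _ Q _ h => le_antisymm (hrefl P Q h.le) (hrefl Q P h.ge), fun p hp => ?_⟩
  · haveI := hP.isPrime
    obtain ⟨p, hp, hle⟩ := Ideal.exists_minimalPrimes_le (I := (⊥ : Ideal R)) (J := P.comap f) bot_le
    obtain ⟨P', hP', rfl⟩ := hsurj p hp
    rwa [le_antisymm (hP.2 ⟨hP', bot_le⟩ (hrefl P' P hle)) (hrefl P' P hle)]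
  · obtain ⟨P, hP, rfl⟩ := hsurj p hp
    refine ⟨P, ⟨⟨hP, bot_le⟩, fun Q hQ hle => ?_⟩, rfl⟩
    haveI : Q.IsPrime := hQ.1
    exact hrefl P Q (hp.2 ⟨Ideal.IsPrime.comap f, bot_le⟩ (Ideal.comap_mono hle))

/-- A ring with a domain as local ring at a prime has a unique minimal prime below it. -/
theorem existsUnique_minimalPrime_le {R : Type*} [CommRing R] (m : Ideal R) [m.IsPrime]
    [IsDomain (Localization.AtPrime m)] : ∃! q : Ideal R, q ∈ minimalPrimes R ∧ q ≤ m := by
  let φ := algebraMap R (Localization.AtPrime m)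
  let q₀ : Ideal R := (⊥ : Ideal (Localization.AtPrime m)).comap φ
  haveI : (⊥ : Ideal (Localization.AtPrime m)).IsPrime := Ideal.isPrime_bot
  haveI : q₀.IsPrime := Ideal.IsPrime.comap φ
  have hmin : ∀ P : Ideal R, P.IsPrime → P ≤ m → q₀ ≤ P := by
    intro P hP hle x hx
    have hx' : φ x = 0 := hx
    obtain ⟨⟨t, ht⟩, h⟩ := (IsLocalization.map_eq_zero_iff m.primeCompl _ x).1 hx'
    exact (hP.mem_or_mem (h ▸ P.zero_mem : t * x ∈ P)).resolve_left fun h' => ht (hle h')
  have hle₀ : q₀ ≤ m := fun x hx => by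
    by_contra h
    exact (IsLocalization.map_units (Localization.AtPrime m) (⟨x, h⟩ : m.primeCompl)).ne_zero hx
  refine ⟨q₀, ⟨⟨⟨inferInstance, bot_le⟩, fun P hP hle => hmin P hP.1 (hle.trans hle₀)⟩, hle₀⟩,
    fun q hq => le_antisymm (hq.1.2 ⟨inferInstance, bot_le⟩ (hmin q hq.1.isPrime hq.2)) (hmin q hq.1.isPrime hq.2)⟩

/-- Non-zero-divisors of a reduced quotient stay away from minimal primes. -/
theorem map_ne_zero_of_nonZeroDivisors {A : Type*} [CommRing A] (I : Ideal A) {q : Ideal A}
    (hq : q ∈ minimalPrimes A) (hIq : I ≤ q) (a : A)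
    (ha : Ideal.Quotient.mk I a ∈ nonZeroDivisors (A ⧸ I)) : a ∉ q := by
  haveI := hq.isPrime
  intro h
  have hmem : q.map (Ideal.Quotient.mk I) ∈ minimalPrimes (A ⧸ I) := by
    have hc : (q.map (Ideal.Quotient.mk I)).comap (Ideal.Quotient.mk I) = q := Ideal.comap_map_mk hIq
    refine ⟨⟨Ideal.map_isPrime_of_surjective Ideal.Quotient.mk_surjective (by rwa [Ideal.mk_ker]), bot_le⟩,
      fun P hP hle => ?_⟩
    haveI : P.IsPrime := hP.1
    have h' := hq.2 ⟨Ideal.IsPrime.comap (Ideal.Quotient.mk I), bot_le⟩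
      ((Ideal.comap_mono hle).trans hc.le)
    exact Ideal.map_le_iff_le_comap.2 h'
  exact notMem_nonZeroDivisors_of_mem_mem_minimalPrimes (Ideal.mem_map_of_mem _ h) hmem ha

theorem finite_minimalPrimes_quotient {A : Type*} [CommRing A] (h : (minimalPrimes A).Finite) :
    (minimalPrimes (A ⧸ nilradical A)).Finite := by
  refine Set.Finite.of_finite_image (h.subset ?_) (Ideal.comap_injective_of_surjective
    (Ideal.Quotient.mk (nilradical A)) Ideal.Quotient.mk_surjective).injOn
  rintro _ ⟨P, hP, rfl⟩
  haveI := hP.isPrime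
  refine ⟨⟨Ideal.IsPrime.comap _, bot_le⟩, fun Q hQ hle => ?_⟩
  haveI : Q.IsPrime := hQ.1
  have hIQ : nilradical A ≤ Q := nilradical_le_prime Q
  have h1 : P ≤ Q.map (Ideal.Quotient.mk (nilradical A)) :=
    hP.2 ⟨Ideal.map_isPrime_of_surjective Ideal.Quotient.mk_surjective (by rwa [Ideal.mk_ker]), bot_le⟩
      ((Ideal.map_mono hle).trans Ideal.map_comap_le)
  exact (Ideal.comap_mono h1).trans (Ideal.comap_map_mk hIQ).le

/-- Localisations of the integral closure of a reduced ring with finitely many minimal primes are normal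
domains. -/
theorem isNormal_localization_integralClosure (A : Type u) [CommRing A] [IsReduced A]
    (hmin : (minimalPrimes A).Finite) (q : Ideal (integralClosure A (FractionRing A))) [q.IsPrime] :
    IsDomain (Localization.AtPrime q) ∧ IsIntegrallyClosed (Localization.AtPrime q) := by
  classical
  haveI := Groth.L05.StrictGalois.isArtinianRing_fractionRing_of_finite A hmin
  haveI : IsReduced (FractionRing A) :=
    isReduced_localizationPreserves (nonZeroDivisors A) _ ‹IsReduced A›
  haveI := Fintype.ofFinite (MaximalSpectrum (FractionRing A))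
  let E := IsArtinianRing.equivPi (FractionRing A)
  let ε := fun M : MaximalSpectrum (FractionRing A) => E.symm (Pi.single M 1)
  have hεmem : ∀ M, ε M ∈ integralClosure A (FractionRing A) := fun M => by
    refine ⟨Polynomial.X ^ 2 - Polynomial.X, Polynomial.monic_X_pow_sub
      (lt_of_le_of_lt Polynomial.degree_X_le (by norm_num)), ?_⟩
    have : ε M * ε M = ε M := by
      show E.symm _ * E.symm _ = _
      rw [← map_mul, ← Pi.single_mul, mul_one]
    simp [sq, this]
  let e := fun M => (⟨ε M, hεmem M⟩ : integralClosure A (FractionRing A))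
  have hmk : ∀ (z : FractionRing A) M, Ideal.Quotient.mk M.asIdeal z = E z M := fun z M => rfl
  obtain ⟨M, hM⟩ : ∃ M, e M ∉ q := by
    by_contra! h
    refine (inferInstance : q.IsPrime).ne_top ((Ideal.eq_top_iff_one q).2 ?_)
    have h1 : (1 : integralClosure A (FractionRing A)) = ∑ M, e M := Subtype.ext (by
      rw [AddSubmonoidClass.coe_finsetSum]
      show (1 : FractionRing A) = ∑ M, E.symm (Pi.single M 1)
      rw [← map_sum, Finset.univ_sum_single (fun _ => (1 : _))]
      exact (map_one E.symm).symm)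
    rw [h1]
    exact Ideal.sum_mem _ fun M _ => h M
  letI := Ideal.Quotient.field M.asIdeal
  let C := integralClosure A (FractionRing A ⧸ M.asIdeal)
  let π : integralClosure A (FractionRing A) →+* C := (Groth.L22.Norm.proj A M.asIdeal).toRingHom
  have hsurj : Function.Surjective π := fun c => by
    obtain ⟨z, hz⟩ := Ideal.Quotient.mk_surjective c.1
    obtain ⟨P, hP, hc⟩ := c.2
    have hint : z * ε M ∈ integralClosure A (FractionRing A) := by
      refine ⟨Polynomial.X * P, Polynomial.monic_X.mul hP, E.injective (funext fun N => ?_)⟩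
      rw [Polynomial.eval₂_mul, Polynomial.eval₂_X, map_mul, map_mul, map_zero, Pi.mul_apply,
        Pi.mul_apply, Pi.zero_apply]
      by_cases hN : N = M
      · subst hN
        have h2 : E (Polynomial.eval₂ (algebraMap A (FractionRing A)) (z * ε N) P) N = 0 := by
          rw [← hmk, Polynomial.hom_eval₂]
          have : Ideal.Quotient.mk N.asIdeal (z * ε N) = c.1 := by
            rw [map_mul, hz, hmk (ε N), show E (ε N) = Pi.single N 1 from E.apply_symm_apply _,
              Pi.single_eq_same, mul_one]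
          rw [this]
          exact hc
        rw [h2, mul_zero]
      · rw [show E (ε M) = Pi.single M 1 from E.apply_symm_apply _, Pi.single_eq_of_ne hN]
        simp
    refine ⟨⟨z * ε M, hint⟩, Subtype.ext ?_⟩
    show Ideal.Quotient.mk M.asIdeal (z * ε M) = c.1
    rw [map_mul, hz, hmk (ε M), show E (ε M) = Pi.single M 1 from E.apply_symm_apply _,
      Pi.single_eq_same, mul_one]
  have he : ∀ b, π b = 0 → e M * b = 0 := fun b hb => Subtype.ext (E.injective (funext fun N => by
    show E (ε M * b.1) N = E 0 N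
    rw [map_mul, map_zero, Pi.mul_apply, Pi.zero_apply,
      show E (ε M) = Pi.single M 1 from E.apply_symm_apply _]
    by_cases hN : N = M
    · subst hN
      rw [← hmk b.1, show Ideal.Quotient.mk N.asIdeal b.1 = 0 from congrArg Subtype.val hb, mul_zero]
    · rw [Pi.single_eq_of_ne hN, zero_mul]))
  have hker : RingHom.ker π ≤ q := fun b hb => by
    have := he b hb
    exact ((inferInstance : q.IsPrime).mem_or_mem (this ▸ q.zero_mem)).resolve_left hM
  let q' := q.map π
  haveI : q'.IsPrime := Ideal.map_isPrime_of_surjective hsurj hker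
  have hq : q'.comap π = q := by
    rw [Ideal.comap_map_of_surjective _ hsurj, ← RingHom.ker_eq_comap_bot, sup_eq_left.mpr hker]
  letI := ((algebraMap C (Localization.AtPrime q')).comp π).toAlgebra
  haveI hL := Groth.L22.Norm.isLocalization_atPrime_of_projection π hsurj (e M) he q' (by rwa [hq])
  haveI : IsLocalization q.primeCompl (Localization.AtPrime q') := by
    have : (q'.comap π).primeCompl = q.primeCompl := Submonoid.ext fun x => by
      show x ∉ q'.comap π ↔ x ∉ q
      rw [hq]
    exact this ▸ hL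
  let φ := (IsLocalization.algEquiv q.primeCompl (Localization.AtPrime q')
    (Localization.AtPrime q)).toRingEquiv
  haveI : IsDomain C := inferInstance
  haveI : IsIntegrallyClosedIn C (FractionRing A ⧸ M.asIdeal) := inferInstance
  haveI : IsFractionRing C (FractionRing A ⧸ M.asIdeal) := IsFractionRing.of_field _ _ fun z => by
    obtain ⟨z, rfl⟩ := Ideal.Quotient.mk_surjective z
    obtain ⟨a, s, rfl⟩ := IsLocalization.exists_mk'_eq (nonZeroDivisors A) z
    refine ⟨algebraMap A C a, algebraMap A C s, ?_⟩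
    show Ideal.Quotient.mk M.asIdeal (IsLocalization.mk' _ a s) =
      Ideal.Quotient.mk M.asIdeal (algebraMap A _ a) / Ideal.Quotient.mk M.asIdeal (algebraMap A _ s)
    have hs : Ideal.Quotient.mk M.asIdeal (algebraMap A (FractionRing A) s) ≠ 0 := fun h =>
      (IsLocalization.isPrime_iff_isPrime_disjoint (nonZeroDivisors A) (FractionRing A) M.asIdeal).1
        inferInstance |>.2 |> fun hd => by
          have h' : algebraMap A (FractionRing A) s ∈ _ := Ideal.Quotient.eq_zero_iff_mem.1 h
          exact Set.disjoint_left.1 hd s.2 h'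
    rw [eq_div_iff hs, ← map_mul, IsLocalization.mk'_spec]
  haveI : IsIntegrallyClosed C :=
    (isIntegrallyClosed_iff_isIntegrallyClosedIn (FractionRing A ⧸ M.asIdeal)).mpr inferInstance
  haveI : IsDomain (Localization.AtPrime q') := inferInstance
  haveI : IsIntegrallyClosed (Localization.AtPrime q') :=
    isIntegrallyClosed_of_isLocalization _ q'.primeCompl q'.primeCompl_le_nonZeroDivisors
  exact ⟨φ.symm.toMulEquiv.isDomain, IsIntegrallyClosed.of_equiv φ⟩

variable (A S : Type u) [CommRing A] [CommRing S] [Algebra A S]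

local notation "N" => CAlg2.normRed A
local notation "Q" => FractionRing (CAlg2.red A)

theorem exists_assoc_tot' (M : Type u) [CommRing M] [Algebra A M]
    (hM : ∀ q : M, ∃ a b : A, IsUnit (algebraMap A M b) ∧ q * algebraMap A M b = algebraMap A M a)
    (z : M ⊗[A] S) : ∃ (a : A) (s : S),
    IsUnit (algebraMap A (M ⊗[A] S) a) ∧ z * algebraMap A (M ⊗[A] S) a = 1 ⊗ₜ s := by
  induction z using TensorProduct.induction_on with
  | zero => exact ⟨1, 0, by rw [map_one]; exact isUnit_one, by simp⟩
  | tmul q s =>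
    obtain ⟨a, b, hu, he⟩ := hM q
    refine ⟨b, a • s, ?_, ?_⟩
    · rw [Algebra.TensorProduct.algebraMap_apply]
      exact hu.map (Algebra.TensorProduct.includeLeftRingHom : M →+* M ⊗[A] S)
    · rw [Algebra.TensorProduct.algebraMap_apply, Algebra.TensorProduct.tmul_mul_tmul, mul_one,
        TensorProduct.tmul_smul, TensorProduct.smul_tmul', ← Algebra.algebraMap_eq_smul_one, he]
  | add x y hx hy =>
    obtain ⟨a, s, ha, hs⟩ := hx
    obtain ⟨b, t, hb, ht⟩ := hy
    refine ⟨a * b, b • s + a • t, by rw [map_mul]; exact ha.mul hb, ?_⟩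
    rw [tmul_add, tmul_smul, tmul_smul, ← hs, ← ht, map_mul, Algebra.smul_def, Algebra.smul_def]
    ring

theorem exists_assoc_tot (z : Q ⊗[A] S) : ∃ (a : A) (s : S),
    IsUnit (algebraMap A (Q ⊗[A] S) a) ∧ z * algebraMap A (Q ⊗[A] S) a = 1 ⊗ₜ s := by
  refine exists_assoc_tot' A S Q (fun q => ?_) z
  obtain ⟨⟨a', b', hb⟩, he⟩ := IsLocalization.surj (nonZeroDivisors (CAlg2.red A)) q
  obtain ⟨a, rfl⟩ := Ideal.Quotient.mk_surjective a'
  obtain ⟨b, rfl⟩ := Ideal.Quotient.mk_surjective b'
  exact ⟨a, b, IsLocalization.map_units Q (⟨_, hb⟩ : nonZeroDivisors (CAlg2.red A)), he⟩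

/-- The map to the tensor product with the total ring of fractions. -/
noncomputable def toTot : (N ⊗[A] S) →ₐ[A] Q ⊗[A] S :=
  Algebra.TensorProduct.map ((integralClosure (CAlg2.red A) Q).val.restrictScalars A) (AlgHom.id A S)

theorem toTot_one_tmul (s : S) : toTot A S (1 ⊗ₜ s) = 1 ⊗ₜ s := by
  rw [toTot, Algebra.TensorProduct.map_tmul, map_one]
  rfl

variable [Module.Flat A S]

theorem bijOn_tot :
    Set.BijOn (Ideal.comap (Algebra.TensorProduct.includeRight : S →ₐ[A] Q ⊗[A] S).toRingHom)
      (minimalPrimes (Q ⊗[A] S)) (minimalPrimes S) := by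
  refine bijOn_minimalPrimes _ (fun z => ?_) fun p hp => ?_
  · obtain ⟨a, s, ha, hs⟩ := exists_assoc_tot A S z
    exact ⟨s, ha.unit, hs⟩
  · haveI := hp.isPrime
    let K := FractionRing (S ⧸ p)
    have hq := Groth.L05.StrictGalois.comap_mem_minimalPrimes_of_flat (R := A) hp
    haveI := hq.isPrime
    have hker : ∀ a, algebraMap A K a = 0 ↔ a ∈ p.comap (algebraMap A S) := by
      intro a
      rw [IsScalarTower.algebraMap_apply A (S ⧸ p) K,
        map_eq_zero_iff _ (IsFractionRing.injective (S ⧸ p) K), Ideal.mem_comap]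
      exact Ideal.Quotient.eq_zero_iff_mem
    have hnil : nilradical A ≤ p.comap (algebraMap A S) := nilradical_le_prime _
    let χ₀ : CAlg2.red A →+* K := Ideal.Quotient.lift _ (algebraMap A K) fun a ha => (hker a).2 (hnil ha)
    have hu : ∀ y : nonZeroDivisors (CAlg2.red A), IsUnit (χ₀ y) := by
      rintro ⟨y, hy⟩
      obtain ⟨a, rfl⟩ := Ideal.Quotient.mk_surjective y
      refine isUnit_iff_ne_zero.2 fun h => ?_
      exact map_ne_zero_of_nonZeroDivisors _ hq hnil a hy ((hker a).1 h)
    let χ : Q →ₐ[A] K :=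
      { IsLocalization.lift hu with
        commutes' := fun a => by
          show IsLocalization.lift hu (algebraMap A Q a) = _
          rw [IsScalarTower.algebraMap_apply A (CAlg2.red A) Q, IsLocalization.lift_eq]
          rfl }
    let Φ : Q ⊗[A] S →ₐ[A] K :=
      Algebra.TensorProduct.lift χ (IsScalarTower.toAlgHom A S K) fun _ _ => Commute.all _ _
    refine ⟨RingHom.ker Φ.toRingHom, RingHom.ker_isPrime _, ?_⟩
    ext s
    show Φ (1 ⊗ₜ s) = 0 ↔ s ∈ p
    rw [Algebra.TensorProduct.lift_tmul, map_one, one_mul, IsScalarTower.toAlgHom_apply,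
      IsScalarTower.algebraMap_apply S (S ⧸ p) K, map_eq_zero_iff _ (IsFractionRing.injective (S ⧸ p) K)]
    exact Ideal.Quotient.eq_zero_iff_mem

theorem bijOn_norm' (B M L : Type u) [CommRing B] [CommRing M] [CommRing L] [Algebra A B] [Algebra A M]
    [Algebra A L] [Algebra B M] [Algebra B L] [IsScalarTower A B M] [IsScalarTower A B L]
    [IsFractionRing B L] (j : M →ₐ[B] L) (hj : Function.Injective j)
    (hassoc : ∀ z : L ⊗[A] S, ∃ (a : A) (s : S),
      IsUnit (algebraMap A (L ⊗[A] S) a) ∧ z * algebraMap A (L ⊗[A] S) a = 1 ⊗ₜ s) :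
    Set.BijOn (Ideal.comap (Algebra.TensorProduct.map (j.restrictScalars A) (AlgHom.id A S)).toRingHom)
      (minimalPrimes (L ⊗[A] S)) (minimalPrimes (M ⊗[A] S)) := by
  refine bijOn_minimalPrimes _ (fun z => ?_) fun p hp => ?_
  · obtain ⟨a, s, ha, hs⟩ := hassoc z
    refine ⟨1 ⊗ₜ s, ha.unit, hs.trans ?_⟩
    show _ = (Algebra.TensorProduct.map (j.restrictScalars A) (AlgHom.id A S)) (1 ⊗ₜ s)
    rw [Algebra.TensorProduct.map_tmul, map_one]
    rfl
  · haveI := hp.isPrime
    let K := FractionRing ((M ⊗[A] S) ⧸ p)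
    let π : (M ⊗[A] S) →ₐ[A] K := IsScalarTower.toAlgHom A (M ⊗[A] S) K
    have hπ : ∀ z, π z = 0 ↔ z ∈ p := fun z => by
      show algebraMap (M ⊗[A] S) K z = 0 ↔ _
      rw [IsScalarTower.algebraMap_apply (M ⊗[A] S) ((M ⊗[A] S) ⧸ p) K,
        map_eq_zero_iff _ (IsFractionRing.injective ((M ⊗[A] S) ⧸ p) K)]
      exact Ideal.Quotient.eq_zero_iff_mem
    let πN : M →ₐ[A] K := π.comp Algebra.TensorProduct.includeLeft
    have hq := Groth.L05.StrictGalois.comap_mem_minimalPrimes_of_flat (R := M) hp
    have hnz : ∀ y : nonZeroDivisors B, IsUnit (πN (algebraMap B M y)) := by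
      intro y
      refine isUnit_iff_ne_zero.2 fun h => ?_
      have h' : algebraMap B M y ∈ p.comap (algebraMap M (M ⊗[A] S)) := (hπ _).1 h
      refine notMem_nonZeroDivisors_of_mem_mem_minimalPrimes h' hq
        (mem_nonZeroDivisors_iff_right.2 fun x hx => hj ?_)
      have h1 := congrArg j hx
      rw [map_mul, map_zero, AlgHom.commutes] at h1
      rw [map_zero]
      exact (IsLocalization.map_units L y).mul_left_eq_zero.1 h1
    let χr : L →+* K := IsLocalization.lift (g := πN.toRingHom.comp (algebraMap B M)) hnz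
    have hχ : ∀ n : M, χr (j n) = πN n := by
      intro n
      obtain ⟨⟨a, m⟩, he⟩ := IsLocalization.surj (nonZeroDivisors B) (j n)
      have he' : n * algebraMap B M m = algebraMap B M a :=
        hj (by rw [map_mul, AlgHom.commutes, AlgHom.commutes]; exact he)
      refine (hnz m).mul_right_cancel ?_
      have h1 : χr (algebraMap B L m) = πN (algebraMap B M m) := IsLocalization.lift_eq hnz _
      rw [← map_mul πN, he', ← h1, ← map_mul χr, he]
      exact IsLocalization.lift_eq hnz _
    let χ : L →ₐ[A] K :=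
      { χr with
        commutes' := fun a => by
          show χr (algebraMap A L a) = _
          rw [show algebraMap A L a = j (algebraMap A M a) from ((j.restrictScalars A).commutes a).symm, hχ,
            AlgHom.commutes] }
    let Φ : L ⊗[A] S →ₐ[A] K :=
      Algebra.TensorProduct.lift χ (π.comp Algebra.TensorProduct.includeRight) fun _ _ => Commute.all _ _
    have hΦ : ∀ z, Φ (Algebra.TensorProduct.map (j.restrictScalars A) (AlgHom.id A S) z) = π z := by
      intro z
      induction z using TensorProduct.induction_on with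
      | zero => simp
      | add x y hx hy => rw [map_add, map_add, hx, hy, map_add]
      | tmul n s =>
        rw [Algebra.TensorProduct.map_tmul, Algebra.TensorProduct.lift_tmul]
        show χr (j n) * π (1 ⊗ₜ s) = π (n ⊗ₜ s)
        rw [hχ]
        show π (n ⊗ₜ 1) * π (1 ⊗ₜ s) = _
        rw [← map_mul, Algebra.TensorProduct.tmul_mul_tmul, one_mul, mul_one]
    refine ⟨RingHom.ker Φ.toRingHom, RingHom.ker_isPrime _, ?_⟩
    ext z
    show Φ (Algebra.TensorProduct.map (j.restrictScalars A) (AlgHom.id A S) z) = 0 ↔ z ∈ p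
    rw [hΦ]
    exact hπ z

theorem bijOn_norm :
    Set.BijOn (Ideal.comap (toTot A S).toRingHom)
      (minimalPrimes (Q ⊗[A] S)) (minimalPrimes (N ⊗[A] S)) :=
  bijOn_norm' A S (CAlg2.red A) N Q (integralClosure (CAlg2.red A) Q).val Subtype.val_injective
    (exists_assoc_tot A S)

/-- Minimal primes of the normalisation tensored with `S` are those of `S`. -/
theorem bijOn_minimalPrimes_tensor :
    Set.BijOn (fun P : Ideal (N ⊗[A] S) =>
        P.comap (Algebra.TensorProduct.includeRight : S →ₐ[A] N ⊗[A] S).toRingHom)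
      (minimalPrimes (N ⊗[A] S)) (minimalPrimes S) := by
  have h1 := bijOn_norm A S
  have h2 := bijOn_tot A S
  have key : ∀ P : Ideal (Q ⊗[A] S), (P.comap (toTot A S).toRingHom).comap
      (Algebra.TensorProduct.includeRight : S →ₐ[A] N ⊗[A] S).toRingHom =
        P.comap (Algebra.TensorProduct.includeRight : S →ₐ[A] Q ⊗[A] S).toRingHom := fun P => by
    ext s
    show toTot A S (1 ⊗ₜ s) ∈ P ↔ _
    rw [toTot_one_tmul]
    rfl
  refine ⟨fun P hP => ?_, fun P hP P' hP' h => ?_, fun p hp => ?_⟩
  · obtain ⟨P, hP', rfl⟩ := h1.surjOn hP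
    show (P.comap (toTot A S).toRingHom).comap _ ∈ minimalPrimes S
    exact Eq.mpr (congrArg (· ∈ minimalPrimes S) (key P)) (h2.mapsTo hP')
  · obtain ⟨R, hR, rfl⟩ := h1.surjOn hP
    obtain ⟨R', hR', rfl⟩ := h1.surjOn hP'
    exact congrArg _ (h2.injOn hR hR' ((key R).symm.trans (h.trans (key R'))))
  · obtain ⟨P, hP, rfl⟩ := h2.surjOn hp
    exact ⟨_, h1.mapsTo hP, key P⟩

/-- The localisations of the normalisation are normal domains. -/
theorem isNormal_normRed (hfin : (minimalPrimes A).Finite) (n : Ideal N) [n.IsPrime] :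
    IsDomain (Localization.AtPrime n) ∧ IsIntegrallyClosed (Localization.AtPrime n) := by
  haveI : IsReduced (CAlg2.red A) :=
    (Ideal.isRadical_iff_quotient_reduced (nilradical A)).1 (Ideal.radical_isRadical _)
  exact isNormal_localization_integralClosure (CAlg2.red A) (finite_minimalPrimes_quotient hfin) n

variable [Algebra.WeaklyEtale A S]

/-- Tensor products of normal rings with weakly étale algebras are locally domains. -/
theorem isDomain_atPrime (M : Type u) [CommRing M] [Algebra A M]
    (hM : ∀ (n : Ideal M) [n.IsPrime],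
      IsDomain (Localization.AtPrime n) ∧ IsIntegrallyClosed (Localization.AtPrime n))
    (m : Ideal (M ⊗[A] S)) [m.IsPrime] : IsDomain (Localization.AtPrime m) := by
  let n : Ideal M := m.comap (algebraMap M (M ⊗[A] S))
  obtain ⟨hd, hc⟩ := hM n
  haveI : IsDomain (Localization.AtPrime n) := hd
  haveI : IsIntegrallyClosed (Localization.AtPrime n) := hc
  letI : Algebra (Localization.AtPrime n) (Localization.AtPrime m) :=
    (Localization.localRingHom n m (algebraMap M (M ⊗[A] S)) rfl).toAlgebra
  haveI : IsScalarTower M (Localization.AtPrime n) (Localization.AtPrime m) :=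
    IsScalarTower.of_algebraMap_eq fun x => by
      rw [RingHom.algebraMap_toAlgebra, Localization.localRingHom_to_map,
        IsScalarTower.algebraMap_apply M (M ⊗[A] S) (Localization.AtPrime m)]
  haveI : IsLocalHom (algebraMap (Localization.AtPrime n) (Localization.AtPrime m)) :=
    Localization.isLocalHom_localRingHom n m _ rfl
  haveI : Algebra.WeaklyEtale (Localization.AtPrime n) (Localization.AtPrime m) :=
    Groth.L20.weaklyEtale_of_isLocalization (A := M) (B := M ⊗[A] S) n.primeCompl m.primeCompl _ _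
  exact (Groth.L20.NormalWE.isNormal (Localization.AtPrime n) (Localization.AtPrime m)).1

theorem existsUnique_minimalPrime_le_tensor (M : Type u) [CommRing M] [Algebra A M]
    (hM : ∀ (n : Ideal M) [n.IsPrime],
      IsDomain (Localization.AtPrime n) ∧ IsIntegrallyClosed (Localization.AtPrime n))
    (m : Ideal (M ⊗[A] S)) [m.IsPrime] :
    ∃! q : Ideal (M ⊗[A] S), q ∈ minimalPrimes (M ⊗[A] S) ∧ q ≤ m := by
  haveI := isDomain_atPrime A S M hM m
  exact existsUnique_minimalPrime_le m

omit [Module.Flat A S] [Algebra.WeaklyEtale A S] in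
/-- A prime of an integral algebra over a henselian local ring lies in exactly one maximal ideal. -/
theorem existsUnique_maximal_ge [HenselianLocalRing S] (M : Type u) [CommRing M] [Algebra A M]
    [Algebra.IsIntegral A M] (q : Ideal (M ⊗[A] S)) [q.IsPrime] :
    ∃! m : Ideal (M ⊗[A] S), m.IsMaximal ∧ q ≤ m := by
  let iS : S →+* (M ⊗[A] S) ⧸ q :=
    (Ideal.Quotient.mk q).comp (Algebra.TensorProduct.includeRight : S →ₐ[A] M ⊗[A] S).toRingHom
  letI : Algebra S ((M ⊗[A] S) ⧸ q) := iS.toAlgebra
  haveI : IsScalarTower A S ((M ⊗[A] S) ⧸ q) := IsScalarTower.of_algebraMap_eq fun a => by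
    show _ = Ideal.Quotient.mk q ((Algebra.TensorProduct.includeRight : S →ₐ[A] M ⊗[A] S) (algebraMap A S a))
    rw [AlgHom.commutes]
    rfl
  haveI : Algebra.IsIntegral S ((M ⊗[A] S) ⧸ q) := ⟨fun z => by
    obtain ⟨z, rfl⟩ := Ideal.Quotient.mk_surjective z
    induction z using TensorProduct.induction_on with
    | zero => rw [map_zero]; exact isIntegral_zero
    | add x y hx hy => rw [map_add]; exact hx.add hy
    | tmul n s =>
      rw [show n ⊗ₜ[A] s = (n ⊗ₜ[A] (1 : S)) * (1 ⊗ₜ[A] s) by
        rw [Algebra.TensorProduct.tmul_mul_tmul, mul_one, one_mul], map_mul]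
      exact ((Algebra.IsIntegral.isIntegral (R := A) n).map ((Ideal.Quotient.mkₐ A q).comp
        (Algebra.TensorProduct.includeLeft : M →ₐ[A] M ⊗[A] S))).tower_top.mul
        (isIntegral_algebraMap (R := S) (x := s))⟩
  haveI : IsLocalRing ((M ⊗[A] S) ⧸ q) := Groth.L05.isLocalRing_of_integral_domain (A := S) _
  refine ⟨(maximalIdeal _).comap (Ideal.Quotient.mk q),
    ⟨Ideal.comap_isMaximal_of_surjective _ Ideal.Quotient.mk_surjective, fun x hx => ?_⟩, fun m hm => ?_⟩
  · rw [Ideal.mem_comap, Ideal.Quotient.eq_zero_iff_mem.2 hx]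
    exact Ideal.zero_mem _
  · haveI := hm.1
    rw [← eq_maximalIdeal (Ideal.IsMaximal.map_of_surjective_of_ker_le Ideal.Quotient.mk_surjective
      (Ideal.mk_ker.trans_le hm.2)), Ideal.comap_map_mk hm.2]

theorem encard_minimalPrimes_tensor [HenselianLocalRing S] (M : Type u) [CommRing M] [Algebra A M]
    [Algebra.IsIntegral A M] (hM : ∀ (n : Ideal M) [n.IsPrime],
      IsDomain (Localization.AtPrime n) ∧ IsIntegrallyClosed (Localization.AtPrime n)) :
    (minimalPrimes (M ⊗[A] S)).encard = ENat.card (MaximalSpectrum (M ⊗[A] S)) := by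
  have hu : ∀ m : MaximalSpectrum (M ⊗[A] S),
      ∃! q : Ideal (M ⊗[A] S), q ∈ minimalPrimes (M ⊗[A] S) ∧ q ≤ m.asIdeal := fun m => by
    haveI := isDomain_atPrime A S M hM m.asIdeal
    exact existsUnique_minimalPrime_le m.asIdeal
  rw [Set.encard]
  refine (ENat.card_congr (Equiv.ofBijective
    (fun m => (⟨(hu m).exists.choose, (hu m).exists.choose_spec.1⟩ : minimalPrimes (M ⊗[A] S)))
    ⟨fun m m' h => ?_, fun q => ?_⟩)).symm
  · haveI := ((hu m).exists.choose_spec.1).isPrime
    refine MaximalSpectrum.ext ((existsUnique_maximal_ge A S M (hu m).exists.choose).unique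
      ⟨m.isMaximal, (hu m).exists.choose_spec.2⟩ ⟨m'.isMaximal, ?_⟩)
    rw [show (hu m).exists.choose = (hu m').exists.choose from congrArg Subtype.val h]
    exact (hu m').exists.choose_spec.2
  · haveI := q.2.isPrime
    obtain ⟨m, ⟨hm, hle⟩, -⟩ := existsUnique_maximal_ge A S M q.1
    exact ⟨⟨m, hm⟩, Subtype.ext ((hu ⟨m, hm⟩).unique (hu ⟨m, hm⟩).exists.choose_spec ⟨q.2, hle⟩)⟩

/-- Minimal primes of a henselian `S` are counted by the maximal ideals of the tensor product. -/
theorem encard_minimalPrimes_eq_card_maximal [IsLocalRing A] [HenselianLocalRing S]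
    (hfin : (minimalPrimes A).Finite) :
    (minimalPrimes S).encard = ENat.card (MaximalSpectrum (N ⊗[A] S)) := by
  haveI : Algebra.IsIntegral A N := Groth.L05.Henselization.Branches.isIntegral_normRed
  rw [← (bijOn_minimalPrimes_tensor A S).image_eq, (bijOn_minimalPrimes_tensor A S).injOn.encard_image]
  exact encard_minimalPrimes_tensor A S N fun n _ => isNormal_normRed A hfin n

end Groth.L23.Branch
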