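import Groth.Agent.L23.InfSpace2
import Mathlib.RingTheory.Etale.Basic

/-!
# Etale is formally etale and locally of finite presentation
-/

universe u

open CategoryTheory CategoryTheory.Limits AlgebraicGeometry AlgSp Opposite

set_option backward.isDefEq.respectTransparency.types false

namespace Groth.L23

theorem formallyEtaleHom_of_etale {X Y : Scheme.{u}} (f : X ⟶ Y) [Etale f] :
    MoreMor.IsFormallyEtaleHom f :=
  formallyEtaleHom_of_mor (S := Y) (Over.homMk f (by simp) : Over.mk f ⟶ Over.mk (𝟙 Y))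
    (formallyEtale_of_repWith (repWith_map (show Etale f from inferInstance)))

theorem formallyEtaleHom_comp {X Y Z : Scheme.{u}} {f : X ⟶ Y} {g : Y ⟶ Z}
    (hf : MoreMor.IsFormallyEtaleHom f) (hg : MoreMor.IsFormallyEtaleHom g) :
    MoreMor.IsFormallyEtaleHom (f ≫ g) := by
  intro A _ I hI a b w
  obtain ⟨m, ⟨hm₁, hm₂⟩, hmu⟩ := hg A I hI (a ≫ f) b (by rw [w, Category.assoc])
  obtain ⟨l, ⟨hl₁, hl₂⟩, hlu⟩ := hf A I hI a m hm₁
  refine ⟨l, ⟨hl₁, by rw [← Category.assoc, hl₂, hm₂]⟩, fun l' ⟨h₁, h₂⟩ => hlu l' ⟨h₁, hmu _ ⟨?_, ?_⟩⟩⟩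
  · rw [← Category.assoc, h₁]
  · rw [Category.assoc, h₂]

theorem formallyEtaleHom_of_comp {X Y Z : Scheme.{u}} {f : X ⟶ Y} {g : Y ⟶ Z}
    (hg : MoreMor.IsFormallyEtaleHom g) (hfg : MoreMor.IsFormallyEtaleHom (f ≫ g)) :
    MoreMor.IsFormallyEtaleHom f := by
  intro A _ I hI a b w
  obtain ⟨l, ⟨hl₁, hl₂⟩, hlu⟩ := hfg A I hI a (b ≫ g) (by rw [← Category.assoc, w, Category.assoc])
  obtain ⟨m, -, hmu⟩ := hg A I hI (a ≫ f) (b ≫ g) (by rw [← Category.assoc, w])
  refine ⟨l, ⟨hl₁, ?_⟩, fun l' ⟨h₁, h₂⟩ => hlu l' ⟨h₁, by rw [← Category.assoc, h₂]⟩⟩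
  exact (hmu (l ≫ f) ⟨by rw [← Category.assoc, hl₁], by rw [Category.assoc, hl₂]⟩).trans
    (hmu b ⟨w, rfl⟩).symm

theorem formallyEtale_algebra {R A : Type u} [CommRing R] [CommRing A] [Algebra R A]
    (h : MoreMor.IsFormallyEtaleHom (Spec.map (CommRingCat.ofHom (algebraMap R A)))) :
    Algebra.FormallyEtale R A := by
  rw [Algebra.FormallyEtale.iff_comp_bijective]
  intro B _ _ I hI
  have key : ∀ q : A →ₐ[R] B ⧸ I, ∃! g : Spec (CommRingCat.of B) ⟶ Spec (CommRingCat.of A),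
      Spec.map (CommRingCat.ofHom (Ideal.Quotient.mk I)) ≫ g = Spec.map (CommRingCat.ofHom q.toRingHom) ∧
      g ≫ Spec.map (CommRingCat.ofHom (algebraMap R A)) = Spec.map (CommRingCat.ofHom (algebraMap R B)) :=
    fun q => h B I hI _ _ (by
      rw [← Spec.map_comp, ← Spec.map_comp]
      congr 1
      ext r
      exact (q.commutes r).symm)
  refine ⟨fun g₁ g₂ e => ?_, fun q => ?_⟩
  · have hc : ∀ g : A →ₐ[R] B, Spec.map (CommRingCat.ofHom (Ideal.Quotient.mk I)) ≫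
        Spec.map (CommRingCat.ofHom g.toRingHom) =
          Spec.map (CommRingCat.ofHom ((Ideal.Quotient.mkₐ R I).comp g).toRingHom) ∧
        Spec.map (CommRingCat.ofHom g.toRingHom) ≫ Spec.map (CommRingCat.ofHom (algebraMap R A)) =
          Spec.map (CommRingCat.ofHom (algebraMap R B)) := fun g =>
      ⟨by rw [← Spec.map_comp]; rfl, by
        rw [← Spec.map_comp]; congr 1; ext r; exact g.commutes r⟩
    have := (key ((Ideal.Quotient.mkₐ R I).comp g₁)).unique (hc g₁) (by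
      have := hc g₂; rwa [← show (Ideal.Quotient.mkₐ R I).comp g₁ = (Ideal.Quotient.mkₐ R I).comp g₂ from e] at this)
    rw [Spec.map_inj] at this
    exact AlgHom.ext fun a => congr($this a)
  · obtain ⟨g, ⟨hg₁, hg₂⟩, -⟩ := key q
    obtain ⟨ψ, rfl⟩ := Spec.map_surjective g
    rw [← Spec.map_comp, Spec.map_inj] at hg₁ hg₂
    exact ⟨⟨ψ.hom, fun r => congr($hg₂ r)⟩, AlgHom.ext fun a => congr($hg₁ a)⟩

theorem etale_of_lfp_of_formallyEtaleHom {X Y : Scheme.{u}} (f : X ⟶ Y) [LocallyOfFinitePresentation f]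
    (hf : MoreMor.IsFormallyEtaleHom f) : Etale f := by
  rw [HasRingHomProperty.iff_appLE (P := @Etale)]
  intro V U e
  have hlfp : (f.appLE V U e).hom.FinitePresentation :=
    HasRingHomProperty.appLE @LocallyOfFinitePresentation f ‹_› V U e
  have h₁ : MoreMor.IsFormallyEtaleHom (Spec.map (f.appLE V U e) ≫ V.2.fromSpec) := by
    rw [V.2.SpecMap_appLE_fromSpec f U.2 e]
    exact formallyEtaleHom_comp (formallyEtaleHom_of_etale U.2.fromSpec) hf
  have h₂ := formallyEtaleHom_of_comp (formallyEtaleHom_of_etale V.2.fromSpec) h₁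
  algebraize [(f.appLE V U e).hom]
  have : Algebra.FormallyEtale Γ(Y, V.1) Γ(X, U.1) := formallyEtale_algebra h₂
  exact RingHom.etale_algebraMap.2 ⟨this, hlfp⟩

variable {S : Scheme.{u}} {X Y : Sp S}

theorem isFormallyEtaleMor_of_isEtaleMor (hX : IsAlgSpace X) (hY : IsAlgSpace Y) {f : X ⟶ Y}
    (hf : IsEtaleMor f) : IsFormallyEtaleMor f :=
  (formallyEtale_iff_locP hX hY).2 fun U V a b h ha hb w => by
    have : Etale h.left := (isEtaleMor_iff_locP hX hY f).1 hf a b h ha hb w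
    exact formallyEtaleHom_of_etale h.left

end Groth.L23
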