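import Groth.Agent.L23.BranchBasic
import Groth.Agent.L05.Hensel.Perm
import Mathlib.Data.Set.Card.Arithmetic

/-!
# Branches component by component
-/

universe u

open IsLocalRing

set_option linter.style.haveILetI false
set_option backward.isDefEq.respectTransparency.types false

namespace Groth.L23.Branch

variable {A S : Type u} [CommRing A] [IsLocalRing A] [CommRing S] [IsLocalRing S] [Algebra A S]
  [IsLocalHom (algebraMap A S)]

/-- Quotients of henselizations. -/
theorem isHenselization_quotient [hS : Hensel.IsHenselization A S] (I : Ideal A) [IsLocalRing (A ⧸ I)]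
    [IsLocalRing (S ⧸ I.map (algebraMap A S))]
    [IsLocalHom (algebraMap (A ⧸ I) (S ⧸ I.map (algebraMap A S)))] :
    Hensel.IsHenselization (A ⧸ I) (S ⧸ I.map (algebraMap A S)) := by
  set J := I.map (algebraMap A S)
  haveI : IsLocalHom (Ideal.Quotient.mk I) := IsLocalHom.of_surjective _ Ideal.Quotient.mk_surjective
  refine ⟨?_, fun T _ _ f _ => ?_⟩
  · haveI : HenselianLocalRing S := hS.henselian
    haveI : HenselianRing S (IsLocalRing.maximalIdeal S) := inferInstance
    haveI h1 := Groth.L05.henselianRing_quotient (IsLocalRing.maximalIdeal S) J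
    haveI : HenselianRing (S ⧸ J) (IsLocalRing.maximalIdeal (S ⧸ J)) := by
      have e : (IsLocalRing.maximalIdeal S).map (Ideal.Quotient.mk J) = IsLocalRing.maximalIdeal (S ⧸ J) :=
        IsLocalRing.eq_maximalIdeal (Ideal.IsMaximal.map_of_surjective_of_ker_le Ideal.Quotient.mk_surjective
          (Ideal.mk_ker.trans_le (IsLocalRing.le_maximalIdeal (Ideal.Quotient.nontrivial_iff.mp inferInstance))))
      rwa [← e]
    exact Groth.L05.henselianLocalRing_of_henselianRing
  · obtain ⟨g, hg, hgu⟩ := hS.universal T (f.comp (Ideal.Quotient.mk I)) inferInstance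
    have hker : ∀ x ∈ J, g x = 0 := fun x hx =>
      (Ideal.map_le_iff_le_comap.mpr fun a ha => by
        rw [Ideal.mem_comap, RingHom.mem_ker, ← RingHom.comp_apply, hg, RingHom.comp_apply,
          Ideal.Quotient.eq_zero_iff_mem.mpr ha, map_zero] : J ≤ RingHom.ker g) hx
    refine ⟨Ideal.Quotient.lift J g hker, Ideal.Quotient.ringHom_ext (RingHom.ext fun a => ?_),
      fun g₂ hg₂ => Ideal.Quotient.ringHom_ext ?_⟩
    · exact DFunLike.congr_fun hg a
    · rw [Ideal.Quotient.lift_comp_mk]
      exact hgu _ (RingHom.ext fun a => DFunLike.congr_fun hg₂ (Ideal.Quotient.mk I a))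

theorem quotient_instances {p : Ideal A} (hp : p.IsPrime) :
    IsLocalRing (A ⧸ p) ∧ IsLocalRing (S ⧸ p.map (algebraMap A S)) ∧
      IsLocalHom (algebraMap (A ⧸ p) (S ⧸ p.map (algebraMap A S))) := by
  have hJ : p.map (algebraMap A S) ≤ maximalIdeal S :=
    Ideal.map_le_iff_le_comap.2 fun a ha => fun h =>
      (le_maximalIdeal hp.ne_top ha) (isUnit_of_map_unit (algebraMap A S) a h)
  haveI : Nontrivial (A ⧸ p) := Ideal.Quotient.nontrivial_iff.mpr hp.ne_top
  haveI : Nontrivial (S ⧸ p.map (algebraMap A S)) := Ideal.Quotient.nontrivial_iff.mpr fun h =>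
    (maximalIdeal.isMaximal S).ne_top (top_le_iff.1 (h ▸ hJ))
  refine ⟨.of_surjective' _ Ideal.Quotient.mk_surjective, .of_surjective' _ Ideal.Quotient.mk_surjective,
    ⟨fun x hx => ?_⟩⟩
  obtain ⟨a, rfl⟩ := Ideal.Quotient.mk_surjective x
  haveI : IsLocalRing (S ⧸ p.map (algebraMap A S)) := .of_surjective' _ Ideal.Quotient.mk_surjective
  haveI : IsLocalHom (Ideal.Quotient.mk (p.map (algebraMap A S))) :=
    IsLocalHom.of_surjective _ Ideal.Quotient.mk_surjective
  change IsUnit (Ideal.Quotient.mk (p.map (algebraMap A S)) (algebraMap A S a)) at hx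
  exact ((isUnit_of_map_unit (algebraMap A S) a
    (isUnit_of_map_unit (Ideal.Quotient.mk (p.map (algebraMap A S))) _ hx))).map _

variable [Module.Flat A S]

/-- Minimal primes of a flat local algebra, sorted by their image downstairs. -/
theorem encard_minimalPrimes_eq_finsum (hfin : (minimalPrimes A).Finite) :
    (minimalPrimes S).encard =
      ∑ᶠ p : minimalPrimes A, (minimalPrimes (S ⧸ p.1.map (algebraMap A S))).encard := by
  haveI := hfin.to_subtype
  let s : minimalPrimes A → Set (Ideal S) :=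
    fun p => {Q | Q ∈ minimalPrimes S ∧ Q.comap (algebraMap A S) = p.1}
  have hU : minimalPrimes S = ⋃ p, s p := by
    ext Q
    simp only [Set.mem_iUnion, s, Set.mem_setOf_eq]
    exact ⟨fun hQ => ⟨⟨_, Groth.L05.StrictGalois.comap_mem_minimalPrimes_of_flat hQ⟩, hQ, rfl⟩,
      fun ⟨_, h, _⟩ => h⟩
  rw [hU, Set.encard_iUnion_of_finite (fun p p' hne => Set.disjoint_left.2 fun Q h h' =>
    hne (Subtype.ext (h.2.symm.trans h'.2)))]
  refine finsum_congr fun p => ?_
  haveI := p.2.isPrime
  have hs : s p = (p.1.map (algebraMap A S)).minimalPrimes := by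
    ext Q
    constructor
    · rintro ⟨hQ, hQp⟩
      exact ⟨⟨hQ.isPrime, Ideal.map_le_iff_le_comap.2 hQp.ge⟩, fun P hP hle => hQ.2 ⟨hP.1, bot_le⟩ hle⟩
    · intro hQ
      haveI : Q.IsPrime := hQ.1.1
      obtain ⟨Q₀, hQ₀, hle⟩ := Ideal.exists_minimalPrimes_le (I := (⊥ : Ideal S)) (J := Q) bot_le
      haveI := hQ₀.isPrime
      have hpQ : p.1 ≤ Q.comap (algebraMap A S) := Ideal.map_le_iff_le_comap.1 hQ.1.2
      haveI : Q.LiesOver (Q.comap (algebraMap A S)) := ⟨rfl⟩
      obtain ⟨P₁, hP₁Q, hP₁, hP₁'⟩ :=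
        Ideal.exists_ideal_le_liesOver_of_le Q (p := p.1) (q := Q.comap (algebraMap A S)) hpQ
      haveI := hP₁
      obtain ⟨P₂, hP₂, hle₂⟩ := Ideal.exists_minimalPrimes_le (I := (⊥ : Ideal S)) (J := P₁) bot_le
      haveI := hP₂.isPrime
      have hc : P₁.comap (algebraMap A S) = p.1 := hP₁'.over.symm
      have h2 : P₂.comap (algebraMap A S) = p.1 := le_antisymm ((Ideal.comap_mono hle₂).trans hc.le)
        (p.2.2 ⟨Ideal.IsPrime.comap _, bot_le⟩ ((Ideal.comap_mono hle₂).trans hc.le))
      obtain rfl : Q = P₂ := le_antisymm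
        (hQ.2 ⟨inferInstance, Ideal.map_le_iff_le_comap.2 h2.ge⟩ (hle₂.trans hP₁Q)) (hle₂.trans hP₁Q)
      exact ⟨hP₂, h2⟩
  rw [hs, Ideal.minimalPrimes_eq_comap]
  exact ((Ideal.comap_injective_of_surjective _ Ideal.Quotient.mk_surjective).injOn).encard_image

theorem numBranches_eq_finsum [Hensel.IsHenselization A S] (hfin : (minimalPrimes A).Finite) :
    Brnch.numBranches A = ∑ᶠ p : minimalPrimes A,
      haveI : p.1.IsPrime := p.2.1.1
      Brnch.numBranches (A ⧸ p.1) := by
  rw [← card_minimalPrimes_hens A S]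
  refine (encard_minimalPrimes_eq_finsum hfin).trans (finsum_congr fun p => ?_)
  haveI := p.2.isPrime
  obtain ⟨_, _, _⟩ := quotient_instances (A := A) (S := S) p.2.isPrime
  haveI := isHenselization_quotient (A := A) (S := S) p.1
  haveI := Groth.L05.Henselization.flat_of_isHenselization (A ⧸ p.1) (S ⧸ p.1.map (algebraMap A S))
  exact card_minimalPrimes_hens (A ⧸ p.1) (S ⧸ p.1.map (algebraMap A S))

theorem numGeomBranches_eq_finsum [Hensel.IsStrictHenselization A S] (hfin : (minimalPrimes A).Finite) :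
    Brnch.numGeomBranches A = ∑ᶠ p : minimalPrimes A,
      haveI : p.1.IsPrime := p.2.1.1
      Brnch.numGeomBranches (A ⧸ p.1) := by
  rw [← card_minimalPrimes_strict A S]
  refine (encard_minimalPrimes_eq_finsum hfin).trans (finsum_congr fun p => ?_)
  haveI := p.2.isPrime
  obtain ⟨_, _, _⟩ := quotient_instances (A := A) (S := S) p.2.isPrime
  haveI := SH.isStrictHenselization_quotient (A := A) (S := S) p.1
  haveI := Groth.L05.Henselization.flat_of_isStrictHenselization (A ⧸ p.1) (S ⧸ p.1.map (algebraMap A S))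
  exact card_minimalPrimes_strict (A ⧸ p.1) (S ⧸ p.1.map (algebraMap A S))

end Groth.L23.Branch
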