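import Groth.Agent.L05.Henselization.StrictUniq
import Mathlib.FieldTheory.SeparableClosure
import Mathlib.FieldTheory.IsSepClosed
import Mathlib.RingTheory.Unramified.Field
import Mathlib.RingTheory.LocalRing.ResidueField.Ideal
import Mathlib.RingTheory.Polynomial.ScaleRoots
import Mathlib.RingTheory.Localization.Integral

/-!
# The étale colimit along a map to a separably closed field is a strict henselization
-/

universe u

open IsLocalRing Polynomial TensorProduct Groth.L05.Henselization

set_option linter.style.haveILetI false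

namespace Groth.L23.SH

/-- Functions out of the colimit into a ring in any universe. -/
theorem exists_ringHom_of_compat {A K : Type u} [CommRing A] [CommRing K] [Algebra A K] {T : Type*}
    [CommRing T] (g : ∀ X : Obj A K, X.R →+* T)
    (hg : ∀ {X Y : Obj A K} (f : X ⟶ Y) (x : X.R), g Y (f.1 x) = g X x) :
    ∃ Θ : Col A K →+* T, ∀ (X : Obj A K) (x : X.R), Θ (ι X x) = g X x := by
  choose sX sx hs using ι_surj (A := A) (K := K)
  have key : ∀ (X : Obj A K) (x : X.R), g (sX (ι X x)) (sx (ι X x)) = g X x := fun X x => by
    generalize hb : ι X x = b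
    obtain ⟨Z, f, f', -⟩ := CategoryTheory.IsFilteredOrEmpty.cocone_objs (sX b) X
    have e : ι Z (f.1 (sx b)) = ι Z (f'.1 x) := by rw [ι_map, ι_map, hs, hb]
    obtain ⟨W, h, hh⟩ := ι_eq e
    rw [← hg f (sx b), ← hg h, hh, hg h, hg f']
  have key₂ : ∀ b c : Col A K, ∃ (X : Obj A K) (x y : X.R), ι X x = b ∧ ι X y = c := fun b c => by
    classical
    obtain ⟨X, hX⟩ := exists_lift_finset {b, c}
    obtain ⟨x, hx⟩ := hX b (by simp)
    obtain ⟨y, hy⟩ := hX c (by simp)
    exact ⟨X, x, y, hx, hy⟩
  let X₀ := (CategoryTheory.IsFiltered.nonempty (C := Obj A K)).some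
  refine ⟨{ toFun := fun b => g (sX b) (sx b)
            map_one' := ?_, map_mul' := fun b c => ?_, map_zero' := ?_, map_add' := fun b c => ?_ },
    key⟩
  · rw [← map_one (ι X₀), key, map_one]
  · obtain ⟨X, x, y, rfl, rfl⟩ := key₂ b c
    rw [← map_mul, key, key, key, map_mul]
  · rw [← map_zero (ι X₀), key, map_zero]
  · obtain ⟨X, x, y, rfl, rfl⟩ := key₂ b c
    rw [← map_add, key, key, key, map_add]

/-- The universal property against henselian pairs with residue ring `K`. -/
theorem existsUnique_lift {A K : Type u} [CommRing A] [CommRing K] [Algebra A K] {B : Type u} [CommRing B]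
    [Algebra A B] (π : B →ₐ[A] K) (hπ : Function.Surjective π) [HenselianRing B (RingHom.ker π)] :
    ∃! g : Col A K →ₐ[A] B, π.comp g = ε A K := by
  let e := Ideal.quotientKerAlgEquivOfSurjective hπ
  have key : ∀ g : Col A K →ₐ[A] B,
      (Ideal.Quotient.mkₐ A (RingHom.ker π)).comp g = e.symm.toAlgHom.comp (ε A K) ↔
        π.comp g = ε A K := fun g => by
    constructor
    · intro h
      refine AlgHom.ext fun b => ?_
      have := congrArg e (DFunLike.congr_fun h b)
      simpa [e, Ideal.quotientKerAlgEquivOfSurjective_mk] using this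
    · intro h
      refine AlgHom.ext fun b => e.injective ?_
      simpa [e, Ideal.quotientKerAlgEquivOfSurjective_mk] using DFunLike.congr_fun h b
  obtain ⟨g, hg, hu⟩ := existsUnique_algHom (K := K) (RingHom.ker π) e.symm.toAlgHom
  exact ⟨g, (key g).1 hg, fun g' hg' => hu g' ((key g').2 hg')⟩

section Prime

variable (A : Type u) [CommRing A] (q : Ideal A) [q.IsPrime] (L : Type u) [Field L]
  [Algebra q.ResidueField L] [Algebra A L] [IsScalarTower A q.ResidueField L]

omit [Field L] [Algebra q.ResidueField L] [Algebra A L] [IsScalarTower A q.ResidueField L] in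
theorem algebraMap_residueField_ne_zero {a : A} (ha : a ∉ q) : algebraMap A q.ResidueField a ≠ 0 :=
  fun h => ha (Ideal.algebraMap_residueField_eq_zero.mp h)

theorem isUnit_algebraMap_of_notMem {a : A} (ha : a ∉ q) : IsUnit (algebraMap A (Col A L) a) := by
  refine isUnit_of_isUnit_ε ?_
  rw [AlgHom.commutes, IsScalarTower.algebraMap_apply A q.ResidueField L]
  exact ((isUnit_iff_ne_zero.2 (algebraMap_residueField_ne_zero A q ha)).map _)

theorem ε_surjective [Algebra.IsSeparable q.ResidueField L] : Function.Surjective (ε A L) := by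
  intro x
  set p := minpoly q.ResidueField x
  have hpm : p.Monic := minpoly.monic (Algebra.IsSeparable.isIntegral q.ResidueField x)
  obtain ⟨P, hP, -, hPm⟩ := Polynomial.lifts_and_natDegree_eq_and_monic
    (R := Localization.AtPrime q) (S := q.ResidueField) (f := residue _)
    (Polynomial.mem_lifts p |>.mpr (Polynomial.map_surjective _ residue_surjective p)) hpm
  obtain ⟨s, hs, hsP⟩ := IsLocalization.integerNormalization_spec q.primeCompl P
  have hco : ∀ i, algebraMap A _ ((IsLocalization.integerNormalization q.primeCompl P).coeff i) =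
      s • P.coeff i := fun i => by
    rw [← Polynomial.coeff_map, hsP, Polynomial.coeff_smul]
  have hint : scaleRoots P (algebraMap A _ s) ∈ Polynomial.lifts (algebraMap A (Localization.AtPrime q)) := by
    rw [Polynomial.lifts_iff_coeff_lifts]
    intro i
    rw [Polynomial.coeff_scaleRoots]
    rcases lt_trichotomy i P.natDegree with hi | hi | hi
    · refine ⟨(IsLocalization.integerNormalization q.primeCompl P).coeff i * s ^ (P.natDegree - i - 1), ?_⟩
      rw [map_mul, map_pow, hco i, Algebra.smul_def, mul_comm (algebraMap A _ s) (P.coeff i),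
        mul_assoc, ← pow_succ', Nat.sub_add_cancel (by omega)]
    · subst hi
      exact ⟨1, by simp [hPm.coeff_natDegree]⟩
    · exact ⟨0, by simp [Polynomial.coeff_eq_zero_of_natDegree_lt hi]⟩
  obtain ⟨F, hF, -, hFm⟩ :=
    Polynomial.lifts_and_natDegree_eq_and_monic hint (monic_scaleRoots_iff _ |>.2 hPm)
  let Q : StandardEtalePair A :=
    { f := F, monic_f := hFm, g := derivative F, cond := ⟨1, 0, 1, by ring⟩ }
  set c := algebraMap A q.ResidueField s with hc
  have hc0 : c ≠ 0 := algebraMap_residueField_ne_zero A q hs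
  have hFk : F.map (algebraMap A q.ResidueField) = scaleRoots p c := by
    rw [IsScalarTower.algebraMap_eq A (Localization.AtPrime q) q.ResidueField, ← Polynomial.map_map, hF,
      Polynomial.map_scaleRoots _ _ _ (by rw [hPm.leadingCoeff, map_one]; exact one_ne_zero), hc,
      IsScalarTower.algebraMap_apply A (Localization.AtPrime q) q.ResidueField]
    exact congrArg (fun r => scaleRoots r _) hP
  have hev : ∀ G : A[X], aeval (algebraMap A L s * x) G =
      aeval (algebraMap A L s * x) (G.map (algebraMap A q.ResidueField)) := fun G => by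
    rw [Polynomial.aeval_map_algebraMap]
  have hscale : scaleRoots p c = C (c ^ p.natDegree) * p.comp (C c⁻¹ * X) := by
    ext i
    rw [coeff_scaleRoots, coeff_C_mul, comp_C_mul_X_coeff]
    by_cases hi : i ≤ p.natDegree
    · rw [mul_comm (c ^ p.natDegree), mul_assoc, inv_pow]
      congr 1
      rw [eq_inv_mul_iff_mul_eq₀ (pow_ne_zero _ hc0), ← pow_add, Nat.add_sub_cancel' hi]
    · rw [coeff_eq_zero_of_natDegree_lt (not_le.1 hi)]
      simp
  have hxs : (algebraMap q.ResidueField L c)⁻¹ * (algebraMap A L s * x) = x := by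
    rw [IsScalarTower.algebraMap_apply A q.ResidueField L, ← hc, inv_mul_cancel_left₀]
    exact (_root_.map_ne_zero _).2 hc0
  have hmap : Q.HasMap (algebraMap A L s * x) := by
    refine ⟨?_, ?_⟩
    · show aeval (algebraMap A L s * x) F = 0
      rw [hev, hFk, hscale]
      simp [Polynomial.aeval_comp, map_inv₀, hxs, p, minpoly.aeval]
    · show IsUnit (aeval (algebraMap A L s * x) (derivative F))
      rw [hev, ← Polynomial.derivative_map, hFk, hscale, isUnit_iff_ne_zero]
      have hd : aeval x (derivative p) ≠ 0 :=
        (Algebra.IsSeparable.isSeparable q.ResidueField x).aeval_derivative_ne_zero (minpoly.aeval _ _)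
      rw [derivative_C_mul, Polynomial.derivative_comp, derivative_C_mul, derivative_X]
      simp [Polynomial.aeval_comp, map_inv₀, hxs, hc0, hd]
  obtain ⟨g, hg⟩ := range_ι_of_etale (K := L) (E := Q.Ring) (Q.lift _ hmap)
  have hgX : ε A L (g Q.X) = algebraMap A L s * x := (DFunLike.congr_fun hg Q.X).trans (Q.lift_X _ hmap)
  obtain ⟨w, hw⟩ := isUnit_algebraMap_of_notMem A q L hs
  refine ⟨↑w⁻¹ * g Q.X, ?_⟩
  have h1 : ε A L ↑w⁻¹ * algebraMap A L s = 1 := by
    rw [← (ε A L).commutes s, ← map_mul, ← hw, w.inv_mul, map_one]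
  rw [map_mul, hgX, ← mul_assoc, h1, one_mul]

variable [Algebra (Localization.AtPrime q) L] [IsScalarTower (Localization.AtPrime q) q.ResidueField L]
  [IsScalarTower A (Localization.AtPrime q) L]

/-- The colimit over a ring and over its local ring at the kernel agree. -/
theorem exists_colEquiv [Algebra.IsSeparable q.ResidueField L] :
    ∃ e : Col (Localization.AtPrime q) L ≃+* Col A L,
      ∀ a : A, e (algebraMap (Localization.AtPrime q) _ (algebraMap A (Localization.AtPrime q) a)) =
        algebraMap A (Col A L) a := by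
  set R := Localization.AtPrime q
  letI : Algebra A (Col R L) := ((algebraMap R (Col R L)).comp (algebraMap A R)).toAlgebra
  haveI : IsScalarTower A R (Col R L) := IsScalarTower.of_algebraMap_eq' rfl
  let jR : R →+* Col A L := IsLocalization.lift (M := q.primeCompl)
    fun a => isUnit_algebraMap_of_notMem A q L a.2
  letI : Algebra R (Col A L) := jR.toAlgebra
  haveI : IsScalarTower A R (Col A L) :=
    IsScalarTower.of_algebraMap_eq fun a => (IsLocalization.lift_eq (S := R) _ a).symm
  haveI : Algebra.IsSeparable (ResidueField R) L := ‹Algebra.IsSeparable q.ResidueField L›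
  haveI : IsScalarTower R (ResidueField R) L := ‹IsScalarTower R q.ResidueField L›
  have hsR := ε_surjective_of_separable R L
  have hsA := ε_surjective A q L
  let πR : Col R L →ₐ[A] L := (ε R L).restrictScalars A
  haveI : HenselianRing (Col R L) (RingHom.ker πR) := henselianRing_ker_ε hsR
  have hπA : (ε A L).toRingHom.comp jR = algebraMap R L :=
    IsLocalization.ringHom_ext q.primeCompl (RingHom.ext fun a => by
      show ε A L (jR (algebraMap A R a)) = algebraMap R L (algebraMap A R a)
      rw [IsLocalization.lift_eq, AlgHom.commutes, ← IsScalarTower.algebraMap_apply])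
  let πA : Col A L →ₐ[R] L :=
    { (ε A L).toRingHom with commutes' := fun r => RingHom.congr_fun hπA r }
  haveI : HenselianRing (Col A L) (RingHom.ker πA) := henselianRing_ker_ε hsA
  obtain ⟨g₁, hg₁, -⟩ := existsUnique_lift πR hsR
  obtain ⟨g₂, hg₂, -⟩ := existsUnique_lift πA hsA
  haveI : HenselianRing (Col R L) (RingHom.ker (ε R L)) := henselianRing_ker_ε hsR
  haveI : HenselianRing (Col A L) (RingHom.ker (ε A L)) := henselianRing_ker_ε hsA
  have h₁₂ : g₁.toRingHom.comp g₂.toRingHom = RingHom.id (Col R L) := by
    let h : Col R L →ₐ[R] Col R L :=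
      { g₁.toRingHom.comp g₂.toRingHom with
        commutes' := fun r => by
          have : (g₁.toRingHom.comp g₂.toRingHom).comp (algebraMap R (Col R L)) = algebraMap R _ :=
            IsLocalization.ringHom_ext q.primeCompl (RingHom.ext fun a => by
              show g₁ (g₂ (algebraMap R (Col R L) (algebraMap A R a))) = _
              rw [AlgHom.commutes, ← IsScalarTower.algebraMap_apply, AlgHom.commutes]
              rfl)
          exact RingHom.congr_fun this r }
    have hh : h = AlgHom.id R _ := (existsUnique_lift (ε R L) hsR).unique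
      (AlgHom.ext fun b => (DFunLike.congr_fun hg₁ (g₂ b)).trans (DFunLike.congr_fun hg₂ b))
      (AlgHom.comp_id _)
    exact congrArg AlgHom.toRingHom hh
  have h₂₁ : g₂.toRingHom.comp g₁.toRingHom = RingHom.id (Col A L) := by
    let h : Col A L →ₐ[A] Col A L :=
      { g₂.toRingHom.comp g₁.toRingHom with
        commutes' := fun a => by
          show g₂ (g₁ (algebraMap A _ a)) = _
          rw [AlgHom.commutes, IsScalarTower.algebraMap_apply A R (Col R L), AlgHom.commutes,
            ← IsScalarTower.algebraMap_apply] }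
    have hh : h = AlgHom.id A _ := (existsUnique_lift (ε A L) hsA).unique
      (AlgHom.ext fun b => (DFunLike.congr_fun hg₂ (g₁ b)).trans (DFunLike.congr_fun hg₁ b))
      (AlgHom.comp_id _)
    exact congrArg AlgHom.toRingHom hh
  refine ⟨RingEquiv.ofRingHom g₂.toRingHom g₁.toRingHom h₂₁ h₁₂, fun a => ?_⟩
  show g₂ _ = _
  rw [AlgHom.commutes, ← IsScalarTower.algebraMap_apply]

end Prime

section Field

variable {A K : Type u} [CommRing A] [Field K] [Algebra A K]

/-- Points of étale algebras have separable values. -/
theorem isSeparable_range (q : Ideal A) [q.IsPrime] [Algebra q.ResidueField K]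
    [IsScalarTower A q.ResidueField K] {E : Type u} [CommRing E] [Algebra A E] [Algebra.Etale A E]
    (φ : E →ₐ[A] K) (e : E) : φ e ∈ separableClosure q.ResidueField K := by
  let κ := q.ResidueField
  let Φ : κ ⊗[A] E →ₐ[κ] K := Algebra.TensorProduct.lift (Algebra.ofId κ K) φ fun _ _ => Commute.all _ _
  haveI : Algebra.FormallyUnramified κ (κ ⊗[A] E) := inferInstance
  haveI : Module.Finite κ (κ ⊗[A] E) := Algebra.FormallyUnramified.finite_of_free κ _
  haveI : Module.Finite κ Φ.range :=
    Module.Finite.of_surjective Φ.rangeRestrict.toLinearMap Φ.rangeRestrict_surjective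
  haveI : Algebra.FormallyUnramified κ Φ.range :=
    Algebra.FormallyUnramified.of_surjective Φ.rangeRestrict Φ.rangeRestrict_surjective
  have hF : IsField Φ.range := isField_of_isIntegral_of_isField' (R := κ) (Field.toIsField κ)
  letI : Field Φ.range := hF.toField
  haveI : Algebra.IsSeparable κ Φ.range := Algebra.FormallyUnramified.isSeparable κ Φ.range
  have hm : φ e ∈ Φ.range := ⟨1 ⊗ₜ e, by simp [Φ]⟩
  have h : (minpoly κ (⟨φ e, hm⟩ : Φ.range)).Separable := Algebra.IsSeparable.isSeparable κ _
  refine mem_separableClosure_iff.2 ?_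
  show (minpoly κ (φ e)).Separable
  have he := minpoly.algHom_eq Φ.range.val Subtype.val_injective (⟨φ e, hm⟩ : Φ.range)
  exact he.symm ▸ h

variable [IsSepClosed K]

/-- The étale colimit along a map to a separably closed field is a strict henselization of the local ring
at the kernel. -/
theorem exists_strictHenselization_col (q : Ideal A) [q.IsPrime] (hq : q = RingHom.ker (algebraMap A K)) :
    ∃ (S : Type u) (_ : CommRing S) (_ : IsLocalRing S) (_ : Algebra (Localization.AtPrime q) S)
      (_ : IsLocalHom (algebraMap (Localization.AtPrime q) S)),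
      Hensel.IsStrictHenselization (Localization.AtPrime q) S ∧ Nonempty (S ≃+* Col A K) := by
  letI : Algebra q.ResidueField K := (Ideal.ResidueField.lift q (algebraMap A K) hq.le
    fun a ha => isUnit_iff_ne_zero.2 fun h => ha (hq.ge h)).toAlgebra
  haveI : IsScalarTower A q.ResidueField K :=
    IsScalarTower.of_algebraMap_eq fun a => (Ideal.ResidueField.lift_algebraMap q _ _ _ a).symm
  let L := separableClosure q.ResidueField K
  letI : Algebra A L := ((algebraMap q.ResidueField L).comp (algebraMap A q.ResidueField)).toAlgebra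
  haveI : IsScalarTower A q.ResidueField L := IsScalarTower.of_algebraMap_eq' rfl
  letI : Algebra (Localization.AtPrime q) L :=
    ((algebraMap q.ResidueField L).comp (algebraMap (Localization.AtPrime q) q.ResidueField)).toAlgebra
  haveI : IsScalarTower (Localization.AtPrime q) q.ResidueField L := IsScalarTower.of_algebraMap_eq' rfl
  haveI : IsScalarTower A (Localization.AtPrime q) L := IsScalarTower.of_algebraMap_eq fun a => by
    show algebraMap q.ResidueField L (algebraMap A q.ResidueField a) =
      algebraMap q.ResidueField L (algebraMap _ q.ResidueField (algebraMap A _ a))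
    exact congrArg _ (IsScalarTower.algebraMap_apply A (Localization.AtPrime q) q.ResidueField a)
  haveI : Algebra.IsSeparable (ResidueField (Localization.AtPrime q)) L :=
    inferInstanceAs (Algebra.IsSeparable q.ResidueField (separableClosure q.ResidueField K))
  haveI : IsSepClosed L := (separableClosure.isSepClosure q.ResidueField K).sep_closed
  haveI : IsScalarTower (Localization.AtPrime q) (ResidueField (Localization.AtPrime q)) L :=
    ‹IsScalarTower (Localization.AtPrime q) q.ResidueField L›
  haveI := isLocalRing_col (Localization.AtPrime q) L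
  haveI := isLocalHom_col (Localization.AtPrime q) L
  refine ⟨Col (Localization.AtPrime q) L, inferInstance, inferInstance, inferInstance, inferInstance,
    isStrictHenselization_col _ L, ?_⟩
  haveI : IsScalarTower A q.ResidueField (separableClosure q.ResidueField K) := ‹IsScalarTower A q.ResidueField L›
  obtain ⟨e₁, -⟩ := exists_colEquiv A q L
  let i : L →ₐ[A] K := (L.val).restrictScalars A
  let push : Obj A L → Obj A K := fun X => ⟨X.n, X.rel, X.etale, i.comp X.φ⟩
  let g : ∀ X : Obj A L, X.R →+* Col A K := fun X => (ι (push X)).toRingHom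
  obtain ⟨Θ, hΘ⟩ := exists_ringHom_of_compat g (fun {X Y} f x => by
    let f' : push X ⟶ push Y := ⟨f.1, by show (i.comp Y.φ).comp f.1 = i.comp X.φ; rw [AlgHom.comp_assoc, f.2]⟩
    exact ι_map f' x)
  have fac : ∀ X : Obj A K, ∃ φ : X.R →ₐ[A] L, i.comp φ = X.φ := fun X =>
    ⟨{ toFun := fun x => ⟨X.φ x, isSeparable_range q X.φ x⟩
       map_one' := Subtype.ext (map_one X.φ), map_mul' := fun x y => Subtype.ext (map_mul X.φ x y)
       map_zero' := Subtype.ext (map_zero X.φ), map_add' := fun x y => Subtype.ext (map_add X.φ x y)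
       commutes' := fun a => Subtype.ext ((X.φ.commutes a).trans (i.commutes a).symm) }, rfl⟩
  refine ⟨e₁.trans (RingEquiv.ofBijective Θ ⟨?_, fun b => ?_⟩)⟩
  · refine (injective_iff_map_eq_zero Θ).2 fun b hb => ?_
    obtain ⟨X, x, rfl⟩ := ι_surj b
    rw [hΘ] at hb
    obtain ⟨Z, f, hf⟩ := ι_eq (show ι (push X) x = ι (push X) 0 by rw [map_zero]; exact hb)
    obtain ⟨φ, hφ⟩ := fac Z
    let Z' : Obj A L := ⟨Z.n, Z.rel, Z.etale, φ⟩
    let f' : X ⟶ Z' := ⟨f.1, AlgHom.ext fun y => Subtype.ext
      ((DFunLike.congr_fun hφ (f.1 y)).trans (DFunLike.congr_fun f.2 y))⟩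
    rw [← ι_map f', show f'.1 x = f.1 x from rfl, hf, map_zero, map_zero]
  · obtain ⟨X, x, rfl⟩ := ι_surj b
    obtain ⟨φ, hφ⟩ := fac X
    let X' : Obj A L := ⟨X.n, X.rel, X.etale, φ⟩
    refine ⟨ι X' x, (hΘ X' x).trans ?_⟩
    have : push X' = X := by
      show (⟨X.n, X.rel, X.etale, i.comp φ⟩ : Obj A K) = X
      rw [hφ]
    show ι (push X') x = ι X x
    let m : push X' ⟶ X := ⟨AlgHom.id A _, by rw [AlgHom.comp_id]; exact hφ.symm⟩
    exact (ι_map m x).symm

end Field

end Groth.L23.SH
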