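import Groth.Agent.L23.Refined
import Groth.Agent.L23.LocP
import Mathlib.RingTheory.Ideal.GoingDown

/-!
# Lifting the closed point of a valuation ring along a flat morphism
-/

universe u

open CategoryTheory CategoryTheory.Limits AlgebraicGeometry AlgSp IsLocalRing

set_option backward.isDefEq.respectTransparency.types false

namespace Groth.L23

lemma exists_valuation_of_flat_hom {A B : Type u} [CommRing A] [IsDomain A] [IsLocalRing A]
    [CommRing B] [IsLocalRing B] (ρ : A →+* B) (hρ : ρ.Flat)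
    (hcl : PrimeSpectrum.comap ρ (closedPoint B) = closedPoint A) :
    ∃ (L : Type u) (_ : Field L) (R : ValuationSubring L) (θ : B →+* R),
      Function.Injective (θ.comp ρ) ∧ IsLocalHom (θ.comp ρ) := by
  letI : Algebra A B := ρ.toAlgebra
  have : Module.Flat A B := hρ
  have : (maximalIdeal B).LiesOver (maximalIdeal A) :=
    ⟨(congrArg PrimeSpectrum.asIdeal hcl).symm⟩
  obtain ⟨Q, -, hQp, hQ⟩ := Ideal.exists_ideal_le_liesOver_of_le (p := (⊥ : Ideal A))
    (q := maximalIdeal A) (maximalIdeal B) bot_le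
  obtain ⟨R, θ, hθ, hcl'⟩ := exists_valuation_over (algebraMap B Q.ResidueField) (closedPoint B)
    fun d hd => le_maximalIdeal hQp.ne_top (Ideal.algebraMap_residueField_eq_zero.1 hd)
  refine ⟨_, inferInstance, R, θ, ?_, ⟨fun x hx => ?_⟩⟩
  · rw [injective_iff_map_eq_zero]
    intro x hx
    have h0 : algebraMap B Q.ResidueField (ρ x) = 0 := by
      rw [← hθ]; exact congrArg Subtype.val hx
    exact (Submodule.mem_bot A).1 (hQ.over.ge
      (show ρ x ∈ Q from (Ideal.algebraMap_residueField_eq_zero (R := B)).1 h0))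
  · by_contra hu
    have h1 : x ∈ (PrimeSpectrum.comap ρ (closedPoint B)).asIdeal := by rw [hcl]; exact hu
    have h2 : ρ x ∈ (PrimeSpectrum.comap θ (closedPoint R)).asIdeal := by rw [hcl']; exact h1
    exact h2 hx

lemma flat_fromSpecStalk {X : Scheme.{u}} (x : X) : Flat (X.fromSpecStalk x) := by
  obtain ⟨_, ⟨(W : X.Opens), hW, rfl⟩, hxW, -⟩ :=
    X.isBasis_affineOpens.exists_subset_of_mem_open (Set.mem_univ x) isOpen_univ
  have hW' : IsAffineOpen W := hW
  rw [← hW'.fromSpecStalk_eq_fromSpecStalk hxW]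
  letI := X.presheaf.algebra_section_stalk ⟨x, hxW⟩
  have := hW'.isLocalization_stalk ⟨x, hxW⟩
  have : Flat (Spec.map (X.presheaf.germ W x hxW)) :=
    (HasRingHomProperty.Spec_iff (P := @Flat)).2 (RingHom.flat_algebraMap_iff.2
      (IsLocalization.flat _ (hW'.primeIdealOf ⟨x, hxW⟩).asIdeal.primeCompl))
  exact inferInstanceAs (Flat (Spec.map _ ≫ hW'.fromSpec))

variable {S : Scheme.{u}}

theorem exists_lift_of_flat {X Y : Sp S} (hX : IsAlgSpace X) (hY : IsAlgSpace Y) {f : X ⟶ Y}
    (hf : LocP @Flat f) (A : Type u) [CommRing A] [IsDomain A] [ValuationRing A]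
    (str : Spec (.of A) ⟶ S) (b : (yon S).obj (Over.mk str) ⟶ Y)
    (hb : Points.ofPt b (closedPoint A) ∈ Set.range (Points.map f)) :
    ∃ (A' : Type u) (_ : CommRing A') (_ : IsDomain A') (_ : ValuationRing A') (φ : A →+* A'),
      Function.Injective φ ∧ IsLocalHom φ ∧
      ∃ l : (yon S).obj (Over.mk (Spec.map (CommRingCat.ofHom φ) ≫ str)) ⟶ X,
        l ≫ f = (yon S).map (Over.homMk (Spec.map (CommRingCat.ofHom φ)) rfl :
          Over.mk (Spec.map (CommRingCat.ofHom φ) ≫ str) ⟶ Over.mk str) ≫ b := by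
  have sq := IsPullback.of_hasPullback f b
  have hP : IsAlgSpace (pullback f b) := isAlgSpace_of_isPullback hY.diag hX (IsAlgSpace.yon_obj _) sq
  obtain ⟨U, a, ha, has⟩ := hP.atlas
  obtain ⟨k, hk⟩ := (yon S).map_surjective (a ≫ pullback.snd f b)
  have hflat : Flat k.left := locP_of_isPullback etLocal_flat hX hY (IsAlgSpace.yon_obj _) sq hf a
    (𝟙 _) k ha (repWith_id _ _) (by rw [hk, Category.comp_id])
  obtain ⟨x, hx⟩ := hb
  obtain ⟨p, -, hp⟩ := exists_of_isPullback sq x (Points.ofScheme (Over.mk str) (closedPoint A))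
    (hx.trans (Points.ofPt_eq_map_ofScheme _ _))
  obtain ⟨z, hz⟩ := surjective_ofPt has p
  have hkz : k.left z = closedPoint A := by
    refine (Points.schemeEquiv (Over.mk str)).injective ?_
    show Points.ofScheme _ _ = Points.ofScheme _ _
    rw [← ofPt_map, hk, ← Points.map_ofPt, hz, hp]
  obtain ⟨ρ, hρ⟩ := Spec.map_surjective (U.left.fromSpecStalk z ≫ k.left)
  have := flat_fromSpecStalk z
  have hρf : Flat (Spec.map ρ) := by rw [hρ]; infer_instance
  obtain ⟨L, _, R, θ, hinj, hloc⟩ := exists_valuation_of_flat_hom ρ.hom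
    ((HasRingHomProperty.Spec_iff (P := @Flat)).1 hρf) (by
      show Spec.map ρ (closedPoint _) = _
      rw [hρ, Scheme.Hom.comp_apply, Scheme.fromSpecStalk_closedPoint, hkz])
  refine ⟨R, inferInstance, inferInstance, inferInstance, θ.comp ρ.hom, hinj, hloc, ?_⟩
  let i : Over.mk (Spec.map (CommRingCat.ofHom (θ.comp ρ.hom)) ≫ str) ⟶ U :=
    Over.homMk (Spec.map (CommRingCat.ofHom θ) ≫ U.left.fromSpecStalk z) (by
      show (_ ≫ _) ≫ U.hom = Spec.map _ ≫ str
      rw [CommRingCat.ofHom_comp, Spec.map_comp, CommRingCat.ofHom_hom, hρ]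
      simp only [Category.assoc]
      exact congrArg (fun m => _ ≫ _ ≫ m) (Over.w k).symm)
  refine ⟨(yon S).map i ≫ a ≫ pullback.fst f b, ?_⟩
  simp only [Category.assoc, pullback.condition]
  rw [← reassoc_of% hk, ← Functor.map_comp_assoc]
  congr 2
  ext1
  simp only [i, Over.comp_left, Over.homMk_left, CommRingCat.ofHom_comp, Spec.map_comp,
    CommRingCat.ofHom_hom, hρ, Category.assoc]

end Groth.L23
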