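import Groth.Agent.L27.EtSite.SplitCover
import Mathlib.AlgebraicGeometry.Morphisms.Etale
import Mathlib.AlgebraicGeometry.Morphisms.Integral
import Mathlib.AlgebraicGeometry.Pullbacks
import Mathlib.RingTheory.Etale.Pi
import Mathlib.RingTheory.TensorProduct.Pi

/-!
# Etale covers of a scheme integral over an affine scheme split etale locally on the base
-/

universe u

open CategoryTheory CategoryTheory.Limits AlgebraicGeometry
open scoped TensorProduct

set_option backward.isDefEq.respectTransparency.types false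

namespace Groth.L23

theorem exists_etale_ff_splitting (A B C : Type u) [CommRing A] [CommRing B] [Algebra A B]
    [Algebra.IsIntegral A B] [CommRing C] [Algebra B C] [Algebra.Etale B C] [Module.FaithfullyFlat B C] :
    ∃ (A' : Type u) (_ : CommRing A') (_ : Algebra A A'), Algebra.Etale A A' ∧
      Module.FaithfullyFlat A A' ∧ Nonempty (C →ₐ[B] B ⊗[A] A') := by
  classical
  choose A' i₁ i₂ i₃ q hq σ using fun p => Groth.L27.EtSite.exists_etale_splitting A B C p
  have hopen : ∀ p, IsOpen (Set.range (PrimeSpectrum.comap (algebraMap A (A' p)))) := fun p =>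
    (PrimeSpectrum.isOpenMap_comap_of_hasGoingDown_of_finitePresentation).isOpen_range
  obtain ⟨s, hs⟩ := isCompact_univ.elim_finite_subcover _ hopen
    (fun p _ => Set.mem_iUnion.2 ⟨p, q p, hq p⟩)
  refine ⟨∀ p : s, A' p.1, inferInstance, inferInstance, inferInstance, ?_, ?_⟩
  · refine Module.FaithfullyFlat.of_comap_surjective fun p => ?_
    obtain ⟨p₀, hp₀, Q, hQ⟩ := Set.mem_iUnion₂.1 (hs (Set.mem_univ p))
    refine ⟨PrimeSpectrum.comap (Pi.evalRingHom (fun p : s => A' p.1) ⟨p₀, hp₀⟩) Q, ?_⟩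
    rw [← PrimeSpectrum.comap_comp_apply]
    exact hQ
  · let e := Algebra.TensorProduct.piRight A B B fun p : s => A' p.1
    exact ⟨e.symm.toAlgHom.comp (AlgHom.pi fun p : s => (σ p.1).some)⟩

/-- An etale cover of a scheme integral over an affine scheme splits etale locally on the base. -/
theorem exists_etale_section {V P U : Scheme.{u}} [IsAffine V] [IsAffine P] [IsAffine U] (k : P ⟶ V)
    [IsIntegralHom k] (π : U ⟶ P) [Etale π] [Surjective π] :
    ∃ (V' : Scheme.{u}) (v : V' ⟶ V), IsAffine V' ∧ Etale v ∧ Surjective v ∧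
      ∃ τ : pullback k v ⟶ U, τ ≫ π = pullback.fst k v := by
  have hk : k.appTop.hom.IsIntegral :=
    ((HasAffineProperty.iff_of_isAffine (P := @IsIntegralHom) (f := k)).1 inferInstance).2
  have hπ : π.appTop.hom.Etale := (HasRingHomProperty.iff_of_isAffine (P := @Etale)).1 inferInstance
  have hπf : π.appTop.hom.FaithfullyFlat :=
    (Flat.flat_and_surjective_iff_faithfullyFlat_of_isAffine (f := π)).1 ⟨inferInstance, inferInstance⟩
  letI := k.appTop.hom.toAlgebra
  letI := π.appTop.hom.toAlgebra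
  haveI : Algebra.IsIntegral Γ(V, ⊤) Γ(P, ⊤) := ⟨hk⟩
  haveI : Algebra.Etale Γ(P, ⊤) Γ(U, ⊤) := hπ
  haveI : Module.FaithfullyFlat Γ(P, ⊤) Γ(U, ⊤) := hπf
  obtain ⟨A', _, _, hA', hA'f, ⟨σ⟩⟩ := exists_etale_ff_splitting Γ(V, ⊤) Γ(P, ⊤) Γ(U, ⊤)
  let f : Γ(V, ⊤) ⟶ CommRingCat.of A' := CommRingCat.ofHom (algebraMap Γ(V, ⊤) A')
  have hfe : Etale (Spec.map f) :=
    (HasRingHomProperty.Spec_iff (P := @Etale)).2 (RingHom.etale_algebraMap.2 hA')
  have hfs : Surjective (Spec.map f) :=
    ((flat_and_surjective_SpecMap_iff f).2 (RingHom.faithfullyFlat_algebraMap_iff.2 hA'f)).2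
  let v := Spec.map f ≫ V.isoSpec.inv
  refine ⟨Spec (CommRingCat.of A'), v, inferInstance, inferInstance, inferInstance, ?_⟩
  have hT := isPullback_SpecMap_of_isPushout _ _ _ _
    (CommRingCat.isPushout_tensorProduct Γ(V, ⊤) Γ(P, ⊤) A')
  let inl := Spec.map (CommRingCat.ofHom (Algebra.TensorProduct.includeLeftRingHom (R := Γ(V, ⊤))
    (A := Γ(P, ⊤)) (B := A')))
  have sq : IsPullback (inl ≫ P.isoSpec.inv) (Spec.map (CommRingCat.ofHom
      (Algebra.TensorProduct.includeRight (R := Γ(V, ⊤)) (A := Γ(P, ⊤)) (B := A')).toRingHom)) k v :=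
    hT.of_iso (Iso.refl _) P.isoSpec.symm (Iso.refl _) V.isoSpec.symm (by simp [inl]) (by simp)
      (by exact Scheme.isoSpec_inv_naturality k) (by simp [v, f])
  refine ⟨sq.isoPullback.inv ≫ Spec.map (CommRingCat.ofHom σ.toRingHom) ≫ U.isoSpec.inv, ?_⟩
  rw [Category.assoc, Category.assoc, ← Scheme.isoSpec_inv_naturality, ← Spec.map_comp_assoc,
    Iso.inv_comp_eq, IsPullback.isoPullback_hom_fst]
  show _ = Spec.map _ ≫ P.isoSpec.inv
  congr 2
  exact CommRingCat.hom_ext (RingHom.ext fun b => σ.commutes b)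

end Groth.L23
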