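import Groth.Agent.L23.QcCalc
import Mathlib.AlgebraicGeometry.RelativeGluing
import Mathlib.CategoryTheory.Limits.Constructions.Over.Connected

/-!
# Gluing morphisms and representable sheaves on open covers
-/

universe u

open CategoryTheory CategoryTheory.Limits AlgebraicGeometry Opposite AlgSp

set_option backward.isDefEq.respectTransparency.types false

namespace Groth.L23

variable {S : Scheme.{u}} {T : Over S} {ι : Type*} {U : ι → Over S} (g : ∀ i, U i ⟶ T)
  [∀ i, IsOpenImmersion (g i).left]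

lemma ofArrows_mem_J (hs : ∀ t : ↥T.left, ∃ i u, (g i).left u = t) : Sieve.ofArrows U g ∈ J S T := by
  rw [GrothendieckTopology.mem_over_iff]
  choose i u hu using hs
  let 𝒰 : Scheme.Cover.{u} Scheme.fppfPrecoverage.{u} T.left := Scheme.Cover.mkOfCovers T.left
    (fun t => (U (i t)).left) (fun t => (g (i t)).left) (fun t => ⟨t, u t, hu t⟩)
    (fun t => ⟨inferInstanceAs (Flat (g (i t)).left), inferInstanceAs (LocallyOfFinitePresentation (g (i t)).left)⟩)
  refine GrothendieckTopology.superset_covering _ ?_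
    (Precoverage.generate_mem_toGrothendieck 𝒰.mem₀)
  rintro W v ⟨Z, a, _, ⟨t⟩, rfl⟩
  refine (Sieve.overEquiv_iff (Y := T) _ _).2 ?_
  refine ⟨U (i t), Over.homMk a (by
    show a ≫ (U (i t)).hom = (a ≫ (g (i t)).left) ≫ T.hom
    rw [Category.assoc]
    exact congrArg _ (Over.w (g (i t))).symm), g (i t), ⟨i t⟩, ?_⟩
  exact Over.OverMorphism.ext rfl

/-- Morphisms to a sheaf glue along open covers. -/
theorem existsUnique_glue (hs : ∀ t : ↥T.left, ∃ i u, (g i).left u = t) {F : Sp S}
    (x : ∀ i, (yon S).obj (U i) ⟶ F)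
    (hx : ∀ ⦃W : Over S⦄ ⦃i j : ι⦄ (a : W ⟶ U i) (b : W ⟶ U j),
      a ≫ g i = b ≫ g j → (yon S).map a ≫ x i = (yon S).map b ≫ x j) :
    ∃! l : (yon S).obj T ⟶ F, ∀ i, (yon S).map (g i) ≫ l = x i := by
  have hF := (isSheaf_iff_isSheaf_of_type (J S) F.obj).1 F.property
  have h := (Presieve.isSheafFor_arrows_iff F.obj g).1
    ((Presieve.isSheafFor_iff_generate _).2 (hF _ (ofArrows_mem_J g hs)))
    (fun i => (J S).uliftYonedaEquiv (x i)) (fun i j W a b w => by
      rw [GrothendieckTopology.uliftYonedaEquiv_naturality, GrothendieckTopology.uliftYonedaEquiv_naturality]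
      exact congrArg _ (hx a b w))
  obtain ⟨t, ht, htu⟩ := h
  refine ⟨(J S).uliftYonedaEquiv.symm t, fun i => ?_, fun l hl => ?_⟩
  · apply (J S).uliftYonedaEquiv.injective
    rw [← GrothendieckTopology.uliftYonedaEquiv_naturality, Equiv.apply_symm_apply]
    exact ht i
  · rw [← htu ((J S).uliftYonedaEquiv l) fun i => ?_, Equiv.symm_apply_apply]
    rw [GrothendieckTopology.uliftYonedaEquiv_naturality, hl]

theorem hom_ext_cover (hs : ∀ t : ↥T.left, ∃ i u, (g i).left u = t) {F : Sp S}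
    {l l' : (yon S).obj T ⟶ F} (h : ∀ i, (yon S).map (g i) ≫ l = (yon S).map (g i) ≫ l') : l = l' :=
  (existsUnique_glue g hs (fun i => (yon S).map (g i) ≫ l') fun W i j a b w => by
    rw [← Functor.map_comp_assoc, w, Functor.map_comp_assoc]).unique h fun _ => rfl

theorem hom_ext_cover' (hs : ∀ t : ↥T.left, ∃ i u, (g i).left u = t) {V : Over S}
    {l l' : T ⟶ V} (h : ∀ i, g i ≫ l = g i ≫ l') : l = l' :=
  (yon S).map_injective (hom_ext_cover g hs fun i => by rw [← Functor.map_comp, ← Functor.map_comp, h i])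

omit g in
/-- Over an affine open of the base. -/
abbrev openOver (T : Over S) (B : T.left.Opens) : Over S := Over.mk (B.ι ≫ T.hom)

abbrev openOverι (T : Over S) (B : T.left.Opens) : openOver T B ⟶ T := Over.homMk B.ι

instance (T : Over S) (B : T.left.Opens) : IsOpenImmersion (openOverι T B).left :=
  inferInstanceAs (IsOpenImmersion B.ι)

set_option maxHeartbeats 1000000 in
/-- A sheaf over `h_T` which is representable over the affine opens of `T` is representable. -/
theorem exists_isPullback_of_affine_opens {F : Sp S} (q : F ⟶ (yon S).obj T)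
    (h : ∀ B : T.left.affineOpens, ∃ (W : Over S) (fst : (yon S).obj W ⟶ F) (i : W ⟶ openOver T B.1),
      IsPullback fst ((yon S).map i) q ((yon S).map (openOverι T B.1))) :
    ∃ (G : Over S) (π : G ⟶ T) (θ : (yon S).obj G ⟶ F), IsIso θ ∧ θ ≫ q = (yon S).map π := by
  choose W fst i sq using h
  let hl : ∀ {B C : T.left.affineOpens}, B ≤ C → (openOver T B.1 ⟶ openOver T C.1) := fun {B C} hBC =>
    Over.homMk (T.left.homOfLE hBC) (by simp)
  have hlι : ∀ {B C : T.left.affineOpens} (hBC : B ≤ C), hl hBC ≫ openOverι T C.1 = openOverι T B.1 :=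
    fun hBC => Over.OverMorphism.ext (T.left.homOfLE_ι hBC)
  have htr : ∀ {B C : T.left.affineOpens} (hBC : B ≤ C), ∃ m : W B ⟶ W C,
      (yon S).map m ≫ fst C = fst B ∧ m ≫ i C = i B ≫ hl hBC := fun {B C} hBC => by
    obtain ⟨m, hm⟩ := (yon S).map_surjective ((sq C).lift (fst B) ((yon S).map (i B ≫ hl hBC)) (by
      rw [← Functor.map_comp, Category.assoc, hlι, Functor.map_comp, (sq B).w]))
    exact ⟨m, by rw [hm, (sq C).lift_fst], (yon S).map_injective (by rw [Functor.map_comp, hm, (sq C).lift_snd])⟩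
  choose m hm₁ hm₂ using @htr
  have hext : ∀ {Z : Over S} {C : T.left.affineOpens} {a b : Z ⟶ W C},
      (yon S).map a ≫ fst C = (yon S).map b ≫ fst C → a ≫ i C = b ≫ i C → a = b := fun {Z C a b} e₁ e₂ =>
    (yon S).map_injective ((sq C).hom_ext e₁ (by rw [← Functor.map_comp, ← Functor.map_comp, e₂]))
  have sqm : ∀ {B C : T.left.affineOpens} (hBC : B ≤ C), IsPullback (m hBC) (i B) (i C) (hl hBC) := by
    intro B C hBC
    refine IsPullback.of_map (yon S) (hm₂ hBC) (IsPullback.of_right ?_ ?_ (sq C))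
    · rw [hm₁, ← Functor.map_comp, hlι]; exact sq B
    · rw [← Functor.map_comp, hm₂, Functor.map_comp]
  let D : T.left.directedAffineCover.I₀ ⥤ Scheme.{u} :=
    { obj := fun B => (W B).left
      map := fun {B C} f => (m (leOfHom f)).left
      map_id := fun B => by
        rw [show m (leOfHom (𝟙 B)) = 𝟙 (W B) from hext (by rw [hm₁]; simp) (by
          rw [hm₂, Category.id_comp]
          rw [show hl (leOfHom (𝟙 B)) = 𝟙 _ from (cancel_mono (openOverι T B.1)).1 (by rw [hlι]; simp)]
          exact Category.comp_id _)]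
        rfl
      map_comp := fun {B C E} f g => by
        rw [show m (leOfHom (f ≫ g)) = m (leOfHom f) ≫ m (leOfHom g) from hext
          (by rw [hm₁, Functor.map_comp, Category.assoc, hm₁, hm₁]) (by
          rw [Category.assoc, hm₂, hm₂, reassoc_of% hm₂ (leOfHom f)]
          exact congrArg _ ((cancel_mono (openOverι T E.1)).1 (by rw [hlι, Category.assoc, hlι, hlι])))]
        rfl }
  let d : T.left.directedAffineCover.RelativeGluingData :=
    { functor := D
      natTrans :=
        { app := fun B => (i B).left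
          naturality := fun B C f => (congrArg Over.Hom.left (hm₂ (leOfHom f))).trans rfl }
      equifibered := fun B C f => (sqm (leOfHom f)).map (Over.forget S) }
  have hcol : ∀ d' : T.left.directedAffineCover.RelativeGluingData, HasColimit d'.functor :=
    fun d' => inferInstance
  have : HasColimit D := hcol d
  let G : Over S := Over.mk (d.toBase ≫ T.hom)
  let π : G ⟶ T := Over.homMk d.toBase
  let c : ∀ B, W B ⟶ G := fun B => Over.homMk (colimit.ι d.functor B) (by
    show colimit.ι d.functor B ≫ d.toBase ≫ T.hom = (W B).hom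
    rw [← Category.assoc, show colimit.ι d.functor B ≫ d.toBase = _ from d.ι_toBase B, Category.assoc]
    exact Over.w (i B))
  have : ∀ B, IsOpenImmersion (c B).left := fun B => inferInstanceAs (IsOpenImmersion (d.cover.f B))
  have hcs : ∀ t : ↥G.left, ∃ B w, (c B).left w = t := fun t =>
    let ⟨B, w, hw⟩ := d.cover.exists_eq t; ⟨B, w, hw⟩
  have sqc : ∀ B, IsPullback (i B) (c B) (openOverι T B.1) π := fun B =>
    IsPullback.of_map (Over.forget S) (Over.OverMorphism.ext (d.ι_toBase B).symm)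
      (d.isPullback_natTrans_ι_toBase B)
  have hmc : ∀ {B C : T.left.affineOpens} (hBC : B ≤ C), m hBC ≫ c C = c B := fun hBC =>
    Over.OverMorphism.ext (colimit.w d.functor (homOfLE hBC))
  clear_value c π G
  clear hcol
  clear_value d D
  have hcompat : ∀ ⦃Z : Over S⦄ ⦃B B' : T.left.affineOpens⦄ (a : Z ⟶ W B) (b : Z ⟶ W B'),
      a ≫ c B = b ≫ c B' → (yon S).map a ≫ fst B = (yon S).map b ≫ fst B' := by
    intro Z B B' a b w
    let P : T.left.affineOpens → Prop := fun C => C ≤ B ∧ C ≤ B'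
    let z := a ≫ c B ≫ π
    refine hom_ext_cover (fun C : { C // P C } => openOverι Z (z.left ⁻¹ᵁ C.1.1)) (fun t => ?_) ?_
    · have hB : z.left t ∈ B.1 := by
        have : z = (a ≫ i B) ≫ openOverι T B.1 := by rw [Category.assoc, (sqc B).w]
        rw [this]; exact (((a ≫ i B).left t)).2
      have hB' : z.left t ∈ B'.1 := by
        have : z = (b ≫ i B') ≫ openOverι T B'.1 := by
          rw [Category.assoc, (sqc B').w, ← Category.assoc, ← w, Category.assoc]
        rw [this]; exact (((b ≫ i B').left t)).2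
      obtain ⟨_, ⟨C, hC, rfl⟩, htC, hsub⟩ := T.left.isBasis_affineOpens.exists_subset_of_mem_open
        (show z.left t ∈ B.1 ⊓ B'.1 from ⟨hB, hB'⟩) (B.1 ⊓ B'.1).isOpen
      exact ⟨⟨⟨C, hC⟩, fun _ h => (hsub h).1, fun _ h => (hsub h).2⟩, ⟨t, htC⟩, rfl⟩
    · rintro ⟨C, hCB, hCB'⟩
      let j := openOverι Z (z.left ⁻¹ᵁ C.1)
      let r : openOver Z (z.left ⁻¹ᵁ C.1) ⟶ openOver T C.1 := Over.homMk (z.left ∣_ C.1) (by
        show z.left ∣_ C.1 ≫ C.1.ι ≫ T.hom = (z.left ⁻¹ᵁ C.1).ι ≫ Z.hom
        rw [morphismRestrict_ι_assoc, Over.w z])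
      have hr : r ≫ openOverι T C.1 = j ≫ z := Over.OverMorphism.ext (morphismRestrict_ι _ _)
      let la := (sqc C).lift r (j ≫ a ≫ c B) (by simp only [hr, z, Category.assoc])
      have key : ∀ {B'' : T.left.affineOpens} (hC : C ≤ B'') (b'' : Z ⟶ W B''),
          b'' ≫ c B'' = a ≫ c B → la ≫ m hC = j ≫ b'' := by
        intro B'' hC b'' e
        apply (sqc B'').hom_ext
        · rw [← cancel_mono (openOverι T B''.1)]
          simp only [Category.assoc, (sqc B'').w, reassoc_of% hmc hC]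
          rw [(sqc C).lift_snd_assoc, reassoc_of% e]
          simp only [Category.assoc]
        · rw [Category.assoc, hmc, (sqc C).lift_snd, Category.assoc, e]
      rw [← Functor.map_comp_assoc, ← Functor.map_comp_assoc, ← key hCB a rfl, ← key hCB' b w.symm,
        Functor.map_comp_assoc, Functor.map_comp_assoc, hm₁, hm₁]
  obtain ⟨θ, hθ, -⟩ := existsUnique_glue c hcs fst hcompat
  have hθq : θ ≫ q = (yon S).map π := hom_ext_cover c hcs fun B => by
    rw [reassoc_of% hθ B, (sq B).w, ← Functor.map_comp, ← Functor.map_comp, (sqc B).w]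
  have hsurj : ∀ (Z : Over S) (z : Z ⟶ T) (t : ↥Z.left),
      ∃ (B : T.left.affineOpens) (u : ↥(openOver Z (z.left ⁻¹ᵁ B.1)).left),
        (openOverι Z (z.left ⁻¹ᵁ B.1)).left u = t := fun Z z t => by
    obtain ⟨_, ⟨C, hC, rfl⟩, htC, -⟩ := T.left.isBasis_affineOpens.exists_subset_of_mem_open
      (Set.mem_univ (z.left t)) isOpen_univ
    exact ⟨⟨C, hC⟩, ⟨t, htC⟩, rfl⟩
  let res : ∀ (Z : Over S) (z : Z ⟶ T) (B : T.left.affineOpens),
      openOver Z (z.left ⁻¹ᵁ B.1) ⟶ openOver T B.1 := fun Z z B => Over.homMk (z.left ∣_ B.1) (by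
        show z.left ∣_ B.1 ≫ B.1.ι ≫ T.hom = (z.left ⁻¹ᵁ B.1).ι ≫ Z.hom
        rw [morphismRestrict_ι_assoc, Over.w z])
  have hres : ∀ (Z : Over S) (z : Z ⟶ T) (B : T.left.affineOpens),
      res Z z B ≫ openOverι T B.1 = openOverι Z (z.left ⁻¹ᵁ B.1) ≫ z := fun Z z B =>
    Over.OverMorphism.ext (morphismRestrict_ι _ _)
  have hinj : ∀ {Z : Over S} (a b : Z ⟶ G),
      (yon S).map a ≫ θ = (yon S).map b ≫ θ → a = b := by
    intro Z a b e
    have ez : a ≫ π = b ≫ π := (yon S).map_injective (by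
      rw [Functor.map_comp, Functor.map_comp, ← hθq, reassoc_of% e])
    refine hom_ext_cover' (T := Z) (fun B : T.left.affineOpens => openOverι Z ((a ≫ π).left ⁻¹ᵁ B.1)) (hsurj Z (a ≫ π)) fun B => ?_
    let ra := res Z (a ≫ π) B
    let la := (sqc B).lift ra (openOverι Z ((a ≫ π).left ⁻¹ᵁ B.1) ≫ a) (by rw [Category.assoc]; exact hres _ _ _)
    let lb := (sqc B).lift ra (openOverι Z ((a ≫ π).left ⁻¹ᵁ B.1) ≫ b) (by rw [Category.assoc, ← ez]; exact hres _ _ _)
    have hl : la = lb := hext (by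
      rw [← hθ, ← Functor.map_comp_assoc, ← Functor.map_comp_assoc, (sqc B).lift_snd,
        (sqc B).lift_snd, Functor.map_comp_assoc, Functor.map_comp_assoc, e])
      (by rw [(sqc B).lift_fst, (sqc B).lift_fst])
    rw [← (sqc B).lift_snd ra (openOverι Z ((a ≫ π).left ⁻¹ᵁ B.1) ≫ a) (by rw [Category.assoc]; exact hres _ _ _)]
    exact (congrArg (· ≫ c B) hl).trans ((sqc B).lift_snd _ _ _)
  have : Mono θ := mono_of_yon fun Z a b e => by
    obtain ⟨a, rfl⟩ := (yon S).map_surjective a
    obtain ⟨b, rfl⟩ := (yon S).map_surjective b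
    rw [hinj a b e]
  have hlift : ∀ (Z : Over S) (y : (yon S).obj Z ⟶ F), ∃ l, l ≫ θ = y := by
    intro Z y
    obtain ⟨z, hz⟩ := (yon S).map_surjective (y ≫ q)
    let ly := fun B : T.left.affineOpens => (sq B).lift
      ((yon S).map (openOverι Z (z.left ⁻¹ᵁ B.1)) ≫ y) ((yon S).map (res Z z B))
      (by rw [Category.assoc, ← hz, ← Functor.map_comp, ← Functor.map_comp, hres])
    have hy : ∀ B, (ly B ≫ (yon S).map (c B)) ≫ θ = (yon S).map (openOverι Z (z.left ⁻¹ᵁ B.1)) ≫ y :=
      fun B => by rw [Category.assoc, hθ, (sq B).lift_fst]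
    obtain ⟨l, hl, -⟩ := existsUnique_glue (T := Z) (fun B : T.left.affineOpens => openOverι Z (z.left ⁻¹ᵁ B.1)) (hsurj Z z)
      (fun B : T.left.affineOpens => ly B ≫ (yon S).map (c B)) (fun W' B B' a b e => by
        rw [← cancel_mono θ]
        simp only [Category.assoc, hy]
        rw [← Functor.map_comp_assoc, ← Functor.map_comp_assoc, e])
    exact ⟨l, hom_ext_cover (T := Z) (fun B : T.left.affineOpens => openOverι Z (z.left ⁻¹ᵁ B.1)) (hsurj Z z) fun B => by
      rw [reassoc_of% hl B]; exact (Category.assoc _ _ _).symm.trans (hy B)⟩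
  refine ⟨G, π, θ, ?_, hθq⟩
  have : ∀ Z, Function.Bijective (θ.hom.app (op Z)) := fun Z => by
    have hh : ∀ k, θ.hom.app (op Z) ((J S).uliftYonedaEquiv.{u + 1} k) = (J S).uliftYonedaEquiv.{u + 1} (k ≫ θ) :=
      fun k => ((J S).uliftYonedaEquiv_comp k θ).symm
    refine ⟨fun x x' hxx => ?_, fun y => ?_⟩
    · obtain ⟨k, rfl⟩ := (J S).uliftYonedaEquiv.{u + 1}.surjective x
      obtain ⟨k', rfl⟩ := (J S).uliftYonedaEquiv.{u + 1}.surjective x'
      rw [hh, hh, Equiv.apply_eq_iff_eq, cancel_mono] at hxx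
      rw [hxx]
    · obtain ⟨y, rfl⟩ := (J S).uliftYonedaEquiv.{u + 1}.surjective y
      obtain ⟨l, hl⟩ := hlift Z y
      exact ⟨_, (hh l).trans (congrArg _ hl)⟩
  have : ∀ Z, IsIso (θ.hom.app Z) := fun Z => (isIso_iff_bijective _).2 (this Z.unop)
  have : IsIso θ.hom := NatIso.isIso_of_isIso_app _
  have : IsIso ((sheafToPresheaf (J S) (Type (u + 1))).map θ) := ‹IsIso θ.hom›
  exact isIso_of_reflects_iso θ (sheafToPresheaf (J S) _)

end Groth.L23
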