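import Groth.Agent.L23.OpenSub
import Groth.Agent.L23.Glue
import Mathlib.AlgebraicGeometry.Gluing

/-!
# A sheaf covered by open subspaces which are schemes is a scheme
-/

universe u

open CategoryTheory CategoryTheory.Limits AlgebraicGeometry Opposite AlgSp TopologicalSpace

set_option backward.isDefEq.respectTransparency.types false

namespace Groth.L23.OpenCharts

variable {S : Scheme.{u}}

lemma ofPt_eq_map {T : Over S} {F : Sp S} (g : (yon S).obj T ⟶ F) :
    Points.ofPt g = Points.map g ∘ Points.ofScheme T :=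
  funext fun t => Points.ofPt_eq_map_ofScheme g t

/-- A sheaf covered by open subspaces which are schemes is a scheme. -/
theorem exists_scheme_of_open_charts {X : Sp S} (hX : IsAlgSpace X)
    (h : ∀ x : Points X, ∃ (A : Over S) (a : (yon S).obj A ⟶ X) (t : ↥A.left),
      RepWith @IsOpenImmersion a ∧ Points.ofPt a t = x) :
    ∃ (G : Over S) (θ : (yon S).obj G ⟶ X), IsIso θ := by
  let J := {W : Opens (Points X) // ∃ (A : Over S) (a : (yon S).obj A ⟶ X),
    RepWith @IsOpenImmersion a ∧ Set.range (Points.ofPt a) = W}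
  obtain ⟨U, pU, hpU, hpUs⟩ := hX.atlas
  haveI : Small.{u} J := small_of_injective
    (f := fun W : J => (⟨Points.ofPt pU ⁻¹' W.1, W.1.isOpen.preimage (Points.continuous_ofPt pU)⟩ : U.left.Opens))
    fun W W' e => Subtype.ext (Opens.ext ((surjective_ofPt hpUs).preimage_injective (congr_arg SetLike.coe e)))
  choose A a ha hr using fun W : J => W.2
  have hrm : ∀ W, Set.range (Points.map (a W)) = (W.1 : Set (Points X)) := fun W => by
    rw [← hr W, ofPt_eq_map, Set.range_comp,
      (show Function.Surjective (Points.ofScheme (A W)) from (Points.schemeEquiv (A W)).surjective).range_eq,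
      Set.image_univ]
  have hm : ∀ W, Mono (a W) := fun W => mono_of_repWith_openImmersion (ha W)
  have hinj : ∀ W, Function.Injective (Points.ofPt (a W)) := fun W => by
    rw [ofPt_eq_map]
    exact (isEmbedding_map_of_immersion hX (repWith_mono (fun φ (_ : IsOpenImmersion φ) =>
      inferInstanceAs (IsImmersion φ)) (ha W))).1.injective.comp (Points.schemeEquiv (A W)).injective
  have hfac : ∀ {W : J} {T : Over S} (g : (yon S).obj T ⟶ X), (∀ t, Points.ofPt g t ∈ W.1) →
      ∃ l : T ⟶ A W, (yon S).map l ≫ a W = g := fun {W T} g hg => by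
    obtain ⟨l, hl⟩ := (exists_factor_iff (ha W) g).2 (by
      rintro _ ⟨p, rfl⟩
      obtain ⟨t, rfl⟩ := (Points.schemeEquiv T).surjective p
      rw [hrm]
      have := hg t
      rwa [ofPt_eq_map] at this)
    obtain ⟨l, rfl⟩ := (yon S).map_surjective l
    exact ⟨l, hl⟩
  have hmem : ∀ (W : J) (t : ↥(A W).left), Points.ofPt (a W) t ∈ W.1 := fun W t => (hr W).le ⟨t, rfl⟩
  have htr : ∀ {W W' : J}, W ≤ W' → ∃ l : A W ⟶ A W', (yon S).map l ≫ a W' = a W :=
    fun {W W'} hWW' => hfac _ fun t => hWW' (hmem W t)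
  choose m hm' using @htr
  have hext : ∀ {W : J} {T : Over S} {l l' : T ⟶ A W},
      (yon S).map l ≫ a W = (yon S).map l' ≫ a W → l = l' := fun {W T l l'} e =>
    (yon S).map_injective ((cancel_mono (a W)).1 e)
  have hmo : ∀ {W W' : J} (hle : W ≤ W'), IsOpenImmersion (m hle).left := fun {W W'} hle => by
    have : IsPullback (𝟙 _) ((yon S).map (m hle)) (a W) (a W') :=
      IsPullback.mk' (by rw [Category.id_comp, hm'])
        (fun T φ φ' h _ => by simpa using h)
        (fun T x y e => ⟨x, Category.comp_id _, (cancel_mono (a W')).1 (by rw [Category.assoc, hm', e])⟩)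
    exact repWith_prop (ha W) this
  let D : J ⥤ Scheme.{u} :=
    { obj := fun W => (A W).left
      map := fun f => (m (leOfHom f)).left
      map_id := fun W => congr_arg CommaMorphism.left
        (hext (l := m (leOfHom (𝟙 W))) (l' := 𝟙 _) (by rw [hm', (yon S).map_id, Category.id_comp]))
      map_comp := fun {W W' W''} f g => congr_arg CommaMorphism.left
        (hext (l := m (leOfHom (f ≫ g))) (l' := m (leOfHom f) ≫ m (leOfHom g))
          (by rw [hm', Functor.map_comp, Category.assoc, hm', hm'])) }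
  have : ∀ {W W' : J} (f : W ⟶ W'), IsOpenImmersion (D.map f) := fun f => hmo (leOfHom f)
  have hpt : ∀ {W W' : J} (hle : W ≤ W') (t : ↥(A W).left),
      Points.ofPt (a W') ((m hle).left t) = Points.ofPt (a W) t := fun hle t => by
    rw [← ofPt_comp, hm']
  -- every pair of charts meets in a chart
  have hinf : ∀ W W' : J, ∃ W'' : J, W''.1 = W.1 ⊓ W'.1 := fun W W' => by
    let V := openPre W'.1 (a W)
    refine ⟨⟨W.1 ⊓ W'.1, openOver (A W) V, (yon S).map (openOverι (A W) V) ≫ a W, ?_, ?_⟩, rfl⟩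
    · refine MorphismProperty.comp_mem _ _ _ ((repWith_yon_map_iff _ _).2 ?_) (ha W)
      exact inferInstanceAs (IsOpenImmersion V.ι)
    · ext p
      simp only [Set.mem_range, Opens.coe_inf, Set.mem_inter_iff, ofPt_comp]
      refine ⟨?_, fun ⟨h₁, h₂⟩ => ?_⟩
      · rintro ⟨t, rfl⟩
        exact ⟨hmem W _, t.2⟩
      · rw [← hr W] at h₁
        obtain ⟨t, rfl⟩ := h₁
        exact ⟨⟨t, h₂⟩, rfl⟩
  have : (D ⋙ Scheme.forget).IsLocallyDirected := ⟨fun {i j k} fi fj xi xj e => by
    change (m (leOfHom fi)).left xi = (m (leOfHom fj)).left xj at e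
    have hp : Points.ofPt (a i) xi = Points.ofPt (a j) xj := by
      rw [← hpt (leOfHom fi), ← hpt (leOfHom fj), e]
    obtain ⟨l, hl⟩ := hinf i j
    have hli : l ≤ i := show l.1 ≤ i.1 from hl.le.trans inf_le_left
    have hlj : l ≤ j := show l.1 ≤ j.1 from hl.le.trans inf_le_right
    have hmem' : Points.ofPt (a i) xi ∈ Set.range (Points.ofPt (a l)) := by
      rw [hr, hl]; exact ⟨hmem i xi, hp ▸ hmem j xj⟩
    obtain ⟨x, hx⟩ := hmem'
    exact ⟨l, homOfLE hli, homOfLE hlj, x, hinj i ((hpt hli x).trans hx), hinj j ((hpt hlj x).trans (hx.trans hp))⟩⟩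
  have hcS : ∀ ⦃W W' : J⦄ (f : W ⟶ W'),
      D.map f ≫ (A W').hom = (A W).hom ≫ ((Functor.const J).obj S).map f := fun W W' f =>
    (Over.w (m (leOfHom f))).trans (Category.comp_id _).symm
  let cS : Cocone D := { pt := S, ι := { app := fun W => (A W).hom, naturality := hcS } }
  let G : Over S := Over.mk (colimit.desc D cS)
  let c : ∀ W, A W ⟶ G := fun W => Over.homMk (colimit.ι D W) (colimit.ι_desc cS W)
  have hco : ∀ W, IsOpenImmersion (c W).left := fun W => inferInstanceAs (IsOpenImmersion (colimit.ι D W))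
  have hcs : ∀ t : ↥G.left, ∃ W w, (c W).left w = t := Scheme.IsLocallyDirected.ι_jointly_surjective D
  have hmc : ∀ {W W' : J} (hle : W ≤ W'), m hle ≫ c W' = c W := fun hle =>
    Over.OverMorphism.ext (colimit.w D (homOfLE hle))
  have heq : ∀ {W W' : J} (w : ↥(A W).left) (w' : ↥(A W').left), (c W).left w = (c W').left w' →
      Points.ofPt (a W) w = Points.ofPt (a W') w' := fun w w' e => by
    obtain ⟨k, fi, fj, x, rfl, rfl⟩ := (Scheme.IsLocallyDirected.ι_eq_ι_iff D).1 e
    exact (hpt (leOfHom fi) x).trans (hpt (leOfHom fj) x).symm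
  clear_value c G
  -- the two descriptions of overlaps agree
  have key : ∀ {Z : Over S} {W W' : J} (u : Z ⟶ A W) (v : Z ⟶ A W'),
      (∀ z : ↥Z.left, Points.ofPt (a W) (u.left z) = Points.ofPt (a W') (v.left z)) →
      ∃ (W'' : J) (h₁ : W'' ≤ W) (h₂ : W'' ≤ W') (u' v' : Z ⟶ A W''), u' ≫ m h₁ = u ∧ v' ≫ m h₂ = v := by
    intro Z W W' u v huv
    obtain ⟨l, hl⟩ := hinf W W'
    have hli : l ≤ W := show l.1 ≤ W.1 from hl.le.trans inf_le_left
    have hlj : l ≤ W' := show l.1 ≤ W'.1 from hl.le.trans inf_le_right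
    obtain ⟨u', hu'⟩ := hfac (W := l) ((yon S).map u ≫ a W) fun z => by
      rw [ofPt_comp, hl]; exact ⟨hmem W _, huv z ▸ hmem W' _⟩
    obtain ⟨v', hv'⟩ := hfac (W := l) ((yon S).map v ≫ a W') fun z => by
      rw [ofPt_comp, hl]; exact ⟨(huv z).symm ▸ hmem W _, hmem W' _⟩
    exact ⟨l, hli, hlj, u', v', hext (by rw [Functor.map_comp, Category.assoc, hm', hu']),
      hext (by rw [Functor.map_comp, Category.assoc, hm', hv'])⟩
  have hcompat : ∀ ⦃Z : Over S⦄ ⦃W W' : J⦄ (u : Z ⟶ A W) (v : Z ⟶ A W'),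
      u ≫ c W = v ≫ c W' → (yon S).map u ≫ a W = (yon S).map v ≫ a W' := by
    intro Z W W' u v e
    obtain ⟨l, hli, hlj, u', v', hu', hv'⟩ := key u v fun z =>
      heq _ _ (congr(($e).left z))
    have : Mono (c l) := by haveI := hco l; exact Over.mono_of_mono_left _
    have huv : u' = v' := by
      rw [← cancel_mono (c l), ← hmc hli, ← Category.assoc, hu', e, ← hv', Category.assoc, hmc, hmc]
    rw [← hu', ← hv', Functor.map_comp, Functor.map_comp, Category.assoc, Category.assoc, hm', hm', huv]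
  haveI : ∀ W, IsOpenImmersion (c W).left := hco
  obtain ⟨θ, hθ, -⟩ := existsUnique_glue c hcs a hcompat
  have hθpt : ∀ W (w : ↥(A W).left), Points.ofPt θ ((c W).left w) = Points.ofPt (a W) w := fun W w => by
    rw [← ofPt_comp, hθ]
  -- charts pulled back to test schemes
  have hcov : ∀ {Z : Over S} (g : (yon S).obj Z ⟶ X) (z : ↥Z.left),
      ∃ (W : J) (w : ↥(openOver Z (openPre W.1 g)).left), (openOverι Z (openPre W.1 g)).left w = z := by
    intro Z g z
    obtain ⟨A', a', t, ha', ht⟩ := h (Points.ofPt g z)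
    have ho : IsOpen (Set.range (Points.ofPt a')) :=
      (isOpenMap_ofPt (repWith_mono (fun φ (_ : IsOpenImmersion φ) => inferInstanceAs (Etale φ)) ha')).isOpen_range
    exact ⟨⟨⟨_, ho⟩, A', a', ha', rfl⟩, ⟨z, ⟨t, ht⟩⟩, rfl⟩
  refine ⟨G, θ, ?_⟩
  have : Mono θ := mono_of_yon fun Z x y e => by
    obtain ⟨x, rfl⟩ := (yon S).map_surjective x
    obtain ⟨y, rfl⟩ := (yon S).map_surjective y
    congr 1
    -- the opens where both land in given charts
    let V : J × J → Z.left.Opens := fun p => (x.left ⁻¹ᵁ (c p.1).left.opensRange) ⊓ (y.left ⁻¹ᵁ (c p.2).left.opensRange)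
    refine hom_ext_cover' (fun p => openOverι Z (V p)) (fun z => ?_) fun p => ?_
    · obtain ⟨W, w, hw⟩ := hcs (x.left z)
      obtain ⟨W', w', hw'⟩ := hcs (y.left z)
      exact ⟨(W, W'), ⟨z, ⟨w, hw⟩, ⟨w', hw'⟩⟩, rfl⟩
    · obtain ⟨W, W'⟩ := p
      let jV := openOverι Z (V (W, W'))
      obtain ⟨u, hu⟩ : ∃ u : openOver Z (V (W, W')) ⟶ A W, u ≫ c W = jV ≫ x :=
        ⟨Over.homMk (IsOpenImmersion.lift (c W).left (jV ≫ x).left (by rintro _ ⟨z, rfl⟩; exact z.2.1))
          (by rw [← Over.w (c W), IsOpenImmersion.lift_fac_assoc, Over.w (jV ≫ x)]),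
          Over.OverMorphism.ext (IsOpenImmersion.lift_fac _ _ _)⟩
      obtain ⟨v, hv⟩ : ∃ v : openOver Z (V (W, W')) ⟶ A W', v ≫ c W' = jV ≫ y :=
        ⟨Over.homMk (IsOpenImmersion.lift (c W').left (jV ≫ y).left (by rintro _ ⟨z, rfl⟩; exact z.2.2))
          (by rw [← Over.w (c W'), IsOpenImmersion.lift_fac_assoc, Over.w (jV ≫ y)]),
          Over.OverMorphism.ext (IsOpenImmersion.lift_fac _ _ _)⟩
      have he : (yon S).map u ≫ a W = (yon S).map v ≫ a W' := by
        rw [← hθ, ← hθ, ← Functor.map_comp_assoc, ← Functor.map_comp_assoc, hu, hv, Functor.map_comp_assoc,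
          Functor.map_comp_assoc, e]
      obtain ⟨l, hli, hlj, u', v', hu', hv'⟩ := key u v fun z => by rw [← ofPt_comp, ← ofPt_comp, he]
      have huv : u' = v' := hext (by
        rw [← hm' hli, ← Functor.map_comp_assoc, hu', he, ← hv', Functor.map_comp_assoc, hm', hm'])
      show jV ≫ x = jV ≫ y
      rw [← hu, ← hv, ← hu', ← hv', Category.assoc, Category.assoc, hmc, hmc, huv]
  have hlift : ∀ (Z : Over S) (y : (yon S).obj Z ⟶ X), ∃ l, l ≫ θ = y := by
    intro Z y
    choose u hu using fun W : J => hfac (W := W) ((yon S).map (openOverι Z (openPre W.1 y)) ≫ y) fun t => by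
      rw [ofPt_comp]; exact t.2
    obtain ⟨l, hl, -⟩ := existsUnique_glue (T := Z) (fun W : J => openOverι Z (openPre W.1 y)) (hcov y)
      (fun W : J => (yon S).map (u W ≫ c W)) (fun Z' W W' p q e => by
        rw [← cancel_mono θ]
        simp only [Functor.map_comp, Category.assoc, hθ, hu]
        rw [← Functor.map_comp_assoc, e, Functor.map_comp_assoc])
    exact ⟨l, hom_ext_cover (T := Z) (fun W : J => openOverι Z (openPre W.1 y)) (hcov y) fun W => by
      rw [reassoc_of% hl W, Functor.map_comp, Category.assoc, hθ, hu]⟩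
  have : ∀ Z, Function.Bijective (θ.hom.app (op Z)) := fun Z => by
    have hh : ∀ k, θ.hom.app (op Z) ((AlgSp.J S).uliftYonedaEquiv.{u + 1} k) =
        (AlgSp.J S).uliftYonedaEquiv.{u + 1} (k ≫ θ) :=
      fun k => ((AlgSp.J S).uliftYonedaEquiv_comp k θ).symm
    refine ⟨fun x x' hxx => ?_, fun y => ?_⟩
    · obtain ⟨k, rfl⟩ := (AlgSp.J S).uliftYonedaEquiv.{u + 1}.surjective x
      obtain ⟨k', rfl⟩ := (AlgSp.J S).uliftYonedaEquiv.{u + 1}.surjective x'
      rw [hh, hh, Equiv.apply_eq_iff_eq, cancel_mono] at hxx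
      rw [hxx]
    · obtain ⟨y, rfl⟩ := (AlgSp.J S).uliftYonedaEquiv.{u + 1}.surjective y
      obtain ⟨l, hl⟩ := hlift Z y
      exact ⟨_, (hh l).trans (congrArg _ hl)⟩
  have : ∀ Z, IsIso (θ.hom.app Z) := fun Z => (isIso_iff_bijective _).2 (this Z.unop)
  have : IsIso θ.hom := NatIso.isIso_of_isIso_app _
  have : IsIso ((sheafToPresheaf (AlgSp.J S) (Type (u + 1))).map θ) := ‹IsIso θ.hom›
  exact isIso_of_reflects_iso θ (sheafToPresheaf (AlgSp.J S) _)

end Groth.L23.OpenCharts
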