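import Groth.Agent.L23.NilSheaf
import Groth.Agent.L23.OpenCharts
import Groth.Agent.L23.SchemeRep

/-!
# A thickening of a scheme is a scheme
-/

universe u

open CategoryTheory CategoryTheory.Limits AlgebraicGeometry Opposite AlgSp TopologicalSpace

set_option backward.isDefEq.respectTransparency.types false

namespace Groth.L23

variable {S : Scheme.{u}}

/-- The affine case. -/
theorem exists_affine_of_thickening {X' : Sp S} (hX' : IsAlgSpace X') {X : Over S} [IsAffine X.left]
    {i : (yon S).obj X ⟶ X'} (hi : IsThickMor i) :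
    ∃ (A : Over S) (e : X' ⟶ (yon S).obj A), IsAffine A.left ∧ IsIso e :=
  NilSheaf.exists_affine_of_thickening hX' hi

/-- A thickening of a scheme is a scheme. -/
theorem exists_scheme_of_thickening {X' : Sp S} (hX' : IsAlgSpace X') {T : Over S}
    {i : (yon S).obj T ⟶ X'} (hi : IsThickMor i) :
    ∃ (G : Over S) (θ : (yon S).obj G ⟶ X'), IsIso θ := by
  have hh := isHomeomorph_of_isThickMor hX' hi
  refine OpenCharts.exists_scheme_of_open_charts hX' fun x => ?_
  obtain ⟨p, rfl⟩ := hh.surjective x
  obtain ⟨t, rfl⟩ := (Points.schemeEquiv T).surjective p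
  obtain ⟨_, ⟨B, hB, rfl⟩, htB, -⟩ := T.left.isBasis_affineOpens.exists_subset_of_mem_open
    (Set.mem_univ t) isOpen_univ
  let j : (yon S).obj (openOver T B) ⟶ (yon S).obj T := (yon S).map (openOverι T B)
  have hjo : RepWith @IsOpenImmersion j :=
    (repWith_yon_map_iff _ _).2 (inferInstanceAs (IsOpenImmersion (Scheme.Opens.ι B)))
  let W : Opens (Points X') := ⟨Points.map i '' Set.range (Points.map j),
    hh.isOpenMap _ (by
      rw [show Set.range (Points.map j) = Set.range (Points.ofPt j) by
        rw [OpenCharts.ofPt_eq_map, Set.range_comp, (show Function.Surjective (Points.ofScheme (openOver T B)) from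
          (Points.schemeEquiv _).surjective).range_eq, Set.image_univ]]
      exact (isOpenMap_ofPt (repWith_mono (fun φ (_ : IsOpenImmersion φ) => inferInstanceAs (Etale φ)) hjo)).isOpen_range)⟩
  obtain ⟨l, hl⟩ := (exists_factor_iff (repWith_openSubι W) (j ≫ i)).2 (by
    rw [range_openSubι]
    rintro _ ⟨q, rfl⟩
    exact ⟨_, ⟨q, rfl⟩, (Points.map_comp j i q).symm⟩)
  have : Mono j := mono_of_repWith_openImmersion hjo
  have sq : IsPullback j l i (openSubι W) := IsPullback.mk' hl.symm
    (fun R φ φ' h _ => (cancel_mono j).1 h) (fun R x y e => by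
      obtain ⟨g, hg⟩ := (exists_factor_iff hjo x).2 (by
        rintro _ ⟨q, rfl⟩
        have h1 : Points.map i (Points.map x q) ∈ Set.range (Points.map (openSubι W)) :=
          ⟨Points.map y q, by rw [← Points.map_comp, ← Points.map_comp, e]⟩
        rw [range_openSubι] at h1
        obtain ⟨r, hr, hr'⟩ := h1
        rwa [← hh.injective hr'])
      exact ⟨g, hg, (cancel_mono (openSubι W)).1 (by rw [Category.assoc, hl, reassoc_of% hg, e])⟩)
  haveI : IsAffine (openOver T B).left := hB
  obtain ⟨A, e, -, he⟩ := exists_affine_of_thickening (isAlgSpace_openSub W hX') (repWith_of_isPullback sq hi)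
  have hW : Points.map i (Points.ofScheme T t) ∈ W :=
    ⟨_, ⟨Points.ofScheme (openOver T B) ⟨t, htB⟩, by
      rw [← Points.ofPt_eq_map_ofScheme, ofPt_map]; rfl⟩, rfl⟩
  rw [← SetLike.mem_coe, ← range_openSubι W] at hW
  obtain ⟨w, hw⟩ := hW
  obtain ⟨a, ha⟩ := (Points.schemeEquiv A).surjective (Points.map e w)
  refine ⟨A, inv e ≫ openSubι W, a, MorphismProperty.RespectsIso.precomp _ _ _ (repWith_openSubι W), ?_⟩
  show Points.ofPt _ a = Points.map i (Points.ofScheme T t)
  rw [Points.ofPt_eq_map_ofScheme, ← hw, Points.map_comp]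
  congr 1
  rw [show Points.ofScheme A a = Points.map e w from ha, ← Points.map_comp, IsIso.hom_inv_id, Points.map_id]

end Groth.L23

namespace Groth.L23

variable {S : Scheme.{u}}

/-- A closed subspace with the same points is a thickening. -/
lemma isThickMor_of_surjective {F G : Sp S} {i : F ⟶ G} (h : RepWith @IsClosedImmersion i)
    (hs : Function.Surjective (Points.map i)) : IsThickMor i :=
  repWith_of_snd h.1 fun _ g => ⟨repWith_snd h g, repWith_snd (repWith_surjective_of_map h.1 hs) g⟩

/-- A sheaf with a scheme as closed subspace with the same points is a scheme. -/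
lemma isRepresentable_of_thickening {X Z : Sp S} (hX : IsAlgSpace X) {i : Z ⟶ X} (hi : IsThickMor i)
    (hZ : Z.obj.IsRepresentable) : X.obj.IsRepresentable := by
  obtain ⟨T, ⟨e⟩⟩ := isRepresentable_iff_exists_iso.1 hZ
  obtain ⟨G, θ, hθ⟩ := exists_scheme_of_thickening hX
    (MorphismProperty.RespectsIso.precomp (RepWith thick) e.hom i hi)
  exact isRepresentable_iff_exists_iso.2 ⟨G, ⟨asIso θ⟩⟩

end Groth.L23
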