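import Groth.Agent.L23.SpaceFibre
import Groth.Agent.L23.QFDescent
import Groth.Agent.L23.AffineMor
import Groth.Prelude.Def_AlgSpCov
import Mathlib.AlgebraicGeometry.Morphisms.LocalFlatDescent

/-!
# Fpqc locality on the base for morphisms of algebraic spaces
-/

universe u

open CategoryTheory CategoryTheory.Limits AlgebraicGeometry AlgSp Opposite

set_option backward.isDefEq.respectTransparency.types false

namespace Groth.L23

/-- `P` holds over an affine scheme if it holds over the members of a finite affine flat covering. -/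
theorem prop_of_fpqc_family {P : MorphismProperty Scheme.{u}} [P.IsStableUnderBaseChange]
    [IsZariskiLocalAtTarget P] [P.DescendsAlong (@Surjective ⊓ @Flat ⊓ @QuasiCompact)]
    {X Z : Scheme.{u}} (f : X ⟶ Z) [IsAffine Z] {J : Type u} [Finite J] (A : J → Scheme.{u})
    (e : ∀ j, A j ⟶ Z) (hA : ∀ j, IsAffine (A j)) (he : ∀ j, Flat (e j))
    (hs : ∀ z : Z, ∃ j, z ∈ Set.range (e j)) (h : ∀ j, P (pullback.snd f (e j))) : P f := by
  let π : ∐ A ⟶ Z := Sigma.desc e
  have := hA
  have hι : ∀ j, (sigmaOpenCover A).f j ≫ π = e j := fun j => Sigma.ι_desc _ _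
  have hπ : (@Surjective ⊓ @Flat ⊓ @QuasiCompact : MorphismProperty Scheme.{u}) π := by
    refine ⟨⟨⟨fun z => ?_⟩, ?_⟩, inferInstance⟩
    · obtain ⟨j, a, rfl⟩ := hs z
      exact ⟨(sigmaOpenCover A).f j a, by rw [← Scheme.Hom.comp_apply, hι]; rfl⟩
    · exact IsZariskiLocalAtSource.of_openCover (P := @Flat) (sigmaOpenCover A) fun j => by
        rw [hι]; exact he j
  refine MorphismProperty.of_pullback_snd_of_descendsAlong
    (Q := (@Surjective ⊓ @Flat ⊓ @QuasiCompact : MorphismProperty Scheme.{u})) (g := π) hπ ?_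
  refine IsZariskiLocalAtTarget.of_openCover (P := P) (sigmaOpenCover A) fun j => ?_
  change P (pullback.snd (pullback.snd f π) ((sigmaOpenCover A).f j))
  rw [← pullbackLeftPullbackSndIso_hom_snd, P.cancel_left_of_respectsIso]
  exact tr _ _ (hι j).symm (h j)
where
  tr {P : MorphismProperty Scheme.{u}} {X Y W : Scheme.{u}} {f : X ⟶ Y} (g g' : W ⟶ Y)
      (e : g = g') (h : P (pullback.snd f g)) : P (pullback.snd f g') := by
    subst e; exact h

variable {S : Scheme.{u}}

/-- An fpqc covering is refined over an affine scheme by finitely many affine schemes. -/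
theorem exists_fpqc_affine_family {ι : Type u} {Y : Sp S} {Yi : ι → Sp S} {g : ∀ i, Yi i ⟶ Y}
    (hcov : IsFpqcCover Yi g) {Z : Over S} [IsAffine Z.left] (k : (yon S).obj Z ⟶ Y) :
    ∃ (J : Type u) (_ : Finite J) (A : J → Over S) (e : ∀ j, A j ⟶ Z) (i : J → ι)
      (l : ∀ j, (yon S).obj (A j) ⟶ Yi (i j)),
      (∀ j, IsAffine (A j).left) ∧ (∀ j, Flat (e j).left) ∧
      (∀ j, l j ≫ g (i j) = (yon S).map (e j) ≫ k) ∧ ∀ t : ↥Z.left, ∃ j, t ∈ Set.range (e j).left := by
  obtain ⟨m, W, c, hW, hc, hcs, hl⟩ := hcov.2 Z ‹_› k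
  choose i l hl using hl
  refine ⟨ULift.{u} (Fin m), inferInstance, fun j => W j.down, fun j => c j.down, fun j => i j.down,
    fun j => l j.down, fun j => hW _, fun j => hc _, fun j => hl _, fun t => ?_⟩
  obtain ⟨j, hj⟩ := hcs t
  exact ⟨⟨j⟩, hj⟩

/-- Properties read on charts are fpqc local on the base. -/
theorem isLocalOnBase_fpqc_locP {P : MorphismProperty Scheme.{u}} (hP : EtLocal P)
    [IsZariskiLocalAtTarget P] [P.DescendsAlong (@Surjective ⊓ @Flat ⊓ @QuasiCompact)] :
    IsLocalOnBase (IsFpqcCover (S := S)) (LocP P) := by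
  intro ι Y Yi g hY hYi hcov X f hX Xi p q hXi sq
  refine ⟨fun hf i => locP_of_isPullback hP hX hY (hYi i) (sq i) hf, fun h => ?_⟩
  have := hP.stable
  obtain ⟨U, V, a, b, k, ha, has, hb, hbs, w⟩ := exists_chart hX hY f
  refine locP_of_chart hP ha has hb w ?_
  refine IsZariskiLocalAtTarget.of_openCover (P := P) V.left.affineCover fun n => ?_
  let Z : Over S := Over.mk (V.left.affineCover.f n ≫ V.hom)
  let o : Z ⟶ V := Over.homMk (V.left.affineCover.f n) rfl
  have : IsAffine Z.left := inferInstanceAs (IsAffine (V.left.affineCover.X n))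
  obtain ⟨J, hJ, A, e, i, l, hA, he, hl, hs⟩ := exists_fpqc_affine_family hcov ((yon S).map o ≫ b)
  refine prop_of_fpqc_family (pullback.snd k.left o.left) (fun j => (A j).left) (fun j => (e j).left) hA he hs
    fun j => ?_
  rw [← pullbackLeftPullbackSndIso_hom_snd, P.cancel_left_of_respectsIso]
  have sqQ : IsPullback (pullback.fst (p (i j)) (l j) ≫ q (i j)) (pullback.snd (p (i j)) (l j)) f
      ((yon S).map (e j ≫ o) ≫ b) := by
    have := (IsPullback.of_hasPullback (p (i j)) (l j)).paste_horiz (sq (i j))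
    rwa [hl, ← Functor.map_comp_assoc] at this
  have sqU := IsPullback.of_hasPullback k (e j ≫ o)
  have hLQ : LocP P (pullback.snd (p (i j)) (l j)) :=
    locP_of_isPullback hP (hXi _) (hYi _) (IsAlgSpace.yon_obj _) (IsPullback.of_hasPullback _ _) (h (i j))
  have hh : P (pullback.snd k (e j ≫ o)).left := hLQ _ (𝟙 _) _ (repWith_etale_lift ha hb w sqU sqQ)
    (repWith_of_isIso _) (by rw [Category.comp_id]; exact sqQ.lift_snd _ _ _)
  have sq' := sqU.map (Over.forget S)
  show P (pullback.snd ((Over.forget S).map k) ((Over.forget S).map (e j ≫ o)))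
  rw [← P.cancel_left_of_respectsIso sq'.isoPullback.hom]
  exact sq'.isoPullback_hom_snd.symm ▸ hh

end Groth.L23

namespace Groth.L23

instance fpqc_descendsAlong_inf {C : Type*} [Category C] (P P' Q : MorphismProperty C) [P.DescendsAlong Q]
    [P'.DescendsAlong Q] : (P ⊓ P').DescendsAlong Q where
  of_isPullback h hf hg := ⟨MorphismProperty.of_isPullback_of_descendsAlong (Q := Q) h hf hg.1,
    MorphismProperty.of_isPullback_of_descendsAlong (Q := Q) h hf hg.2⟩

instance fpqc_zariskiTarget_inf (P P' : MorphismProperty Scheme.{u}) [IsZariskiLocalAtTarget P]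
    [IsZariskiLocalAtTarget P'] : IsZariskiLocalAtTarget (P ⊓ P') :=
  IsZariskiLocalAtTarget.mk' (fun _ U hf => ⟨IsZariskiLocalAtTarget.restrict hf.1 U,
      IsZariskiLocalAtTarget.restrict hf.2 U⟩)
    (fun _ _ U hU h => ⟨IsZariskiLocalAtTarget.of_iSup_eq_top U hU fun i => (h i).1,
      IsZariskiLocalAtTarget.of_iSup_eq_top U hU fun i => (h i).2⟩)

/-- `IsLocalOnBase` only depends on the values of the property at morphisms of algebraic spaces. -/
theorem isLocalOnBase_congr {S : Scheme.{u}} {C : CovNotion S} {P P' : MorphismProperty (Sp S)}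
    (h : ∀ {X Y : Sp S} (f : X ⟶ Y), IsAlgSpace X → IsAlgSpace Y → (P f ↔ P' f))
    (hP : IsLocalOnBase C P') : IsLocalOnBase C P := by
  intro ι Y Yi g hY hYi hcov X f hX Xi p q hXi sq
  exact (h f hX hY).trans ((hP Yi g hY hYi hcov f hX Xi p q hXi sq).trans
    (forall_congr' fun i => (h (p i) (hXi i) (hYi i)).symm))

end Groth.L23
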