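import Groth.Agent.L23.NormZMT

/-!
# The quasi-finite locus in the normalization
-/

universe u

open CategoryTheory CategoryTheory.Limits AlgebraicGeometry Opposite AlgSp

set_option backward.isDefEq.respectTransparency.types false

namespace Groth.L23.Norm

variable {S : Scheme.{u}}

/-- Jointly surjective etale families cover. -/
theorem etale_family_mem_J {T : Over S} {ι : Type*} {U : ι → Over S} (g : ∀ i, U i ⟶ T)
    (hg : ∀ i, Etale (g i).left) (hs : ∀ t : ↥T.left, ∃ i u, (g i).left u = t) :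
    Sieve.ofArrows U g ∈ J S T := by
  rw [GrothendieckTopology.mem_over_iff]
  choose i u hu using hs
  let 𝒰 : Scheme.Cover.{u} Scheme.fppfPrecoverage.{u} T.left := Scheme.Cover.mkOfCovers T.left
    (fun t => (U (i t)).left) (fun t => (g (i t)).left) (fun t => ⟨t, u t, hu t⟩)
    (fun t => have := hg (i t)
      ⟨inferInstanceAs (Flat (g (i t)).left), inferInstanceAs (LocallyOfFinitePresentation (g (i t)).left)⟩)
  refine GrothendieckTopology.superset_covering _ ?_
    (Precoverage.generate_mem_toGrothendieck 𝒰.mem₀)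
  rintro W v ⟨Z, a, _, ⟨t⟩, rfl⟩
  refine (Sieve.overEquiv_iff (Y := T) _ _).2 ?_
  refine ⟨U (i t), Over.homMk a (by
    show a ≫ (U (i t)).hom = (a ≫ (g (i t)).left) ≫ T.hom
    rw [Category.assoc]
    exact congrArg _ (Over.w (g (i t))).symm), g (i t), ⟨i t⟩, ?_⟩
  exact Over.OverMorphism.ext rfl

variable {X G X' : Sp S}

set_option maxHeartbeats 800000 in
/-- The quasi-finite locus is an open piece of the normalization. -/
theorem exists_qf_open (hX : IsAlgSpace X) (hG : IsAlgSpace G) (hX' : IsAlgSpace X') {f : X ⟶ G} {ν : X' ⟶ G}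
    {f' : X ⟶ X'} (hloc : IsLocNorm f ν f') (hqc : IsQuasiCompactMor f) (hsep : IsSeparatedMor f) :
    ∃ W : TopologicalSpace.Opens (Points X'), ∀ (P : Sp S) (fst : P ⟶ X) (snd : P ⟶ openSub W),
      IsPullback fst snd f' (openSubι W) → IsIso snd ∧
        Set.range (Points.map fst) = {x | HasAtMor qfAt f x} := by
  let W : TopologicalSpace.Opens (Points X') := ⟨{y | ∃ (D : Over S) (a : (yon S).obj D ⟶ X) (d : (yon S).obj D ⟶ X'),
      RepWith @Etale d ∧ IsPullback a (𝟙 _) f' d ∧ (∀ z, HasAtMor qfAt f (Points.ofPt a z)) ∧ y ∈ Set.range (Points.ofPt d)}, by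
    refine isOpen_iff_forall_mem_open.2 ?_
    rintro y ⟨D, a, d, hd, sd, hq, hy⟩
    exact ⟨Set.range (Points.ofPt d), fun y' hy' => ⟨D, a, d, hd, sd, hq, hy'⟩,
      (isOpenMap_ofPt hd).isOpen_range, hy⟩⟩
  have hlift : ∀ {Z : Over S} (y : (yon S).obj Z ⟶ X'), (∀ t, Points.ofPt y t ∈ W) →
      ∃! x : (yon S).obj Z ⟶ X, x ≫ f' = y := by
    intro Z y hy
    choose D a d hd sd hq hr using hy
    choose z hz using hr
    have hQ : ∀ t, ∃ (Q : Over S) (e : Q ⟶ D t) (g : Q ⟶ Z), IsPullback ((yon S).map e) ((yon S).map g) (d t) y :=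
      fun t => exists_isPullback_of_representable (hd t).1 y
    choose Q e g sQ using hQ
    have hge : ∀ t, Etale (g t).left := fun t => repWith_prop (hd t) (sQ t)
    have hgs : ∀ t : Z.left, ∃ i u, (g i).left u = t := fun t => by
      obtain ⟨v, -, hv⟩ := exists_point_of_isPullback (sQ t) ((Points.ofPt_eq_map_ofScheme (d t) (z t)).symm.trans (hz t))
      exact ⟨t, v, hv⟩
    have hR := etale_family_mem_J g hge hgs
    have huniq : ∀ {Z' : Over S} (t : Z.left) (k : Z' ⟶ Q t) (x : (yon S).obj Z' ⟶ X),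
        x ≫ f' = (yon S).map (k ≫ g t) ≫ y → x = (yon S).map (k ≫ e t) ≫ a t := by
      intro Z' t k x hx
      obtain ⟨l, hl₁, hl₂⟩ := (sd t).exists_lift x ((yon S).map (k ≫ e t))
        (by rw [hx, Functor.map_comp_assoc, Functor.map_comp_assoc, (sQ t).w])
      rw [Category.comp_id] at hl₂
      rw [← hl₁, hl₂]
    have hex : ∀ {Z' : Over S} (w : Z' ⟶ Z), Sieve.ofArrows Q g w →
        ∃! x : (yon S).obj Z' ⟶ X, x ≫ f' = (yon S).map w ≫ y := by
      rintro Z' w ⟨Y, k, _, ⟨t⟩, rfl⟩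
      refine ⟨(yon S).map (k ≫ e t) ≫ a t, ?_, fun x hx => huniq t k x hx⟩
      show ((yon S).map (k ≫ e t) ≫ a t) ≫ f' = (yon S).map (k ≫ g t) ≫ y
      rw [Category.assoc, (sd t).w, Category.id_comp, Functor.map_comp_assoc, (sQ t).w, ← Functor.map_comp_assoc]
    choose xv hxv hxu using @hex
    obtain ⟨x, hx, -⟩ := UHPush.existsUnique_glueSieve hR (fun Z' w hw => xv w hw)
      fun Z₁ Z₂ w hw k => hxu _ _ _ (by
        show ((yon S).map k ≫ xv w hw) ≫ f' = _
        rw [Category.assoc, hxv, ← Functor.map_comp_assoc])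
    refine ⟨x, UHPush.hom_ext_sieve hR fun Z' w hw => by rw [← Category.assoc, hx w hw, hxv],
      fun x' hx' => UHPush.hom_ext_sieve hR fun Z' w hw => ?_⟩
    rw [hx w hw]
    exact hxu _ _ _ (by show ((yon S).map w ≫ x') ≫ f' = _; rw [Category.assoc, hx'])
  refine ⟨W, fun P fst snd sP => ⟨UHPush.isIso_of_yon snd (fun Z l l' hll => sP.hom_ext ?_ hll) fun Z y => ?_, ?_⟩⟩
  · have hy := (exists_factor_openSub_iff W (l ≫ snd ≫ openSubι W)).1 ⟨l ≫ snd, by rw [Category.assoc]⟩
    exact (hlift _ hy).unique (by rw [Category.assoc, sP.w]) (by rw [Category.assoc, sP.w, reassoc_of% hll])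
  · obtain ⟨x, hx, -⟩ := hlift _ ((exists_factor_openSub_iff W (y ≫ openSubι W)).1 ⟨y, rfl⟩)
    obtain ⟨l, -, hl⟩ := sP.exists_lift x y hx
    exact ⟨l, hl⟩
  · ext x
    constructor
    · rintro ⟨p, rfl⟩
      have hW : Points.map f' (Points.map fst p) ∈ W := by
        rw [← Points.map_comp, sP.w, Points.map_comp]
        exact (range_openSubι W).le ⟨_, rfl⟩
      obtain ⟨D, a, d, -, sd, hq, z, hz⟩ := hW
      obtain ⟨p', hp₁, hp₂⟩ := exists_of_isPullback sd (Points.map fst p) (Points.ofScheme D z)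
        (hz.symm.trans (Points.ofPt_eq_map_ofScheme d z))
      rw [Points.map_id] at hp₂
      rw [← hp₁, hp₂, ← Points.ofPt_eq_map_ofScheme]
      exact hq z
    · intro hx
      obtain ⟨D, a, d, -, hd, sd, ⟨z, rfl⟩, hq⟩ := exists_qf_chart hX hG hloc hqc hsep hx
      have hW : Points.map f' (Points.ofPt a z) ∈ W :=
        ⟨D, a, d, hd, sd, hq, z, by rw [Points.map_ofPt, sd.w, Category.id_comp]⟩
      obtain ⟨y, hy⟩ := (range_openSubι W).ge hW
      obtain ⟨p, hp, -⟩ := exists_of_isPullback sP (Points.ofPt a z) y hy.symm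
      exact ⟨p, hp⟩

/-- The normalization map of a separated quasi-finite morphism is an open immersion. -/
theorem isOpenImmersion_of_qf (hX : IsAlgSpace X) (hG : IsAlgSpace G) (hX' : IsAlgSpace X') {f : X ⟶ G}
    {ν : X' ⟶ G} {f' : X ⟶ X'} (hloc : IsLocNorm f ν f') (hqc : IsQuasiCompactMor f) (hsep : IsSeparatedMor f)
    (hqf : LocP (@LocallyQuasiFinite ⊓ @LocallyOfFiniteType) f) : RepWith @IsOpenImmersion f' := by
  obtain ⟨W, hW⟩ := exists_qf_open hX hG hX' hloc hqc hsep
  have sP := IsPullback.of_hasPullback f' (openSubι W)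
  obtain ⟨hiso, hrange⟩ := hW _ _ _ sP
  have hfst := repWith_of_isPullback sP.flip (repWith_openSubι W)
  have : IsIso (pullback.fst f' (openSubι W)) := isIso_of_openImmersion_surjective hfst fun x => by
    have hx : x ∈ Set.range (Points.map (pullback.fst f' (openSubι W))) := by
      rw [hrange]
      obtain ⟨U, V, a, b, h, ha, has, hb, hbs, w⟩ := exists_chart hX hG f
      obtain ⟨z, rfl⟩ := surjective_ofPt has x
      obtain ⟨h₁, h₂⟩ := hqf a b h ha hb w
      refine ⟨U, V, a, b, h, z, ha, hb, w, rfl, ⊤, trivial, ?_, ?_⟩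
      · have := h₁; infer_instance
      · have := h₂; infer_instance
    exact hx
  rw [← IsIso.inv_hom_id_assoc (pullback.fst f' (openSubι W)) f', sP.w]
  exact repWith_comp (repWith_of_isIso _) (repWith_comp (repWith_of_isIso _) (repWith_openSubι W))

/-- Separated quasi-finite morphisms are quasi-affine. -/
theorem isQuasiAffineMor_of_qf (hX : IsAlgSpace X) (hG : IsAlgSpace G) {f : X ⟶ G}
    (hqf : LocP (@LocallyQuasiFinite ⊓ @LocallyOfFiniteType) f) (hqc : IsQuasiCompactMor f)
    (hsep : IsSeparatedMor f) : IsQuasiAffineMor f := by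
  intro Z hZ g
  have : IsAffine Z.left := hZ
  have sq := IsPullback.of_hasPullback f g
  have hP : IsAlgSpace (pullback f g) := isAlgSpace_of_isPullback hG.diag hX (IsAlgSpace.yon_obj Z) sq
  obtain ⟨D, s, a, ha, has⟩ := exists_affine_atlas
    (hqc (IsAlgSpace.yon_obj Z) isQuasiCompactSp_of_compactSpace g _ _ sq)
  have : IsAffine (Over.mk s).left := inferInstanceAs (IsAffine (Spec D))
  obtain ⟨W, θ, hθ, hW⟩ := Lqf.exists_quasiAffine_of_lqf hP (pullback.snd f g) (separated_of_isPullback sq hsep)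
    (locP_of_isPullback etLocal_lqfLft hX hG (IsAlgSpace.yon_obj Z) sq hqf) a ha has
  obtain ⟨i, hi⟩ := (yon S).map_surjective (θ ≫ pullback.snd f g)
  exact ⟨W, i, θ ≫ pullback.fst f g, sq.of_iso (asIso θ).symm (Iso.refl _) (Iso.refl _) (Iso.refl _)
    (by simp) (by simp [hi]) (by simp) (by simp), hW⟩

end Groth.L23.Norm
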