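import Groth.Agent.L23.FppfSmooth
import Groth.Agent.L24.Alg.SpaceSource

/-!
# Smooth and etale morphisms of algebraic spaces descend along fppf coverings of the source
-/

universe u

open CategoryTheory CategoryTheory.Limits AlgebraicGeometry AlgSp Opposite Topology

set_option backward.isDefEq.respectTransparency.types false

namespace Groth.L23

variable {S : Scheme.{u}}

/-- Descent of a property read on charts along a flat surjection locally of finite presentation. -/
theorem locP_of_fppf_comp {P : MorphismProperty Scheme.{u}} (hP : EtLocal P)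
    (hdesc : ∀ {W X Z : Scheme.{u}} (χ : W ⟶ X) (k : X ⟶ Z) [Flat χ] [LocallyOfFinitePresentation χ]
      [Surjective χ], P (χ ≫ k) → P k)
    {X Y B : Sp S} (hX : IsAlgSpace X) (hY : IsAlgSpace Y) (hB : IsAlgSpace B) {f : X ⟶ Y} {q : Y ⟶ B}
    (hs : Function.Surjective (Points.map f)) (hfl : LocP @Flat f) (hfp : LocP @LocallyOfFinitePresentation f)
    (h : LocP P (f ≫ q)) : LocP P q := by
  obtain ⟨V, W, b, c, k, hb, hbs, hc, -, w⟩ := exists_chart hY hB q
  refine locP_of_chart hP hb hbs hc w ?_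
  have sq := IsPullback.of_hasPullback f b
  have hQ : IsAlgSpace (pullback f b) := isAlgSpace_of_isPullback hY.diag hX (IsAlgSpace.yon_obj V) sq
  obtain ⟨U, d, hd, hds⟩ := hQ.atlas
  obtain ⟨m, hm⟩ := (yon S).map_surjective (d ≫ pullback.snd f b)
  have ha : RepWith @Etale (d ≫ pullback.fst f b) :=
    repWith_comp hd (repWith_of_isPullback sq.flip hb)
  have w' : (d ≫ pullback.fst f b) ≫ f = (yon S).map m ≫ b := by
    rw [hm, Category.assoc, Category.assoc, pullback.condition]
  have : Flat m.left := hfl _ b m ha hb w'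
  have : LocallyOfFinitePresentation m.left := hfp _ b m ha hb w'
  have : Surjective m.left := ⟨fun v => by
    obtain ⟨x, hx⟩ := hs (Points.ofPt b v)
    obtain ⟨z, -, hz⟩ := exists_of_isPullback sq x (Points.ofScheme V v)
      (hx.trans (Points.ofPt_eq_map_ofScheme b v))
    obtain ⟨u, rfl⟩ := surjective_ofPt hds z
    refine ⟨u, ?_⟩
    apply (Points.schemeEquiv V).injective
    change Points.ofScheme V (m.left u) = Points.ofScheme V v
    rw [← ofPt_map, hm, ← Points.map_ofPt]
    exact hz⟩
  refine hdesc m.left k.left ?_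
  rw [← Over.comp_left]
  refine h (d ≫ pullback.fst f b) c (m ≫ k) ha hc ?_
  rw [← Category.assoc, w', Category.assoc, w, Functor.map_comp, Category.assoc]

/-- Smoothness is local on the source for smooth coverings. -/
theorem isLocalAtSource_smooth_smooth :
    MorphismProperty.IsLocalAtSource (@Smooth : MorphismProperty Scheme.{u}) (Scheme.precoverage @Smooth) := by
  refine MorphismProperty.IsLocalAtSource.mk_of_iff fun {X Y} f R hR => ?_
  obtain ⟨𝒰, rfl⟩ := R.exists_eq_preZeroHypercover
  obtain ⟨hs, hP⟩ := (Scheme.ofArrows_mem_precoverage_iff _).1 hR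
  constructor
  · rintro h _ _ ⟨i⟩
    exact MorphismProperty.comp_mem _ _ _ (hP i) h
  · intro h
    choose i hi using hs
    let π : ∐ (fun x : X => 𝒰.X (i x)) ⟶ X := Sigma.desc fun x => 𝒰.f (i x)
    have h1 : Smooth π := IsZariskiLocalAtSource.sigmaDesc fun x => hP (i x)
    have h3 : Surjective π := ⟨fun x => by
      obtain ⟨w, hw⟩ := hi x
      exact ⟨Sigma.ι (fun x : X => 𝒰.X (i x)) x w, by rw [← Scheme.Hom.comp_apply, Sigma.ι_desc, hw]⟩⟩
    refine FppfSmooth.smooth_of_fppf_comp π f ?_
    rw [show π ≫ f = Sigma.desc fun x => 𝒰.f (i x) ≫ f from by ext x; simp [π]]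
    exact IsZariskiLocalAtSource.sigmaDesc fun x => h ⟨i x⟩

theorem isLocalOnSource_smooth_locP_smooth : IsLocalOnSource (IsSmCover (S := S)) (LocP @Smooth) :=
  Groth.L24.Alg.isLocalOnSource_smooth isLocalAtSource_smooth_smooth

variable {X Y B : Sp S} (hX : IsAlgSpace X) (hY : IsAlgSpace Y) (hB : IsAlgSpace B) {f : X ⟶ Y} {q : Y ⟶ B}
  (hs : Function.Surjective (Points.map f)) (hfl : LocP @Flat f) (hfp : LocP @LocallyOfFinitePresentation f)
include hX hY hB hs hfl hfp

theorem lfp_of_fppf_comp (h : LocP @LocallyOfFinitePresentation (f ≫ q)) : LocP @LocallyOfFinitePresentation q :=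
  locP_of_fppf_comp etLocal_lfp (fun χ k _ _ _ h => Groth.L24.Alg.locallyOfFinitePresentation_of_fppf_comp χ k h)
    hX hY hB hs hfl hfp h

theorem lft_of_fppf_comp (h : LocP @LocallyOfFiniteType (f ≫ q)) : LocP @LocallyOfFiniteType q :=
  locP_of_fppf_comp etLocal_lft (fun χ k _ _ _ h => Groth.L24.Alg.locallyOfFiniteType_of_fppf_comp χ k h)
    hX hY hB hs hfl hfp h

theorem smooth_locP_of_fppf_comp (h : LocP @Smooth (f ≫ q)) : LocP @Smooth q :=
  locP_of_fppf_comp etLocal_smooth (fun χ k _ _ _ h => FppfSmooth.smooth_of_fppf_comp χ k h)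
    hX hY hB hs hfl hfp h

theorem isEtaleMor_of_fppf_comp (h : IsEtaleMor (f ≫ q)) : IsEtaleMor q :=
  (isEtaleMor_iff_locP hY hB q).2 (locP_of_fppf_comp etLocal_etale
    (fun χ k _ _ _ h => FppfSmooth.etale_of_fppf_comp χ k h) hX hY hB hs hfl hfp
    ((isEtaleMor_iff_locP hX hB _).1 h))

end Groth.L23
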