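import Groth.Prelude.Def_AlgSpRep
import Groth.Agent.L23.AlgSpace

/-!
# Presheaves over a sheaf with sheaf fibre products
-/

universe u

open CategoryTheory CategoryTheory.Limits AlgebraicGeometry Opposite AlgSp

namespace Groth.L23

variable {S : Scheme.{u}}

lemma pullback_ext {F G Y Z : PSp S} {fst : Z ⟶ F} {snd : Z ⟶ Y} {a : F ⟶ G} {b : Y ⟶ G}
    (sq : IsPullback fst snd a b) {T : (Over S)ᵒᵖ} {z z' : Z.obj T}
    (h₁ : fst.app T z = fst.app T z') (h₂ : snd.app T z = snd.app T z') : z = z' :=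
  Types.ext_of_isPullback (sq.map ((evaluation _ _).obj T)) h₁ h₂

lemma pullback_exists {F G Y Z : PSp S} {fst : Z ⟶ F} {snd : Z ⟶ Y} {a : F ⟶ G} {b : Y ⟶ G}
    (sq : IsPullback fst snd a b) {T : (Over S)ᵒᵖ} (x : F.obj T) (y : Y.obj T)
    (h : a.app T x = b.app T y) : ∃ z : Z.obj T, fst.app T z = x ∧ snd.app T z = y :=
  Types.exists_of_isPullback (sq.map ((evaluation _ _).obj T)) x y h

/-- A presheaf over a sheaf whose fibre products with representables are sheaves is a sheaf. -/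
theorem isSheaf_of_pullbacks {F G : PSp S} (a : F ⟶ G) (hG : Presheaf.IsSheaf (J S) G)
    (h : ∀ (T : Over S) (ξ : (pyon S).obj T ⟶ G), ∃ (Z : PSp S) (fst : Z ⟶ F)
      (snd : Z ⟶ (pyon S).obj T), IsPullback fst snd a ξ ∧ Presheaf.IsSheaf (J S) Z) :
    Presheaf.IsSheaf (J S) F := by
  rw [isSheaf_iff_isSheaf_of_type] at hG ⊢
  intro T R hR x hx
  have hGx := hG R hR
  let xG : Presieve.FamilyOfElements G R.arrows := fun Y f hf => a.app _ (x f hf)
  have hxG : xG.Compatible := by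
    intro Y₁ Y₂ W g₁ g₂ f₁ f₂ hf₁ hf₂ e
    change G.map g₁.op (a.app _ _) = G.map g₂.op (a.app _ _)
    rw [← NatTrans.naturality_apply, ← NatTrans.naturality_apply, hx g₁ g₂ hf₁ hf₂ e]
  obtain ⟨y, hy, -⟩ := hGx xG hxG
  obtain ⟨Z, fst, snd, sq, hZ⟩ := h T (uliftYonedaEquiv.{u + 1}.symm y)
  rw [isSheaf_iff_isSheaf_of_type] at hZ
  have hsec : ∀ ⦃Y : Over S⦄ (f : Y ⟶ T) (hf : R.arrows f),
      a.app (op Y) (x f hf) = (uliftYonedaEquiv.{u + 1}.symm y).app (op Y) ⟨f⟩ := fun Y f hf => by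
    rw [uliftYonedaEquiv_symm_apply_app]
    exact (hy f hf).symm
  choose z hz₁ hz₂ using fun (Y : Over S) (f : Y ⟶ T) (hf : R.arrows f) =>
    pullback_exists sq (x f hf) ⟨f⟩ (hsec f hf)
  let zf : Presieve.FamilyOfElements Z R.arrows := fun Y f hf => z Y f hf
  have hzf : zf.Compatible := by
    intro Y₁ Y₂ W g₁ g₂ f₁ f₂ hf₁ hf₂ e
    apply pullback_ext sq
    · rw [NatTrans.naturality_apply, NatTrans.naturality_apply, hz₁, hz₁]
      exact hx g₁ g₂ hf₁ hf₂ e
    · rw [NatTrans.naturality_apply, NatTrans.naturality_apply, hz₂, hz₂]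
      exact congrArg ULift.up e
  obtain ⟨w, hw, hw'⟩ := hZ R hR zf hzf
  have hsep := hG.isSeparated R hR
  refine ⟨fst.app _ w, fun Y f hf => ?_, fun t ht => ?_⟩
  · rw [← NatTrans.naturality_apply, hw f hf]
    exact hz₁ Y f hf
  · have hat : a.app _ t = y := hsep.ext fun Y f hf => by
      rw [← NatTrans.naturality_apply, ht f hf]
      exact (hy f hf).symm
    obtain ⟨v, hv₁, hv₂⟩ := pullback_exists sq t ⟨𝟙 T⟩ (by
      rw [uliftYonedaEquiv_symm_apply_app, hat]; simp)
    rw [← hv₁]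
    refine congrArg _ (hw' v fun Y f hf => pullback_ext sq ?_ ?_)
    · rw [NatTrans.naturality_apply, hv₁, ht f hf]
      exact (hz₁ Y f hf).symm
    · rw [NatTrans.naturality_apply, hv₂, hz₂]
      exact congrArg ULift.up (Category.comp_id f)

theorem isSheaf_of_repBySp {F G : PSp S} (a : F ⟶ G) (ha : RepBySp a)
    (hG : Presheaf.IsSheaf (J S) G) : Presheaf.IsSheaf (J S) F :=
  isSheaf_of_pullbacks a hG fun T ξ => by
    obtain ⟨h, -⟩ := ha ξ (pullback.fst a ξ) (pullback.snd a ξ) (IsPullback.of_hasPullback a ξ)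
    exact ⟨_, _, _, IsPullback.of_hasPullback a ξ, h⟩

theorem isSheaf_of_relativelyRepresentable {F G : PSp S} (a : F ⟶ G)
    (ha : (pyon S).relativelyRepresentable a) (hG : Presheaf.IsSheaf (J S) G) :
    Presheaf.IsSheaf (J S) F :=
  isSheaf_of_pullbacks a hG fun T ξ => by
    obtain ⟨V, snd, fst, sq⟩ := ha ξ
    exact ⟨_, _, _, sq, ((yon S).obj V).property⟩

/-- For a map of sheaves, representability may be tested in presheaves. -/
lemma representable_of_pyon {F G : Sp S} (f : F ⟶ G)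
    (h : (pyon S).relativelyRepresentable f.hom) : Representable f := by
  intro U g
  obtain ⟨V, snd, fst, sq⟩ := h g.hom
  exact ⟨V, snd, ObjectProperty.homMk fst,
    IsPullback.of_map_of_faithful (sheafToPresheaf (J S) (Type (u + 1))) sq⟩

theorem isAlgSpaceP_of_relativelyRepresentable {X : Sp S} (hX : IsAlgSpace X) {G : PSp S}
    (a : G ⟶ X.obj) (ha : (pyon S).relativelyRepresentable a) : IsAlgSpaceP G :=
  ⟨isSheaf_of_relativelyRepresentable a ha X.property,
    isAlgSpace_of_representable_to hX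
      (a := (ObjectProperty.homMk a : (⟨G, _⟩ : Sp S) ⟶ X)) (representable_of_pyon _ ha)⟩

end Groth.L23
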