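import Groth.Agent.L23.UHSection
import Groth.Agent.L23.PSheaf
import Groth.Agent.L24.Boot.EtaleCharts

/-!
# Pushforward of spaces along universal homeomorphisms

For `i : X ⟶ X'` and `b : W ⟶ X` the sheaf of pairs of a map `g : T ⟶ X'` and a map over `X` from
`T ×_{X'} X` to `W`.
-/

universe u

open CategoryTheory CategoryTheory.Limits AlgebraicGeometry Opposite AlgSp

set_option backward.isDefEq.respectTransparency.types false

namespace Groth.L23.UHPush

variable {S : Scheme.{u}}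

/-- Maps out of a scheme glue along covering sieves. -/
theorem existsUnique_glueSieve {F : Sp S} {T : Over S} {R : Sieve T} (hR : R ∈ AlgSp.J S T)
    (x : ∀ ⦃Y : Over S⦄ (f : Y ⟶ T), R f → ((yon S).obj Y ⟶ F))
    (hx : ∀ ⦃Y Z : Over S⦄ (f : Y ⟶ T) (hf : R f) (k : Z ⟶ Y),
      (yon S).map k ≫ x f hf = x (k ≫ f) (R.downward_closed hf k)) :
    ∃! l : (yon S).obj T ⟶ F, ∀ ⦃Y : Over S⦄ (f : Y ⟶ T) (hf : R f), (yon S).map f ≫ l = x f hf := by
  have hF := (isSheaf_iff_isSheaf_of_type (AlgSp.J S) F.obj).1 F.property R hR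
  let e := fun Y : Over S => ((AlgSp.J S).uliftYonedaEquiv.{u + 1} : ((yon S).obj Y ⟶ F) ≃ F.obj.obj (op Y))
  have hc : Presieve.FamilyOfElements.Compatible
      (fun Y f hf => e Y (x f hf) : Presieve.FamilyOfElements F.obj R.arrows) := by
    intro Y₁ Y₂ Z g₁ g₂ f₁ f₂ hf₁ hf₂ w
    show F.obj.map g₁.op (e Y₁ (x f₁ hf₁)) = F.obj.map g₂.op (e Y₂ (x f₂ hf₂))
    rw [GrothendieckTopology.uliftYonedaEquiv_naturality, GrothendieckTopology.uliftYonedaEquiv_naturality,
      hx f₁ hf₁ g₁, hx f₂ hf₂ g₂]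
    congr 1
    congr 1
  obtain ⟨t, ht, htu⟩ := hF _ hc
  refine ⟨(e T).symm t, fun Y f hf => ?_, fun l hl => ?_⟩
  · apply (e Y).injective
    show (AlgSp.J S).uliftYonedaEquiv _ = _
    rw [← GrothendieckTopology.uliftYonedaEquiv_naturality, Equiv.apply_symm_apply]
    exact ht f hf
  · rw [← htu (e T l) fun Y f hf => ?_, Equiv.symm_apply_apply]
    show F.obj.map f.op ((AlgSp.J S).uliftYonedaEquiv l) = _
    rw [GrothendieckTopology.uliftYonedaEquiv_naturality, hl f hf]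

theorem hom_ext_sieve {F : Sp S} {T : Over S} {R : Sieve T} (hR : R ∈ AlgSp.J S T)
    {l l' : (yon S).obj T ⟶ F} (h : ∀ ⦃Y : Over S⦄ (f : Y ⟶ T), R f → (yon S).map f ≫ l = (yon S).map f ≫ l') :
    l = l' :=
  (existsUnique_glueSieve hR (fun Y f _ => (yon S).map f ≫ l') fun Y Z f _ k => by
    rw [← Category.assoc, ← Functor.map_comp]).unique (fun Y f hf => h f hf) fun _ _ _ => rfl

variable {X X' : Sp S} (i : X ⟶ X') {W : Sp S} (b : W ⟶ X)

/-- Sections over `T`. -/
structure Elem (T : Over S) where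
  g : (yon S).obj T ⟶ X'
  h : ∀ {Z : Over S} (x : Z ⟶ T) (y : (yon S).obj Z ⟶ X), (yon S).map x ≫ g = y ≫ i → ((yon S).obj Z ⟶ W)
  over : ∀ {Z : Over S} (x : Z ⟶ T) (y : (yon S).obj Z ⟶ X) (e : (yon S).map x ≫ g = y ≫ i), h x y e ≫ b = y
  nat : ∀ {Z Z' : Over S} (k : Z' ⟶ Z) (x : Z ⟶ T) (y : (yon S).obj Z ⟶ X)
    (e : (yon S).map x ≫ g = y ≫ i) (e' : (yon S).map (k ≫ x) ≫ g = ((yon S).map k ≫ y) ≫ i),
    h (k ≫ x) ((yon S).map k ≫ y) e' = (yon S).map k ≫ h x y e

variable {i b}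

lemma Elem.ext {T : Over S} {E E' : Elem i b T} (hg : E.g = E'.g)
    (hh : ∀ {Z : Over S} (x : Z ⟶ T) (y : (yon S).obj Z ⟶ X) (e : (yon S).map x ≫ E.g = y ≫ i)
      (e' : (yon S).map x ≫ E'.g = y ≫ i), E.h x y e = E'.h x y e') : E = E' := by
  cases E with
  | mk g h o n =>
    cases E' with
    | mk g' h' o' n' =>
      cases hg
      congr 1
      funext Z x y e
      exact hh x y e e

lemma Elem.h_congr {T : Over S} (E : Elem i b T) {Z : Over S} {x x' : Z ⟶ T} {y y' : (yon S).obj Z ⟶ X}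
    (hx : x = x') (hy : y = y') (e : (yon S).map x ≫ E.g = y ≫ i) (e' : (yon S).map x' ≫ E.g = y' ≫ i) :
    E.h x y e = E.h x' y' e' := by
  subst hx hy; rfl

/-- Restriction. -/
noncomputable def Elem.restrict {T T' : Over S} (φ : T' ⟶ T) (E : Elem i b T) : Elem i b T' where
  g := (yon S).map φ ≫ E.g
  h x y e := E.h (x ≫ φ) y (by rw [Functor.map_comp, Category.assoc]; exact e)
  over x y e := E.over _ y _
  nat k x y e e' := (E.h_congr (Category.assoc k x φ) rfl _
    (by rw [Functor.map_comp, Functor.map_comp, Category.assoc, Category.assoc, Category.assoc]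
        rw [Functor.map_comp, Category.assoc, Category.assoc] at e'
        exact e')).trans (E.nat k (x ≫ φ) y _ _)

variable (i b)

/-- The presheaf of sections. -/
noncomputable def pre : PSp S where
  obj T := Elem i b T.unop
  map φ := ↾(Elem.restrict φ.unop)
  map_id T := by
    ext E
    exact Elem.ext (by simp [Elem.restrict]) fun x y e e' => E.h_congr (Category.comp_id x) rfl _ _
  map_comp φ ψ := by
    ext E
    exact Elem.ext (by simp [Elem.restrict]) fun x y e e' => E.h_congr (Category.assoc _ _ _).symm rfl _ _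

lemma Elem.congr_h {T : Over S} {E E' : Elem i b T} (hEE : E = E') {Z : Over S} {x : Z ⟶ T}
    {y : (yon S).obj Z ⟶ X} (e : (yon S).map x ≫ E.g = y ≫ i) (e' : (yon S).map x ≫ E'.g = y ≫ i) :
    E.h x y e = E'.h x y e' := by
  subst hEE; rfl

theorem isSheaf_pre : Presheaf.IsSheaf (AlgSp.J S) (pre i b) := by
  rw [isSheaf_iff_isSheaf_of_type]
  intro T R hR E hE
  have hcomp : ∀ ⦃Y Z : Over S⦄ (f : Y ⟶ T) (hf : R f) (k : Z ⟶ Y),
      Elem.restrict k (E f hf) = E (k ≫ f) (R.downward_closed hf k) := fun Y Z f hf k => by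
    have := hE k (𝟙 Z) hf (R.downward_closed hf k) (Category.id_comp _).symm
    exact this.trans (congr($((pre i b).map_id (op Z)) _))
  have hEc : ∀ ⦃Y : Over S⦄ {f f' : Y ⟶ T} (hf : R f) (hf' : R f'), f = f' → E f hf = E f' hf' :=
    fun Y f f' hf hf' e => by subst e; rfl
  obtain ⟨g, hg, -⟩ := existsUnique_glueSieve hR (fun Y f hf => (E f hf).g)
    fun Y Z f hf k => congr_arg Elem.g (hcomp f hf k)
  -- the maps on a test scheme
  have hz : ∀ {Z : Over S} (x : Z ⟶ T) (y : (yon S).obj Z ⟶ X), (yon S).map x ≫ g = y ≫ i →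
      ∃! l : (yon S).obj Z ⟶ W, ∀ ⦃Y : Over S⦄ (f : Y ⟶ Z) (hf : R (f ≫ x)) (e : _),
        (yon S).map f ≫ l = (E (f ≫ x) hf).h (𝟙 Y) ((yon S).map f ≫ y) e := by
    intro Z x y e
    have he : ∀ ⦃Y : Over S⦄ (f : Y ⟶ Z) (hf : R (f ≫ x)),
        (yon S).map (𝟙 Y) ≫ (E (f ≫ x) hf).g = ((yon S).map f ≫ y) ≫ i := fun Y f hf => by
      rw [(yon S).map_id, Category.id_comp, ← hg _ hf, Functor.map_comp, Category.assoc, e, Category.assoc]
    obtain ⟨l, hl, hlu⟩ := existsUnique_glueSieve ((AlgSp.J S).pullback_stable x hR)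
      (fun Y f hf => (E (f ≫ x) hf).h (𝟙 Y) ((yon S).map f ≫ y) (he f hf)) fun Y Y' f hf k => by
      have e₂ : (yon S).map (k ≫ 𝟙 Y) ≫ (E (f ≫ x) hf).g = ((yon S).map k ≫ (yon S).map f ≫ y) ≫ i := by
        rw [Functor.map_comp, Category.assoc, he, Category.assoc, Category.assoc, Category.assoc]
      rw [← (E (f ≫ x) hf).nat k (𝟙 Y) _ (he f hf) e₂]
      have e₃ : E ((k ≫ f) ≫ x) (by rw [Category.assoc]; exact R.downward_closed hf k) =
          Elem.restrict k (E (f ≫ x) hf) := by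
        rw [hcomp]; exact hEc _ _ (Category.assoc _ _ _)
      have e₄ : (yon S).map (𝟙 Y') ≫ (Elem.restrict k (E (f ≫ x) hf)).g = ((yon S).map (k ≫ f) ≫ y) ≫ i :=
        (congr_arg (fun E' : Elem i b Y' => (yon S).map (𝟙 Y') ≫ E'.g) e₃).symm.trans (he _ _)
      rw [Elem.congr_h i b e₃ _ e₄]
      exact (E (f ≫ x) hf).h_congr (by simp) (by rw [Functor.map_comp, Category.assoc]) _ _
    exact ⟨l, fun Y f hf e' => hl f hf, fun l' hl' => hlu l' fun Y f hf => hl' f hf (he f hf)⟩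
  choose h hh hhu using fun {Z : Over S} (x : Z ⟶ T) (y : (yon S).obj Z ⟶ X)
    (e : (yon S).map x ≫ g = y ≫ i) => hz x y e
  have hval : ∀ ⦃Y : Over S⦄ (f : Y ⟶ T) (hf : R f) {Z : Over S} (x : Z ⟶ Y) (y : (yon S).obj Z ⟶ X)
      (e : (yon S).map x ≫ (E f hf).g = y ≫ i) (e' : (yon S).map (x ≫ f) ≫ g = y ≫ i),
      h (x ≫ f) y e' = (E f hf).h x y e := fun Y f hf Z x y e e' => by
    have h1 : (yon S).map (𝟙 Z) ≫ (E (𝟙 Z ≫ x ≫ f) (by simpa using R.downward_closed hf x)).g =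
        ((yon S).map (𝟙 Z) ≫ y) ≫ i := by
      rw [← hg, (yon S).map_id, Category.id_comp, Category.id_comp, Category.id_comp]; exact e'
    have h2 := hh (x ≫ f) y e' (𝟙 Z) _ h1
    refine ((Category.id_comp (h (x ≫ f) y e')).symm.trans
      ((congr_arg (· ≫ h (x ≫ f) y e') ((yon S).map_id Z).symm).trans h2)).trans ?_
    have h3 : E (𝟙 Z ≫ x ≫ f) (by simpa using R.downward_closed hf x) = Elem.restrict x (E f hf) := by
      rw [hcomp]; exact hEc _ _ (Category.id_comp _)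
    rw [Elem.congr_h i b h3 _ (by
      rw [← h3]; exact h1)]
    exact (E f hf).h_congr (Category.id_comp x) ((congr_arg (· ≫ y) ((yon S).map_id Z)).trans (Category.id_comp y)) _ _
  let E₀ : Elem i b T :=
    { g := g
      h := fun x y e => h x y e
      over := fun {Z} x y e => hom_ext_sieve ((AlgSp.J S).pullback_stable x hR) fun Y f hf => by
        have he : (yon S).map (𝟙 Y) ≫ (E (f ≫ x) hf).g = ((yon S).map f ≫ y) ≫ i := by
          rw [(yon S).map_id, Category.id_comp, ← hg _ hf, Functor.map_comp, Category.assoc, e, Category.assoc]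
        rw [← Category.assoc, hh x y e f hf he, Elem.over]
      nat := fun {Z Z'} k x y e e' => (hhu _ _ e' _ fun Y f hf he => by
        rw [← Category.assoc, ← Functor.map_comp,
          hh x y e (f ≫ k) (by rw [Category.assoc]; exact hf) (by
            rw [← hg, (yon S).map_id, Category.id_comp, Functor.map_comp, Category.assoc, e, Category.assoc])]
        have h3 : E ((f ≫ k) ≫ x) (by rw [Category.assoc]; exact hf) = E (f ≫ k ≫ x) hf := hEc _ _ (Category.assoc _ _ _)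
        have h4 : (yon S).map f ≫ (yon S).map k ≫ y = (yon S).map (f ≫ k) ≫ y := by
          rw [Functor.map_comp, Category.assoc]
        rw [Elem.congr_h i b h3 _ (by rw [← h4]; exact he)]
        exact Elem.h_congr _ rfl h4.symm _ _).symm }
  refine ⟨E₀, fun Y f hf => Elem.ext (hg f hf) fun {Z} x y e e' => hval f hf x y e' e, fun E₁ hE₁ => ?_⟩
  have hgE : E₁.g = g := hom_ext_sieve hR fun Y f hf => (congr_arg Elem.g (hE₁ f hf)).trans (hg f hf).symm
  refine Elem.ext hgE fun {Z} x y e e' => hhu x y e' _ fun Y f hf he => ?_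
  have e1 : (yon S).map (f ≫ x) ≫ E₁.g = ((yon S).map f ≫ y) ≫ i := by
    rw [Functor.map_comp, Category.assoc, e, Category.assoc]
  rw [← E₁.nat f x y e e1]
  have h5 : (pre i b).map (f ≫ x).op E₁ = E (f ≫ x) hf := hE₁ _ hf
  exact (E₁.h_congr (Category.id_comp _).symm rfl _ _).trans (Elem.congr_h i b h5 (x := 𝟙 Y) (by
    show (yon S).map (𝟙 Y) ≫ (yon S).map (f ≫ x) ≫ E₁.g = _
    rw [(yon S).map_id, Category.id_comp, e1]) he)

/-- The pushforward. -/
noncomputable def push : Sp S := ⟨pre i b, isSheaf_pre i b⟩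

/-- Its projection. -/
noncomputable def proj : push i b ⟶ X' := ObjectProperty.homMk
  { app := fun T => ↾fun E => (AlgSp.J S).uliftYonedaEquiv E.g
    naturality := fun T T' φ => by
      ext E
      exact ((AlgSp.J S).uliftYonedaEquiv_naturality E.g φ.unop).symm }

/-- Maps into the pushforward are sections. -/
noncomputable def homEquiv (T : Over S) : ((yon S).obj T ⟶ push i b) ≃ Elem i b T :=
  (AlgSp.J S).uliftYonedaEquiv

lemma homEquiv_comp {T T' : Over S} (φ : T' ⟶ T) (l : (yon S).obj T ⟶ push i b) :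
    homEquiv i b T' ((yon S).map φ ≫ l) = Elem.restrict φ (homEquiv i b T l) :=
  ((AlgSp.J S).uliftYonedaEquiv_naturality l φ).symm

lemma comp_proj {T : Over S} (l : (yon S).obj T ⟶ push i b) : l ≫ proj i b = (homEquiv i b T l).g :=
  (AlgSp.J S).uliftYonedaEquiv.injective (((AlgSp.J S).uliftYonedaEquiv_comp l (proj i b)).trans rfl)

end Groth.L23.UHPush

namespace Groth.L23.UHPush

variable {S : Scheme.{u}}

instance : (FlatMor.IsUnivHomeo.{u}).IsStableUnderBaseChange :=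
  MorphismProperty.universally_isStableUnderBaseChange _

/-- A map bijective on points with values in schemes is an isomorphism. -/
theorem isIso_of_yon {F G : Sp S} (θ : F ⟶ G)
    (hinj : ∀ (Z : Over S) (k k' : (yon S).obj Z ⟶ F), k ≫ θ = k' ≫ θ → k = k')
    (hsurj : ∀ (Z : Over S) (y : (yon S).obj Z ⟶ G), ∃ k, k ≫ θ = y) : IsIso θ := by
  have : ∀ Z, IsIso (θ.hom.app Z) := fun Z => (isIso_iff_bijective _).2 (by
    have hh : ∀ k, θ.hom.app (op Z.unop) ((AlgSp.J S).uliftYonedaEquiv.{u + 1} k) =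
        (AlgSp.J S).uliftYonedaEquiv.{u + 1} (k ≫ θ) :=
      fun k => ((AlgSp.J S).uliftYonedaEquiv_comp k θ).symm
    refine ⟨fun x x' hxx => ?_, fun y => ?_⟩
    · obtain ⟨k, rfl⟩ := (AlgSp.J S).uliftYonedaEquiv.{u + 1}.surjective x
      obtain ⟨k', rfl⟩ := (AlgSp.J S).uliftYonedaEquiv.{u + 1}.surjective x'
      rw [hh, hh, Equiv.apply_eq_iff_eq] at hxx
      rw [hinj _ _ _ hxx]
    · obtain ⟨y, rfl⟩ := (AlgSp.J S).uliftYonedaEquiv.{u + 1}.surjective y
      obtain ⟨l, hl⟩ := hsurj _ y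
      exact ⟨_, (hh l).trans (congrArg _ hl)⟩)
  have : IsIso θ.hom := NatIso.isIso_of_isIso_app _
  have : IsIso ((sheafToPresheaf (AlgSp.J S) (Type (u + 1))).map θ) := ‹IsIso θ.hom›
  exact isIso_of_reflects_iso θ (sheafToPresheaf (AlgSp.J S) _)

/-- Fibre products of sheaves can be tested on schemes. -/
theorem isPullback_of_yon {P A B C : Sp S} {fst : P ⟶ A} {snd : P ⟶ B} {f : A ⟶ C} {g : B ⟶ C}
    (w : fst ≫ f = snd ≫ g)
    (hext : ∀ (Z : Over S) (k k' : (yon S).obj Z ⟶ P), k ≫ fst = k' ≫ fst → k ≫ snd = k' ≫ snd → k = k')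
    (hlift : ∀ (Z : Over S) (x : (yon S).obj Z ⟶ A) (y : (yon S).obj Z ⟶ B), x ≫ f = y ≫ g →
      ∃ k, k ≫ fst = x ∧ k ≫ snd = y) : IsPullback fst snd f g := by
  have : IsIso (pullback.lift fst snd w) := isIso_of_yon _
    (fun Z k k' h => hext Z k k' (by have := h =≫ pullback.fst f g; rwa [Category.assoc, Category.assoc, pullback.lift_fst] at this)
      (by have := h =≫ pullback.snd f g; rwa [Category.assoc, Category.assoc, pullback.lift_snd] at this))
    (fun Z y => by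
      obtain ⟨k, h₁, h₂⟩ := hlift Z (y ≫ pullback.fst f g) (y ≫ pullback.snd f g)
        (by rw [Category.assoc, Category.assoc, pullback.condition])
      exact ⟨k, pullback.hom_ext (by rw [Category.assoc, pullback.lift_fst, h₁])
        (by rw [Category.assoc, pullback.lift_snd, h₂])⟩)
  exact (IsPullback.of_hasPullback f g).of_iso (asIso (pullback.lift fst snd w)).symm (Iso.refl _) (Iso.refl _)
    (Iso.refl _)
    (by simp only [Iso.symm_hom, asIso_inv, Iso.refl_hom, Category.comp_id]; rw [IsIso.eq_inv_comp, pullback.lift_fst])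
    (by simp only [Iso.symm_hom, asIso_inv, Iso.refl_hom, Category.comp_id]; rw [IsIso.eq_inv_comp, pullback.lift_snd])
    (by simp) (by simp)

/-- Etale schemes over the source of a universal homeomorphism come from the target. -/
theorem exists_etale_descent {T₀ T W₁ : Scheme.{u}} (φ : T₀ ⟶ T) (hφ : FlatMor.IsUnivHomeo φ) (π : W₁ ⟶ T₀)
    [Etale π] : ∃ (T' : Scheme.{u}) (q : T' ⟶ T) (ρ : W₁ ⟶ T'), Etale q ∧ IsPullback ρ π q φ := by
  have := Groth.L27.TopInv.isEquivalence_bc_of_isUnivHomeo φ hφ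
  let V : T.Etale := (EtCoh.bc φ).objPreimage (Scheme.Etale.mk π)
  let e : (EtCoh.bc φ).obj V ≅ Scheme.Etale.mk π := (EtCoh.bc φ).objObjPreimageIso _
  let eS : ((EtCoh.bc φ).obj V).left ≅ W₁ :=
    { hom := e.hom.left
      inv := e.inv.left
      hom_inv_id := congr_arg (fun f : (EtCoh.bc φ).obj V ⟶ (EtCoh.bc φ).obj V => f.left) e.hom_inv_id
      inv_hom_id := congr_arg (fun f : Scheme.Etale.mk π ⟶ Scheme.Etale.mk π => f.left) e.inv_hom_id }
  exact ⟨V.left, V.hom, eS.inv ≫ pullback.fst V.hom φ, V.prop,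
    (IsPullback.of_hasPullback V.hom φ).of_iso eS (Iso.refl _) (Iso.refl _) (Iso.refl _)
      (by
        simp only [Iso.refl_hom, Category.comp_id]
        exact (eS.hom_inv_id_assoc _).symm) (by
        simp only [Iso.refl_hom, Category.comp_id]
        exact (MorphismProperty.Over.w e.hom).symm) (by simp) (by simp)⟩

variable {X X' : Sp S} {i : X ⟶ X'} {W W' : Sp S} {b : W ⟶ X}

/-- Functoriality in the source. -/
noncomputable def Elem.map (c : W' ⟶ W) {T : Over S} (E : Elem i (c ≫ b) T) : Elem i b T where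
  g := E.g
  h x y e := E.h x y e ≫ c
  over x y e := by rw [Category.assoc]; exact E.over x y e
  nat k x y e e' := by rw [E.nat k x y e e', Category.assoc]

variable (i b)

/-- Functoriality in the source. -/
noncomputable def pushMap (c : W' ⟶ W) : push i (c ≫ b) ⟶ push i b := ObjectProperty.homMk
  { app := fun T => ↾fun E => E.map c
    naturality := fun T T' φ => rfl }

lemma homEquiv_pushMap (c : W' ⟶ W) {T : Over S} (l : (yon S).obj T ⟶ push i (c ≫ b)) :
    homEquiv i b T (l ≫ pushMap i b c) = (homEquiv i (c ≫ b) T l).map c :=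
  ((AlgSp.J S).uliftYonedaEquiv_comp l (pushMap i b c)).trans rfl

lemma pushMap_proj (c : W' ⟶ W) : pushMap i b c ≫ proj i b = proj i (c ≫ b) := rfl

variable {i b}

set_option maxHeartbeats 800000 in
/-- Charts of the pushforward. -/
theorem exists_chart (hi : RepWith FlatMor.IsUnivHomeo i) (c : W' ⟶ W) (hc : RepWith @Etale c)
    {T : Over S} (ξ : (yon S).obj T ⟶ push i b) :
    ∃ (T' : Over S) (q : T' ⟶ T) (fst : (yon S).obj T' ⟶ push i (c ≫ b)),
      IsPullback fst ((yon S).map q) (pushMap i b c) ξ ∧ Etale q.left ∧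
        (RepWith @Surjective c → Surjective q.left) := by
  set E := homEquiv i b T ξ with hE
  obtain ⟨T₀, φ, y₀, sT⟩ : ∃ (T₀ : Over S) (φ : T₀ ⟶ T) (y₀ : (yon S).obj T₀ ⟶ X),
      IsPullback y₀ ((yon S).map φ) i E.g := ⟨_, _, _, hi.1.isPullback E.g⟩
  have hφ : FlatMor.IsUnivHomeo φ.left := repWith_prop hi sT
  obtain ⟨W₁, π, w, sW⟩ : ∃ (W₁ : Over S) (π : W₁ ⟶ T₀) (w : (yon S).obj W₁ ⟶ W'),
      IsPullback w ((yon S).map π) c (E.h φ y₀ sT.w.symm) := ⟨_, _, _, hc.1.isPullback _⟩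
  have : Etale π.left := repWith_prop hc sW
  obtain ⟨T', q₀, ρ₀, hq, sq₀⟩ := exists_etale_descent φ.left hφ π.left
  let T'' : Over S := Over.mk (q₀ ≫ T.hom)
  let q : T'' ⟶ T := Over.homMk q₀
  let ρ : W₁ ⟶ T'' := Over.homMk ρ₀ (by
    show ρ₀ ≫ q₀ ≫ T.hom = _
    rw [reassoc_of% sq₀.w, Over.w φ, Over.w π])
  have sq : IsPullback ρ π q φ := IsPullback.of_map (Over.forget S) (Over.OverMorphism.ext sq₀.w) sq₀
  have hqe : RepWith @Etale ((yon S).map q) := (repWith_yon_map_iff _ q).2 hq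
  have hlift : ∀ {Z : Over S} (x : Z ⟶ T'') (y : (yon S).obj Z ⟶ X),
      (yon S).map x ≫ (yon S).map q ≫ E.g = y ≫ i →
      ∃ a : Z ⟶ W₁, a ≫ ρ = x ∧ (yon S).map (a ≫ π) ≫ y₀ = y := fun {Z} x y e => by
    obtain ⟨z, hz⟩ := (yon S).map_surjective (sT.lift y ((yon S).map (x ≫ q))
      (by rw [← e, Functor.map_comp, Category.assoc]))
    have hzφ : z ≫ φ = x ≫ q := (yon S).map_injective (by rw [Functor.map_comp, hz, sT.lift_snd])
    obtain ⟨a, ha₁, ha₂⟩ := sq.exists_lift x z hzφ.symm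
    exact ⟨a, ha₁, by rw [ha₂, hz, sT.lift_fst]⟩
  choose lift hlift₁ hlift₂ using @hlift
  have huniq : ∀ {Z : Over S} (a a' : Z ⟶ W₁), a ≫ ρ = a' ≫ ρ →
      (yon S).map (a ≫ π) ≫ y₀ = (yon S).map (a' ≫ π) ≫ y₀ → a = a' := fun a a' h₁ h₂ => by
    refine sq.hom_ext h₁ ((yon S).map_injective (sT.hom_ext h₂ ?_))
    rw [← Functor.map_comp, ← Functor.map_comp, Category.assoc, Category.assoc, ← sq.w,
      reassoc_of% h₁]
  have hEh : ∀ {Z : Over S} (a : Z ⟶ W₁) (x : Z ⟶ T) (y : (yon S).obj Z ⟶ X) (e : (yon S).map x ≫ E.g = y ≫ i),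
      a ≫ π ≫ φ = x → (yon S).map (a ≫ π) ≫ y₀ = y → ((yon S).map a ≫ w) ≫ c = E.h x y e := by
    intro Z a x y e h₁ h₂
    rw [Category.assoc, sW.w, ← Category.assoc, ← Functor.map_comp]
    rw [← E.nat (a ≫ π) φ y₀ sT.w.symm (by
      rw [Category.assoc, h₁, h₂]; exact e)]
    exact E.h_congr (by rw [Category.assoc, h₁]) h₂ _ _
  let E' : Elem i (c ≫ b) T'' :=
    { g := (yon S).map q ≫ E.g
      h := fun x y e => (yon S).map (lift x y e) ≫ w
      over := fun x y e => by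
        rw [← Category.assoc, hEh _ (x ≫ q) y (by rw [Functor.map_comp, Category.assoc]; exact e)
          (by rw [← sq.w, ← Category.assoc, hlift₁]) (hlift₂ x y e)]
        exact E.over _ _ _
      nat := fun k x y e e' => by
        rw [← Category.assoc, ← Functor.map_comp]
        congr 2
        refine huniq _ _ (by rw [hlift₁, Category.assoc, hlift₁]) ?_
        rw [hlift₂, Category.assoc k, Functor.map_comp, Category.assoc, hlift₂] }
  refine ⟨T'', q, (homEquiv i (c ≫ b) T'').symm E', ?_, hq, fun hcs => ?_⟩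
  swap
  · have : Surjective π.left := repWith_prop hcs sW
    have : Surjective φ.left := ((Groth.L20.isUnivHomeo_iff _).1 hφ).2.2
    have : Surjective (ρ.left ≫ q.left) := by
      rw [← Over.comp_left, sq.w, Over.comp_left]; infer_instance
    exact Surjective.of_comp ρ.left q.left
  refine isPullback_of_yon ((homEquiv i b T'').injective ?_) ?_ ?_
  · rw [homEquiv_pushMap, Equiv.apply_symm_apply, homEquiv_comp]
    refine Elem.ext rfl fun {Z} x y e e' => ?_
    exact hEh _ (x ≫ q) y _ (by rw [← sq.w, ← Category.assoc, hlift₁]) (hlift₂ x y _)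
  · intro Z l l' h₁ h₂
    obtain ⟨n, hn⟩ := (yon S).map_surjective l
    obtain ⟨n', hn'⟩ := (yon S).map_surjective l'
    rw [← hn, ← hn']
    congr 1
    have hq' : n ≫ q = n' ≫ q := (yon S).map_injective (by
      rw [Functor.map_comp, Functor.map_comp, hn, hn', h₂])
    obtain ⟨Z₀, ψ, yZ, sZ⟩ : ∃ (Z₀ : Over S) (ψ : Z₀ ⟶ Z) (yZ : (yon S).obj Z₀ ⟶ X),
        IsPullback yZ ((yon S).map ψ) i ((yon S).map (n ≫ q) ≫ E.g) := ⟨_, _, _, hi.1.isPullback _⟩
    have hψ : FlatMor.IsUnivHomeo ψ.left := repWith_prop hi sZ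
    have eE : (homEquiv i (c ≫ b) T'').symm E' = (homEquiv i (c ≫ b) T'').symm E' := rfl
    have hh := congr_arg (homEquiv i (c ≫ b) Z) (show (yon S).map n ≫ (homEquiv i (c ≫ b) T'').symm E' =
      (yon S).map n' ≫ (homEquiv i (c ≫ b) T'').symm E' by
        rw [hn, hn', h₁])
    rw [homEquiv_comp, homEquiv_comp, Equiv.apply_symm_apply] at hh
    have ea : (yon S).map (ψ ≫ n) ≫ (yon S).map q ≫ E.g = yZ ≫ i := by
      rw [sZ.w, Functor.map_comp, Functor.map_comp, Category.assoc, Category.assoc]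
    have ea' : (yon S).map (ψ ≫ n') ≫ (yon S).map q ≫ E.g = yZ ≫ i := by
      rw [sZ.w, Functor.map_comp, hq', Functor.map_comp, Category.assoc, Category.assoc]
    have hw' : (yon S).map (lift (ψ ≫ n) yZ ea) ≫ w = (yon S).map (lift (ψ ≫ n') yZ ea') ≫ w :=
      Elem.congr_h i (c ≫ b) hh (x := ψ) (y := yZ)
        (by show (yon S).map ψ ≫ (yon S).map n ≫ _ = _; rw [← Category.assoc, ← Functor.map_comp]; exact ea)
        (by show (yon S).map ψ ≫ (yon S).map n' ≫ _ = _; rw [← Category.assoc, ← Functor.map_comp]; exact ea')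
    have hπ : lift (ψ ≫ n) yZ ea ≫ π = lift (ψ ≫ n') yZ ea' ≫ π := (yon S).map_injective (sT.hom_ext
      (by rw [hlift₂, hlift₂])
      (by rw [← Functor.map_comp, ← Functor.map_comp, Category.assoc, Category.assoc, ← sq.w,
        ← Category.assoc, ← Category.assoc, hlift₁, hlift₁, Category.assoc, Category.assoc, hq']))
    have hlifts : lift (ψ ≫ n) yZ ea = lift (ψ ≫ n') yZ ea' := (yon S).map_injective (sW.hom_ext hw'
      (by rw [← Functor.map_comp, ← Functor.map_comp, hπ]))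
    refine (existsUnique_lift_uh hqe ψ hψ ((yon S).map (n ≫ q)) (ψ ≫ n) (by
      rw [Functor.map_comp, Functor.map_comp, Category.assoc])).unique ⟨(Functor.map_comp _ _ _).symm, rfl⟩
      ⟨by rw [← Functor.map_comp, hq'], ?_⟩
    rw [← hlift₁ (ψ ≫ n) yZ ea, ← hlift₁ (ψ ≫ n') yZ ea', hlifts]
  · intro Z p s hps
    suffices key : ∃ n : Z ⟶ T'',
        (yon S).map n ≫ (homEquiv i (c ≫ b) T'').symm E' = p ∧ (yon S).map n ≫ (yon S).map q = s by
      obtain ⟨n, h₁, h₂⟩ := key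
      exact ⟨(yon S).map n, h₁, h₂⟩
    obtain ⟨a, ha⟩ := (yon S).map_surjective s
    set F := homEquiv i (c ≫ b) Z p with hF
    have hFE : F.map c = Elem.restrict a E := by
      rw [hF, ← homEquiv_pushMap, hps, ← ha, homEquiv_comp]
    have hgF : F.g = (yon S).map a ≫ E.g := congr_arg Elem.g hFE
    obtain ⟨Z₀, ψ, yZ, sZ⟩ : ∃ (Z₀ : Over S) (ψ : Z₀ ⟶ Z) (yZ : (yon S).obj Z₀ ⟶ X),
        IsPullback yZ ((yon S).map ψ) i F.g := ⟨_, _, _, hi.1.isPullback _⟩
    have hψ : FlatMor.IsUnivHomeo ψ.left := repWith_prop hi sZ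
    have e₁ : (yon S).map (ψ ≫ a) ≫ E.g = yZ ≫ i := by
      rw [Functor.map_comp, Category.assoc, ← hgF, sZ.w]
    obtain ⟨z, hz⟩ := (yon S).map_surjective (sT.lift yZ ((yon S).map (ψ ≫ a)) e₁.symm)
    have hzy : (yon S).map z ≫ y₀ = yZ := by rw [hz, sT.lift_fst]
    have hzφ : z ≫ φ = ψ ≫ a := (yon S).map_injective (by rw [Functor.map_comp, hz, sT.lift_snd])
    have e₂ : F.h ψ yZ sZ.w.symm ≫ c = (yon S).map z ≫ E.h φ y₀ sT.w.symm := by
      rw [← E.nat z φ y₀ sT.w.symm (by rw [hzφ, hzy]; exact e₁)]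
      exact (Elem.congr_h i b hFE (x := ψ) (y := yZ) sZ.w.symm (by
        show (yon S).map ψ ≫ (yon S).map a ≫ E.g = _
        rw [← Category.assoc, ← Functor.map_comp]; exact e₁)).trans (E.h_congr hzφ.symm hzy.symm _ _)
    obtain ⟨a₁, ha₁⟩ := (yon S).map_surjective (sW.lift _ _ e₂)
    have ha₁w : (yon S).map a₁ ≫ w = F.h ψ yZ sZ.w.symm := by rw [ha₁, sW.lift_fst]
    have ha₁π : a₁ ≫ π = z := (yon S).map_injective (by rw [Functor.map_comp, ha₁, sW.lift_snd])
    obtain ⟨n, ⟨hnq, hnψ⟩, -⟩ := existsUnique_lift_uh hqe ψ hψ ((yon S).map a) (a₁ ≫ ρ) (by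
      rw [← Functor.map_comp, ← Functor.map_comp, Category.assoc, sq.w, ← Category.assoc, ha₁π, hzφ])
    refine ⟨n, (homEquiv i (c ≫ b) Z).injective ?_, by rw [hnq, ha]⟩
    rw [homEquiv_comp, Equiv.apply_symm_apply, ← hF]
    have hgn : (Elem.restrict n E').g = F.g := by
      show (yon S).map n ≫ (yon S).map q ≫ E.g = F.g
      rw [← Category.assoc, hnq, hgF]
    refine Elem.ext hgn fun {Z'} x y e e' => ?_
    obtain ⟨k, hk⟩ := (yon S).map_surjective (sZ.lift y ((yon S).map x) e'.symm)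
    have hky : (yon S).map k ≫ yZ = y := by rw [hk, sZ.lift_fst]
    have hkx : k ≫ ψ = x := (yon S).map_injective (by rw [Functor.map_comp, hk, sZ.lift_snd])
    show (yon S).map (lift (x ≫ n) y _) ≫ w = F.h x y e'
    rw [huniq (lift (x ≫ n) y _) (k ≫ a₁) (by rw [hlift₁, Category.assoc, ← hnψ, reassoc_of% hkx])
      (by rw [hlift₂, Category.assoc, ha₁π, Functor.map_comp, Category.assoc, hzy, hky]),
      Functor.map_comp, Category.assoc, ha₁w, ← F.nat k ψ yZ sZ.w.symm (by rw [hkx, hky]; exact e')]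
    exact F.h_congr hkx hky _ _

end Groth.L23.UHPush
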