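import Groth.Agent.L23.UHPush

/-!
# The pushforward of an etale space along a universal homeomorphism
-/

universe u

open CategoryTheory CategoryTheory.Limits AlgebraicGeometry Opposite AlgSp

set_option backward.isDefEq.respectTransparency.types false

namespace Groth.L23.UHPush

variable {S : Scheme.{u}}

/-- A map of sheaves from a natural family of maps on points with values in schemes. -/
theorem exists_hom_of_yon {F G : Sp S} (τ : ∀ Z : Over S, ((yon S).obj Z ⟶ F) → ((yon S).obj Z ⟶ G))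
    (hτ : ∀ {Z Z' : Over S} (k : Z' ⟶ Z) (l : (yon S).obj Z ⟶ F),
      τ Z' ((yon S).map k ≫ l) = (yon S).map k ≫ τ Z l) :
    ∃ θ : F ⟶ G, ∀ (Z : Over S) (l : (yon S).obj Z ⟶ F), l ≫ θ = τ Z l := by
  let e := fun (A : Sp S) (Z : Over S) =>
    ((AlgSp.J S).uliftYonedaEquiv.{u + 1} : ((yon S).obj Z ⟶ A) ≃ A.obj.obj (op Z))
  let θ : F ⟶ G := ObjectProperty.homMk
    { app := fun T => ↾fun p => e G T.unop (τ T.unop ((e F T.unop).symm p))
      naturality := fun T T' φ => by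
        ext p
        obtain ⟨l, rfl⟩ := (e F T.unop).surjective p
        show e G T'.unop (τ T'.unop ((e F T'.unop).symm (F.obj.map φ (e F T.unop l)))) =
          G.obj.map φ (e G T.unop (τ T.unop ((e F T.unop).symm (e F T.unop l))))
        have h1 : F.obj.map φ (e F T.unop l) = e F T'.unop ((yon S).map φ.unop ≫ l) :=
          (AlgSp.J S).uliftYonedaEquiv_naturality l φ.unop
        rw [h1, Equiv.symm_apply_apply, Equiv.symm_apply_apply, hτ]
        exact ((AlgSp.J S).uliftYonedaEquiv_naturality _ φ.unop).symm }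
  refine ⟨θ, fun Z l => (e G Z).injective ?_⟩
  refine ((AlgSp.J S).uliftYonedaEquiv_comp l θ).trans ?_
  show e G Z (τ Z ((e F Z).symm (e F Z l))) = _
  rw [Equiv.symm_apply_apply]

variable {X X' : Sp S} {i : X ⟶ X'} {W : Sp S} {b : W ⟶ X}

theorem isIso_proj_id (i : X ⟶ X') : IsIso (proj i (𝟙 X)) := by
  refine isIso_of_yon _ (fun Z k k' h => (homEquiv i (𝟙 X) Z).injective ?_) fun Z g =>
    ⟨(homEquiv i (𝟙 X) Z).symm ⟨g, fun x y e => y, fun x y e => Category.comp_id y, fun k x y e e' => rfl⟩, by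
      rw [comp_proj, Equiv.apply_symm_apply]⟩
  rw [comp_proj, comp_proj] at h
  refine Elem.ext h fun {Z'} x y e e' => ?_
  exact (Category.comp_id _).symm.trans
    (((homEquiv i (𝟙 X) Z k).over x y e).trans
      (((homEquiv i (𝟙 X) Z k').over x y e').symm.trans (Category.comp_id _)))

/-- The projection from the pushforward of an etale map is etale. -/
theorem repWith_etale_proj (hi : RepWith FlatMor.IsUnivHomeo i) (hb : RepWith @Etale b) :
    RepWith @Etale (proj i b) := by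
  suffices ∀ b' : W ⟶ X, b ≫ 𝟙 X = b' → RepWith @Etale (proj i b') from this b (Category.comp_id b)
  rintro b' rfl
  rw [← pushMap_proj]
  have := isIso_proj_id i
  refine repWith_comp ?_ (repWith_of_isIso _)
  refine repWith_of_exists fun T ξ => ?_
  obtain ⟨T', q, fst, sq, hq, -⟩ := exists_chart hi b hb ξ
  exact ⟨T', fst, q, sq, hq⟩

/-- The projection from the pushforward of a surjective etale map is surjective. -/
theorem repWith_surjective_proj (hi : RepWith FlatMor.IsUnivHomeo i) (hb : RepWith @Etale b)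
    (hbs : RepWith @Surjective b) : RepWith @Surjective (proj i b) := by
  suffices ∀ b' : W ⟶ X, b ≫ 𝟙 X = b' → RepWith @Surjective (proj i b') from this b (Category.comp_id b)
  rintro b' rfl
  rw [← pushMap_proj]
  have := isIso_proj_id i
  refine repWith_comp ?_ (repWith_of_isIso _)
  refine repWith_of_exists fun T ξ => ?_
  obtain ⟨T', q, fst, sq, -, hq⟩ := exists_chart hi b hb ξ
  exact ⟨T', fst, q, sq, hq hbs⟩

lemma isUnivHomeo_section {A B : Scheme.{u}} {φ : A ⟶ B} {σ : B ⟶ A} (hφ : FlatMor.IsUnivHomeo φ)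
    (h : σ ≫ φ = 𝟙 B) : FlatMor.IsUnivHomeo σ :=
  Groth.L20.isUnivHomeo_of_comp_right
    (h ▸ (Groth.L20.isUnivHomeo_iff (𝟙 B)).mpr ⟨inferInstance, inferInstance, inferInstance⟩) hφ

/-- Lifts to an etale map over the fibre of `i` through a point are determined by the point. -/
theorem existsUnique_fibre_lift (hi : RepWith FlatMor.IsUnivHomeo i) (hb : RepWith @Etale b)
    {Z T₀ : Over S} {φ : T₀ ⟶ Z} {y₀ : (yon S).obj T₀ ⟶ X} {y : (yon S).obj Z ⟶ X}
    (sT : IsPullback y₀ ((yon S).map φ) i (y ≫ i)) (σ : Z ⟶ T₀) (hσ₁ : (yon S).map σ ≫ y₀ = y)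
    (hσ₂ : σ ≫ φ = 𝟙 Z) (l : (yon S).obj Z ⟶ W) (hl : l ≫ b = y) :
    ∃! m : (yon S).obj T₀ ⟶ W, m ≫ b = y₀ ∧ (yon S).map σ ≫ m = l := by
  obtain ⟨W₁, π, w, sW⟩ : ∃ (W₁ : Over S) (π : W₁ ⟶ T₀) (w : (yon S).obj W₁ ⟶ W),
      IsPullback w ((yon S).map π) b y₀ := ⟨_, _, _, hb.1.isPullback _⟩
  have hπ : RepWith @Etale ((yon S).map π) := repWith_of_isPullback sW hb
  have hσ : FlatMor.IsUnivHomeo σ.left :=
    isUnivHomeo_section (repWith_prop hi sT) (congr_arg CommaMorphism.left hσ₂)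
  obtain ⟨l₁, hl₁⟩ := (yon S).map_surjective (sW.lift l ((yon S).map σ) (by rw [hl, hσ₁]))
  obtain ⟨m₁, ⟨hm₁, hm₁'⟩, hm₁u⟩ := existsUnique_lift_uh hπ σ hσ (𝟙 _) l₁ (by
    rw [hl₁, sW.lift_snd, Category.comp_id])
  refine ⟨(yon S).map m₁ ≫ w, ⟨?_, ?_⟩, ?_⟩
  · rw [Category.assoc, sW.w, ← Category.assoc, hm₁, Category.id_comp]
  · rw [← Category.assoc, ← Functor.map_comp, hm₁', hl₁, sW.lift_fst]
  · rintro m ⟨hm, hm'⟩
    obtain ⟨m₂, hm₂⟩ := (yon S).map_surjective (sW.lift m (𝟙 _) (by rw [hm, Category.id_comp]))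
    have : m₂ = m₁ := hm₁u m₂ ⟨by rw [hm₂, sW.lift_snd], (yon S).map_injective (sW.hom_ext
      (by rw [Functor.map_comp, Category.assoc, hm₂, sW.lift_fst, hl₁, sW.lift_fst, hm'])
      (by rw [Functor.map_comp, Category.assoc, hm₂, sW.lift_snd, hl₁, sW.lift_snd, Category.comp_id]))⟩
    rw [← this, hm₂, sW.lift_fst]

/-- A map with unique extensions along sections of universal homeomorphisms is the pullback of its
pushforward. -/
theorem exists_isPullback_proj_of_lift (hi : RepWith FlatMor.IsUnivHomeo i)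
    (H : ∀ {Z T₀ : Over S} {φ : T₀ ⟶ Z} {y₀ : (yon S).obj T₀ ⟶ X} {y : (yon S).obj Z ⟶ X},
      IsPullback y₀ ((yon S).map φ) i (y ≫ i) → ∀ (σ : Z ⟶ T₀), (yon S).map σ ≫ y₀ = y → σ ≫ φ = 𝟙 Z →
      ∀ l : (yon S).obj Z ⟶ W, l ≫ b = y →
      ∃! m : (yon S).obj T₀ ⟶ W, m ≫ b = y₀ ∧ (yon S).map σ ≫ m = l) :
    ∃ u : W ⟶ push i b, IsPullback b u i (proj i b) := by
  have he : ∀ {Z : Over S} (p : (yon S).obj Z ⟶ pullback i (proj i b)),
      (yon S).map (𝟙 Z) ≫ (homEquiv i b Z (p ≫ pullback.snd _ _)).g = (p ≫ pullback.fst _ _) ≫ i :=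
    fun p => by
      rw [(yon S).map_id, Category.id_comp, ← comp_proj, Category.assoc, Category.assoc, pullback.condition]
  obtain ⟨ε, hε⟩ := exists_hom_of_yon (F := pullback i (proj i b)) (G := W)
    (fun Z p => (homEquiv i b Z (p ≫ pullback.snd _ _)).h (𝟙 Z) (p ≫ pullback.fst _ _) (he p))
    (fun {Z Z'} k p => by
      have e₁ : (homEquiv i b Z' (((yon S).map k ≫ p) ≫ pullback.snd _ _)) =
          Elem.restrict k (homEquiv i b Z (p ≫ pullback.snd _ _)) := by
        rw [Category.assoc, homEquiv_comp]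
      rw [Elem.congr_h i b e₁ _ (by
        show (yon S).map (𝟙 Z') ≫ (Elem.restrict k _).g = _
        rw [← e₁]; exact he _)]
      have e₂ : (yon S).map (k ≫ 𝟙 Z) ≫ (homEquiv i b Z (p ≫ pullback.snd _ _)).g =
          ((yon S).map k ≫ p ≫ pullback.fst _ _) ≫ i := by
        rw [Functor.map_comp, Category.assoc, he]; simp only [Category.assoc]
      rw [← (homEquiv i b Z (p ≫ pullback.snd _ _)).nat k (𝟙 Z) _ (he p) e₂]
      exact Elem.h_congr _ (x := 𝟙 Z' ≫ k) ((Category.id_comp k).trans (Category.comp_id k).symm) (Category.assoc _ _ _) _ _)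
  have hεb : ε ≫ b = pullback.fst i (proj i b) := by
    refine ObjectProperty.hom_ext _ (NatTrans.ext (funext fun T => ?_))
    ext p
    obtain ⟨k, rfl⟩ := ((AlgSp.J S).uliftYonedaEquiv.{u + 1} (X := T.unop)).surjective p
    refine ((AlgSp.J S).uliftYonedaEquiv_comp k (ε ≫ b)).symm.trans (Eq.trans (congr_arg _ ?_)
      ((AlgSp.J S).uliftYonedaEquiv_comp k (pullback.fst i (proj i b))))
    rw [← Category.assoc, hε]
    exact Elem.over _ _ _ _
  have : IsIso ε := by
    refine isIso_of_yon _ (fun Z p p' h => ?_) fun Z l => ?_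
    · have hy : p ≫ pullback.fst _ _ = p' ≫ pullback.fst _ _ := by
        rw [← hεb, reassoc_of% h]
      refine pullback.hom_ext hy ((homEquiv i b Z).injective ?_)
      rw [hε, hε] at h
      set E := homEquiv i b Z (p ≫ pullback.snd _ _) with hE
      set E' := homEquiv i b Z (p' ≫ pullback.snd _ _) with hE'
      set y := p ≫ pullback.fst i (proj i b) with hy'
      have hg : E.g = y ≫ i := by
        rw [hE, ← comp_proj, hy', Category.assoc, Category.assoc, pullback.condition]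
      have hg' : E'.g = y ≫ i := by
        rw [hE', ← comp_proj, hy, Category.assoc, Category.assoc, pullback.condition]
      obtain ⟨T₀, φ, y₀, sT⟩ : ∃ (T₀ : Over S) (φ : T₀ ⟶ Z) (y₀ : (yon S).obj T₀ ⟶ X),
          IsPullback y₀ ((yon S).map φ) i (y ≫ i) := ⟨_, _, _, hi.1.isPullback _⟩
      obtain ⟨σ, hσ⟩ := (yon S).map_surjective (sT.lift y (𝟙 _) (Category.id_comp _).symm)
      have hσ₁ : (yon S).map σ ≫ y₀ = y := by rw [hσ, sT.lift_fst]
      have hσ₂ : σ ≫ φ = 𝟙 Z := (yon S).map_injective (by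
        rw [Functor.map_comp, hσ, sT.lift_snd, (yon S).map_id])
      have h' : E.h (𝟙 Z) y (by rw [(yon S).map_id, Category.id_comp, hg]) =
          E'.h (𝟙 Z) y (by rw [(yon S).map_id, Category.id_comp, hg']) :=
        h.trans (E'.h_congr rfl hy.symm _ _)
      have hm : ∀ (F : Elem i b Z) (hF : F.g = y ≫ i),
          (yon S).map σ ≫ F.h φ y₀ (by rw [hF, sT.w]) =
            F.h (𝟙 Z) y (by rw [(yon S).map_id, Category.id_comp, hF]) := fun F hF => by
        rw [← F.nat σ φ y₀ (by rw [hF, sT.w]) (by rw [hσ₁, hσ₂, (yon S).map_id, Category.id_comp, hF])]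
        exact F.h_congr hσ₂ hσ₁ _ _
      have h0 : E.h φ y₀ (by rw [hg, sT.w]) = E'.h φ y₀ (by rw [hg', sT.w]) :=
        (H sT σ hσ₁ hσ₂ (E.h (𝟙 Z) y _) (E.over _ _ _)).unique
          ⟨E.over _ _ _, hm E hg⟩ ⟨E'.over _ _ _, (hm E' hg').trans h'.symm⟩
      refine Elem.ext (hg.trans hg'.symm) fun {Z'} x y₁ e e' => ?_
      obtain ⟨k, hk⟩ := (yon S).map_surjective (sT.lift y₁ ((yon S).map x) (by rw [← hg]; exact e.symm))
      have hk₁ : (yon S).map k ≫ y₀ = y₁ := by rw [hk, sT.lift_fst]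
      have hk₂ : k ≫ φ = x := (yon S).map_injective (by rw [Functor.map_comp, hk, sT.lift_snd])
      rw [E.h_congr hk₂.symm hk₁.symm e (by rw [hk₂, hk₁]; exact e),
        E'.h_congr hk₂.symm hk₁.symm e' (by rw [hk₂, hk₁]; exact e'),
        E.nat k φ y₀ (by rw [hg, sT.w]) _, E'.nat k φ y₀ (by rw [hg', sT.w]) _, h0]
    · obtain ⟨T₀, φ, y₀, sT⟩ : ∃ (T₀ : Over S) (φ : T₀ ⟶ Z) (y₀ : (yon S).obj T₀ ⟶ X),
          IsPullback y₀ ((yon S).map φ) i ((l ≫ b) ≫ i) := ⟨_, _, _, hi.1.isPullback _⟩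
      obtain ⟨σ, hσ⟩ := (yon S).map_surjective (sT.lift (l ≫ b) (𝟙 _) (Category.id_comp _).symm)
      have hσ₁ : (yon S).map σ ≫ y₀ = l ≫ b := by rw [hσ, sT.lift_fst]
      have hσ₂ : σ ≫ φ = 𝟙 Z := (yon S).map_injective (by
        rw [Functor.map_comp, hσ, sT.lift_snd, (yon S).map_id])
      obtain ⟨m, ⟨hm, hm'⟩, -⟩ := H sT σ hσ₁ hσ₂ l rfl
      have hk : ∀ {Z' : Over S} (x : Z' ⟶ Z) (y₁ : (yon S).obj Z' ⟶ X),
          (yon S).map x ≫ (l ≫ b) ≫ i = y₁ ≫ i →
          ∃ k : Z' ⟶ T₀, (yon S).map k ≫ y₀ = y₁ ∧ k ≫ φ = x := fun {Z'} x y₁ e => by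
        obtain ⟨k, hk⟩ := (yon S).map_surjective (sT.lift y₁ ((yon S).map x) e.symm)
        exact ⟨k, by rw [hk, sT.lift_fst], (yon S).map_injective (by rw [Functor.map_comp, hk, sT.lift_snd])⟩
      choose k hk₁ hk₂ using @hk
      have huniq : ∀ {Z' : Over S} (a a' : Z' ⟶ T₀), (yon S).map a ≫ y₀ = (yon S).map a' ≫ y₀ →
          a ≫ φ = a' ≫ φ → a = a' := fun a a' h₁ h₂ => (yon S).map_injective (sT.hom_ext h₁ (by
        rw [← Functor.map_comp, ← Functor.map_comp, h₂]))
      let E : Elem i b Z :=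
        { g := (l ≫ b) ≫ i
          h := fun x y₁ e => (yon S).map (k x y₁ e) ≫ m
          over := fun x y₁ e => by rw [Category.assoc, hm, hk₁]
          nat := fun c x y₁ e e' => by
            rw [← Category.assoc, ← Functor.map_comp]
            congr 2
            refine huniq _ _ (by rw [hk₁, Functor.map_comp, Category.assoc, hk₁]) (by
              rw [hk₂, Category.assoc, hk₂]) }
      have hEg : ((homEquiv i b Z).symm E) ≫ proj i b = (l ≫ b) ≫ i := by
        rw [comp_proj, Equiv.apply_symm_apply]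
      refine ⟨pullback.lift (l ≫ b) ((homEquiv i b Z).symm E) hEg.symm, ?_⟩
      rw [hε]
      have e₁ : homEquiv i b Z (pullback.lift (l ≫ b) ((homEquiv i b Z).symm E) hEg.symm ≫ pullback.snd _ _) = E := by
        rw [pullback.lift_snd, Equiv.apply_symm_apply]
      rw [Elem.congr_h i b e₁ _ (by rw [pullback.lift_fst, (yon S).map_id, Category.id_comp])]
      show (yon S).map (k _ _ _) ≫ m = l
      rw [huniq (k _ _ _) σ (by rw [hk₁, hσ₁, pullback.lift_fst]) (by rw [hk₂, hσ₂]), hm']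
  exact ⟨inv ε ≫ pullback.snd _ _, (IsPullback.of_hasPullback i (proj i b)).of_iso (asIso ε) (Iso.refl _)
    (Iso.refl _) (Iso.refl _) (by simp [hεb]) (by simp) (by simp) (by simp)⟩

/-- An etale map is the pullback of its pushforward. -/
theorem exists_isPullback_proj (hi : RepWith FlatMor.IsUnivHomeo i) (hb : RepWith @Etale b) :
    ∃ u : W ⟶ push i b, IsPullback b u i (proj i b) :=
  exists_isPullback_proj_of_lift hi fun sT σ hσ₁ hσ₂ l hl => existsUnique_fibre_lift hi hb sT σ hσ₁ hσ₂ l hl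

/-- The pushforward of an etale map to an algebraic space is one. -/
theorem isAlgSpace_push (hX' : IsAlgSpace X') (hi : RepWith FlatMor.IsUnivHomeo i) (hb : RepWith @Etale b) :
    IsAlgSpace (push i b) :=
  isAlgSpace_of_representable_to hX' (repWith_etale_proj hi hb).1

end Groth.L23.UHPush
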