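import Groth.Agent.L23.Decent3
import Groth.Agent.L23.SoberTop
import Mathlib.AlgebraicGeometry.Morphisms.FinitePresentation

/-!
# Points of decent spaces form a sober space
-/

universe u

open CategoryTheory CategoryTheory.Limits AlgebraicGeometry Opposite AlgSp Topology

set_option backward.isDefEq.respectTransparency.types false
set_option linter.style.haveILetI false

namespace Groth.L23.Pt

variable {S : Scheme.{u}} {X : Sp S}

theorem cOpen_saturation (hX : IsAlgSpace X) {W : Over S} [IsAffine W.left] {a : (yon S).obj W ⟶ X}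
    (ha : RepWith @Etale a) {K : Set W.left} (hK : SoberTop.COpen K) :
    SoberTop.COpen (Points.ofPt a ⁻¹' (Points.ofPt a '' K)) := by
  refine isOpen_iff_forall_mem_open.2 fun u' hu' => ?_
  obtain ⟨w, hwK, hw⟩ := hu'
  let u₀ : W.left := WithTopology.ofTopology u'
  obtain ⟨R, s, t, sq⟩ := exists_isPullback_of_representable (hX.representable_from_yon a) a
  obtain ⟨r, hr, hr'⟩ := (ofPt_eq_ofPt_iff sq u₀ w).1 hw.symm
  obtain ⟨C, hC, hwC, hCK⟩ := SoberTop.exists_isConstructible_of_cOpen hK w hwK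
  obtain ⟨_, ⟨A, hA, rfl⟩, hrA, -⟩ :=
    R.left.isBasis_affineOpens.exists_subset_of_mem_open (Set.mem_univ r) isOpen_univ
  change R.left.Opens at A
  have : IsAffine (A : Scheme.{u}) := hA
  have : Etale t.left := repWith_prop ha sq
  have : Etale s.left := repWith_prop ha sq.flip
  let s' : (A : Scheme.{u}) ⟶ W.left := A.ι ≫ s.left
  let t' : (A : Scheme.{u}) ⟶ W.left := A.ι ≫ t.left
  have : QuasiCompact s' := (HasAffineProperty.iff_of_isAffine (P := @QuasiCompact)).2 inferInstance
  have : QuasiCompact t' := (HasAffineProperty.iff_of_isAffine (P := @QuasiCompact)).2 inferInstance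
  have hC' : IsConstructible (t' ⁻¹' C) := hC.preimage t'.continuous fun V hV hV' =>
    (t'.isCompact_preimage (U := ⟨V, hV⟩) hV'.isCompact).isRetrocompact (hV.preimage t'.continuous)
  have h₁ := (SoberTop.cOpen_of_isConstructible (s'.isConstructible_image hC')).1
  refine ⟨_, ?_, h₁, ⟨⟨r, hrA⟩, ?_, ?_⟩⟩
  · rintro v ⟨z, hz, hzv⟩
    exact ⟨t' z, hCK hz, ((ofPt_eq_ofPt_iff sq (WithTopology.ofTopology v) (t' z)).2 ⟨A.ι z, hzv, rfl⟩).symm⟩
  · show t.left r ∈ C
    rw [hr']
    exact hwC
  · exact hr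

theorem quasiSober_of_isDecent (hX : IsAlgSpace X) (hd : IsDecent X) : QuasiSober (Points X) := by
  refine ⟨fun {T} hT hTc => ?_⟩
  obtain ⟨x, hx⟩ := hT.1
  obtain ⟨W, a, hW, ha, w, hw⟩ := exists_affine_etale_nhd hX x
  have : SpectralSpace W.left := {}
  obtain ⟨ξ, -, hξ⟩ := SoberTop.exists_genericPoint (φ := Points.ofPt a) (Points.continuous_ofPt a) (isOpenMap_ofPt ha)
    (fun v y hy => exists_gen_lift hX hy (hd y) ha v rfl)
    (fun y => by
      obtain ⟨p, hp, hm, hq⟩ := hd y
      exact hp ▸ (qc_iff_finite_fibres hX p).1 hq W a hW ha)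
    (fun v v' h e => (eq_of_specializes_of_isDecent hX hd ha v' v e.symm h).symm)
    (fun K hK => cOpen_saturation hX ha hK) hTc hT.2 ⟨w, show Points.ofPt a w ∈ T from hw ▸ hx⟩
  exact ⟨ξ, hξ⟩

end Groth.L23.Pt
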