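import Groth.Agent.L23.QsTop
import Groth.Agent.L23.Sober
import Groth.Agent.S10350
import Mathlib.Topology.Spectral.Basic
import Mathlib.AlgebraicGeometry.Noetherian

/-!
# Spectral spaces of points
-/

universe u

open CategoryTheory CategoryTheory.Limits AlgebraicGeometry Opposite AlgSp Topology

set_option backward.isDefEq.respectTransparency.types false
set_option linter.style.haveILetI false

namespace Groth.L23.Qs

variable {S : Scheme.{u}} {X : Sp S}

theorem compactSpace_of_over_open (hd : RepWith @QuasiCompact (Limits.diag X))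
    {U V P : Over S} [IsAffine U.left] [IsAffine V.left] {A : S.Opens} (hA : IsAffineOpen A)
    (hU : ∀ x, U.hom x ∈ A) (hV : ∀ x, V.hom x ∈ A)
    {a : (yon S).obj U ⟶ X} {b : (yon S).obj V ⟶ X} {fst : P ⟶ U} {snd : P ⟶ V}
    (h : IsPullback ((yon S).map fst) ((yon S).map snd) a b) : CompactSpace P.left :=
  compactSpace_of_qcDiag hd (compactSpace_prod hA hU hV) h

theorem spectralSpace_points [QuasiSeparatedSpace S] (hX : IsAlgSpace X) (hqc : IsQuasiCompactSp X)
    (hd : RepWith @QuasiCompact (Limits.diag X)) (hdec : IsDecent X) : SpectralSpace (Points X) := by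
  obtain ⟨W, a, hW, ha, has⟩ := exists_affine_atlas hX hqc
  have := Pt.t0Space_of_isDecent hX hdec
  have := Pt.quasiSober_of_isDecent hX hdec
  have := compactSpace_of_qcSp hqc
  obtain ⟨R, p, q, sq⟩ := exists_isPullback_of_representable (hX.representable_from_yon a) a
  have : CompactSpace R.left := Groth.L23.compactSpace_of_qs hd sq
  have : QuasiCompact p.left := (HasAffineProperty.iff_of_isAffine (P := @QuasiCompact)).2 inferInstance
  have hpre : ∀ K : Set (Points X), IsOpen K → IsCompact K → IsCompact (Points.ofPt a ⁻¹' K) := by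
    intro K hK hKc
    obtain ⟨L, hL, hLe⟩ := (isOpenMap_ofPt ha).exists_opens_image_eq_of_prespectralSpace
      (Points.continuous_ofPt a) (U := K) (fun x _ => surjective_ofPt has x) hK hKc
    have hc : IsCompact (q.left '' (p.left ⁻¹' (L : Set W.left))) :=
      (p.left.isCompact_preimage (U := L) hL).image q.left.continuous
    convert hc using 1
    ext w
    constructor
    · intro hw
      obtain ⟨l, hl, hlw⟩ := hLe.ge hw
      obtain ⟨r, hr, hr'⟩ := (ofPt_eq_ofPt_iff sq l w).1 hlw
      exact ⟨r, show p.left r ∈ L by rw [hr]; exact hl, hr'⟩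
    · rintro ⟨r, hr, rfl⟩
      rw [Set.mem_preimage, ← ((ofPt_eq_ofPt_iff sq (p.left r) (q.left r)).2 ⟨r, rfl, rfl⟩)]
      exact hLe.le ⟨_, hr, rfl⟩
  have : QuasiSeparatedSpace (Points X) := ⟨fun K K' hK hKc hK' hK'c => by
    have h := ((hpre K hK hKc).inter_of_isOpen (hpre K' hK' hK'c) (hK.preimage (Points.continuous_ofPt a))
      (hK'.preimage (Points.continuous_ofPt a))).image (Points.continuous_ofPt a)
    rwa [← Set.preimage_inter, Set.image_preimage_eq _ (surjective_ofPt has)] at h⟩
  have : PrespectralSpace (Points X) := by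
    refine PrespectralSpace.of_isTopologicalBasis (B := {K | IsOpen K ∧ IsCompact K}) ?_ fun K hK => hK.2
    refine TopologicalSpace.isTopologicalBasis_of_isOpen_of_nhds (fun K hK => hK.1) fun x O hx hO => ?_
    obtain ⟨w, rfl⟩ := surjective_ofPt has x
    obtain ⟨L, ⟨hL, hLc⟩, hwL, hLO⟩ := PrespectralSpace.isTopologicalBasis.exists_subset_of_mem_open
      (show w ∈ Points.ofPt a ⁻¹' O from hx) (hO.preimage (Points.continuous_ofPt a))
    exact ⟨_, ⟨isOpenMap_ofPt ha L hL, hLc.image (Points.continuous_ofPt a)⟩, ⟨w, hwL, rfl⟩, Set.image_subset_iff.2 hLO⟩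
  exact {}

theorem noetherianSpace_range {U : Over S} [IsAffine U.left] [IsLocallyNoetherian U.left]
    (a : (yon S).obj U ⟶ X) : TopologicalSpace.NoetherianSpace (Set.range (Points.ofPt a)) := by
  have : IsNoetherian U.left := ⟨⟩
  exact TopologicalSpace.NoetherianSpace.range _ (Points.continuous_ofPt a)

end Groth.L23.Qs
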