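import Groth.Agent.L23.QcCalc
import Groth.Agent.L23.QFPoints
import Groth.Agent.L23.OpenSub
import Groth.Agent.L23.Cover
import Groth.Agent.L23.LocP
import Groth.Agent.L23.AlgSpace

/-!
# Affine atlases and criteria of quasi-separatedness
-/

universe u

open CategoryTheory CategoryTheory.Limits AlgebraicGeometry Opposite AlgSp Topology

set_option backward.isDefEq.respectTransparency.types false
set_option linter.style.haveILetI false

namespace Groth.L23.Qs

variable {S : Scheme.{u}} {X Y : Sp S}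

attribute [local simp] pullback.lift_fst pullback.lift_snd pullback.lift_fst_assoc
  pullback.lift_snd_assoc prod.lift_fst prod.lift_snd prod.lift_fst_assoc prod.lift_snd_assoc prod.map_fst prod.map_snd

/-- Compactness of products over an affine open of the base. -/
lemma compactSpace_prod {U V : Over S} [IsAffine U.left] [IsAffine V.left] {A : S.Opens} (hA : IsAffineOpen A)
    (hU : ∀ x, U.hom x ∈ A) (hV : ∀ x, V.hom x ∈ A) : CompactSpace (U ⨯ V : Over S).left := by
  have : IsAffine (A : Scheme.{u}) := hA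
  have key : ∀ W : Over S, (∀ x, W.hom x ∈ A) → ∃ m : W.left ⟶ (A : Scheme.{u}), m ≫ A.ι = W.hom := fun W h =>
    ⟨IsOpenImmersion.lift A.ι W.hom (by rintro _ ⟨x, rfl⟩; exact ⟨⟨_, h x⟩, rfl⟩), IsOpenImmersion.lift_fac _ _ _⟩
  obtain ⟨m, hm⟩ := key U hU
  obtain ⟨n, hn⟩ := key V hV
  let g : Limits.pullback m n ⟶ Limits.pullback U.hom V.hom :=
    pullback.lift (pullback.fst _ _) (pullback.snd _ _) (by rw [← hm, ← hn, pullback.condition_assoc])
  let g' : Limits.pullback U.hom V.hom ⟶ Limits.pullback m n :=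
    pullback.lift (pullback.fst _ _) (pullback.snd _ _) (by
      rw [← cancel_mono A.ι, Category.assoc, Category.assoc, hm, hn, pullback.condition])
  have hg : g' ≫ g = 𝟙 _ := by apply pullback.hom_ext <;> simp [g, g']
  have : CompactSpace (Limits.pullback m n : Scheme.{u}) := inferInstance
  have hsur : Function.Surjective g := fun x => ⟨g' x, by rw [← Scheme.Hom.comp_apply, hg]; rfl⟩
  have : CompactSpace (Limits.pullback U.hom V.hom : Scheme.{u}) := hsur.compactSpace g.continuous
  exact (Over.prodLeftIsoPullback U V).inv.homeomorph.compactSpace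

/-- Fibre products of schemes over a space with quasi-compact diagonal. -/
theorem compactSpace_of_qcDiag (hX : RepWith @QuasiCompact (Limits.diag X))
    {U V P : Over S} (hUV : CompactSpace (U ⨯ V : Over S).left)
    {a : (yon S).obj U ⟶ X} {b : (yon S).obj V ⟶ X} {fst : P ⟶ U} {snd : P ⟶ V}
    (h : IsPullback ((yon S).map fst) ((yon S).map snd) a b) : CompactSpace P.left := by
  have h' := repWith_of_isPullback (isPullback_diag h) hX
  rw [show prod.lift ((yon S).map fst) ((yon S).map snd) =
    (yon S).map (prod.lift fst snd) ≫ prodComparison (yon S) U V by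
      ext <;> simp [← Functor.map_comp]] at h'
  have : QuasiCompact (prod.lift fst snd).left :=
    (repWith_yon_map_iff _ _).1
      ((MorphismProperty.cancel_right_of_respectsIso (RepWith @QuasiCompact) _ _).1 h')
  exact QuasiCompact.compactSpace_of_compactSpace (prod.lift fst snd).left

lemma isQuasiSeparatedSp_of_mono (hX : IsQuasiSeparatedSp X) (j : Y ⟶ X) [Mono j] : IsQuasiSeparatedSp Y := by
  exact repWith_of_isPullback (isPullback_diag (IsKernelPair.id_of_mono j : IsPullback (𝟙 Y) (𝟙 Y) j j)) hX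

/-- Quasi-separatedness is tested on fibre products of affine schemes. -/
theorem isQuasiSeparatedSp_of_compact (hX : IsAlgSpace X)
    (h : ∀ (U V P : Over S) (a : (yon S).obj U ⟶ X) (b : (yon S).obj V ⟶ X) (fst : P ⟶ U) (snd : P ⟶ V),
      IsAffine U.left → IsAffine V.left → IsPullback ((yon S).map fst) ((yon S).map snd) a b → CompactSpace P.left) :
    IsQuasiSeparatedSp X := by
  refine repWith_of_snd hX.diag fun T g => ?_
  refine IsZariskiLocalAtTarget.of_openCover T.left.affineCover fun i => ?_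
  let O : Over S := Over.mk (T.left.affineCover.f i ≫ T.hom)
  let j : O ⟶ T := Over.homMk (T.left.affineCover.f i)
  have : IsAffine O.left := inferInstanceAs (IsAffine (T.left.affineCover.X i))
  let a := (yon S).map j ≫ g ≫ prod.fst
  let b := (yon S).map j ≫ g ≫ prod.snd
  obtain ⟨P, p₁, p₂, sP⟩ := exists_isPullback_of_representable (hX.representable_from_yon a) b
  have := h O O P a b p₁ p₂ inferInstance inferInstance sP
  have sD := isPullback_diag sP
  let d : O ⟶ O ⨯ O := prod.lift (𝟙 O) (𝟙 O)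
  have hd : IsClosedImmersion d.left := by
    have : IsSeparated O.hom := IsSeparated.of_comp (f := O.hom) (g := terminal.from S)
    have : IsSeparated (prod.fst : O ⨯ O ⟶ O).left := by
      rw [← MorphismProperty.cancel_left_of_respectsIso @IsSeparated (Over.prodLeftIsoPullback O O).inv,
        show (Over.prodLeftIsoPullback O O).inv ≫ (prod.fst : O ⨯ O ⟶ O).left = pullback.fst O.hom O.hom by simp]
      infer_instance
    have : IsClosedImmersion (d.left ≫ (prod.fst : O ⨯ O ⟶ O).left) := by
      rw [← Over.comp_left, prod.lift_fst]; exact inferInstanceAs (IsClosedImmersion (𝟙 _))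
    exact IsClosedImmersion.of_comp d.left (prod.fst : O ⨯ O ⟶ O).left
  let e := prod.lift ((yon S).map p₁) ((yon S).map p₂)
  have hdrep : RepWith @IsClosedImmersion ((yon S).map d ≫ prodComparison (yon S) O O) :=
    (MorphismProperty.cancel_right_of_respectsIso (RepWith @IsClosedImmersion) _ _).2 (repWith_map hd)
  obtain ⟨Q, q, r, sQ⟩ := exists_isPullback_of_representable (U := O) (V := P) hdrep.1 e
  have : IsClosedImmersion r.left := repWith_prop hdrep sQ
  have : CompactSpace Q.left := QuasiCompact.compactSpace_of_compactSpace r.left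
  have hg : ((yon S).map d ≫ prodComparison (yon S) O O) ≫ prod.map a b = (yon S).map j ≫ g := by
    apply prod.hom_ext
    · rw [Category.assoc, prod.map_fst, Category.assoc, prodComparison_fst_assoc, ← Functor.map_comp_assoc,
        prod.lift_fst, (yon S).map_id, Category.id_comp, Category.assoc]
    · rw [Category.assoc, prod.map_snd, Category.assoc, prodComparison_snd_assoc, ← Functor.map_comp_assoc,
        prod.lift_snd, (yon S).map_id, Category.id_comp, Category.assoc]
  have sQ' := sQ.flip.paste_horiz sD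
  rw [hg] at sQ'
  let sq₀ := IsPullback.of_hasPullback (hX.diag.snd g) j
  have sq₁ := (sq₀.map (yon S)).paste_horiz (hX.diag.isPullback g)
  obtain ⟨i', hi'⟩ := (yon S).map_surjective (sQ'.isoIsPullback _ _ sq₁).hom
  have : IsIso ((yon S).map i') := by rw [hi']; infer_instance
  have : IsIso i' := isIso_of_fully_faithful (yon S) i'
  have : IsIso i'.left := inferInstanceAs (IsIso ((Over.forget S).map i'))
  have : CompactSpace (pullback (hX.diag.snd g) j).left := i'.left.homeomorph.compactSpace
  have sq₂ := sq₀.map (Over.forget S)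
  have : QuasiCompact (pullback.snd (hX.diag.snd g) j).left :=
    (HasAffineProperty.iff_of_isAffine (P := @QuasiCompact)).2 this
  show QuasiCompact (pullback.snd (hX.diag.snd g).left (T.left.affineCover.f i))
  have e : sq₂.isoPullback.inv ≫ (pullback.snd (hX.diag.snd g) j).left =
      pullback.snd (hX.diag.snd g).left (T.left.affineCover.f i) := sq₂.isoPullback_inv_snd
  rw [← e]
  exact (MorphismProperty.cancel_left_of_respectsIso @QuasiCompact _ _).2 ‹_›

/-- Compactness of fibre products from an etale chart. -/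
theorem compact_of_chart (hX : IsAlgSpace X) {W : Over S} {p : (yon S).obj W ⟶ X} (hp : RepWith @Etale p)
    (hs : RepWith @Surjective p) {R : Over S} {s t : R ⟶ W}
    (sR : IsPullback ((yon S).map t) ((yon S).map s) p p) [QuasiSeparatedSpace W.left] [QuasiCompact t.left]
    (U V P : Over S) (a : (yon S).obj U ⟶ X) (b : (yon S).obj V ⟶ X) (fst : P ⟶ U) (snd : P ⟶ V)
    [IsAffine U.left] [IsAffine V.left] (sq : IsPullback ((yon S).map fst) ((yon S).map snd) a b) :
    CompactSpace P.left := by
  have lift : ∀ (U : Over S) [IsAffine U.left] (a : (yon S).obj U ⟶ X), ∃ (U' : Over S) (π : U' ⟶ U) (l : U' ⟶ W),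
      CompactSpace U'.left ∧ Function.Surjective π.left ∧ (yon S).map l ≫ p = (yon S).map π ≫ a := by
    intro U _ a
    obtain ⟨U₁, π₁, l₁, s₁⟩ := exists_isPullback_of_representable (hX.representable_from_yon a) p
    have : Etale π₁.left := repWith_prop hp s₁.flip
    have : Surjective π₁.left := repWith_prop hs s₁.flip
    obtain ⟨K₀, hK, hKe⟩ := π₁.left.isOpenMap.exists_opens_image_eq_of_prespectralSpace π₁.left.continuous
      (U := Set.univ) (fun x _ => π₁.left.surjective x) isOpen_univ isCompact_univ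
    let K : U₁.left.Opens := K₀
    have : CompactSpace (K : Scheme.{u}) := isCompact_iff_compactSpace.mp hK
    let k : Over.mk (K.ι ≫ U₁.hom) ⟶ U₁ := Over.homMk K.ι
    refine ⟨Over.mk (K.ι ≫ U₁.hom), k ≫ π₁, k ≫ l₁, inferInstanceAs (CompactSpace (K : Scheme.{u})), fun x => ?_, ?_⟩
    · obtain ⟨z, hz, rfl⟩ := hKe.ge (Set.mem_univ x)
      exact ⟨⟨z, hz⟩, rfl⟩
    · rw [Functor.map_comp, Functor.map_comp, Category.assoc, Category.assoc, s₁.w]
  obtain ⟨U', π, l, hU', hπ, hl⟩ := lift U a
  obtain ⟨V', π', l', hV', hπ', hl'⟩ := lift V b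
  let A₁ := pullback l t
  have : QuasiCompact (pullback.fst l t).left :=
    MorphismProperty.of_isPullback ((IsPullback.of_hasPullback l t).flip.map (Over.forget S)) ‹QuasiCompact t.left›
  have : CompactSpace A₁.left := QuasiCompact.compactSpace_of_compactSpace (pullback.fst l t).left
  have : QuasiCompact (pullback.snd l t ≫ s).left := inferInstance
  let A₂ := pullback (pullback.snd l t ≫ s) l'
  have : QuasiCompact (pullback.snd (pullback.snd l t ≫ s) l').left :=
    MorphismProperty.of_isPullback ((IsPullback.of_hasPullback _ _).map (Over.forget S))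
      ‹QuasiCompact (pullback.snd l t ≫ s).left›
  have : CompactSpace A₂.left :=
    QuasiCompact.compactSpace_of_compactSpace (pullback.snd (pullback.snd l t ≫ s) l').left
  let x₁ := pullback.fst (pullback.snd l t ≫ s) l' ≫ pullback.fst l t
  let x₂ := pullback.snd (pullback.snd l t ≫ s) l'
  have hx₁ : x₁ ≫ l = (pullback.fst (pullback.snd l t ≫ s) l' ≫ pullback.snd l t) ≫ t := by
    simp [x₁, pullback.condition]
  have hx₂ : x₂ ≫ l' = (pullback.fst (pullback.snd l t ≫ s) l' ≫ pullback.snd l t) ≫ s := by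
    simp [x₂, ← pullback.condition]
  obtain ⟨m, hm₁, hm₂⟩ := exists_lift_yon sq (x₁ ≫ π) (x₂ ≫ π') (by
    calc (yon S).map (x₁ ≫ π) ≫ a = (yon S).map (x₁ ≫ l) ≫ p := by
          simp only [Functor.map_comp, Category.assoc, hl]
      _ = (yon S).map (x₂ ≫ l') ≫ p := by
          rw [hx₁, hx₂]
          simp only [Functor.map_comp, Category.assoc, sR.w]
      _ = (yon S).map (x₂ ≫ π') ≫ b := by simp only [Functor.map_comp, Category.assoc, hl'])
  have : Surjective π.left := ⟨hπ⟩
  have : Surjective π'.left := ⟨hπ'⟩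
  let c₁ := pullback.fst fst π
  let c₂ := pullback.fst (c₁ ≫ snd) π'
  have h₁ : Surjective c₁.left :=
    MorphismProperty.of_isPullback ((IsPullback.of_hasPullback fst π).flip.map (Over.forget S)) ‹Surjective π.left›
  have h₂ : Surjective c₂.left :=
    MorphismProperty.of_isPullback ((IsPullback.of_hasPullback (c₁ ≫ snd) π').flip.map (Over.forget S))
      ‹Surjective π'.left›
  let e₁ := c₂ ≫ pullback.snd fst π
  let e₂ := pullback.snd (c₁ ≫ snd) π'
  have he₁ : e₁ ≫ π = (c₂ ≫ c₁) ≫ fst := by simp [e₁, c₁, pullback.condition]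
  have he₂ : e₂ ≫ π' = (c₂ ≫ c₁) ≫ snd := by simp [e₂, c₂, ← pullback.condition]
  obtain ⟨r, hr₁, hr₂⟩ := exists_lift_yon sR (e₁ ≫ l) (e₂ ≫ l') (by
    calc (yon S).map (e₁ ≫ l) ≫ p = (yon S).map (e₁ ≫ π) ≫ a := by
          simp only [Functor.map_comp, Category.assoc, hl]
      _ = (yon S).map (c₂ ≫ c₁) ≫ (yon S).map fst ≫ a := by rw [he₁, Functor.map_comp_assoc]
      _ = (yon S).map (c₂ ≫ c₁) ≫ (yon S).map snd ≫ b := by rw [sq.w]
      _ = (yon S).map (e₂ ≫ π') ≫ b := by rw [he₂]; simp only [Functor.map_comp, Category.assoc]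
      _ = (yon S).map (e₂ ≫ l') ≫ p := by simp only [Functor.map_comp, Category.assoc, hl'])
  let w₁ : _ ⟶ A₁ := pullback.lift e₁ r hr₁.symm
  let w₂ : _ ⟶ A₂ := pullback.lift w₁ e₂ (by rw [← Category.assoc, pullback.lift_snd, hr₂])
  have hkm : w₂ ≫ m = c₂ ≫ c₁ := (yon S).map_injective (sq.hom_ext
    (by rw [← Functor.map_comp, ← Functor.map_comp, Category.assoc, hm₁, ← he₁]; simp [w₂, w₁, x₁])
    (by rw [← Functor.map_comp, ← Functor.map_comp, Category.assoc, hm₂, ← he₂]; simp [w₂, x₂]))
  have hmsur : Function.Surjective m.left := fun z => by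
    obtain ⟨z₁, rfl⟩ := c₁.left.surjective z
    obtain ⟨z₂, rfl⟩ := c₂.left.surjective z₁
    refine ⟨w₂.left z₂, ?_⟩
    have := congr($(hkm).left z₂)
    rw [Over.comp_left, Over.comp_left, Scheme.Hom.comp_apply, Scheme.Hom.comp_apply] at this
    exact this
  exact hmsur.compactSpace m.left.continuous

/-- A quasi-compact space has an affine atlas. -/
theorem exists_affine_atlas (hX : IsAlgSpace X) (h : IsQuasiCompactSp X) :
    ∃ (U : Over S) (p : (yon S).obj U ⟶ X), IsAffine U.left ∧ RepWith @Etale p ∧ RepWith @Surjective p := by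
  obtain ⟨U, p, he, hs, hU⟩ := h
  let 𝒰 := U.left.affineCover.finiteSubcover
  let d : (∐ 𝒰.X) ⟶ U.left := Sigma.desc 𝒰.f
  let W : Over S := Over.mk (d ≫ U.hom)
  let π : W ⟶ U := Over.homMk d
  have : Etale d := IsZariskiLocalAtSource.of_openCover (sigmaOpenCover 𝒰.X) fun i => by
    show Etale (Sigma.ι 𝒰.X i ≫ d)
    rw [Sigma.ι_desc]; infer_instance
  have : Surjective d := ⟨fun x => by
    obtain ⟨i, y, rfl⟩ := 𝒰.exists_eq x
    exact ⟨Sigma.ι 𝒰.X i y, by rw [← Scheme.Hom.comp_apply, Sigma.ι_desc]⟩⟩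
  have : ∀ i, IsAffine (𝒰.X i) := fun i => inferInstanceAs (IsAffine (U.left.affineCover.X _))
  exact ⟨W, (yon S).map π ≫ p, inferInstanceAs (IsAffine (∐ 𝒰.X)),
    repWith_comp (repWith_map ‹Etale d›) he, repWith_comp (repWith_map ‹Surjective d›) hs⟩

/-- Affine charts over affine opens of the base, with their images. -/
theorem exists_affine_charts (hX : IsAlgSpace X) :
    ∃ (ι : Type u) (W : ι → Over S) (a : ∀ i, (yon S).obj (W i) ⟶ X), (∀ i, IsAffine (W i).left) ∧
      (∀ i, RepWith @Etale (a i)) ∧ (∀ x, ∃ i w, Points.ofPt (a i) w = x) ∧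
      (∀ i, ∃ A : S.Opens, IsAffineOpen A ∧ ∀ w, (W i).hom w ∈ A) := by
  obtain ⟨U, p, he, hs⟩ := hX.atlas
  refine ⟨{B : U.left.Opens // IsAffineOpen B ∧ ∃ A : S.Opens, IsAffineOpen A ∧ ∀ x ∈ B, U.hom x ∈ A},
    fun B => Over.mk (B.1.ι ≫ U.hom),
    fun B => (yon S).map (Over.homMk B.1.ι rfl : Over.mk (B.1.ι ≫ U.hom) ⟶ U) ≫ p,
    fun B => B.2.1, fun B => repWith_comp (repWith_etale_openMk _) he, fun x => ?_, fun B => ?_⟩
  · obtain ⟨u, rfl⟩ := surjective_ofPt hs x
    obtain ⟨_, ⟨A, hA, rfl⟩, hAu, -⟩ :=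
      S.isBasis_affineOpens.exists_subset_of_mem_open (Set.mem_univ (U.hom u)) isOpen_univ
    change S.Opens at A
    obtain ⟨_, ⟨B, hB, rfl⟩, hBu, hBA⟩ :=
      U.left.isBasis_affineOpens.exists_subset_of_mem_open (show u ∈ U.hom ⁻¹ᵁ A from hAu) (U.hom ⁻¹ᵁ A).isOpen
    change U.left.Opens at B
    exact ⟨⟨B, hB, A, hA, fun z hz => hBA hz⟩, ⟨u, hBu⟩, ofPt_openMk B p ⟨u, hBu⟩⟩
  · obtain ⟨A, hA, h⟩ := B.2.2
    exact ⟨A, hA, fun w => h w.1 w.2⟩

/-- The open subspace covered by a chart. -/
theorem exists_openSub_chart (hX : IsAlgSpace X) {W : Over S} {a : (yon S).obj W ⟶ X} (ha : RepWith @Etale a) :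
    ∃ (Z : Sp S) (j : Z ⟶ X) (b : (yon S).obj W ⟶ Z), IsAlgSpace Z ∧ RepWith @IsOpenImmersion j ∧
      RepWith @Etale b ∧ RepWith @Surjective b ∧ b ≫ j = a ∧ Set.range (Points.map j) = Set.range (Points.ofPt a) := by
  let O : TopologicalSpace.Opens (Points X) := ⟨_, (isOpenMap_ofPt ha).isOpen_range⟩
  have hr := range_openSubι O
  obtain ⟨b, hb⟩ := (exists_factor_iff (repWith_openSubι O) a).2 (by rw [hr, range_map_yon]; rfl)
  have := mono_of_repWith_openImmersion (repWith_openSubι O)
  have hZ := isAlgSpace_openSub O hX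
  refine ⟨_, openSubι O, b, hZ, repWith_openSubι O, repWith_of_comp_mono (m := openSubι O) (hb.symm ▸ ha), ?_, hb, hr⟩
  refine repWith_surjective_of_map (hZ.representable_from_yon b) fun z => ?_
  obtain ⟨w, hw⟩ : Points.map (openSubι O) z ∈ Set.range (Points.ofPt a) := hr.le ⟨z, rfl⟩
  refine ⟨Points.ofScheme W w, QFL.map_injective_of_mono (openSubι O) ?_⟩
  rw [← Points.map_comp, hb, ← Points.ofPt_eq_map_ofScheme, hw]

end Groth.L23.Qs
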