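import Groth.Agent.L23.SchemeLocus
import Groth.Agent.L23.DimDecent
import Groth.Agent.L23.QsTop2
import Groth.Agent.S10181
import Mathlib.AlgebraicGeometry.Morphisms.FinitePresentation

/-!
# Dense open subschemes of decent spaces
-/

universe u

open CategoryTheory CategoryTheory.Limits AlgebraicGeometry Opposite AlgSp Topology

set_option backward.isDefEq.respectTransparency.types false
set_option linter.style.haveILetI false

namespace Groth.L23.SL

/-- A lower semicontinuous function on the constructible space has a local maximum on generic points. -/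
theorem exists_max_minPts {A : Type*} [TopologicalSpace A] [SpectralSpace A] (N : A → ℕ)
    (hlsc : ∀ a : A, ∃ C, SoberTop.COpen C ∧ a ∈ C ∧ ∀ v ∈ C, N a ≤ N v) [Nonempty A] :
    ∃ η ∈ SoberTop.minPts (Set.univ : Set A), ∃ W : Set A, IsOpen W ∧ η ∈ W ∧
      ∀ μ ∈ SoberTop.minPts (Set.univ : Set A), μ ∈ W → N μ ≤ N η := by
  have := SoberTop.t2Space (A := A)
  let e : WithConstructibleTopology A → A := WithTopology.ofTopology
  let M := closure (e ⁻¹' SoberTop.minPts (Set.univ : Set A))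
  obtain ⟨η₀, hη₀, -⟩ := SoberTop.exists_minPts (isClosed_univ (X := A)) (Set.mem_univ (Classical.arbitrary A))
  have : Nonempty M := ⟨⟨WithTopology.toTopology _ η₀, subset_closure hη₀⟩⟩
  have : CompactSpace M := isCompact_iff_compactSpace.1 isClosed_closure.isCompact
  obtain ⟨n, w₀, hw₀⟩ := nonempty_interior_of_iUnion_of_closed (f := fun n : ℕ => {m : M | N (e m.1) ≤ n})
    (fun n => by
      rw [← isOpen_compl_iff, isOpen_iff_forall_mem_open]
      intro m hm
      obtain ⟨C, hC, hmC, hCN⟩ := hlsc (e m.1)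
      exact ⟨(fun m : M => e m.1) ⁻¹' C, fun m' hm' h => hm ((hCN _ hm').trans h),
        hC.preimage continuous_subtype_val, hmC⟩)
    (Set.eq_univ_of_forall fun m => Set.mem_iUnion.2 ⟨_, le_refl (N (e m.1))⟩)
  obtain ⟨s, hs, hs', hws⟩ := mem_interior.1 hw₀
  obtain ⟨O, hO, rfl⟩ := isOpen_induced_iff.1 hs'
  obtain ⟨η₁, hη₁O, hη₁⟩ := mem_closure_iff.1 w₀.2 O hO hws
  obtain ⟨W, hW, hηW, hWO⟩ := SoberTop.exists_open_of_minPts isClosed_univ hη₁
    (C := WithTopology.toTopology _ ⁻¹' O) hO hη₁O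
  have hbd : ∀ η ∈ SoberTop.minPts (Set.univ : Set A) ∩ W, N η ≤ n := fun η hη =>
    hs (a := ⟨WithTopology.toTopology _ η, subset_closure hη.1⟩) (hWO ⟨hη.2, trivial⟩)
  obtain ⟨m, ⟨η, hη, hm⟩, hm'⟩ := Set.exists_max_image (N '' (SoberTop.minPts (Set.univ : Set A) ∩ W)) id
    ((Set.finite_Iic n).subset (by rintro _ ⟨η, hη, rfl⟩; exact hbd η hη)) ⟨_, e η₁, ⟨hη₁, hηW⟩, rfl⟩
  exact ⟨η, hη.1, W, hW, hη.2, fun μ hμ hμW => hm ▸ hm' _ ⟨μ, ⟨hμ, hμW⟩, rfl⟩⟩

variable {S : Scheme.{u}} {X : Sp S}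

/-- Generic points of charts of quasi-separated spaces are schematic. -/
theorem schemePt_qs (hX : IsAlgSpace X) (hd : RepWith @QuasiCompact (Limits.diag X)) {x : Points X}
    (hx : HasAt (fun U u => ringKrullDim (U.presheaf.stalk u) = 0) X x) : SchemePt x := by
  obtain ⟨ι, W, a, hW, ha, hcov, hA⟩ := Qs.exists_affine_charts hX
  obtain ⟨i, η, rfl⟩ := hcov x
  obtain ⟨A, hA', hWA⟩ := hA i
  have := hW i
  have hη : ∀ y, y ⤳ η → y = η := by
    have h0 := (Pt.hasAt_stalkDim_iff hX (ha i) η (fun d => d = 0)).1 hx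
    rw [ringKrullDim_stalk_eq_coheight, WithBot.coe_eq_zero, Order.coheight_eq_zero] at h0
    exact fun y hy => (hy.antisymm (h0 hy)).eq
  obtain ⟨R, t, s, sR⟩ := exists_isPullback_of_representable (hX.representable_from_yon (a i)) (a i)
  have : CompactSpace R.left := Qs.compactSpace_of_over_open hd hA' hWA hWA sR
  have : QuasiCompact t.left := (HasAffineProperty.iff_of_isAffine (P := @QuasiCompact)).2 inferInstance
  have : IsSeparated t.left := repWith_prop (Groth.Agent.S10181.result ⟨X, hX⟩ (a i) (ha i)).1 sR.flip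
  have : Etale t.left := repWith_prop (ha i) sR.flip
  have := lqf_of_etale t.left
  obtain ⟨G, hηG, hfin⟩ := Gen.exists_finite_nhd t.left hη
  exact schemePt_of_finite_nhd hX (ha i) sR hη G hηG hfin

/-- Decent spaces have many schematic points. -/
theorem dense_schemePt (hX : IsAlgSpace X) (hd : IsDecent X) : Dense {x : Points X | SchemePt x} := by
  classical
  rw [dense_iff_inter_open]
  rintro O hO ⟨x, hx⟩
  obtain ⟨U, p, he, hs⟩ := hX.atlas
  obtain ⟨u, rfl⟩ := surjective_ofPt hs x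
  obtain ⟨_, ⟨B, hB, rfl⟩, huB, hBO⟩ :=
    U.left.isBasis_affineOpens.exists_subset_of_mem_open (show u ∈ Points.ofPt p ⁻¹' O from hx)
      (hO.preimage (Points.continuous_ofPt p))
  change U.left.Opens at B
  let W : Over S := Over.mk (B.ι ≫ U.hom)
  let a : (yon S).obj W ⟶ X := (yon S).map (Over.homMk B.ι rfl : W ⟶ U) ≫ p
  have ha : RepWith @Etale a := repWith_comp (repWith_etale_openMk B) he
  have : IsAffine W.left := hB
  have hmem : ∀ w, Points.ofPt a w ∈ O := fun w => by rw [ofPt_openMk B p w]; exact hBO w.2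
  have : Nonempty W.left := ⟨⟨u, huB⟩⟩
  have : SpectralSpace W.left := {}
  obtain ⟨R, t, s, sR⟩ := exists_isPullback_of_representable (hX.representable_from_yon a) a
  have : Etale t.left := repWith_prop ha sR.flip
  have hsep := Groth.Agent.S10181.result ⟨X, hX⟩ a ha
  have : IsSeparated t.left := repWith_prop hsep.1 sR.flip
  have := hsep.2 R s t sR
  have hfib : ∀ μ : W.left, (t.left ⁻¹' {μ}).Finite := by
    intro μ
    obtain ⟨m, hm, hmm, hq⟩ := hd (Points.ofPt a μ)
    have hF := (Pt.qc_iff_finite_fibres hX m).1 hq W a inferInstance ha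
    refine (hF.biUnion fun v hv => Pt.finite_rel_of_mono hX m a ha v μ hv hm.symm sR).subset fun r hr => ?_
    refine Set.mem_biUnion (x := s.left r) ?_ ⟨rfl, hr⟩
    show Points.ofPt a (s.left r) = _
    rw [hm, ← ofPt_comp, ← sR.w, ofPt_comp]
    exact congrArg _ hr
  have pieces : ∀ μ : W.left, ∃ (K : R.left.Opens), IsCompact (K : Set R.left) ∧ t.left ⁻¹' {μ} ⊆ (K : Set R.left) := by
    intro μ
    have hA : ∀ r : R.left, ∃ A : R.left.Opens, IsAffineOpen A ∧ r ∈ A := fun r => by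
      obtain ⟨_, ⟨A, hA, rfl⟩, hrA, -⟩ :=
        R.left.isBasis_affineOpens.exists_subset_of_mem_open (Set.mem_univ r) isOpen_univ
      exact ⟨A, hA, hrA⟩
    choose A hA hrA using hA
    have := (hfib μ).to_subtype
    refine ⟨⨆ r : (t.left ⁻¹' {μ}), A r.1, ?_, fun r hr => ?_⟩
    · rw [TopologicalSpace.Opens.coe_iSup]
      exact isCompact_iUnion fun r => (hA r.1).isCompact
    · exact TopologicalSpace.Opens.mem_iSup.2 ⟨⟨r, hr⟩, hrA r⟩
  let N : W.left → ℕ := fun μ => (t.left ⁻¹' {μ}).ncard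
  have sep : ∀ (μ : W.left) (K : R.left.Opens), IsCompact (K : Set R.left) → t.left ⁻¹' {μ} ⊆ (K : Set R.left) →
      ∃ C, SoberTop.COpen C ∧ μ ∈ C ∧ ∀ v ∈ C, N μ ≤ (t.left ⁻¹' {v} ∩ (K : Set R.left)).ncard := by
    intro μ K hK hμK
    have : CompactSpace (K : Scheme.{u}) := isCompact_iff_compactSpace.mp hK
    have : QuasiSeparatedSpace (K : Scheme.{u}) := K.ι.isOpenEmbedding.quasiSeparatedSpace
    have : SpectralSpace (K : Scheme.{u}) := {}
    have : T2Space (WithConstructibleTopology (K : Scheme.{u})) := SoberTop.t2Space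
    let tK : (K : Scheme.{u}) ⟶ W.left := K.ι ≫ t.left
    have : QuasiCompact tK := (HasAffineProperty.iff_of_isAffine (P := @QuasiCompact)).2 inferInstance
    let e : WithConstructibleTopology (K : Scheme.{u}) → (K : Scheme.{u}) := WithTopology.ofTopology
    have hF : (tK ⁻¹' {μ}).Finite := ((hfib μ).preimage K.ι.isOpenEmbedding.injective.injOn :)
    obtain ⟨V, hV, hd'⟩ := (hF.preimage (f := e) (WithTopology.ofTopology_injective _).injOn).t2_separation
    have key : ∀ f : tK ⁻¹' {μ}, ∃ C : Set (K : Scheme.{u}), IsConstructible C ∧ f.1 ∈ C ∧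
        C ⊆ WithTopology.toTopology _ ⁻¹' V (WithTopology.toTopology _ f.1) := fun f =>
      SoberTop.exists_isConstructible_of_cOpen
        (s := WithTopology.toTopology _ ⁻¹' V (WithTopology.toTopology _ f.1)) (hV _).2 f.1 (hV _).1
    choose C hC hfC hCV using key
    have := hF.to_subtype
    refine ⟨⋂ f : tK ⁻¹' {μ}, tK '' C f, ?_, Set.mem_iInter.2 fun f => ⟨f.1, hfC f, f.2⟩, fun v hv => ?_⟩
    · show IsOpen _
      rw [Set.preimage_iInter]
      exact isOpen_iInter_of_finite fun f => (SoberTop.cOpen_of_isConstructible (tK.isConstructible_image (hC f))).1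
    rw [Set.mem_iInter] at hv
    choose g hg hgv using hv
    have hg' : Function.Injective g := fun f f' h => by
      by_contra hne
      exact (hd' (x := WithTopology.toTopology _ f.1) f.2 (y := WithTopology.toTopology _ f'.1) f'.2
        (fun h' => hne (Subtype.ext (WithTopology.toTopology_injective _ h')))).le_bot
        ⟨hCV f (hg f), h ▸ hCV f' (hg f')⟩
    let g' : (t.left ⁻¹' {μ}) → (t.left ⁻¹' {v} ∩ (K : Set R.left) : Set R.left) := fun r =>
      ⟨(g ⟨⟨r.1, hμK r.2⟩, r.2⟩).1, hgv _, (g ⟨⟨r.1, hμK r.2⟩, r.2⟩).2⟩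
    have hinj : Function.Injective g' := fun r r' h => by
      have := hg' (Subtype.ext (congrArg (fun z : (t.left ⁻¹' {v} ∩ (K : Set R.left) : Set R.left) => z.1) h))
      exact Subtype.ext (congrArg (fun z : tK ⁻¹' {μ} => z.1.1) this)
    have := ((hfib v).inter_of_left (K : Set R.left)).to_subtype
    show (t.left ⁻¹' {μ}).ncard ≤ _
    rw [← Nat.card_coe_set_eq, ← Nat.card_coe_set_eq]
    exact Nat.card_le_card_of_injective g' hinj
  obtain ⟨η, hη, W₁, hW₁, hηW₁, hmax⟩ := exists_max_minPts N fun μ => by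
    obtain ⟨K, hK, hμK⟩ := pieces μ
    obtain ⟨C, hC, hμC, hCN⟩ := sep μ K hK hμK
    exact ⟨C, hC, hμC, fun v hv => (hCN v hv).trans (Set.ncard_le_ncard Set.inter_subset_left (hfib v))⟩
  have hηmin : ∀ y, y ⤳ η → y = η := fun y hy => hη.2 y trivial hy
  obtain ⟨K, hK, hηK⟩ := pieces η
  obtain ⟨C, hC, hηC, hCN⟩ := sep η K hK hηK
  obtain ⟨W₂, hW₂, hηW₂, hW₂C⟩ := SoberTop.exists_open_of_minPts isClosed_univ hη hC hηC
  have : CompactSpace (K : Scheme.{u}) := isCompact_iff_compactSpace.mp hK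
  let tK : (K : Scheme.{u}) ⟶ W.left := K.ι ≫ t.left
  have : QuasiCompact tK := (HasAffineProperty.iff_of_isAffine (P := @QuasiCompact)).2 inferInstance
  have := lqf_of_etale tK
  obtain ⟨G₀, hηG₀, hfin⟩ := Gen.exists_finite_nhd tK hηmin
  let G : W.left.Opens := G₀ ⊓ ⟨W₁ ∩ W₂, hW₁.inter hW₂⟩
  refine ⟨Points.ofPt a η, hmem η, schemePt_of_finite_nhd hX ha sR hηmin G ⟨hηG₀, hηW₁, hηW₂⟩ ?_⟩
  have hKG : t.left ⁻¹ᵁ G ≤ K := by
    intro r hr
    obtain ⟨μ, hμ, hμr⟩ := SoberTop.exists_minPts (isClosed_univ (X := W.left)) (Set.mem_univ (t.left r))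
    obtain ⟨r', hr', hr'μ⟩ := Flat.generalizingMap t.left hμr
    have hμG : μ ∈ G := hμr.mem_open G.2 hr
    have hr'K : r' ∈ K := by
      by_contra hh
      have h1 := hCN μ (hW₂C ⟨hμG.2.2, trivial⟩)
      have h2 := hmax μ hμ hμG.2.1
      have h3 : (t.left ⁻¹' {μ} ∩ (K : Set R.left)).ncard < (t.left ⁻¹' {μ}).ncard :=
        Set.ncard_lt_ncard ⟨Set.inter_subset_left, fun hle => hh (hle hr'μ).2⟩ (hfib μ)
      simp only [N] at h1 h2
      omega
    let j := K.ι ∣_ (t.left ⁻¹ᵁ G₀)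
    have hf : IsFinite (j ≫ (t.left ∣_ G₀)) := by
      rw [← morphismRestrict_comp]; exact hfin
    have : IsFinite j := MorphismProperty.of_postcomp (W := @IsFinite) (W' := @IsSeparated) j (t.left ∣_ G₀)
      inferInstance hf
    have hrG₀ : r ∈ t.left ⁻¹ᵁ G₀ := hr.1
    have hr'G₀ : r' ∈ t.left ⁻¹ᵁ G₀ := hr'.mem_open (t.left ⁻¹ᵁ G₀).2 hrG₀
    have hcl : IsClosed (Set.range j) := by
      rw [← Set.image_univ]; exact j.isClosedMap _ isClosed_univ
    obtain ⟨z, hz⟩ := hcl.stableUnderSpecialization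
      (show (⟨r', hr'G₀⟩ : ↥(t.left ⁻¹ᵁ G₀)) ⤳ ⟨r, hrG₀⟩ from (subtype_specializes_iff _ _).2 hr')
      ⟨⟨⟨r', hr'K⟩, hr'G₀⟩, Subtype.ext (by simp [j, morphismRestrict_base])⟩
    have := congrArg Subtype.val hz
    simp [j, morphismRestrict_base] at this
    exact this ▸ z.1.2
  haveI hiso : IsIso (K.ι ∣_ (t.left ⁻¹ᵁ G)) := by
    refine (isIso_iff_isOpenImmersion_and_surjective _).mpr ⟨inferInstance, ⟨fun r => ?_⟩⟩
    exact ⟨⟨⟨r.1, hKG r.2⟩, r.2⟩, Subtype.ext (by simp [morphismRestrict_base])⟩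
  have hle : G ≤ G₀ := inf_le_left
  have : IsFinite (tK ∣_ G) := by
    refine MorphismProperty.of_isPullback ?_ hfin (f := Scheme.homOfLE _ hle) (f' := Scheme.homOfLE _ (tK.preimage_mono hle))
    refine IsPullback.of_right ?_ ?_ (isPullback_morphismRestrict tK G₀).flip
    · simpa using (isPullback_morphismRestrict tK G).flip
    · rw [← cancel_mono G₀.ι]; simp [morphismRestrict_ι]
  rw [morphismRestrict_comp] at this
  exact (@MorphismProperty.cancel_left_of_respectsIso _ _ @IsFinite _ _ _ _ _ _ hiso).1 this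

end Groth.L23.SL
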