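import Groth.Agent.L23.StSchSmooth

/-!
# The locality criterion for schemes
-/

universe u

open CategoryTheory CategoryTheory.Limits AlgebraicGeometry

set_option backward.isDefEq.respectTransparency.types false

namespace Groth.L23.StSch

variable {S : Scheme.{u}} {Q : RelProp S}

/-- Near a point, a smooth morphism is etale over affine space over an affine open of the target. -/
lemma exists_etale_affineSpace {V Y : Scheme.{u}} (b : V ⟶ Y) [Smooth b] (v : V) :
    ∃ (R A : CommRingCat.{u}) (n : ℕ) (jY : Spec R ⟶ Y) (jV : Spec A ⟶ V)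
      (a : Spec A ⟶ Spec (.of (MvPolynomial (Fin n) R))),
      IsOpenImmersion jY ∧ IsOpenImmersion jV ∧ Etale a ∧ v ∈ Set.range jV ∧ jV ≫ b = a ≫ proj R n ≫ jY := by
  obtain ⟨_, ⟨W, hW, rfl⟩, hbv, -⟩ :=
    Y.isBasis_affineOpens.exists_subset_of_mem_open (Set.mem_univ (b v)) isOpen_univ
  obtain ⟨_, ⟨U, hU, rfl⟩, hvU, hUW⟩ :=
    V.isBasis_affineOpens.exists_subset_of_mem_open (show v ∈ b ⁻¹ᵁ W from hbv) (b ⁻¹ᵁ W).2
  have hs := HasRingHomProperty.appLE @Smooth b inferInstance ⟨W, hW⟩ ⟨U, hU⟩ hUW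
  algebraize [(b.appLE W U hUW).hom]
  have : Algebra.Smooth Γ(Y, W) Γ(V, U) := RingHom.smooth_algebraMap.1 hs
  let p := (hU.primeIdealOf ⟨v, hvU⟩).asIdeal
  have : Algebra.IsSmoothAt Γ(Y, W) p := inferInstance
  obtain ⟨h, hp, n, alg, htow, hstd⟩ :=
    Algebra.IsSmoothAt.exists_isStandardEtale_mvPolynomial (R := Γ(Y, W)) (p := p)
  refine ⟨Γ(Y, W), .of (Localization.Away h), n, hW.fromSpec,
    Spec.map (CommRingCat.ofHom (algebraMap Γ(V, U) (Localization.Away h))) ≫ hU.fromSpec,
    Spec.map (CommRingCat.ofHom (algebraMap (MvPolynomial (Fin n) Γ(Y, W)) (Localization.Away h))),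
    inferInstance, inferInstance, ?_, ?_, ?_⟩
  · exact (HasRingHomProperty.Spec_iff (P := @Etale)).2
      ((RingHom.etale_algebraMap (R := MvPolynomial (Fin n) Γ(Y, W)) (S := Localization.Away h)).2 inferInstance)
  · have hr : hU.primeIdealOf ⟨v, hvU⟩ ∈ Set.range
        (PrimeSpectrum.comap (algebraMap Γ(V, U) (Localization.Away h))) := by
      rw [PrimeSpectrum.localization_away_comap_range (Localization.Away h) h]
      exact hp
    obtain ⟨q, hq⟩ := hr
    refine ⟨q, ?_⟩
    rw [Scheme.Hom.comp_apply]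
    exact (congr_arg hU.fromSpec hq).trans (hU.fromSpec_primeIdealOf ⟨v, hvU⟩)
  · rw [Category.assoc, ← IsAffineOpen.SpecMap_appLE_fromSpec b hW hU hUW, ← Category.assoc, ← Category.assoc,
      ← Spec.map_comp, ← Spec.map_comp]
    congr 2
    refine CommRingCat.hom_ext (RingHom.ext fun r => ?_)
    show algebraMap Γ(V, U) (Localization.Away h) (algebraMap Γ(Y, W) Γ(V, U) r) =
      algebraMap (MvPolynomial (Fin n) Γ(Y, W)) (Localization.Away h) (algebraMap Γ(Y, W) _ r)
    rw [← IsScalarTower.algebraMap_apply, ← IsScalarTower.algebraMap_apply]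

/-- The locality criterion on schemes. -/
theorem of_smooth_chart (hQ : StProp Q) {X Y : Scheme.{u}} (s : Y ⟶ S) (f : X ⟶ Y)
    (H : ∀ x : X, ∃ (V U : Scheme.{u}) (b : V ⟶ Y) (e : U ⟶ pullback f b) (u : U),
      Smooth b ∧ Etale e ∧ (e ≫ pullback.fst f b) u = x ∧ Q (b ≫ s) (e ≫ pullback.snd f b)) : Q s f := by
  have loc : ∀ x : X, ∃ (X' : Scheme.{u}) (j : X' ⟶ X), Etale j ∧ x ∈ Set.range j ∧ Q s (j ≫ f) := by
    intro x
    obtain ⟨V, U, b, e, u, hb, he, hu, hk⟩ := H x
    obtain ⟨R, A, n, jY, jV, a, hjY, hjV, ha, ⟨v', hv'⟩, hab⟩ :=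
      exists_etale_affineSpace b ((e ≫ pullback.snd f b) u)
    let U2 := pullback (e ≫ pullback.snd f b) jV
    let k2 : U2 ⟶ Spec A := pullback.snd _ _
    let g2 : U2 ⟶ X := pullback.fst _ _ ≫ e ≫ pullback.fst f b
    obtain ⟨u2, hu2, -⟩ := Scheme.Pullback.exists_preimage_pullback (f := e ≫ pullback.snd f b) (g := jV) u v' hv'.symm
    have hk2 : Q (proj R n ≫ jY ≫ s) (k2 ≫ a) := by
      have h1 := hQ.bc _ _ jV _ _ (IsPullback.of_hasPullback (e ≫ pullback.snd f b) jV) inferInstance hk
      rw [← Category.assoc, hab] at h1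
      simp only [Category.assoc] at h1
      exact postcomp_etale hQ _ _ _ ha h1
    have : Smooth g2 := by
      have h2 : Smooth (pullback.fst f b) := inferInstance
      infer_instance
    have hcomm : g2 ≫ f = k2 ≫ a ≫ proj R n ≫ jY := by
      simp only [g2, k2, Category.assoc]
      rw [pullback.condition, ← hab]
      have := congr($(pullback.condition (f := e ≫ pullback.snd f b) (g := jV)) ≫ b)
      simpa only [Category.assoc] using this
    have hxO : x ∈ Set.range g2 ∩ f ⁻¹' Set.range jY := by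
      have hg2u : g2 u2 = x := by
        rw [Scheme.Hom.comp_apply, hu2, hu]
      refine ⟨⟨u2, hg2u⟩, ?_⟩
      rw [Set.mem_preimage]
      rw [← hg2u, ← Scheme.Hom.comp_apply, hcomm]
      exact ⟨(k2 ≫ a ≫ proj R n) u2, by simp⟩
    let X1 : X.Opens := ⟨Set.range g2 ∩ f ⁻¹' Set.range jY,
      g2.isOpenMap.isOpen_range.inter (jY.isOpenEmbedding.isOpen_range.preimage f.continuous)⟩
    refine ⟨X1.toScheme, X1.ι, inferInstance, by rw [Scheme.Opens.range_ι]; exact hxO, ?_⟩
    have hr : Set.range (X1.ι ≫ f) ⊆ Set.range jY := by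
      rintro _ ⟨z, rfl⟩
      exact z.2.2
    let f1 := IsOpenImmersion.lift jY (X1.ι ≫ f) hr
    have hf1 : f1 ≫ jY = X1.ι ≫ f := IsOpenImmersion.lift_fac _ _ _
    rw [← hf1]
    refine hQ.openPost _ _ _ hjY ?_
    let U3 := pullback g2 X1.ι
    let k3 : U3 ⟶ Spec (.of (MvPolynomial (Fin n) R)) := pullback.fst g2 X1.ι ≫ k2 ≫ a
    have hw : pullback.snd g2 X1.ι ≫ f1 = k3 ≫ proj R n := by
      rw [← cancel_mono jY, Category.assoc, hf1, ← pullback.condition_assoc, hcomm]
      simp [k3]
    let e3 : U3 ⟶ pullback f1 (proj R n) := pullback.lift (pullback.snd g2 X1.ι) k3 hw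
    have e31 : e3 ≫ pullback.fst f1 (proj R n) = pullback.snd g2 X1.ι := pullback.lift_fst _ _ _
    have e32 : e3 ≫ pullback.snd f1 (proj R n) = k3 := pullback.lift_snd _ _ _
    have hw2 : pullback.snd g2 X1.ι ≫ f1 = (pullback.fst g2 X1.ι ≫ k2) ≫ a ≫ proj R n := by
      rw [hw]; simp [k3]
    let e2 : U3 ⟶ pullback f1 (a ≫ proj R n) := pullback.lift (pullback.snd g2 X1.ι) (pullback.fst g2 X1.ι ≫ k2) hw2
    let M : pullback f1 (a ≫ proj R n) ⟶ pullback f b :=
      pullback.map _ _ _ _ X1.ι jV jY hf1 (by rw [Category.assoc, hab])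
    have he2 : Etale e2 := by
      have : e2 ≫ M = (pullback.fst g2 X1.ι ≫ pullback.fst _ _) ≫ e := by
        apply pullback.hom_ext
        · rw [Category.assoc, pullback.lift_fst, ← Category.assoc, pullback.lift_fst]
          rw [← pullback.condition]
          simp only [g2, Category.assoc]
        · rw [Category.assoc, pullback.lift_snd, ← Category.assoc, pullback.lift_snd]
          simp only [k2, Category.assoc]
          rw [← pullback.condition]
      have : Etale (e2 ≫ M) := by rw [this]; infer_instance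
      exact Etale.of_comp e2 M
    let n2 : pullback f1 (a ≫ proj R n) ⟶ pullback f1 (proj R n) :=
      pullback.map _ _ _ _ (𝟙 _) a (𝟙 _) (by simp) (by simp)
    have hid : ∀ T : Scheme.{u}, Etale (𝟙 T) := fun T => inferInstance
    have : Etale n2 := MorphismProperty.pullbackMap (P := @Etale) (hid _) ha (by simp) rfl
    have he3 : Etale e3 := by
      have : e3 = e2 ≫ n2 := by
        apply pullback.hom_ext
        · rw [e31, Category.assoc, pullback.lift_fst, ← Category.assoc, pullback.lift_fst, Category.comp_id]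
        · rw [e32, Category.assoc, pullback.lift_snd, ← Category.assoc, pullback.lift_snd, Category.assoc]
      rw [this]; infer_instance
    refine of_affineSpace_chart hQ _ f1 e3 he3 ?_ ?_
    · rw [e31]
      refine ⟨fun z => ?_⟩
      obtain ⟨t, ht⟩ := z.2.1
      obtain ⟨w, -, hw'⟩ := Scheme.Pullback.exists_preimage_pullback (f := g2) (g := X1.ι) t z ht
      exact ⟨w, hw'⟩
    · rw [e32]
      exact hQ.precomp _ _ _ inferInstance hk2
  choose X' j hj hx hQj using loc
  exact hQ.ofCover s f X' j hj (fun x => ⟨x, hx x⟩) hQj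

end Groth.L23.StSch
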