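import Groth.Prelude.Def_AlgSpCov
import Groth.Agent.L23.LocP
import Groth.Agent.L23.Points
import Groth.Agent.L23.EtSmLocal
import Groth.Agent.L23.StSchMain

/-!
# Etale-smooth locality on source and target for algebraic spaces
-/

universe u

open CategoryTheory CategoryTheory.Limits AlgebraicGeometry AlgSp

set_option backward.isDefEq.respectTransparency.types false

namespace Groth.L23.StLocal

open Groth.L23.StSch

variable {S : Scheme.{u}}

lemma surjective_pointsMap_id {X : Sp S} : Function.Surjective (Points.map (𝟙 X)) :=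
  fun x => ⟨x, by rw [Points.map_id]⟩

lemma isEtaleMor_comp {X Y Z : Sp S} {f : X ⟶ Y} {g : Y ⟶ Z} (hf : IsEtaleMor f) (hg : IsEtaleMor g) :
    IsEtaleMor (f ≫ g) := fun U φ hφ => by
  rw [← Category.assoc]; exact hg _ (hf φ hφ)

lemma isEtaleMor_snd_of_isPullback {X Y X' Y' : Sp S} (hX : IsAlgSpace X) (hY : IsAlgSpace Y) (hX' : IsAlgSpace X')
    (hY' : IsAlgSpace Y') {f : X ⟶ Y} {g : Y' ⟶ Y} {fst : X' ⟶ X} {f' : X' ⟶ Y'}
    (sq : IsPullback fst f' f g) (hf : IsEtaleMor f) : IsEtaleMor f' :=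
  (isEtaleMor_iff_locP hX' hY' f').2
    (locP_of_isPullback etLocal_etale hX hY hY' sq ((isEtaleMor_iff_locP hX hY f).1 hf))

lemma isEtaleMor_of_repWith {X Y : Sp S} (hX : IsAlgSpace X) (hY : IsAlgSpace Y) {f : X ⟶ Y}
    (hf : RepWith @Etale f) : IsEtaleMor f :=
  (isEtaleMor_iff_locP hX hY f).2 (locP_of_repWith etLocal_etale hf)

/-- The hypotheses on the property. -/
structure Hyp (P : MorphismProperty (Sp S)) : Prop where
  source : IsLocalOnSource (IsEtCover (S := S)) P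
  base : IsLocalOnBase (IsSmCover (S := S)) P
  openPost : ∀ {X Y Z : Sp S}, IsAlgSpace X → IsAlgSpace Y → IsAlgSpace Z → ∀ (f : X ⟶ Y) (j : Y ⟶ Z),
    P f → RepWith @IsOpenImmersion j → P (f ≫ j)

variable {P : MorphismProperty (Sp S)} (hP : Hyp P)
include hP

lemma Hyp.precomp {X Y Z : Sp S} (hX : IsAlgSpace X) (hY : IsAlgSpace Y) (hZ : IsAlgSpace Z)
    (f : X ⟶ Y) (g : Y ⟶ Z) (hf : IsEtaleMor f) (hg : P g) : P (f ≫ g) := by
  have := (hP.source (ι := ULift.{u} Bool) (fun b => cond b.down X Y)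
    (fun b => match b with | ⟨true⟩ => f | ⟨false⟩ => 𝟙 Y) hY (fun b => by rcases b with ⟨_ | _⟩ <;> assumption)
    ⟨fun b => by
      rcases b with ⟨_ | _⟩
      · exact isEtaleMor_of_isIso hY hY _
      · exact hf, fun y => ⟨⟨false⟩, surjective_pointsMap_id y⟩⟩ g hZ).1 hg ⟨true⟩
  exact this

lemma Hyp.baseChange {X Y X' Y' : Sp S} (hX : IsAlgSpace X) (hY : IsAlgSpace Y) (hX' : IsAlgSpace X')
    (hY' : IsAlgSpace Y') (f : X ⟶ Y) (g : Y' ⟶ Y) (f' : X' ⟶ Y') (g' : X' ⟶ X)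
    (sq : IsPullback g' f' f g) (hg : LocP @Smooth g) (hf : P f) : P f' := by
  have := (hP.base (ι := ULift.{u} Bool) (fun b => cond b.down Y' Y)
    (fun b => match b with | ⟨true⟩ => g | ⟨false⟩ => 𝟙 Y) hY (fun b => by rcases b with ⟨_ | _⟩ <;> assumption)
    ⟨fun b => by
      rcases b with ⟨_ | _⟩
      · exact Groth.L24.LocQ.locP_smooth_of_isIso (𝟙 Y)
      · exact hg, fun y => ⟨⟨false⟩, surjective_pointsMap_id y⟩⟩ f hX (fun b => cond b.down X' X)
    (fun b => match b with | ⟨true⟩ => f' | ⟨false⟩ => f)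
    (fun b => match b with | ⟨true⟩ => g' | ⟨false⟩ => 𝟙 X) (fun b => by rcases b with ⟨_ | _⟩ <;> assumption)
    (fun b => by
      rcases b with ⟨_ | _⟩
      · show IsPullback (𝟙 X) f f (𝟙 Y)
        exact IsPullback.of_horiz_isIso ⟨by simp⟩
      · exact sq)).1 hf ⟨true⟩
  exact this

lemma Hyp.desc {X Y X' Y' : Sp S} (hX : IsAlgSpace X) (hY : IsAlgSpace Y) (hX' : IsAlgSpace X')
    (hY' : IsAlgSpace Y') (f : X ⟶ Y) (g : Y' ⟶ Y) (f' : X' ⟶ Y') (g' : X' ⟶ X)
    (sq : IsPullback g' f' f g) (hg : LocP @Smooth g) (hgs : Function.Surjective (Points.map g)) (hf' : P f') :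
    P f :=
  (hP.base (ι := PUnit.{u + 1}) (fun _ => Y') (fun _ => g) hY (fun _ => hY')
    ⟨fun _ => hg, fun y => ⟨⟨⟩, hgs y⟩⟩ f hX (fun _ => X') (fun _ => f') (fun _ => g') (fun _ => hX')
    (fun _ => sq)).2 fun _ => hf'

lemma Hyp.iff_iso {X X' Y : Sp S} (hX : IsAlgSpace X) (hX' : IsAlgSpace X') (hY : IsAlgSpace Y)
    (i : X' ⟶ X) [IsIso i] (f : X ⟶ Y) : P (i ≫ f) ↔ P f := by
  refine ⟨fun h => ?_, hP.precomp hX' hX hY _ _ (isEtaleMor_of_isIso hX' hX i)⟩
  have := hP.precomp hX hX' hY (inv i) _ (isEtaleMor_of_isIso hX hX' _) h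
  rwa [IsIso.inv_hom_id_assoc] at this

omit hP in
/-- The induced property of morphisms of schemes over `S`. -/
def schProp (P : MorphismProperty (Sp S)) : RelProp S := fun X Y s f =>
  P ((yon S).map (Over.homMk f : Over.mk (f ≫ s) ⟶ Over.mk s))

lemma schProp_iff {A B : Over S} (φ : A ⟶ B) : schProp P B.hom φ.left ↔ P ((yon S).map φ) := by
  let i : A ≅ Over.mk (φ.left ≫ B.hom) := Over.isoMk (Iso.refl _) (by simp)
  have e : φ = i.hom ≫ (Over.homMk φ.left : Over.mk (φ.left ≫ B.hom) ⟶ Over.mk B.hom) := by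
    ext; simp [i]
  conv_rhs => rw [e, (yon S).map_comp]
  exact (hP.iff_iso (IsAlgSpace.yon_obj _) (IsAlgSpace.yon_obj _) (IsAlgSpace.yon_obj _) _ _).symm

lemma stProp_schProp : StProp (schProp P) where
  precomp {X' X Y} s g f hg hf := by
    let φ : Over.mk (f ≫ s) ⟶ Over.mk s := Over.homMk f
    let χ : Over.mk (g ≫ f ≫ s) ⟶ Over.mk (f ≫ s) := Over.homMk g
    refine (schProp_iff hP (χ ≫ φ)).2 ?_
    rw [(yon S).map_comp]
    exact hP.precomp (IsAlgSpace.yon_obj _) (IsAlgSpace.yon_obj _) (IsAlgSpace.yon_obj _) _ _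
      ((isEtaleMor_yon_map_iff χ).2 hg) hf
  ofCover {ι X Y} s f Xi g hg hc hQ := by
    let φ : Over.mk (f ≫ s) ⟶ Over.mk s := Over.homMk f
    let χ : ∀ i, Over.mk (g i ≫ f ≫ s) ⟶ Over.mk (f ≫ s) := fun i => Over.homMk (g i)
    refine (hP.source (fun i => (yon S).obj (Over.mk (g i ≫ f ≫ s))) (fun i => (yon S).map (χ i))
      (IsAlgSpace.yon_obj _) (fun i => IsAlgSpace.yon_obj _) ⟨fun i => (isEtaleMor_yon_map_iff (χ i)).2 (hg i),
        fun z => ?_⟩ _ (IsAlgSpace.yon_obj _)).2 fun i => ?_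
    · obtain ⟨x, rfl⟩ := (Points.schemeHomeo (Over.mk (f ≫ s))).surjective z
      obtain ⟨i, t, ht⟩ := hc x
      exact ⟨i, Points.schemeHomeo _ t, by rw [Points.map_yon_map_apply]; exact congr_arg _ ht⟩
    · rw [← (yon S).map_comp]
      exact (schProp_iff hP (χ i ≫ φ)).1 (hQ i)
  bc {X Y X' Y'} s f g f' g' sq hg hQ := by
    let φ : Over.mk (f ≫ s) ⟶ Over.mk s := Over.homMk f
    let χ : Over.mk (g ≫ s) ⟶ Over.mk s := Over.homMk g
    let φ' : Over.mk (f' ≫ g ≫ s) ⟶ Over.mk (g ≫ s) := Over.homMk f'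
    let χ' : Over.mk (f' ≫ g ≫ s) ⟶ Over.mk (f ≫ s) :=
      Over.homMk g' (by show g' ≫ f ≫ s = f' ≫ g ≫ s; rw [sq.w_assoc])
    have sqO : IsPullback χ' φ' φ χ := IsPullback.of_map (Over.forget S) (by ext; exact sq.w) sq
    exact hP.baseChange (IsAlgSpace.yon_obj _) (IsAlgSpace.yon_obj _) (IsAlgSpace.yon_obj _)
      (IsAlgSpace.yon_obj _) _ _ _ _ (sqO.map (yon S))
      (locP_of_repWith etLocal_smooth ((repWith_yon_map_iff _ χ).2 hg)) hQ
  desc {X Y X' Y'} s f g f' g' sq hg hgs hQ := by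
    let φ : Over.mk (f ≫ s) ⟶ Over.mk s := Over.homMk f
    let χ : Over.mk (g ≫ s) ⟶ Over.mk s := Over.homMk g
    let φ' : Over.mk (f' ≫ g ≫ s) ⟶ Over.mk (g ≫ s) := Over.homMk f'
    let χ' : Over.mk (f' ≫ g ≫ s) ⟶ Over.mk (f ≫ s) :=
      Over.homMk g' (by show g' ≫ f ≫ s = f' ≫ g ≫ s; rw [sq.w_assoc])
    have sqO : IsPullback χ' φ' φ χ := IsPullback.of_map (Over.forget S) (by ext; exact sq.w) sq
    exact hP.desc (IsAlgSpace.yon_obj _) (IsAlgSpace.yon_obj _) (IsAlgSpace.yon_obj _)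
      (IsAlgSpace.yon_obj _) _ _ _ _ (sqO.map (yon S))
      (locP_of_repWith etLocal_smooth ((repWith_yon_map_iff _ χ).2 hg))
      (surjective_map_of_repWith ((repWith_yon_map_iff _ χ).2 hgs)) hQ
  openPost {X Y Z} s f j hj hQ := by
    let φ : Over.mk (f ≫ j ≫ s) ⟶ Over.mk (j ≫ s) := Over.homMk f
    let χ : Over.mk (j ≫ s) ⟶ Over.mk s := Over.homMk j
    refine (schProp_iff hP (φ ≫ χ)).2 ?_
    rw [(yon S).map_comp]
    exact hP.openPost (IsAlgSpace.yon_obj _) (IsAlgSpace.yon_obj _) (IsAlgSpace.yon_obj _) _ _ hQ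
      ((repWith_yon_map_iff _ χ).2 hj)

theorem isEtaleSmoothLocalST : IsEtaleSmoothLocalST P where
  precomp X Y Z hX hY hZ f g hf hg := hP.precomp hX hY hZ f g hf hg
  baseChange X Y X' Y' hX hY hX' hY' f g f' g' sq hg hf := hP.baseChange hX hY hX' hY' f g f' g' sq hg hf
  locality X Y hX hY f := by
    refine ⟨fun hf x => ⟨Y, X, X, 𝟙 Y, 𝟙 X, f, 𝟙 X, x, hY, hX, hX, Groth.L24.LocQ.locP_smooth_of_isIso _,
      IsPullback.of_horiz_isIso ⟨by simp⟩, isEtaleMor_of_isIso hX hX _, by rw [Category.comp_id, Points.map_id],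
      by rwa [Category.id_comp]⟩, fun H => ?_⟩
    obtain ⟨T, bT, hbT, hbTs⟩ := hY.atlas
    have hT := IsAlgSpace.yon_obj (S := S) T
    have sqT := IsPullback.of_hasPullback f bT
    have hXT : IsAlgSpace (pullback f bT) := isAlgSpace_of_isPullback hY.diag hX hT sqT
    obtain ⟨X1, p, hp, hps⟩ := hXT.atlas
    obtain ⟨f1, hf1⟩ := (yon S).map_surjective (p ≫ pullback.snd f bT)
    refine hP.desc hX hY hXT hT f bT _ _ sqT
      (locP_smooth_of_isEtaleMor hT hY (isEtaleMor_of_repWith hT hY hbT)) (surjective_map_of_repWith hbTs) ?_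
    refine (hP.source (ι := PUnit.{u + 1}) (fun _ => (yon S).obj X1) (fun _ => p) hXT
      (fun _ => IsAlgSpace.yon_obj _) ⟨fun _ => isEtaleMor_of_repWith (IsAlgSpace.yon_obj _) hXT hp,
        fun z => ⟨⟨⟩, surjective_map_of_repWith hps z⟩⟩ _ hT).2 fun _ => ?_
    rw [← hf1]
    refine (schProp_iff hP f1).1 (of_smooth_chart (stProp_schProp hP) T.hom f1.left fun x1 => ?_)
    obtain ⟨V, W, U, b, pW, q, e, v, hV, hW, hU, hb, sq, he, hv, hPq⟩ :=
      H (Points.map (p ≫ pullback.fst f bT) (Points.schemeHomeo X1 x1))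
    -- the chart of `V ×_Y T`
    have sqV := IsPullback.of_hasPullback b bT
    have hVT : IsAlgSpace (pullback b bT) := isAlgSpace_of_isPullback hY.diag hV hT sqV
    obtain ⟨V1, c, hc, hcs⟩ := hVT.atlas
    obtain ⟨b1, hb1⟩ := (yon S).map_surjective (c ≫ pullback.snd b bT)
    have hV1 := IsAlgSpace.yon_obj (S := S) V1
    have hcet : IsEtaleMor c := isEtaleMor_of_repWith hV1 hVT hc
    have hb1s : Smooth b1.left := by
      refine locP_yon_map (P := @Smooth) ?_
      rw [hb1]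
      exact locP_comp etLocal_smooth hV1 hVT hT (locP_smooth_of_isEtaleMor hV1 hVT hcet)
        (locP_of_isPullback etLocal_smooth hV hY hT sqV hb)
    have hcf : LocP @Smooth (c ≫ pullback.fst b bT) := by
      refine locP_comp etLocal_smooth hV1 hVT hV (locP_smooth_of_isEtaleMor hV1 hVT hcet) ?_
      exact locP_of_isPullback etLocal_smooth hT hY hV sqV.flip
        (locP_smooth_of_isEtaleMor hT hY (isEtaleMor_of_repWith hT hY hbT))
    -- `W ×_V V1`, which is `(X ×_Y T) ×_T V1`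
    let W2 := pullback q (c ≫ pullback.fst b bT)
    have sqW2 : IsPullback (pullback.fst q (c ≫ pullback.fst b bT)) (pullback.snd q (c ≫ pullback.fst b bT)) q
        (c ≫ pullback.fst b bT) := IsPullback.of_hasPullback _ _
    have hW2 : IsAlgSpace W2 := isAlgSpace_of_isPullback hV.diag hW hV1 sqW2
    have hbot : (c ≫ pullback.fst b bT) ≫ b = (yon S).map b1 ≫ bT := by
      rw [hb1, Category.assoc, Category.assoc, pullback.condition]
    have sqbig : IsPullback (pullback.fst q (c ≫ pullback.fst b bT) ≫ pW)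
        (pullback.snd q (c ≫ pullback.fst b bT)) f ((yon S).map b1 ≫ bT) := by
      rw [← hbot]; exact sqW2.paste_horiz sq
    let ℓ2 : W2 ⟶ pullback f bT := sqT.lift (pullback.fst q (c ≫ pullback.fst b bT) ≫ pW)
      (pullback.snd q (c ≫ pullback.fst b bT) ≫ (yon S).map b1) (by rw [Category.assoc _ _ bT]; exact sqbig.w)
    have sqℓ2 : IsPullback ℓ2 (pullback.snd q (c ≫ pullback.fst b bT)) (pullback.snd f bT) ((yon S).map b1) :=
      IsPullback.of_right (by rw [sqT.lift_fst]; exact sqbig) (sqT.lift_snd _ _ _) sqT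
    -- `X1 ×_T V1`
    have sq5 := (IsPullback.of_hasPullback f1 b1).map (yon S)
    have hW5 := IsAlgSpace.yon_obj (S := S) (pullback f1 b1)
    have e5 : ((yon S).map (pullback.fst f1 b1) ≫ p) ≫ pullback.snd f bT =
        (yon S).map (pullback.snd f1 b1) ≫ (yon S).map b1 := by
      rw [Category.assoc, ← hf1]; exact sq5.w
    let l25 := sqℓ2.lift ((yon S).map (pullback.fst f1 b1) ≫ p) ((yon S).map (pullback.snd f1 b1)) e5
    have sql25 : IsPullback ((yon S).map (pullback.fst f1 b1)) l25 p ℓ2 :=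
      IsPullback.of_bot (by rw [sqℓ2.lift_snd, ← hf1]; exact sq5) (sqℓ2.lift_fst _ _ _).symm sqℓ2
    have hl25 : IsEtaleMor l25 := isEtaleMor_snd_of_isPullback (IsAlgSpace.yon_obj _) hXT hW5 hW2 sql25
      (isEtaleMor_of_repWith (IsAlgSpace.yon_obj _) hXT hp)
    -- `U ×_V V1` and `U ×_W W5`
    have sqU2 := IsPullback.of_hasPullback (e ≫ q) (c ≫ pullback.fst b bT)
    have hU2 : IsAlgSpace (pullback (e ≫ q) (c ≫ pullback.fst b bT)) :=
      isAlgSpace_of_isPullback hV.diag hU hV1 sqU2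
    have hPU2 : P (pullback.snd (e ≫ q) (c ≫ pullback.fst b bT)) :=
      hP.baseChange hU hV hU2 hV1 _ _ _ _ sqU2 hcf hPq
    let ℓ : pullback (e ≫ q) (c ≫ pullback.fst b bT) ⟶ W2 :=
      sqW2.lift (pullback.fst _ _ ≫ e) (pullback.snd _ _) (by rw [Category.assoc]; exact sqU2.w)
    have hℓ : IsEtaleMor ℓ := isEtaleMor_snd_of_isPullback hU hW hU2 hW2
      (IsPullback.of_bot (by rw [sqW2.lift_snd]; exact sqU2) (sqW2.lift_fst _ _ _).symm sqW2) he
    have sqU5 := IsPullback.of_hasPullback ℓ l25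
    have hU5 : IsAlgSpace (pullback ℓ l25) := isAlgSpace_of_isPullback hW2.diag hU2 hW5 sqU5
    have hsnd5 : IsEtaleMor (pullback.snd ℓ l25) := isEtaleMor_snd_of_isPullback hU2 hW2 hU5 hW5 sqU5 hℓ
    have hfst5 : IsEtaleMor (pullback.fst ℓ l25) :=
      isEtaleMor_snd_of_isPullback hW5 hW2 hU5 hU2 sqU5.flip hl25
    obtain ⟨U1, d, hd, hds⟩ := hU5.atlas
    have hU1 := IsAlgSpace.yon_obj (S := S) U1
    have hdet : IsEtaleMor d := isEtaleMor_of_repWith hU1 hU5 hd
    obtain ⟨ε, hε⟩ := (yon S).map_surjective (d ≫ pullback.snd ℓ l25)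
    have hεet : Etale ε.left := by
      rw [← isEtaleMor_yon_map_iff, hε]; exact isEtaleMor_comp hdet hsnd5
    -- a point over `x1`
    obtain ⟨z, hz1, hz2⟩ := exists_of_isPullback
      (IsPullback.of_hasPullback (e ≫ pW) (p ≫ pullback.fst f bT)) v (Points.schemeHomeo X1 x1) hv
    let ℓz : pullback (e ≫ pW) (p ≫ pullback.fst f bT) ⟶ pullback b bT :=
      pullback.lift (pullback.fst _ _ ≫ e ≫ q) (pullback.snd _ _ ≫ (yon S).map f1) (by
        simp only [Category.assoc]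
        rw [← sq.w, reassoc_of% hf1, ← pullback.condition]
        have := congr($(pullback.condition (f := e ≫ pW) (g := p ≫ pullback.fst f bT)) ≫ f)
        simpa only [Category.assoc] using this)
    obtain ⟨v1, hv1⟩ := surjective_map_of_repWith hcs (Points.map ℓz z)
    obtain ⟨z', hz'1, -⟩ := exists_of_isPullback (IsPullback.of_hasPullback ℓz c) z v1 hv1.symm
    let r := pullback.fst ℓz c
    let r1 := r ≫ pullback.snd (e ≫ pW) (p ≫ pullback.fst f bT)
    let r2 := pullback.snd ℓz c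
    have er : r ≫ ℓz = r2 ≫ c := pullback.condition
    have hℓz1 : ℓz ≫ pullback.fst b bT = pullback.fst _ _ ≫ e ≫ q := pullback.lift_fst _ _ _
    have hℓz2 : ℓz ≫ pullback.snd b bT = pullback.snd _ _ ≫ (yon S).map f1 := pullback.lift_snd _ _ _
    let t5 := sq5.lift r1 r2 (by
      rw [Category.assoc, hb1, ← reassoc_of% er, hℓz2])
    let t2 := sqU2.lift (r ≫ pullback.fst _ _) r2 (by
      rw [Category.assoc, ← hℓz1, ← Category.assoc, er, Category.assoc])
    have et : t2 ≫ ℓ = t5 ≫ l25 := by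
      refine sqbig.hom_ext ?_ ?_
      · have h1 : ℓ ≫ pullback.fst q (c ≫ pullback.fst b bT) = pullback.fst _ _ ≫ e := sqW2.lift_fst _ _ _
        have h2 : l25 ≫ pullback.fst q (c ≫ pullback.fst b bT) ≫ pW =
            (yon S).map (pullback.fst f1 b1) ≫ p ≫ pullback.fst f bT := by
          rw [← sqT.lift_fst (pullback.fst q (c ≫ pullback.fst b bT) ≫ pW)
            (pullback.snd q (c ≫ pullback.fst b bT) ≫ (yon S).map b1)
            (by rw [Category.assoc _ _ bT]; exact sqbig.w), ← Category.assoc]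
          exact congr($(sqℓ2.lift_fst _ _ e5) ≫ pullback.fst f bT).trans (Category.assoc _ _ _)
        simp only [Category.assoc, h2]
        rw [reassoc_of% h1, ← Category.assoc t2, sqU2.lift_fst, ← Category.assoc t5, sq5.lift_fst]
        simp only [r1, Category.assoc, pullback.condition]
      · rw [Category.assoc, Category.assoc]
        rw [show ℓ ≫ pullback.snd q (c ≫ pullback.fst b bT) = pullback.snd _ _ from sqW2.lift_snd _ _ _,
          show l25 ≫ pullback.snd q (c ≫ pullback.fst b bT) = (yon S).map (pullback.snd f1 b1) from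
            sqℓ2.lift_snd _ _ _, sqU2.lift_snd, sq5.lift_snd]
    obtain ⟨u, hu⟩ := surjective_map_of_repWith hds (Points.map (sqU5.lift t2 t5 et) z')
    obtain ⟨u, rfl⟩ := (Points.schemeHomeo U1).surjective u
    have sqS : IsPullback (pullback.fst f1 b1).left (pullback.snd f1 b1).left f1.left b1.left :=
      (IsPullback.of_hasPullback f1 b1).map (Over.forget S)
    refine ⟨V1.left, U1.left, b1.left, ε.left ≫ sqS.isoPullback.hom, u, hb1s, inferInstance, ?_, ?_⟩
    · rw [Category.assoc, sqS.isoPullback_hom_fst, ← Over.comp_left]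
      apply (Points.schemeHomeo X1).injective
      rw [← Points.map_yon_map_apply, (yon S).map_comp, hε, Category.assoc, Points.map_comp, hu,
        ← Points.map_comp, ← Category.assoc, sqU5.lift_snd, sq5.lift_fst, Points.map_comp, hz'1, hz2]
    · rw [Category.assoc, sqS.isoPullback_hom_snd, ← Over.comp_left, Over.w b1]
      refine (schProp_iff hP (ε ≫ pullback.snd f1 b1)).2 ?_
      rw [(yon S).map_comp, hε, Category.assoc]
      have : pullback.snd ℓ l25 ≫ (yon S).map (pullback.snd f1 b1) =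
          pullback.fst ℓ l25 ≫ pullback.snd (e ≫ q) (c ≫ pullback.fst b bT) := by
        rw [← sqℓ2.lift_snd _ _ e5, ← Category.assoc, ← pullback.condition, Category.assoc]
        exact congr_arg _ (sqW2.lift_snd _ _ _)
      rw [this, ← Category.assoc]
      exact hP.precomp hU1 hU2 hV1 _ _ (isEtaleMor_comp hdet hfst5) hPU2

end Groth.L23.StLocal
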