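import Groth.Agent.L23.Subspace
import Groth.Agent.L23.SourceReduced
import Groth.Agent.L23.Points
import Groth.Agent.L23.EqvRel
import Groth.Agent.L18.KerReduced
import Groth.Prelude.Def_AlgSpSub

/-!
# Reduced closed subspaces
-/

universe u

open CategoryTheory CategoryTheory.Limits AlgebraicGeometry Opposite AlgSp TopologicalSpace

set_option autoImplicit false
set_option linter.style.haveILetI false
set_option backward.isDefEq.respectTransparency.types false

namespace Groth.L23

variable {S : Scheme.{u}}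

theorem exists_presentation {X : Sp S} (hX : IsAlgSpace X) :
    ∃ (U R : Over S) (s t : R ⟶ U) (p : (yon S).obj U ⟶ X), IsPresentation s t p := by
  obtain ⟨U, p, hp, hps⟩ := hX.atlas
  obtain ⟨R, t, s, sq⟩ := exists_isPullback_of_representable hp.1 p
  exact ⟨U, R, s, t, p, isEtaleEqvRel_of_atlas hp sq, hp, hps, sq⟩

/-- Reduced closed subschemes with the same support are isomorphic. -/
theorem exists_iso_of_range_eq {A B R : Scheme.{u}} (a : A ⟶ R) (b : B ⟶ R) [IsClosedImmersion a]
    [IsClosedImmersion b] [IsReduced A] [IsReduced B] (h : Set.range a = Set.range b) :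
    ∃ e : A ≅ B, e.hom ≫ b = a := by
  haveI : Surjective (pullback.fst a b) := ⟨fun x => by
    show x ∈ Set.range (pullback.fst a b)
    rw [Scheme.Pullback.range_fst, Set.mem_preimage, ← h]
    exact ⟨x, rfl⟩⟩
  haveI : Surjective (pullback.snd a b) := ⟨fun x => by
    show x ∈ Set.range (pullback.snd a b)
    rw [Scheme.Pullback.range_snd, Set.mem_preimage, h]
    exact ⟨x, rfl⟩⟩
  haveI : IsIso (pullback.fst a b) := isIso_of_isClosedImmersion_of_surjective _
  haveI : IsIso (pullback.snd a b) := isIso_of_isClosedImmersion_of_surjective _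
  refine ⟨(asIso (pullback.fst a b)).symm ≪≫ asIso (pullback.snd a b), ?_⟩
  simp only [Iso.trans_hom, Iso.symm_hom, asIso_inv, asIso_hom, Category.assoc, ← pullback.condition,
    IsIso.inv_hom_id_assoc]

theorem isReducedSp_of_iso {X Y : Sp S} (f : X ⟶ Y) [IsIso f] (h : IsReducedSp X) : IsReducedSp Y := by
  obtain ⟨V, b, hb, hbs, hV⟩ := h
  exact ⟨V, b ≫ f, repWith_comp hb (repWith_of_isIso f), repWith_comp hbs (repWith_of_isIso f), hV⟩

theorem mono_of_closedImmersion {Z X : Sp S} {i : Z ⟶ X} (hi : RepWith @IsClosedImmersion i) : Mono i :=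
  mono_of_repWith (P := @IsClosedImmersion) (fun _ _ φ (_ : IsClosedImmersion φ) => inferInstanceAs (Mono φ)) hi

theorem isClosed_range_map_of_closedImmersion {Z X : Sp S} {i : Z ⟶ X}
    (hi : RepWith @IsClosedImmersion i) : IsClosed (Set.range (Points.map i)) :=
  (isClosedMap_map_of_representable hi.1 fun _ g => by
    haveI : IsClosedImmersion (hi.1.snd g).left := repWith_snd hi g
    exact (hi.1.snd g).left.isClosedEmbedding.isClosedMap).isClosed_range

/-- A morphism from a reduced space whose image lies in a closed subspace factors through it. -/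
theorem exists_factor_of_range_subset {X Y Z : Sp S} {i : Z ⟶ X} (hi : RepWith @IsClosedImmersion i)
    (hY : IsReducedSp Y) (f : Y ⟶ X) (h : Set.range (Points.map f) ⊆ Set.range (Points.map i)) :
    ∃ g : Y ⟶ Z, g ≫ i = f := by
  obtain ⟨V, b, hb, hbs, hV⟩ := hY
  haveI : IsReduced V.left := hV
  have sq := hi.1.isPullback (b ≫ f)
  haveI : IsClosedImmersion (hi.1.snd (b ≫ f)).left := repWith_snd hi _
  haveI : Surjective (hi.1.snd (b ≫ f)).left := ⟨fun v => by
    obtain ⟨x, hx⟩ := h ⟨Points.ofPt b v, rfl⟩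
    obtain ⟨w, -, hw⟩ := exists_point_of_isPullback sq (x := x) (u := v) (hx.trans (Points.map_ofPt b f v))
    exact ⟨w, hw⟩⟩
  haveI : IsIso (hi.1.snd (b ≫ f)).left := isIso_of_isClosedImmersion_of_surjective _
  haveI : IsIso ((Over.forget S).map (hi.1.snd (b ≫ f))) := ‹IsIso (hi.1.snd (b ≫ f)).left›
  haveI : IsIso (hi.1.snd (b ≫ f)) := isIso_of_reflects_iso _ (Over.forget S)
  haveI : IsIso ((yon S).map (hi.1.snd (b ≫ f))) := inferInstance
  haveI := mono_of_closedImmersion hi
  haveI := epi_of_repWith b hb hbs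
  refine exists_factor_of_epi_of_mono b i f (inv ((yon S).map (hi.1.snd (b ≫ f))) ≫ hi.1.fst (b ≫ f)) ?_
  rw [Category.assoc, sq.w, IsIso.inv_hom_id_assoc]

/-- Existence of the reduced closed subspace on a closed set of points. -/
theorem exists_isRedInduced {X : Sp S} (hX : IsAlgSpace X) {T : Set (Points X)} (hT : IsClosed T) :
    ∃ (Z : Sp S) (_ : IsAlgSpace Z) (i : Z ⟶ X), IsRedInduced T i := by
  obtain ⟨U, R, s, t, p, hp⟩ := exists_presentation hX
  let C : Closeds U.left := ⟨Points.ofPt p ⁻¹' T, hT.preimage (Points.continuous_ofPt p)⟩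
  let I := Scheme.IdealSheafData.vanishingIdeal C
  haveI : IsReduced I.subscheme := Groth.L18.isReduced_vanishingIdeal_subscheme C
  let Z' : Over S := Over.mk (I.subschemeι ≫ U.hom)
  let i' : Z' ⟶ U := Over.homMk I.subschemeι rfl
  haveI : IsClosedImmersion i'.left := inferInstanceAs (IsClosedImmersion I.subschemeι)
  have hr : Set.range I.subschemeι = (C : Set U.left) := by
    rw [Scheme.IdealSheafData.range_subschemeι, Scheme.IdealSheafData.coe_support_vanishingIdeal]
  haveI : Etale s.left := hp.eqvRel.etale_left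
  haveI : Etale t.left := hp.eqvRel.etale_right
  haveI : IsReduced (pullback s.left I.subschemeι) := isReduced_of_etale (pullback.snd s.left I.subschemeι)
  haveI : IsReduced (pullback t.left I.subschemeι) := isReduced_of_etale (pullback.snd t.left I.subschemeι)
  have hst : ∀ r : R.left, Points.ofPt p (s.left r) = Points.ofPt p (t.left r) := fun r => by
    rw [← ofPt_comp, ← ofPt_comp, hp.isPullback.w]
  obtain ⟨e, he⟩ := exists_iso_of_range_eq (pullback.fst s.left I.subschemeι)
    (pullback.fst t.left I.subschemeι) (by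
      rw [Scheme.Pullback.range_fst, Scheme.Pullback.range_fst, hr]
      ext r
      show Points.ofPt p (s.left r) ∈ T ↔ Points.ofPt p (t.left r) ∈ T
      rw [hst])
  let R' : Over S := Over.mk (pullback.fst s.left I.subschemeι ≫ R.hom)
  let k : R' ⟶ R := Over.homMk (pullback.fst s.left I.subschemeι) rfl
  have hws : (pullback.snd s.left I.subschemeι) ≫ Z'.hom = R'.hom := by
    show _ ≫ I.subschemeι ≫ U.hom = _ ≫ R.hom
    rw [← reassoc_of% pullback.condition, Over.w s]
  have hwt : (e.hom ≫ pullback.snd t.left I.subschemeι) ≫ Z'.hom = R'.hom := by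
    show _ ≫ I.subschemeι ≫ U.hom = _ ≫ R.hom
    rw [Category.assoc, ← reassoc_of% pullback.condition, Over.w t, reassoc_of% he]
  let s' : R' ⟶ Z' := Over.homMk (pullback.snd s.left I.subschemeι) hws
  let t' : R' ⟶ Z' := Over.homMk (e.hom ≫ pullback.snd t.left I.subschemeι) hwt
  have hs : IsPullback k s' s i' := isPullback_over (IsPullback.of_hasPullback _ _)
  have ht : IsPullback k t' t i' := isPullback_over
    ((IsPullback.of_hasPullback t.left I.subschemeι).of_iso e.symm (Iso.refl _) (Iso.refl _) (Iso.refl _)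
      (by simp [k, ← he]) (by simp [t']) (by simp) (by simp [i']))
  obtain ⟨Z, hZ, i, q, -, sq, hcl, -⟩ := exists_subspace_of_invariant hX hp i' k s' t' hs ht
  refine ⟨Z, hZ, i, hcl inferInstance, ?_, Z', q, repWith_of_isPullback sq.flip hp.etale,
    repWith_of_isPullback sq.flip hp.surjective, inferInstanceAs (IsReduced I.subscheme)⟩
  ext x
  constructor
  · rintro ⟨z, rfl⟩
    obtain ⟨w, rfl⟩ := surjective_ofPt (repWith_of_isPullback sq.flip hp.surjective) z
    rw [map_ofPt_of_isPullback sq]
    have : I.subschemeι w ∈ Set.range I.subschemeι := ⟨w, rfl⟩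
    rw [hr] at this
    exact this
  · intro hx
    obtain ⟨v, rfl⟩ := surjective_ofPt hp.surjective x
    have : v ∈ Set.range I.subschemeι := by rw [hr]; exact hx
    obtain ⟨w, rfl⟩ := this
    exact ⟨Points.ofPt q w, map_ofPt_of_isPullback sq w⟩

theorem IsRedInduced.isClosed {X Z : Sp S} {T : Set (Points X)} {i : Z ⟶ X} (h : IsRedInduced T i) :
    IsClosed T := h.2.1 ▸ isClosed_range_map_of_closedImmersion h.1

/-- The scheme theoretic image of a morphism from a reduced space is the reduced closure of its image. -/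
theorem isRedInduced_of_isSchImage {X Y Z : Sp S} (hY : IsAlgSpace Y) {f : X ⟶ Y} {i : Z ⟶ Y}
    (hX : IsReducedSp X) (h : IsSchImage f i) :
    IsRedInduced (closure (Set.range (Points.map f))) i := by
  obtain ⟨hi, ⟨f', rfl⟩, hu⟩ := h
  obtain ⟨Z₀, hZ₀, i₀, hi₀, hr₀, hred⟩ := exists_isRedInduced hY
    (isClosed_closure (s := Set.range (Points.map (f' ≫ i))))
  obtain ⟨k, hk⟩ := hu i₀ hZ₀ hi₀
    (exists_factor_of_range_subset hi₀ hX _ (by rw [hr₀]; exact subset_closure))
  have hsub : Set.range (Points.map i₀) ⊆ Set.range (Points.map i) := by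
    rw [hr₀]
    refine closure_minimal ?_ (isClosed_range_map_of_closedImmersion hi)
    rintro _ ⟨x, rfl⟩
    exact ⟨Points.map f' x, (Points.map_comp _ _ _).symm⟩
  obtain ⟨l, hl⟩ := exists_factor_of_range_subset hi hred i₀ hsub
  haveI := mono_of_closedImmersion hi
  haveI := mono_of_closedImmersion hi₀
  haveI : IsIso l := ⟨⟨k, by rw [← cancel_mono i₀, Category.assoc, hk, hl, Category.id_comp],
    by rw [← cancel_mono i, Category.assoc, hl, hk, Category.id_comp]⟩⟩
  refine ⟨hi, ?_, isReducedSp_of_iso l hred⟩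
  rw [← hr₀]
  refine (Set.Subset.antisymm ?_ hsub)
  rintro _ ⟨x, rfl⟩
  exact ⟨Points.map k x, by rw [← Points.map_comp, hk]⟩

end Groth.L23
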