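import Groth.Agent.L23.Decent3
import Groth.Agent.L23.QsTop
import Groth.Agent.L23.ThickScheme
import Groth.Agent.S10352
import Groth.Agent.L23.OpenCharts
import Groth.Agent.L23.OpenSub
import Groth.Agent.L23.AffineMor
import Groth.Agent.L23.Descent
import Groth.Agent.L20.GeomFibre
import Mathlib.CategoryTheory.Sites.LeftExact

/-!
# Decent spaces with one point and closed points
-/

universe u

open CategoryTheory CategoryTheory.Limits AlgebraicGeometry Opposite AlgSp Topology

set_option backward.isDefEq.respectTransparency.types false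
set_option linter.style.haveILetI false

namespace Groth.L23.Pt

variable {S : Scheme.{u}} {X : Sp S}

/-- A space covered by a field in the etale topology, quasi-compactly, is a field. -/
theorem exists_iso_field (hX : IsAlgSpace X) {k : Type u} [Field k] {str : Spec (CommRingCat.of k) ⟶ S}
    (p : (yon S).obj (Over.mk str) ⟶ X) (hp : RepWith @Etale p) (hs : RepWith @Surjective p)
    (hd : GoodPt (Points.ofPt p (IsLocalRing.closedPoint k))) :
    ∃ (k' : Type u) (_ : Field k') (str' : Spec (CommRingCat.of k') ⟶ S)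
      (e : (yon S).obj (Over.mk str') ≅ X) (c : Over.mk str ⟶ Over.mk str'),
      (yon S).map c ≫ e.hom = p ∧ IsFinite c.left ∧ Etale c.left := by
  have hq : RepWith @QuasiCompact p := by
    have := qc_of_goodPt hX hd (ofHom str p) (mk_ofHom str p _)
    rwa [toHom_ofHom] at this
  obtain ⟨P, p₀, p₁, sq⟩ := exists_isPullback_of_representable (hX.representable_from_yon p) p
  let π₀ : P.left ⟶ Spec (CommRingCat.of k) := p₀.left
  let π₁ : P.left ⟶ Spec (CommRingCat.of k) := p₁.left
  have : Etale π₀ := repWith_prop hp sq.flip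
  have : Etale π₁ := repWith_prop hp sq
  have : QuasiCompact π₀ := repWith_prop hq sq.flip
  have : QuasiCompact π₁ := repWith_prop hq sq
  have := lqf_of_etale π₀
  have := lqf_of_etale π₁
  have h₀ : IsFinite π₀ := IsFinite.of_locallyQuasiFinite π₀
  have h₁ : IsFinite π₁ := IsFinite.of_locallyQuasiFinite π₁
  obtain ⟨k', _, wk, πo, p', hf, he, -, hmono, hfac⟩ :=
    exists_factor_of_finite_etale hX p sq h₀ ‹_› h₁ ‹_› (IsLocalRing.closedPoint k)
  have := epi_of_repWith _ hp hs
  have : Epi p' := epi_of_epi_fac hfac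
  have : IsIso p' := isIso_of_mono_of_epi p'
  exact ⟨k', inferInstance, wk, asIso p', πo, hfac, hf, he⟩

/-- A reduced decent space with one point is a field. -/
theorem exists_iso_field_of_subsingleton (hX : IsAlgSpace X) (hd : IsDecent X)
    (hr : EtaleLocally (fun U => _root_.AlgebraicGeometry.IsReduced U) X) [Nonempty (Points X)]
    [Subsingleton (Points X)] :
    ∃ (k : Type u) (_ : Field k) (str : Spec (CommRingCat.of k) ⟶ S),
      Nonempty ((yon S).obj (Over.mk str) ≅ X) := by
  obtain ⟨p, -, hm, hq⟩ := hd (Classical.arbitrary _)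
  obtain ⟨U, a, ha, has, hU⟩ := hr
  obtain ⟨T, c, t₂, sT, hc, hinj, hrange⟩ := exists_fibre hX p a ha
  have : _root_.AlgebraicGeometry.IsReduced U.left := hU
  have hstrict := eq_of_specializes_of_isDecent hX hd ha
  have hdisc : ∀ z : U.left, IsOpen ({z} : Set U.left) := by
    intro z
    obtain ⟨_, ⟨B, hB, rfl⟩, hzB, -⟩ :=
      U.left.isBasis_affineOpens.exists_subset_of_mem_open (Set.mem_univ z) isOpen_univ
    change U.left.Opens at B
    have hb := repWith_comp (repWith_etale_openMk B) ha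
    have : IsAffine (Over.mk (B.ι ≫ U.hom) : Over S).left := hB
    have : Finite (B : Scheme.{u}) := Set.finite_univ_iff.1
      (((qc_iff_finite_fibres hX p).1 hq (Over.mk (B.ι ≫ U.hom)) _ this hb).subset fun w _ => Subsingleton.elim _ _)
    have : T1Space (B : Scheme.{u}) := t1Space_iff_specializes_imp_eq.2 fun v w h =>
      Subtype.ext ((hstrict w.1 v.1 (Subsingleton.elim _ _) (h.map B.ι.continuous)).symm)
    simpa using B.ι.isOpenEmbedding.isOpenMap _ (isOpen_discrete ({⟨z, hzB⟩} : Set (B : Scheme.{u})))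
  have : Mono ((yon S).map t₂) := sT.mono_snd_of_mono
  have : Mono t₂ := (yon S).mono_of_mono_map this
  have : Mono t₂.left := inferInstanceAs (Mono ((Over.forget S).map t₂))
  have := isOpenImmersion_of_mono_discrete hdisc t₂.left
  have : Surjective t₂.left := ⟨fun z => by
    have : z ∈ Set.range t₂.left := hrange ▸ (Subsingleton.elim _ _ : Points.ofPt a z = Points.mk p)
    exact this⟩
  have : IsIso t₂.left := by
    have : Epi t₂.left.base := (TopCat.epi_iff_surjective _).2 t₂.left.surjective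
    exact IsOpenImmersion.isIso _
  have : IsIso ((Over.forget S).map t₂) := ‹IsIso t₂.left›
  have : IsIso t₂ := isIso_of_reflects_iso t₂ (Over.forget S)
  have := epi_of_repWith _ ha has
  have : Epi p.toHom := epi_of_epi_fac (show (inv ((yon S).map t₂) ≫ (yon S).map c) ≫ p.toHom = a by
    rw [Category.assoc, sT.w, IsIso.inv_hom_id_assoc])
  have : IsIso p.toHom := isIso_of_mono_of_epi _
  exact ⟨p.K, inferInstance, _, ⟨asIso p.toHom⟩⟩

/-- Spaces etale over a field are schemes. -/
theorem exists_scheme_of_etale_field {Z : Space S} {k : Type u} [Field k] {str : Spec (CommRingCat.of k) ⟶ S}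
    (f : Z.obj ⟶ (yon S).obj (Over.mk str)) (hf : IsEtaleMor f) :
    ∃ (G : Over S) (θ : (yon S).obj G ⟶ Z.obj), IsIso θ := by
  let Y : Space S := ⟨(yon S).obj (Over.mk str), IsAlgSpace.yon_obj _⟩
  have hd : IsDecent Z.obj := Groth.Agent.S10352.result (Y := Y) (ObjectProperty.homMk f) hf (isDecent_yon _)
  obtain ⟨U, a, ha, has⟩ := Z.property.atlas
  obtain ⟨g, hg⟩ := (yon S).map_surjective (a ≫ f)
  let g₀ : U.left ⟶ Spec (CommRingCat.of k) := g.left
  have : Etale g₀ := (repWith_yon_map_iff _ _).1 (hg ▸ hf a ha)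
  have := lqf_of_etale g₀
  refine OpenCharts.exists_scheme_of_open_charts Z.property fun x => ?_
  obtain ⟨u, rfl⟩ := surjective_ofPt has x
  let B : U.left.Opens := ⟨{u}, isOpen_singleton_of_qf g₀ u⟩
  obtain ⟨Z', j, b, hZ', hj, hb, hbs, hbj, hr⟩ :=
    Qs.exists_openSub_chart Z.property (repWith_comp (repWith_etale_openMk B) ha)
  have hsub : Subsingleton (Points Z') := ⟨fun y y' => by
    obtain ⟨w, rfl⟩ := surjective_ofPt hbs y
    obtain ⟨w', rfl⟩ := surjective_ofPt hbs y'
    rw [show w = w' from Subtype.ext ((w.2 : w.1 = u).trans (w'.2 : w'.1 = u).symm)]⟩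
  have : Nonempty (Points Z') := ⟨Points.ofPt b (⟨u, rfl⟩ : (B : Scheme.{u}))⟩
  have := mono_of_repWith_openImmersion hj
  have hd' : IsDecent Z' := isDecent_of_representable j hj.1 hd
  have : _root_.AlgebraicGeometry.IsReduced (Spec (CommRingCat.of k)) := inferInstance
  have hred : _root_.AlgebraicGeometry.IsReduced U.left := isReduced_of_etale g₀
  obtain ⟨k', _, str', ⟨e⟩⟩ := exists_iso_field_of_subsingleton hZ' hd'
    ⟨_, b, hb, hbs, isReduced_of_isOpenImmersion B.ι⟩
  refine ⟨Over.mk str', e.hom ≫ j, IsLocalRing.closedPoint k', repWith_comp (repWith_of_isIso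
    (P := (@IsOpenImmersion : MorphismProperty Scheme.{u})) _) hj, ?_⟩
  rw [← Points.map_ofPt, Subsingleton.elim (Points.ofPt e.hom _) (Points.ofPt b (⟨u, rfl⟩ : (B : Scheme.{u}))),
    Points.map_ofPt, hbj]
  exact ofPt_openMk B a ⟨u, rfl⟩

theorem isRepresentable_of_iso {U : Over S} (e : (yon S).obj U ≅ X) : X.obj.IsRepresentable :=
  isRepresentable_iff_exists_iso.2 ⟨U, ⟨e⟩⟩

section Closed

variable (hX : IsAlgSpace X) (hd : IsDecent X)

include hX hd

/-- Points algebraic over closed points of the base are closed. -/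
theorem isClosed_of_integral {K : Type u} [Field K] {w : Spec (CommRingCat.of K) ⟶ S} [IsIntegralHom w]
    (p : (yon S).obj (Over.mk w) ⟶ X) (t : ↥(Spec (CommRingCat.of K))) : IsClosed ({Points.ofPt p t} : Set (Points X)) := by
  obtain ⟨ι, W, a, hW, ha, hcov, hA⟩ := Qs.exists_affine_charts hX
  rw [← isOpen_compl_iff, isOpen_iff_forall_mem_open]
  intro y hy
  obtain ⟨i, v, rfl⟩ := hcov y
  obtain ⟨A, hA', hWA⟩ := hA i
  have := hW i
  obtain ⟨m, hm, hmm, hq⟩ := hd (Points.ofPt p t)
  have hfin : (Points.ofPt (a i) ⁻¹' {Points.ofPt p t}).Finite :=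
    hm ▸ (qc_iff_finite_fibres hX m).1 hq (W i) (a i) (hW i) (ha i)
  refine ⟨Points.ofPt (a i) '' (Points.ofPt (a i) ⁻¹' {Points.ofPt p t})ᶜ, ?_, ?_, ⟨v, hy, rfl⟩⟩
  · rintro _ ⟨z, hz, rfl⟩
    exact hz
  refine isOpenMap_ofPt (ha i) _ (isOpen_compl_iff.2 ?_)
  rw [← Set.biUnion_of_singleton (Points.ofPt (a i) ⁻¹' _)]
  refine hfin.isClosed_biUnion fun u hu => ?_
  obtain ⟨T, c, t₂, sT⟩ := exists_isPullback_of_representable (hX.representable_from_yon p) (a i)
  obtain ⟨z, -, hz⟩ := (ofPt_eq_ofPt_iff sT t u).1 hu.symm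
  let c₀ : T.left ⟶ Spec (CommRingCat.of K) := c.left
  have : Etale c₀ := repWith_prop (ha i) sT.flip
  have := lqf_of_etale c₀
  let O : T.left.Opens := ⟨{z}, isOpen_singleton_of_qf c₀ z⟩
  have : Finite (O : Scheme.{u}) := Set.finite_singleton z
  have : QuasiCompact (O.ι ≫ c₀) := quasiCompact_of_finite _
  have : LocallyQuasiFinite (O.ι ≫ c₀) := lqf_of_etale _
  have : IsFinite (O.ι ≫ c₀) := IsFinite.of_locallyQuasiFinite _
  have : IsAffine (A : Scheme.{u}) := hA'
  have : IsSeparated (W i).hom := by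
    rw [← IsOpenImmersion.lift_fac A.ι (W i).hom (by rintro _ ⟨x, rfl⟩; exact ⟨⟨_, hWA x⟩, rfl⟩)]
    infer_instance
  have : IsIntegralHom ((O.ι ≫ t₂.left) ≫ (W i).hom) := by
    rw [Category.assoc, Over.w t₂, ← Over.w c]
    show IsIntegralHom (O.ι ≫ c₀ ≫ w)
    rw [← Category.assoc]; infer_instance
  have := MorphismProperty.of_postcomp (W := @IsIntegralHom) (W' := @IsSeparated) (O.ι ≫ t₂.left) (W i).hom
    ‹_› ‹_›
  have hc := (O.ι ≫ t₂.left).isClosedMap Set.univ isClosed_univ
  convert hc using 1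
  ext z'
  simp only [Set.mem_singleton_iff, Set.image_univ, Set.mem_range]
  refine ⟨fun h => ⟨⟨z, rfl⟩, h ▸ hz⟩, ?_⟩
  rintro ⟨⟨z₁, hz₁⟩, rfl⟩
  obtain rfl : z₁ = z := hz₁
  exact hz

/-- Finiteness over the base gives finiteness of a point. -/
theorem isFinite_of_finite {K : Type u} [Field K] {w : Spec (CommRingCat.of K) ⟶ S} [IsFinite w]
    (p : (yon S).obj (Over.mk w) ⟶ X) : RepWith @IsFinite p := by
  have := isLocalAtTarget_fppf (@IsFinite : MorphismProperty Scheme.{u})
  have hq : RepWith @QuasiCompact p := by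
    have := qc_of_goodPt hX (hd (Points.ofPt p (IsLocalRing.closedPoint K))) (ofHom w p) (mk_ofHom w p _)
    rwa [toHom_ofHom] at this
  obtain ⟨U, a, ha, has⟩ := hX.atlas
  have := isLocallySurjective_of_etale a ha has
  obtain ⟨T, c, t₂, sT⟩ := exists_isPullback_of_representable (hX.representable_from_yon p) a
  refine repWith_of_locallySurjective (hX.representable_from_yon p) sT (repWith_map ?_)
  let c₀ : T.left ⟶ Spec (CommRingCat.of K) := c.left
  have : Etale c₀ := repWith_prop ha sT.flip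
  have : QuasiCompact t₂.left := repWith_prop hq sT
  let κ := {B : U.left.Opens // IsAffineOpen B ∧ ∃ A : S.Opens, IsAffineOpen A ∧ ∀ x ∈ B, U.hom x ∈ A}
  have hcov : ⨆ B : κ, B.1 = ⊤ := by
    refine top_le_iff.1 fun u _ => ?_
    obtain ⟨_, ⟨A, hA, rfl⟩, hAu, -⟩ :=
      S.isBasis_affineOpens.exists_subset_of_mem_open (Set.mem_univ (U.hom u)) isOpen_univ
    change S.Opens at A
    obtain ⟨_, ⟨B, hB, rfl⟩, hBu, hBA⟩ :=
      U.left.isBasis_affineOpens.exists_subset_of_mem_open (show u ∈ U.hom ⁻¹ᵁ A from hAu) (U.hom ⁻¹ᵁ A).isOpen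
    change U.left.Opens at B
    exact TopologicalSpace.Opens.mem_iSup.2 ⟨⟨B, hB, A, hA, fun z hz => hBA hz⟩, hBu⟩
  refine (IsZariskiLocalAtTarget.iff_of_iSup_eq_top (P := @IsFinite) _ hcov).2 fun B => ?_
  obtain ⟨A, hA, hBA⟩ := B.2.2
  let O := t₂.left ⁻¹ᵁ B.1
  have : IsAffine (B.1 : Scheme.{u}) := B.2.1
  have : CompactSpace (O : Scheme.{u}) := QuasiCompact.compactSpace_of_compactSpace (t₂.left ∣_ B.1)
  have : Finite (O : Scheme.{u}) := finite_of_etale_field (O.ι ≫ c₀)
  have : QuasiCompact (O.ι ≫ c₀) := quasiCompact_of_finite _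
  have : LocallyQuasiFinite (O.ι ≫ c₀) := lqf_of_etale _
  have : IsFinite (O.ι ≫ c₀) := IsFinite.of_locallyQuasiFinite _
  have : IsAffine (A : Scheme.{u}) := hA
  have : IsSeparated (B.1.ι ≫ U.hom) := by
    rw [← IsOpenImmersion.lift_fac A.ι (B.1.ι ≫ U.hom) (by
      rintro _ ⟨x, rfl⟩; exact ⟨⟨_, hBA x.1 x.2⟩, rfl⟩)]
    infer_instance
  have : IsFinite ((t₂.left ∣_ B.1) ≫ B.1.ι ≫ U.hom) := by
    rw [morphismRestrict_ι_assoc, Over.w t₂, ← Over.w c]
    show IsFinite (O.ι ≫ c₀ ≫ w)
    rw [← Category.assoc]; infer_instance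
  exact MorphismProperty.of_postcomp (W := @IsFinite) (W' := @IsSeparated) (t₂.left ∣_ B.1) (B.1.ι ≫ U.hom) ‹_› ‹_›

theorem exists_closedImmersion (x : Points X) (hx : IsClosed ({x} : Set (Points X))) :
    ∃ p : FieldPt X, Points.mk p = x ∧ RepWith @IsClosedImmersion p.toHom := by
  obtain ⟨p, hp, hm, hq⟩ := hd x
  refine ⟨p, hp, ?_⟩
  have := isLocalAtTarget_fppf (@IsClosedImmersion : MorphismProperty Scheme.{u})
  obtain ⟨U, a, ha, has⟩ := hX.atlas
  have := isLocallySurjective_of_etale a ha has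
  obtain ⟨T, c, t₂, sT, hc, hinj, hr⟩ := exists_fibre hX p a ha
  refine repWith_of_locallySurjective (hX.representable_from_yon p.toHom) sT (repWith_map ?_)
  have : Mono ((yon S).map t₂) := sT.mono_snd_of_mono
  have : Mono t₂ := (yon S).mono_of_mono_map this
  have : Mono t₂.left := inferInstanceAs (Mono ((Over.forget S).map t₂))
  rw [hp] at hr
  have hcl : IsClosed (Set.range t₂.left) := hr ▸ hx.preimage (Points.continuous_ofPt a)
  let c₀ : T.left ⟶ Spec (CommRingCat.of p.K) := c.left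
  have : Etale c₀ := hc
  have := lqf_of_etale c₀
  have hzo := fun z => isOpen_singleton_of_qf c₀ z
  have hred : _root_.AlgebraicGeometry.IsReduced T.left := isReduced_of_etale c₀
  have hemb : IsEmbedding t₂.left := by
    refine ⟨⟨le_antisymm t₂.left.continuous.le_induced fun V _ => ?_⟩, hinj⟩
    suffices ∀ z, IsOpen[TopologicalSpace.induced t₂.left inferInstance] {z} by
      rw [← Set.biUnion_of_singleton V]
      exact @isOpen_biUnion _ _ (TopologicalSpace.induced t₂.left inferInstance) _ _ fun z _ => this z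
    intro z
    obtain ⟨_, ⟨B, hB, rfl⟩, hzB, -⟩ :=
      U.left.isBasis_affineOpens.exists_subset_of_mem_open (Set.mem_univ (t₂.left z)) isOpen_univ
    change U.left.Opens at B
    have hb := repWith_comp (repWith_etale_openMk B) ha
    have : IsAffine (Over.mk (B.ι ≫ U.hom) : Over S).left := hB
    have hfin := ((qc_iff_finite_fibres hX p).1 hq (Over.mk (B.ι ≫ U.hom)) _ this hb).image B.ι
    have hx' : ∀ u : U.left, Points.ofPt a u = x → IsClosed ({u} : Set U.left) := fun u hu => by
      rw [← closure_subset_iff_isClosed]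
      intro v hv
      have hs : x ⤳ Points.ofPt a v := hu ▸ (specializes_iff_mem_closure.2 hv).map (Points.continuous_ofPt a)
      have hv' : Points.ofPt a v = x := hx.closure_eq.le (specializes_iff_mem_closure.1 hs)
      exact eq_of_specializes_of_isDecent hX hd ha v u (hv'.trans hu.symm) (specializes_iff_mem_closure.2 hv)
    refine isOpen_induced_iff.2 ⟨(B : Set U.left) ∩ (⋃ u ∈ B.ι '' (Points.ofPt
      ((yon S).map (Over.homMk B.ι rfl : Over.mk (B.ι ≫ U.hom) ⟶ U) ≫ a) ⁻¹' {Points.mk p}) \ {t₂.left z}, {u})ᶜ,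
      B.isOpen.inter ((hfin.subset Set.sdiff_subset).isClosed_biUnion fun u hu => ?_).isOpen_compl, ?_⟩
    · obtain ⟨⟨w', hw', rfl⟩, -⟩ := hu
      exact hx' _ (hp ▸ (ofPt_openMk B a w').symm.trans hw')
    ext z'
    constructor
    · rintro ⟨hzB', hz'⟩
      by_contra hne
      refine hz' (Set.mem_biUnion (x := t₂.left z') ⟨⟨⟨t₂.left z', hzB'⟩, ?_, rfl⟩, fun h => hne (hinj h)⟩ rfl)
      exact (ofPt_openMk B a ⟨t₂.left z', hzB'⟩).trans (hp ▸ hr.le ⟨z', rfl⟩)
    · rintro rfl
      refine ⟨hzB, fun h => ?_⟩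
      obtain ⟨u, hu, hu'⟩ := Set.mem_iUnion₂.1 h
      exact hu.2 (hu'.symm : u = t₂.left z')
  have : SurjectiveOnStalks t₂.left := by
    let O : T.left → T.left.Opens := fun z => ⟨{z}, hzo z⟩
    refine IsZariskiLocalAtSource.of_openCover (P := @SurjectiveOnStalks)
      (Scheme.openCoverOfIsOpenCover T.left O (top_le_iff.1 fun z _ => TopologicalSpace.Opens.mem_iSup.2 ⟨z, rfl⟩)) fun z => ?_
    show SurjectiveOnStalks ((O z).ι ≫ t₂.left)
    have : Subsingleton (O z : Scheme.{u}) := ⟨fun a b => Subtype.ext (a.2.trans b.2.symm)⟩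
    have : IrreducibleSpace (O z : Scheme.{u}) := { toPreirreducibleSpace := ⟨fun u v _ _ ⟨a, _, ha⟩ ⟨b, _, hb⟩ =>
      ⟨a, trivial, ha, Subsingleton.elim b a ▸ hb⟩⟩, toNonempty := ⟨⟨z, rfl⟩⟩ }
    have : _root_.AlgebraicGeometry.IsIntegral (O z : Scheme.{u}) := isIntegral_of_irreducibleSpace_of_isReduced _
    let R := Γ((O z : Scheme.{u}), ⊤)
    let : Field R := (isField_of_isIntegral_of_subsingleton _).toField
    let φ : Spec (CommRingCat.of R) ⟶ U.left := (O z : Scheme.{u}).isoSpec.inv ≫ (O z).ι ≫ t₂.left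
    have : Mono φ := inferInstance
    let u := φ (IsLocalRing.closedPoint R)
    let ψ := Spec.map (Scheme.descResidueField (Scheme.stalkClosedPointTo φ))
    have hψ : ψ ≫ U.left.fromSpecResidueField u = φ :=
      Scheme.descResidueField_stalkClosedPointTo_fromSpecResidueField R U.left φ
    have : Mono (ψ ≫ U.left.fromSpecResidueField u) := hψ.symm ▸ ‹Mono φ›
    have : Mono ψ := mono_of_mono ψ (U.left.fromSpecResidueField u)
    have : IsIso ψ := isIso_of_mono_to_field (K := U.left.residueField u) ψ (IsLocalRing.closedPoint R)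
    have : SurjectiveOnStalks φ := by rw [← hψ]; infer_instance
    have e : (O z).ι ≫ t₂.left = (O z : Scheme.{u}).isoSpec.hom ≫ φ :=
      ((O z : Scheme.{u}).isoSpec.hom_inv_id_assoc _).symm
    rw [e]; infer_instance
  have : IsPreimmersion t₂.left := ⟨hemb⟩
  exact IsClosedImmersion.of_isPreimmersion t₂.left hcl

end Closed

end Groth.L23.Pt
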