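import Groth.Agent.L23.AffineQuot
import Groth.Agent.L23.SchemeGen
import Groth.Agent.L23.Sober
import Groth.Agent.L23.OpenCharts
import Groth.Agent.L23.QsTop
import Groth.Agent.L23.FieldSpace
import Groth.Agent.L24.Quot.Invariant

/-!
# The schematic locus
-/

universe u

open CategoryTheory CategoryTheory.Limits AlgebraicGeometry Opposite AlgSp Topology

set_option backward.isDefEq.respectTransparency.types false
set_option linter.style.haveILetI false

namespace Groth.L23.SL

variable {S : Scheme.{u}} {X Y : Sp S}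

/-- A point with a neighbourhood which is a scheme. -/
def SchemePt (x : Points X) : Prop :=
  ∃ (A : Over S) (a : (yon S).obj A ⟶ X) (t : ↥A.left), RepWith @IsOpenImmersion a ∧ Points.ofPt a t = x

theorem SchemePt.map {j : Y ⟶ X} (hj : RepWith @IsOpenImmersion j) {y : Points Y} (h : SchemePt y) :
    SchemePt (Points.map j y) := by
  obtain ⟨A, a, t, ha, rfl⟩ := h
  exact ⟨A, a ≫ j, t, repWith_comp ha hj, (Points.map_ofPt _ _ _).symm⟩

theorem isOpen_schemePt : IsOpen {x : Points X | SchemePt x} := by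
  rw [isOpen_iff_forall_mem_open]
  rintro _ ⟨A, a, t, ha, rfl⟩
  refine ⟨Set.range (Points.ofPt a), fun x ⟨t', ht'⟩ => ⟨A, a, t', ha, ht'⟩, ?_, ⟨t, rfl⟩⟩
  exact (isOpenMap_ofPt (repWith_mono (fun f (_ : IsOpenImmersion f) => inferInstanceAs (Etale f)) ha)).isOpen_range

/-- The schematic locus is an open subscheme. -/
theorem exists_locus (hX : IsAlgSpace X) : ∃ (X' : Space S) (j : X'.obj ⟶ X),
    RepWith @IsOpenImmersion j ∧ X'.obj.obj.IsRepresentable ∧ Set.range (Points.map j) = {x | SchemePt x} := by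
  let O : TopologicalSpace.Opens (Points X) := ⟨_, isOpen_schemePt⟩
  have hr := range_openSubι O
  have hj := repWith_openSubι O
  have := mono_of_repWith_openImmersion hj
  refine ⟨⟨_, isAlgSpace_openSub O hX⟩, openSubι O, hj, ?_, hr⟩
  obtain ⟨G, θ, hθ⟩ := OpenCharts.exists_scheme_of_open_charts (isAlgSpace_openSub O hX) fun y => by
    obtain ⟨A, a, t, ha, hat⟩ : SchemePt (Points.map (openSubι O) y) := hr.le ⟨y, rfl⟩
    obtain ⟨a', ha'⟩ := (exists_factor_iff hj a).2 (by
      rw [hr]
      rintro _ ⟨w, rfl⟩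
      obtain ⟨w', rfl⟩ := (Points.schemeEquiv A).surjective w
      exact ⟨A, a, w', ha, Points.ofPt_eq_map_ofScheme a w'⟩)
    refine ⟨A, a', t, repWith_of_comp_mono (m := openSubι O) (ha'.symm ▸ ha), ?_⟩
    refine QFL.map_injective_of_mono (openSubι O) ?_
    rw [Points.map_ofPt, ha', hat]
  exact Pt.isRepresentable_of_iso (asIso θ)

/-- Minimality passes between points with the same image. -/
theorem minimal_of_eq (hX : IsAlgSpace X) {U W : Over S} {a : (yon S).obj U ⟶ X} (ha : RepWith @Etale a)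
    {b : (yon S).obj W ⟶ X} (hb : RepWith @Etale b) {η : U.left} (hη : ∀ y, y ⤳ η → y = η) {w : W.left}
    (e : Points.ofPt a η = Points.ofPt b w) : ∀ y, y ⤳ w → y = w := by
  intro y hy
  obtain ⟨R, p, q, sq⟩ := exists_isPullback_of_representable (hX.representable_from_yon a) b
  obtain ⟨r, hr, hr'⟩ := (ofPt_eq_ofPt_iff sq η w).1 e
  have : Etale p.left := repWith_prop hb sq.flip
  have : Etale q.left := repWith_prop ha sq
  have := lqf_of_etale p.left
  obtain ⟨r', hr's, hr''⟩ := Flat.generalizingMap q.left (show y ⤳ q.left r by rw [hr']; exact hy)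
  have h1 : p.left r' = η := hη _ (hr ▸ hr's.map p.left.continuous)
  have : r' = r := eq_of_specializes_of_lqf p.left hr's (h1.trans hr.symm)
  rw [← hr'', this, hr']

/-- The class of a point inside an affine open gives a schematic point. -/
theorem schemePt_of_finite_etale (hX : IsAlgSpace X) {U : Over S} {p : (yon S).obj U ⟶ X}
    (hf : RepWith @IsFinite p) (he : RepWith @Etale p) (u : U.left) (V : U.left.Opens) (hV : IsAffineOpen V)
    (huV : ∀ v, Points.ofPt p v = Points.ofPt p u → v ∈ V) : SchemePt (Points.ofPt p u) := by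
  obtain ⟨R, t, s, sq⟩ := exists_isPullback_of_representable (hX.representable_from_yon p) p
  let G := AQ.groupoid sq
  have : Etale s.left := repWith_prop he sq
  have : Etale t.left := repWith_prop he sq.flip
  have : IsFinite G.s := show IsFinite s.left from repWith_prop hf sq
  have : IsFinite G.t := show IsFinite t.left from repWith_prop hf sq.flip
  have : Flat G.s := inferInstanceAs (Flat s.left)
  have : LocallyOfFinitePresentation G.s := inferInstanceAs (LocallyOfFinitePresentation s.left)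
  obtain ⟨W, hW, -, huW, hWinv⟩ := Groth.Agent.L24.Quot.exists_invariant_affine G u V ⊤ hV
    (fun y ⟨r, hr, hry⟩ => ⟨huV y (hry ▸ (((ofPt_eq_ofPt_iff sq (t.left r) u).2 ⟨r, rfl, hr⟩))), trivial⟩)
  let O : TopologicalSpace.Opens (Points X) := ⟨_, isOpenMap_ofPt he _ W.2⟩
  have hpre : openPre O p = W := by
    refine SetLike.ext fun v => ⟨?_, fun hv => show Points.ofPt p v ∈ (O : Set (Points X)) from ⟨v, hv, rfl⟩⟩
    rintro ⟨w, hw, e⟩
    obtain ⟨r, hr, hr'⟩ := (ofPt_eq_ofPt_iff sq w v).1 e
    have h1 : r ∈ G.t ⁻¹ᵁ W := show t.left r ∈ W from hr.symm ▸ hw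
    rw [← hWinv] at h1
    exact hr' ▸ (show s.left r ∈ W from h1)
  obtain ⟨fst, sqO⟩ := isPullback_openSub O p
  have : IsAffine (Over.mk ((openPre O p).ι ≫ U.hom) : Over S).left :=
    show IsAffine (openPre O p : Scheme.{u}) by rw [hpre]; exact hW
  have hs : RepWith @Surjective fst := by
    refine repWith_surjective_of_map ((isAlgSpace_openSub O hX).representable_from_yon fst) fun y => ?_
    obtain ⟨w, hw, e⟩ : Points.map (openSubι O) y ∈ (O : Set (Points X)) := (range_openSubι O).le ⟨y, rfl⟩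
    have hw' : w ∈ openPre O p := ⟨w, hw, rfl⟩
    have := mono_of_repWith_openImmersion (repWith_openSubι O)
    refine ⟨Points.ofScheme (Over.mk ((openPre O p).ι ≫ U.hom)) ⟨w, hw'⟩, QFL.map_injective_of_mono (openSubι O) ?_⟩
    rw [← Points.ofPt_eq_map_ofScheme, map_ofPt_of_isPullback sqO ⟨w, hw'⟩]
    exact e
  obtain ⟨M, θ, -, hθ⟩ := AQ.exists_iso_of_affine_cover (isAlgSpace_openSub O hX)
    (repWith_of_isPullback sqO.flip hf) (repWith_of_isPullback sqO.flip he) hs
  have hu : Points.ofPt p u ∈ Set.range (Points.map (θ ≫ openSubι O)) := by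
    obtain ⟨y, hy⟩ := (range_openSubι O).ge (show Points.ofPt p u ∈ (O : Set (Points X)) from ⟨u, huW, rfl⟩)
    exact ⟨Points.map (inv θ) y, by rw [← Points.map_comp, IsIso.inv_hom_id_assoc, hy]⟩
  obtain ⟨m, hm⟩ := hu
  obtain ⟨m', rfl⟩ := (Points.schemeEquiv M).surjective m
  exact ⟨M, θ ≫ openSubι O, m', repWith_comp
    (repWith_of_isIso (P := (@IsOpenImmersion : MorphismProperty Scheme.{u})) θ) (repWith_openSubι O),
    (Points.ofPt_eq_map_ofScheme _ _).trans hm⟩

/-- Generic points of quasi-separated finite etale covers are schematic. -/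
theorem schemePt_of_minimal (hX : IsAlgSpace X) {U : Over S} [QuasiSeparatedSpace U.left] {p : (yon S).obj U ⟶ X}
    (hf : RepWith @IsFinite p) (he : RepWith @Etale p) (η : U.left) (hη : ∀ y, y ⤳ η → y = η) :
    SchemePt (Points.ofPt p η) := by
  obtain ⟨R, t, s, sq⟩ := exists_isPullback_of_representable (hX.representable_from_yon p) p
  have : IsFinite t.left := repWith_prop hf sq.flip
  have hfin : {v | Points.ofPt p v = Points.ofPt p η}.Finite := by
    refine ((t.left.finite_preimage_singleton η).image s.left).subset fun v hv => ?_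
    obtain ⟨r, hr, hr'⟩ := (ofPt_eq_ofPt_iff sq η v).1 (show Points.ofPt p v = _ from hv).symm
    exact ⟨r, hr, hr'⟩
  obtain ⟨V, hV, hsub, -⟩ := Gen.exists_affine_of_finite hfin
    (fun v hv => minimal_of_eq hX he he hη (show Points.ofPt p v = _ from hv).symm) ⊤ (by simp)
  exact schemePt_of_finite_etale hX hf he η V hV fun v hv => hsub hv

/-- Finiteness of the chart over a neighbourhood of a generic point gives a schematic point. -/
theorem schemePt_of_finite_nhd (hX : IsAlgSpace X) {W : Over S} [QuasiSeparatedSpace W.left]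
    {a : (yon S).obj W ⟶ X} (ha : RepWith @Etale a)
    {R : Over S} {t s : R ⟶ W} (sR : IsPullback ((yon S).map t) ((yon S).map s) a a)
    {η : W.left} (hη : ∀ y, y ⤳ η → y = η) (G : W.left.Opens) (hηG : η ∈ G) (hfin : IsFinite (t.left ∣_ G)) :
    SchemePt (Points.ofPt a η) := by
  let O : TopologicalSpace.Opens (Points X) := ⟨_, isOpenMap_ofPt ha _ G.2⟩
  obtain ⟨fst, sqO⟩ := isPullback_openSub O a
  let G' : Over S := Over.mk (G.ι ≫ W.hom)
  let g : G' ⟶ W := Over.homMk G.ι
  obtain ⟨b, hb⟩ := (exists_factor_openSub_iff O ((yon S).map g ≫ a)).2 fun w => by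
    rw [ofPt_comp]; exact ⟨w.1, w.2, rfl⟩
  have hj := repWith_openSubι O
  have := mono_of_repWith_openImmersion hj
  have hZ := isAlgSpace_openSub O hX
  have hbe : RepWith @Etale b := repWith_of_comp_mono (m := openSubι O)
    (hb.symm ▸ repWith_comp (repWith_etale_openMk G) ha)
  have hbs : RepWith @Surjective b := by
    refine repWith_surjective_of_map (hZ.representable_from_yon b) fun y => ?_
    obtain ⟨w, hw, e⟩ : Points.map (openSubι O) y ∈ (O : Set (Points X)) := (range_openSubι O).le ⟨y, rfl⟩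
    refine ⟨Points.ofScheme G' ⟨w, hw⟩, QFL.map_injective_of_mono (openSubι O) ?_⟩
    rw [← Points.ofPt_eq_map_ofScheme, Points.map_ofPt, hb, ofPt_openMk G a ⟨w, hw⟩]
    exact e
  have := isLocallySurjective_of_etale b hbe hbs
  let T : Over S := Over.mk ((t.left ⁻¹ᵁ G).ι ≫ R.hom)
  let p₁ : T ⟶ G' := Over.homMk (t.left ∣_ G) (by
    show (t.left ∣_ G) ≫ G.ι ≫ W.hom = (t.left ⁻¹ᵁ G).ι ≫ R.hom
    rw [morphismRestrict_ι_assoc, Over.w t])
  let ι : T ⟶ R := Over.homMk (t.left ⁻¹ᵁ G).ι
  let W' : Over S := Over.mk ((openPre O a).ι ≫ W.hom)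
  let w' : W' ⟶ W := Over.homMk (openPre O a).ι
  have s₀ : IsPullback ι p₁ t g :=
    IsPullback.of_map (Over.forget S) (Over.OverMorphism.ext (morphismRestrict_ι _ _).symm)
      (isPullback_morphismRestrict t.left G).flip
  have s₁ : IsPullback ((yon S).map ι ≫ (yon S).map s) ((yon S).map p₁) a ((yon S).map g ≫ a) := by
    have := (s₀.map (yon S)).paste_horiz sR.flip
    exact this
  obtain ⟨l, hl⟩ := (exists_factor_openSub_iff O ((yon S).map ι ≫ (yon S).map s ≫ a)).2 fun r => by
    rw [← sR.w, ← Functor.map_comp_assoc, ofPt_comp]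
    exact ⟨_, r.2, rfl⟩
  obtain ⟨m, hm₁, hm₂⟩ := sqO.exists_lift l ((yon S).map ι ≫ (yon S).map s) (by rw [hl, Category.assoc])
  obtain ⟨m, rfl⟩ := (yon S).map_surjective m
  have s₂ : IsPullback ((yon S).map m) ((yon S).map p₁) fst b := by
    refine IsPullback.mk' ?_ ?_ ?_
    · rw [← cancel_mono (openSubι O), Category.assoc, Category.assoc, sqO.w, ← Category.assoc]
      rw [hm₂, hb, s₁.w]
    · intro Z φ φ' h₁ h₂
      refine s₁.hom_ext ?_ h₂
      rw [← hm₂, ← Category.assoc, h₁, Category.assoc]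
    · intro Z x y e
      obtain ⟨k, hk₁, hk₂⟩ := s₁.exists_lift (x ≫ (yon S).map w') y (by
        rw [Category.assoc, ← sqO.w, ← Category.assoc, e, Category.assoc, hb])
      refine ⟨k, ?_, hk₂⟩
      have : Mono ((yon S).map w') := by
        have : Mono w'.left := inferInstanceAs (Mono (openPre O a).ι)
        have : Mono w' := (Over.forget S).mono_of_mono_map this
        exact (yon S).map_mono w'
      rw [← cancel_mono ((yon S).map w'), Category.assoc, hm₂, hk₁]
  have := isLocalAtTarget_fppf (@IsFinite : MorphismProperty Scheme.{u})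
  have hfst : RepWith @IsFinite fst :=
    repWith_of_locallySurjective (hZ.representable_from_yon fst) s₂ (repWith_map hfin)
  have : QuasiSeparatedSpace W'.left := (openPre O a).ι.isOpenEmbedding.quasiSeparatedSpace
  have hηO : η ∈ openPre O a := ⟨η, hηG, rfl⟩
  have := (schemePt_of_minimal hZ hfst (repWith_of_isPullback sqO.flip ha) ⟨η, hηO⟩ fun y hy =>
    Subtype.ext (hη y.1 (hy.map (openPre O a).ι.continuous))).map hj
  rwa [map_ofPt_of_isPullback sqO ⟨η, hηO⟩] at this

end Groth.L23.SL
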