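import Groth.Agent.L23.InfGlue

/-!
# Formal properties of morphisms of algebraic spaces read on charts
-/

universe u

open CategoryTheory CategoryTheory.Limits AlgebraicGeometry AlgSp Opposite

set_option backward.isDefEq.respectTransparency.types false

namespace Groth.L23

variable {S : Scheme.{u}}

/-- A lifting square of schemes as a lifting square of sheaves. -/
noncomputable abbrev mkInfSq {U V : Over S} (h : U ⟶ V) (A : Type u) [CommRing A] (I : Ideal A)
    (hI : I ^ 2 = ⊥) (x : Spec (CommRingCat.of (A ⧸ I)) ⟶ U.left) (y : Spec (CommRingCat.of A) ⟶ V.left)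
    (w : Spec.map (CommRingCat.ofHom (Ideal.Quotient.mk I)) ≫ y = x ≫ h.left) : InfSq ((yon S).map h) where
  A := A
  I := I
  sq_zero := hI
  str := y ≫ V.hom
  top := (yon S).map (Over.homMk x (by
    show x ≫ U.hom = Spec.map _ ≫ y ≫ V.hom
    rw [← Over.w h, ← Category.assoc, ← w, Category.assoc]))
  bot := (yon S).map (Over.homMk y rfl)
  comm := by
    rw [← Functor.map_comp, ← Functor.map_comp]
    exact congrArg _ (Over.OverMorphism.ext w.symm)

theorem formallySmoothHom_of_mor {U V : Over S} (h : U ⟶ V) (hh : IsFormallySmoothMor ((yon S).map h)) :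
    MoreMor.IsFormallySmoothHom h.left := by
  intro A _ I hI x y w
  obtain ⟨l, hl₁, hl₂⟩ := hh (mkInfSq h A I hI x y w)
  obtain ⟨l, rfl⟩ := (yon S).map_surjective l
  rw [← Functor.map_comp] at hl₁ hl₂
  exact ⟨l.left, congr($((yon S).map_injective hl₁).left), congr($((yon S).map_injective hl₂).left)⟩

theorem formallyEtaleHom_of_mor {U V : Over S} (h : U ⟶ V) (hh : IsFormallyEtaleMor ((yon S).map h)) :
    MoreMor.IsFormallyEtaleHom h.left := by
  intro A _ I hI x y w
  obtain ⟨l, ⟨hl₁, hl₂⟩, hu⟩ := hh (mkInfSq h A I hI x y w)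
  obtain ⟨l, rfl⟩ := (yon S).map_surjective l
  rw [← Functor.map_comp] at hl₁ hl₂
  refine ⟨l.left, ⟨congr($((yon S).map_injective hl₁).left), congr($((yon S).map_injective hl₂).left)⟩, ?_⟩
  rintro m ⟨hm₁, hm₂⟩
  let m' : (mkInfSq h A I hI x y w).ptT' ⟶ U := Over.homMk m (by
    show m ≫ U.hom = y ≫ V.hom
    rw [← Over.w h, ← Category.assoc, hm₂])
  have e := hu ((yon S).map m') ⟨(Functor.map_comp _ _ _).symm.trans (congrArg _ (Over.OverMorphism.ext hm₁)),
    (Functor.map_comp _ _ _).symm.trans (congrArg _ (Over.OverMorphism.ext hm₂))⟩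
  exact congr($((yon S).map_injective e).left)

theorem formallyUnramified_of_mor {U V : Over S} (h : U ⟶ V) (hh : IsFormallyUnramifiedMor ((yon S).map h)) :
    FormallyUnramified h.left := by
  refine FormallyUnramified.of_hom_ext h.left fun R R₀ φ hφ hk g₁ g₂ hg hgf => ?_
  let e := RingHom.quotientKerEquivOfSurjective (f := φ.hom) hφ
  let q : Spec (.of (R ⧸ RingHom.ker φ.hom)) ⟶ Spec R₀ := Spec.map (CommRingCat.ofHom e.symm.toRingHom)
  have hq : q ≫ Spec.map φ = Spec.map (CommRingCat.ofHom (Ideal.Quotient.mk (RingHom.ker φ.hom))) := by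
    show Spec.map _ ≫ _ = _
    rw [← Spec.map_comp]
    congr 1
    ext x
    exact e.symm_apply_apply (Ideal.Quotient.mk _ x)
  let sq := mkInfSq h R (RingHom.ker φ.hom) hk (q ≫ Spec.map φ ≫ g₁) (g₁ ≫ h.left)
    (by simp [← reassoc_of% hq])
  let m₁ : sq.ptT' ⟶ U := Over.homMk g₁ (by
    show g₁ ≫ U.hom = (g₁ ≫ h.left) ≫ V.hom
    rw [Category.assoc, Over.w h])
  let m₂ : sq.ptT' ⟶ U := Over.homMk g₂ (by
    show g₂ ≫ U.hom = (g₁ ≫ h.left) ≫ V.hom
    rw [hgf, Category.assoc, Over.w h])
  have e := hh sq ((yon S).map m₁) ((yon S).map m₂)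
    ((Functor.map_comp _ _ _).symm.trans (congrArg _ (Over.OverMorphism.ext
      (show Spec.map _ ≫ g₁ = q ≫ Spec.map φ ≫ g₁ by rw [← hq, Category.assoc]))))
    ((Functor.map_comp _ _ _).symm.trans (congrArg _ (Over.OverMorphism.ext rfl)))
    ((Functor.map_comp _ _ _).symm.trans (congrArg _ (Over.OverMorphism.ext
      (show Spec.map _ ≫ g₂ = q ≫ Spec.map φ ≫ g₁ by rw [← hq, Category.assoc, hg]))))
    ((Functor.map_comp _ _ _).symm.trans (congrArg _ (Over.OverMorphism.ext hgf.symm)))
  exact congr($((yon S).map_injective e).left)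

variable {X Y : Sp S} {f : X ⟶ Y}

theorem locP_formallySmoothHom (hf : IsFormallySmoothMor f) : LocP @MoreMor.IsFormallySmoothHom f :=
  fun _ _ a b h ha hb w => formallySmoothHom_of_mor h (smooth_of_comp _ b
    ((formallyEtale_iff b).1 (formallyEtale_of_repWith hb)).2
    (w ▸ smooth_comp a f ((formallyEtale_iff a).1 (formallyEtale_of_repWith ha)).1 hf))

theorem locP_formallyEtaleHom (hf : IsFormallyEtaleMor f) : LocP @MoreMor.IsFormallyEtaleHom f :=
  fun _ _ a b h ha hb w => formallyEtaleHom_of_mor h (etale_of_comp _ b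
    ((formallyEtale_iff b).1 (formallyEtale_of_repWith hb)).2
    (w ▸ etale_comp a f (formallyEtale_of_repWith ha) hf))

theorem locP_formallyUnramified (hf : IsFormallyUnramifiedMor f) : LocP @FormallyUnramified f :=
  fun _ _ a b h ha hb w => formallyUnramified_of_mor h (unramified_of_comp _ b
    (w ▸ unramified_comp a f ((formallyEtale_iff a).1 (formallyEtale_of_repWith ha)).2 hf))

theorem formallyUnramified_iff_locP (hX : IsAlgSpace X) (hY : IsAlgSpace Y) :
    IsFormallyUnramifiedMor f ↔ LocP @FormallyUnramified f := by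
  refine ⟨locP_formallyUnramified, fun h => ?_⟩
  obtain ⟨U, V, a, b, k, ha, has, hb, -, w⟩ := exists_chart hX hY f
  exact formallyUnramified_of_chart ha has hb w (h a b k ha hb w)

theorem formallyEtale_iff_locP (hX : IsAlgSpace X) (hY : IsAlgSpace Y) :
    IsFormallyEtaleMor f ↔ LocP @MoreMor.IsFormallyEtaleHom f := by
  refine ⟨locP_formallyEtaleHom, fun h => ?_⟩
  obtain ⟨U, V, a, b, k, ha, has, hb, -, w⟩ := exists_chart hX hY f
  exact formallyEtale_of_chart ha has hb w (h a b k ha hb w)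

end Groth.L23
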