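import Groth.Agent.L23.PureDescent
import Groth.Agent.L23.AffineMor
import Groth.Agent.L23.MorCalc
import Groth.Agent.L23.Epi
import Mathlib.Algebra.TrivSqZeroExt.Basic

/-!
# Universally schematically dominant quasi-compact monomorphisms are isomorphisms
-/

universe u

open CategoryTheory CategoryTheory.Limits AlgebraicGeometry Opposite AlgSp
open scoped TensorProduct

set_option backward.isDefEq.respectTransparency.types false

namespace Groth.L23

variable {S : Scheme.{u}} {X Y : Sp S}

lemma appTop_injective_of_flat_surjective {X' X : Scheme.{u}} (e : X' ⟶ X) [Flat e] [Surjective e] :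
    Function.Injective e.appTop := by
  rw [injective_iff_map_eq_zero]
  intro s hs
  refine TopCat.Presheaf.section_ext X.sheaf _ _ _ fun x _ => ?_
  obtain ⟨x', rfl⟩ := e.surjective x
  have hfl : (e.stalkMap x').hom.Flat := Flat.stalkMap e x'
  have : IsLocalHom (e.stalkMap x').hom := inferInstance
  have hinj : Function.Injective (e.stalkMap x').hom := by
    algebraize [(e.stalkMap x').hom]
    have : IsLocalHom (algebraMap _ _) := this
    have := Module.FaithfullyFlat.of_flat_of_isLocalHom
      (A := X.presheaf.stalk (e x')) (B := X'.presheaf.stalk x')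
    exact FaithfulSMul.algebraMap_injective (X.presheaf.stalk (e x')) (X'.presheaf.stalk x')
  refine hinj ?_
  show e.stalkMap x' (X.presheaf.germ ⊤ _ _ s) = e.stalkMap x' (X.presheaf.germ ⊤ _ _ 0)
  rw [Scheme.Hom.germ_stalkMap_apply, map_zero, map_zero]
  erw [hs]
  exact map_zero _

/-- The core: over an affine scheme. -/
theorem isIso_of_mono_affine (A : CommRingCat.{u}) (str : Spec A ⟶ S) {P : Sp S} (hP : IsAlgSpace P)
    (π : P ⟶ (yon S).obj (Over.mk str)) [Mono π] (hqc : IsQuasiCompactMor π)
    (hinj : ∀ (T : Over S) (g : T ⟶ Over.mk str) (Q : Sp S) (fst : Q ⟶ P)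
      (snd : Q ⟶ (yon S).obj T), IsPullback fst snd π ((yon S).map g) →
      ∀ s : Γ(T.left, ⊤), (∀ (W : Over S) (a : (yon S).obj W ⟶ Q) (c : W ⟶ T),
        a ≫ snd = (yon S).map c → c.left.appTop s = 0) → s = 0) : IsIso π := by
  let T : Over S := Over.mk str
  have : IsAffine T.left := inferInstanceAs (IsAffine (Spec A))
  -- a chart of `P` by an affine scheme
  obtain ⟨U₀, a₀, ha₀, has₀, hU₀⟩ := hqc (IsAlgSpace.yon_obj T) isQuasiCompactSp_of_compactSpace
    (𝟙 _) (𝟙 _) π IsPullback.of_id_fst
  have : CompactSpace U₀.left := hU₀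
  let 𝒰 := U₀.left.affineCover.finiteSubcover
  let j : (∐ fun i : 𝒰.I₀ => 𝒰.X i) ⟶ U₀.left := Sigma.desc fun i => 𝒰.f i
  have hjs : Surjective j := ⟨fun x => by
    obtain ⟨i, y, rfl⟩ := 𝒰.exists_eq x
    exact ⟨Sigma.ι 𝒰.X i y, by rw [← Scheme.Hom.comp_apply, Sigma.ι_desc]⟩⟩
  have hje : Etale j := IsZariskiLocalAtSource.sigmaDesc fun i => inferInstance
  let B : CommRingCat.{u} := Γ(∐ fun i : 𝒰.I₀ => 𝒰.X i, ⊤)
  let jB : Spec B ⟶ U₀.left := (∐ fun i : 𝒰.I₀ => 𝒰.X i).isoSpec.inv ≫ j
  let a₁ : (yon S).obj (Over.mk (jB ≫ U₀.hom)) ⟶ P :=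
    (yon S).map (Over.homMk jB : Over.mk (jB ≫ U₀.hom) ⟶ U₀) ≫ a₀
  have ha₁ : RepWith @Etale a₁ := repWith_comp (repWith_map (inferInstanceAs (Etale jB))) ha₀
  have has₁ : RepWith @Surjective a₁ :=
    repWith_comp (repWith_map (inferInstanceAs (Surjective jB))) has₀
  obtain ⟨φ, hφ⟩ := (yon S).map_surjective (a₁ ≫ π)
  obtain ⟨ψ, hψ⟩ := Spec.map_surjective φ.left
  clear_value a₁
  -- `U ×_T U ⟶ U` is etale
  have sqR := ha₁.1.isPullback a₁
  have hsnd : Etale (ha₁.1.snd a₁).left := repWith_snd ha₁ a₁
  obtain ⟨m, hm⟩ := (yon S).map_surjective (ha₁.1.fst a₁)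
  rw [← hm] at sqR
  have sqR' : IsPullback ((yon S).map m) ((yon S).map (ha₁.1.snd a₁))
      ((yon S).map φ) ((yon S).map φ) := by
    rw [hφ]
    refine IsPullback.mk' (by rw [reassoc_of% sqR.w]) (fun _ _ _ h₁ h₂ => sqR.hom_ext h₁ h₂) ?_
    intro W x y e
    exact ⟨sqR.lift x y (by rw [← cancel_mono π]; simpa using e), sqR.lift_fst _ _ _,
      sqR.lift_snd _ _ _⟩
  have sqS : IsPullback m.left (ha₁.1.snd a₁).left φ.left φ.left :=
    (IsPullback.of_map (yon S) ((yon S).map_injective (by simpa using sqR'.w)) sqR').map (Over.forget S)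
  -- algebra
  algebraize [ψ.hom]
  have hfl : Module.Flat B (B ⊗[A] B) := by
    have sqS' : IsPullback m.left (ha₁.1.snd a₁).left (Spec.map ψ) (Spec.map ψ) := by
      rw [hψ]; exact sqS
    have h1 : Flat (pullback.snd (Spec.map ψ) (Spec.map ψ)) := by
      rw [← MorphismProperty.cancel_left_of_respectsIso @Flat
        (sqS'.isoIsPullback _ _ (IsPullback.of_hasPullback (Spec.map ψ) (Spec.map ψ))).hom]
      exact (congrArg (fun e => Flat e) (sqS'.isoIsPullback_hom_snd _ _ _)).mpr inferInstance
    have h2 : Flat (pullback.fst (Spec.map ψ) (Spec.map ψ)) := by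
      rw [← pullbackSymmetry_hom_comp_snd]
      infer_instance
    have h3 : Flat ((pullbackSpecIso A B B).inv ≫ pullback.fst (Spec.map ψ) (Spec.map ψ)) :=
      inferInstance
    have h4 : Flat (Spec.map (CommRingCat.ofHom (algebraMap B (B ⊗[A] B)))) := by
      rw [← pullbackSpecIso_inv_fst A B B]
      exact h3
    rw [HasRingHomProperty.Spec_iff (P := @Flat)] at h4
    exact RingHom.flat_algebraMap_iff.1 h4
  have hui : ∀ (N : Type u) [AddCommGroup N] [Module A N],
      Function.Injective (fun n : N => (1 : B) ⊗ₜ[A] n) := by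
    intro N _ _
    letI : Module Aᵐᵒᵖ N := Module.compHom N ((RingHom.id A).fromOpposite mul_comm)
    haveI : IsCentralScalar A N := ⟨fun _ _ => rfl⟩
    let A' := TrivSqZeroExt A N
    suffices key : Function.Injective (fun x : A' => (1 : B) ⊗ₜ[A] x) by
      intro x y e
      have hh : (fun n : N => (1 : B) ⊗ₜ[A] n) x = (fun n : N => (1 : B) ⊗ₜ[A] n) y := e
      have := congrArg ((TrivSqZeroExt.inrHom A N).lTensor B) hh
      simp only [LinearMap.lTensor_tmul] at this
      exact TrivSqZeroExt.inr_injective (key this)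
    intro x y e
    let T' : Over S := Over.mk (Spec.map (CommRingCat.ofHom (algebraMap A A')) ≫ str)
    let g : T' ⟶ T := Over.homMk (Spec.map (CommRingCat.ofHom (algebraMap A A'))) rfl
    have sqQ := IsPullback.of_hasPullback π ((yon S).map g)
    rw [← sub_eq_zero]
    set z := x - y with hz'
    have hz : (1 : B) ⊗ₜ[A] z = 0 := by rw [hz', TensorProduct.tmul_sub]; exact sub_eq_zero.2 e
    have := hinj T' g _ _ _ sqQ ((Scheme.ΓSpecIso (CommRingCat.of A')).inv z) ?_
    · apply (ConcreteCategory.bijective_of_isIso (Scheme.ΓSpecIso (CommRingCat.of A')).inv).1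
      rw [this]
      exact (map_zero _).symm
    intro W b c hbc
    -- refine `W` by the chart
    have sqW := ha₁.1.isPullback (b ≫ pullback.fst π ((yon S).map g))
    obtain ⟨k, hk⟩ := (yon S).map_surjective (ha₁.1.fst (b ≫ pullback.fst π ((yon S).map g)))
    set d := ha₁.1.snd (b ≫ pullback.fst π ((yon S).map g))
    have : Etale d.left := repWith_snd ha₁ _
    have : Surjective d.left := repWith_prop has₁ sqW
    apply appTop_injective_of_flat_surjective d.left
    rw [map_zero]
    have hw : k ≫ φ = (d ≫ c) ≫ g := (yon S).map_injective (by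
      rw [Functor.map_comp, Functor.map_comp, Functor.map_comp, hφ, hk, reassoc_of% sqW.w,
        sqQ.w, reassoc_of% hbc]; exact (Category.assoc _ _ _).symm)
    have sq' : IsPullback
        (Spec.map (CommRingCat.ofHom (Algebra.TensorProduct.includeLeftRingHom : B →+* B ⊗[A] A')))
        (Spec.map (CommRingCat.ofHom
          (Algebra.TensorProduct.includeRight : A' →ₐ[A] B ⊗[A] A').toRingHom))
        (Spec.map (CommRingCat.ofHom (algebraMap A B)))
        (Spec.map (CommRingCat.ofHom (algebraMap A A'))) :=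
      isPullback_SpecMap_of_isPushout _ _ _ _ (CommRingCat.isPushout_tensorProduct A B A')
    have hwl : k.left ≫ Spec.map (CommRingCat.ofHom (algebraMap A B)) =
        (d ≫ c).left ≫ Spec.map (CommRingCat.ofHom (algebraMap A A')) := by
      have := congrArg CommaMorphism.left hw
      simp only [Over.comp_left, ← hψ] at this
      exact this
    let l := sq'.lift k.left (d ≫ c).left hwl
    have hl := sq'.lift_snd k.left (d ≫ c).left hwl
    show (c.left.appTop ≫ d.left.appTop) _ = _
    rw [← Scheme.Hom.comp_appTop]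
    change (d ≫ c).left.appTop _ = _
    rw [← hl, Scheme.Hom.comp_appTop, CommRingCat.comp_apply]
    have hnat := congrArg (fun f => f z)
      (Scheme.ΓSpecIso_inv_naturality (CommRingCat.ofHom
        (Algebra.TensorProduct.includeRight : A' →ₐ[A] B ⊗[A] A').toRingHom))
    simp only [CommRingCat.comp_apply] at hnat
    erw [← hnat]
    rw [CommRingCat.comp_apply, show (CommRingCat.ofHom (Algebra.TensorProduct.includeRight :
      A' →ₐ[A] B ⊗[A] A').toRingHom) z = 0 from hz, map_zero, map_zero]
  have := faithfullyFlat_of_univInjective hui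
  have hff : Flat φ.left ∧ Surjective φ.left := by
    rw [← hψ]
    have h := (RingHom.faithfullyFlat_algebraMap_iff).2 this
    exact (flat_and_surjective_SpecMap_iff _).2 h
  have := hff.1
  have := hff.2
  have : QuasiCompact φ.left := by rw [← hψ]; exact (HasAffineProperty.iff_of_isAffine (P := @QuasiCompact)).mpr (inferInstanceAs (CompactSpace (Spec B)))
  have het : Etale φ.left := MorphismProperty.of_isPullback_of_descendsAlong
    (P := @Etale) (Q := @Surjective ⊓ @Flat ⊓ @QuasiCompact) sqS.flip ⟨⟨inferInstance, inferInstance⟩, inferInstance⟩ hsnd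
  have : Epi (a₁ ≫ π) := by
    rw [← hφ]
    exact epi_of_repWith _ (repWith_map het) (repWith_map hff.2)
  have : Epi π := epi_of_epi a₁ π
  exact isIso_of_mono_of_epi π

/-- A quasi-compact monomorphism which is universally schematically dominant is an isomorphism. -/
theorem isIso_of_mono_sectionsInjective (hX : IsAlgSpace X) (hY : IsAlgSpace Y) (f : X ⟶ Y) [Mono f]
    (hqc : IsQuasiCompactMor f)
    (hinj : ∀ (T : Over S) (g : (yon S).obj T ⟶ Y) (P : Sp S) (fst : P ⟶ X)
      (snd : P ⟶ (yon S).obj T), IsPullback fst snd f g → ∀ s : Γ(T.left, ⊤),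
      (∀ (W : Over S) (a : (yon S).obj W ⟶ P) (c : W ⟶ T),
        a ≫ snd = (yon S).map c → c.left.appTop s = 0) → s = 0) : IsIso f := by
  have h : RepWith (MorphismProperty.isomorphisms Scheme.{u}) f := by
    refine repWith_of_affine f fun Z hZ g => ?_
    have : IsAffine Z.left := hZ
    let Z' : Over S := Over.mk (Z.left.isoSpec.inv ≫ Z.hom)
    let e : Z' ⟶ Z := Over.homMk Z.left.isoSpec.inv rfl
    have : IsIso e.left := inferInstanceAs (IsIso Z.left.isoSpec.inv)
    have : IsIso ((Over.forget S).map e) := this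
    have : IsIso e := isIso_of_reflects_iso _ (Over.forget S)
    have sq := IsPullback.of_hasPullback f ((yon S).map e ≫ g)
    have : Mono (pullback.snd f ((yon S).map e ≫ g)) := inferInstance
    have : IsIso (pullback.snd f ((yon S).map e ≫ g)) :=
      isIso_of_mono_affine Γ(Z.left, ⊤) (Z.left.isoSpec.inv ≫ Z.hom)
        (isAlgSpace_of_isPullback hY.diag hX (IsAlgSpace.yon_obj Z') sq) _
        (qcMor_of_isPullback sq hqc)
        (fun T m Q fst snd sqQ => hinj T _ Q _ snd (sqQ.paste_horiz sq))
    refine ⟨Z', e, inv (pullback.snd f ((yon S).map e ≫ g)) ≫ pullback.fst f ((yon S).map e ≫ g), ?_,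
      inferInstanceAs (IsIso e.left)⟩
    refine IsPullback.mk' ?_ (fun _ _ _ _ h₂ => (cancel_mono ((yon S).map e)).1 h₂) ?_
    · rw [Category.assoc, sq.w, IsIso.inv_hom_id_assoc]
    · intro W a b w
      refine ⟨b ≫ inv ((yon S).map e), ?_, by simp⟩
      rw [← cancel_mono f]
      simp only [Category.assoc, sq.w, IsIso.inv_hom_id_assoc, w]
  have : Sheaf.IsLocallySurjective f := isLocallySurjective_of_repWith f
    (repWith_mono (fun φ (_ : IsIso φ) => by infer_instance) h)
    (repWith_mono (fun φ (_ : IsIso φ) => by infer_instance) h)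
    (repWith_mono (fun φ (_ : IsIso φ) => by infer_instance) h)
  have : Epi f := inferInstance
  exact isIso_of_mono_of_epi f

end Groth.L23
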