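import Groth.Agent.L23.FpqcTop
import Groth.Agent.L23.MonoIso
import Groth.Agent.L23.OpenSub
import Groth.Agent.L23.Descent
import Groth.Agent.L23.EtaleMono

/-!
# Fpqc locality on the base of properties of the diagonal
-/

universe u

open CategoryTheory CategoryTheory.Limits AlgebraicGeometry AlgSp Opposite

set_option backward.isDefEq.respectTransparency.types false

namespace Groth.L23

variable {S : Scheme.{u}}

/-- A morphism which is an isomorphism in the representable sense is an isomorphism. -/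
theorem isIso_of_repWith_isomorphisms {X Y : Sp S} {f : X ⟶ Y}
    (h : RepWith (MorphismProperty.isomorphisms Scheme.{u}) f) : IsIso f := by
  have : Mono f := mono_of_repWith (fun _ _ φ (_ : IsIso φ) => inferInstanceAs (Mono φ)) h
  have : Sheaf.IsLocallySurjective f := isLocallySurjective_of_repWith f
    (repWith_mono (fun φ (_ : IsIso φ) => by infer_instance) h)
    (repWith_mono (fun φ (_ : IsIso φ) => by infer_instance) h)
    (repWith_mono (fun φ (_ : IsIso φ) => by infer_instance) h)
  have : Epi f := inferInstance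
  exact isIso_of_mono_of_epi f

attribute [local simp] pullback.lift_fst pullback.lift_snd pullback.lift_fst_assoc
  pullback.lift_snd_assoc

theorem repWith_diagonal_of_fpqcCover {Q : MorphismProperty Scheme.{u}} [Q.IsStableUnderBaseChange]
    [IsZariskiLocalAtTarget Q] [Q.DescendsAlong (@Surjective ⊓ @Flat ⊓ @QuasiCompact)]
    {ι : Type u} {Y : Sp S} {Yi : ι → Sp S} {g : ∀ i, Yi i ⟶ Y} (hcov : IsFpqcCover Yi g)
    {X : Sp S} {f : X ⟶ Y} (hX : IsAlgSpace X)
    {Xi : ι → Sp S} {p : ∀ i, Xi i ⟶ Yi i} {q : ∀ i, Xi i ⟶ X}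
    (sq : ∀ i, IsPullback (q i) (p i) f (g i)) (h : ∀ i, RepWith Q (pullback.diagonal (p i))) :
    RepWith Q (pullback.diagonal f) := by
  have hd := (diagonal_properties hX f).1
  refine repWith_of_snd hd fun T m => ?_
  refine IsZariskiLocalAtTarget.of_openCover (P := Q) T.left.affineCover fun n => ?_
  let Z : Over S := Over.mk (T.left.affineCover.f n ≫ T.hom)
  let o : Z ⟶ T := Over.homMk (T.left.affineCover.f n) rfl
  have : IsAffine Z.left := inferInstanceAs (IsAffine (T.left.affineCover.X n))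
  obtain ⟨J, hJ, A, e, i, l, hA, he, hl, hs⟩ :=
    exists_fpqc_affine_family hcov (((yon S).map o ≫ m) ≫ pullback.fst f f ≫ f)
  refine prop_of_fpqc_family (pullback.snd (hd.snd m).left o.left) (fun j => (A j).left)
    (fun j => (e j).left) hA he hs fun j => ?_
  rw [← pullbackLeftPullbackSndIso_hom_snd, Q.cancel_left_of_respectsIso]
  have sq₀ := IsPullback.of_hasPullback (hd.snd m) (e j ≫ o)
  have sq₁ := (sq₀.map (yon S)).paste_horiz (hd.isPullback m)
  let n : (yon S).obj (A j) ⟶ pullback.diagonalObj (p (i j)) := pullback.lift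
    ((sq (i j)).lift (((yon S).map (e j ≫ o) ≫ m) ≫ pullback.fst f f) (l j) (by simpa using (hl j).symm))
    ((sq (i j)).lift (((yon S).map (e j ≫ o) ≫ m) ≫ pullback.snd f f) (l j) (by
      simpa [pullback.condition] using (hl j).symm))
    (by simp)
  have hn : n ≫ diagComp (sq (i j)) = (yon S).map (e j ≫ o) ≫ m := by
    apply pullback.hom_ext <;> simp [n]
  rw [← hn] at sq₁
  let k := (isPullback_diagonal (sq (i j))).lift
    ((yon S).map (pullback.fst (hd.snd m) (e j ≫ o)) ≫ hd.fst m)
    ((yon S).map (pullback.snd (hd.snd m) (e j ≫ o)) ≫ n) (by simpa using sq₁.w)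
  have sq₂ : IsPullback k ((yon S).map (pullback.snd (hd.snd m) (e j ≫ o))) (pullback.diagonal (p (i j))) n := by
    refine IsPullback.of_right ?_ ((isPullback_diagonal (sq (i j))).lift_snd _ _ _)
      (isPullback_diagonal (sq (i j)))
    rwa [(isPullback_diagonal (sq (i j))).lift_fst]
  have hq := repWith_prop (h (i j)) sq₂
  have sq₃ := sq₀.map (Over.forget S)
  show Q (pullback.snd ((Over.forget S).map (hd.snd m)) ((Over.forget S).map (e j ≫ o)))
  refine (Q.cancel_left_of_respectsIso sq₃.isoPullback.hom _).1 ?_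
  exact sq₃.isoPullback_hom_snd.symm ▸ hq

theorem isLocalOnBase_fpqc_separated : IsLocalOnBase (S := S) IsFpqcCover AlgSp.IsSeparatedMor := by
  intro ι Y Yi g hY hYi hcov X f hX Xi p q hXi sq
  exact ⟨fun h i => separated_of_isPullback (sq i) h,
    fun h => repWith_diagonal_of_fpqcCover hcov hX sq h⟩

theorem isLocalOnBase_fpqc_qsMor : IsLocalOnBase (S := S) IsFpqcCover AlgSp.IsQuasiSeparatedMor := by
  intro ι Y Yi g hY hYi hcov X f hX Xi p q hXi sq
  exact ⟨fun h i => Groth.L24.Alg.qsMor_of_isPullback (sq i) h,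
    fun h => repWith_diagonal_of_fpqcCover hcov hX sq h⟩

theorem isLocalOnBase_fpqc_mono : IsLocalOnBase (S := S) IsFpqcCover (MorphismProperty.monomorphisms (Sp S)) := by
  intro ι Y Yi g hY hYi hcov X f hX Xi p q hXi sq
  refine ⟨fun h i => MorphismProperty.of_isPullback (P := MorphismProperty.monomorphisms (Sp S)) (sq i) h,
    fun h => ?_⟩
  have key : RepWith (MorphismProperty.isomorphisms Scheme.{u}) (pullback.diagonal f) := by
    refine repWith_diagonal_of_fpqcCover hcov hX sq fun i => ?_
    have : Mono (p i) := h i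
    have := (pullback.isIso_diagonal_iff (p i)).2 this
    exact repWith_of_isIso _
  exact (pullback.isIso_diagonal_iff f).1 (isIso_of_repWith_isomorphisms key)

theorem isLocalOnBase_fpqc_proper : IsLocalOnBase (S := S) IsFpqcCover AlgSp.IsProperMor := by
  intro ι Y Yi g hY hYi hcov X f hX Xi p q hXi sq
  refine ⟨fun h i => isProperMor_of_isPullback hX hY (hYi i) (sq i) h, fun h => ⟨?_, ⟨?_, ?_⟩, ?_⟩⟩
  · exact (isLocalOnBase_fpqc_separated Yi g hY hYi hcov f hX Xi p q hXi sq).2 fun i => (h i).1
  · exact (isLocalOnBase_fpqc_locP etLocal_lft Yi g hY hYi hcov f hX Xi p q hXi sq).2 fun i => (h i).2.1.1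
  · exact (isLocalOnBase_fpqc_qcMor Yi g hY hYi hcov f hX Xi p q hXi sq).2 fun i => (h i).2.1.2
  · exact (isLocalOnBase_fpqc_univClosed Yi g hY hYi hcov f hX Xi p q hXi sq).2 fun i => (h i).2.2

theorem isLocalOnBase_fpqc_fp : IsLocalOnBase (S := S) IsFpqcCover AlgSp.IsFinitePresentationMor := by
  intro ι Y Yi g hY hYi hcov X f hX Xi p q hXi sq
  have h1 := isLocalOnBase_fpqc_locP etLocal_lfp Yi g hY hYi hcov f hX Xi p q hXi sq
  have h2 := isLocalOnBase_fpqc_qcMor Yi g hY hYi hcov f hX Xi p q hXi sq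
  have h3 := isLocalOnBase_fpqc_qsMor Yi g hY hYi hcov f hX Xi p q hXi sq
  exact ⟨fun h i => ⟨h1.1 h.1 i, h2.1 h.2.1 i, h3.1 h.2.2 i⟩,
    fun h => ⟨h1.2 fun i => (h i).1, h2.2 fun i => (h i).2.1, h3.2 fun i => (h i).2.2⟩⟩

end Groth.L23

namespace Groth.L23

variable {S : Scheme.{u}}

theorem isLocalOnBase_fpqc_isOpenImmersion :
    IsLocalOnBase (S := S) IsFpqcCover (RepWith @IsOpenImmersion) := by
  intro ι Y Yi g hY hYi hcov X f hX Xi p q hXi sq
  refine ⟨fun h i => repWith_of_isPullback (sq i) h, fun h => ?_⟩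
  have : Mono f := (isLocalOnBase_fpqc_mono Yi g hY hYi hcov f hX Xi p q hXi sq).2
    fun i => mono_of_repWith_openImmersion (h i)
  have het : LocP @Etale f := (isLocalOnBase_fpqc_locP etLocal_etale Yi g hY hYi hcov f hX Xi p q hXi sq).2
    fun i => locP_of_repWith etLocal_etale
      (repWith_mono (fun φ (_ : IsOpenImmersion φ) => inferInstanceAs (Etale φ)) (h i))
  exact repWith_isOpenImmersion_of_etale_mono hX hY f het

theorem isLocalOnBase_fpqc_isomorphisms :
    IsLocalOnBase (S := S) IsFpqcCover (MorphismProperty.isomorphisms (Sp S)) := by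
  intro ι Y Yi g hY hYi hcov X f hX Xi p q hXi sq
  refine ⟨fun h i => MorphismProperty.of_isPullback (P := MorphismProperty.isomorphisms (Sp S)) (sq i) h,
    fun h => ?_⟩
  have hi : RepWith @IsOpenImmersion f :=
    (isLocalOnBase_fpqc_isOpenImmersion Yi g hY hYi hcov f hX Xi p q hXi sq).2 fun i => by
      have : IsIso (p i) := h i
      exact repWith_of_isIso _
  refine isIso_of_openImmersion_surjective hi ?_
  have hs := (isLocalOnBase_fpqc_univSubmersive Yi g hY hYi hcov f hX Xi p q hXi sq).2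
    fun i Z Q hZ k fst snd s => by
      have : IsIso (p i) := h i
      have : IsIso snd := s.isIso_snd_of_isIso
      exact (pointsHomeoOfIso (asIso snd)).isQuotientMap
  exact (hs hY (𝟙 Y) _ _ (IsPullback.id_horiz f)).surjective

end Groth.L23
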