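import Groth.Agent.L23.LocP
import Groth.Agent.L23.Epi
import Groth.Agent.L23.Cover
import Groth.Agent.L24.Quot.Affine
import Groth.Agent.S7488
import Mathlib.AlgebraicGeometry.Sites.Fpqc

/-!
# Spaces with an affine finite etale cover are schemes
-/

universe u

open CategoryTheory CategoryTheory.Limits AlgebraicGeometry Opposite AlgSp

set_option backward.isDefEq.respectTransparency.types false
set_option linter.style.haveILetI false

namespace Groth.L23.AQ

variable {S : Scheme.{u}} {X : Sp S} {U R : Over S} {p : (yon S).obj U ⟶ X} {t s : R ⟶ U}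

section

variable (sq : IsPullback ((yon S).map t) ((yon S).map s) p p)

include sq

lemma arrow_ext {T : Scheme.{u}} {a b : T ⟶ R.left} (ht : a ≫ t.left = b ≫ t.left) (hs : a ≫ s.left = b ≫ s.left) :
    a = b := by
  have hb : b ≫ R.hom = a ≫ R.hom := by rw [← Over.w s, ← Category.assoc, ← hs, Category.assoc]
  let a' : Over.mk (a ≫ R.hom) ⟶ R := Over.homMk a
  let b' : Over.mk (a ≫ R.hom) ⟶ R := Over.homMk b hb
  have : a' = b' := (yon S).map_injective (sq.hom_ext
    (by rw [← Functor.map_comp, ← Functor.map_comp]; congr 1; exact Over.OverMorphism.ext ht)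
    (by rw [← Functor.map_comp, ← Functor.map_comp]; congr 1; exact Over.OverMorphism.ext hs))
  exact congrArg CommaMorphism.left this

lemma exists_unit : ∃ k : U ⟶ R, k ≫ t = 𝟙 U ∧ k ≫ s = 𝟙 U := exists_lift_yon sq (𝟙 U) (𝟙 U) rfl

lemma exists_inv : ∃ k : R ⟶ R, k ≫ t = s ∧ k ≫ s = t := exists_lift_yon sq s t sq.w.symm

lemma exists_comp : ∃ k : pullback s.left t.left ⟶ R.left,
    k ≫ t.left = pullback.fst s.left t.left ≫ t.left ∧ k ≫ s.left = pullback.snd s.left t.left ≫ s.left := by
  let f₁ : Over.mk (pullback.fst s.left t.left ≫ R.hom) ⟶ R := Over.homMk (pullback.fst s.left t.left)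
  let f₂ : Over.mk (pullback.fst s.left t.left ≫ R.hom) ⟶ R := Over.homMk (pullback.snd s.left t.left) (by
    show pullback.snd s.left t.left ≫ R.hom = pullback.fst s.left t.left ≫ R.hom
    rw [← Over.w t, ← pullback.condition_assoc, Over.w s, Over.w t])
  have h12 : f₁ ≫ s = f₂ ≫ t := Over.OverMorphism.ext pullback.condition
  obtain ⟨k, hk₁, hk₂⟩ := exists_lift_yon sq (f₁ ≫ t) (f₂ ≫ s) (by
    simp only [Functor.map_comp, Category.assoc]
    rw [sq.w, ← Functor.map_comp_assoc, h12, Functor.map_comp_assoc, sq.w])
  exact ⟨k.left, congrArg CommaMorphism.left hk₁, congrArg CommaMorphism.left hk₂⟩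

/-- The groupoid of a kernel pair. -/
noncomputable def groupoid : Grpd.GroupoidScheme S where
  U := U.left
  R := R.left
  pU := U.hom
  pR := R.hom
  s := s.left
  t := t.left
  e := (exists_unit sq).choose.left
  i := (exists_inv sq).choose.left
  c := (exists_comp sq).choose
  s_over := Over.w s
  t_over := Over.w t
  comp_s α β h := by
    rw [Category.assoc, (exists_comp sq).choose_spec.2, pullback.lift_snd_assoc]
  comp_t α β h := by
    rw [Category.assoc, (exists_comp sq).choose_spec.1, pullback.lift_fst_assoc]
  assoc α β γ h₁ h₂ := by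
    refine arrow_ext sq ?_ ?_
    · simp only [Category.assoc, (exists_comp sq).choose_spec.1, pullback.lift_fst_assoc]
    · simp only [Category.assoc, (exists_comp sq).choose_spec.2, pullback.lift_snd_assoc]
  e_s := congrArg CommaMorphism.left (exists_unit sq).choose_spec.2
  e_t := congrArg CommaMorphism.left (exists_unit sq).choose_spec.1
  comp_e α := by
    refine arrow_ext sq ?_ ?_
    · rw [Category.assoc, (exists_comp sq).choose_spec.1, pullback.lift_fst_assoc]
    · rw [Category.assoc, (exists_comp sq).choose_spec.2, pullback.lift_snd_assoc, Category.assoc, Category.assoc,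
        show (exists_unit sq).choose.left ≫ s.left = 𝟙 U.left from congrArg CommaMorphism.left (exists_unit sq).choose_spec.2,
        Category.comp_id]
  e_comp α := by
    refine arrow_ext sq ?_ ?_
    · rw [Category.assoc, (exists_comp sq).choose_spec.1, pullback.lift_fst_assoc, Category.assoc, Category.assoc,
        show (exists_unit sq).choose.left ≫ t.left = 𝟙 U.left from congrArg CommaMorphism.left (exists_unit sq).choose_spec.1,
        Category.comp_id]
    · rw [Category.assoc, (exists_comp sq).choose_spec.2, pullback.lift_snd_assoc]
  i_s := congrArg CommaMorphism.left (exists_inv sq).choose_spec.2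
  i_t := congrArg CommaMorphism.left (exists_inv sq).choose_spec.1
  comp_i α := by
    refine arrow_ext sq ?_ ?_
    · rw [Category.assoc, (exists_comp sq).choose_spec.1, pullback.lift_fst_assoc, Category.assoc, Category.assoc,
        show (exists_unit sq).choose.left ≫ t.left = 𝟙 U.left from congrArg CommaMorphism.left (exists_unit sq).choose_spec.1,
        Category.comp_id]
    · rw [Category.assoc, (exists_comp sq).choose_spec.2, pullback.lift_snd_assoc, Category.assoc, Category.assoc,
        Category.assoc, show (exists_inv sq).choose.left ≫ s.left = t.left from congrArg CommaMorphism.left (exists_inv sq).choose_spec.2,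
        show (exists_unit sq).choose.left ≫ s.left = 𝟙 U.left from congrArg CommaMorphism.left (exists_unit sq).choose_spec.2,
        Category.comp_id]
  i_comp α := by
    refine arrow_ext sq ?_ ?_
    · rw [Category.assoc, (exists_comp sq).choose_spec.1, pullback.lift_fst_assoc, Category.assoc, Category.assoc,
        Category.assoc, show (exists_inv sq).choose.left ≫ t.left = s.left from congrArg CommaMorphism.left (exists_inv sq).choose_spec.1,
        show (exists_unit sq).choose.left ≫ t.left = 𝟙 U.left from congrArg CommaMorphism.left (exists_unit sq).choose_spec.1,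
        Category.comp_id]
    · rw [Category.assoc, (exists_comp sq).choose_spec.2, pullback.lift_snd_assoc, Category.assoc, Category.assoc,
        show (exists_unit sq).choose.left ≫ s.left = 𝟙 U.left from congrArg CommaMorphism.left (exists_unit sq).choose_spec.2,
        Category.comp_id]

end

/-- An algebraic space with an affine finite etale cover is an affine scheme. -/
theorem exists_iso_of_affine_cover (hX : IsAlgSpace X) [IsAffine U.left] (hf : RepWith @IsFinite p)
    (he : RepWith @Etale p) (hs : RepWith @Surjective p) :
    ∃ (M : Over S) (θ : (yon S).obj M ⟶ X), IsAffine M.left ∧ IsIso θ := by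
  obtain ⟨R, t, s, sq⟩ := exists_isPullback_of_representable (hX.representable_from_yon p) p
  let G := groupoid sq
  have : Etale t.left := repWith_prop he sq.flip
  have : Etale s.left := repWith_prop he sq
  have : IsFinite t.left := repWith_prop hf sq.flip
  have : IsFinite s.left := repWith_prop hf sq
  have : IsAffine G.U := ‹IsAffine U.left›
  have hta : IsAffineHom t.left := (show IsFinite t.left from ‹_›).toIsAffineHom
  have : IsAffine G.R := @isAffine_of_isAffineHom _ _ t.left hta ‹IsAffine U.left›
  have : IsFinite G.s := ‹IsFinite s.left›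
  have : IsFinite G.t := ‹IsFinite t.left›
  have : Flat G.s := inferInstanceAs (Flat s.left)
  have : Flat G.t := inferInstanceAs (Flat t.left)
  have : LocallyOfFinitePresentation G.s := inferInstanceAs (LocallyOfFinitePresentation s.left)
  have : LocallyOfFinitePresentation G.t := inferInstanceAs (LocallyOfFinitePresentation t.left)
  have : Mono G.j := ⟨fun a b e => arrow_ext sq
    (by simpa [G, groupoid, Grpd.GroupoidScheme.j, pullback.lift_fst] using e =≫ pullback.fst _ _)
    (by simpa [G, groupoid, Grpd.GroupoidScheme.j, pullback.lift_snd] using e =≫ pullback.snd _ _)⟩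
  obtain ⟨hfin, hfl, hfp, hpb⟩ := Groth.Agent.L24.Quot.finite_flat_toQuot G
  obtain ⟨m, ⟨hm, -⟩, -⟩ := Groth.Agent.S7488.result S G
  let q : U ⟶ Over.mk m := Over.homMk G.toQuot hm
  have sM : IsPullback t s q q := IsPullback.of_map (Over.forget S) (Over.OverMorphism.ext hpb.w) hpb
  have hqf : RepWith @Flat ((yon S).map q) := repWith_map (show Flat q.left from hfl)
  have hqp : RepWith @LocallyOfFinitePresentation ((yon S).map q) :=
    repWith_map (show LocallyOfFinitePresentation q.left from hfp)
  have hsur : Surjective q.left := by
    show Surjective (G.U.toSpecΓ ≫ _)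
    have hint : (G.invariants.subtype).IsIntegral := by
      have : IsIntegralHom (G.U.toSpecΓ ≫ Spec.map (CommRingCat.ofHom G.invariants.subtype)) :=
        inferInstanceAs (IsIntegralHom G.toQuot)
      rw [MorphismProperty.cancel_left_of_respectsIso (P := @IsIntegralHom.{u}), IsIntegralHom.SpecMap_iff] at this
      exact this
    have : Surjective (Spec.map (CommRingCat.ofHom G.invariants.subtype)) :=
      ⟨hint.comap_surjective Subtype.val_injective⟩
    infer_instance
  have hqs : RepWith @Surjective ((yon S).map q) := repWith_map hsur
  have : Sheaf.IsLocallySurjective ((yon S).map q) := isLocallySurjective_of_repWith _ hqf hqp hqs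
  have : Epi ((yon S).map q) := inferInstance
  have := epi_of_repWith p he hs
  have sy := sM.map (yon S)
  obtain ⟨h₁⟩ := nonempty_isColimit_cofork _ sy
  obtain ⟨h₂⟩ := nonempty_isColimit_cofork p sq
  exact ⟨Over.mk m, (h₁.coconePointUniqueUpToIso h₂).hom,
    inferInstanceAs (IsAffine (Spec (CommRingCat.of G.invariants))), inferInstance⟩

end Groth.L23.AQ
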