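import Groth.Agent.S0409
import Groth.Agent.L23.LocalDimEtale
import Mathlib.AlgebraicGeometry.Morphisms.Proper
import Mathlib.AlgebraicGeometry.Morphisms.UniversallyOpen
import Mathlib.AlgebraicGeometry.Noetherian

/-!
# Etale separated morphisms with finite fibres over noetherian schemes
-/

universe u

open CategoryTheory CategoryTheory.Limits AlgebraicGeometry TopologicalSpace Topology

set_option backward.isDefEq.respectTransparency.types false
set_option linter.style.haveILetI false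

namespace Groth.L23.EtSepQc

/-- An open finite over `W` absorbs the specializations over `W`. -/
theorem mem_of_specializes {R T : Scheme.{u}} (h : R ⟶ T) [IsSeparated h] (O : R.Opens) (W : T.Opens)
    [IsFinite ((O.ι ≫ h) ∣_ W)] {r' r : R} (hs : r' ⤳ r) (hr' : r' ∈ O) (hW : h r' ∈ W) (hrW : h r ∈ W) :
    r ∈ O := by
  haveI : IsSeparated (h ∣_ W) := IsZariskiLocalAtTarget.restrict ‹IsSeparated h› W
  haveI : IsProper (O.ι ∣_ (h ⁻¹ᵁ W) ≫ h ∣_ W) := by
    rw [← morphismRestrict_comp]; exact (IsFinite.iff_isProper_and_isAffineHom.1 ‹IsFinite ((O.ι ≫ h) ∣_ W)›).1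
  haveI : IsProper (O.ι ∣_ (h ⁻¹ᵁ W)) := IsProper.of_comp _ (h ∣_ W)
  let j := O.ι ∣_ (h ⁻¹ᵁ W)
  have hj : ∀ q : ↥(h ⁻¹ᵁ W : R.Opens), q.1 ∈ O → q ∈ Set.range j := by
    intro q hq
    exact ⟨⟨⟨q.1, hq⟩, q.2⟩, (h ⁻¹ᵁ W).ι.isEmbedding.injective (by
      rw [← Scheme.Hom.comp_apply, morphismRestrict_ι]; rfl)⟩
  have hs' : (⟨r', hW⟩ : ↥(h ⁻¹ᵁ W : R.Opens)) ⤳ ⟨r, hrW⟩ := (subtype_specializes_iff _ _).2 hs
  obtain ⟨z, hz⟩ := hs'.mem_closed j.isClosedMap.isClosed_range (hj _ hr')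
  have e : (h ⁻¹ᵁ W).ι (j z) = O.ι ((O.ι ⁻¹ᵁ (h ⁻¹ᵁ W)).ι z) := by
    rw [← Scheme.Hom.comp_apply, morphismRestrict_ι]; rfl
  rw [hz] at e
  exact (show r = _ from e) ▸ ((O.ι ⁻¹ᵁ (h ⁻¹ᵁ W)).ι z).2

theorem exists_open_compact {R U : Scheme.{u}} (f : R ⟶ U) [Etale f] [IsSeparated f] [NoetherianSpace U]
    [IsLocallyNoetherian U] (hfin : ∀ u : U, (f ⁻¹' {u}).Finite) {T : Set U} (hT : IsClosed T)
    (hirr : IsIrreducible T) :
    ∃ V : U.Opens, (T ∩ V).Nonempty ∧ IsCompact (f ⁻¹' (T ∩ V)) := by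
  classical
  obtain ⟨η, hη⟩ := QuasiSober.sober hirr hT
  let I := Scheme.IdealSheafData.vanishingIdeal (X := U) ⟨T, hT⟩
  let ι := I.subschemeι
  have hrange : Set.range ι = T := by
    rw [Scheme.IdealSheafData.range_subschemeι, Scheme.IdealSheafData.coe_support_vanishingIdeal]; rfl
  obtain ⟨η', hη'⟩ : η ∈ Set.range ι := hrange.ge hη.mem
  haveI : NoetherianSpace I.subscheme := ι.isEmbedding.isInducing.noetherianSpace
  haveI : IsLocallyNoetherian I.subscheme := LocallyOfFiniteType.isLocallyNoetherian ι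
  choose B hB hmem using fun r : f ⁻¹' {η} =>
    (⟨_, (exists_isAffineOpen_mem_and_subset (x := r.1) (U := ⊤) trivial).choose_spec.1,
      (exists_isAffineOpen_mem_and_subset (x := r.1) (U := ⊤) trivial).choose_spec.2.1⟩ :
      ∃ B : R.Opens, IsAffineOpen B ∧ r.1 ∈ B)
  haveI := (hfin η).to_subtype
  let O : R.Opens := ⨆ r, B r
  have hO : IsCompact (O : Set R) := by
    rw [Opens.coe_iSup]; exact isCompact_iUnion fun r => (hB r).isCompact
  have hηO : f ⁻¹' {η} ⊆ O := fun r hr => Opens.mem_iSup.2 ⟨⟨r, hr⟩, hmem _⟩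
  let h := pullback.snd f ι
  let g := pullback.fst f ι
  haveI : IsSeparated h := MorphismProperty.pullback_snd _ _ ‹IsSeparated f›
  haveI : Etale h := MorphismProperty.pullback_snd _ _ ‹Etale f›
  haveI : IsClosedImmersion g := MorphismProperty.pullback_fst _ _ inferInstance
  let O' := g ⁻¹ᵁ O
  haveI : CompactSpace (O' : Scheme.{u}) :=
    isCompact_iff_compactSpace.1 (g.isClosedEmbedding.isCompact_preimage hO)
  haveI : IsLocallyNoetherian (O' : Scheme.{u}) := LocallyOfFiniteType.isLocallyNoetherian (O'.ι ≫ h)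
  haveI : AlgebraicGeometry.IsNoetherian (O' : Scheme.{u}) := ⟨⟩
  haveI : QuasiCompact (O'.ι ≫ h) := inferInstance
  haveI : LocallyQuasiFinite (O'.ι ≫ h) := lqf_of_etale _
  obtain ⟨W, hWd, hWf⟩ := Groth.Agent.S0409.result (O'.ι ≫ h)
  have hsp : ∀ t : I.subscheme, η' ⤳ t := fun t => ι.isEmbedding.isInducing.specializes_iff.1
    (hη' ▸ hη.specializes (hrange.le ⟨t, rfl⟩))
  obtain ⟨w, hw⟩ := hWd.nonempty_iff.2 ⟨η'⟩
  have hηW : η' ∈ W := (hsp w).mem_open W.2 hw
  obtain ⟨V, hV, hVW⟩ := ι.isEmbedding.isInducing.isOpen_iff.1 W.2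
  refine ⟨⟨V, hV⟩, ⟨ι η', hrange.le ⟨η', rfl⟩, show η' ∈ ι ⁻¹' V from hVW.symm ▸ hηW⟩, ?_⟩
  have hWO : ∀ q : ↥(pullback f ι), h q ∈ W → q ∈ O' := by
    intro q hq
    obtain ⟨q', hqs, hq'⟩ := Flat.generalizingMap h (hsp (h q))
    refine mem_of_specializes h O' W hqs (hηO ?_) (by rw [hq']; exact hηW) hq
    show f (g q') = η
    rw [← Scheme.Hom.comp_apply, pullback.condition, Scheme.Hom.comp_apply]
    exact (congrArg ι hq').trans hη'
  have hc : IsCompact ((O'.ι ≫ h) ⁻¹' (W : Set I.subscheme)) :=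
    (O'.ι ≫ h).isCompact_preimage (U := W) (NoetherianSpace.isCompact _)
  convert (hc.image O'.ι.continuous).image g.continuous using 1
  ext r
  constructor
  · rintro ⟨hrT, hrV⟩
    obtain ⟨t, ht⟩ := hrange.ge hrT
    obtain ⟨q, hq, hqt⟩ := Scheme.Pullback.exists_preimage_pullback r t ht.symm
    have hqW : h q ∈ W := by
      show h q ∈ W.1
      rw [← hVW, Set.mem_preimage, hqt, ht]
      exact hrV
    exact ⟨q, ⟨⟨q, hWO q hqW⟩, hqW, rfl⟩, hq⟩
  · rintro ⟨_, ⟨q, hq, rfl⟩, rfl⟩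
    have hq' : h (O'.ι q) ∈ W.1 := hq
    rw [← hVW] at hq'
    have e : f (g (O'.ι q)) = ι (h (O'.ι q)) := by
      rw [← Scheme.Hom.comp_apply, pullback.condition, Scheme.Hom.comp_apply]
    exact ⟨show f (g (O'.ι q)) ∈ T from e ▸ hrange.le ⟨_, rfl⟩, show f (g (O'.ι q)) ∈ V from e ▸ hq'⟩

/-- An etale separated morphism with finite fibres to a noetherian scheme has compact source. -/
theorem compactSpace {R U : Scheme.{u}} (f : R ⟶ U) [Etale f] [IsSeparated f] [NoetherianSpace U]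
    [IsLocallyNoetherian U] (hfin : ∀ u : U, (f ⁻¹' {u}).Finite) : CompactSpace R := by
  refine ⟨?_⟩
  suffices ∀ T : Closeds U, IsCompact (f ⁻¹' (T : Set U)) by simpa using this ⊤
  intro T
  induction T using WellFoundedLT.induction with
  | ind T ih =>
  by_cases he : (T : Set U) = ∅
  · rw [he]; simp
  by_cases hirr : IsPreirreducible (T : Set U)
  · obtain ⟨V, ⟨t, htT, htV⟩, hc⟩ :=
      exists_open_compact f hfin T.isClosed ⟨Set.nonempty_iff_ne_empty.2 he, hirr⟩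
    let T' : Closeds U := ⟨(T : Set U) \ V, T.isClosed.sdiff V.2⟩
    have hlt : T' < T := lt_of_le_not_ge (fun x hx => hx.1) fun hle => (hle htT).2 htV
    have := (ih T' hlt).union hc
    convert this using 1
    rw [← Set.preimage_union]
    congr 1
    exact (Set.sdiff_union_inter (T : Set U) (V : Set U)).symm
  · rw [isPreirreducible_iff_isClosed_union_isClosed] at hirr
    push Not at hirr
    obtain ⟨z₁, z₂, h₁, h₂, hsub, hn₁, hn₂⟩ := hirr
    let T₁ : Closeds U := ⟨(T : Set U) ∩ z₁, T.isClosed.inter h₁⟩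
    let T₂ : Closeds U := ⟨(T : Set U) ∩ z₂, T.isClosed.inter h₂⟩
    have hl₁ : T₁ < T := lt_of_le_not_ge (fun x hx => hx.1) fun hle => hn₁ fun x hx => (hle hx).2
    have hl₂ : T₂ < T := lt_of_le_not_ge (fun x hx => hx.1) fun hle => hn₂ fun x hx => (hle hx).2
    have := (ih T₁ hl₁).union (ih T₂ hl₂)
    convert this using 1
    rw [← Set.preimage_union]
    congr 1
    show (T : Set U) = _ ∩ z₁ ∪ _ ∩ z₂
    rw [← Set.inter_union_distrib_left, Set.inter_eq_left.2 hsub]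

end Groth.L23.EtSepQc
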