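import Groth.Agent.L23.PushAffine
import Groth.Agent.L09.ModEt.WeakAss
import Groth.Agent.L09.ModEt.FiniteType

/-!
# Finite type from finitely generated sections
-/

universe u

open CategoryTheory CategoryTheory.Limits AlgebraicGeometry Opposite AlgSp TensorProduct

set_option autoImplicit false
set_option linter.style.haveILetI false
set_option backward.isDefEq.respectTransparency false
set_option backward.isDefEq.respectTransparency.types false

noncomputable section

namespace Groth.L23.FP

open Groth.L09.ModEt

variable {S : Scheme.{u}} {X : Sp S} (M : ModEt X)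

/-- Finitely many sections spanning over an affine object generate. -/
theorem exists_finite_generators {W : EtOver X}
    (hBC : ∀ (W' : EtOver X) [IsAffine W'.obj.left.left] (g : W' ⟶ W), BC M g)
    (hfin : Module.Finite (Γ₀ W) (sectModEt M W)) :
    ∃ σ : (M.over W).GeneratingSections, σ.IsFiniteType := by
  obtain ⟨n, t, ht⟩ := Module.Finite.exists_fin (R := Γ₀ W) (M := sectModEt M W)
  let t' : ULift.{u + 1} (Fin n) → sectModEt M W := fun i => t i.down
  refine ⟨⟨ULift.{u + 1} (Fin n), fun i => tautSec M (t' i), epi_span M hBC t' ?_⟩, ⟨?_⟩⟩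
  · rw [← LinearMap.range_eq_top, Finsupp.range_linearCombination, eq_top_iff, ← ht]
    refine Submodule.span_mono ?_
    rintro _ ⟨i, rfl⟩
    exact ⟨⟨i⟩, rfl⟩
  · exact (inferInstance : Finite (ULift.{u + 1} (Fin n)))

/-- Quasi-coherent with finite sections on a cover by affine objects: finite type. -/
theorem isFiniteType_of_cover [M.IsQuasicoherent]
    (h : ∀ (E : EtOver X) (e : E.obj.left.left), ∃ (W : EtOver X) (_ : IsAffine W.obj.left.left) (g : W ⟶ E),
      e ∈ Set.range g.hom.left.left ∧ Module.Finite (Γ₀ W) (sectModEt M W)) :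
    M.IsFiniteType := by
  let ι := {W : EtOver X // IsAffine W.obj.left.left ∧ Module.Finite (Γ₀ W) (sectModEt M W)}
  have hcov : (etTop X).CoversTop (fun W : ι => W.1) := fun E => by
    choose W hW g hg hfp using h E
    refine GrothendieckTopology.superset_covering _ ?_ (ofArrows_mem_etTop W g fun e => ⟨e, hg e⟩)
    rw [Sieve.ofArrows, Sieve.generate_le_iff]
    rintro _ _ ⟨e⟩
    exact ⟨⟨W e, hW e, hfp e⟩, ⟨𝟙 _⟩⟩
  choose σ hσ using fun i : ι => exists_finite_generators M
    (fun W' _ g => haveI := i.2.1; bc_of_isQuasicoherent M g) i.2.2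
  let q := SheafOfModules.LocalGeneratorsData.mk (M := M) ι (fun W => W.1) hcov σ
  have key : q.shrink.IsFiniteType := by
    constructor
    intro i
    exact hσ _
  constructor
  exact ⟨q.shrink, key⟩

/-- Finite sections are kept by affine base change. -/
theorem finite_of_bc {E W : EtOver X} (g : W ⟶ E) (hbc : BC M g) [Module.Finite (Γ₀ E) (sectModEt M E)] :
    Module.Finite (Γ₀ W) (sectModEt M W) := by
  classical
  obtain ⟨s, hs⟩ := Module.Finite.fg_top (R := Γ₀ E) (M := sectModEt M E)
  refine ⟨⟨s.image (res M g), eq_top_iff.2 ?_⟩⟩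
  rintro y -
  letI := (pb g).toAlgebra
  obtain ⟨z, rfl⟩ := hbc.2 y
  rw [Finset.coe_image]
  induction z using TensorProduct.induction_on with
  | zero => rw [map_zero]; exact zero_mem _
  | tmul b m =>
    rw [θ_tmul]
    refine Submodule.smul_mem _ b ?_
    have hm : m ∈ Submodule.span (Γ₀ E) (s : Set (sectModEt M E)) := hs ▸ Submodule.mem_top
    induction hm using Submodule.span_induction with
    | mem x hx => exact Submodule.subset_span ⟨x, hx, rfl⟩
    | zero => rw [map_zero]; exact zero_mem _
    | add x y _ _ hx hy => rw [map_add]; exact add_mem hx hy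
    | smul a x _ hx => rw [res_smul]; exact Submodule.smul_mem _ _ hx
  | add x y hx hy =>
    rw [map_add]
    exact add_mem hx hy

end Groth.L23.FP

namespace Groth.L23.FP

open Groth.L09.ModEt

variable {S : Scheme.{u}} {X Y : Sp S} {f : X ⟶ Y}

/-- Affine charts of the target pull back to affine objects covering the source. -/
theorem exists_common_bcObj (hY : IsAlgSpace Y) (hf : Representable f) (hfa : RepWith @IsAffineHom f)
    (E₀ : EtOver X) (e : E₀.obj.left.left) :
    ∃ (E : EtOver Y) (_ : IsAffine E.obj.left.left) (W : EtOver X) (_ : IsAffine W.obj.left.left) (g₁ : W ⟶ E₀)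
      (_ : W ⟶ EtOver.bcObj hf E), e ∈ Set.range g₁.hom.left.left := by
  obtain ⟨E, hE, u, hu⟩ := exists_affine_chart hY (Points.map f (Points.ofPt E₀.obj.hom e))
  obtain ⟨w, hw, -⟩ := Groth.L23.exists_point_of_isPullback (EtOver.isPullback_bcObj hf E)
    (x := Points.ofPt E₀.obj.hom e) (u := u) hu.symm
  obtain ⟨W, hW, g₁, g₂, r, hr, -⟩ := exists_common (X := X) e w hw.symm
  exact ⟨E, hE, W, hW, g₁, g₂, r, hr⟩

end Groth.L23.FP
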