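import Groth.Agent.L23.EpiLocSurj
import Groth.Agent.L23.FtCriterion
import Mathlib.Algebra.Homology.ShortComplex.ModuleCat
import Mathlib.Algebra.Category.ModuleCat.Sheaf.Limits

/-!
# Kernels, cokernels and extensions of quasi-coherent modules
-/

universe u

open CategoryTheory CategoryTheory.Limits AlgebraicGeometry Opposite AlgSp TensorProduct

set_option autoImplicit false
set_option linter.style.haveILetI false
set_option backward.isDefEq.respectTransparency false
set_option backward.isDefEq.respectTransparency.types false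

noncomputable section

namespace Groth.L23.QcClosure

open Groth.L09.ModEt Groth.L23.CohNbhd

variable {S : Scheme.{u}} {X : Sp S}

theorem app₀_comp {A B C : ModEt X} (f : A ⟶ B) (g : B ⟶ C) (E : EtOver X) (x : sectModEt A E) :
    app₀ (f ≫ g) E x = app₀ g E (app₀ f E x) := rfl

theorem app₀_of_eq_zero {A B : ModEt X} (f : A ⟶ B) (hf : f = 0) (E : EtOver X) (x : sectModEt A E) :
    app₀ f E x = 0 := by subst hf; rfl

/-- Left exactness of sections. -/
theorem exists_preimage (C : ShortComplex (ModEt X)) (hC : C.Exact) [Mono C.f] {E : EtOver X}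
    {y : sectModEt C.X₂ E} (hy : app₀ C.g E y = 0) : ∃ x, app₀ C.f E x = y := by
  haveI : (SheafOfModules.evaluation (OEtRing X) (op E)).PreservesZeroMorphisms := ⟨fun _ _ => rfl⟩
  have := hC.map_of_mono_of_preservesKernel (SheafOfModules.evaluation (OEtRing X) (op E)) inferInstance inferInstance
  exact (ShortComplex.moduleCat_exact_iff _).1 this y hy

/-- The kernel of a map of quasi-coherent modules commutes with affine base change. -/
theorem bc_of_mono (C : ShortComplex (ModEt X)) (hC : C.Exact) [Mono C.f] [C.X₂.IsQuasicoherent]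
    [C.X₃.IsQuasicoherent] {E E' : EtOver X} [IsAffine E.obj.left.left] [IsAffine E'.obj.left.left]
    (g : E' ⟶ E) : BC C.X₁ g := by
  letI := (pb g).toAlgebra
  haveI : Module.Flat (Γ₀ E) (Γ₀ E') := flat_pb g
  have hnat : ∀ {A B : ModEt X} (f : A ⟶ B) w,
      θ B g ((app₀ f E).lTensor (Γ₀ E') w) = app₀ f E' (θ A g w) := by
    intro A B f w
    induction w using TensorProduct.induction_on with
    | zero => simp
    | tmul b m => rw [LinearMap.lTensor_tmul, θ_tmul, θ_tmul, map_smul, app₀_res]
    | add a b ha hb => simp [map_add, ha, hb]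
  have hex : Function.Exact (app₀ C.f E) (app₀ C.g E) := fun y => by
    refine ⟨fun hy => exists_preimage C hC hy, ?_⟩
    rintro ⟨x, rfl⟩
    rw [← app₀_comp, app₀_of_eq_zero _ C.zero]
  refine ⟨fun a b hab => ?_, fun x => ?_⟩
  · refine Module.Flat.lTensor_preserves_injective_linearMap (app₀ C.f E) (FP.injective_app₀ C.f E) ?_
    refine (bc_of_isQuasicoherent C.X₂ g).1 ?_
    rw [hnat, hnat, hab]
  · obtain ⟨y, hy⟩ := (bc_of_isQuasicoherent C.X₂ g).2 (app₀ C.f E' x)
    have h0 : (app₀ C.g E).lTensor (Γ₀ E') y = 0 := by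
      refine (bc_of_isQuasicoherent C.X₃ g).1 ?_
      rw [hnat, hy, map_zero, ← app₀_comp, app₀_of_eq_zero _ C.zero]
    obtain ⟨z, hz⟩ := (Module.Flat.lTensor_exact (Γ₀ E') hex y).1 h0
    exact ⟨z, FP.injective_app₀ C.f E' (by rw [← hnat, hz, hy])⟩

theorem isQuasicoherent_kernel {F G : ModEt X} [F.IsQuasicoherent] [G.IsQuasicoherent] (φ : F ⟶ G) :
    (kernel φ).IsQuasicoherent := by
  refine isQuasicoherent_of_bc _ (fun W : {W : EtOver X // IsAffine W.obj.left.left} => W.1)
    (Groth.L23.SubQcoh.coversTop_affine (X := X)) ?_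
  intro W W' _ g
  haveI := W.2
  exact bc_of_mono (ShortComplex.mk (kernel.ι φ) φ (kernel.condition φ))
    (ShortComplex.exact_of_f_is_kernel _ (kernelIsKernel φ)) g

/-- A covering sieve from affine neighbourhoods of the points. -/
theorem exists_sieve {W : EtOver X} (P : ∀ ⦃W' : EtOver X⦄, (W' ⟶ W) → Prop)
    (hP : ∀ ⦃W' W'' : EtOver X⦄ (h : W'' ⟶ W') (e : W' ⟶ W), P e → P (h ≫ e))
    (hloc : ∀ w : W.obj.left.left, ∃ (W' : EtOver X) (g : W' ⟶ W), w ∈ Set.range g.hom.left.left ∧ P g) :
    ∃ R ∈ etTop X W, ∀ ⦃W' : EtOver X⦄ (e : W' ⟶ W), R e → P e := by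
  choose V g hg hPg using hloc
  refine ⟨Sieve.ofArrows V g, ofArrows_mem_etTop V g fun w => ⟨w, hg w⟩, fun W' e he => ?_⟩
  obtain ⟨i, h, rfl⟩ := (Sieve.mem_ofArrows_iff _ _ _).1 he
  exact hP h _ (hPg i)

theorem push_mem_span {V W W' : EtOver X} (h : W' ⟶ W) (a : W ⟶ V) {I J : Type (u + 1)} (c : J → I →₀ Γ₀ V)
    {x : I →₀ Γ₀ W} (hx : x ∈ Submodule.span (Γ₀ W) (Set.range fun j => push a (c j))) :
    push h x ∈ Submodule.span (Γ₀ W') (Set.range fun j => push (h ≫ a) (c j)) := by
  induction hx using Submodule.span_induction with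
  | mem y hy => obtain ⟨j, rfl⟩ := hy; exact Submodule.subset_span ⟨j, push_comp h a _⟩
  | zero => rw [map_zero]; exact zero_mem _
  | add x y _ _ hx hy => rw [map_add]; exact add_mem hx hy
  | smul r x _ hx => rw [push_smul]; exact Submodule.smul_mem _ _ hx

theorem res_mem_span {M : ModEt X} {V W W' : EtOver X} (h : W' ⟶ W) (a : W ⟶ V) {I : Type (u + 1)}
    (s : I → sectModEt M V) {x : sectModEt M W}
    (hx : x ∈ Submodule.span (Γ₀ W) (Set.range fun j => res M a (s j))) :
    res M h x ∈ Submodule.span (Γ₀ W') (Set.range fun j => res M (h ≫ a) (s j)) := by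
  induction hx using Submodule.span_induction with
  | mem y hy => obtain ⟨j, rfl⟩ := hy; exact Submodule.subset_span ⟨j, res_comp M h a _⟩
  | zero => rw [map_zero]; exact zero_mem _
  | add x y _ _ hx hy => rw [map_add]; exact add_mem hx hy
  | smul r x _ hx => rw [res_smul]; exact Submodule.smul_mem _ _ hx

set_option maxHeartbeats 1600000 in
/-- The cokernel of a map of quasi-coherent modules has local generators and relations. -/
theorem nonempty_data_of_epi (C : ShortComplex (ModEt X)) (hC : C.Exact) [Epi C.g] [C.X₁.IsQuasicoherent]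
    [C.X₂.IsQuasicoherent] (V : EtOver X) [IsAffine V.obj.left.left] : Nonempty (Data C.X₃ V) := by
  classical
  let t : sectModEt C.X₂ V → sectModEt C.X₂ V := id
  let σ := Finsupp.linearCombination (Γ₀ V) t
  have ht : Function.Surjective σ := fun m => ⟨Finsupp.single m 1, by simp [σ, t]⟩
  let J := {b : sectModEt C.X₂ V →₀ Γ₀ V // σ b ∈ LinearMap.range (app₀ C.f V)}
  have happ : ∀ {W : EtOver X} (a : W ⟶ V) (b : sectModEt C.X₂ V →₀ Γ₀ W),
      app₀ C.g W (Finsupp.linearCombination (Γ₀ W) (fun i => res C.X₂ a i) b) =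
        Finsupp.linearCombination (Γ₀ W) (fun i => res C.X₃ a (app₀ C.g V i)) b := fun a b => by
    simp only [Finsupp.linearCombination_apply, map_finsuppSum, map_smul, app₀_res]
  refine ⟨⟨sectModEt C.X₂ V, J, fun i => app₀ C.g V i, fun j => j.1, fun j => ?_, fun W a m => ?_, fun W a b hb => ?_⟩⟩
  · obtain ⟨x, hx⟩ := j.2
    rw [show (fun i => app₀ C.g V i) = (app₀ C.g V) ∘ t from rfl, ← Finsupp.apply_linearCombination, ← hx,
      ← app₀_comp, app₀_of_eq_zero _ C.zero]
  · refine exists_sieve (fun W' e => res C.X₃ e m ∈ Submodule.span (Γ₀ W')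
      (Set.range fun i => res C.X₃ (e ≫ a) (app₀ C.g V i))) (fun W' W'' h e he => ?_) fun w => ?_
    · rw [res_comp, Category.assoc]
      exact res_mem_span h (e ≫ a) _ he
    · obtain ⟨W', hW', g, hw, y, hy⟩ := EpiLoc.exists_local_lift C.g m w
      haveI := hW'
      refine ⟨W', g, hw, ?_⟩
      rw [← hy]
      letI := (pb (g ≫ a)).toAlgebra
      obtain ⟨z, rfl⟩ := (bc_of_isQuasicoherent C.X₂ (g ≫ a)).2 y
      clear hy
      induction z using TensorProduct.induction_on with
      | zero => rw [map_zero, map_zero]; exact zero_mem _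
      | tmul r n =>
        rw [θ_tmul, map_smul, app₀_res]
        exact Submodule.smul_mem _ _ (Submodule.subset_span ⟨n, rfl⟩)
      | add p q hp hq => rw [map_add, map_add]; exact add_mem hp hq
  · refine exists_sieve (fun W' e => push e b ∈ Submodule.span (Γ₀ W')
      (Set.range fun j : J => push (e ≫ a) j.1)) (fun W' W'' h e he => ?_) fun w => ?_
    · rw [push_comp, Category.assoc]
      exact push_mem_span h (e ≫ a) _ he
    · let y := Finsupp.linearCombination (Γ₀ W) (fun i => res C.X₂ a i) b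
      have hy : app₀ C.g W y = 0 := (happ a b).trans hb
      obtain ⟨k, hk⟩ := exists_preimage (ShortComplex.mk (kernel.ι C.g) C.g (kernel.condition C.g))
        (ShortComplex.exact_of_f_is_kernel _ (kernelIsKernel C.g)) hy
      haveI : Epi (kernel.lift C.g C.f C.zero) := hC.epi_kernelLift
      obtain ⟨W', hW', g, hw, x, hx⟩ := EpiLoc.exists_local_lift (kernel.lift C.g C.f C.zero) k w
      haveI := hW'
      refine ⟨W', g, hw, ?_⟩
      have hfx : app₀ C.f W' x = Finsupp.linearCombination (Γ₀ W') (fun i => res C.X₂ (g ≫ a) i) (push g b) := by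
        conv_lhs => rw [← kernel.lift_ι C.g C.f C.zero]
        rw [app₀_comp, hx, app₀_res, hk]
        exact (res_linearCombination C.X₂ g _ b).trans (by simp only [← res_comp])
      letI := (pb (g ≫ a)).toAlgebra
      obtain ⟨z, rfl⟩ := (bc_of_isQuasicoherent C.X₁ (g ≫ a)).2 x
      clear hx
      have key : ∀ z : Γ₀ W' ⊗[Γ₀ V] sectModEt C.X₁ V, ∃ v ∈ Submodule.span (Γ₀ W') (Set.range fun j : J => push (g ≫ a) j.1),
          Finsupp.linearCombination (Γ₀ W') (fun i => res C.X₂ (g ≫ a) i) v = app₀ C.f W' (θ C.X₁ (g ≫ a) z) := by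
        intro z
        induction z using TensorProduct.induction_on with
        | zero => exact ⟨0, zero_mem _, by simp⟩
        | tmul r n =>
          refine ⟨Finsupp.single (app₀ C.f V n) r, ?_, ?_⟩
          · have hJ : (Finsupp.single (app₀ C.f V n) (1 : Γ₀ V)) ∈
                {b : sectModEt C.X₂ V →₀ Γ₀ V | σ b ∈ LinearMap.range (app₀ C.f V)} :=
              ⟨n, by simp [σ, t]⟩
            have : Finsupp.single (app₀ C.f V n) r = r • push (g ≫ a) (Finsupp.single (app₀ C.f V n) (1 : Γ₀ V)) := by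
              simp [push]
            rw [this]
            exact Submodule.smul_mem _ _ (Submodule.subset_span ⟨⟨_, hJ⟩, rfl⟩)
          · rw [Finsupp.linearCombination_single, θ_tmul, map_smul, app₀_res]
        | add p q hp hq =>
          obtain ⟨v, hv, ev⟩ := hp
          obtain ⟨v', hv', ev'⟩ := hq
          exact ⟨v + v', add_mem hv hv', by rw [map_add, map_add, map_add, ev, ev']⟩
      obtain ⟨v, hv, ev⟩ := key z
      have h0 : Finsupp.linearCombination (Γ₀ W') (fun i => res C.X₂ (g ≫ a) i) (push g b - v) = 0 := by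
        rw [map_sub, ev, hfx, sub_self]
      have hc : Submodule.span (Γ₀ V) (Set.range fun j : LinearMap.ker σ => j.1) = LinearMap.ker σ := by
        rw [show (Set.range fun j : LinearMap.ker σ => j.1) = (LinearMap.ker σ : Set _) from Subtype.range_coe]
        exact Submodule.span_eq (LinearMap.ker σ)
      have hmem := FP.relations_mem C.X₂ (O := Over.mk (g ≫ a)) (bc_of_isQuasicoherent C.X₂ (g ≫ a)) t ht
        (fun j : LinearMap.ker σ => j.1) hc
        (push g b - v) h0
      have := add_mem ((Submodule.span_mono ?_ :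
        Submodule.span (Γ₀ W') (Set.range fun j : LinearMap.ker σ => push (g ≫ a) j.1) ≤
          Submodule.span (Γ₀ W') (Set.range fun j : J => push (g ≫ a) j.1)) hmem) hv
      · rwa [sub_add_cancel] at this
      · rintro _ ⟨j, rfl⟩
        exact ⟨⟨j.1, by rw [LinearMap.mem_ker.1 j.2]; exact zero_mem _⟩, rfl⟩

theorem isQuasicoherent_of_epi (C : ShortComplex (ModEt X)) (hC : C.Exact) [Epi C.g] [C.X₁.IsQuasicoherent]
    [C.X₂.IsQuasicoherent] : C.X₃.IsQuasicoherent := by
  refine isQuasicoherent_of_bc _ (fun W : {W : EtOver X // IsAffine W.obj.left.left} => W.1)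
    (Groth.L23.SubQcoh.coversTop_affine (X := X)) ?_
  intro W W' _ g
  haveI := W.2
  exact (nonempty_data_of_epi C hC W.1).some.bc g (𝟙 _)

theorem isQuasicoherent_cokernel {F G : ModEt X} [F.IsQuasicoherent] [G.IsQuasicoherent] (φ : F ⟶ G) :
    (cokernel φ).IsQuasicoherent :=
  isQuasicoherent_of_epi (ShortComplex.mk φ (cokernel.π φ) (cokernel.condition φ))
    (ShortComplex.exact_of_g_is_cokernel _ (cokernelIsCokernel φ))

end Groth.L23.QcClosure
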