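import Groth.Agent.L09.ModEt.Converse
import Mathlib.RingTheory.Finiteness.Basic
import Mathlib.Algebra.Module.FinitePresentation

/-!
# Modules with finitely presented sections on affine objects are of finite presentation
-/

universe u

open CategoryTheory CategoryTheory.Limits AlgebraicGeometry Opposite AlgSp TensorProduct

set_option autoImplicit false
set_option linter.style.haveILetI false
set_option backward.isDefEq.respectTransparency false
set_option backward.isDefEq.respectTransparency.types false

noncomputable section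

namespace Groth.L23.FP

open Groth.L09.ModEt

variable {S : Scheme.{u}} {X : Sp S} (M : ModEt X) {W : EtOver X}

/-- Relations among the restrictions of generators come from relations. -/
theorem relations_mem {O : Over W} (hBC : BC M O.hom) {I : Type (u + 1)} (t : I → sectModEt M W)
    (ht : Function.Surjective (Finsupp.linearCombination (Γ₀ W) t)) {J : Type (u + 1)} (c : J → I →₀ Γ₀ W)
    (hc : Submodule.span (Γ₀ W) (Set.range c) = LinearMap.ker (Finsupp.linearCombination (Γ₀ W) t))
    (y : I →₀ Γ₀ O.left)
    (hy : Finsupp.linearCombination (Γ₀ O.left) (fun i => res M O.hom (t i)) y = 0) :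
    y ∈ Submodule.span (Γ₀ O.left) (Set.range fun j => push O.hom (c j)) := by
  letI := (pb O.hom).toAlgebra
  let σ₀ := Finsupp.linearCombination (Γ₀ W) t
  let P := LinearMap.ker σ₀
  let q : (I →₀ Γ₀ W) ⧸ P →ₗ[Γ₀ W] sectModEt M W := P.liftQ σ₀ le_rfl
  have hq : Function.Injective q := LinearMap.ker_eq_bot.1 (Submodule.ker_liftQ_eq_bot' P σ₀ rfl)
  have hqs : Function.Surjective q := fun m => by
    obtain ⟨b, rfl⟩ := ht m
    exact ⟨P.mkQ b, rfl⟩
  have key : ∀ z : I →₀ Γ₀ O.left,
      θ M O.hom (LinearMap.lTensor (Γ₀ O.left) q (cls (Γ₀ O.left) P z)) =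
        Finsupp.linearCombination (Γ₀ O.left) (fun i => res M O.hom (t i)) z := fun z => by
    induction z using Finsupp.induction_linear with
    | zero => simp
    | add x y hx hy => simp only [map_add, hx, hy]
    | single i r =>
      rw [cls_single, LinearMap.lTensor_tmul, θ_tmul]
      simp [q, σ₀]
  have h0 : cls (Γ₀ O.left) P y = 0 := by
    refine (LinearEquiv.ofBijective q ⟨hq, hqs⟩).lTensor (Γ₀ O.left) |>.injective ?_
    rw [map_zero]
    refine hBC.1 ?_
    rw [map_zero]
    exact (key y).trans hy
  refine (Submodule.span_le.2 ?_ : extSpan (Γ₀ O.left) P ≤ _) (mem_extSpan_iff.2 h0)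
  rintro _ ⟨b, hb, rfl⟩
  replace hb : b ∈ Submodule.span (Γ₀ W) (Set.range c) := hc ▸ hb
  induction hb using Submodule.span_induction with
  | mem x hx =>
    obtain ⟨j, rfl⟩ := hx
    exact Submodule.subset_span ⟨j, Finsupp.ext fun _ => rfl⟩
  | zero => rw [map_zero]; exact zero_mem _
  | add x y _ _ hx hy => rw [map_add]; exact add_mem hx hy
  | smul a x _ hx =>
    rw [map_smul, ← IsScalarTower.algebraMap_smul (Γ₀ O.left) a]
    exact Submodule.smul_mem _ _ hx

/-- Sections spanning over an affine object generate. -/
theorem epi_span (hBC : ∀ (W' : EtOver X) [IsAffine W'.obj.left.left] (g : W' ⟶ W), BC M g) {I : Type (u + 1)}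
    (t : I → sectModEt M W) (ht : Function.Surjective (Finsupp.linearCombination (Γ₀ W) t)) :
    Epi ((M.over W).freeHomEquiv.symm fun i => tautSec M (t i)) := by
  refine epi_of_local_span _ _ fun O z hO => ⟨⊤, (etTop X).top_mem _, fun W' e _ a w => ?_⟩
  subst w
  haveI : IsAffine O.left.obj.left.left := hO
  letI := (pb O.hom).toAlgebra
  obtain ⟨z', hz'⟩ := (hBC O.left O.hom).2 z
  have hz : resN (M.over W) (Over.homMk e rfl : Over.mk (e ≫ O.hom) ⟶ O) z = res M e (θ M O.hom z') := by
    rw [hz']; rfl
  rw [hz]
  refine mem_span_up (M.over W) (O := Over.mk (e ≫ O.hom)) _ ?_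
  clear hz hz'
  induction z' using TensorProduct.induction_on with
  | zero => rw [map_zero, map_zero]; exact zero_mem _
  | tmul b m =>
    rw [θ_tmul, res_smul, ← res_comp]
    refine Submodule.smul_mem _ (pb e b) ?_
    obtain ⟨c, rfl⟩ := ht m
    rw [Finsupp.linearCombination_apply, map_finsuppSum]
    refine Submodule.finsuppSum_mem _ _ _ _ fun i _ => ?_
    rw [res_smul]
    exact Submodule.smul_mem _ _ (Submodule.subset_span ⟨i, rfl⟩)
  | add x y hx hy => rw [map_add, map_add]; exact add_mem hx hy

/-- A finite presentation over an affine object with finitely presented sections. -/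
theorem exists_finite_presentation (hBC : ∀ (W' : EtOver X) [IsAffine W'.obj.left.left] (g : W' ⟶ W), BC M g)
    (hfp : Module.FinitePresentation (Γ₀ W) (sectModEt M W)) :
    ∃ p : (M.over W).Presentation, p.IsFinite := by
  obtain ⟨s, hs, hker⟩ := hfp.out
  let I : Type (u + 1) := ↥s
  let t : I → sectModEt M W := Subtype.val
  have ht : Function.Surjective (Finsupp.linearCombination (Γ₀ W) t) := fun m => by
    have hm : m ∈ Submodule.span (Γ₀ W) (Set.range t) := by
      rw [show Set.range t = (s : Set (sectModEt M W)) from Subtype.range_coe, hs]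
      exact Submodule.mem_top
    rw [← Finsupp.range_linearCombination] at hm
    exact hm
  obtain ⟨r, hr⟩ := hker
  let σ : (M.over W).GeneratingSections :=
    { I := I
      s := fun i => tautSec M (t i)
      epi := epi_span M hBC t ht }
  let J : Type (u + 1) := ↥r
  let fs : J → (SheafOfModules.free (R := OOn W) σ.I).sections := fun c => relSec σ.I c.1
  let F := (SheafOfModules.free (R := OOn W) σ.I).freeHomEquiv.symm fs
  have hc : Submodule.span (Γ₀ W) (Set.range fun c : J => c.1) =
      LinearMap.ker (Finsupp.linearCombination (Γ₀ W) t) :=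
    (congrArg (Submodule.span (Γ₀ W)) Subtype.range_coe).trans hr
  have hmem : ∀ c : J, Finsupp.linearCombination (Γ₀ W) t c.1 = 0 := fun c =>
    hc.le (Submodule.subset_span ⟨c, rfl⟩)
  have hres : ∀ (O : Over W) (b : I →₀ Γ₀ W), res M O.hom (Finsupp.linearCombination (Γ₀ W) t b) =
      Finsupp.linearCombination (Γ₀ O.left) (fun i => res M O.hom (t i)) (push O.hom b) := fun O b => by
    induction b using Finsupp.induction_linear with
    | zero => simp
    | add x y hx hy => simp only [map_add, hx, hy]
    | single i r => simp [push]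
  have hF : F ≫ σ.π = 0 := by
    refine (M.over W).freeHomEquiv.injective (funext fun c => Subtype.ext (funext fun O => ?_))
    rw [SheafOfModules.freeHomEquiv_comp_apply, Equiv.apply_symm_apply]
    show σ.π.val.app (op O.unop) ((fs c).eval (op O.unop)) = _
    refine (π_comb σ O.unop _).trans ?_
    show Finsupp.linearCombination (Γ₀ O.unop.left) (fun i => res M O.unop.hom (t i)) (push O.unop.hom c.1) = _
    rw [← hres, hmem, map_zero, freeHomEquiv_zero]
    rfl
  refine ⟨{ generators := σ, relations := ⟨J, (kernel σ.π).freeHomEquiv (kernel.lift σ.π F hF), ?_⟩ },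
    { isFiniteType_generators := ⟨(inferInstance : Finite ↥s)⟩, isFiniteType_relations := ⟨(inferInstance : Finite ↥r)⟩ }⟩
  refine epi_lift_aux (σ := σ) (kernel.ι σ.π) _ (fun c => c.1) (fun O => ?_) (fun O z =>
    ConcreteCategory.congr_hom ((SheafOfModules.evaluation (OOn W) (op O)).congr_map (kernel.condition σ.π)) z)
    (fun c O => ?_) fun O hO y hy => ?_
  · exact (ModuleCat.mono_iff_injective ((SheafOfModules.evaluation (OOn W) (op O)).map (kernel.ι σ.π))).1
      inferInstance
  · have := congrArg (fun k => (SheafOfModules.freeHomEquiv _ k c).eval (op O)) (kernel.lift_ι σ.π F hF)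
    simp only [SheafOfModules.freeHomEquiv_comp_apply] at this
    refine this.trans ?_
    simp only [F, Equiv.apply_symm_apply]
    rfl
  · haveI := hO
    exact relations_mem M (hBC O.left O.hom) t ht _ hc y hy

/-- The criterion. -/
theorem isFinitePresentation_of_cover [M.IsQuasicoherent]
    (h : ∀ (E : EtOver X) (e : E.obj.left.left), ∃ (W : EtOver X) (_ : IsAffine W.obj.left.left) (g : W ⟶ E),
      e ∈ Set.range g.hom.left.left ∧ Module.FinitePresentation (Γ₀ W) (sectModEt M W)) :
    M.IsFinitePresentation := by
  let ι := {W : EtOver X // IsAffine W.obj.left.left ∧ Module.FinitePresentation (Γ₀ W) (sectModEt M W)}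
  have hcov : (etTop X).CoversTop (fun W : ι => W.1) := fun E => by
    choose W hW g hg hfp using h E
    refine GrothendieckTopology.superset_covering _ ?_ (ofArrows_mem_etTop W g fun e => ⟨e, hg e⟩)
    rw [Sieve.ofArrows, Sieve.generate_le_iff]
    rintro _ _ ⟨e⟩
    exact ⟨⟨W e, hW e, hfp e⟩, ⟨𝟙 _⟩⟩
  choose p hp using fun i : ι => exists_finite_presentation M
    (fun W' _ g => haveI := i.2.1; bc_of_isQuasicoherent M g) i.2.2
  let q := SheafOfModules.QuasicoherentData.mk (M := M) ι (fun W => W.1) hcov p
  have key : q.shrink.IsFinitePresentation := by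
    constructor
    intro i
    exact hp _
  constructor
  exact ⟨q.shrink, key⟩

end Groth.L23.FP
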