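import Groth.Agent.L09.ModEt.FiniteType
import Groth.Agent.L23.FpCriterion
import Mathlib.Algebra.Module.FinitePresentation

/-!
# Sections of finitely presented modules on affine objects are finitely presented
-/

universe u

open CategoryTheory CategoryTheory.Limits AlgebraicGeometry Opposite AlgSp TensorProduct

set_option autoImplicit false
set_option linter.style.haveILetI false
set_option backward.isDefEq.respectTransparency false
set_option backward.isDefEq.respectTransparency.types false

noncomputable section

namespace Groth.L23.FP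

open Groth.L09.ModEt

variable {S : Scheme.{u}} {X : Sp S} {E : EtOver X}

set_option maxHeartbeats 1000000 in
theorem exists_data_aux (M : ModEt X) (σ : (M.over E).GeneratingSections) {K : SheafOfModules.{u + 1} (OOn E)}
    (ι : K ⟶ SheafOfModules.free (R := OOn E) σ.I) (ρ : K.GeneratingSections)
    (hι : ∀ (O : Over E) (z : K.val.obj (op O)), σ.π.val.app (op O) (ι.val.app (op O) z) = 0)
    (hlift : ∀ (O : Over E) (z : (SheafOfModules.free (R := OOn E) σ.I).val.obj (op O)), σ.π.val.app (op O) z = 0 →
      ∃ z', ι.val.app (op O) z' = z)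
    {V : EtOver X} [IsAffine V.obj.left.left] (h : V ⟶ E) : ∃ D : Data M V, D.I = σ.I ∧ D.J = ρ.I := by
  classical
  let x : ρ.I → (SheafOfModules.free (R := OOn E) σ.I).sections := fun j =>
    SheafOfModules.sectionsMap ι (ρ.s j)
  let q : ρ.I → σ.I → (SheafOfModules.unit (OOn E)).sections := fun j i =>
    SheafOfModules.sectionsMap (Groth.L09.ModGen.proj i) (x j)
  let ob : ∀ {W : EtOver X}, (W ⟶ V) → Over E := fun a => Over.mk (a ≫ h)
  let s : σ.I → sectModEt M V := fun i => (σ.s i).eval (op (Over.mk h))
  let co : ρ.I → σ.I → Γ₀ V := fun j i => dn (O := Over.mk h) ((q j i).eval (op (Over.mk h)))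
  have hsec : ∀ {W : EtOver X} (a : W ⟶ V), (fun i => res M a (s i)) = fun i => (σ.s i).eval (op (ob a)) :=
    fun {W} a => funext fun i => (σ.s i).2 (Over.homMk a rfl : ob a ⟶ Over.mk h).op
  have hco : ∀ {W : EtOver X} (a : W ⟶ V) (j : ρ.I) (i : σ.I),
      pb a (co j i) = dn ((q j i).eval (op (ob a))) := fun {W} a j i =>
    congrArg dn ((q j i).2 (Over.homMk a rfl : ob a ⟶ Over.mk h).op)
  have hπx : ∀ j (O : Over E), σ.π.val.app (op O) ((x j).eval (op O)) = 0 := fun j O =>
    hι O _
  have hloc : ∀ j : ρ.I, ∃ T ∈ etTop X V, ∀ ⦃W : EtOver X⦄ (a : W ⟶ V), T a →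
      ∃ y : σ.I →₀ Γ₀ W, (∀ i, pb a (co j i) = y i) ∧
        Finsupp.linearCombination (Γ₀ W) (fun i => res M a (s i)) y = 0 := by
    intro j
    obtain ⟨T, hT, hspan⟩ := free_local (x j) (Over.mk h)
    refine ⟨T, hT, fun W a ha => ?_⟩
    obtain ⟨y, hy'⟩ := hspan a ha (a ≫ h) rfl
    refine ⟨y, fun i => ?_, ?_⟩
    · rw [hco]
      exact (congrArg (coef i (ob a)) hy'.symm).trans (coef_comb i (ob a) y)
    · rw [hsec]
      exact (π_comb σ (ob a) y).symm.trans ((congrArg (fun t => σ.π.val.app (op (ob a)) t) hy').trans (hπx j _))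
  have hfin : ∀ j : ρ.I, ∃ c : σ.I →₀ Γ₀ V, (∀ i, c i = co j i) ∧ Finsupp.linearCombination (Γ₀ V) s c = 0 := by
    intro j
    obtain ⟨T, hT, hy⟩ := hloc j
    obtain ⟨ι, _, Z, g, -, hg, hcov⟩ := exists_finite_cover hT
    cases nonempty_fintype ι
    choose y hy₁ hy₂ using fun k => hy (g k) (hg k)
    let c : σ.I →₀ Γ₀ V := Finsupp.onFinset (Finset.univ.biUnion fun k => (y k).support) (fun i => co j i)
      fun i hi => by
        by_contra hni
        simp only [Finset.mem_biUnion, Finset.mem_univ, true_and, Finsupp.mem_support_iff, not_exists, not_not] at hni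
        exact hi (eq_fun_of_cover hcov fun k => by rw [hy₁, hni k, map_zero])
    refine ⟨c, fun i => rfl, eq_of_cover M hcov fun k => ?_⟩
    have hk : push (g k) c = y k := Finsupp.ext fun i => hy₁ k i
    rw [map_zero, ← hy₂ k, ← hk]
    induction c using Finsupp.induction_linear with
    | zero => simp
    | add u v hu hv => simp only [map_add, hu, hv]
    | single i r => simp [push]
  choose c hc hc0 using hfin
  refine ⟨{ I := σ.I, J := ρ.I, s := s, c := c, rel := hc0, gen := fun W a m => ?_, ker := fun W a b hb => ?_ }, rfl, rfl⟩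
  · obtain ⟨T, hT, hspan⟩ := exists_span (M.over E) σ (ob a) m
    refine ⟨T, hT, fun W' e he => ?_⟩
    rw [hsec]
    exact hspan e he ((e ≫ a) ≫ h) (Category.assoc _ _ _).symm
  · have hz : σ.π.val.app (op (ob a)) (Finsupp.linearCombination (Γ₀ (ob a).left)
        (fun j => (SheafOfModules.freeSection (R := OOn E) j).eval (op (ob a))) b) = 0 := by
      refine (π_comb σ (ob a) b).trans ?_
      rw [hsec] at hb
      exact hb
    obtain ⟨T, hT, hspan⟩ := ker_local ι ρ hlift (ob a) b hz
    refine ⟨T, hT, fun W' e he => ?_⟩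
    refine Exists.elim (hspan e he ((e ≫ a) ≫ h) (Category.assoc _ _ _).symm) fun d hd => ?_
    refine Finsupp.mem_span_range_iff_exists_finsupp.2 ⟨d, Finsupp.ext fun i => ?_⟩
    rw [Finsupp.sum_apply, push_apply]
    refine Eq.trans ?_ (hd i).symm
    refine Finset.sum_congr rfl fun j _ => ?_
    show HMul.hMul (α := Γ₀ W') (β := Γ₀ W') (γ := Γ₀ W') (d j) (pb (e ≫ a) (c j i)) = _
    rw [hc, hco]
    rfl

/-- A finite presentation over `E` gives finitely presented sections on affine objects over `E`. -/
theorem finitePresentation_of_presentation (M : ModEt X) (p : (M.over E).Presentation) [p.IsFinite]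
    {V : EtOver X} [IsAffine V.obj.left.left] (h : V ⟶ E) :
    Module.FinitePresentation (Γ₀ V) (sectModEt M V) := by
  obtain ⟨D, hI, hJ⟩ := exists_data_aux M p.generators (kernel.ι p.generators.π) p.relations
    (fun O z => ConcreteCategory.congr_hom
      ((SheafOfModules.evaluation (OOn E) (op O)).congr_map (kernel.condition p.generators.π)) z)
    (fun O z hz => Groth.L09.ModGen.exists_kernel_lift p.generators.π z hz) h
  haveI : Finite D.I := hI ▸ (inferInstance : Finite p.generators.I)
  haveI : Finite D.J := hJ ▸ (inferInstance : Finite p.relations.I)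
  haveI : Module.FinitePresentation (Γ₀ V) (D.I →₀ Γ₀ V) := Module.finitePresentation_of_projective _ _
  refine Module.finitePresentation_of_surjective (D.φ (𝟙 V)) (D.surj_affine (𝟙 V)) ?_
  have : LinearMap.ker (D.φ (𝟙 V)) = D.P (𝟙 V) :=
    le_antisymm (fun b hb => D.ker_affine (𝟙 V) hb) fun b hb => D.φ_eq_zero (𝟙 V) hb
  rw [this]
  exact Submodule.fg_span (Set.finite_range _)

/-- Finitely presented modules have finitely presented sections on affine objects. -/
theorem finitePresentation_sectModEt (M : ModEt X) [M.IsFinitePresentation] (E : EtOver X)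
    [IsAffine E.obj.left.left] : Module.FinitePresentation (Γ₀ E) (sectModEt M E) := by
  classical
  obtain ⟨q, hq⟩ := SheafOfModules.IsFinitePresentation.exists_quasicoherentData M
  haveI := hq
  obtain ⟨ι, _, V, c, hV, hR, hc⟩ := exists_finite_cover (q.coversTop E)
  haveI := hV
  choose i hi using fun k => hR k
  haveI : ∀ k, Module.FinitePresentation (Γ₀ (V k)) (sectModEt M (V k)) := fun k =>
    haveI := hq.isFinite_presentation (i k)
    finitePresentation_of_presentation M (q.presentation (i k)) (hi k).some
  haveI := finite_sectModEt M E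
  obtain ⟨n, s, hs⟩ := Module.Finite.exists_fin (R := Γ₀ E) (M := sectModEt M E)
  let t : ULift.{u + 1} (Fin n) → sectModEt M E := fun i => s i.down
  let σ := Finsupp.linearCombination (Γ₀ E) t
  have ht : Function.Surjective σ := by
    rw [← LinearMap.range_eq_top, Finsupp.range_linearCombination, eq_top_iff, ← hs]
    refine Submodule.span_mono ?_
    rintro _ ⟨i, rfl⟩
    exact ⟨⟨i⟩, rfl⟩
  let K := LinearMap.ker σ
  let cK : K → ULift.{u + 1} (Fin n) →₀ Γ₀ E := fun j => j.1
  have hcK : Submodule.span (Γ₀ E) (Set.range cK) = K := by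
    rw [show Set.range cK = (K : Set _) from Subtype.range_coe]
    exact Submodule.span_eq K
  let σ' : ∀ k, (ULift.{u + 1} (Fin n) →₀ Γ₀ (V k)) →ₗ[Γ₀ (V k)] sectModEt M (V k) := fun k =>
    Finsupp.linearCombination (Γ₀ (V k)) fun i => res M (c k) (t i)
  have hmem : ∀ k, LinearMap.ker (σ' k) = Submodule.span (Γ₀ (V k)) (Set.range fun j => push (c k) (cK j)) := by
    intro k
    refine le_antisymm (fun y hy => relations_mem M (O := Over.mk (c k)) (bc_of_isQuasicoherent M (c k)) t ht cK hcK y hy)
      (Submodule.span_le.2 ?_)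
    rintro _ ⟨j, rfl⟩
    show σ' k (push (c k) j.1) = 0
    rw [← res_linearCombination, show Finsupp.linearCombination (Γ₀ E) t j.1 = 0 from j.2, map_zero]
  have hsur : ∀ k, Function.Surjective (σ' k) := fun k y => by
    letI := (pb (c k)).toAlgebra
    obtain ⟨z, rfl⟩ := (bc_of_isQuasicoherent M (c k)).2 y
    induction z using TensorProduct.induction_on with
    | zero => exact ⟨0, by simp⟩
    | tmul b m =>
      obtain ⟨x, rfl⟩ := ht m
      exact ⟨b • push (c k) x, by rw [map_smul, θ_tmul, res_linearCombination]⟩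
    | add p q hp hq =>
      obtain ⟨x, hx⟩ := hp
      obtain ⟨y, hy⟩ := hq
      exact ⟨x + y, by rw [map_add, map_add, hx, hy]⟩
  have hex : ∀ k, ∃ T : Finset K, Submodule.span (Γ₀ (V k)) ((fun j => push (c k) (cK j)) '' (T : Set K)) =
      LinearMap.ker (σ' k) := by
    intro k
    have hfg : (LinearMap.ker (σ' k)).FG := Module.FinitePresentation.fg_ker _ (hsur k)
    rw [hmem k] at hfg ⊢
    obtain ⟨T₀, hT₀, heq⟩ := Submodule.fg_span_iff_fg_span_finset_subset _ |>.1 hfg
    choose j hj using fun x : T₀ => hT₀ x.2
    refine ⟨Finset.univ.image j, ?_⟩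
    rw [heq]
    congr 1
    ext x
    simp only [Finset.coe_image, Finset.coe_univ, Set.image_univ, ← Set.range_comp, Set.mem_range,
      Function.comp_apply, hj, Finset.mem_coe]
    exact ⟨fun ⟨y, hy⟩ => hy ▸ y.2, fun hx => ⟨⟨x, hx⟩, rfl⟩⟩
  choose T hT using hex
  cases nonempty_fintype ι
  let U : Finset K := Finset.univ.biUnion T
  have hle : K = Submodule.span (Γ₀ E) (cK '' (U : Set K)) := by
    refine le_antisymm (fun x hx => ?_) (Submodule.span_le.2 ?_)
    · have hk : ∀ k, push (c k) x ∈ Submodule.span (Γ₀ (V k))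
          (Set.range fun j : U => push (c k) (cK j.1)) := fun k => by
        have h1 : push (c k) x ∈ LinearMap.ker (σ' k) := by
          show σ' k (push (c k) x) = 0
          rw [← res_linearCombination, show Finsupp.linearCombination (Γ₀ E) t x = 0 from hx, map_zero]
        rw [← hT k] at h1
        refine Submodule.span_mono ?_ h1
        rintro _ ⟨j, hj, rfl⟩
        exact ⟨⟨j, Finset.mem_biUnion.2 ⟨k, Finset.mem_univ _, hj⟩⟩, rfl⟩
      choose b hb using fun k => Finsupp.mem_span_range_iff_exists_finsupp.1 (hk k)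
      let bU : ∀ k, ULift.{u + 1} U →₀ Γ₀ (V k) := fun k =>
        Finsupp.mapDomain ULift.up (b k)
      obtain ⟨f, hf⟩ := exists_glue_vec V c bU
      let d := sigmaDesc V c
      letI := (pb d).toAlgebra
      haveI : Module.FaithfullyFlat (Γ₀ E) (Γ₀ (sigmaObj V c)) :=
        Data.faithfullyFlat_pb d (surjective_sigmaDesc V c hc)
      have hd : f.sum (fun j r => r • push d (cK j.down.1)) = push d x := by
        refine eq_vec_of_cover (isCover_sigmaι V c) fun k => ?_
        rw [← push_comp, sigmaι_desc, map_finsuppSum]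
        simp only [push_smul, ← push_comp, d, sigmaι_desc]
        rw [← hb k]
        refine ((Finsupp.sum_mapRange_index (g := f)
          (h := fun j r => r • push (c k) (cK j.down.1)) (hf := map_zero (pb (sigmaι V c k)))
          fun j => zero_smul _ _).symm.trans ?_)
        rw [show Finsupp.mapRange (pb (sigmaι V c k)) (map_zero _) f = bU k from hf k]
        exact Finsupp.sum_mapDomain_index (fun _ => zero_smul _ _) fun _ _ _ => add_smul _ _ _
      refine mem_of_ext_mem (S := Γ₀ (sigmaObj V c)) ?_
      rw [show ext (Γ₀ E) (Γ₀ (sigmaObj V c)) x = push (I := ULift.{u + 1} (Fin n)) d x from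
        Finsupp.ext fun _ => rfl, ← hd]
      refine Submodule.finsuppSum_mem _ _ _ _ fun j _ => Submodule.smul_mem _ _ (Submodule.subset_span ?_)
      exact ⟨cK j.down.1, Submodule.subset_span ⟨j.down.1, j.down.2, rfl⟩, Finsupp.ext fun _ => rfl⟩
    · rintro _ ⟨j, -, rfl⟩
      exact j.2
  haveI : Module.FinitePresentation (Γ₀ E) (ULift.{u + 1} (Fin n) →₀ Γ₀ E) :=
    Module.finitePresentation_of_projective _ _
  refine Module.finitePresentation_of_surjective σ ht ?_
  show K.FG
  rw [hle]
  exact Submodule.fg_span (U.finite_toSet.image cK)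

end Groth.L23.FP

namespace Groth.L23.FP

open Groth.L09.ModEt

variable {S : Scheme.{u}} {X : Sp S} (M : ModEt X)

/-- Finitely presented sections are kept by affine base change. -/
theorem finitePresentation_of_bc {E W : EtOver X} (g : W ⟶ E) (hbc : BC M g)
    [Module.FinitePresentation (Γ₀ E) (sectModEt M E)] :
    Module.FinitePresentation (Γ₀ W) (sectModEt M W) := by
  letI := (pb g).toAlgebra
  let L : Γ₀ W ⊗[Γ₀ E] sectModEt M E →ₗ[Γ₀ W] sectModEt M W :=
    { toFun := θ M g
      map_add' := map_add _
      map_smul' := fun r z => by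
        induction z using TensorProduct.induction_on with
        | zero => simp
        | tmul b m => rw [TensorProduct.smul_tmul', θ_tmul, θ_tmul, RingHom.id_apply, smul_eq_mul, mul_smul]
        | add x y hx hy => simp only [smul_add, map_add, hx, hy, RingHom.id_apply] }
  exact Module.FinitePresentation.of_equiv (LinearEquiv.ofBijective L hbc)

/-- Finite presentation goes up to a finite algebra. -/
theorem finitePresentation_of_restrictScalars (R : Type u) (A : Type u) (N : Type*) [CommRing R] [CommRing A]
    [Algebra R A] [AddCommGroup N] [Module R N] [Module A N] [IsScalarTower R A N] [Module.Finite R A]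
    [Module.FinitePresentation R N] : Module.FinitePresentation A N := by
  haveI : Module.Finite A N := Module.Finite.of_restrictScalars_finite R A N
  obtain ⟨n, f, hf⟩ := Module.Finite.exists_fin' A N
  haveI : Module.FinitePresentation A (Fin n → A) := Module.finitePresentation_of_projective _ _
  refine Module.finitePresentation_of_surjective f hf ?_
  have h : (LinearMap.ker (f.restrictScalars R)).FG := Module.FinitePresentation.fg_ker _ hf
  exact Submodule.FG.of_restrictScalars R (by simpa using h)

end Groth.L23.FP
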