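import Groth.Agent.L09.ModEt.Converse
import Mathlib.Algebra.Category.ModuleCat.Presheaf.Submodule
import Mathlib.RingTheory.Flat.Basic
import Mathlib.RingTheory.TensorProduct.Basic

/-!
# Quasi-coherent submodules from submodules on the affine objects
-/

universe u

open CategoryTheory CategoryTheory.Limits AlgebraicGeometry Opposite AlgSp TensorProduct

set_option autoImplicit false
set_option linter.style.haveILetI false
set_option backward.isDefEq.respectTransparency false
set_option backward.isDefEq.respectTransparency.types false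

noncomputable section

namespace Groth.L23.SubQcoh

open Groth.L09.ModEt

variable {S : Scheme.{u}} {X : Sp S} (M : ModEt X)

/-- Submodules on the affine objects, compatible with base change. -/
structure AffSub where
  /-- the submodule -/
  P : ∀ (E : EtOver X) [IsAffine E.obj.left.left], Submodule (Γ₀ E) (sectModEt M E)
  res_mem : ∀ {E E' : EtOver X} [IsAffine E.obj.left.left] [IsAffine E'.obj.left.left] (g : E' ⟶ E) {s : sectModEt M E},
    s ∈ P E → res M g s ∈ P E'
  mem_span : ∀ {E E' : EtOver X} [IsAffine E.obj.left.left] [IsAffine E'.obj.left.left] (g : E' ⟶ E) {z : sectModEt M E'},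
    z ∈ P E' → z ∈ Submodule.span (Γ₀ E') (res M g '' (P E : Set (sectModEt M E)))

variable {M} (A : AffSub M)

theorem AffSub.mem_range_θ {E E' : EtOver X} [IsAffine E.obj.left.left] [IsAffine E'.obj.left.left] (g : E' ⟶ E)
    {z : sectModEt M E'} (hz : z ∈ A.P E') :
    letI := (pb g).toAlgebra
    ∃ y : Γ₀ E' ⊗[Γ₀ E] A.P E, θ M g ((A.P E).subtype.lTensor (Γ₀ E') y) = z := by
  letI := (pb g).toAlgebra
  have h := A.mem_span g hz
  clear hz
  induction h using Submodule.span_induction with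
  | mem x hx =>
    obtain ⟨s, hs, rfl⟩ := hx
    exact ⟨1 ⊗ₜ ⟨s, hs⟩, by rw [LinearMap.lTensor_tmul, θ_tmul, one_smul]; rfl⟩
  | zero => exact ⟨0, by simp⟩
  | add x y _ _ hx hy =>
    obtain ⟨a, ha⟩ := hx
    obtain ⟨b, hb⟩ := hy
    exact ⟨a + b, by rw [map_add, map_add, ha, hb]⟩
  | smul r x hxm hx =>
    obtain ⟨y, rfl⟩ := hx
    refine ⟨r • y, ?_⟩
    clear hxm
    induction y using TensorProduct.induction_on with
    | zero => simp
    | tmul b m => rw [TensorProduct.smul_tmul', LinearMap.lTensor_tmul, LinearMap.lTensor_tmul, θ_tmul, θ_tmul, smul_smul, smul_eq_mul]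
    | add a b ha hb => simp only [smul_add, map_add, ha, hb]

/-- Membership is local on affine objects. -/
theorem AffSub.mem_of_cover [M.IsQuasicoherent] {E : EtOver X} [IsAffine E.obj.left.left] {s : sectModEt M E}
    (h : ∀ e : ↥E.obj.left.left, ∃ (V : EtOver X) (_ : IsAffine V.obj.left.left) (g : V ⟶ E),
      e ∈ Set.range g.hom.left.left ∧ res M g s ∈ A.P V) : s ∈ A.P E := by
  let ψ : Γ₀ E →ₗ[Γ₀ E] sectModEt M E ⧸ A.P E := (A.P E).mkQ.comp (LinearMap.toSpanSingleton _ _ s)
  by_contra hs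
  have hne : LinearMap.ker ψ ≠ ⊤ := fun htop => hs (by
    have h1 : (1 : Γ₀ E) ∈ LinearMap.ker ψ := htop ▸ Submodule.mem_top
    simpa [ψ] using h1)
  obtain ⟨m, hm, hle⟩ := Ideal.exists_le_maximal _ hne
  haveI := hm.isPrime
  obtain ⟨e, he⟩ : ∃ e, primeAtPt E.obj.left.left e = m := by
    obtain ⟨e, he⟩ := E.obj.left.left.isoSpec.hom.surjective ⟨m, hm.isPrime⟩
    exact ⟨e, congrArg PrimeSpectrum.asIdeal he⟩
  obtain ⟨V, hV, g, ⟨v, hv⟩, hgs⟩ := h e
  haveI := hV
  letI := (pb g).toAlgebra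
  haveI : Module.Flat (Γ₀ E) (Γ₀ V) := flat_pb g
  obtain ⟨y, hy⟩ := A.mem_range_θ g hgs
  have hy' : (A.P E).subtype.lTensor (Γ₀ V) y = 1 ⊗ₜ s :=
    (bc_of_isQuasicoherent M g).1 (by rw [hy, θ_tmul, one_smul])
  have h0 : ψ.lTensor (Γ₀ V) (1 ⊗ₜ 1) = 0 := by
    have : (A.P E).mkQ.lTensor (Γ₀ V) (1 ⊗ₜ s) = 0 := by
      rw [← hy', ← LinearMap.comp_apply, ← LinearMap.lTensor_comp,
        show (A.P E).mkQ.comp (A.P E).subtype = 0 from by ext x; simp, LinearMap.lTensor_zero, LinearMap.zero_apply]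
    rw [← this]
    simp [ψ]
  obtain ⟨k, hk⟩ := (Module.Flat.lTensor_exact (Γ₀ V) (LinearMap.exact_subtype_ker_map ψ) _).1 h0
  let P₀ := primeAtPt V.obj.left.left v
  have hle' : ∀ a ∈ LinearMap.ker ψ, pb g a ∈ P₀ := fun a ha => by
    have hc : Ideal.comap (pb g) P₀ = m := by
      rw [← he, ← hv]
      show Ideal.comap _ (V.obj.left.left.toSpecΓ v).asIdeal = (E.obj.left.left.toSpecΓ (g.hom.left.left v)).asIdeal
      rw [← Scheme.Hom.comp_apply, Scheme.toSpecΓ_naturality, Scheme.Hom.comp_apply]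
      rfl
    exact Ideal.mem_comap.1 (hc.symm ▸ hle ha)
  have h1 : (1 : Γ₀ V) ∈ P₀ := by
    have e1 := congrArg (TensorProduct.rid (Γ₀ E) (Γ₀ V)) hk
    rw [TensorProduct.rid_tmul, one_smul] at e1
    rw [← e1]
    clear e1 hk
    induction k using TensorProduct.induction_on with
    | zero => simp
    | tmul b a =>
      rw [LinearMap.lTensor_tmul, TensorProduct.rid_tmul, Algebra.smul_def]
      exact P₀.mul_mem_right _ (hle' a.1 a.2)
    | add a b ha hb => rw [map_add, map_add]; exact add_mem ha hb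
  have hp : P₀.IsPrime := (V.obj.left.left.toSpecΓ v).isPrime
  exact hp.one_notMem h1

/-- The sections lying in the given submodules on all affine objects. -/
def AffSub.sub : M.val.Submodule where
  obj E :=
    { carrier := {s | ∀ (W : EtOver X) [IsAffine W.obj.left.left] (g : W ⟶ E.unop), res M g s ∈ A.P W}
      add_mem' := fun hs ht W _ g => by rw [map_add]; exact add_mem (hs W g) (ht W g)
      zero_mem' := fun W _ g => by rw [map_zero]; exact zero_mem _
      smul_mem' := fun r s hs W _ g => by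
        have e : res M g (r • s) = pb g r.down • res M g s := res_smul M g r.down s
        rw [e]
        exact Submodule.smul_mem _ _ (hs W g) }
  map {E E'} f s hs W _ g := by
    show res M g (res M f.unop s) ∈ A.P W
    rw [← res_comp]
    exact hs W _

theorem AffSub.mem_sub_iff {E : EtOver X} [IsAffine E.obj.left.left] (s : sectModEt M E) :
    s ∈ A.sub.obj (op E) ↔ s ∈ A.P E :=
  ⟨fun h => by simpa using h E (𝟙 E), fun h W _ g => A.res_mem g h⟩

theorem AffSub.isSheaf [M.IsQuasicoherent] :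
    Presheaf.IsSheaf (etTop X) A.sub.toPresheafOfModules.presheaf := by
  rw [Presheaf.isSheaf_iff_isSheaf_forget _ _ (CategoryTheory.forget AddCommGrpCat.{u + 1}),
    isSheaf_iff_isSheaf_of_type]
  intro E R hR x hx
  let y : Presieve.FamilyOfElements (M.val.presheaf ⋙ CategoryTheory.forget _) R.arrows :=
    fun V f hf => Subtype.val (x f hf)
  have hy : y.Compatible := fun V₁ V₂ W g₁ g₂ f₁ f₂ h₁ h₂ e => congrArg Subtype.val (hx g₁ g₂ h₁ h₂ e)
  obtain ⟨s, hs, huniq⟩ := isSheaf_type M R hR y hy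
  have hmem : s ∈ A.sub.obj (op E) := fun W _ g => A.mem_of_cover fun e => by
    obtain ⟨V, hV, c, hc, he⟩ := exists_refinement ((etTop X).pullback_stable g hR) e
    haveI := hV
    refine ⟨V, hV, c, he, ?_⟩
    have hc' : R (c ≫ g) := hc
    have h2 : res M (c ≫ g) s = (x (c ≫ g) hc').1 := hs (c ≫ g) hc'
    rw [← res_comp, h2]
    exact (A.mem_sub_iff _).1 (x (c ≫ g) hc').2
  exact ⟨⟨s, hmem⟩, fun V f hf => Subtype.ext (hs f hf),
    fun t ht => Subtype.ext (huniq t.1 fun V f hf => congrArg Subtype.val (ht f hf))⟩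

/-- The submodule sheaf. -/
def AffSub.mod [M.IsQuasicoherent] : ModEt X := ⟨A.sub.toPresheafOfModules, A.isSheaf⟩

/-- The inclusion of the submodule sheaf. -/
def AffSub.ι [M.IsQuasicoherent] : A.mod ⟶ M := ⟨A.sub.ι⟩

instance [M.IsQuasicoherent] : Mono A.ι :=
  (SheafOfModules.forget (OEtRing X)).mono_of_mono_map (inferInstanceAs (Mono A.sub.ι))

theorem AffSub.range_ι [M.IsQuasicoherent] (E : EtOver X) [IsAffine E.obj.left.left] :
    Set.range (A.ι.val.app (op E)).hom = (A.P E : Set (sectModEt M E)) := by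
  ext s
  exact ⟨fun ⟨t, ht⟩ => ht ▸ (A.mem_sub_iff _).1 t.2, fun hs => ⟨⟨s, (A.mem_sub_iff s).2 hs⟩, rfl⟩⟩

/-- Affine objects cover the final object. -/
theorem coversTop_affine : (etTop X).CoversTop (fun W : {W : EtOver X // IsAffine W.obj.left.left} => W.1) := by
  intro E
  refine GrothendieckTopology.superset_covering _ ?_ (ofArrows_mem_etTop
    (fun B : E.obj.left.left.affineOpens => openObj E B.1) (fun B => openι E B.1) fun x => ?_)
  · rw [Sieve.ofArrows, Sieve.generate_le_iff]
    rintro _ _ ⟨B⟩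
    exact ⟨⟨openObj E B.1, B.2⟩, ⟨𝟙 _⟩⟩
  · obtain ⟨_, ⟨(B : E.obj.left.left.Opens), hB, rfl⟩, hxB, -⟩ :=
      E.obj.left.left.isBasis_affineOpens.exists_subset_of_mem_open (Set.mem_univ x) isOpen_univ
    exact ⟨⟨B, hB⟩, ⟨x, hxB⟩, rfl⟩

theorem AffSub.isQuasicoherent [M.IsQuasicoherent] : A.mod.IsQuasicoherent := by
  refine isQuasicoherent_of_bc _ _ coversTop_affine fun i W' _ g => ?_
  haveI := i.2
  letI := (pb g).toAlgebra
  haveI : Module.Flat (Γ₀ i.1) (Γ₀ W') := flat_pb g
  let incl : sectModEt A.mod i.1 →ₗ[Γ₀ i.1] sectModEt M i.1 :=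
    { toFun := Subtype.val
      map_add' := fun _ _ => rfl
      map_smul' := fun _ _ => rfl }
  have hnat : ∀ y, (θ A.mod g y).1 = θ M g (incl.lTensor (Γ₀ W') y) := by
    intro y
    induction y using TensorProduct.induction_on with
    | zero => simp
    | tmul b m => rw [LinearMap.lTensor_tmul, θ_tmul, θ_tmul]; rfl
    | add a b ha hb => rw [map_add, map_add, map_add, ← ha, ← hb]; rfl
  refine ⟨fun a b hab => ?_, fun z => ?_⟩
  · refine Module.Flat.lTensor_preserves_injective_linearMap incl Subtype.val_injective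
      ((bc_of_isQuasicoherent M g).1 ?_)
    rw [← hnat, ← hnat, hab]
  · obtain ⟨y, hy⟩ := A.mem_range_θ g ((A.mem_sub_iff z.1).1 z.2)
    let toMod : A.P i.1 →ₗ[Γ₀ i.1] sectModEt A.mod i.1 :=
      { toFun := fun p => ⟨p.1, (A.mem_sub_iff p.1).2 p.2⟩
        map_add' := fun _ _ => rfl
        map_smul' := fun _ _ => rfl }
    refine ⟨toMod.lTensor (Γ₀ W') y, Subtype.ext ?_⟩
    rw [hnat, ← LinearMap.comp_apply, ← LinearMap.lTensor_comp]
    exact hy

/-- Sections killed by a finitely generated ideal commute with affine base change. -/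
theorem mem_span_killed [M.IsQuasicoherent] {E E' : EtOver X} [IsAffine E.obj.left.left] [IsAffine E'.obj.left.left]
    (g : E' ⟶ E) (J : Ideal (Γ₀ E)) (hJ : J.FG) {z : sectModEt M E'} (hz : ∀ a ∈ J, pb g a • z = 0) :
    z ∈ Submodule.span (Γ₀ E') (res M g '' {s : sectModEt M E | ∀ a ∈ J, a • s = 0}) := by
  classical
  obtain ⟨T, hT⟩ := hJ
  letI := (pb g).toAlgebra
  haveI : Module.Flat (Γ₀ E) (Γ₀ E') := flat_pb g
  obtain ⟨y, rfl⟩ := (bc_of_isQuasicoherent M g).2 z
  let Φ : sectModEt M E →ₗ[Γ₀ E] (↥T → sectModEt M E) := LinearMap.pi fun a => a.1 • LinearMap.id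
  have hΦ : ∀ (a : ↥T) y, θ M g (TensorProduct.piRight (Γ₀ E) (Γ₀ E) (Γ₀ E') _ (Φ.lTensor (Γ₀ E') y) a) =
      pb g a.1 • θ M g y := by
    intro a y
    induction y using TensorProduct.induction_on with
    | zero => simp
    | tmul b m =>
      rw [LinearMap.lTensor_tmul, TensorProduct.piRight_apply, TensorProduct.piRightHom_tmul, θ_tmul, θ_tmul]
      show b • res M g (a.1 • m) = _
      rw [res_smul, smul_smul, smul_smul, mul_comm]
    | add p q hp hq => simp only [map_add, Pi.add_apply, hp, hq, smul_add]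
  have h0 : Φ.lTensor (Γ₀ E') y = 0 := by
    refine (TensorProduct.piRight (Γ₀ E) (Γ₀ E) (Γ₀ E') _).injective ?_
    rw [map_zero]
    funext a
    refine (bc_of_isQuasicoherent M g).1 ?_
    rw [hΦ, hz a.1 (hT ▸ Submodule.subset_span a.2)]
    exact (map_zero _).symm
  obtain ⟨k, rfl⟩ := (Module.Flat.lTensor_exact (Γ₀ E') (LinearMap.exact_subtype_ker_map Φ) y).1 h0
  clear hz h0
  induction k using TensorProduct.induction_on with
  | zero => simp
  | tmul b m =>
    rw [LinearMap.lTensor_tmul, θ_tmul]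
    refine Submodule.smul_mem _ b (Submodule.subset_span ⟨m.1, fun a ha => ?_, rfl⟩)
    rw [← hT] at ha
    induction ha using Submodule.span_induction with
    | mem x hx => exact congrFun (LinearMap.mem_ker.1 m.2) ⟨x, hx⟩
    | zero => exact zero_smul _ _
    | add x y _ _ hx hy => rw [add_smul, hx, hy, add_zero]
    | smul r x _ hx => rw [smul_eq_mul, mul_smul, hx, smul_zero]
  | add p q hp hq => rw [map_add, map_add]; exact add_mem hp hq

end Groth.L23.SubQcoh
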