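import Groth.Agent.L23.StalkPoint
import Groth.Agent.L23.StalkProps
import Mathlib.Algebra.Category.Grp.AB

/-!
# The geometric points form a conservative family of points of the small étale site
-/

universe u

open CategoryTheory CategoryTheory.Limits AlgebraicGeometry Opposite AlgSp

set_option backward.isDefEq.respectTransparency.types false
set_option linter.style.haveILetI false

namespace Groth.L23.SH

variable {S : Scheme.{u}} {X : AlgSp.Space S}

theorem exists_geom_lift {E : EtOver X.obj} (z : E.obj.left.left) :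
    ∃ (p : FieldPt X.obj) (_ : p.IsGeometric) (x : (FieldPt.liftsTo p).obj E),
      x.1.left (IsLocalRing.closedPoint p.K) = z := by
  obtain ⟨p, hp, hpz⟩ := exists_geometric (Points.ofPt E.obj.hom z)
  haveI : IsAlgClosed p.K := hp
  obtain ⟨γ, h₁, h₂⟩ := Groth.L23.QFL.exists_lift_algClosed (a := E.obj.hom) E.property p.toHom z
    (IsLocalRing.closedPoint p.K) (by rw [Points.ofPt_toHom p _, hpz])
  exact ⟨p, hp, ⟨γ, h₁⟩, h₂⟩

/-- A sieve which contains a neighbourhood of every geometric point is covering. -/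
theorem mem_etTop_of_points {E : EtOver X.obj} (R : Sieve E)
    (h : ∀ (p : FieldPt X.obj) (_ : p.IsGeometric) (x : (FieldPt.liftsTo p).obj E),
      ∃ (Y : EtOver X.obj) (f : Y ⟶ E) (y : (FieldPt.liftsTo p).obj Y),
        (FieldPt.liftsTo p).map f y = x ∧ R f) :
    R ∈ etTop X.obj E := by
  choose p hp x hx using fun z : E.obj.left.left => exists_geom_lift z
  choose Y f y hy hf using fun z => h (p z) (hp z) (x z)
  refine GrothendieckTopology.superset_covering _ ?_ (ofArrows_mem_etTop Y f fun z => ⟨z, ?_⟩)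
  · rw [Sieve.ofArrows, Sieve.generate_le_iff]
    rintro _ _ ⟨i⟩
    exact hf i
  · refine ⟨(y z).1.left (IsLocalRing.closedPoint (p z).K), ?_⟩
    exact (congrArg (fun u => u.1.left (IsLocalRing.closedPoint (p z).K)) (hy z)).trans (hx z)

section

variable {A : Type*} [Category A] {FC : A → A → Type*} {CC : A → Type (u + 1)}
  [∀ (X Y : A), FunLike (FC X Y) (CC X) (CC Y)] [ConcreteCategory.{u + 1} A FC]
  [HasColimitsOfSize.{u, u} A] [PreservesFilteredColimitsOfSize.{u, u} (CategoryTheory.forget A)]
  {P Q : (EtOver X.obj)ᵒᵖ ⥤ A} (f : P ⟶ Q)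

theorem isLocallyInjective_of_stalk
    (h : ∀ (p : FieldPt X.obj) (hp : p.IsGeometric),
      Function.Injective ((sitePoint p hp).presheafFiber.map f)) :
    Presheaf.IsLocallyInjective (etTop X.obj) f where
  equalizerSieve_mem {E} a b hab := by
    refine mem_etTop_of_points _ fun p hp x => ?_
    have e : (sitePoint p hp).toPresheafFiber E.unop x P a = (sitePoint p hp).toPresheafFiber E.unop x P b := by
      apply h p hp
      rw [GrothendieckTopology.Point.toPresheafFiber_naturality_apply,
        GrothendieckTopology.Point.toPresheafFiber_naturality_apply]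
      exact congrArg _ hab
    obtain ⟨Y, g, y, hy, hg⟩ := ((sitePoint p hp).toPresheafFiber_eq_iff' E.unop x a b).1 e
    exact ⟨Y, g, y, hy, hg⟩

theorem isLocallySurjective_of_stalk
    (h : ∀ (p : FieldPt X.obj) (hp : p.IsGeometric),
      Function.Surjective ((sitePoint p hp).presheafFiber.map f)) :
    Presheaf.IsLocallySurjective (etTop X.obj) f where
  imageSieve_mem {E} s := by
    refine mem_etTop_of_points _ fun p hp x => ?_
    haveI : IsCofiltered (FieldPt.liftsTo p).Elements := Groth.Agent.S10217.result X p hp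
    obtain ⟨w, hw⟩ := h p hp ((sitePoint p hp).toPresheafFiber E x Q s)
    obtain ⟨X', x', t, rfl⟩ := (sitePoint p hp).toPresheafFiber_jointly_surjective (P := P) w
    rw [GrothendieckTopology.Point.toPresheafFiber_naturality_apply] at hw
    obtain ⟨⟨W, w⟩, g₁, g₂, -⟩ := IsCofilteredOrEmpty.cone_objs (C := (FieldPt.liftsTo p).Elements)
      (⟨E, x⟩ : (FieldPt.liftsTo p).Elements) (⟨X', x'⟩ : (FieldPt.liftsTo p).Elements)
    obtain ⟨g₁, hg₁⟩ := g₁
    change W ⟶ E at g₁
    replace hg₁ : (FieldPt.liftsTo p).map g₁ w = x := hg₁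
    obtain ⟨g₂, hg₂⟩ := g₂
    change W ⟶ X' at g₂
    replace hg₂ : (FieldPt.liftsTo p).map g₂ w = x' := hg₂
    subst hg₁ hg₂
    have e : (sitePoint p hp).toPresheafFiber W w Q (f.app (op W) (P.map g₂.op t)) =
        (sitePoint p hp).toPresheafFiber W w Q (Q.map g₁.op s) := by
      rw [NatTrans.naturality_apply]
      exact ((sitePoint p hp).toPresheafFiber_w_apply g₂ w Q _).trans
        (hw.trans ((sitePoint p hp).toPresheafFiber_w_apply g₁ w Q _).symm)
    obtain ⟨Y, g, y, hy, hg⟩ := ((sitePoint p hp).toPresheafFiber_eq_iff' W w _ _).1 e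
    subst hy
    refine ⟨Y, g ≫ g₁, y, by rw [Functor.map_comp_apply]; rfl, P.map g.op (P.map g₂.op t), ?_⟩
    rw [NatTrans.naturality_apply, hg, op_comp, Functor.map_comp_apply]

end

end Groth.L23.SH
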