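import Groth.Agent.L23.PointClassify
import Groth.Agent.L23.StalkConservative
import Mathlib.Algebra.Category.Grp.AB

/-!
# Sections, supports and stalks on the small étale site
-/

universe u

open CategoryTheory CategoryTheory.Limits AlgebraicGeometry Opposite AlgSp TopologicalSpace

set_option backward.isDefEq.respectTransparency.types false
set_option linter.style.haveILetI false

namespace Groth.L23.Supp

open Groth.L23.PC

variable {S : Scheme.{u}} {X : AlgSp.Space S}

theorem isOpen_range_ofPt (E : EtOver X.obj) : IsOpen (Set.range (Points.ofPt E.obj.hom)) := by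
  rw [ofPt_eq_comp, (Points.schemeEquiv E.obj.left).surjective.range_comp]
  exact (isOpenMap_map_of_universallyOpen (repWith_universallyOpen_of_etale E.property)).isOpen_range

theorem ofPt_openE (E : EtOver X.obj) (V : E.obj.left.left.Opens) (x : ↥(openE E V).obj.left.left) :
    Points.ofPt (openE E V).obj.hom x = Points.ofPt E.obj.hom ((openEι E V).hom.left.left x) := by
  rw [← EtOver.w (openEι E V), ofPt_comp]

theorem range_ofPt_mono {V E : EtOver X.obj} (φ : V ⟶ E) :
    Set.range (Points.ofPt V.obj.hom) ⊆ Set.range (Points.ofPt E.obj.hom) := by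
  rintro _ ⟨v, rfl⟩
  exact ⟨φ.hom.left.left v, by rw [← EtOver.w φ, ofPt_comp]⟩

theorem exists_lift_of_mem_range {E : EtOver X.obj} (p : FieldPt X.obj) (hp : p.IsGeometric) (z : E.obj.left.left)
    (h : Points.mk p = Points.ofPt E.obj.hom z) :
    ∃ l : (FieldPt.liftsTo p).obj E, l.1.left (IsLocalRing.closedPoint p.K) = z := by
  haveI : IsAlgClosed p.K := hp
  obtain ⟨γ, h₁, h₂⟩ := Groth.L23.QFL.exists_lift_algClosed (a := E.obj.hom) E.property p.toHom z
    (IsLocalRing.closedPoint p.K) (by rw [Points.ofPt_toHom p _, h])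
  exact ⟨⟨γ, h₁⟩, h₂⟩

theorem mk_eq_ofPt_lift {E : EtOver X.obj} (p : FieldPt X.obj) (l : (FieldPt.liftsTo p).obj E) :
    Points.mk p = Points.ofPt E.obj.hom (l.1.left (IsLocalRing.closedPoint p.K)) := by
  rw [← ofPt_comp, l.2, Points.ofPt_toHom]

theorem exists_geom_over (E : EtOver X.obj) (z : E.obj.left.left) :
    ∃ (p : FieldPt X.obj) (_ : p.IsGeometric) (l : (FieldPt.liftsTo p).obj E),
      l.1.left (IsLocalRing.closedPoint p.K) = z ∧ Points.mk p = Points.ofPt E.obj.hom z := by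
  obtain ⟨p, hp, l, hl⟩ := SH.exists_geom_lift z
  exact ⟨p, hp, l, hl, hl ▸ mk_eq_ofPt_lift p l⟩

theorem cover_of_points {E : EtOver X.obj} (R : Sieve E)
    (h : ∀ z : E.obj.left.left, ∃ (V : EtOver X.obj) (φ : V ⟶ E), R φ ∧ z ∈ Set.range φ.hom.left.left) :
    R ∈ etTop X.obj E := by
  choose V φ hR hz using h
  refine GrothendieckTopology.superset_covering _ ?_ (ofArrows_mem_etTop V φ fun z => ⟨z, hz z⟩)
  rw [Sieve.ofArrows, Sieve.generate_le_iff]
  rintro _ _ ⟨i⟩
  exact hR i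

/-! ### The zero locus of a section -/

variable (F : AbEt X.obj) {U : EtOver X.obj} (σ : ↥(F.obj.obj (op U)))

/-- The union of the opens on which the section vanishes. -/
noncomputable def zeroLocus : Opens ↥U.obj.left.left :=
  ⨆ V : {V : U.obj.left.left.Opens // (F.obj.map (openEι U V).op).hom σ = 0}, V.1

theorem eq_zero_of_cover {V : EtOver X.obj} (s : ↥(F.obj.obj (op V))) (R : Sieve V) (hR : R ∈ etTop X.obj V)
    (h : ∀ ⦃W : EtOver X.obj⦄ (f : W ⟶ V), R f → (F.obj.map f.op).hom s = 0) : s = 0 := by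
  have hs := ((sheafCompose (etTop X.obj) (CategoryTheory.forget AddCommGrpCat.{u + 1})).obj F).2
  rw [isSheaf_iff_isSheaf_of_type] at hs
  exact (hs.isSeparated R hR).ext fun W f hf => (h f hf).trans (map_zero (F.obj.map f.op).hom).symm

theorem map_comp_apply' {A B C : EtOver X.obj} (f : A ⟶ B) (g : B ⟶ C) (s : ↥(F.obj.obj (op C))) :
    (F.obj.map (f ≫ g).op).hom s = (F.obj.map f.op).hom ((F.obj.map g.op).hom s) := by
  rw [op_comp, Functor.map_comp]
  rfl

theorem zero_iff {V : EtOver X.obj} (φ : V ⟶ U) :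
    (F.obj.map φ.op).hom σ = 0 ↔ ∀ v, φ.hom.left.left v ∈ zeroLocus F σ := by
  refine ⟨fun h v => ?_, fun h => eq_zero_of_cover F _ ⟨fun W f => (F.obj.map f.op).hom ((F.obj.map φ.op).hom σ) = 0,
      fun {Y Z} f hf g => by rw [map_comp_apply', hf, map_zero]⟩ ?_ fun W f hf => hf⟩
  · haveI := EtOver.etale_left φ
    let I : U.obj.left.left.Opens := ⟨Set.range φ.hom.left.left, φ.hom.left.left.isOpenMap.isOpen_range⟩
    refine Opens.mem_iSup.2 ⟨⟨I, eq_zero_of_cover F _ ⟨fun W f =>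
        (F.obj.map f.op).hom ((F.obj.map (openEι U I).op).hom σ) = 0,
        fun {Y Z} f hf g => by rw [map_comp_apply', hf, map_zero]⟩ ?_ fun W f hf => hf⟩, v, rfl⟩
    obtain ⟨φ', hφ'⟩ := exists_openE_factor φ (V := I) fun x => ⟨x, rfl⟩
    refine cover_of_points _ fun z => ⟨V, φ', ?_, ?_⟩
    · show (F.obj.map φ'.op).hom ((F.obj.map (openEι U I).op).hom σ) = 0
      rw [← map_comp_apply', hφ', h]
    · obtain ⟨w, hw⟩ := openEι_mem (E := U) (V := I) z
      exact ⟨w, (openOverι U.obj.left I).left.isOpenEmbedding.injective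
        ((congrArg (fun k => k.hom.left.left w) hφ').trans hw)⟩
  · refine cover_of_points _ fun z => ?_
    obtain ⟨⟨I, hI⟩, hzI⟩ := Opens.mem_iSup.1 (h z)
    obtain ⟨g, hg⟩ := exists_openE_factor (openEι V (φ.hom.left.left ⁻¹ᵁ I) ≫ φ) (V := I) fun x => x.2
    refine ⟨_, openEι V (φ.hom.left.left ⁻¹ᵁ I), ?_, ⟨⟨z, hzI⟩, rfl⟩⟩
    show (F.obj.map _).hom ((F.obj.map φ.op).hom σ) = 0
    rw [← map_comp_apply', ← hg, map_comp_apply', hI, map_zero]

theorem germ_eq_zero_iff (p : FieldPt X.obj) (hp : p.IsGeometric) (l : (FieldPt.liftsTo p).obj U) :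
    (stalkEtι p F ⟨U, l⟩).hom σ = 0 ↔ l.1.left (IsLocalRing.closedPoint p.K) ∈ zeroLocus F σ := by
  have key := (SH.sitePoint p hp).toPresheafFiber_eq_iff' (A := AddCommGrpCat.{u + 1}) (P := F.obj) U l σ 0
  rw [map_zero] at key
  refine key.trans ⟨fun ⟨Y, f, y, hy, hf⟩ => ?_, fun h => ?_⟩
  · exact (congrArg (fun u => u.1.left (IsLocalRing.closedPoint p.K)) hy) ▸
      (zero_iff F σ f).1 (hf.trans (map_zero _)) _
  · obtain ⟨⟨I, hI⟩, hlI⟩ := Opens.mem_iSup.1 h
    obtain ⟨γ, hγ⟩ := Norm.exists_lift_open (openOverι U.obj.left I) l.1 fun x =>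
      ⟨⟨_, hlI⟩, congrArg l.1.left (Subsingleton.elim (α := PrimeSpectrum p.K) _ x)⟩
    refine ⟨_, openEι U I, ⟨γ, ?_⟩, Subtype.ext hγ, hI.trans (map_zero _).symm⟩
    show (yon S).map γ ≫ (yon S).map (openOverι U.obj.left I) ≫ U.obj.hom = p.toHom
    rw [← Functor.map_comp_assoc, hγ]
    exact l.2

theorem not_isZero_stalk_iff (p : FieldPt X.obj) (hp : p.IsGeometric) :
    ¬ IsZero (stalkEt p F) ↔ ∃ (U : EtOver X.obj) (σ : ↥(F.obj.obj (op U))) (l : (FieldPt.liftsTo p).obj U),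
      l.1.left (IsLocalRing.closedPoint p.K) ∉ zeroLocus F σ := by
  refine ⟨fun h => ?_, fun ⟨U, σ, l, hl⟩ h => ?_⟩
  · by_contra! hc
    haveI : Subsingleton ↥(stalkEt p F) := subsingleton_of_forall_eq 0 fun y => by
      obtain ⟨U, l, σ, rfl⟩ := (SH.sitePoint p hp).toPresheafFiber_jointly_surjective (P := F.obj) y
      exact (germ_eq_zero_iff F σ p hp l).2 (hc U σ l)
    exact h (AddCommGrpCat.isZero_of_subsingleton _)
  · haveI := AddCommGrpCat.subsingleton_of_isZero h
    exact hl ((germ_eq_zero_iff F σ p hp l).1 (Subsingleton.elim _ _))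

end Groth.L23.Supp
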