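import Groth.Agent.L09.ModEt.WeakAss
import Groth.Agent.L09.ModEt.FiniteType
import Groth.Agent.L23.Support
import Groth.Agent.L23.QsTop

/-!
# Stalkwise properties of morphisms of coherent modules hold on open neighbourhoods
-/

universe u

open CategoryTheory CategoryTheory.Limits AlgebraicGeometry Opposite AlgSp TensorProduct

set_option autoImplicit false
set_option linter.style.haveILetI false
set_option backward.isDefEq.respectTransparency false
set_option backward.isDefEq.respectTransparency.types false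

noncomputable section

namespace Groth.L23.CohNbhd

open Groth.L09.ModEt Groth.L23

variable {S : Scheme.{u}} {X : Sp S} {G F : ModEt X} (φ : G ⟶ F)

/-- A morphism of modules on sections, linear over the functions. -/
def app₀ (E : EtOver X) : sectModEt G E →ₗ[Γ₀ E] sectModEt F E where
  toFun s := φ.val.app (op E) s
  map_add' a b := map_add (φ.val.app (op E)).hom a b
  map_smul' r s := map_smul (φ.val.app (op E)).hom (upΓ E r) s

theorem app₀_res {E E' : EtOver X} (g : E' ⟶ E) (s : sectModEt G E) :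
    app₀ φ E' (res G g s) = res F g (app₀ φ E s) :=
  PresheafOfModules.naturality_apply φ.val g.op s

/-- Injectivity on sections descends along flat base change, once the kernel dies. -/
theorem injective_of_ker [G.IsQuasicoherent] [F.IsQuasicoherent] {E E' : EtOver X} [IsAffine E.obj.left.left]
    [IsAffine E'.obj.left.left] (g : E' ⟶ E) (h : ∀ k ∈ LinearMap.ker (app₀ φ E), res G g k = 0) :
    Function.Injective (app₀ φ E') := by
  letI := (pb g).toAlgebra
  haveI : Module.Flat (Γ₀ E) (Γ₀ E') := flat_pb g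
  refine (injective_iff_map_eq_zero _).2 fun y hy => ?_
  obtain ⟨z, rfl⟩ := (bc_of_isQuasicoherent G g).2 y
  have hnat : ∀ w, θ F g ((app₀ φ E).lTensor (Γ₀ E') w) = app₀ φ E' (θ G g w) := by
    intro w
    induction w using TensorProduct.induction_on with
    | zero => simp
    | tmul b m => rw [LinearMap.lTensor_tmul, θ_tmul, θ_tmul, map_smul, app₀_res]
    | add a b ha hb => simp [map_add, ha, hb]
  have hz : (app₀ φ E).lTensor (Γ₀ E') z = 0 :=
    (bc_of_isQuasicoherent F g).1 (by rw [hnat, hy, map_zero])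
  obtain ⟨k, rfl⟩ := (Module.Flat.lTensor_exact (Γ₀ E') (LinearMap.exact_subtype_ker_map (app₀ φ E)) z).1 hz
  induction k using TensorProduct.induction_on with
  | zero => simp
  | tmul b m => rw [LinearMap.lTensor_tmul, θ_tmul, Submodule.coe_subtype, h m.1 m.2, smul_zero]
  | add a b ha hb =>
    have : ∀ w, (LinearMap.lTensor (Γ₀ E') (LinearMap.ker (app₀ φ E)).subtype) w ∈ (θ G g).ker := fun w => by
      induction w using TensorProduct.induction_on with
      | zero => simp
      | tmul b m => rw [AddMonoidHom.mem_ker, LinearMap.lTensor_tmul, θ_tmul, Submodule.coe_subtype, h m.1 m.2, smul_zero]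
      | add a b ha hb => rw [map_add]; exact add_mem ha hb
    exact this _

/-- Injective over an affine object: injective on everything lying over its image. -/
theorem injective_over_image [G.IsQuasicoherent] [F.IsQuasicoherent] {V : EtOver X} [IsAffine V.obj.left.left]
    (hV : Function.Injective (app₀ φ V)) (E : EtOver X)
    (hE : Set.range (Points.ofPt E.obj.hom) ⊆ Set.range (Points.ofPt V.obj.hom)) :
    Function.Injective (app₀ φ E) := by
  refine (injective_iff_map_eq_zero _).2 fun s hs => ?_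
  choose v hv using fun e : ↥E.obj.left.left => hE ⟨e, rfl⟩
  choose W hW g₁ g₂ w hw₁ hw₂ using fun e => exists_common (X := X) e (v e) (hv e).symm
  haveI := hW
  refine eq_of_cover G (V := W) (c := g₁) (fun e => ⟨e, w e, hw₁ e⟩) fun e => ?_
  rw [map_zero]
  refine injective_of_ker φ (g₂ e) (fun k hk => ?_) ?_
  · rw [show k = 0 from hV (by rw [map_zero]; exact hk), map_zero]
  · rw [app₀_res, hs, map_zero, map_zero]

/-- Finitely many sections which are images near a point. -/
theorem exists_common_image {E : EtOver X} [IsAffine E.obj.left.left] (e : ↥E.obj.left.left)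
    (T : Finset (sectModEt F E))
    (h : ∀ f ∈ T, ∃ (W : EtOver X) (_ : IsAffine W.obj.left.left) (g : W ⟶ E),
      e ∈ Set.range g.hom.left.left ∧ res F g f ∈ LinearMap.range (app₀ φ W)) :
    ∃ (W : EtOver X) (_ : IsAffine W.obj.left.left) (g : W ⟶ E),
      e ∈ Set.range g.hom.left.left ∧ ∀ f ∈ T, res F g f ∈ LinearMap.range (app₀ φ W) := by
  classical
  induction T using Finset.induction with
  | empty => exact ⟨E, inferInstance, 𝟙 E, ⟨e, rfl⟩, fun f hf => absurd hf (Finset.notMem_empty f)⟩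
  | insert a T _ ih =>
    obtain ⟨W₁, hW₁, g₁, ⟨w₁, hw₁⟩, hT⟩ := ih fun f hf => h f (Finset.mem_insert_of_mem hf)
    obtain ⟨W₂, hW₂, g₂, ⟨w₂, hw₂⟩, ha⟩ := h a (Finset.mem_insert_self _ _)
    haveI := hW₁
    haveI := hW₂
    obtain ⟨w, hw, -⟩ := Scheme.exists_preimage_of_isPullback
      ((EtOver.isPullback g₁ g₂).map (EtOver.toScheme X)) w₁ w₂ (hw₁.trans hw₂.symm)
    refine ⟨EtOver.pullbackObj g₁ g₂, isAffine_pullback g₁ g₂, EtOver.pullbackFst g₁ g₂ ≫ g₁,
      ⟨w, (congrArg g₁.hom.left.left hw).trans hw₁⟩, fun f hf => ?_⟩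
    rcases Finset.mem_insert.1 hf with rfl | hf
    · obtain ⟨y, hy⟩ := ha
      refine ⟨res G (EtOver.pullbackSnd g₁ g₂) y, ?_⟩
      rw [app₀_res, hy, ← res_comp, EtOver.pullback_condition]
    · obtain ⟨y, hy⟩ := hT f hf
      refine ⟨res G (EtOver.pullbackFst g₁ g₂) y, ?_⟩
      rw [app₀_res, hy, ← res_comp]

/-- Surjectivity on sections passes to affine objects over an affine one. -/
theorem surjective_of_map [F.IsQuasicoherent] {E E' : EtOver X} [IsAffine E.obj.left.left]
    [IsAffine E'.obj.left.left] (g : E' ⟶ E) (s : Set (sectModEt F E)) (hs : Submodule.span (Γ₀ E) s = ⊤)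
    (h : ∀ f ∈ s, res F g f ∈ LinearMap.range (app₀ φ E')) : Function.Surjective (app₀ φ E') := by
  intro y
  letI := (pb g).toAlgebra
  obtain ⟨z, rfl⟩ := (bc_of_isQuasicoherent F g).2 y
  induction z using TensorProduct.induction_on with
  | zero => exact ⟨0, by rw [map_zero, map_zero]⟩
  | tmul b m =>
    suffices hm : res F g m ∈ LinearMap.range (app₀ φ E') by
      rw [θ_tmul]
      exact Submodule.smul_mem _ b hm
    have : m ∈ Submodule.span (Γ₀ E) s := hs ▸ Submodule.mem_top
    induction this using Submodule.span_induction with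
    | mem x hx => exact h x hx
    | zero => rw [map_zero]; exact zero_mem _
    | add x y _ _ hx hy => rw [map_add]; exact add_mem hx hy
    | smul a x _ hx => rw [res_smul]; exact Submodule.smul_mem _ _ hx
  | add a b ha hb =>
    obtain ⟨a', ha⟩ := ha
    obtain ⟨b', hb⟩ := hb
    exact ⟨a' + b', by rw [map_add, map_add, ha, hb]⟩

/-- Surjective over an affine object: locally surjective on everything lying over its image. -/
theorem locally_surjective_over_image [F.IsQuasicoherent] {V : EtOver X} [IsAffine V.obj.left.left]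
    (hV : Function.Surjective (app₀ φ V)) (E : EtOver X)
    (hE : Set.range (Points.ofPt E.obj.hom) ⊆ Set.range (Points.ofPt V.obj.hom)) (f : sectModEt F E)
    (e : ↥E.obj.left.left) :
    ∃ (W : EtOver X) (g : W ⟶ E), e ∈ Set.range g.hom.left.left ∧ res F g f ∈ LinearMap.range (app₀ φ W) := by
  obtain ⟨v, hv⟩ := hE ⟨e, rfl⟩
  obtain ⟨W, hW, g₁, g₂, w, hw₁, -⟩ := exists_common (X := X) e v hv.symm
  haveI := hW
  refine ⟨W, g₁, ⟨w, hw₁⟩, surjective_of_map φ g₂ Set.univ Submodule.span_univ (fun a _ => ?_) _⟩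
  obtain ⟨b, rfl⟩ := hV a
  exact ⟨res G g₂ b, app₀_res φ g₂ b⟩

/-- A morphism of modules which is injective and surjective near every point is bijective. -/
theorem bijective_over_image [G.IsQuasicoherent] [F.IsQuasicoherent] {V : EtOver X} [IsAffine V.obj.left.left]
    (hi : Function.Injective (app₀ φ V)) (hs : Function.Surjective (app₀ φ V)) (E : EtOver X)
    (hE : Set.range (Points.ofPt E.obj.hom) ⊆ Set.range (Points.ofPt V.obj.hom)) :
    Function.Bijective (app₀ φ E) := by
  refine ⟨injective_over_image φ hi E hE, fun f => ?_⟩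
  choose W g hg t ht using locally_surjective_over_image φ hs E hE f
  obtain ⟨s, hs'⟩ := exists_glue G (V := W) (c := g) (fun e => ⟨e, hg e⟩) t fun i j => by
    refine injective_over_image φ hi _ ?_ ?_
    · refine Set.Subset.trans ?_ hE
      rintro _ ⟨p, rfl⟩
      exact ⟨(EtOver.pullbackFst (g i) (g j) ≫ g i).hom.left.left p,
        by rw [← ofPt_comp, EtOver.w (EtOver.pullbackFst (g i) (g j) ≫ g i)]⟩
    · rw [app₀_res, app₀_res, ht, ht, ← res_comp, ← res_comp, EtOver.pullback_condition]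
  exact ⟨s, eq_of_cover F (V := W) (c := g) (fun e => ⟨e, hg e⟩) fun e => by rw [← app₀_res, hs', ht]⟩

end Groth.L23.CohNbhd

namespace Groth.L23.CohNbhd

open Groth.L09.ModEt Groth.L23

variable {S : Scheme.{u}} {X : AlgSp.Space S} {G F : ModEt X.obj} (φ : G ⟶ F)

/-- The open subspace on the image of an object. -/
theorem exists_openSub (E : EtOver X.obj) : ∃ (X' : AlgSp.Space S) (j : X' ⟶ X),
    RepWith @IsOpenImmersion j.hom ∧ Set.range (Points.map j.hom) = Set.range (Points.ofPt E.obj.hom) := by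
  obtain ⟨Z, j, -, hZ, hj, -, -, -, hr⟩ := Qs.exists_openSub_chart X.property E.property
  exact ⟨⟨Z, hZ⟩, ObjectProperty.homMk j, hj, hr⟩

/-- The map on stalks, on germs. -/
theorem stalk_map_germ (p : FieldPt X.obj) (N : EtNbhd p) (s : sectModEt G N.1) :
    ((stalkEtFunctor AddCommGrpCat.{u + 1} p).map ((toAbEt X.obj).map φ)).hom
      ((stalkEtι p ((toAbEt X.obj).obj G) N).hom s) =
        (stalkEtι p ((toAbEt X.obj).obj F) N).hom (app₀ φ N.1 s) :=
  ConcreteCategory.congr_hom (colimit.ι_map (Functor.whiskerLeft (EtNbhd.toEtOver p).op ((toAbEt X.obj).map φ).hom) (op N)) s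

/-- Germs of restrictions. -/
theorem germ_res (p : FieldPt X.obj) (M : ModEt X.obj) {N N' : EtNbhd p} (g : N' ⟶ N) (s : sectModEt M N.1) :
    (stalkEtι p ((toAbEt X.obj).obj M) N').hom (res M g.1 s) = (stalkEtι p ((toAbEt X.obj).obj M) N).hom s :=
  ConcreteCategory.congr_hom (colimit.w (stalkEtDiagram p ((toAbEt X.obj).obj M)) g.op) s

/-- Germs killed by an injective map on stalks. -/
theorem germ_eq_zero_of_mono (p : FieldPt X.obj)
    (h : Mono ((stalkEtFunctor AddCommGrpCat.{u + 1} p).map ((toAbEt X.obj).map φ))) (N : EtNbhd p)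
    (s : sectModEt G N.1) (hs : app₀ φ N.1 s = 0) :
    (stalkEtι p ((toAbEt X.obj).obj G) N).hom s = 0 := by
  have h1 := stalk_map_germ φ p N s
  rw [hs] at h1
  exact (injective_iff_map_eq_zero _).1 ((AddCommGrpCat.mono_iff_injective _).1 h) _ (h1.trans (map_zero _))

variable [G.IsQuasicoherent] [F.IsQuasicoherent]

set_option maxHeartbeats 1000000 in
/-- Injectivity of the stalk gives injectivity over an affine neighbourhood. -/
theorem exists_injective [G.IsFiniteType] (hX : IsLocNoethSp X.obj) (p : FieldPt X.obj) (hp : p.IsGeometric)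
    (h : Mono ((stalkEtFunctor AddCommGrpCat.{u + 1} p).map ((toAbEt X.obj).map φ))) :
    ∃ (V : EtOver X.obj) (_ : IsAffine V.obj.left.left),
      Points.mk p ∈ Set.range (Points.ofPt V.obj.hom) ∧ Function.Injective (app₀ φ V) := by
  obtain ⟨E, hE, z, hz⟩ := exists_affine_chart X.property (Points.mk p)
  haveI := hE
  haveI : IsLocallyNoetherian E.obj.left.left := Pt.isLocallyNoetherian_of_chart X.property hX E.property
  haveI : IsNoetherianRing (Γ₀ E) := IsLocallyNoetherian.component_noetherian ⟨⊤, isAffineOpen_top _⟩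
  haveI := finite_sectModEt G E
  obtain ⟨l, hl⟩ := Supp.exists_lift_of_mem_range p hp z hz.symm
  obtain ⟨T, hT⟩ := IsNoetherian.noetherian (LinearMap.ker (app₀ φ E))
  have hzero : ∀ t ∈ T, z ∈ Supp.zeroLocus ((toAbEt X.obj).obj G) (U := E) t := by
    intro t ht
    rw [← hl]
    exact (Supp.germ_eq_zero_iff ((toAbEt X.obj).obj G) (U := E) t p hp l).1
      (germ_eq_zero_of_mono φ p h ⟨E, l⟩ t (hT.le (Submodule.subset_span ht)))
  let Z : ↥T → E.obj.left.left.Opens := fun t => Supp.zeroLocus ((toAbEt X.obj).obj G) (U := E) t.1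
  have hO : IsOpen (⋂ t, (Z t : Set ↥E.obj.left.left)) := isOpen_iInter_of_finite fun t => (Z t).isOpen
  have hzO : z ∈ ⋂ t, (Z t : Set ↥E.obj.left.left) := Set.mem_iInter.2 fun t => hzero t.1 t.2
  obtain ⟨_, ⟨(B : E.obj.left.left.Opens), hB, rfl⟩, hzB, hBT⟩ :=
    E.obj.left.left.isBasis_affineOpens.exists_subset_of_mem_open hzO hO
  haveI : IsAffine (openObj E B).obj.left.left := hB
  refine ⟨openObj E B, hB, ⟨⟨z, hzB⟩, (ofPt_comp _ _ _).trans hz⟩, injective_of_ker φ (openι E B) fun k hk => ?_⟩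
  rw [← hT] at hk
  induction hk using Submodule.span_induction with
  | mem t ht =>
    refine (Supp.zero_iff ((toAbEt X.obj).obj G) (U := E) t (openι E B)).2 fun v => ?_
    exact Set.mem_iInter.1 (hBT v.2) ⟨t, ht⟩
  | zero => exact map_zero _
  | add a b _ _ ha hb => rw [map_add, ha, hb, add_zero]
  | smul r a _ ha =>
    letI : Module (Γ₀ (openObj E B)) (sectModEt G (openObj E B)) := secModule G _
    exact (res_smul G (openι E B) r a).trans (by rw [ha, smul_zero])

/-- Surjectivity of the stalk gives surjectivity over an affine neighbourhood. -/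
theorem exists_surjective [F.IsFiniteType] (p : FieldPt X.obj) (hp : p.IsGeometric)
    (h : Epi ((stalkEtFunctor AddCommGrpCat.{u + 1} p).map ((toAbEt X.obj).map φ))) :
    ∃ (V : EtOver X.obj) (_ : IsAffine V.obj.left.left),
      Points.mk p ∈ Set.range (Points.ofPt V.obj.hom) ∧ Function.Surjective (app₀ φ V) := by
  haveI : IsCofiltered (EtNbhd p) := Groth.Agent.S10217.result X p hp
  obtain ⟨E, hE, z, hz⟩ := exists_affine_chart X.property (Points.mk p)
  haveI := hE
  obtain ⟨T, hT⟩ := (finite_sectModEt F E).fg_top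
  obtain ⟨l, hl⟩ := Supp.exists_lift_of_mem_range p hp z hz.symm
  obtain ⟨V, hV, g, hzV, hgT⟩ := exists_common_image φ z T fun f _ => by
    obtain ⟨y, hy⟩ := ((AddCommGrpCat.epi_iff_surjective _).1 h)
      ((stalkEtι p ((toAbEt X.obj).obj F) ⟨E, l⟩).hom f)
    obtain ⟨U, l', σ, rfl⟩ := (SH.sitePoint p hp).toPresheafFiber_jointly_surjective
      (P := ((toAbEt X.obj).obj G).obj) y
    have hy' : (stalkEtι p ((toAbEt X.obj).obj F) ⟨U, l'⟩).hom (app₀ φ U σ) =
        (stalkEtι p ((toAbEt X.obj).obj F) ⟨E, l⟩).hom f := (stalk_map_germ φ p ⟨U, l'⟩ σ).symm.trans hy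
    obtain ⟨⟨N, n⟩, a, b, -⟩ := IsCofilteredOrEmpty.cone_objs (C := EtNbhd p) ⟨E, l⟩ ⟨U, l'⟩
    let τ : sectModEt F N := res F a.1 f - app₀ φ N (res G b.1 σ)
    have hτ : (stalkEtι p ((toAbEt X.obj).obj F) ⟨N, n⟩).hom τ = 0 := by
      have e₁ := germ_res p F a f
      have e₂ := germ_res p F b (app₀ φ U σ)
      rw [← app₀_res] at e₂
      exact (map_sub _ _ _).trans (sub_eq_zero.2 (e₁.trans (hy'.symm.trans e₂.symm)))
    have hn := (Supp.germ_eq_zero_iff ((toAbEt X.obj).obj F) (U := N) τ p hp n).1 hτ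
    obtain ⟨_, ⟨(B : N.obj.left.left.Opens), hB, rfl⟩, hnB, hBτ⟩ :=
      N.obj.left.left.isBasis_affineOpens.exists_subset_of_mem_open hn (Supp.zeroLocus ((toAbEt X.obj).obj F) (U := N) τ).isOpen
    refine ⟨openObj N B, hB, openι N B ≫ a.1, ⟨⟨_, hnB⟩, ?_⟩, ⟨res G (openι N B ≫ b.1) σ, ?_⟩⟩
    · rw [← hl, ← congrArg (fun u => u.1.left (IsLocalRing.closedPoint p.K)) a.2]
      rfl
    · have h0 : res F (openι N B) τ = 0 :=
        (Supp.zero_iff ((toAbEt X.obj).obj F) τ (openι N B)).2 fun v => hBτ v.2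
      rw [map_sub, sub_eq_zero, ← app₀_res, ← res_comp, ← res_comp] at h0
      exact h0.symm
  haveI := hV
  obtain ⟨v, hv⟩ := hzV
  exact ⟨V, hV, ⟨v, by rw [← EtOver.w g, ofPt_comp, hv, hz]⟩, surjective_of_map φ g T hT hgT⟩

/-- Surjectivity over an affine object gives surjective stalks over its image. -/
theorem epi_stalk_over_image {V : EtOver X.obj} [IsAffine V.obj.left.left] (hV : Function.Surjective (app₀ φ V))
    (q : FieldPt X.obj) (hq : q.IsGeometric) (h : Points.mk q ∈ Set.range (Points.ofPt V.obj.hom)) :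
    Epi ((stalkEtFunctor AddCommGrpCat.{u + 1} q).map ((toAbEt X.obj).map φ)) := by
  haveI : IsCofiltered (EtNbhd q) := Groth.Agent.S10217.result X q hq
  refine (AddCommGrpCat.epi_iff_surjective _).2 fun y => ?_
  obtain ⟨U, l, f, rfl⟩ := (SH.sitePoint q hq).toPresheafFiber_jointly_surjective
    (P := ((toAbEt X.obj).obj F).obj) y
  obtain ⟨v, hv⟩ := h
  obtain ⟨lV, -⟩ := Supp.exists_lift_of_mem_range q hq v hv.symm
  obtain ⟨⟨N, n⟩, a, b, -⟩ := IsCofilteredOrEmpty.cone_objs (C := EtNbhd q) ⟨U, l⟩ ⟨V, lV⟩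
  obtain ⟨_, ⟨(B : N.obj.left.left.Opens), hB, rfl⟩, hnB, -⟩ :=
    N.obj.left.left.isBasis_affineOpens.exists_subset_of_mem_open
      (Set.mem_univ (n.1.left (IsLocalRing.closedPoint q.K))) isOpen_univ
  obtain ⟨γ, hγ⟩ := Norm.exists_lift_open (openOverι N.obj.left B) n.1 fun x =>
    ⟨⟨_, hnB⟩, congrArg n.1.left (Subsingleton.elim (α := PrimeSpectrum q.K) _ x)⟩
  let lB : (FieldPt.liftsTo q).obj (PC.openE N B) := ⟨γ, by
    show (yon S).map γ ≫ (yon S).map (openOverι N.obj.left B) ≫ N.obj.hom = q.toHom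
    rw [← Functor.map_comp_assoc, hγ]
    exact n.2⟩
  let NB : EtNbhd q := ⟨PC.openE N B, lB⟩
  let N₀ : EtNbhd q := ⟨N, n⟩
  let c : NB ⟶ N₀ := CategoryOfElements.homMk NB N₀ (PC.openEι N B) (Subtype.ext hγ)
  haveI : IsAffine (PC.openE N B).obj.left.left := hB
  obtain ⟨s, hs⟩ := surjective_of_map φ (PC.openEι N B ≫ b.1) Set.univ Submodule.span_univ (fun t _ => by
    obtain ⟨t', rfl⟩ := hV t
    exact ⟨res G (PC.openEι N B ≫ b.1) t', app₀_res φ _ t'⟩) (res F (c.1 ≫ a.1) f)
  refine ⟨(stalkEtι q ((toAbEt X.obj).obj G) ⟨PC.openE N B, lB⟩).hom s, ?_⟩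
  rw [stalk_map_germ, hs]
  exact germ_res q F (c ≫ a) f

end Groth.L23.CohNbhd
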