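import Groth.Agent.L23.FpCriterion
import Groth.Agent.L23.CohNbhd

/-!
# Coherence criteria on locally Noetherian spaces
-/

universe u

open CategoryTheory CategoryTheory.Limits AlgebraicGeometry Opposite AlgSp

set_option autoImplicit false
set_option linter.style.haveILetI false
set_option backward.isDefEq.respectTransparency false
set_option backward.isDefEq.respectTransparency.types false

noncomputable section

namespace Groth.L23.FP

open Groth.L09.ModEt

variable {S : Scheme.{u}} {X : AlgSp.Space S}

theorem isNoetherianRing_Γ₀ (hN : IsLocNoethSp X.obj) (E : EtOver X.obj) [IsAffine E.obj.left.left] :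
    IsNoetherianRing (Γ₀ E) := by
  haveI : IsLocallyNoetherian E.obj.left.left := Pt.isLocallyNoetherian_of_chart X.property hN E.property
  exact IsLocallyNoetherian.component_noetherian ⟨⊤, isAffineOpen_top _⟩

/-- Quasi-coherent with finite sections near every point: finitely presented. -/
theorem isFinitePresentation_of_finite_nhd (hN : IsLocNoethSp X.obj) (M : ModEt X.obj) [M.IsQuasicoherent]
    (h : ∀ (E : EtOver X.obj) [IsAffine E.obj.left.left] (e : E.obj.left.left),
      ∃ (W : EtOver X.obj) (_ : IsAffine W.obj.left.left) (g : W ⟶ E),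
      e ∈ Set.range g.hom.left.left ∧ Module.Finite (Γ₀ W) (sectModEt M W)) :
    M.IsFinitePresentation := by
  refine isFinitePresentation_of_cover M fun E e => ?_
  obtain ⟨_, ⟨(B : E.obj.left.left.Opens), hB, rfl⟩, heB, -⟩ :=
    E.obj.left.left.isBasis_affineOpens.exists_subset_of_mem_open (Set.mem_univ e) isOpen_univ
  haveI : IsAffine (openObj E B).obj.left.left := hB
  obtain ⟨W, hW, g, ⟨w, hw⟩, hfin⟩ := h (openObj E B) ⟨e, heB⟩
  haveI := isNoetherianRing_Γ₀ hN W
  refine ⟨W, hW, g ≫ openι E B, ⟨w, ?_⟩, Module.finitePresentation_of_finite _ _⟩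
  show (g.hom.left.left ≫ (openι E B).hom.left.left) w = e
  rw [Scheme.Hom.comp_apply, hw]
  rfl

/-- Quasi-coherent with finite sections on affine objects: finitely presented. -/
theorem isFinitePresentation_of_finite (hN : IsLocNoethSp X.obj) (M : ModEt X.obj) [M.IsQuasicoherent]
    (h : ∀ (E : EtOver X.obj) [IsAffine E.obj.left.left], Module.Finite (Γ₀ E) (sectModEt M E)) :
    M.IsFinitePresentation :=
  isFinitePresentation_of_finite_nhd hN M fun E _ e => ⟨E, inferInstance, 𝟙 E, ⟨e, rfl⟩, h E⟩

/-- A monomorphism of modules is injective on sections. -/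
theorem injective_app₀ {S : Scheme.{u}} {X : AlgSp.Sp S} {G F : AlgSp.ModEt X} (φ : G ⟶ F) [Mono φ]
    (E : AlgSp.EtOver X) : Function.Injective (CohNbhd.app₀ φ E) :=
  fun _ _ hab => (ModuleCat.mono_iff_injective (φ.val.app (Opposite.op E))).1
    ((SheafOfModules.evaluation (AlgSp.OEtRing X) (Opposite.op E)).map_mono φ) hab

/-- An epimorphism of modules keeps finite type. -/
theorem isFiniteType_of_epi {X : AlgSp.Sp S} {M Q : ModEt X} [M.IsFiniteType] (π : M ⟶ Q) [Epi π] :
    Q.IsFiniteType := by
  obtain ⟨σ, hσ⟩ := SheafOfModules.IsFiniteType.exists_localGeneratorsData M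
  haveI := hσ
  haveI : ∀ i, (σ.generators i).IsFiniteType := hσ.isFiniteType
  constructor
  refine ⟨{ I := σ.I, X := σ.X, coversTop := σ.coversTop,
             generators := fun i => (σ.generators i).ofEpi ((SheafOfModules.overFunctor _ (σ.X i)).map π) }, ?_⟩
  constructor
  intro i
  infer_instance

end Groth.L23.FP
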