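import Groth.Agent.L23.QFSplit
import Groth.Agent.L23.QFPoints
import Groth.Agent.L23.LqfRep
import Groth.Agent.L23.MorCalc
import Groth.Agent.L23.AffineMor
import Groth.Agent.L23.Univ
import Groth.Agent.L23.PointProps
import Mathlib.AlgebraicGeometry.AlgClosed.Basic
import Mathlib.FieldTheory.IsAlgClosed.AlgebraicClosure

/-!
# Etale splitting of finitely many quasi-finite points
-/

universe u

open CategoryTheory CategoryTheory.Limits AlgebraicGeometry Opposite AlgSp Topology

set_option backward.isDefEq.respectTransparency.types false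
set_option linter.style.haveILetI false

namespace Groth.L23.QFL

variable {S : Scheme.{u}}

theorem isClosed_singleton_of_qf {U : Scheme.{u}} {Ω : Type u} [Field Ω] (h : U ⟶ Spec (CommRingCat.of Ω))
    [LocallyOfFiniteType h] {u : U} (H : qfAt U _ h u) : IsClosed ({u} : Set U) := by
  have hc := ((qfAt_iff_quasiFiniteAt h u).1 H).isClopen_singleton_asFiber.isClosed
  have he : IsClosedEmbedding (h.fiberι (h u)) := ⟨(h.fiberι _).isEmbedding, by
    rw [h.range_fiberι, show h ⁻¹' {h u} = Set.univ from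
      Set.eq_univ_of_forall fun x => Subsingleton.elim (α := PrimeSpectrum Ω) _ _]
    exact isClosed_univ⟩
  simpa [h.fiberι_asFiber] using he.isClosedMap _ hc

/-- Rational points lift along etale maps. -/
theorem exists_lift_algClosed {Z : Sp S} {U : Over S} {a : (yon S).obj U ⟶ Z} (ha : RepWith @Etale a)
    {Ω : Type u} [Field Ω] [IsAlgClosed Ω] {w : Spec (CommRingCat.of Ω) ⟶ S}
    (g : (yon S).obj (Over.mk w) ⟶ Z) (u : U.left) (t : ↥(Spec (CommRingCat.of Ω)))
    (e : Points.ofPt g t = Points.ofPt a u) :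
    ∃ γ : Over.mk w ⟶ U, (yon S).map γ ≫ a = g ∧ γ.left t = u := by
  obtain ⟨E, p, q, sq⟩ := exists_isPullback_of_representable ha.1 g
  have : Etale q.left := repWith_prop ha sq
  obtain ⟨r, hr, -⟩ := (ofPt_eq_ofPt_iff sq u t).1 e.symm
  let q' : E.left ⟶ Spec (CommRingCat.of Ω) := q.left
  have : Etale q' := ‹Etale q.left›
  have hcl : IsClosed ({r} : Set E.left) :=
    isClosed_singleton_of_qf q' ⟨⊤, trivial, inferInstance, inferInstance⟩
  let σ : Over.mk w ⟶ E := Over.homMk (pointOfClosedPoint q' r hcl) (by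
    show pointOfClosedPoint q' r hcl ≫ E.hom = w
    rw [← Over.w q]
    exact pointOfClosedPoint_comp_assoc q' r hcl w)
  have hσ : σ ≫ q = 𝟙 _ := Over.OverMorphism.ext (pointOfClosedPoint_comp q' r hcl)
  refine ⟨σ ≫ p, ?_, ?_⟩
  · rw [Functor.map_comp, Category.assoc, sq.w, ← Functor.map_comp_assoc, hσ, (yon S).map_id, Category.id_comp]
  · show p.left (pointOfClosedPoint q' r hcl t) = u
    rw [pointOfClosedPoint_apply, hr]

variable {Ω : Type u} [Field Ω] [IsAlgClosed Ω] {w : Spec (CommRingCat.of Ω) ⟶ S} {Z : Sp S}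

/-- There is a rational point at a quasi-finite point. -/
theorem exists_section (hZ : IsAlgSpace Z) {q : Z ⟶ (yon S).obj (Over.mk w)} (hq : LocP @LocallyOfFiniteType q)
    {ξ : Points Z} (hξ : HasAtMor qfAt q ξ) (t : ↥(Spec (CommRingCat.of Ω))) :
    ∃ s : (yon S).obj (Over.mk w) ⟶ Z, s ≫ q = 𝟙 _ ∧ Points.ofPt s t = ξ := by
  obtain ⟨U, a, ha, has⟩ := hZ.atlas
  obtain ⟨u, rfl⟩ := surjective_ofPt has ξ
  obtain ⟨h, hh⟩ := (yon S).map_surjective (a ≫ q)
  have w₀ : a ≫ q = (yon S).map h ≫ 𝟙 _ := by rw [Category.comp_id, hh]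
  have hid : RepWith @Etale (𝟙 ((yon S).obj (Over.mk w))) := repWith_of_isIso _
  let h' : U.left ⟶ Spec (CommRingCat.of Ω) := h.left
  have : LocallyOfFiniteType h' := hq _ _ h ha hid w₀
  have hcl := isClosed_singleton_of_qf h' ((hasAtMor_iff ha hid w₀ u).1 hξ)
  let σ : Over.mk w ⟶ U := Over.homMk (pointOfClosedPoint h' u hcl) (by
    show pointOfClosedPoint h' u hcl ≫ U.hom = w
    rw [← Over.w h]
    exact pointOfClosedPoint_comp_assoc h' u hcl w)
  refine ⟨(yon S).map σ ≫ a, ?_, ?_⟩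
  · rw [Category.assoc, ← hh, ← Functor.map_comp,
      show σ ≫ h = 𝟙 _ from Over.OverMorphism.ext (pointOfClosedPoint_comp h' u hcl), (yon S).map_id]
  · rw [ofPt_comp]
    exact congr_arg _ (pointOfClosedPoint_apply h' u hcl t)

variable {X Y : Sp S}

omit [IsAlgClosed Ω] in
/-- Finitely many pointed etale neighbourhoods of a geometric point have a common affine refinement. -/
theorem exists_refine {ι : Type*} (T : ι → Over S) (a : ∀ i, (yon S).obj (T i) ⟶ Y)
    (ha : ∀ i, RepWith @Etale (a i)) (τ : ∀ i, Over.mk w ⟶ T i) (yb : (yon S).obj (Over.mk w) ⟶ Y)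
    (hτ : ∀ i, (yon S).map (τ i) ≫ a i = yb) {V : Over S} [IsAffine V.left] (b : (yon S).obj V ⟶ Y)
    (hb : RepWith @Etale b) (v : Over.mk w ⟶ V) (hv : (yon S).map v ≫ b = yb) (s : Finset ι) :
    ∃ (U : Over S) (aU : (yon S).obj U ⟶ Y) (ub : Over.mk w ⟶ U), IsAffine U.left ∧ RepWith @Etale aU ∧
      (yon S).map ub ≫ aU = yb ∧ ∀ i ∈ s, ∃ r : U ⟶ T i, (yon S).map r ≫ a i = aU ∧ ub ≫ r = τ i := by
  classical
  induction s using Finset.induction with
  | empty => exact ⟨V, b, v, inferInstance, hb, hv, by simp⟩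
  | insert i s _ ih =>
    obtain ⟨U, aU, ub, hU, haU, hub, H⟩ := ih
    obtain ⟨R, p, q, sq⟩ := exists_isPullback_of_representable haU.1 (a i)
    obtain ⟨ρ, hρ₁, hρ₂⟩ := exists_lift_yon sq ub (τ i) (hub.trans (hτ i).symm)
    let t : ↥(Spec (CommRingCat.of Ω)) := IsLocalRing.closedPoint Ω
    obtain ⟨_, ⟨B, hB, rfl⟩, hρB, -⟩ :=
      R.left.isBasis_affineOpens.exists_subset_of_mem_open (Set.mem_univ (ρ.left t)) isOpen_univ
    change R.left.Opens at B
    obtain ⟨ρ', hρ'⟩ := Norm.exists_lift_open (openOverι R B) ρ fun x =>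
      ⟨⟨ρ.left t, hρB⟩, congr_arg ρ.left (Subsingleton.elim (α := PrimeSpectrum Ω) t x)⟩
    have he : RepWith @Etale ((yon S).map p) := repWith_of_isPullback sq.flip (ha i)
    refine ⟨openOver R B, (yon S).map (openOverι R B) ≫ (yon S).map p ≫ aU, ρ', hB,
      repWith_comp (repWith_map (inferInstanceAs (Etale B.ι))) (repWith_comp he haU), ?_, fun j hj => ?_⟩
    · rw [← Functor.map_comp_assoc, hρ', ← Functor.map_comp_assoc, hρ₁, hub]
    rcases Finset.mem_insert.1 hj with rfl | hj
    · exact ⟨openOverι R B ≫ q, by rw [Functor.map_comp_assoc, sq.w], by rw [reassoc_of% hρ', hρ₂]⟩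
    · obtain ⟨r, hr₁, hr₂⟩ := H j hj
      exact ⟨openOverι R B ≫ p ≫ r, by rw [Functor.map_comp_assoc, Functor.map_comp_assoc, hr₁],
        by rw [reassoc_of% hρ', reassoc_of% hρ₁, hr₂]⟩

set_option maxHeartbeats 1000000 in
/-- Finitely many quasi-finite points split off, etale locally on the target. -/
theorem exists_split_multi (hX : IsAlgSpace X) (hY : IsAlgSpace Y) {f : X ⟶ Y} (hsep : IsSeparatedMor f)
    (hlft : LocP @LocallyOfFiniteType f) (xs : Set (Points X)) (hqf : ∀ x ∈ xs, HasAtMor qfAt f x)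
    (yb : (yon S).obj (Over.mk w) ⟶ Y) {V₀ : Over S} [IsAffine V₀.left] (b : (yon S).obj V₀ ⟶ Y)
    (hb : RepWith @Etale b) (v : Over.mk w ⟶ V₀) (hv : (yon S).map v ≫ b = yb)
    (hfin : {ξ : Points (pullback f yb) | Points.map (pullback.fst f yb) ξ ∈ xs}.Finite) :
    ∃ (U : Over S) (aU : (yon S).obj U ⟶ Y) (u : U.left), RepWith @Etale aU ∧
      Points.ofPt aU u = Points.ofPt yb (IsLocalRing.closedPoint Ω) ∧
      ∀ (P : Sp S) (prX : P ⟶ X) (prU : P ⟶ (yon S).obj U), IsPullback prX prU f aU →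
        ∃ W : TopologicalSpace.Opens (Points P), RepWith @IsClosedImmersion (openSubι W) ∧
          IsFiniteMor (openSubι W ≫ prU) ∧
          (∀ v : Points (openSub W), Points.map (openSubι W ≫ prU) v = Points.ofScheme U u →
            Points.map (openSubι W ≫ prX) v ∈ xs) ∧
          ∀ p : Points P, p ∉ Set.range (Points.map (openSubι W)) → Points.map prU p = Points.ofScheme U u →
            Points.map prX p ∉ xs := by
  let t : ↥(Spec (CommRingCat.of Ω)) := IsLocalRing.closedPoint Ω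
  let Ξ := {ξ : Points (pullback f yb) | Points.map (pullback.fst f yb) ξ ∈ xs}
  have hK := IsAlgSpace.yon_obj (Over.mk w)
  have syb := IsPullback.of_hasPullback f yb
  have hXy : IsAlgSpace (pullback f yb) := isAlgSpace_of_isPullback hY.diag hX hK syb
  have hsec : ∀ ξ : Ξ, ∃ s : (yon S).obj (Over.mk w) ⟶ pullback f yb,
      s ≫ pullback.snd f yb = 𝟙 _ ∧ Points.ofPt s t = ξ.1 := fun ξ =>
    exists_section hXy (locP_of_isPullback etLocal_lft hX hY hK syb hlft)
      (hasAtMor_of_isPullback hK syb (hqf _ ξ.2)) t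
  choose sec hsec₁ hsec₂ using hsec
  have hdata := fun ξ : Ξ => exists_split_one' hX hY hsep (hqf _ ξ.2)
  choose T a U₁ fT z e₁ ha hT hU₁ hfT he₁ hz huniq H using hdata
  have hγ : ∀ i : Ξ, ∃ γ : Over.mk w ⟶ U₁ i,
      (yon S).map γ ≫ e₁ i = sec i ≫ pullback.fst f yb ∧ γ.left t = z i := fun i =>
    exists_lift_algClosed (he₁ i) _ (z i) t (by rw [← Points.map_ofPt, hsec₂, hz])
  choose γ hγ₁ hγ₂ using hγ
  have hτ : ∀ i, (yon S).map (γ i ≫ fT i) ≫ a i = yb := fun i => by
    obtain ⟨jV, -, -, h₃, h₄⟩ := H i _ _ _ (IsPullback.of_hasPullback f (a i))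
    rw [Functor.map_comp, Category.assoc, ← h₃, Category.assoc, ← pullback.condition, reassoc_of% h₄,
      reassoc_of% (hγ₁ i), pullback.condition, reassoc_of% (hsec₁ i)]
  have : Finite Ξ := hfin.to_subtype
  have : Fintype Ξ := Fintype.ofFinite _
  obtain ⟨U, aU, ub, hUa, haU, hub, Hr⟩ := exists_refine T a ha (fun i => γ i ≫ fT i) yb hτ b hb v hv Finset.univ
  choose r hr₁ hr₂ using fun i => Hr i (Finset.mem_univ i)
  refine ⟨U, aU, ub.left t, haU, by rw [← hub, ofPt_comp], fun P prX prU sP => ?_⟩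
  have hP : IsAlgSpace P := isAlgSpace_of_isPullback hY.diag hX (IsAlgSpace.yon_obj U) sP
  have hpiece : ∀ i : Ξ, ∃ (D : Over S) (d₁ : D ⟶ U₁ i) (d₂ : D ⟶ U) (k : (yon S).obj D ⟶ P),
      IsPullback d₁ d₂ (fT i) (r i) ∧ RepWith @IsOpenImmersion k ∧ RepWith @IsClosedImmersion k ∧
        k ≫ prU = (yon S).map d₂ ∧ k ≫ prX = (yon S).map d₁ ≫ e₁ i := fun i => by
    obtain ⟨Pi, pX, pT, sPi⟩ : ∃ (Pi : Sp S) (pX : Pi ⟶ X) (pT : Pi ⟶ (yon S).obj (T i)),
        IsPullback pX pT f (a i) := ⟨_, _, _, IsPullback.of_hasPullback _ _⟩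
    obtain ⟨jV, hjo, hjc, hjT, hjX⟩ := H i Pi pX pT sPi
    obtain ⟨σ, hσ₁, hσ₂⟩ := sPi.exists_lift prX (prU ≫ (yon S).map (r i))
      (by rw [Category.assoc, hr₁]; exact sP.w)
    have sσ : IsPullback σ prU pT ((yon S).map (r i)) :=
      IsPullback.of_right (by rw [hσ₁, hr₁]; exact sP) hσ₂ sPi
    obtain ⟨D, d₁, d₂, sD⟩ : ∃ (D : Over S) (d₁ : D ⟶ U₁ i) (d₂ : D ⟶ U), IsPullback d₁ d₂ (fT i) (r i) :=
      ⟨_, _, _, IsPullback.of_hasPullback _ _⟩
    obtain ⟨k, hk₁, hk₂⟩ := sσ.exists_lift ((yon S).map d₁ ≫ jV) ((yon S).map d₂)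
      (by rw [Category.assoc, hjT, ← Functor.map_comp, ← Functor.map_comp, sD.w])
    have sk : IsPullback ((yon S).map d₁) k jV σ :=
      IsPullback.of_bot (by rw [hjT, hk₂]; exact sD.map (yon S)) hk₁.symm sσ
    exact ⟨D, d₁, d₂, k, sD, repWith_of_isPullback sk hjo, repWith_of_isPullback sk hjc, hk₂,
      by rw [← hσ₁, reassoc_of% hk₁, hjX]⟩
  choose D d₁ d₂ k sD hko hkc hkU hkX using hpiece
  have hd₂ : ∀ i, IsFinite (d₂ i).left := fun i =>
    MorphismProperty.of_isPullback ((sD i).map (Over.forget S)) (hfT i)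
  have hopen : ∀ i, IsOpen (Set.range (Points.map (k i))) := fun i =>
    (isOpenMap_map_of_universallyOpen (repWith_universallyOpen_of_etale
      (repWith_mono (fun φ (_ : IsOpenImmersion φ) => inferInstanceAs (Etale φ)) (hko i)))).isOpen_range
  have hclosed : ∀ i, IsClosed (Set.range (Points.map (k i))) := fun i =>
    (repWith_isClosedImmersion_iff (repWith_mono (fun φ (_ : IsOpenImmersion φ) =>
      inferInstanceAs (IsImmersion φ)) (hko i))).1 (hkc i)
  let W : TopologicalSpace.Opens (Points P) := ⟨⋃ i, Set.range (Points.map (k i)), isOpen_iUnion hopen⟩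
  have hWo := repWith_openSubι W
  have hWi : RepWith @IsImmersion (openSubι W) :=
    repWith_mono (fun φ (_ : IsOpenImmersion φ) => inferInstanceAs (IsImmersion φ)) hWo
  have hWc : RepWith @IsClosedImmersion (openSubι W) := (repWith_isClosedImmersion_iff hWi).2 (by
    rw [range_openSubι]; exact isClosed_iUnion_of_finite hclosed)
  have := mono_of_repWith_openImmersion hWo
  have hk' : ∀ i, ∃ k' : (yon S).obj (D i) ⟶ openSub W, k' ≫ openSubι W = k i := fun i =>
    (exists_factor_iff hWo (k i)).2 (by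
      rw [range_openSubι]; exact Set.subset_iUnion (fun i => Set.range (Points.map (k i))) i)
  choose k' hk' using hk'
  have hcov : ∀ v : Points (openSub W), ∃ i δ, Points.map (k' i) δ = v := fun v => by
    obtain ⟨i, δ, hδ⟩ : ∃ i δ, Points.map (k i) δ = Points.map (openSubι W) v := by
      have : Points.map (openSubι W) v ∈ W := (range_openSubι W).le ⟨v, rfl⟩
      simpa [W] using this
    exact ⟨i, δ, map_injective_of_mono (openSubι W) (by rw [← Points.map_comp, hk', hδ])⟩
  have hWS := isAlgSpace_openSub W hP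
  have hWs : IsSeparatedMor (openSubι W ≫ prU) :=
    separated_comp ((isSeparatedMor_iff hWo.1).2
      (repWith_mono (fun φ (_ : IsOpenImmersion φ) => inferInstanceAs (IsSeparated φ)) hWo))
      (separated_of_isPullback sP hsep)
  refine ⟨W, hWc, ?_, fun v hv' => ?_, fun p hp hpu hpx => hp ?_⟩
  · have hl : LocP (@LocallyQuasiFinite ⊓ @LocallyOfFiniteType) (openSubι W ≫ prU) :=
      locP_of_hasAtMor fun v => by
        obtain ⟨i, δ, rfl⟩ := hcov v
        refine (hasAtMor_comp_iff (IsAlgSpace.yon_obj _) (IsAlgSpace.yon_obj U) (repWith_mono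
          (fun φ (_ : IsOpenImmersion φ) => inferInstanceAs (Etale φ))
          (repWith_of_comp_mono (P := @IsOpenImmersion) (by rw [hk' i]; exact hko i))) δ).1
          (hasAtMor_of_locP (IsAlgSpace.yon_obj _) (IsAlgSpace.yon_obj U) ?_ δ)
        rw [← Category.assoc, hk' i, hkU i]
        have := hd₂ i
        exact locP_of_repWith etLocal_lqfLft (repWith_map ⟨inferInstance, inferInstance⟩)
    have hr' := Lqf.representable_of_lqf hWS (IsAlgSpace.yon_obj U) hl hWs
    have huc : IsUnivClosedMor (openSubι W ≫ prU) := by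
      intro Z Z' hZ g fst snd sq C hC
      have hone : ∀ i, IsClosed (Points.map snd '' (C ∩ Points.map fst ⁻¹' Set.range (Points.map (k' i)))) := fun i => by
        have sl := IsPullback.of_hasPullback (k' i) fst
        have sl' : IsPullback (pullback.fst (k' i) fst) (pullback.snd (k' i) fst ≫ snd)
            ((yon S).map (d₂ i)) g := by
          have := sl.paste_vert sq
          rwa [← Category.assoc, hk' i, hkU i] at this
        have := hd₂ i
        have hu := (repWith_universallyClosed_iff (repWith_map (P := @IsFinite) (hd₂ i)).1).1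
          (repWith_mono (Q := (@UniversallyClosed : MorphismProperty Scheme.{u}))
            (fun φ (_ : IsFinite φ) => inferInstanceAs (UniversallyClosed φ)) (repWith_map (P := @IsFinite) (hd₂ i)))
          hZ g _ _ sl' _ (hC.preimage (Points.continuous_map (pullback.snd (k' i) fst)))
        convert hu using 1
        ext y
        constructor
        · rintro ⟨c, ⟨hcC, δ, hδ⟩, rfl⟩
          obtain ⟨ρ, -, hρ⟩ := exists_of_isPullback sl δ c hδ
          exact ⟨ρ, by show Points.map _ ρ ∈ C; rw [hρ]; exact hcC, by rw [Points.map_comp, hρ]⟩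
        · rintro ⟨ρ, hρ, rfl⟩
          exact ⟨_, ⟨hρ, ⟨Points.map (pullback.fst (k' i) fst) ρ, by rw [← Points.map_comp, sl.w, Points.map_comp]⟩⟩,
            (Points.map_comp _ _ _).symm⟩
      rw [show Points.map snd '' C = ⋃ i, Points.map snd '' (C ∩ Points.map fst ⁻¹' Set.range (Points.map (k' i))) by
        rw [← Set.image_iUnion, ← Set.inter_iUnion, Set.iUnion_eq_univ_iff.2 (fun c => by
          obtain ⟨i, δ, hδ⟩ := hcov (Points.map fst c)
          exact ⟨i, δ, hδ⟩), Set.inter_univ]]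
      exact isClosed_iUnion_of_finite hone
    have h₁ := (isSeparatedMor_iff hr').1 hWs
    have h₂ := repWith_of_locP etLocal_lqfLft (IsAlgSpace.yon_obj U) hr' hl
    have h₃ := (repWith_universallyClosed_iff hr').2 huc
    exact isFiniteMor_iff.2 (repWith_mono
      (fun φ ⟨⟨(_ : IsSeparated φ), ⟨(_ : LocallyQuasiFinite φ), (_ : LocallyOfFiniteType φ)⟩⟩, (_ : UniversallyClosed φ)⟩ =>
        have : IsProper φ := {}
        IsFinite.of_isProper_of_locallyQuasiFinite φ)
      (repWith_inf_iff.2 ⟨repWith_inf_iff.2 ⟨h₁, h₂⟩, h₃⟩))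
  · obtain ⟨i, δ, rfl⟩ := hcov v
    obtain ⟨d, rfl⟩ := (Points.schemeEquiv (D i)).surjective δ
    rw [← Points.map_comp, ← Category.assoc, hk' i, hkX i, Points.map_comp,
      show Points.map ((yon S).map (d₁ i)) (Points.schemeEquiv (D i) d) = Points.ofScheme (U₁ i) ((d₁ i).left d) by
        rw [← ofPt_map, Points.ofPt_eq_map_ofScheme]; rfl,
      ← Points.ofPt_eq_map_ofScheme]
    rw [← Points.map_comp, ← Category.assoc, hk' i, hkU i,
      show Points.map ((yon S).map (d₂ i)) (Points.schemeEquiv (D i) d) = Points.ofScheme U ((d₂ i).left d) by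
        rw [← ofPt_map, Points.ofPt_eq_map_ofScheme]; rfl] at hv'
    replace hv' : (d₂ i).left d = ub.left t := (Points.schemeEquiv U).injective hv'
    obtain ⟨E, p, q, sE⟩ : ∃ (E : Scheme.{u}) (p : E ⟶ (D i).left) (q : E ⟶ Spec (CommRingCat.of Ω)),
        IsPullback p q (d₂ i).left ub.left := ⟨_, _, _, IsPullback.of_hasPullback _ _⟩
    have := hd₂ i
    have : IsFinite q := MorphismProperty.of_isPullback sE this
    obtain ⟨ε, hε, -⟩ : ∃ ε : E, p ε = d ∧ q ε = t := by
      obtain ⟨ε, h₁, h₂⟩ := Scheme.Pullback.exists_preimage_pullback d t hv'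
      refine ⟨sE.isoPullback.inv ε, ?_, ?_⟩
      · rw [← Scheme.Hom.comp_apply, IsPullback.isoPullback_inv_fst, h₁]
      · rw [← Scheme.Hom.comp_apply, IsPullback.isoPullback_inv_snd, h₂]
    have hcl := isClosed_singleton_of_qf q (u := ε) ⟨⊤, trivial, inferInstance, inferInstance⟩
    have heq : (pointOfClosedPoint q ε hcl ≫ p) ≫ (d₁ i).left = (γ i).left := by
      refine (huniq i Ω (γ i).left ((pointOfClosedPoint q ε hcl ≫ p) ≫ (d₁ i).left) t ?_
        (by rw [hγ₂ i])).symm
      have hsd : (d₁ i).left ≫ (fT i).left = (d₂ i).left ≫ (r i).left := congr($((sD i).w).left)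
      rw [Category.assoc, hsd, Category.assoc, reassoc_of% sE.w, pointOfClosedPoint_comp_assoc]
      exact (congr($(hr₂ i).left)).symm
    have hd : (d₁ i).left d = z i := by
      rw [← hγ₂ i, ← heq, Scheme.Hom.comp_apply, Scheme.Hom.comp_apply, pointOfClosedPoint_apply, hε]
    rw [hd, hz i]
    exact i.2
  · obtain ⟨l, hl₁, hl₂⟩ := sP.exists_lift (pullback.fst f yb) (pullback.snd f yb ≫ (yon S).map ub)
      (by rw [Category.assoc, hub]; exact pullback.condition)
    have sl : IsPullback l (pullback.snd f yb) prU ((yon S).map ub) :=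
      IsPullback.of_right (by rw [hl₁, hub]; exact syb) hl₂ sP
    obtain ⟨ξ, hξ₁, -⟩ := exists_of_isPullback sl p (Points.ofScheme (Over.mk w) t) (by
      rw [hpu, ← Points.ofPt_eq_map_ofScheme, ofPt_map])
    have hξx : Points.map (pullback.fst f yb) ξ ∈ xs := by
      rw [← hl₁, Points.map_comp, hξ₁]; exact hpx
    let i : Ξ := ⟨ξ, hξx⟩
    obtain ⟨δ, hδ₁, hδ₂⟩ := exists_lift_yon ((sD i).map (yon S)) (γ i) ub (by
      rw [← Functor.map_comp, ← Functor.map_comp, hr₂ i])
    have e : (yon S).map δ ≫ k i = sec i ≫ l := sP.hom_ext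
      (by rw [Category.assoc, hkX i, ← Functor.map_comp_assoc, hδ₁, hγ₁ i, Category.assoc, hl₁])
      (by rw [Category.assoc, hkU i, ← Functor.map_comp, hδ₂, Category.assoc, hl₂, reassoc_of% (hsec₁ i)])
    rw [range_openSubι]
    refine Set.mem_iUnion.2 ⟨i, Points.ofPt ((yon S).map δ) t, ?_⟩
    rw [Points.map_ofPt, e, ← Points.map_ofPt, hsec₂, hξ₁]

end Groth.L23.QFL
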