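import Groth.Agent.L23.LocP
import Groth.Agent.L23.OpenSub
import Groth.Agent.L23.Points
import Groth.Agent.L20.ThickeningTopology
import Groth.Prelude.Def_AlgSpInf
import Mathlib.AlgebraicGeometry.Morphisms.FlatMono
import Mathlib.AlgebraicGeometry.Morphisms.UniversallyInjective
import Mathlib.AlgebraicGeometry.Morphisms.Etale

/-!
# Etale morphisms into a thickening

An etale morphism which becomes an isomorphism on the thickened space is an isomorphism. Consequently an
algebraic space thickening of an affine scheme with a split affine etale chart is affine.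
-/

universe u

open CategoryTheory CategoryTheory.Limits AlgebraicGeometry AlgSp

set_option backward.isDefEq.respectTransparency.types false

namespace Groth.L23

theorem isOpenImmersion_of_etale_univInjective {X Y : Scheme.{u}} (f : X ⟶ Y) [Etale f]
    [UniversallyInjective f] : IsOpenImmersion f := by
  have : Surjective (pullback.diagonal f) := (UniversallyInjective.iff_diagonal f).1 ‹_›
  have : IsIso (pullback.diagonal f) :=
    (isIso_iff_isOpenImmersion_and_surjective _).2 ⟨inferInstance, inferInstance⟩
  have : Mono f := (pullback.isIso_diagonal_iff f).1 this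
  exact IsOpenImmersion.of_flat_of_mono f

/-- An etale morphism which is an isomorphism after a surjective closed base change is one. -/
theorem isIso_of_isPullback_thickening {E T E₀ T₀ : Scheme.{u}} {e : E ⟶ T} {j : T₀ ⟶ T}
    {j' : E₀ ⟶ E} {e₀ : E₀ ⟶ T₀} [Etale e] [IsClosedImmersion j] [Surjective j] [IsIso e₀]
    (sq : IsPullback j' e₀ e j) : IsIso e := by
  have : Surjective j' := MorphismProperty.of_isPullback sq.flip inferInstance
  have : Surjective (j' ≫ e) := by rw [sq.w]; infer_instance
  have : Surjective e := Surjective.of_comp j' e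
  have : UniversallyInjective (j' ≫ e) := by rw [sq.w]; infer_instance
  have : UniversallyInjective e := Groth.L20.Thick.universallyInjective_of_comp_surjective j' e
  have := isOpenImmersion_of_etale_univInjective e
  exact (isIso_iff_isOpenImmersion_and_surjective e).2 ⟨inferInstance, inferInstance⟩

variable {S : Scheme.{u}}

/-- An etale map from a scheme which is an isomorphism on the thickened space is an isomorphism. -/
theorem isIso_of_thickening {P P₀ : Sp S} {G G₀ : Over S} {e : (yon S).obj G ⟶ P}
    (he : RepWith @Etale e) {i : P₀ ⟶ P} (hi : IsThickMor i) {r : G₀ ⟶ G}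
    {e₀ : (yon S).obj G₀ ⟶ P₀} [IsIso e₀] (sq : IsPullback ((yon S).map r) e₀ e i) : IsIso e := by
  have key : RepWith (MorphismProperty.isomorphisms Scheme.{u}) e := by
    refine repWith_of_exists fun T g => ?_
    obtain ⟨E, p, π, sE⟩ := exists_isPullback_of_representable he.1 g
    have hπ : Etale π.left := repWith_prop he sE
    obtain ⟨T₀, jT, gT, sT⟩ : ∃ (T₀ : Over S) (jT : T₀ ⟶ T) (gT : (yon S).obj T₀ ⟶ P₀),
        IsPullback ((yon S).map jT) gT g i := ⟨_, _, _, (hi.1.isPullback g).flip⟩
    have hj : MoreMor.IsThickening jT.left := repWith_prop hi sT.flip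
    obtain ⟨_, _⟩ := hj
    let E₀ := pullback π jT
    have sE₀ : IsPullback (pullback.fst π jT) (pullback.snd π jT) π jT := IsPullback.of_hasPullback _ _
    have big : IsPullback ((yon S).map (pullback.fst π jT) ≫ (yon S).map p)
        ((yon S).map (pullback.snd π jT)) e (gT ≫ i) :=
      sT.w ▸ (sE₀.map (yon S)).paste_horiz sE
    let l := sq.lift ((yon S).map (pullback.fst π jT) ≫ (yon S).map p)
      ((yon S).map (pullback.snd π jT) ≫ gT) (by rw [Category.assoc _ gT, ← big.w, Category.assoc])
    have sl : IsPullback l ((yon S).map (pullback.snd π jT)) e₀ gT :=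
      IsPullback.of_right (by rw [sq.lift_fst]; exact big) (sq.lift_snd _ _ _) sq
    have : IsIso ((yon S).map (pullback.snd π jT)) := sl.isIso_snd_of_isIso
    have : IsIso (pullback.snd π jT) := isIso_of_reflects_iso _ (yon S)
    have : IsIso (pullback.snd π jT).left :=
      inferInstanceAs (IsIso ((Over.forget S).map (pullback.snd π jT)))
    exact ⟨E, (yon S).map p, π, sE, isIso_of_isPullback_thickening
      (e := π.left) (j := jT.left) (e₀ := (pullback.snd π jT).left) (sE₀.map (Over.forget S))⟩
  exact isIso_of_openImmersion_surjective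
    (repWith_mono (fun φ (_ : IsIso φ) => show IsOpenImmersion φ from inferInstance) key)
    (surjective_map_of_repWith (repWith_mono (fun φ (_ : IsIso φ) => show Surjective φ from inferInstance) key))

/-- A thickening of an affine scheme with a split affine etale chart is affine. -/
theorem exists_affine_of_thickening_split {P : Sp S} {P₀ U₀ U : Over S} [IsAffine P₀.left]
    [IsAffine U.left] {i : (yon S).obj P₀ ⟶ P} (hi : IsThickMor i) {a : (yon S).obj U ⟶ P}
    (ha : RepWith @Etale a) {u : U₀ ⟶ U} {π : U₀ ⟶ P₀}
    (sq : IsPullback ((yon S).map u) ((yon S).map π) a i) {τ : P₀ ⟶ U₀} (hτ : τ ≫ π = 𝟙 P₀) :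
    ∃ (G : Over S) (e : (yon S).obj G ⟶ P), IsAffine G.left ∧ IsIso e := by
  have hu : MoreMor.IsThickening u.left := repWith_prop hi sq.flip
  obtain ⟨_, _⟩ := hu
  have : IsAffine U₀.left := isAffine_of_isAffineHom u.left
  have hπ : Etale π.left := repWith_prop ha sq
  have hid : τ.left ≫ π.left = 𝟙 P₀.left := by rw [← Over.comp_left, hτ, Over.id_left]
  have : Etale (τ.left ≫ π.left) := by rw [hid]; infer_instance
  have : Etale τ.left := Etale.of_comp τ.left π.left
  have : Mono τ.left := mono_of_mono_fac hid
  have : IsOpenImmersion τ.left := IsOpenImmersion.of_flat_of_mono τ.left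
  have : IsClosedImmersion (τ.left ≫ π.left) := by rw [hid]; infer_instance
  have : IsClosedImmersion τ.left := IsClosedImmersion.of_comp τ.left π.left
  -- the piece of the chart lying over the section
  have hu_open : IsOpenMap u.left :=
    (IsHomeomorph.isOpenMap (isHomeomorph_iff_isEmbedding_surjective.2
      ⟨u.left.isClosedEmbedding.isEmbedding, u.left.surjective⟩))
  let O : U.left.Opens := ⟨u.left '' Set.range τ.left, hu_open _ τ.left.opensRange.2⟩
  have : IsClosedImmersion O.ι := IsClosedImmersion.of_isPreimmersion O.ι (by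
    rw [Scheme.Opens.range_ι]
    exact u.left.isClosedEmbedding.isClosedMap _ τ.left.isClosedEmbedding.isClosed_range)
  have hpre : u.left ⁻¹ᵁ O = τ.left.opensRange := by
    ext x
    exact ⟨fun ⟨y, hy, e⟩ => u.left.isClosedEmbedding.injective e ▸ hy, fun hx => ⟨x, hx, rfl⟩⟩
  have hrange : Set.range (τ.left ≫ u.left) ⊆ Set.range O.ι := by
    rw [Scheme.Opens.range_ι]
    rintro _ ⟨x, rfl⟩
    exact ⟨τ.left x, ⟨x, rfl⟩, rfl⟩
  let G : Over S := Over.mk (O.ι ≫ U.hom)
  let oG : G ⟶ U := Over.homMk O.ι rfl
  let r : P₀ ⟶ G := Over.homMk (IsOpenImmersion.lift O.ι (τ.left ≫ u.left) hrange) (by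
    show _ ≫ O.ι ≫ U.hom = P₀.hom
    rw [IsOpenImmersion.lift_fac_assoc, Category.assoc, Over.w u, Over.w τ])
  have sr : IsPullback r τ oG u :=
    IsPullback.of_map (Over.forget S) (Over.OverMorphism.ext (IsOpenImmersion.lift_fac _ _ _))
      (IsOpenImmersion.isPullback r.left τ.left O.ι u.left
        (IsOpenImmersion.lift_fac _ _ _).symm (by rw [Scheme.Opens.opensRange_ι]; exact hpre))
  let e := (yon S).map oG ≫ a
  have he : RepWith @Etale e := repWith_comp (repWith_map (inferInstanceAs (Etale O.ι))) ha
  have se : IsPullback ((yon S).map r) (𝟙 _) e i := by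
    have := (sr.map (yon S)).flip.paste_horiz sq.flip
    rw [← Functor.map_comp, hτ, (yon S).map_id] at this
    exact this.flip
  exact ⟨G, e, isAffine_of_isAffineHom (Y := U.left) O.ι, isIso_of_thickening he hi se⟩

end Groth.L23
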