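import Groth.Agent.L23.QuotRestrict
import Groth.Agent.L23.Points
import Groth.Agent.L23.OpenSub
import Groth.Agent.L24.Boot.QuotRep
import Groth.Agent.L24.Boot.QuotSlice
import Groth.Prelude.Def_Grpd
import Mathlib.AlgebraicGeometry.Morphisms.UniversallyOpen

/-!
# Open immersions of quotient sheaves induced by restrictions
-/

universe u

open CategoryTheory CategoryTheory.Limits AlgebraicGeometry Opposite AlgSp Topology

set_option autoImplicit false
set_option backward.isDefEq.respectTransparency false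
set_option backward.isDefEq.respectTransparency.types false

namespace Groth.L23.QO

variable {S : Scheme.{u}}

theorem surjective_map_of_epi {F G : Sp S} (l : F ⟶ G) [Epi l] : Function.Surjective (Points.map l) := by
  intro p
  obtain ⟨T, h, x, rfl⟩ := exists_eq_ofPt p
  obtain ⟨T₁, e, m, _, _, _, hm⟩ := Groth.L24.Boot.exists_lift_of_epi l h
  obtain ⟨x₁, rfl⟩ := e.left.surjective x
  exact ⟨Points.ofPt m x₁, by rw [Points.map_ofPt, hm, ofPt_comp]⟩

variable {R U U' : Over S} {R' : Sp S} (s t : R ⟶ U) (g : U' ⟶ U)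
  {s' t' : R' ⟶ (yon S).obj U'}

set_option quotPrecheck false in
local notation "π" => quotSpπ ((yon S).map s) ((yon S).map t)

theorem ofPt_quot_mem_iff (hpre : IsPreEqvRelSp ((yon S).map s) ((yon S).map t)) (u : U.left) :
    Points.ofPt π u ∈ Set.range (Points.ofPt ((yon S).map g ≫ π)) ↔
      u ∈ s.left '' (t.left ⁻¹' Set.range g.left) := by
  constructor
  · rintro ⟨u', hu'⟩
    rw [ofPt_comp] at hu'
    haveI := QR.epi_toKernelPair _ _ hpre
    obtain ⟨p, hp₁, hp₂⟩ := exists_of_isPullback (IsPullback.of_hasPullback π π)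
      (Points.ofScheme U (g.left u')) (Points.ofScheme U u)
      (by rw [← Points.ofPt_eq_map_ofScheme, ← Points.ofPt_eq_map_ofScheme]; exact hu')
    obtain ⟨ρ₀, rfl⟩ := surjective_map_of_epi
      (pullback.lift ((yon S).map t) ((yon S).map s) (quotSp_condition _ _).symm) p
    obtain ⟨ρ, rfl⟩ := (Points.schemeEquiv R).surjective ρ₀
    rw [← Points.map_comp, pullback.lift_fst] at hp₁
    rw [← Points.map_comp, pullback.lift_snd] at hp₂
    change Points.map _ (Points.ofScheme R ρ) = _ at hp₁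
    change Points.map _ (Points.ofScheme R ρ) = _ at hp₂
    rw [← Points.ofPt_eq_map_ofScheme, ofPt_map] at hp₁ hp₂
    exact ⟨ρ, ⟨u', ((Points.schemeEquiv U).injective hp₁).symm⟩, (Points.schemeEquiv U).injective hp₂⟩
  · rintro ⟨ρ, ⟨u', hu'⟩, rfl⟩
    refine ⟨u', ?_⟩
    rw [ofPt_comp, hu', ← ofPt_comp, ← ofPt_comp, quotSp_condition]

theorem isOpen_range (hpre : IsPreEqvRelSp ((yon S).map s) ((yon S).map t)) (W : U.left.Opens)
    (hW : (W : Set U.left) = s.left '' (t.left ⁻¹' Set.range g.left)) :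
    IsOpen (Set.range (Points.ofPt ((yon S).map g ≫ π))) := by
  refine Points.isOpen_iff.2 fun T ξ => ?_
  haveI : Epi π := inferInstanceAs (Epi (coequalizer.π _ _))
  obtain ⟨T', e, a, _, _, _, ha⟩ := Groth.L24.Boot.exists_lift_of_epi π ξ
  obtain ⟨a, rfl⟩ := (yon S).map_surjective a
  have h : Points.ofPt ξ ⁻¹' Set.range (Points.ofPt ((yon S).map g ≫ π)) =
      e.left '' (a.left ⁻¹' (W : Set U.left)) := by
    have key : ∀ x, Points.ofPt ξ (e.left x) ∈ Set.range (Points.ofPt ((yon S).map g ≫ π)) ↔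
        a.left x ∈ (W : Set U.left) := fun x => by
      rw [hW, ← ofPt_quot_mem_iff s t g hpre, ← ofPt_comp, ← ha, ofPt_comp]
    ext y
    refine ⟨fun hy => ?_, ?_⟩
    · obtain ⟨x, rfl⟩ := e.left.surjective y
      exact ⟨x, (key x).1 hy, rfl⟩
    · rintro ⟨x, hx, rfl⟩
      exact (key x).2 hx
  rw [h]
  exact e.left.isOpenMap _ (W.isOpen.preimage a.left.continuous)

theorem repWith_isOpenImmersion_restrict (hpre : IsPreEqvRelSp ((yon S).map s) ((yon S).map t))
    (hlift : ∀ (T : Over S) (a b : (yon S).obj T ⟶ (yon S).obj U') (r : (yon S).obj T ⟶ (yon S).obj R),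
      r ≫ (yon S).map t = a ≫ (yon S).map g → r ≫ (yon S).map s = b ≫ (yon S).map g →
        ∃ r' : (yon S).obj T ⟶ R', r' ≫ t' = a ∧ r' ≫ s' = b)
    (W : U.left.Opens) (hW : (W : Set U.left) = s.left '' (t.left ⁻¹' Set.range g.left))
    {P : Over S} (a : P ⟶ U') (ρ : P ⟶ R) (hw : ρ ≫ t = a ≫ g) (hl : P ⟶ Over.mk (W.ι ≫ U.hom))
    (hh : hl ≫ (Over.homMk W.ι rfl : Over.mk (W.ι ≫ U.hom) ⟶ U) = ρ ≫ s)
    (hepi : Sheaf.IsLocallySurjective ((yon S).map hl))
    (ψ : quotSp s' t' ⟶ quotSp ((yon S).map s) ((yon S).map t))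
    (hψ : quotSpπ s' t' ≫ ψ = (yon S).map g ≫ π) : RepWith @IsOpenImmersion ψ := by
  haveI := QR.mono_of_restrict _ _ hpre hlift ψ hψ
  haveI : Epi π := inferInstanceAs (Epi (coequalizer.π _ _))
  haveI : Epi (quotSpπ s' t') := inferInstanceAs (Epi (coequalizer.π _ _))
  haveI := hepi
  haveI : Epi ((yon S).map hl) := inferInstance
  let O : TopologicalSpace.Opens (Points (quotSp ((yon S).map s) ((yon S).map t))) :=
    ⟨_, isOpen_range s t g hpre W hW⟩
  haveI := mono_openSubι O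
  obtain ⟨l₀, hl₀⟩ := (exists_factor_openSub_iff O ((yon S).map g ≫ π)).2 fun u => ⟨u, rfl⟩
  have hcoeq : s' ≫ l₀ = t' ≫ l₀ := by
    rw [← cancel_mono (openSubι O), Category.assoc, Category.assoc, hl₀, ← hψ, quotSp_condition_assoc]
  let θ : quotSp s' t' ⟶ openSub O := quotSpDesc l₀ hcoeq
  have hθ : θ ≫ openSubι O = ψ := by
    rw [← cancel_epi (quotSpπ s' t'), ← Category.assoc, quotSpπ_desc, hl₀, hψ]
  haveI : Mono θ := mono_of_mono_fac hθ
  haveI : IsIso θ := Groth.L24.Boot.isIso_of_yon θ (fun T x y e => (cancel_mono θ).1 e) fun T ξ => by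
    obtain ⟨T', e, a₀, _, _, _, ha⟩ := Groth.L24.Boot.exists_lift_of_epi π (ξ ≫ openSubι O)
    obtain ⟨a₀, rfl⟩ := (yon S).map_surjective a₀
    have hWmem : ∀ x, a₀.left x ∈ (W : Set U.left) := fun x => by
      rw [hW, ← ofPt_quot_mem_iff s t g hpre, ← ofPt_comp, ha, ofPt_comp]
      exact (exists_factor_openSub_iff O (ξ ≫ openSubι O)).1 ⟨ξ, rfl⟩ (e.left x)
    let k₀ : T'.left ⟶ (W : Scheme.{u}) := IsOpenImmersion.lift W.ι a₀.left (by
      rintro _ ⟨x, rfl⟩
      rw [Scheme.Opens.range_ι]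
      exact hWmem x)
    have hk₀ : k₀ ≫ W.ι = a₀.left := IsOpenImmersion.lift_fac _ _ _
    let k : T' ⟶ Over.mk (W.ι ≫ U.hom) := Over.homMk k₀ (by
      show k₀ ≫ W.ι ≫ U.hom = _
      rw [reassoc_of% hk₀, Over.w a₀])
    have hk : k ≫ (Over.homMk W.ι rfl : Over.mk (W.ι ≫ U.hom) ⟶ U) = a₀ := Over.OverMorphism.ext hk₀
    obtain ⟨T'', f, p, _, _, _, hp⟩ := Groth.L24.Boot.exists_lift_of_epi ((yon S).map hl) ((yon S).map k)
    haveI := QR.epi_yon_map e
    haveI := QR.epi_yon_map f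
    let x := (p ≫ (yon S).map a) ≫ quotSpπ s' t'
    let E := (yon S).map f ≫ (yon S).map e
    have hx : x ≫ θ = E ≫ ξ := by
      rw [← cancel_mono (openSubι O), Category.assoc, hθ]
      simp only [x, E, Category.assoc]
      rw [hψ, ← Functor.map_comp_assoc, ← hw, Functor.map_comp_assoc, ← quotSp_condition,
        ← Functor.map_comp_assoc, ← hh, Functor.map_comp_assoc, reassoc_of% hp,
        ← (yon S).map_comp_assoc k, hk, ha]
    obtain ⟨hc⟩ := nonempty_isColimit_cofork E (IsPullback.of_hasPullback E E)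
    have hdesc : pullback.fst E E ≫ x = pullback.snd E E ≫ x := by
      rw [← cancel_mono θ, Category.assoc (pullback.fst E E) x θ, Category.assoc (pullback.snd E E) x θ, hx,
        pullback.condition_assoc]
    refine ⟨hc.desc (Cofork.ofπ x hdesc), ?_⟩
    rw [← cancel_epi E, ← hx, ← Category.assoc]
    exact congrArg (· ≫ θ) (hc.fac (Cofork.ofπ x hdesc) WalkingParallelPair.one)
  rw [← hθ]
  exact MorphismProperty.RespectsIso.precomp _ _ _ (repWith_openSubι O)

theorem repWith_of_quotIso {R₀ U₀ R₁ U₁ : Over S} {s₀ t₀ : R₀ ⟶ U₀} {s₁ t₁ : R₁ ⟶ U₁} (g₀ : U₁ ⟶ U₀)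
    (φ : QuotSh.quot Scheme.fppfPrecoverage s₁ t₁ ⟶ QuotSh.quot Scheme.fppfPrecoverage s₀ t₀)
    (hφ : QuotSh.quotπ Scheme.fppfPrecoverage s₁ t₁ ≫ φ =
      QuotSh.repMap Scheme.fppfPrecoverage g₀ ≫ QuotSh.quotπ Scheme.fppfPrecoverage s₀ t₀)
    (h : ∀ ψ : quotSp ((yon S).map s₁) ((yon S).map t₁) ⟶ quotSp ((yon S).map s₀) ((yon S).map t₀),
      quotSpπ ((yon S).map s₁) ((yon S).map t₁) ≫ ψ = (yon S).map g₀ ≫ quotSpπ ((yon S).map s₀) ((yon S).map t₀) →
        RepWith @IsOpenImmersion ψ) : RepWith @IsOpenImmersion φ := by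
  let e₀ := Groth.L24.Boot.quotIso s₀ t₀
  let e₁ := Groth.L24.Boot.quotIso s₁ t₁
  have h₀ : QuotSh.quotπ Scheme.fppfPrecoverage s₁ t₁ ≫ φ ≫ e₀.hom =
      (QuotSh.repIsoUliftYoneda Scheme.fppfPrecoverage U₁).hom ≫ (yon S).map g₀ ≫
        quotSpπ ((yon S).map s₀) ((yon S).map t₀) := by
    rw [← Category.assoc, hφ, Category.assoc, Groth.L24.Boot.quotπ_comp_quotIso, ← Category.assoc,
      Groth.L24.Boot.repMap_comp_iso, Category.assoc]
  have hψ : quotSpπ ((yon S).map s₁) ((yon S).map t₁) ≫ e₁.inv ≫ φ ≫ e₀.hom =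
      (yon S).map g₀ ≫ quotSpπ ((yon S).map s₀) ((yon S).map t₀) := by
    rw [← cancel_epi (QuotSh.repIsoUliftYoneda Scheme.fppfPrecoverage U₁).hom, ← h₀, ← Category.assoc,
      ← Groth.L24.Boot.quotπ_comp_quotIso, Category.assoc, Iso.hom_inv_id_assoc]
  have := h _ hψ
  have e : φ = e₁.hom ≫ (e₁.inv ≫ φ ≫ e₀.hom) ≫ e₀.inv := by simp
  rw [e]
  exact MorphismProperty.RespectsIso.precomp _ _ _ (MorphismProperty.RespectsIso.postcomp _ _ _ this)

theorem hlift_of_isPullback {R₀ U₀ R₁ U₁ : Over S} {s₀ t₀ : R₀ ⟶ U₀} {s₁ t₁ : R₁ ⟶ U₁} {g₀ : U₁ ⟶ U₀}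
    {r₀ : R₁ ⟶ R₀} (hsq : IsPullback (prod.lift t₁ s₁) r₀ (prod.map g₀ g₀) (prod.lift t₀ s₀))
    (T : Over S) (a b : (yon S).obj T ⟶ (yon S).obj U₁) (r : (yon S).obj T ⟶ (yon S).obj R₀)
    (ht : r ≫ (yon S).map t₀ = a ≫ (yon S).map g₀) (hs : r ≫ (yon S).map s₀ = b ≫ (yon S).map g₀) :
    ∃ r' : (yon S).obj T ⟶ (yon S).obj R₁, r' ≫ (yon S).map t₁ = a ∧ r' ≫ (yon S).map s₁ = b := by
  obtain ⟨a, rfl⟩ := (yon S).map_surjective a
  obtain ⟨b, rfl⟩ := (yon S).map_surjective b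
  obtain ⟨r, rfl⟩ := (yon S).map_surjective r
  rw [← Functor.map_comp, ← Functor.map_comp] at ht hs
  replace ht := (yon S).map_injective ht
  replace hs := (yon S).map_injective hs
  obtain ⟨k, hk, -⟩ := hsq.exists_lift (prod.lift a b) r (by rw [prod.comp_lift, prod.lift_map, ht, hs])
  exact ⟨(yon S).map k,
    by rw [← Functor.map_comp]; exact congrArg _ (by simpa [prod.comp_lift, prod.lift_fst] using congrArg (· ≫ prod.fst) hk),
    by rw [← Functor.map_comp]; exact congrArg _ (by simpa [prod.comp_lift, prod.lift_snd] using congrArg (· ≫ prod.snd) hk)⟩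

theorem isPreEqvRelSp_groupoidScheme (G : Grpd.GroupoidScheme S) :
    IsPreEqvRelSp ((yon S).map (Over.homMk G.s G.s_over : Over.mk G.pR ⟶ Over.mk G.pU))
      ((yon S).map (Over.homMk G.t G.t_over : Over.mk G.pR ⟶ Over.mk G.pU)) := fun T => by
  have key : ∀ {r : T ⟶ Over.mk G.pR} (x : T.left ⟶ G.R), x ≫ G.pR = T.hom → ∀ {y z : T ⟶ Over.mk G.pU},
      x ≫ G.t = y.left → x ≫ G.s = z.left → ∃ m : (yon S).obj T ⟶ (yon S).obj (Over.mk G.pR),
        m ≫ (yon S).map (Over.homMk G.t G.t_over : Over.mk G.pR ⟶ Over.mk G.pU) = (yon S).map y ∧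
        m ≫ (yon S).map (Over.homMk G.s G.s_over : Over.mk G.pR ⟶ Over.mk G.pU) = (yon S).map z :=
    fun {r} x hx {y z} hy hz => ⟨(yon S).map (Over.homMk x hx : T ⟶ Over.mk G.pR),
      by rw [← Functor.map_comp]; exact congrArg _ (Over.OverMorphism.ext hy),
      by rw [← Functor.map_comp]; exact congrArg _ (Over.OverMorphism.ext hz)⟩
  refine ⟨fun a => ?_, ?_, ?_⟩
  · obtain ⟨a, rfl⟩ := (yon S).map_surjective a
    have h : G.e ≫ G.pR = G.pU := by rw [← G.s_over, reassoc_of% G.e_s]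
    exact key (r := Over.homMk (a.left ≫ G.e) (by rw [Category.assoc]; exact (congrArg (a.left ≫ ·) h).trans (Over.w a)))
      (a.left ≫ G.e) (by rw [Category.assoc]; exact (congrArg (a.left ≫ ·) h).trans (Over.w a))
      (by rw [Category.assoc, G.e_t]; exact Category.comp_id _) (by rw [Category.assoc, G.e_s]; exact Category.comp_id _)
  · rintro a b ⟨r, rfl, rfl⟩
    obtain ⟨r, rfl⟩ := (yon S).map_surjective r
    rw [← Functor.map_comp, ← Functor.map_comp]
    have h : G.i ≫ G.pR = G.pR := by rw [← G.t_over, reassoc_of% G.i_t, G.s_over]; exact G.t_over.symm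
    exact key (r := r) (r.left ≫ G.i) (by rw [Category.assoc, h]; exact Over.w r)
      (by rw [Category.assoc, G.i_t]; rfl) (by rw [Category.assoc, G.i_s]; rfl)
  · rintro a b c ⟨r, rfl, hr⟩ ⟨r', hr', rfl⟩
    obtain ⟨r, rfl⟩ := (yon S).map_surjective r
    obtain ⟨r', rfl⟩ := (yon S).map_surjective r'
    rw [← Functor.map_comp] at hr hr'
    have h : r.left ≫ G.s = r'.left ≫ G.t :=
      congrArg CommaMorphism.left ((yon S).map_injective (hr.trans hr'.symm))
    rw [← Functor.map_comp, ← Functor.map_comp]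
    exact key (r := r) (pullback.lift r.left r'.left h ≫ G.c) (by
        refine (congrArg (_ ≫ ·) G.t_over.symm).trans ((Category.assoc _ _ _).symm.trans ?_)
        refine (congrArg (· ≫ G.pU) (G.comp_t r.left r'.left h)).trans ((Category.assoc _ _ _).trans ?_)
        exact (congrArg (r.left ≫ ·) G.t_over).trans (Over.w r))
      (G.comp_t _ _ _) (G.comp_s _ _ _)

end Groth.L23.QO
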