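import Groth.Agent.L23.MonoPt
import Groth.Agent.L23.MorCalc
import Groth.Agent.L23.Univ

/-!
# Quasi-compact representatives of points
-/

universe u

open CategoryTheory CategoryTheory.Limits AlgebraicGeometry Opposite AlgSp Topology

set_option backward.isDefEq.respectTransparency.types false
set_option linter.style.haveILetI false

namespace Groth.L23.Pt

variable {S : Scheme.{u}}

/-- A discrete reduced target makes monomorphisms open immersions. -/
lemma isOpenImmersion_of_mono_discrete {P T : Scheme.{u}} [_root_.AlgebraicGeometry.IsReduced T]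
    (hd : ∀ z : T, IsOpen ({z} : Set T)) (j : P ⟶ T) [Mono j] : IsOpenImmersion j := by
  let O : T → T.Opens := fun z => ⟨{z}, hd z⟩
  refine (IsZariskiLocalAtTarget.iff_of_iSup_eq_top (P := @IsOpenImmersion) O
    (top_le_iff.1 fun z _ => TopologicalSpace.Opens.mem_iSup.2 ⟨z, rfl⟩)).2 fun z => ?_
  have : Subsingleton (O z : Scheme.{u}) := ⟨fun a b => Subtype.ext (a.2.trans b.2.symm)⟩
  have : Nonempty (O z : Scheme.{u}) := ⟨⟨z, rfl⟩⟩
  have : IrreducibleSpace (O z : Scheme.{u}) := { toPreirreducibleSpace := ⟨fun u v _ _ ⟨a, _, ha⟩ ⟨b, _, hb⟩ =>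
    ⟨a, trivial, ha, Subsingleton.elim b a ▸ hb⟩⟩, toNonempty := inferInstance }
  have : IsIntegral (O z : Scheme.{u}) := isIntegral_of_irreducibleSpace_of_isReduced _
  let R := Γ((O z : Scheme.{u}), ⊤)
  let : Field R := (isField_of_isIntegral_of_subsingleton _).toField
  have : Mono (j ∣_ O z) := MorphismProperty.of_isPullback (P := MorphismProperty.monomorphisms Scheme)
    (isPullback_morphismRestrict j (O z)).flip ‹Mono j›
  rcases isEmpty_or_nonempty (j ⁻¹ᵁ O z : Scheme.{u}) with h | ⟨⟨a⟩⟩
  · infer_instance
  · have hi : IsIso ((j ∣_ O z) ≫ (O z : Scheme.{u}).isoSpec.hom) :=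
      isIso_of_mono_to_field (K := R) ((j ∣_ O z) ≫ (O z : Scheme.{u}).isoSpec.hom) a
    have : IsIso (j ∣_ O z) := IsIso.of_isIso_comp_right _ (O z : Scheme.{u}).isoSpec.hom
    infer_instance

lemma isOpen_singleton_of_qf {U : Scheme.{u}} {K : Type u} [Field K] (h : U ⟶ Spec (CommRingCat.of K))
    [LocallyOfFiniteType h] [LocallyQuasiFinite h] (u : U) : IsOpen ({u} : Set U) := by
  have ho := Scheme.Hom.quasiFiniteAt_iff_isOpen_singleton_asFiber.1 (h.quasiFiniteAt u)
  have he : IsOpenEmbedding (h.fiberι (h u)) := ⟨(h.fiberι _).isEmbedding, by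
    rw [h.range_fiberι, show h ⁻¹' {h u} = Set.univ from
      Set.eq_univ_of_forall fun x => Subsingleton.elim (α := PrimeSpectrum K) _ _]
    exact isOpen_univ⟩
  simpa [h.fiberι_asFiber] using he.isOpenMap _ ho

variable {X : Sp S}

/-- The field-valued point attached to a morphism from the spectrum of a field. -/
noncomputable def ofHom {K : Type u} [Field K] (w : Spec (CommRingCat.of K) ⟶ S) (q : (yon S).obj (Over.mk w) ⟶ X) :
    FieldPt X := ⟨K, w, (J S).uliftYonedaEquiv q⟩

lemma toHom_ofHom {K : Type u} [Field K] (w : Spec (CommRingCat.of K) ⟶ S) (q : (yon S).obj (Over.mk w) ⟶ X) :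
    (ofHom w q).toHom = q := Equiv.symm_apply_apply _ _

lemma mk_ofHom {K : Type u} [Field K] (w : Spec (CommRingCat.of K) ⟶ S) (q : (yon S).obj (Over.mk w) ⟶ X)
    (t : ↥(Spec (CommRingCat.of K))) : Points.mk (ofHom w q) = Points.ofPt q t := by
  rw [← Points.ofPt_toHom (ofHom w q) t, toHom_ofHom]
  rfl

instance (p : FieldPt X) : Subsingleton p.pt.left := inferInstanceAs (Subsingleton (PrimeSpectrum p.K))
instance (p : FieldPt X) : Nonempty p.pt.left := inferInstanceAs (Nonempty (PrimeSpectrum p.K))
instance (p : FieldPt X) : IsAffine p.pt.left := inferInstanceAs (IsAffine (Spec _))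

lemma compact_of_iso {A B : Sp S} (i : A ≅ B) (h : CompactSpace (Points A)) : CompactSpace (Points B) := by
  have hs : Function.Surjective (Points.map i.hom) := fun b => ⟨Points.map i.inv b, by
    rw [← Points.map_comp, i.inv_hom_id, Points.map_id]⟩
  exact hs.compactSpace (Points.continuous_map i.hom)

lemma compact_eq_iff {A B : Over S} {r r' : (yon S).obj A ⟶ X} (e : r = r') {g g' : (yon S).obj B ⟶ X} (e' : g = g') :
    CompactSpace (Points (pullback r g)) ↔ CompactSpace (Points (pullback r' g')) := by
  subst e e'; rfl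

/-- Compactness of a base change does not depend on the representative of a point. -/
theorem compact_iff_of_comp (hX : IsAlgSpace X) {A B U : Over S} [IsAffine A.left] [IsAffine B.left]
    [Nonempty B.left] [Subsingleton A.left] (c : B ⟶ A) (q : (yon S).obj A ⟶ X) (g : (yon S).obj U ⟶ X) :
    CompactSpace (Points (pullback ((yon S).map c ≫ q) g)) ↔ CompactSpace (Points (pullback q g)) := by
  obtain ⟨T, t₁, t₂, sT⟩ := exists_isPullback_of_representable (hX.representable_from_yon q) g
  have sC := IsPullback.of_hasPullback c t₁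
  have sB : IsPullback ((yon S).map (pullback.fst c t₁)) ((yon S).map (pullback.snd c t₁) ≫ (yon S).map t₂)
      ((yon S).map c ≫ q) g := ((sC.map (yon S)).flip.paste_horiz sT.flip).flip
  let e₁ := Points.schemeHomeo T
  let e₂ := Points.schemeHomeo (pullback c t₁)
  have hcpt : ∀ {A B : Sp S} (i : A ≅ B), CompactSpace (Points A) → CompactSpace (Points B) := fun i h => compact_of_iso i h
  have hA : ∀ h : CompactSpace T.left, CompactSpace (pullback c t₁).left := fun h => by
    have : IsAffineHom c.left := inferInstance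
    have : QuasiCompact (pullback.snd c t₁).left :=
      MorphismProperty.of_isPullback (sC.map (Over.forget S)) (inferInstanceAs (QuasiCompact c.left))
    exact QuasiCompact.compactSpace_of_compactSpace (pullback.snd c t₁).left
  have hB : ∀ h : CompactSpace (pullback c t₁).left, CompactSpace T.left := fun h => by
    have : Surjective c.left := ⟨fun a => ⟨Classical.arbitrary _, Subsingleton.elim _ _⟩⟩
    have : Surjective (pullback.snd c t₁).left := MorphismProperty.of_isPullback (sC.map (Over.forget S)) this
    exact (pullback.snd c t₁).left.surjective.compactSpace (pullback.snd c t₁).left.continuous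
  refine ⟨fun h => hcpt sT.isoPullback ?_, fun h => hcpt sB.isoPullback ?_⟩
  · have := hcpt sB.isoPullback.symm h
    have := hB e₂.symm.compactSpace
    exact e₁.compactSpace
  · have := hcpt sT.isoPullback.symm h
    have := hA e₁.symm.compactSpace
    exact e₂.compactSpace

theorem compact_symm {A B : Over S} (q : (yon S).obj A ⟶ X) (g : (yon S).obj B ⟶ X)
    (h : CompactSpace (Points (pullback q g))) : CompactSpace (Points (pullback g q)) :=
  compact_of_iso (pullbackSymmetry q g) h

/-- Compactness of a base change depends only on the point. -/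
theorem compact_congr (hX : IsAlgSpace X) (p q : FieldPt X) (e : Points.mk p = Points.mk q) {U : Over S}
    (g : (yon S).obj U ⟶ X) :
    CompactSpace (Points (pullback p.toHom g)) ↔ CompactSpace (Points (pullback q.toHom g)) := by
  obtain ⟨Ω, hΩ, w, a, b, h⟩ := (rel_iff_toHom _ _).1 (Points.mk_eq_mk_iff.1 e)
  change Over.mk w ⟶ p.pt at a
  change Over.mk w ⟶ q.pt at b
  have : IsAffine (Over.mk w).left := inferInstanceAs (IsAffine (Spec _))
  have : Nonempty (Over.mk w).left := inferInstanceAs (Nonempty (PrimeSpectrum Ω))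
  rw [← compact_iff_of_comp hX a p.toHom g, ← compact_iff_of_comp hX b q.toHom g]
  exact compact_eq_iff h rfl

/-- The self product of a representative is compact. -/
abbrev SelfQc (p : FieldPt X) : Prop := CompactSpace (Points (pullback p.toHom p.toHom))

theorem selfQc_congr (hX : IsAlgSpace X) (p q : FieldPt X) (e : Points.mk p = Points.mk q) (h : SelfQc p) :
    SelfQc q :=
  (compact_congr hX p q e q.toHom).1 (compact_symm _ _ ((compact_congr hX p q e p.toHom).1 h))

theorem selfQc_of_mono (p : FieldPt X) [Mono p.toHom] : SelfQc p := by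
  have : Finite (Points ((yon S).obj p.pt)) := (Points.schemeEquiv p.pt).finite_iff.1 inferInstance
  have : Mono (pullback.fst p.toHom p.toHom) := inferInstance
  have := Finite.of_injective _ (QFL.map_injective_of_mono (pullback.fst p.toHom p.toHom))
  exact Finite.compactSpace

set_option maxHeartbeats 800000 in
/-- A point with compact self product has a monomorphic representative. -/
theorem exists_mono_of_selfQc (hX : IsAlgSpace X) (p : FieldPt X) (h : SelfQc p) :
    ∃ m : FieldPt X, Points.mk m = Points.mk p ∧ Mono m.toHom := by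
  obtain ⟨U, φ, -, hφ, ⟨u, hu⟩⟩ := exists_affine_etale_nhd hX (Points.mk p)
  let κ := U.left.residueField u
  let iu : Spec (CommRingCat.of κ) ⟶ U.left := U.left.fromSpecResidueField u
  let ι : Over.mk (iu ≫ U.hom) ⟶ U := Over.homMk iu
  let q := (yon S).map ι ≫ φ
  let t : ↥(Spec (CommRingCat.of κ)) := IsLocalRing.closedPoint _
  have hq : Points.mk (ofHom (iu ≫ U.hom) q) = Points.mk p := by
    rw [mk_ofHom _ _ t, ofPt_comp, ← hu]
    exact congr_arg _ (Scheme.fromSpecResidueField_apply _ _)
  have hqc : CompactSpace (Points (pullback q q)) := by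
    have := selfQc_congr hX p (ofHom (iu ≫ U.hom) q) hq.symm h
    exact (compact_eq_iff (toHom_ofHom _ q) (toHom_ofHom _ q)).1 this
  obtain ⟨T, c, t₂, sT⟩ := exists_isPullback_of_representable (hX.representable_from_yon q) φ
  let c' : T.left ⟶ Spec (CommRingCat.of κ) := c.left
  have : Etale c' := repWith_prop hφ sT.flip
  have := isReduced_of_etale c'
  obtain ⟨P, pc, p₁, sP⟩ : ∃ (P : Over S) (pc : P ⟶ T) (p₁ : P ⟶ Over.mk (iu ≫ U.hom)), IsPullback pc p₁ t₂ ι :=
    ⟨_, _, _, IsPullback.of_hasPullback t₂ ι⟩
  have : Mono pc.left := by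
    have : Mono ι.left := inferInstanceAs (Mono iu)
    exact MorphismProperty.of_isPullback (P := MorphismProperty.monomorphisms Scheme)
      (sP.map (Over.forget S)).flip this
  have : IsOpenImmersion pc.left := isOpenImmersion_of_mono_discrete (isOpen_singleton_of_qf c') pc.left
  have sq : IsPullback ((yon S).map (pc ≫ c)) ((yon S).map p₁) q q := by
    rw [Functor.map_comp]
    exact (sP.map (yon S)).paste_horiz sT
  have : CompactSpace P.left := by
    have : CompactSpace (Points ((yon S).obj P)) := compact_of_iso sq.isoPullback.symm hqc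
    exact (Points.schemeHomeo P).symm.compactSpace
  obtain ⟨sw, hsw₁, hsw₂⟩ := exists_lift_yon sq p₁ (pc ≫ c) sq.w.symm
  have hsw : sw ≫ sw = 𝟙 P := (yon S).map_injective (sq.hom_ext
    (by rw [← Functor.map_comp, ← Functor.map_comp, Category.assoc, hsw₁, hsw₂, Category.id_comp])
    (by rw [← Functor.map_comp, ← Functor.map_comp, Category.assoc, hsw₂, hsw₁, Category.id_comp]))
  have : IsIso sw := ⟨sw, hsw, hsw⟩
  have : IsIso sw.left := inferInstanceAs (IsIso ((Over.forget S).map sw))
  have key : ∀ π : P.left ⟶ Spec (CommRingCat.of κ), Etale π → IsFinite π := fun π _ => by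
    have : QuasiCompact π := (HasAffineProperty.iff_of_isAffine (P := @QuasiCompact)).2 ‹_›
    exact IsFinite.of_locallyQuasiFinite π
  have h₀ : Etale (pc ≫ c).left := inferInstanceAs (Etale (pc.left ≫ c'))
  have h₁ : Etale p₁.left := by
    rw [← hsw₁]; exact inferInstanceAs (Etale (sw.left ≫ (pc ≫ c).left))
  obtain ⟨m, hm, hmm⟩ := exists_mono_of_finite_etale hX q sq (key _ h₀) h₀ (key _ h₁) h₁ t
  exact ⟨m, by rw [hm, ← mk_ofHom _ q t, hq], hmm⟩

/-- Quasi-compactness of a field-valued point is tested on affine etale charts. -/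
theorem qc_iff (hX : IsAlgSpace X) (p : FieldPt X) :
    RepWith @QuasiCompact p.toHom ↔ ∀ (U : Over S) (φ : (yon S).obj U ⟶ X), IsAffine U.left → RepWith @Etale φ →
      CompactSpace (Points (pullback p.toHom φ)) := by
  have hr := hX.representable_from_yon p.toHom
  constructor
  · intro h U φ hU hφ
    obtain ⟨T, t₁, t₂, sT⟩ := exists_isPullback_of_representable hr φ
    have : QuasiCompact t₂.left := repWith_prop h sT
    have : CompactSpace T.left := QuasiCompact.compactSpace_of_compactSpace t₂.left
    have : CompactSpace (Points ((yon S).obj T)) := (Points.schemeHomeo T).compactSpace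
    exact compact_of_iso sT.isoPullback ‹_›
  · intro h
    obtain ⟨V, b, hb, hbs⟩ := hX.atlas
    obtain ⟨T, t₁, t₂, sT⟩ := exists_isPullback_of_representable hr b
    refine repWith_quasiCompact_of_isQuasiCompactMor hr ?_
    refine isQuasiCompactMor_of_cover (IsAlgSpace.yon_obj _) hX hb hbs sT
      (isQuasiCompactMor_of_repWith (repWith_map ?_))
    refine quasiCompact_iff_forall_isAffineOpen.2 fun B hB => ?_
    let j : openOver V B ⟶ V := openOverι V B
    have hc := h (openOver V B) ((yon S).map j ≫ b) hB
      (repWith_comp (repWith_map (inferInstanceAs (Etale B.ι))) hb)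
    obtain ⟨TB, u₁, u₂, sB⟩ : ∃ (TB : Over S) (u₁ : TB ⟶ T) (u₂ : TB ⟶ openOver V B), IsPullback u₁ u₂ t₂ j :=
      ⟨_, _, _, IsPullback.of_hasPullback t₂ j⟩
    have sC := ((sB.map (yon S)).flip.paste_vert sT.flip).flip
    have : CompactSpace (Points ((yon S).obj TB)) := compact_of_iso sC.isoPullback.symm hc
    have : CompactSpace TB.left := (Points.schemeHomeo TB).symm.compactSpace
    have hr : Set.range u₁.left = t₂.left ⁻¹' (B : Set V.left) := by
      have sB' : IsPullback u₁.left u₂.left t₂.left B.ι := sB.map (Over.forget S)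
      rw [← sB'.isoPullback_hom_fst, Scheme.Hom.comp_base, TopCat.coe_comp, Set.range_comp,
        Set.range_eq_univ.2 sB'.isoPullback.hom.surjective, Set.image_univ, Scheme.Pullback.range_fst]
      exact congr_arg (t₂.left ⁻¹' ·) B.range_ι
    show IsCompact (t₂.left ⁻¹' (B : Set V.left))
    rw [← hr]
    exact isCompact_range u₁.left.continuous

theorem qc_congr (hX : IsAlgSpace X) (p q : FieldPt X) (e : Points.mk p = Points.mk q)
    (h : RepWith @QuasiCompact p.toHom) : RepWith @QuasiCompact q.toHom :=
  (qc_iff hX q).2 fun U φ hU hφ => (compact_congr hX p q e φ).1 ((qc_iff hX p).1 h U φ hU hφ)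

theorem selfQc_of_qc (hX : IsAlgSpace X) (p : FieldPt X) (h : RepWith @QuasiCompact p.toHom) : SelfQc p := by
  obtain ⟨T, t₁, t₂, sT⟩ := exists_isPullback_of_representable h.1 p.toHom
  have : QuasiCompact t₂.left := repWith_prop h sT
  have : CompactSpace T.left := QuasiCompact.compactSpace_of_compactSpace t₂.left
  have : CompactSpace (Points ((yon S).obj T)) := (Points.schemeHomeo T).compactSpace
  exact compact_of_iso sT.isoPullback ‹_›

/-- A quasi-compact representative gives a quasi-compact monomorphic one. -/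
theorem exists_mono_qc (hX : IsAlgSpace X) (p : FieldPt X) (h : RepWith @QuasiCompact p.toHom) :
    ∃ m : FieldPt X, Points.mk m = Points.mk p ∧ Mono m.toHom ∧ RepWith @QuasiCompact m.toHom := by
  obtain ⟨m, hm, hmm⟩ := exists_mono_of_selfQc hX p (selfQc_of_qc hX p h)
  exact ⟨m, hm, hmm, qc_congr hX p m hm.symm h⟩

end Groth.L23.Pt
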