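import Groth.Agent.L23.EmbedAffine
import Groth.Agent.L23.ImmersionDescent
import Groth.Agent.L23.QsTop
import Groth.Agent.L23.LocP
import Groth.Agent.L23.MorCalc

/-!
# Embedding affine schemes over spaces into affine spaces
-/

universe u

open CategoryTheory CategoryTheory.Limits AlgebraicGeometry AlgSp

set_option autoImplicit false
set_option linter.style.haveILetI false
set_option backward.isDefEq.respectTransparency false
set_option backward.isDefEq.respectTransparency.types false

noncomputable section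

namespace Groth.L23.EmbedSpace

variable {S : Scheme.{u}}

/-- Products of algebraic spaces. -/
theorem isAlgSpace_prod {X A : Sp S} (hX : IsAlgSpace X) (hA : IsAlgSpace A) : IsAlgSpace (X ⨯ A) := by
  let ht : IsTerminal ((yon S).obj (Over.mk (𝟙 S))) := IsTerminal.isTerminalObj _ _ Over.mkIdTerminal
  refine isAlgSpace_of_isPullback (IsAlgSpace.yon_obj (Over.mk (𝟙 S))).diag hX hA
    (fst := prod.fst) (snd := prod.snd) (f := ht.from X) (g := ht.from A) ?_
  exact IsPullback.mk' (ht.hom_ext _ _) (fun _ _ _ h₁ h₂ => prod.hom_ext h₁ h₂)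
    fun _ a b _ => ⟨prod.lift a b, prod.lift_fst _ _, prod.lift_snd _ _⟩

/-- The scheme map underlying a lift into a product in `Over S`. -/
theorem isImmersion_pullback_lift {W U T : Over S} (a : W ⟶ U) (b : W ⟶ T)
    (h : IsImmersion (prod.lift a b : W ⟶ U ⨯ T).left) :
    IsImmersion (pullback.lift a.left b.left (by rw [Over.w, Over.w]) : W.left ⟶ pullback U.hom T.hom) := by
  have e : (prod.lift a b : W ⟶ U ⨯ T).left ≫ (Over.prodLeftIsoPullback U T).hom =
      pullback.lift a.left b.left (by rw [Over.w, Over.w]) := by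
    apply pullback.hom_ext <;> simp [← Over.comp_left]
  rw [← e]
  infer_instance

variable {X : Sp S}

set_option maxHeartbeats 800000 in
/-- An affine scheme over a space with immersive graph over an affine chart embeds into affine space. -/
theorem exists_embedding (hX : IsAlgSpace X) {U : Over S} [IsAffine U.left] {f : (yon S).obj U ⟶ X}
    (hf : LocP @LocallyOfFiniteType f) {T : Over S} [IsAffine T.left] {p : (yon S).obj T ⟶ X}
    (hp : RepWith @Etale p) (hr : Set.range (Points.ofPt f) ⊆ Set.range (Points.ofPt p))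
    (himm : ∀ (W : Over S) (a : W ⟶ U) (b : W ⟶ T), IsPullback ((yon S).map a) ((yon S).map b) f p →
      CompactSpace W.left ∧ IsImmersion (prod.lift a b : W ⟶ U ⨯ T).left) :
    ∃ (n : ℕ) (i : (yon S).obj U ⟶ X ⨯ (yon S).obj (Over.mk (𝔸(ULift.{u} (Fin n); S) ↘ S))),
      i ≫ prod.fst = f ∧ RepWith @IsImmersion i := by
  classical
  obtain ⟨Y', j, e, hY', hj, he, hes, hej, hjr⟩ := Qs.exists_openSub_chart hX hp
  haveI := mono_of_repWith_openImmersion hj
  obtain ⟨f₀, hf₀⟩ := (exists_factor_iff hj f).2 (by rw [hjr, range_map_yon]; exact hr)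
  obtain ⟨W, a, b, sq₀⟩ := exists_isPullback_of_representable (hY'.representable_from_yon f₀) e
  have sq : IsPullback ((yon S).map a) ((yon S).map b) f p :=
    IsPullback.mk' (by rw [← hf₀, ← hej, ← Category.assoc, sq₀.w, Category.assoc])
      (fun _ _ _ h₁ h₂ => sq₀.hom_ext h₁ h₂)
      (fun _ x y h => ⟨sq₀.lift x y (by rw [← cancel_mono j, Category.assoc, hf₀, Category.assoc, hej, h]),
        sq₀.lift_fst _ _ _, sq₀.lift_snd _ _ _⟩)
  obtain ⟨hWc, hWi⟩ := himm W a b sq
  haveI := hWc
  haveI := isImmersion_pullback_lift a b hWi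
  haveI : LocallyOfFiniteType b.left :=
    locP_of_isPullback etLocal_lft (IsAlgSpace.yon_obj U) hX (IsAlgSpace.yon_obj T) sq hf (𝟙 _) (𝟙 _) b
      (repWith_id _ W) (repWith_id _ T) (by simp)
  obtain ⟨s, hs⟩ := EmbedAffine.exists_vector (sU := U.hom) (sT := T.hom) a.left b.left ((Over.w a).trans (Over.w b).symm)
  let N : Type u := ULift.{u} (Fin s.card)
  let x : N → Γ(U.left, ⊤) := fun i => (s.equivFin.symm i.down).1
  have hx : (↑s : Set Γ(U.left, ⊤)) ⊆ Set.range x :=
    fun y hy => ⟨⟨s.equivFin ⟨y, hy⟩⟩, by simp [x]⟩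
  have himm' := hs N x hx
  let A : Over S := Over.mk (𝔸(N; S) ↘ S)
  let α : U ⟶ A := Over.homMk (AffineSpace.homOfVector U.hom x) (AffineSpace.homOfVector_over _ _)
  refine ⟨s.card, prod.lift f ((yon S).map α), prod.lift_fst _ _, ?_⟩
  have hi : prod.lift f ((yon S).map α) = prod.lift f₀ ((yon S).map α) ≫ prod.map j (𝟙 _) := by
    rw [prod.lift_map, hf₀, Category.comp_id]
  rw [hi]
  refine repWith_comp ?_ (repWith_of_isPullback (isPullback_prod_map_left j _)
    (repWith_mono (fun φ (_ : IsOpenImmersion φ) => inferInstanceAs (IsImmersion φ)) hj))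
  have sqi : IsPullback ((yon S).map a) (prod.lift ((yon S).map b) ((yon S).map a ≫ (yon S).map α))
      (prod.lift f₀ ((yon S).map α)) (prod.map e (𝟙 _)) := by
    refine IsPullback.mk' (by apply prod.hom_ext <;> simp [sq₀.w]) (fun Z u v h₁ h₂ => sq₀.hom_ext h₁ ?_)
      (fun Z u v h => ?_)
    · simpa using h₂ =≫ prod.fst
    · have h₁ := h =≫ prod.fst
      have h₂ := h =≫ prod.snd
      simp only [Category.assoc, prod.lift_fst, prod.map_fst, prod.lift_snd, prod.map_snd, Category.comp_id] at h₁ h₂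
      refine ⟨sq₀.lift u (v ≫ prod.fst) (by rw [h₁, Category.assoc]), sq₀.lift_fst _ _ _, ?_⟩
      apply prod.hom_ext
      · simp
      · rw [Category.assoc, prod.lift_snd, sq₀.lift_fst_assoc, h₂]
  haveI := descendsAlong_isImmersion_fppf.{u}
  haveI : MorphismProperty.DescendsAlong (@IsImmersion : MorphismProperty Scheme.{u}) fppfSurj :=
    descendsAlong_isImmersion_fppf
  haveI := isLocalAtTarget_fppf (@IsImmersion : MorphismProperty Scheme.{u})
  haveI := isLocallySurjective_of_etale (prod.map e (𝟙 ((yon S).obj A)))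
    (repWith_of_isPullback (isPullback_prod_map_left e _) he)
    (repWith_of_isPullback (isPullback_prod_map_left e _) hes)
  refine repWith_of_locallySurjective
    ((isAlgSpace_prod hY' (IsAlgSpace.yon_obj A)).representable_from_yon _) sqi ?_
  have el : prod.lift ((yon S).map b) ((yon S).map a ≫ (yon S).map α) =
      (yon S).map (prod.lift b (a ≫ α)) ≫ prodComparison (yon S) T A := by
    apply prod.hom_ext <;> simp [← Functor.map_comp]
  rw [el]
  refine repWith_comp (repWith_map ?_) (repWith_of_isIso _)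
  have sqA := (AffineSpace.isPullback_map (n := N) T.hom).flip
  have e₂ : AffineSpace.homOfVector b.left (a.left.appTop.hom ∘ x) ≫ sqA.isoPullback.hom =
      (prod.lift b (a ≫ α) : W ⟶ T ⨯ A).left ≫ (Over.prodLeftIsoPullback T A).hom := by
    apply pullback.hom_ext
    · rw [Category.assoc, sqA.isoPullback_hom_fst, AffineSpace.homOfVector_over, Category.assoc]
      erw [Over.prodLeftIsoPullback_hom_fst]
      rw [← Over.comp_left, prod.lift_fst]
    · rw [Category.assoc, sqA.isoPullback_hom_snd, Category.assoc]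
      erw [Over.prodLeftIsoPullback_hom_snd]
      rw [← Over.comp_left, prod.lift_snd, Over.comp_left]
      show _ = a.left ≫ AffineSpace.homOfVector U.hom x
      refine AffineSpace.hom_ext ?_ fun i => ?_
      · rw [Category.assoc, AffineSpace.map_over, AffineSpace.homOfVector_over_assoc, Category.assoc,
          AffineSpace.homOfVector_over, Over.w, Over.w]
      · simp [Scheme.Hom.comp_appTop, AffineSpace.homOfVector_appTop_coord]
  haveI := himm'
  have h3 : IsImmersion ((prod.lift b (a ≫ α) : W ⟶ T ⨯ A).left ≫ (Over.prodLeftIsoPullback T A).hom) :=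
    e₂ ▸ inferInstance
  exact (MorphismProperty.cancel_right_of_respectsIso (P := @IsImmersion) _ _).1 h3

/-- Quasi-separated, locally separated target. -/
theorem exists_embedding_locallySeparated [QuasiSeparatedSpace S] (hX : IsAlgSpace X)
    (hqs : IsQuasiSeparatedSp X) (hls : IsLocallySeparatedSp X) {U : Over S} [IsAffine U.left]
    {f : (yon S).obj U ⟶ X} (hf : LocP @LocallyOfFiniteType f) :
    ∃ (n : ℕ) (i : (yon S).obj U ⟶ X ⨯ (yon S).obj (Over.mk (𝔸(ULift.{u} (Fin n); S) ↘ S))),
      i ≫ prod.fst = f ∧ RepWith @IsImmersion i := by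
  obtain ⟨U₀, p₀, hp₀, hps₀⟩ := hX.atlas
  let B := fun i : ↥U₀.left.affineOpens => (i.1 : U₀.left.Opens)
  have hop : ∀ i, IsOpen (Points.ofPt p₀ '' (B i : Set U₀.left)) := fun i =>
    isOpenMap_ofPt hp₀ _ (B i).isOpen
  obtain ⟨F, hF⟩ := (isCompact_range (Points.continuous_ofPt f)).elim_finite_subcover
    (fun i => Points.ofPt p₀ '' (B i : Set U₀.left)) hop fun x _ => by
      obtain ⟨u, rfl⟩ := surjective_ofPt hps₀ x
      obtain ⟨_, ⟨V, hV, rfl⟩, hu, -⟩ := U₀.left.isBasis_affineOpens.exists_subset_of_mem_open (Set.mem_univ u) isOpen_univ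
      exact Set.mem_iUnion.2 ⟨⟨V, hV⟩, u, hu, rfl⟩
  let d : (∐ fun i : ↥F => ((B i.1 : U₀.left.Opens) : Scheme.{u})) ⟶ U₀.left := Sigma.desc fun i => (B i.1).ι
  haveI : ∀ i : ↥F, IsAffine ((B i.1 : U₀.left.Opens) : Scheme.{u}) := fun i => i.1.2
  haveI : Etale d := IsZariskiLocalAtSource.sigmaDesc fun i => inferInstance
  let P : Over S := Over.mk (d ≫ U₀.hom)
  let π : P ⟶ U₀ := Over.homMk d
  haveI : IsAffine P.left := inferInstanceAs (IsAffine (∐ fun i : ↥F => ((B i.1 : U₀.left.Opens) : Scheme.{u})))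
  haveI : CompactSpace U.left := inferInstance
  refine exists_embedding hX hf (p := (yon S).map π ≫ p₀) (repWith_comp (repWith_map ‹Etale d›) hp₀)
    (fun x hx => ?_) fun W c d sq => ?_
  · obtain ⟨i, hi, u, hu, rfl⟩ := Set.mem_iUnion₂.1 (hF hx)
    refine ⟨Sigma.ι (fun i : ↥F => ((B i.1 : U₀.left.Opens) : Scheme.{u})) ⟨i, hi⟩ ⟨u, hu⟩, ?_⟩
    rw [ofPt_comp]
    refine congrArg _ ?_
    show d _ = u
    rw [← Scheme.Hom.comp_apply, Sigma.ι_desc]
    rfl
  · refine ⟨compactSpace_of_qs hqs sq, ?_⟩
    have h' := repWith_of_isPullback (isPullback_diag sq) hls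
    rw [show prod.lift ((yon S).map c) ((yon S).map d) =
      (yon S).map (prod.lift c d) ≫ prodComparison (yon S) U P by
        apply prod.hom_ext <;> simp [← Functor.map_comp]] at h'
    exact (repWith_yon_map_iff _ _).1
      ((MorphismProperty.cancel_right_of_respectsIso (RepWith @IsImmersion) _ _).1 h')

end Groth.L23.EmbedSpace
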