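import Groth.Agent.L23.LocP
import Groth.Agent.L23.QcCalc
import Groth.Agent.L23.Epi
import Mathlib.CategoryTheory.Limits.Shapes.Pullback.Mono

/-!
# Quasi-compact flat surjective monomorphisms are isomorphisms
-/

universe u

open CategoryTheory CategoryTheory.Limits AlgebraicGeometry Opposite AlgSp

set_option backward.isDefEq.respectTransparency.types false

namespace Groth.L23

variable {S : Scheme.{u}} {X Y P : Sp S}

/-- For a monomorphism `c : P ⟶ h_V` and an etale `a : h_U ⟶ P`, the fibre product over `V` of `U` and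
anything over `P` is etale over the latter. -/
lemma etale_fst_of_mono {U U' V R : Over S} {c : P ⟶ (yon S).obj V} [Mono c]
    {a : (yon S).obj U ⟶ P} (ha : RepWith @Etale a) (a' : (yon S).obj U' ⟶ P) {v : U ⟶ V}
    {v' : U' ⟶ V} (hv : a ≫ c = (yon S).map v) (hv' : a' ≫ c = (yon S).map v') {p : R ⟶ U'}
    {q : R ⟶ U} (sq : IsPullback q p v v') : Etale p.left := by
  have sq' := sq.map (yon S)
  rw [← hv, ← hv'] at sq'
  have sq'' : IsPullback ((yon S).map q) ((yon S).map p) a a' :=
    IsPullback.mk' (by rw [← cancel_mono c]; simpa using sq'.w)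
      (fun T φ φ' h₁ h₂ => sq'.hom_ext h₁ h₂)
      (fun T z w e => sq'.exists_lift z w (by rw [reassoc_of% e]))
  exact repWith_prop ha sq''

theorem isIso_of_qc_flat_surjective_mono (hX : IsAlgSpace X) (hY : IsAlgSpace Y) (f : X ⟶ Y) [Mono f]
    (hqc : IsQuasiCompactMor f) (hflat : LocP @Flat f) (hs : IsSurjectiveMor f) : IsIso f := by
  obtain ⟨V, b, hb, hbs⟩ := hY.atlas
  have sq := IsPullback.of_hasPullback f b
  have hP := isAlgSpace_of_isPullback hY.diag hX (IsAlgSpace.yon_obj V) sq
  obtain ⟨U, a, ha, has⟩ := hP.atlas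
  obtain ⟨v, hv⟩ := (yon S).map_surjective (a ≫ pullback.snd f b)
  have hfl : Flat v.left :=
    hflat (a ≫ pullback.fst f b) b v (repWith_comp ha (repWith_of_isPullback sq.flip hb)) hb
      (by rw [Category.assoc, pullback.condition, reassoc_of% hv.symm])
  have hsv : Surjective v.left := ⟨fun t => by
    obtain ⟨x, hx⟩ := hs (Points.ofPt b t)
    obtain ⟨p, -, hp⟩ := exists_of_isPullback sq x (Points.ofScheme V t) (by
      rw [hx]; exact (Points.ofPt_eq_map_ofScheme b t).symm)
    obtain ⟨s, rfl⟩ := surjective_ofPt has p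
    refine ⟨s, ?_⟩
    rw [Points.map_ofPt, ← hv] at hp
    simpa [Points.toScheme_ofPt] using congrArg (Points.toScheme V) hp⟩
  have het : Etale v.left := by
    rw [IsZariskiLocalAtTarget.iff_of_iSup_eq_top (P := @Etale) _ (iSup_affineOpens_eq_top V.left)]
    rintro ⟨W, hW⟩
    let ι : Over.mk (W.ι ≫ V.hom) ⟶ V := Over.homMk W.ι
    have : IsAffine (Over.mk (W.ι ≫ V.hom)).left := hW
    have : CompactSpace (Over.mk (W.ι ≫ V.hom)).left := inferInstance
    have sqW := IsPullback.of_hasPullback (pullback.snd f b) ((yon S).map ι)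
    obtain ⟨U', p', hp', hps', hc⟩ := hqc (IsAlgSpace.yon_obj _) isQuasiCompactSp_of_compactSpace
      ((yon S).map ι ≫ b) _ _ (sqW.paste_horiz sq)
    obtain ⟨w, hw⟩ := (yon S).map_surjective (p' ≫ pullback.snd (pullback.snd f b) ((yon S).map ι))
    have hι : RepWith @Etale ((yon S).map ι) :=
      (repWith_yon_map_iff _ _).2 (inferInstanceAs (Etale W.ι))
    have hbW : RepWith @Etale ((yon S).map ι ≫ b) := repWith_comp hι hb
    have hflw : Flat w.left :=
      hflat (p' ≫ pullback.fst _ _ ≫ pullback.fst f b) ((yon S).map ι ≫ b) w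
        (repWith_comp hp' (repWith_comp (repWith_of_isPullback sqW.flip hι)
          (repWith_of_isPullback sq.flip hb))) hbW
        (by simp [pullback.condition, pullback.condition_assoc, reassoc_of% hw])
    have hsw : Surjective w.left := ⟨fun t => by
      obtain ⟨s, hs'⟩ := hsv.surj (ι.left t)
      obtain ⟨p, -, hp⟩ := exists_of_isPullback sqW (Points.ofPt a s) (Points.ofScheme _ t) (by
        rw [Points.map_ofPt, ← hv, ofPt_map, hs']
        exact (ofPt_map ι t).symm.trans (Points.ofPt_eq_map_ofScheme _ t))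
      obtain ⟨s', rfl⟩ := surjective_ofPt hps' p
      refine ⟨s', ?_⟩
      rw [Points.map_ofPt, ← hw] at hp
      simpa [Points.toScheme_ofPt] using congrArg (Points.toScheme _) hp⟩
    have hqw : QuasiCompact w.left := quasiCompact_of_compactSpace _
    have hR := etale_fst_of_mono (c := pullback.snd f b) ha
      (p' ≫ pullback.fst _ _) hv.symm
      (v' := w ≫ ι) (by simp [pullback.condition, hw, reassoc_of% hw])
      (IsPullback.of_hasPullback v (w ≫ ι))
    have sq₁ : IsPullback (pullback.fst v (w ≫ ι)).left (pullback.snd v (w ≫ ι)).left v.left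
        (w.left ≫ W.ι) := (IsPullback.of_hasPullback v (w ≫ ι)).map (Over.forget S)
    have sq₂ := isPullback_morphismRestrict v.left W
    let l := sq₂.flip.lift (pullback.fst v (w ≫ ι)).left ((pullback.snd v (w ≫ ι)).left ≫ w.left)
      (by rw [Category.assoc]; exact sq₁.w)
    have sq₃ : IsPullback l (pullback.snd v (w ≫ ι)).left (v.left ∣_ W) w.left :=
      IsPullback.of_right (by rw [sq₂.flip.lift_fst]; exact sq₁) (sq₂.flip.lift_snd _ _ _) sq₂.flip
    exact MorphismProperty.of_isPullback_of_descendsAlong (P := @Etale)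
      (Q := @Surjective ⊓ @Flat ⊓ @QuasiCompact) sq₃.flip ⟨⟨hsw, hflw⟩, hqw⟩ hR
  have hS := isLocallySurjective_of_etale ((yon S).map v) ((repWith_yon_map_iff _ _).2 het)
    ((repWith_yon_map_iff _ _).2 hsv)
  rw [hv] at hS
  have := isLocallySurjective_of_etale b hb hbs
  have : Sheaf.IsLocallySurjective (pullback.snd f b) :=
    have : Presheaf.IsLocallySurjective _ (a.hom ≫ (pullback.snd f b).hom) := hS
    Presheaf.isLocallySurjective_of_isLocallySurjective _ a.hom (pullback.snd f b).hom
  have h2 : Sheaf.IsLocallySurjective (pullback.snd f b ≫ b) := inferInstance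
  rw [← pullback.condition] at h2
  have : Sheaf.IsLocallySurjective f :=
    have : Presheaf.IsLocallySurjective _ ((pullback.fst f b).hom ≫ f.hom) := h2
    Presheaf.isLocallySurjective_of_isLocallySurjective _ (pullback.fst f b).hom f.hom
  exact isIso_of_mono_of_epi f

end Groth.L23
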