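import Groth.Agent.L23.EtaleMono
import Groth.Agent.L23.QcFlatMono
import Groth.Agent.L23.Compact
import Groth.Agent.L23.Refined

/-!
# Monomorphisms to the spectrum of a field
-/

universe u

open CategoryTheory CategoryTheory.Limits AlgebraicGeometry AlgSp

set_option backward.isDefEq.respectTransparency.types false

namespace Groth.L23

variable {S : Scheme.{u}} {k : Type u} [Field k]

lemma flat_to_field {U : Scheme.{u}} (h : U ⟶ Spec (CommRingCat.of k)) : Flat h := by
  rw [IsZariskiLocalAtSource.iff_of_openCover (P := @Flat) U.affineCover]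
  intro i
  obtain ⟨φ, hφ⟩ := Spec.map_surjective ((U.affineCover.X i).isoSpec.inv ≫ U.affineCover.f i ≫ h)
  have : Flat (Spec.map φ) := by
    refine (HasRingHomProperty.Spec_iff (P := @Flat)).2 ?_
    algebraize [φ.hom]
    exact RingHom.flat_algebraMap_iff.2 inferInstance
  rw [hφ] at this
  exact (MorphismProperty.cancel_left_of_respectsIso (P := @Flat) _ _).1 this

theorem isEmpty_or_isIso_of_mono_to_field (str : Spec (CommRingCat.of k) ⟶ S) {Z : Sp S}
    (hZ : IsAlgSpace Z) (f : Z ⟶ (yon S).obj (Over.mk str)) [Mono f] :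
    IsEmpty (Points Z) ∨ IsIso f := by
  refine (isEmpty_or_nonempty (Points Z)).imp id fun ⟨z⟩ => ?_
  let T : Over S := Over.mk str
  have hY : IsAlgSpace ((yon S).obj T) := IsAlgSpace.yon_obj T
  obtain ⟨U₀, a₀, ha₀, has₀⟩ := hZ.atlas
  obtain ⟨u₀, hu₀⟩ := surjective_ofPt has₀ z
  obtain ⟨W₀, hW₀, huW₀, -⟩ :=
    U₀.left.isBasis_affineOpens.exists_subset_of_mem_open (Set.mem_univ u₀) isOpen_univ
  obtain ⟨(O : U₀.left.Opens), hO, rfl⟩ := hW₀
  let O' : Over S := Over.mk (O.ι ≫ U₀.hom)
  let jO : O' ⟶ U₀ := Over.homMk O.ι rfl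
  let aO := (yon S).map jO ≫ a₀
  have : IsAffine O'.left := hO
  have hsub : Subsingleton (Points Z) := by
    have hinj : IsUnivInjectiveMor f := isUnivInjectiveMor_of_surjective_diagonal
      (surjective_diagonal_of_fieldInjective fun K _ str' a b e => (cancel_mono f).1 e)
    have h1 : Function.Injective (Points.map f) :=
      hinj (IsAlgSpace.yon_obj T) (𝟙 _) (𝟙 _) f IsPullback.of_id_fst
    have : Subsingleton ↥T.left := inferInstanceAs (Subsingleton (PrimeSpectrum k))
    have : Subsingleton (Points ((yon S).obj T)) := (Points.schemeEquiv T).symm.subsingleton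
    exact h1.subsingleton
  have hqc : IsQuasiCompactMor f := by
    refine isQuasiCompactMor_of_affine hZ hY fun W hW g => ?_
    have : IsAffine W.left := hW
    obtain ⟨φ, hφ⟩ := (yon S).map_surjective (aO ≫ f)
    obtain ⟨ψ, hψ⟩ := (yon S).map_surjective g
    have : IsAffine T.left := inferInstanceAs (IsAffine (Spec _))
    have : IsAffine (pullback φ.left ψ.left) := inferInstance
    let P := pullback φ ψ
    have sqP : IsPullback (pullback.fst φ ψ).left (pullback.snd φ ψ).left φ.left ψ.left :=
      (IsPullback.of_hasPullback φ ψ).map (Over.forget S)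
    have : CompactSpace P.left := by
      have e := sqP.isoPullback
      exact e.inv.homeomorph.surjective.compactSpace e.inv.homeomorph.continuous
    have sq := IsPullback.of_hasPullback f g
    let m := sq.lift ((yon S).map (pullback.fst φ ψ) ≫ aO) ((yon S).map (pullback.snd φ ψ)) (by
      rw [Category.assoc, ← hφ, ← hψ, ← Functor.map_comp, ← Functor.map_comp, pullback.condition])
    refine qcSp_of_surjective (isAlgSpace_of_isPullback hY.diag hZ (IsAlgSpace.yon_obj W) sq) m ?_
      isQuasiCompactSp_of_compactSpace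
    intro q
    obtain ⟨p, hp₁, hp₂⟩ := exists_of_isPullback ((IsPullback.of_hasPullback φ ψ).map (yon S))
      (Points.ofScheme O' ⟨u₀, huW₀⟩) (Points.map (pullback.snd f g) q) (by
        rw [hψ, ← Points.ofPt_eq_map_ofScheme, ← Points.map_comp, ← sq.w, Points.map_comp, hφ,
          ← Points.map_ofPt]
        exact congrArg _ (Subsingleton.elim _ _))
    refine ⟨p, ?_⟩
    have hinj : Function.Injective (Points.map (pullback.snd f g)) :=
      univSp_of_isPullback sq (isUnivInjectiveMor_of_surjective_diagonal
        (surjective_diagonal_of_fieldInjective fun K _ str' a b e => (cancel_mono f).1 e))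
        (IsAlgSpace.yon_obj W) (𝟙 _) (𝟙 _) _ IsPullback.of_id_fst
    refine hinj ?_
    rw [← Points.map_comp, sq.lift_snd, hp₂]
  obtain ⟨h, hh⟩ := (yon S).map_surjective (a₀ ≫ f)
  have hflat : LocP @Flat f := locP_of_chart etLocal_flat ha₀ has₀ (repWith_id _ T)
    (h := h) (by rw [hh, Category.comp_id]) (flat_to_field h.left)
  refine isIso_of_qc_flat_surjective_mono hZ hY f hqc hflat fun y => ⟨z, ?_⟩
  have : Subsingleton ↥T.left := inferInstanceAs (Subsingleton (PrimeSpectrum k))
  exact (Points.schemeEquiv T).symm.subsingleton.elim _ _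

end Groth.L23
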