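import Groth.Agent.L23.FieldGalois
import Groth.Agent.L23.SourceReduced
import Groth.Agent.L23.QFMulti
import Groth.Agent.L23.Epi
import Groth.Prelude.Def_AlgSpDec
import Mathlib.AlgebraicGeometry.Sites.Fpqc

/-!
# Monomorphic representatives of points
-/

universe u

open CategoryTheory CategoryTheory.Limits AlgebraicGeometry Opposite AlgSp

set_option backward.isDefEq.respectTransparency.types false
set_option linter.style.haveILetI false

namespace Groth.L23.Pt

variable {S : Scheme.{u}}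

lemma finite_algHom (K A Ω : Type u) [Field K] [CommRing A] [Algebra K A] [Module.Finite K A] [Field Ω]
    [Algebra K Ω] : Finite (A →ₐ[K] Ω) := by
  classical
  let b := Module.finBasis K A
  refine Finite.of_injective (β := ∀ i, (minpoly K (b i)).rootSet Ω)
    (fun χ i => ⟨χ (b i), ?_⟩) fun χ χ' h => ?_
  · rw [Polynomial.mem_rootSet]
    exact ⟨minpoly.ne_zero (Algebra.IsIntegral.isIntegral _),
      by rw [Polynomial.aeval_algHom_apply, minpoly.aeval, map_zero]⟩
  · exact AlgHom.toLinearMap_injective (b.ext fun i => congr_arg Subtype.val (congr_fun h i))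

lemma exists_finite_separable_range {K A Ω : Type u} [Field K] [CommRing A] [Algebra K A] [Module.Finite K A]
    [Algebra.FormallyUnramified K A] [Field Ω] [Algebra K Ω] (χ : A →ₐ[K] Ω) :
    ∃ L : IntermediateField K Ω, FiniteDimensional K L ∧ Algebra.IsSeparable K L ∧ ∀ a, χ a ∈ L := by
  have : Module.Finite K χ.range :=
    Module.Finite.of_surjective χ.rangeRestrict.toLinearMap χ.rangeRestrict_surjective
  have hf : IsField χ.range :=
    isField_of_isIntegral_of_isField' (R := K) (S := χ.range) (Field.toIsField K)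
  let L : IntermediateField K Ω := Subalgebra.toIntermediateField' χ.range hf
  have hunr : Algebra.FormallyUnramified K χ.range :=
    Algebra.FormallyUnramified.of_surjective χ.rangeRestrict χ.rangeRestrict_surjective
  have h₁ : FiniteDimensional K L := inferInstanceAs (Module.Finite K χ.range)
  have h₂ : Algebra.FormallyUnramified K L := hunr
  exact ⟨L, h₁, (Algebra.FormallyUnramified.iff_isSeparable K L).1 h₂, fun a => ⟨a, rfl⟩⟩

set_option maxHeartbeats 1000000 in
/-- A finite etale kernel pair of a field-valued point descends it to a monomorphism. -/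
theorem exists_factor_of_finite_etale {X : Sp S} (hX : IsAlgSpace X) {K : Type u} [Field K]
    {w : Spec (CommRingCat.of K) ⟶ S} (q : (yon S).obj (Over.mk w) ⟶ X) {P : Over S} {p₀ p₁ : P ⟶ Over.mk w}
    (sq : IsPullback ((yon S).map p₀) ((yon S).map p₁) q q) (h₀ : IsFinite p₀.left) (h₀' : Etale p₀.left)
    (h₁ : IsFinite p₁.left) (h₁' : Etale p₁.left) (t : ↥(Spec (CommRingCat.of K))) :
    ∃ (k : Type u) (_ : Field k) (wk : Spec (CommRingCat.of k) ⟶ S) (πo : Over.mk w ⟶ Over.mk wk)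
      (p : (yon S).obj (Over.mk wk) ⟶ X), IsFinite πo.left ∧ Etale πo.left ∧ Surjective πo.left ∧ Mono p ∧
        (yon S).map πo ≫ p = q := by
  let Ω := AlgebraicClosure K
  let π₀ : P.left ⟶ Spec (CommRingCat.of K) := p₀.left
  let π₁ : P.left ⟶ Spec (CommRingCat.of K) := p₁.left
  have : IsFinite π₀ := h₀
  have : IsFinite π₁ := h₁
  have : Etale π₀ := h₀'
  have : Etale π₁ := h₁'
  have : IsAffine P.left := isAffine_of_isAffineHom π₀
  let A := Γ(P.left, ⊤)
  let e := P.left.isoSpec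
  obtain ⟨d₀, hd₀⟩ := Spec.map_surjective (e.inv ≫ π₀)
  obtain ⟨d₁, hd₁⟩ := Spec.map_surjective (e.inv ≫ π₁)
  have hd₁f : d₁.hom.Finite := (IsFinite.SpecMap_iff d₁).1 (hd₁ ▸ inferInstance)
  have hd₁e : d₁.hom.Etale := (HasRingHomProperty.Spec_iff (P := @Etale)).1 (hd₁ ▸ inferInstance)
  algebraize [d₁.hom]
  have hred : _root_.IsReduced A := by
    have := isReduced_of_etale π₁
    infer_instance
  -- points over two field points
  let Rel : (K →+* Ω) → (K →+* Ω) → Prop := fun φ ψ => ∃ z : Spec (CommRingCat.of Ω) ⟶ P.left,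
    z ≫ π₀ = Spec.map (CommRingCat.ofHom φ) ∧ z ≫ π₁ = Spec.map (CommRingCat.ofHom ψ)
  obtain ⟨δ, hδ₀, hδ₁⟩ := exists_lift_yon sq (𝟙 _) (𝟙 _) rfl
  obtain ⟨sw, hsw₀, hsw₁⟩ := exists_lift_yon sq p₁ p₀ sq.w.symm
  have sP2 := IsPullback.of_hasPullback p₁ p₀
  obtain ⟨m, hm₀, hm₁⟩ := exists_lift_yon sq (pullback.fst p₁ p₀ ≫ p₀) (pullback.snd p₁ p₀ ≫ p₁) (by
    rw [Functor.map_comp, Functor.map_comp, Category.assoc, Category.assoc, sq.w, ← Functor.map_comp_assoc,
      pullback.condition, Functor.map_comp_assoc, sq.w])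
  have hRel : _root_.Equivalence Rel := by
    refine ⟨fun φ => ⟨Spec.map (CommRingCat.ofHom φ) ≫ δ.left, ?_, ?_⟩, ?_, ?_⟩
    · rw [Category.assoc, show δ.left ≫ π₀ = 𝟙 _ from congr_arg CommaMorphism.left hδ₀]; exact Category.comp_id _
    · rw [Category.assoc, show δ.left ≫ π₁ = 𝟙 _ from congr_arg CommaMorphism.left hδ₁]; exact Category.comp_id _
    · rintro φ ψ ⟨z, hz₀, hz₁⟩
      refine ⟨z ≫ sw.left, ?_, ?_⟩
      · rw [Category.assoc, show sw.left ≫ π₀ = π₁ from congr_arg CommaMorphism.left hsw₀, hz₁]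
      · rw [Category.assoc, show sw.left ≫ π₁ = π₀ from congr_arg CommaMorphism.left hsw₁, hz₀]
    · rintro φ ψ χ ⟨z, hz₀, hz₁⟩ ⟨z', hz₀', hz₁'⟩
      obtain ⟨z₂, hz₂, hz₂'⟩ := (sP2.map (Over.forget S)).exists_lift z z' (hz₁.trans hz₀'.symm)
      refine ⟨z₂ ≫ m.left, ?_, ?_⟩
      · refine (Category.assoc _ _ _).trans ((congrArg (z₂ ≫ ·) (congr_arg CommaMorphism.left hm₀)).trans ?_)
        exact (Category.assoc _ _ _).symm.trans ((congrArg (· ≫ π₀) hz₂).trans hz₀)
      · refine (Category.assoc _ _ _).trans ((congrArg (z₂ ≫ ·) (congr_arg CommaMorphism.left hm₁)).trans ?_)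
        exact (Category.assoc _ _ _).symm.trans ((congrArg (· ≫ π₁) hz₂').trans hz₁')
  have hofA : ∀ (χ : (Γ(P.left, ⊤) : Type u) →+* Ω) φ ψ, χ.comp d₀.hom = φ → χ.comp d₁.hom = ψ → Rel φ ψ := by
    intro χ φ ψ h₀ h₁
    refine ⟨Spec.map (CommRingCat.ofHom χ) ≫ e.inv, ?_, ?_⟩
    · rw [Category.assoc, ← hd₀, ← Spec.map_comp, ← h₀]; rfl
    · rw [Category.assoc, ← hd₁, ← Spec.map_comp, ← h₁]; rfl
  have htoA : ∀ φ ψ, Rel φ ψ → ∃ χ : (Γ(P.left, ⊤) : Type u) →+* Ω, χ.comp d₀.hom = φ ∧ χ.comp d₁.hom = ψ := by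
    rintro φ ψ ⟨z, hz₀, hz₁⟩
    obtain ⟨c, hc⟩ := Spec.map_surjective (z ≫ e.hom)
    refine ⟨c.hom, ?_, ?_⟩
    · have : d₀ ≫ c = CommRingCat.ofHom φ := Spec.map_injective (by
        rw [Spec.map_comp, hc, hd₀, Category.assoc, e.hom_inv_id_assoc, hz₀])
      exact congr_arg CommRingCat.Hom.hom this
    · have : d₁ ≫ c = CommRingCat.ofHom ψ := Spec.map_injective (by
        rw [Spec.map_comp, hc, hd₁, Category.assoc, e.hom_inv_id_assoc, hz₁])
      exact congr_arg CommRingCat.Hom.hom this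
  have hnat : ∀ (σ : Ω →+* Ω) φ ψ, Rel φ ψ → Rel (σ.comp φ) (σ.comp ψ) := by
    rintro σ φ ψ ⟨z, hz₀, hz₁⟩
    refine ⟨Spec.map (CommRingCat.ofHom σ) ≫ z, ?_, ?_⟩
    · rw [Category.assoc, hz₀, ← Spec.map_comp]; rfl
    · rw [Category.assoc, hz₁, ← Spec.map_comp]; rfl
  let φ₀ : K →+* Ω := algebraMap K Ω
  have hfin : {φ | Rel φ φ₀}.Finite := by
    have := finite_algHom K A Ω
    refine (Set.finite_range fun χ : A →ₐ[K] Ω => χ.toRingHom.comp d₀.hom).subset fun φ hφ => ?_
    obtain ⟨χ, hχ₀, hχ₁⟩ := htoA φ φ₀ hφ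
    exact ⟨{ toRingHom := χ, commutes' := fun x => DFunLike.congr_fun hχ₁ x }, hχ₀⟩
  have hsep : ∀ φ, Rel φ φ₀ → ∃ L : IntermediateField K Ω, FiniteDimensional K L ∧ Algebra.IsSeparable K L ∧
      ∀ x, φ x ∈ L := fun φ hφ => by
    obtain ⟨χ, hχ₀, hχ₁⟩ := htoA φ φ₀ hφ
    obtain ⟨L, h₁, h₂, h₃⟩ := exists_finite_separable_range
      ({ toRingHom := χ, commutes' := fun x => DFunLike.congr_fun hχ₁ x } : A →ₐ[K] Ω)
    exact ⟨L, h₁, h₂, fun x => hχ₀ ▸ h₃ (d₀.hom x)⟩
  obtain ⟨k, _, i, hif, hie, hC, hsurj⟩ := Galois.exists_fixed Rel hRel hnat hfin hsep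
  let π : Spec (CommRingCat.of K) ⟶ Spec (CommRingCat.of k) := Spec.map (CommRingCat.ofHom i)
  have : IsFinite π := (IsFinite.SpecMap_iff _).2 hif
  have : Etale π := (HasRingHomProperty.Spec_iff (P := @Etale)).2 hie
  have : Surjective π := ⟨fun y => ⟨t, Subsingleton.elim (α := PrimeSpectrum k) _ _⟩⟩
  have hπ : π₀ ≫ π = π₁ ≫ π := by
    rw [← cancel_epi e.inv, ← Category.assoc, ← Category.assoc, ← hd₀, ← hd₁, ← Spec.map_comp, ← Spec.map_comp]
    congr 1
    ext x
    show d₀.hom (i x) = d₁.hom (i x)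
    rw [← sub_eq_zero]
    refine IsReduced.eq_zero _ (nilpotent_iff_mem_prime.2 fun J hJ => ?_)
    have : IsArtinianRing A := IsArtinianRing.of_finite K A
    have : J.IsMaximal := IsArtinianRing.isMaximal_of_isPrime J
    letI : Field (A ⧸ J) := Ideal.Quotient.field J
    let χ : A →ₐ[K] Ω := (IsAlgClosed.lift : (A ⧸ J) →ₐ[K] Ω).comp (Ideal.Quotient.mkₐ K J)
    have hχ₁ : χ.toRingHom.comp d₁.hom = φ₀ := χ.comp_algebraMap
    have := DFunLike.congr_fun (hC _ (hofA χ.toRingHom _ _ rfl hχ₁)) x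
    rw [← Ideal.Quotient.eq_zero_iff_mem]
    refine (IsAlgClosed.lift : (A ⧸ J) →ₐ[K] Ω).toRingHom.injective ?_
    rw [map_zero]
    show χ (d₀.hom (i x) - d₁.hom (i x)) = 0
    rw [map_sub, sub_eq_zero]
    exact this.trans (DFunLike.congr_fun hχ₁ (i x)).symm
  let Rk := pullback π π
  let j : P.left ⟶ Rk := pullback.lift π₀ π₁ hπ
  have : Mono j := ⟨fun {Z} a b hab => by
    have ha₀ : a ≫ π₀ = b ≫ π₀ := by
      have h := hab =≫ pullback.fst π π
      simp only [Category.assoc, j, pullback.lift_fst] at h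
      exact h
    have ha₁ : a ≫ π₁ = b ≫ π₁ := by
      have h := hab =≫ pullback.snd π π
      simp only [Category.assoc, j, pullback.lift_snd] at h
      exact h
    have hab' : a ≫ P.hom = b ≫ P.hom := by rw [← Over.w p₀]; exact (Category.assoc _ _ _).symm.trans ((congrArg (· ≫ w) ha₀).trans (Category.assoc _ _ _))
    let a' : Over.mk (a ≫ P.hom) ⟶ P := Over.homMk a
    let b' : Over.mk (a ≫ P.hom) ⟶ P := Over.homMk b hab'.symm
    have : a' = b' := (yon S).map_injective (sq.hom_ext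
      (by rw [← Functor.map_comp, ← Functor.map_comp]; exact congr_arg _ (Over.OverMorphism.ext ha₀))
      (by rw [← Functor.map_comp, ← Functor.map_comp]; exact congr_arg _ (Over.OverMorphism.ext ha₁)))
    exact congr_arg CommaMorphism.left this⟩
  have : Etale (j ≫ pullback.fst π π) := by rw [pullback.lift_fst]; infer_instance
  have : Etale j := Etale.of_comp j (pullback.fst π π)
  have : Surjective j := ⟨fun ρ => by
    let s₀ : Spec (CommRingCat.of Ω) ⟶ Spec (CommRingCat.of K) := Spec.map (CommRingCat.ofHom φ₀)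
    obtain ⟨ε, hε, -⟩ := Scheme.Pullback.exists_preimage_pullback (f := pullback.snd π π) (g := s₀) ρ
      (IsLocalRing.closedPoint Ω) (Subsingleton.elim (α := PrimeSpectrum K) _ _)
    let E := pullback (pullback.snd π π) s₀
    let q' : E ⟶ Spec (CommRingCat.of Ω) := pullback.snd _ _
    have : IsFinite q' := MorphismProperty.pullback_snd _ _ (MorphismProperty.pullback_snd _ _ ‹IsFinite π›)
    have hcl := QFL.isClosed_singleton_of_qf q' (u := ε) ⟨⊤, trivial, inferInstance, inferInstance⟩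
    let z := pointOfClosedPoint q' ε hcl ≫ pullback.fst _ _
    obtain ⟨ψ', hψ'⟩ := Spec.map_surjective (z ≫ pullback.fst π π)
    have hz₁ : z ≫ pullback.snd π π = s₀ := by
      rw [Category.assoc, pullback.condition, pointOfClosedPoint_comp_assoc]
    have hψ : ψ'.hom.comp i = φ₀.comp i := by
      have : CommRingCat.ofHom i ≫ ψ' = CommRingCat.ofHom i ≫ CommRingCat.ofHom φ₀ := Spec.map_injective (by
        rw [Spec.map_comp, Spec.map_comp, hψ', Category.assoc, pullback.condition, reassoc_of% hz₁])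
      exact congr_arg CommRingCat.Hom.hom this
    obtain ⟨z', hz₀', hz₁'⟩ := hsurj ψ'.hom hψ
    have hzz : z' ≫ j = z := pullback.hom_ext
      (by rw [Category.assoc, pullback.lift_fst, hz₀', ← hψ']; rfl)
      (by rw [Category.assoc, pullback.lift_snd, hz₁', hz₁])
    refine ⟨z' (IsLocalRing.closedPoint Ω), ?_⟩
    rw [← Scheme.Hom.comp_apply, hzz, Scheme.Hom.comp_apply, pointOfClosedPoint_apply, hε]⟩
  have : IsOpenImmersion j := IsOpenImmersion.of_flat_of_mono j
  have : IsIso j := by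
    have : Epi j.base := (TopCat.epi_iff_surjective _).2 j.surjective
    exact IsOpenImmersion.isIso j
  have sk : IsPullback π₀ π₁ π π := by
    refine (IsPullback.of_hasPullback π π).of_iso (asIso j).symm (Iso.refl _) (Iso.refl _) (Iso.refl _) ?_ ?_
      (by simp) (by simp)
    · show pullback.fst π π ≫ 𝟙 _ = inv j ≫ π₀
      rw [Category.comp_id, IsIso.eq_inv_comp, pullback.lift_fst]
    · show pullback.snd π π ≫ 𝟙 _ = inv j ≫ π₁
      rw [Category.comp_id, IsIso.eq_inv_comp, pullback.lift_snd]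
  have hw : ∀ {Z : Scheme.{u}} (a b : Z ⟶ Spec (CommRingCat.of K)), a ≫ π = b ≫ π → a ≫ w = b ≫ w := by
    intro Z a b hab
    obtain ⟨l, hl₀, hl₁⟩ := sk.exists_lift a b hab
    rw [← hl₀, ← hl₁, Category.assoc, Category.assoc]
    exact congr_arg (l ≫ ·) ((Over.w p₀).trans (Over.w p₁).symm)
  obtain ⟨wk, hwk⟩ : ∃ wk : Spec (CommRingCat.of k) ⟶ S, π ≫ wk = w :=
    ⟨EffectiveEpi.desc π w fun a b hab => hw a b hab, EffectiveEpi.fac π w _⟩
  let πo : Over.mk w ⟶ Over.mk wk := Over.homMk π hwk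
  have sko : IsPullback p₀ p₁ πo πo := IsPullback.of_map (Over.forget S) (Over.OverMorphism.ext hπ) sk
  have sky := sko.map (yon S)
  have hπe : RepWith @Etale ((yon S).map πo) := repWith_map (show Etale π from inferInstance)
  have hπs : RepWith @Surjective ((yon S).map πo) := repWith_map (show Surjective π from inferInstance)
  have := epi_of_repWith _ hπe hπs
  obtain ⟨hc⟩ := nonempty_isColimit_cofork _ sky
  let p₁' := hc.desc (Cofork.ofπ q sq.w)
  have hp : (yon S).map πo ≫ p₁' = q := hc.fac (Cofork.ofπ q sq.w) WalkingParallelPair.one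
  have hmono : Mono p₁' := mono_of_yon fun T a b hab => by
    have hA := hπe.1.isPullback a
    have := epi_of_repWith _ (repWith_of_isPullback hA hπe) (repWith_of_isPullback hA hπs)
    rw [← cancel_epi ((yon S).map (hπe.1.snd a))]
    have hB := hπe.1.isPullback ((yon S).map (hπe.1.snd a) ≫ b)
    have := epi_of_repWith _ (repWith_of_isPullback hB hπe) (repWith_of_isPullback hB hπs)
    rw [← cancel_epi ((yon S).map (hπe.1.snd ((yon S).map (hπe.1.snd a) ≫ b)))]
    obtain ⟨l, hl₀, hl₁⟩ := sq.exists_lift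
      ((yon S).map (hπe.1.snd ((yon S).map (hπe.1.snd a) ≫ b)) ≫ hπe.1.fst a)
      (hπe.1.fst ((yon S).map (hπe.1.snd a) ≫ b)) (by
        rw [← hp, Category.assoc, reassoc_of% hA.w, reassoc_of% hB.w, hab])
    rw [← hA.w, ← hB.w, ← reassoc_of% hl₀, ← reassoc_of% hl₁, sky.w]
  exact ⟨k, inferInstance, wk, πo, p₁', ‹IsFinite π›, ‹Etale π›, ‹Surjective π›, hmono, hp⟩

/-- A finite etale kernel pair of a field-valued point gives a monomorphic representative. -/
theorem exists_mono_of_finite_etale {X : Sp S} (hX : IsAlgSpace X) {K : Type u} [Field K]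
    {w : Spec (CommRingCat.of K) ⟶ S} (q : (yon S).obj (Over.mk w) ⟶ X) {P : Over S} {p₀ p₁ : P ⟶ Over.mk w}
    (sq : IsPullback ((yon S).map p₀) ((yon S).map p₁) q q) (h₀ : IsFinite p₀.left) (h₀' : Etale p₀.left)
    (h₁ : IsFinite p₁.left) (h₁' : Etale p₁.left) (t : ↥(Spec (CommRingCat.of K))) :
    ∃ p : FieldPt X, Points.mk p = Points.ofPt q t ∧ Mono p.toHom := by
  obtain ⟨k, _, wk, πo, p₁', -, -, -, hmono, hp⟩ := exists_factor_of_finite_etale hX q sq h₀ h₀' h₁ h₁' t
  let fp : FieldPt X := ⟨k, wk, (J S).uliftYonedaEquiv p₁'⟩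
  have hfp : fp.toHom = p₁' := Equiv.symm_apply_apply _ _
  exact ⟨fp, by rw [← Points.ofPt_toHom fp (πo.left t), hfp, ← hp, ofPt_comp], hfp ▸ hmono⟩

end Groth.L23.Pt
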