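import Groth.Prelude.Def_AlgSpRep
import Mathlib.CategoryTheory.Filtered.Final
import Mathlib.CategoryTheory.Limits.Types.Filtered
import Mathlib.CategoryTheory.Limits.Types.Pullbacks

/-!
# Relatively limit preserving maps of presheaves
-/

universe u

open CategoryTheory CategoryTheory.Limits AlgebraicGeometry Opposite AlgSp

set_option backward.isDefEq.respectTransparency.types false
set_option linter.style.haveILetI false

namespace Groth.L23.RLim

variable {S : Scheme.{u}} {F G H : PSp S}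

/-- Sections over the limit descend to a stage. -/
def Lifts (a : F ⟶ G) : Prop :=
  ∀ ⦃I : Type u⦄ [SmallCategory I] [IsCofiltered I] (D : I ⥤ Over S) (c : Cone D),
    IsLimit ((Over.forget S).mapCone c) → (∀ i, IsAffine (D.obj i).left) → IsAffine c.pt.left →
    ∀ (i : I) (g : G.obj (op (D.obj i))) (x : F.obj (op c.pt)), a.app _ x = G.map (c.π.app i).op g →
      ∃ (j : I) (t : j ⟶ i) (xj : F.obj (op (D.obj j))), a.app _ xj = G.map (D.map t).op g ∧
        F.map (c.π.app j).op xj = x

/-- Equality over the limit holds at a stage. -/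
def Seps (a : F ⟶ G) : Prop :=
  ∀ ⦃I : Type u⦄ [SmallCategory I] [IsCofiltered I] (D : I ⥤ Over S) (c : Cone D),
    IsLimit ((Over.forget S).mapCone c) → (∀ i, IsAffine (D.obj i).left) → IsAffine c.pt.left →
    ∀ (i : I) (x x' : F.obj (op (D.obj i))), a.app _ x = a.app _ x' →
      F.map (c.π.app i).op x = F.map (c.π.app i).op x' →
      ∃ (j : I) (t : j ⟶ i), F.map (D.map t).op x = F.map (D.map t).op x'

lemma map₂ (P : PSp S) {A B C : Over S} (f : A ⟶ B) (g : B ⟶ C) {k : A ⟶ C} (e : f ≫ g = k)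
    (x : P.obj (op C)) : P.map f.op (P.map g.op x) = P.map k.op x := by
  subst e; simp [Functor.map_comp_apply, op_comp]

lemma nat (a : F ⟶ G) {A B : Over S} (f : A ⟶ B) (x : F.obj (op B)) :
    a.app _ (F.map f.op x) = G.map f.op (a.app _ x) := NatTrans.naturality_apply a f.op x

theorem of_isRelLimitPreserving {a : F ⟶ G} (h : IsRelLimitPreserving a) : Lifts a ∧ Seps a := by
  have key : ∀ ⦃I : Type u⦄ [SmallCategory I] [IsCofiltered I] (D : I ⥤ Over S) (c : Cone D),
      IsLimit ((Over.forget S).mapCone c) → (∀ i, IsAffine (D.obj i).left) → IsAffine c.pt.left →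
      ∀ (i : I) (g : G.obj (op (D.obj i))),
        (∀ x : F.obj (op c.pt), a.app _ x = G.map (c.π.app i).op g →
          ∃ (j : I) (t : j ⟶ i) (xj : F.obj (op (D.obj j))), a.app _ xj = G.map (D.map t).op g ∧
            F.map (c.π.app j).op xj = x) ∧
        (∀ x x' : F.obj (op (D.obj i)), a.app _ x = g → a.app _ x' = g →
          F.map (c.π.app i).op x = F.map (c.π.app i).op x' →
          ∃ (j : I) (t : j ⟶ i), F.map (D.map t).op x = F.map (D.map t).op x') := by
    intro I _ _ D c hc hD hpt i g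
    let T := D.obj i
    let D' : Over i ⥤ Over T.left :=
      { obj := fun u => Over.mk (D.map u.hom).left
        map := fun {u v} f => Over.homMk (D.map f.left).left (by
          show (D.map f.left).left ≫ (D.map v.hom).left = (D.map u.hom).left
          rw [← Over.comp_left, ← D.map_comp, Over.w f])
        map_id := fun u => by ext; simp
        map_comp := fun f g => by ext; simp }
    let c' : Cone D' :=
      { pt := Over.mk (c.π.app i).left
        π :=
          { app := fun u => Over.homMk (c.π.app u.left).left (by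
              show (c.π.app u.left).left ≫ (D.map u.hom).left = (c.π.app i).left
              rw [← Over.comp_left, c.w])
            naturality := fun u v f => by
              ext
              show 𝟙 _ ≫ (c.π.app v.left).left = (c.π.app u.left).left ≫ (D.map f.left).left
              rw [← Over.comp_left, c.w, Category.id_comp] } }
    have hc' : IsLimit ((Over.forget T.left).mapCone c') :=
      (Functor.Initial.isLimitWhiskerEquiv (Over.forget i) _).symm hc
    obtain ⟨hcol⟩ := h T g D' c' hc' (fun u => hD u.left) hpt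
    let e : ∀ u : Over i, (Over.map T.hom).obj (D'.obj u) ⟶ D.obj u.left := fun u =>
      Over.homMk (𝟙 _) (by
        show 𝟙 _ ≫ (D.obj u.left).hom = (D.map u.hom).left ≫ (D.obj i).hom
        rw [Over.w (D.map u.hom), Category.id_comp])
    let e' : ∀ u : Over i, D.obj u.left ⟶ (Over.map T.hom).obj (D'.obj u) := fun u =>
      Over.homMk (𝟙 _) (by
        show 𝟙 _ ≫ (D.map u.hom).left ≫ (D.obj i).hom = (D.obj u.left).hom
        rw [Over.w (D.map u.hom), Category.id_comp])
    let ep : (Over.map T.hom).obj c'.pt ⟶ c.pt := Over.homMk (𝟙 _) (by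
      show 𝟙 _ ≫ c.pt.hom = (c.π.app i).left ≫ (D.obj i).hom
      rw [Category.id_comp]
      exact (Over.w (c.π.app i)).symm)
    let ep' : c.pt ⟶ (Over.map T.hom).obj c'.pt := Over.homMk (𝟙 _) (by
      show 𝟙 _ ≫ (c.π.app i).left ≫ (D.obj i).hom = c.pt.hom
      rw [Category.id_comp]
      exact Over.w (c.π.app i))
    constructor
    · intro x hx
      let x' : (fiberFun a T g).obj (op c'.pt) := ⟨F.map ep.op x, by
        rw [nat, hx]
        exact map₂ G _ _ (by ext; simp [ep, c']) g⟩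
      obtain ⟨u, z, hz⟩ := Types.jointly_surjective _ hcol x'
      refine ⟨u.unop.left, u.unop.hom, F.map (e' u.unop).op z.1, ?_, ?_⟩
      · rw [nat]
        refine (congrArg _ z.2).trans ?_
        exact map₂ G _ _ (by ext; simp [e', D']) g
      · have hz' : F.map ((Over.map T.hom).map (c'.π.app u.unop)).op z.1 = F.map ep.op x := congrArg Subtype.val hz
        rw [map₂ F _ _ (show c.π.app u.unop.left ≫ e' u.unop = ep' ≫ (Over.map T.hom).map (c'.π.app u.unop) by
          ext; simp [e', ep', c']) z.1]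
        rw [← map₂ F ep' _ rfl z.1, hz', map₂ F _ _ (show ep' ≫ ep = 𝟙 _ by ext; simp [ep, ep']) x]
        simp
    · intro x x' hx hx' hp
      let u : Over i := Over.mk (𝟙 i)
      have hu : e u ≫ 𝟙 _ = overHom T (D'.obj u) := by ext; simp [e, D', u]
      let z : ∀ x : F.obj (op (D.obj i)), a.app _ x = g → (fiberFun a T g).obj (op (D'.obj u)) := fun x hx =>
        ⟨F.map (e u).op x, by rw [nat, ← hu, Category.comp_id]; exact congrArg _ hx⟩
      have heq : (c'.op.ι.app (op u)) = (c'.π.app u).op := rfl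
      obtain ⟨k, f, f', hk⟩ := (Types.FilteredColimit.isColimit_eq_iff _ hcol
        (xi := z x hx) (xj := z x' hx')).1 (Subtype.ext (by
          show F.map ((Over.map T.hom).map (c'.π.app u)).op (F.map (e u).op x) =
            F.map ((Over.map T.hom).map (c'.π.app u)).op (F.map (e u).op x')
          rw [map₂ F _ _ (show (Over.map T.hom).map (c'.π.app u) ≫ e u = ep ≫ c.π.app i by
              ext; simp [e, ep, c', u]) x,
            map₂ F _ _ (show (Over.map T.hom).map (c'.π.app u) ≫ e u = ep ≫ c.π.app i by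
              ext; simp [e, ep, c', u]) x', ← map₂ F ep _ rfl x, ← map₂ F ep _ rfl x', hp]))
      have hf : ∀ f : op u ⟶ k, f.unop.left = k.unop.hom := fun f => by simpa [u] using Over.w f.unop
      refine ⟨k.unop.left, k.unop.hom, ?_⟩
      have hk' : F.map ((Over.map T.hom).map (D'.map f.unop)).op (F.map (e u).op x) =
          F.map ((Over.map T.hom).map (D'.map f'.unop)).op (F.map (e u).op x') := congrArg Subtype.val hk
      rw [← map₂ F (e' k.unop) _ (show e' k.unop ≫ (Over.map T.hom).map (D'.map f.unop) ≫ e u = D.map k.unop.hom by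
          ext; simp [e, e', D', u, hf f]) x,
        ← map₂ F (e' k.unop) _ (show e' k.unop ≫ (Over.map T.hom).map (D'.map f'.unop) ≫ e u = D.map k.unop.hom by
          ext; simp [e, e', D', u, hf f']) x',
        ← map₂ F ((Over.map T.hom).map (D'.map f.unop)) _ rfl x,
        ← map₂ F ((Over.map T.hom).map (D'.map f'.unop)) _ rfl x', hk']
  exact ⟨fun I _ _ D c hc hD hpt i g x hx => (key D c hc hD hpt i g).1 x hx,
    fun I _ _ D c hc hD hpt i x x' hx hp => (key D c hc hD hpt i _).2 x x' hx rfl hp⟩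

theorem isRelLimitPreserving_of {a : F ⟶ G} (hl : Lifts a) (hs : Seps a) : IsRelLimitPreserving a := by
  intro T y I _ _ D c hc hD hpt
  let D₀ : I ⥤ Over S := D ⋙ Over.map T.hom
  let c₀ : Cone D₀ := (Over.map T.hom).mapCone c
  have hc₀ : IsLimit ((Over.forget S).mapCone c₀) := hc
  refine ⟨Types.FilteredColimit.isColimitOf' _ _ ?_ ?_⟩
  · rintro ⟨x, hx⟩
    obtain ⟨i⟩ := IsCofiltered.nonempty (C := I)
    obtain ⟨j, t, xj, h₁, h₂⟩ := hl D₀ c₀ hc₀ hD hpt i (G.map (overHom T (D.obj i)).op y) x (by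
      refine hx.trans ?_
      exact (map₂ G (c₀.π.app i) (overHom T (D.obj i)) (by ext; simp [c₀]) y).symm)
    refine ⟨op j, ⟨xj, ?_⟩, Subtype.ext h₂.symm⟩
    refine h₁.trans ?_
    exact map₂ G (D₀.map t) (overHom T (D.obj i)) (by ext; simp [D₀]) y
  · rintro ⟨i⟩ ⟨x, hx⟩ ⟨x', hx'⟩ e
    obtain ⟨j, t, h⟩ := hs D₀ c₀ hc₀ hD hpt i x x' (hx.trans hx'.symm) (congrArg Subtype.val e)
    exact ⟨op j, t.op, Subtype.ext h⟩

theorem comp {a : F ⟶ G} {b : G ⟶ H} (ha : IsRelLimitPreserving a) (hb : IsRelLimitPreserving b) :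
    IsRelLimitPreserving (a ≫ b) := by
  obtain ⟨al, as⟩ := of_isRelLimitPreserving ha
  obtain ⟨bl, bs⟩ := of_isRelLimitPreserving hb
  refine isRelLimitPreserving_of ?_ ?_
  · intro I _ _ D c hc hD hpt i g x hx
    obtain ⟨j, t, gj, h₁, h₂⟩ := bl D c hc hD hpt i g (a.app _ x) hx
    obtain ⟨k, s, xk, h₃, h₄⟩ := al D c hc hD hpt j gj x h₂.symm
    refine ⟨k, s ≫ t, xk, ?_, h₄⟩
    show b.app _ (a.app _ xk) = _
    rw [h₃, nat, h₁]
    exact map₂ H _ _ (D.map_comp _ _).symm g
  · intro I _ _ D c hc hD hpt i x x' hx hp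
    obtain ⟨j, t, h⟩ := bs D c hc hD hpt i (a.app _ x) (a.app _ x') hx (by rw [← nat, ← nat, hp])
    obtain ⟨k, s, h'⟩ := as D c hc hD hpt j (F.map (D.map t).op x) (F.map (D.map t).op x')
      (by rw [nat, nat, h]) (by rw [map₂ F _ _ (c.w t), map₂ F _ _ (c.w t), hp])
    refine ⟨k, s ≫ t, ?_⟩
    rwa [map₂ F _ _ (D.map_comp _ _).symm, map₂ F _ _ (D.map_comp _ _).symm] at h'

theorem of_comp {a : F ⟶ G} {b : G ⟶ H} (hab : IsRelLimitPreserving (a ≫ b)) (hb : IsRelLimitPreserving b) :
    IsRelLimitPreserving a := by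
  obtain ⟨abl, abs⟩ := of_isRelLimitPreserving hab
  obtain ⟨-, bs⟩ := of_isRelLimitPreserving hb
  refine isRelLimitPreserving_of ?_ ?_
  · intro I _ _ D c hc hD hpt i g x hx
    obtain ⟨j, t, xj, h₁, h₂⟩ := abl D c hc hD hpt i (b.app _ g) x (by
      show b.app _ (a.app _ x) = _
      rw [hx, nat])
    obtain ⟨k, s, h⟩ := bs D c hc hD hpt j (a.app _ xj) (G.map (D.map t).op g)
      (h₁.trans (nat b (D.map t) g).symm) (by
        rw [← nat, h₂]
        exact hx.trans (map₂ G _ _ (c.w t) g).symm)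
    refine ⟨k, s ≫ t, F.map (D.map s).op xj, ?_, ?_⟩
    · rw [nat, h]
      exact map₂ G _ _ (D.map_comp _ _).symm g
    · rw [map₂ F _ _ (c.w s), h₂]
  · intro I _ _ D c hc hD hpt i x x' hx hp
    exact abs D c hc hD hpt i x x' (congrArg (b.app _) hx) hp

theorem pullback_to_base {E P : PSp S} {a : F ⟶ G} {b : H ⟶ G} {c : G ⟶ E} {fst : P ⟶ F} {snd : P ⟶ H}
    (hP : IsPullback fst snd a b) (hc : IsRelLimitPreserving c) (hac : IsRelLimitPreserving (a ≫ c))
    (hbc : IsRelLimitPreserving (b ≫ c)) : IsRelLimitPreserving (fst ≫ a ≫ c) := by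
  obtain ⟨acl, acs⟩ := of_isRelLimitPreserving hac
  obtain ⟨bcl, bcs⟩ := of_isRelLimitPreserving hbc
  obtain ⟨-, cs⟩ := of_isRelLimitPreserving hc
  have hw : ∀ (T) (p : P.obj T), a.app _ (fst.app _ p) = b.app _ (snd.app _ p) := fun T p =>
    ConcreteCategory.congr_hom (NatTrans.congr_app hP.w T) p
  have hev : ∀ T, IsPullback (fst.app T) (snd.app T) (a.app T) (b.app T) := fun T =>
    hP.map ((evaluation _ _).obj T)
  refine isRelLimitPreserving_of ?_ ?_
  · intro I _ _ D k hk hD hpt i g x hx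
    obtain ⟨j, t, fj, h₁, h₂⟩ := acl D k hk hD hpt i g (fst.app _ x) hx
    obtain ⟨l, s, sl, h₃, h₄⟩ := bcl D k hk hD hpt j (E.map (D.map t).op g) (snd.app _ x) (by
      show c.app _ (b.app _ (snd.app _ x)) = _
      rw [← hw, map₂ E _ _ (k.w t)]
      exact hx)
    obtain ⟨m, r, hm⟩ := cs D k hk hD hpt l (a.app _ (F.map (D.map s).op fj)) (b.app _ sl) (by
        refine Eq.trans ?_ h₃.symm
        show c.app _ (a.app _ (F.map (D.map s).op fj)) = _
        rw [nat, nat]
        exact congrArg _ h₁) (by rw [← nat, ← nat, map₂ F _ _ (k.w s), h₂, h₄]; exact hw _ x)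
    obtain ⟨pm, hp₁, hp₂⟩ := Types.exists_of_isPullback (hev _)
      (F.map (D.map r).op (F.map (D.map s).op fj)) (H.map (D.map r).op sl) (by rw [nat, nat b, hm])
    refine ⟨m, r ≫ s ≫ t, pm, ?_, ?_⟩
    · show c.app _ (a.app _ (fst.app _ pm)) = _
      rw [hp₁, map₂ F _ _ (D.map_comp r s).symm, nat, nat]
      refine (congrArg _ h₁).trans ?_
      exact map₂ E _ _ (by rw [← D.map_comp, Category.assoc]) g
    · refine Types.ext_of_isPullback (hev _) ?_ ?_
      · rw [nat, hp₁, map₂ F _ _ (k.w r), map₂ F _ _ (k.w s), h₂]; rfl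
      · rw [nat, hp₂, map₂ H _ _ (k.w r), h₄]; rfl
  · intro I _ _ D k hk hD hpt i x x' hx hp
    have hx₁ : c.app _ (a.app _ (fst.app _ x)) = c.app _ (a.app _ (fst.app _ x')) := hx
    obtain ⟨j, t, h⟩ := acs D k hk hD hpt i (fst.app _ x) (fst.app _ x') hx₁ (by rw [← nat, ← nat, hp])
    obtain ⟨l, s, h'⟩ := bcs D k hk hD hpt j (H.map (D.map t).op (snd.app _ x)) (H.map (D.map t).op (snd.app _ x'))
      (by
        show c.app _ (b.app _ _) = c.app _ (b.app _ _)
        rw [nat b, nat b, ← hw, ← hw, nat c, nat c, hx₁])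
      (by rw [map₂ H _ _ (k.w t), map₂ H _ _ (k.w t), ← nat, ← nat, hp])
    refine ⟨l, s ≫ t, Types.ext_of_isPullback (hev _) ?_ ?_⟩
    · rw [nat, nat, ← map₂ F _ _ (D.map_comp _ _).symm, ← map₂ F _ _ (D.map_comp _ _).symm, h]
    · rw [nat, nat]
      rwa [map₂ H _ _ (D.map_comp _ _).symm, map₂ H _ _ (D.map_comp _ _).symm] at h'

end Groth.L23.RLim
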