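import Groth.Agent.S12442
import Groth.Agent.L23.LocP
import Groth.Agent.L23.MorCalc
import Groth.Agent.L23.Epi
import Groth.Agent.L23.FieldMono
import Groth.Agent.L23.OpenSub
import Groth.Agent.L23.QFDescent
import Mathlib.AlgebraicGeometry.Morphisms.FlatMono

/-!
# Unramified morphisms, universally injective morphisms and etale monomorphisms
-/

universe u

open CategoryTheory CategoryTheory.Limits AlgebraicGeometry AlgSp

set_option backward.isDefEq.respectTransparency.types false

namespace Groth.L23

variable {S : Scheme.{u}} {X Y : Sp S}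

theorem locP_lfp_diagonal_of_lft (hX : IsAlgSpace X) (hY : IsAlgSpace Y)
    {f : X ⟶ Y} (hf : LocP @LocallyOfFiniteType f) :
    LocP @LocallyOfFinitePresentation (pullback.diagonal f) := by
  obtain ⟨U, V, a, b, h, ha, has, hb, hbs, w⟩ := exists_chart hX hY f
  have : LocallyOfFiniteType h.left := hf a b h ha hb w
  let δ : U ⟶ pullback h h := pullback.diagonal h
  have hδ : LocallyOfFinitePresentation δ.left := by
    have sq : IsPullback ((pullback.fst h h).left) ((pullback.snd h h).left) h.left h.left :=
      (IsPullback.of_hasPullback h h).map (Over.forget S)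
    have e : δ.left ≫ sq.isoPullback.hom = pullback.diagonal h.left := by
      apply pullback.hom_ext <;> simp [δ, ← Over.comp_left]
    have : LocallyOfFinitePresentation (pullback.diagonal h.left ≫ pullback.fst h.left h.left) := by
      rw [pullback.diagonal_fst]; infer_instance
    exact (MorphismProperty.cancel_right_of_respectsIso (P := @LocallyOfFinitePresentation) δ.left
      sq.isoPullback.hom).1
        (e ▸ Groth.Agent.S12442.result (pullback.diagonal h.left) (pullback.fst h.left h.left))
  let p : (yon S).obj (pullback h h) ⟶ pullback f f :=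
    pullback.lift ((yon S).map (pullback.fst h h) ≫ a) ((yon S).map (pullback.snd h h) ≫ a) (by
      simp only [Category.assoc, w, ← Functor.map_comp_assoc, pullback.condition])
  have hp : RepWith @Etale p := by
    let W := (yon S).obj V
    let P := pullback ((yon S).map h) ((yon S).map h)
    let c := pullback.map ((yon S).map h) ((yon S).map h) ((yon S).map h ≫ b) ((yon S).map h ≫ b)
      (𝟙 _) (𝟙 _) b (by simp) (by simp)
    have hc : RepWith @Etale c := by
      have hbd : RepWith @IsOpenImmersion (pullback.diagonal b) :=
        (diagonal_repWith_iff hb.1).2 (repWith_mono (fun g (_ : Etale g) =>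
          show IsOpenImmersion (pullback.diagonal g) from inferInstance) hb)
      exact repWith_mono (P := @IsOpenImmersion) (Q := @Etale) (fun g (_ : IsOpenImmersion g) => inferInstance)
        (repWith_of_isPullback (pullback_map_diagonal_isPullback ((yon S).map h) ((yon S).map h) b) hbd)
    let aa : pullback (a ≫ f) (a ≫ f) ⟶ pullback f f :=
      pullback.map (a ≫ f) (a ≫ f) f f a a (𝟙 Y) (by simp) (by simp)
    have haa : RepWith @Etale aa := by
      let a₁ : pullback (a ≫ f) (a ≫ f) ⟶ pullback f (a ≫ f) :=
        pullback.map _ _ _ _ a (𝟙 _) (𝟙 Y) (by simp) (by simp)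
      let a₂ : pullback f (a ≫ f) ⟶ pullback f f :=
        pullback.map _ _ _ _ (𝟙 _) a (𝟙 Y) (by simp) (by simp)
      have e : a₁ ≫ a₂ = aa := by apply pullback.hom_ext <;> simp [pullback.map, pullback.lift_fst, pullback.lift_snd, pullback.lift_fst_assoc, pullback.lift_snd_assoc, a₁, a₂, aa]
      have s₁ : IsPullback (pullback.fst (a ≫ f) (a ≫ f)) a₁ a (pullback.fst f (a ≫ f)) := by
        refine IsPullback.of_bot ?_ (by simp [pullback.map, pullback.lift_fst, pullback.lift_snd, pullback.lift_fst_assoc, pullback.lift_snd_assoc, a₁]) (IsPullback.of_hasPullback f (a ≫ f))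
        simpa [pullback.map, pullback.lift_fst, pullback.lift_snd, pullback.lift_fst_assoc, pullback.lift_snd_assoc, a₁] using IsPullback.of_hasPullback (a ≫ f) (a ≫ f)
      have s₂ : IsPullback (pullback.snd f (a ≫ f)) a₂ a (pullback.snd f f) := by
        refine IsPullback.of_bot ?_ (by simp [pullback.map, pullback.lift_fst, pullback.lift_snd, pullback.lift_fst_assoc, pullback.lift_snd_assoc, a₂]) (IsPullback.of_hasPullback f f).flip
        simpa [pullback.map, pullback.lift_fst, pullback.lift_snd, pullback.lift_fst_assoc, pullback.lift_snd_assoc, a₂] using (IsPullback.of_hasPullback f (a ≫ f)).flip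
      rw [← e]
      exact repWith_comp (repWith_of_isPullback s₁ ha) (repWith_of_isPullback s₂ ha)
    let eq₀ : pullback ((yon S).map h ≫ b) ((yon S).map h ≫ b) ≅ pullback (a ≫ f) (a ≫ f) :=
      pullback.congrHom w.symm w.symm
    let eY : (yon S).obj (pullback h h) ≅ P :=
      ((IsPullback.of_hasPullback h h).map (yon S)).isoPullback
    have e : eY.hom ≫ c ≫ eq₀.hom ≫ aa = p := by
      apply pullback.hom_ext <;> simp [pullback.map, pullback.lift_fst, pullback.lift_snd, pullback.lift_fst_assoc, pullback.lift_snd_assoc, c, eq₀, aa, p, eY]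
    rw [← e]
    exact repWith_comp (repWith_of_isIso _) (repWith_comp hc (repWith_comp (repWith_of_isIso _) haa))
  have hδp : a ≫ pullback.diagonal f = (yon S).map δ ≫ p := by
    apply pullback.hom_ext <;> simp [δ, p, pullback.lift_fst, pullback.lift_snd, pullback.diagonal, ← Functor.map_comp_assoc]
  exact locP_of_chart etLocal_lfp ha has hp hδp hδ

theorem isQuasiSeparatedMor_diagonal (hX : IsAlgSpace X) (f : X ⟶ Y) :
    IsQuasiSeparatedMor (pullback.diagonal f) :=
  (isQuasiSeparatedMor_iff (diagonal_properties hX f).1).2
    (repWith_mono (fun g hg => have := diagProp_isSeparated g hg; inferInstanceAs (QuasiSeparated g))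
      (diagonal_properties hX f))

end Groth.L23
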