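import Groth.Agent.L23.LqfRep
import Groth.Agent.L23.AffineMor
import Groth.Agent.L23.ImmersionDescent

/-!
# Immersions of algebraic spaces can be detected on affine schemes and on an atlas
-/

universe u

open CategoryTheory CategoryTheory.Limits AlgebraicGeometry Opposite AlgSp MorphismProperty

set_option backward.isDefEq.respectTransparency.types false

namespace Groth.L23.ImmBC

variable {S : Scheme.{u}} {X Y : Sp S}

theorem mono_of_etale_base_change {f : X ⟶ Y} {V : Over S} {p : (yon S).obj V ⟶ Y}
    (hp : RepWith @Etale p) (hps : RepWith @Surjective p) {P₀ : Sp S} {fst : P₀ ⟶ X}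
    {snd : P₀ ⟶ (yon S).obj V} (sq : IsPullback fst snd f p) [Mono snd] : Mono f := by
  constructor
  intro Z a b e
  have sqZ := IsPullback.of_hasPullback (a ≫ f) p
  have : Sheaf.IsLocallySurjective (pullback.fst (a ≫ f) p) :=
    isLocallySurjective_of_etale _ (repWith_of_isPullback sqZ.flip hp) (repWith_of_isPullback sqZ.flip hps)
  have : Epi (pullback.fst (a ≫ f) p) := @Sheaf.epi_of_isLocallySurjective _ _ _ _ _ _ _ _ _ _ _ _ _ this
  let la := sq.lift (pullback.fst (a ≫ f) p ≫ a) (pullback.snd _ _) (by rw [Category.assoc]; exact sqZ.w)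
  let lb := sq.lift (pullback.fst (a ≫ f) p ≫ b) (pullback.snd _ _) (by rw [Category.assoc, ← e]; exact sqZ.w)
  have hl : la = lb := (cancel_mono snd).1 ((sq.lift_snd _ _ _).trans (sq.lift_snd _ _ _).symm)
  have := congrArg (· ≫ fst) hl
  simp only [la, lb, sq.lift_fst] at this
  exact (cancel_epi _).1 this

theorem repWith_of_etale_base_change (P : MorphismProperty Scheme.{u})
    (hP : P = @IsClosedImmersion ∨ P = @IsOpenImmersion ∨ P = @IsImmersion) (hX : IsAlgSpace X) (hY : IsAlgSpace Y)
    {f : X ⟶ Y} {V : Over S} {p : (yon S).obj V ⟶ Y} (hp : RepWith @Etale p) (hps : RepWith @Surjective p)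
    {P₀ : Sp S} {fst : P₀ ⟶ X} {snd : P₀ ⟶ (yon S).obj V} (sq : IsPullback fst snd f p)
    (h : RepWith P snd) : RepWith P f := by
  have himm : ∀ {A B : Scheme.{u}} (φ : A ⟶ B), P φ → IsImmersion φ := fun φ hφ => by
    rcases hP with rfl | rfl | rfl <;> (haveI := hφ; infer_instance)
  haveI : Mono snd := mono_of_repWith (P := P) (fun _ _ φ hφ => by haveI := himm φ hφ; infer_instance) h
  haveI := mono_of_etale_base_change hp hps sq
  have hsep : IsSeparatedMor f := by
    have := (pullback.isIso_diagonal_iff f).2 ‹Mono f›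
    exact repWith_of_isIso (P := @IsClosedImmersion) (pullback.diagonal f)
  have hlqf : LocP (@LocallyQuasiFinite ⊓ @LocallyOfFiniteType) f :=
    locP_of_target_cover etLocal_lqfLft hX hY (IsAlgSpace.yon_obj V) hp hps sq
      (locP_of_repWith etLocal_lqfLft (repWith_mono (fun φ hφ => by
        haveI := himm φ hφ; exact ⟨inferInstance, inferInstance⟩) h))
  have hf : Representable f := Lqf.representable_of_lqf hX hY hlqf hsep
  haveI : Sheaf.IsLocallySurjective p := isLocallySurjective_of_etale _ hp hps
  rcases hP with rfl | rfl | rfl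
  · haveI := isLocalAtTarget_fppf (@IsClosedImmersion : MorphismProperty Scheme.{u})
    exact repWith_of_locallySurjective hf sq h
  · haveI : DescendsAlong (@IsOpenImmersion : MorphismProperty Scheme.{u})
        (@Surjective ⊓ @Flat ⊓ @LocallyOfFinitePresentation) := inferInstance
    haveI := isLocalAtTarget_fppf (@IsOpenImmersion : MorphismProperty Scheme.{u})
    exact repWith_of_locallySurjective hf sq h
  · haveI := descendsAlong_isImmersion_fppf.{u}
    haveI := isLocalAtTarget_fppf (@IsImmersion : MorphismProperty Scheme.{u})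
    exact repWith_of_locallySurjective hf sq h

theorem repWith_of_affine_base_change (P : MorphismProperty Scheme.{u})
    (hP : P = @IsClosedImmersion ∨ P = @IsOpenImmersion ∨ P = @IsImmersion) (f : X ⟶ Y)
    (h : ∀ (Z : Over S), IsAffine Z.left → ∀ (g : (yon S).obj Z ⟶ Y) (P₀ : Sp S)
      (fst : P₀ ⟶ X) (snd : P₀ ⟶ (yon S).obj Z), IsPullback fst snd f g → RepWith P snd) :
    RepWith P f := by
  have hinst : P.IsStableUnderBaseChange ∧ IsZariskiLocalAtTarget P := by
    rcases hP with rfl | rfl | rfl <;> exact ⟨inferInstance, inferInstance⟩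
  haveI := hinst.1
  haveI := hinst.2
  refine repWith_of_affine f fun Z hZ g => ?_
  have sq := IsPullback.of_hasPullback f g
  have hs := h Z hZ g _ _ _ sq
  have sq' := hs.1.isPullback (𝟙 ((yon S).obj Z))
  have big := sq'.paste_horiz sq
  rw [Category.id_comp] at big
  exact ⟨hs.1.pullback (𝟙 _), hs.1.snd (𝟙 _), hs.1.fst (𝟙 _) ≫ pullback.fst f g, big,
    repWith_snd hs _⟩

end Groth.L23.ImmBC
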