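import Groth.Agent.L23.CohNbhd
import Groth.Agent.L23.Support
import Groth.Agent.L09.ModEt.WeakAss

/-!
# Supports of sections of coherent modules and annihilators
-/

universe u

open CategoryTheory CategoryTheory.Limits AlgebraicGeometry Opposite AlgSp TensorProduct

set_option autoImplicit false
set_option linter.style.haveILetI false
set_option backward.isDefEq.respectTransparency false
set_option backward.isDefEq.respectTransparency.types false

noncomputable section

namespace Groth.L23.CohSupp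

open Groth.L09.ModEt

variable {S : Scheme.{u}} {X : AlgSp.Space S} (M : ModEt X.obj)

/-- A section dying near a point has annihilator outside the prime of the point. -/
theorem not_annSect_le [M.IsQuasicoherent] {E W : EtOver X.obj} [IsAffine E.obj.left.left]
    [IsAffine W.obj.left.left] (g : W ⟶ E) {s : sectModEt M E} (h : res M g s = 0) (w : W.obj.left.left) :
    ¬ annSect s ≤ primeAtPt E.obj.left.left (g.hom.left.left w) := by
  intro hle
  letI := (pb g).toAlgebra
  haveI : Module.Flat (Γ₀ E) (Γ₀ W) := flat_pb g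
  let L : (Γ₀ E) →ₗ[Γ₀ E] sectModEt M E := LinearMap.toSpanSingleton (Γ₀ E) _ s
  have hker : LinearMap.ker L = annSect s := Ideal.ext fun _ => Iff.rfl
  let L' : (Γ₀ E ⧸ annSect s) →ₗ[Γ₀ E] sectModEt M E := (annSect s).liftQ L hker.ge
  have hL' : Function.Injective L' := LinearMap.ker_eq_bot.1 (Submodule.ker_liftQ_eq_bot' _ L hker.symm)
  have h0 : (1 : Γ₀ W) ⊗ₜ[Γ₀ E] (Submodule.Quotient.mk (1 : Γ₀ E) : Γ₀ E ⧸ annSect s) = 0 := by
    refine Module.Flat.lTensor_preserves_injective_linearMap L' hL' ?_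
    rw [map_zero, LinearMap.lTensor_tmul]
    refine (bc_of_isQuasicoherent M g).1 ?_
    rw [map_zero, θ_tmul, one_smul, show L' (Submodule.Quotient.mk 1) = s from one_smul _ s, h]
  let J := (annSect s).map (pb g)
  let q : (Γ₀ E ⧸ annSect s) →ₗ[Γ₀ E] Γ₀ W ⧸ J :=
    (annSect s).liftQ ((Ideal.Quotient.mkₐ (Γ₀ E) J).toLinearMap.comp (Algebra.linearMap (Γ₀ E) (Γ₀ W)))
      fun a ha => Ideal.Quotient.eq_zero_iff_mem.2 (Ideal.mem_map_of_mem _ ha)
  let P : Γ₀ W ⊗[Γ₀ E] (Γ₀ E ⧸ annSect s) →ₗ[Γ₀ E] Γ₀ W ⧸ J :=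
    TensorProduct.lift ((LinearMap.mul (Γ₀ E) (Γ₀ W ⧸ J)).compl₂ q ∘ₗ (Ideal.Quotient.mkₐ (Γ₀ E) J).toLinearMap)
  have h1 : (1 : Γ₀ W ⧸ J) = 0 := by
    have := congrArg P h0
    rw [map_zero] at this
    rw [← this]
    show (1 : Γ₀ W ⧸ J) = (Ideal.Quotient.mk J 1) * (Ideal.Quotient.mk J (pb g 1))
    simp
  have hJ : J ≤ primeAtPt W.obj.left.left w :=
    Ideal.map_le_iff_le_comap.2 (hle.trans (comap_primeAtPt g.hom.left.left w).ge)
  exact (isPrime_primeAtPt W.obj.left.left w).ne_top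
    (top_le_iff.1 (((Ideal.eq_top_iff_one J).2 (Ideal.Quotient.eq_zero_iff_mem.1 h1)).ge.trans hJ))

/-- Membership in the range of a closed immersion into an affine scheme. -/
theorem mem_range_iff {U V : Scheme.{u}} [IsAffine U] (f : V ⟶ U) [IsClosedImmersion f] (x : U) :
    x ∈ Set.range f ↔ RingHom.ker f.appTop.hom ≤ primeAtPt U x := by
  haveI : IsAffine V := isAffine_of_isAffineHom f
  refine ⟨?_, fun h => ?_⟩
  · rintro ⟨v, rfl⟩
    rw [← comap_primeAtPt]
    exact fun a ha => by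
      rw [Ideal.mem_comap, RingHom.mem_ker.1 ha]
      exact zero_mem _
  · have hs : Function.Surjective f.appTop.hom :=
      ((HasAffineProperty.iff_of_isAffine (P := @IsClosedImmersion)).1 ‹_›).2
    haveI : ((primeAtPt U x).map f.appTop.hom).IsPrime := Ideal.map_isPrime_of_surjective hs h
    obtain ⟨v, hv⟩ := exists_primeAtPt V ((primeAtPt U x).map f.appTop.hom)
    refine ⟨v, ?_⟩
    have hu : primeAtPt U (f v) = primeAtPt U x := by
      rw [← comap_primeAtPt, hv, Ideal.comap_map_of_surjective _ hs, sup_eq_left]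
      exact h
    rw [primeAtPt_eq, primeAtPt_eq] at hu
    exact U.toSpecΓ.homeomorph.injective (PrimeSpectrum.ext hu)

/-- Points of a closed subspace on an affine object. -/
theorem ofPt_mem_range_iff {Z : AlgSp.Space S} {i : Z ⟶ X} {I : IdealEt X.obj} (hZ : IsCutOutBy I i.hom)
    (E : EtOver X.obj) [hE : IsAffine E.obj.left.left] (w : E.obj.left.left) :
    Points.ofPt E.obj.hom w ∈ Set.range (Points.map i.hom) ↔ I.ideal E hE ≤ primeAtPt E.obj.left.left w := by
  obtain ⟨hi, rfl⟩ := hZ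
  haveI : IsClosedImmersion (EtOver.bcπ hi.1 E).left := Groth.L23.repWith_snd hi E.obj.hom
  refine Iff.trans ?_ (mem_range_iff (EtOver.bcπ hi.1 E).left w)
  constructor
  · rintro ⟨x, hx⟩
    obtain ⟨v, -, hv⟩ := Groth.L23.exists_point_of_isPullback (EtOver.isPullback_bcObj hi.1 E) hx
    exact ⟨v, hv⟩
  · rintro ⟨v, rfl⟩
    exact ⟨Points.ofPt (EtOver.bcObj hi.1 E).obj.hom v, by
      rw [Points.map_ofPt, show (EtOver.bcObj hi.1 E).obj.hom ≫ i.hom = (yon S).map (EtOver.bcπ hi.1 E) ≫ E.obj.hom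
        from (EtOver.isPullback_bcObj hi.1 E).w, Groth.L23.ofPt_comp]⟩

end Groth.L23.CohSupp

namespace Groth.L23.CohSupp

open Groth.L09.ModEt

theorem mem_basicOpen {U : Scheme.{u}} {a : Γ(U, ⊤)} {x : U} (h : a ∉ primeAtPt U x) : x ∈ U.basicOpen a := by
  rw [Scheme.mem_basicOpen_top]
  by_contra hc
  exact h ((IsLocalRing.mem_maximalIdeal _).2 hc)

theorem isUnit_appTop_basicOpen {U : Scheme.{u}} (a : Γ(U, ⊤)) :
    IsUnit ((U.basicOpen a).ι.appTop.hom a) := by
  have h : (U.basicOpen a : U.Opens).toScheme.basicOpen ((U.basicOpen a).ι.appTop.hom a) = ⊤ := by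
    rw [← Scheme.preimage_basicOpen_top]
    exact Scheme.Opens.ι_preimage_self _
  exact RingedSpace.isUnit_of_isUnit_germ (U.basicOpen a).toScheme.toLocallyRingedSpace.toRingedSpace ⊤ _ fun x hx => by
    have : x ∈ (U.basicOpen a : U.Opens).toScheme.basicOpen ((U.basicOpen a).ι.appTop.hom a) := h.ge hx
    exact (Scheme.mem_basicOpen_top _ _ _).1 this

end Groth.L23.CohSupp
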