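import Groth.Agent.L09.ModEt.Main
import Groth.Agent.L09.ModEt.Converse
import Groth.Agent.L09.ModEt.Push
import Groth.Agent.L23.FpNoeth
import Groth.Agent.L23.SubQcoh
import Groth.Prelude.Def_AlgSpOX2

/-!
# Direct image along affine and finite morphisms
-/

universe u

open CategoryTheory CategoryTheory.Limits AlgebraicGeometry Opposite AlgSp TensorProduct

set_option autoImplicit false
set_option linter.style.haveILetI false
set_option backward.isDefEq.respectTransparency false
set_option backward.isDefEq.respectTransparency.types false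

noncomputable section

namespace Groth.L23.PushAff

open Groth.L09.ModEt

variable {S : Scheme.{u}} {X Y : Sp S} {f : X ⟶ Y} (hf : Representable f) (M : ModEt X) [M.IsQuasicoherent]

set_option maxHeartbeats 400000 in
/-- Direct image along an affine morphism commutes with affine base change on sections. -/
theorem bc_push (hfa : RepWith @IsAffineHom f) {E E' : EtOver Y} [IsAffine E.obj.left.left]
    [IsAffine E'.obj.left.left] (g : E' ⟶ E) : BC ((pushModEt hf).obj M) g := by
  haveI := isAffine_bcObj hf hfa E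
  haveI := isAffine_bcObj hf hfa E'
  let V := EtOver.bcObj hf E
  let W := EtOver.bcObj hf E'
  let s : W ⟶ V := EtOver.bcMap hf g
  letI := (pb g).toAlgebra
  letI := (πbc hf E).toAlgebra
  letI := (πbc hf E').toAlgebra
  letI := (pb s).toAlgebra
  letI : Algebra (Γ₀ E) (Γ₀ W) := ((πbc hf E').comp (pb g)).toAlgebra
  haveI sq : IsPullback s.hom.left.left (EtOver.bcπ hf E').left (EtOver.bcπ hf E).left g.hom.left.left :=
    EtOver.isPullback_bcMap_left hf g
  have hcomm : ∀ r, pb s (πbc hf E r) = πbc hf E' (pb g r) := fun r => by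
    show ((EtOver.bcπ hf E).left.appTop ≫ s.hom.left.left.appTop).hom r =
      (g.hom.left.left.appTop ≫ (EtOver.bcπ hf E').left.appTop).hom r
    rw [← Scheme.Hom.comp_appTop, ← Scheme.Hom.comp_appTop, sq.w]
  haveI : IsScalarTower (Γ₀ E) (Γ₀ E') (Γ₀ W) := IsScalarTower.of_algebraMap_eq fun r => rfl
  haveI : IsScalarTower (Γ₀ E) (Γ₀ V) (Γ₀ W) := IsScalarTower.of_algebraMap_eq fun r => (hcomm r).symm
  letI : Module (Γ₀ E) (sectModEt M V) := secModule ((pushModEt hf).obj M) E
  haveI : IsScalarTower (Γ₀ E) (Γ₀ V) (sectModEt M V) :=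
    ⟨fun a b m => mul_smul (πbc hf E a) b m⟩
  haveI : Algebra.IsPushout (Γ₀ E) (Γ₀ E') (Γ₀ V) (Γ₀ W) :=
    CommRingCat.isPushout_iff_isPushout.1 (isPushout_appTop_of_isPullback sq).flip
  exact bijective_cancel (M := sectModEt M V)
    (θ ((pushModEt hf).obj M) g : Γ₀ E' ⊗[Γ₀ E] sectModEt M V →+ sectModEt M W) (θ M s)
    (bc_of_isQuasicoherent M s) fun b m => rfl

/-- Direct image along an affine morphism preserves quasi-coherence. -/
theorem isQuasicoherent_push (hfa : RepWith @IsAffineHom f) :
    ((pushModEt hf).obj M).IsQuasicoherent := by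
  refine isQuasicoherent_of_bc ((pushModEt hf).obj M)
    (fun W : {W : EtOver Y // IsAffine W.obj.left.left} => W.1) (Groth.L23.SubQcoh.coversTop_affine (X := Y)) ?_
  intro W W' _ g
  haveI := W.2
  exact bc_push hf M hfa g

end Groth.L23.PushAff

namespace Groth.L23.PushAff

open Groth.L09.ModEt

variable {S : Scheme.{u}} {X Y : Sp S} {f : X ⟶ Y} (hf : Representable f) (M : ModEt X) [M.IsQuasicoherent]

/-- Sections of a direct image along a finite morphism are finite. -/
theorem finite_push [M.IsFiniteType] (hfin : RepWith @IsFinite f) (E : EtOver Y) [IsAffine E.obj.left.left] :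
    Module.Finite (Γ₀ E) (sectModEt ((pushModEt hf).obj M) E) := by
  haveI : IsFinite (EtOver.bcπ hf E).left := Groth.L23.repWith_snd hfin E.obj.hom
  haveI : IsAffine (EtOver.bcObj hf E).obj.left.left := isAffine_of_isAffineHom (EtOver.bcπ hf E).left
  letI := (πbc hf E).toAlgebra
  haveI : Module.Finite (Γ₀ E) (Γ₀ (EtOver.bcObj hf E)) :=
    RingHom.finite_algebraMap.1 ((HasAffineProperty.iff_of_isAffine (P := @IsFinite)).1 ‹_›).2
  letI : Module (Γ₀ E) (sectModEt M (EtOver.bcObj hf E)) := secModule ((pushModEt hf).obj M) E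
  haveI : IsScalarTower (Γ₀ E) (Γ₀ (EtOver.bcObj hf E)) (sectModEt M (EtOver.bcObj hf E)) :=
    ⟨fun a b m => mul_smul (πbc hf E a) b m⟩
  haveI := finite_sectModEt M (EtOver.bcObj hf E)
  exact Module.Finite.trans (Γ₀ (EtOver.bcObj hf E)) (sectModEt M (EtOver.bcObj hf E))

end Groth.L23.PushAff
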