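import Groth.Agent.L23.FpSections
import Groth.Agent.L23.PushAffine
import Groth.Agent.L23.CohSupport
import Groth.Agent.L23.FtCriterion
import Groth.Prelude.Def_AlgSpMor5
import Mathlib.RingTheory.Localization.Free
import Mathlib.RingTheory.LocalRing.Module
import Mathlib.RingTheory.Finiteness.ModuleFinitePresentation
import Mathlib.Algebra.Category.ModuleCat.Sheaf.LocallyFree
import Groth.Agent.L23.AffineMor
import Groth.Agent.S10293
import Groth.Agent.L23.SubQcoh

/-!
# Locally free modules of finite type
-/

universe u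

open CategoryTheory CategoryTheory.Limits AlgebraicGeometry Opposite AlgSp TensorProduct

set_option autoImplicit false
set_option linter.style.haveILetI false
set_option backward.isDefEq.respectTransparency false
set_option backward.isDefEq.respectTransparency.types false

noncomputable section

namespace Groth.L23.FLF

open Groth.L09.ModEt

variable {S : Scheme.{u}} {X : Sp S} (M : ModEt X)

/-- A free presentation over an object gives free sections on the affine objects over it. -/
theorem free_of_isIso {E : EtOver X} (σ : (M.over E).GeneratingSections) [IsIso σ.π] [σ.IsFiniteType]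
    {V : EtOver X} [IsAffine V.obj.left.left] (h : V ⟶ E) :
    Module.Free (Γ₀ V) (sectModEt M V) ∧ Module.Finite (Γ₀ V) (sectModEt M V) := by
  have hz : IsZero (kernel σ.π) := isZero_kernel_of_mono σ.π
  let ρ : (kernel σ.π).GeneratingSections :=
    { I := PEmpty.{u + 2}
      s := fun i => i.elim
      epi := ⟨fun _ _ _ => hz.eq_of_src _ _⟩ }
  obtain ⟨D, hI, hJ⟩ := FP.exists_data_aux M σ (kernel.ι σ.π) ρ
    (fun O z => ConcreteCategory.congr_hom
      ((SheafOfModules.evaluation (OOn E) (op O)).congr_map (kernel.condition σ.π)) z)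
    (fun O z hz => Groth.L09.ModGen.exists_kernel_lift σ.π z hz) h
  haveI : Finite D.I := hI ▸ (inferInstance : Finite σ.I)
  haveI : IsEmpty D.J := hJ ▸ (inferInstance : IsEmpty PEmpty.{u + 2})
  have hb : Function.Bijective (D.φ (𝟙 V)) := by
    refine ⟨(injective_iff_map_eq_zero _).2 fun b hb => ?_, D.surj_affine (𝟙 V)⟩
    have := D.ker_affine (𝟙 V) hb
    rw [Data.P, Set.range_eq_empty, Submodule.span_empty] at this
    exact (Submodule.mem_bot _).1 this
  exact ⟨Module.Free.of_equiv (LinearEquiv.ofBijective _ hb), Module.Finite.equiv (LinearEquiv.ofBijective _ hb)⟩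

/-- Sections forming a basis over an affine object trivialize the module over it. -/
theorem exists_isIso_aux {W : EtOver X}
    (hBC : ∀ (W' : EtOver X) [IsAffine W'.obj.left.left] (g : W' ⟶ W), BC M g)
    {I : Type (u + 1)} [Finite I] (t : I → sectModEt M W)
    (ht : Function.Surjective (Finsupp.linearCombination (Γ₀ W) t))
    (hinj : Function.Injective (Finsupp.linearCombination (Γ₀ W) t)) :
    ∃ σ : (M.over W).GeneratingSections, IsIso σ.π ∧ σ.IsFiniteType := by
  let σ : (M.over W).GeneratingSections :=
    { I := I, s := fun i => tautSec M (t i), epi := FP.epi_span M hBC t ht }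
  haveI hft : σ.IsFiniteType := ⟨(inferInstance : Finite I)⟩
  refine ⟨σ, ?_, hft⟩
  haveI : Epi σ.π := σ.epi
  haveI : Mono σ.π := by
    refine Preadditive.mono_of_kernel_zero ?_
    let k : PEmpty.{u + 2} → (kernel σ.π).sections := fun j => j.elim
    haveI : Epi ((kernel σ.π).freeHomEquiv.symm k) := by
      refine epi_lift_aux (σ := σ) (kernel.ι σ.π) k (fun j => j.elim) (fun O => ?_) (fun O z => ConcreteCategory.congr_hom
        ((SheafOfModules.evaluation (OOn W) (op O)).congr_map (kernel.condition σ.π)) z) (fun j => j.elim) ?_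
      · exact (ModuleCat.mono_iff_injective ((SheafOfModules.evaluation (OOn W) (op O)).map (kernel.ι σ.π))).1
          inferInstance
      intro O hO y hy
      haveI := hO
      exact FP.relations_mem M (hBC O.left O.hom) t ht (fun j : PEmpty.{u + 2} => j.elim)
        (by rw [Set.range_eq_empty, Submodule.span_empty, LinearMap.ker_eq_bot.2 hinj]) y hy
    rw [← cancel_epi ((kernel σ.π).freeHomEquiv.symm k)]
    exact (SheafOfModules.freeHomEquiv _).injective (funext fun j => j.elim)
  exact isIso_of_mono_of_epi σ.π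

/-- A basis of the sections over an affine object trivializes the module over it. -/
theorem exists_isIso_generators {W : EtOver X}
    (hBC : ∀ (W' : EtOver X) [IsAffine W'.obj.left.left] (g : W' ⟶ W), BC M g)
    (hfree : Module.Free (Γ₀ W) (sectModEt M W)) (hfin : Module.Finite (Γ₀ W) (sectModEt M W)) :
    ∃ σ : (M.over W).GeneratingSections, IsIso σ.π ∧ σ.IsFiniteType := by
  rcases subsingleton_or_nontrivial (Γ₀ W) with hW | hW
  · exact exists_isIso_aux M hBC (I := PEmpty.{u + 2}) (fun i => i.elim)
      (fun m => ⟨0, Subsingleton.elim (h := Module.subsingleton (Γ₀ W) _) _ _⟩)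
      (fun a b _ => Subsingleton.elim _ _)
  let b := Module.Free.chooseBasis (Γ₀ W) (sectModEt M W)
  refine exists_isIso_aux M hBC (I := Module.Free.ChooseBasisIndex (Γ₀ W) (sectModEt M W)) b ?_ ?_
  · exact fun m => ⟨b.repr m, b.linearCombination_repr m⟩
  · exact b.linearIndependent

/-- A finitely presented flat module of sections is free near every point. -/
theorem exists_free_nhd [M.IsQuasicoherent] {E : EtOver X} [IsAffine E.obj.left.left]
    [Module.FinitePresentation (Γ₀ E) (sectModEt M E)] [Module.Flat (Γ₀ E) (sectModEt M E)]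
    (e : E.obj.left.left) :
    ∃ (W : EtOver X) (_ : IsAffine W.obj.left.left) (g : W ⟶ E), e ∈ Set.range g.hom.left.left ∧
      Module.Free (Γ₀ W) (sectModEt M W) ∧ Module.Finite (Γ₀ W) (sectModEt M W) := by
  let P := primeAtPt E.obj.left.left e
  haveI : Module.Free (Localization.AtPrime P) (LocalizedModule.AtPrime P (sectModEt M E)) := by
    haveI : Module.Finite (Localization.AtPrime P) (LocalizedModule.AtPrime P (sectModEt M E)) :=
      Module.Finite.of_isLocalizedModule P.primeCompl (LocalizedModule.mkLinearMap P.primeCompl (sectModEt M E))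
    haveI : Module.Flat (Localization.AtPrime P) (LocalizedModule.AtPrime P (sectModEt M E)) :=
      Module.Flat.of_isLocalizedModule _ P.primeCompl (LocalizedModule.mkLinearMap P.primeCompl (sectModEt M E))
    exact Module.free_of_flat_of_isLocalRing
  obtain ⟨r, hr, hfree, -⟩ := Module.FinitePresentation.exists_free_localizedModule_powers (M := sectModEt M E)
    P.primeCompl (LocalizedModule.mkLinearMap P.primeCompl (sectModEt M E)) (Localization.AtPrime P)
  let W := openObj E (E.obj.left.left.basicOpen r)
  let g : W ⟶ E := openι E (E.obj.left.left.basicOpen r)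
  haveI hW : IsAffine W.obj.left.left := (isAffineOpen_top E.obj.left.left).basicOpen r
  haveI := FP.finitePresentation_of_bc M g (bc_of_isQuasicoherent M g)
  refine ⟨W, hW, g, ⟨⟨e, CohSupp.mem_basicOpen hr⟩, rfl⟩, ?_, inferInstance⟩
  letI := (pb g).toAlgebra
  let L := Localization (Submonoid.powers r)
  have hu : IsUnit (pb g r) := CohSupp.isUnit_appTop_basicOpen r
  letI : Algebra L (Γ₀ W) := (IsLocalization.Away.lift (S := L) r hu).toAlgebra
  haveI : IsScalarTower (Γ₀ E) L (Γ₀ W) :=
    IsScalarTower.of_algebraMap_eq fun a => (IsLocalization.Away.lift_eq (S := L) r hu a).symm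
  haveI : Module.Free L (L ⊗[Γ₀ E] sectModEt M E) :=
    Module.Free.of_equiv ((IsLocalizedModule.isBaseChange (Submonoid.powers r) L
      (LocalizedModule.mkLinearMap (Submonoid.powers r) (sectModEt M E))).equiv.symm)
  haveI : Module.Free (Γ₀ W) (Γ₀ W ⊗[Γ₀ E] sectModEt M E) :=
    Module.Free.of_equiv (TensorProduct.AlgebraTensorModule.cancelBaseChange (Γ₀ E) L (Γ₀ W) (Γ₀ W) (sectModEt M E))
  letI : Module (Γ₀ W) (sectModEt M W) := secModule M W
  let T : Γ₀ W ⊗[Γ₀ E] sectModEt M E →ₗ[Γ₀ W] sectModEt M W :=
    { toFun := θ M g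
      map_add' := map_add _
      map_smul' := fun a z => by
        induction z using TensorProduct.induction_on with
        | zero => simp
        | tmul b m => rw [TensorProduct.smul_tmul', θ_tmul, θ_tmul, RingHom.id_apply, smul_eq_mul, mul_smul]
        | add x y hx hy => simp only [smul_add, map_add, hx, hy, RingHom.id_apply] }
  exact Module.Free.of_equiv (LinearEquiv.ofBijective T (bc_of_isQuasicoherent M g))

end Groth.L23.FLF

namespace Groth.L23.FLF

open Groth.L09.ModEt

variable {S : Scheme.{u}} {X Y : Sp S} {f : X ⟶ Y} (hf : Representable f)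

/-- Sections of the pushed structure sheaf are the functions on the base change. -/
theorem exists_secEquiv (E : EtOver Y) :
    letI := (πbc hf E).toAlgebra
    Nonempty (Γ₀ (EtOver.bcObj hf E) ≃ₗ[Γ₀ E] sectModEt ((pushModEt hf).obj (unitModEt X)) E) := by
  letI := (πbc hf E).toAlgebra
  exact ⟨{ toFun := fun a => (ULift.up a : ULift.{u + 1} Γ((EtOver.bcObj hf E).obj.left.left, ⊤))
           map_add' := fun _ _ => rfl
           map_smul' := fun _ _ => rfl
           invFun := fun a => (show ULift.{u + 1} Γ((EtOver.bcObj hf E).obj.left.left, ⊤) from a).down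
           left_inv := fun _ => rfl
           right_inv := fun _ => rfl }⟩

/-- Free pushed structure sheaf sections make the base change finite locally free. -/
theorem finLocFree_bcπ (hfa : RepWith @IsAffineHom f) (E : EtOver Y) [IsAffine E.obj.left.left]
    (hfree : Module.Free (Γ₀ E) (sectModEt ((pushModEt hf).obj (unitModEt X)) E))
    (hfin : Module.Finite (Γ₀ E) (sectModEt ((pushModEt hf).obj (unitModEt X)) E)) :
    AlgSp.finLocFree (EtOver.bcπ hf E).left := by
  haveI := isAffine_bcObj hf hfa E
  letI := (πbc hf E).toAlgebra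
  obtain ⟨e⟩ := exists_secEquiv hf E
  haveI : Module.Free (Γ₀ E) (Γ₀ (EtOver.bcObj hf E)) := Module.Free.of_equiv e.symm
  haveI : Module.Finite (Γ₀ E) (Γ₀ (EtOver.bcObj hf E)) := Module.Finite.equiv e.symm
  haveI : Module.FinitePresentation (Γ₀ E) (Γ₀ (EtOver.bcObj hf E)) := Module.finitePresentation_of_projective _ _
  refine ⟨(HasAffineProperty.iff_of_isAffine (P := @IsFinite)).2 ⟨inferInstance, RingHom.finite_algebraMap.2 ‹_›⟩, ?_, ?_⟩
  · exact (HasRingHomProperty.iff_of_isAffine (P := @Flat)).2 (RingHom.flat_algebraMap_iff.2 inferInstance)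
  · exact (HasRingHomProperty.iff_of_isAffine (P := @LocallyOfFinitePresentation)).2
      (RingHom.finitePresentation_algebraMap.2 inferInstance)

/-- The pushed structure sheaf of a finite locally free morphism has finitely presented flat sections. -/
theorem sections_push (hflf : AlgSp.IsFinLocFreeMor f) (E : EtOver Y) [IsAffine E.obj.left.left] :
    Module.FinitePresentation (Γ₀ E) (sectModEt ((pushModEt hf).obj (unitModEt X)) E) ∧
      Module.Flat (Γ₀ E) (sectModEt ((pushModEt hf).obj (unitModEt X)) E) := by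
  obtain ⟨h1, h2, h3⟩ : AlgSp.finLocFree (EtOver.bcπ hf E).left := hflf.2 _ _ _ (hf.isPullback E.obj.hom)
  haveI := h1
  haveI : IsAffine (EtOver.bcObj hf E).obj.left.left := isAffine_of_isAffineHom (EtOver.bcπ hf E).left
  letI := (πbc hf E).toAlgebra
  obtain ⟨e⟩ := exists_secEquiv hf E
  haveI : Module.Finite (Γ₀ E) (Γ₀ (EtOver.bcObj hf E)) :=
    RingHom.finite_algebraMap.1 ((HasAffineProperty.iff_of_isAffine (P := @IsFinite)).1 h1).2
  haveI : Algebra.FinitePresentation (Γ₀ E) (Γ₀ (EtOver.bcObj hf E)) :=
    RingHom.finitePresentation_algebraMap.1 ((HasRingHomProperty.iff_of_isAffine (P := @LocallyOfFinitePresentation)).1 h3)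
  haveI : Module.Flat (Γ₀ E) (Γ₀ (EtOver.bcObj hf E)) :=
    RingHom.flat_algebraMap_iff.1 ((HasRingHomProperty.iff_of_isAffine (P := @Flat)).1 h2)
  haveI := Module.FinitePresentation.of_finite_of_finitePresentation (R := Γ₀ E) (S := Γ₀ (EtOver.bcObj hf E))
  exact ⟨Module.FinitePresentation.of_equiv e, Module.Flat.of_linearEquiv e.symm⟩

end Groth.L23.FLF

namespace Groth.L23.FLF

open Groth.L09.ModEt

variable {S : Scheme.{u}} {X Y : AlgSp.Space S} (f : X ⟶ Y) (hf : Representable f.hom)

/-- Locally free data on the pushed structure sheaf from a finite locally free morphism. -/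
theorem exists_data_of_finLocFree (hflf : AlgSp.IsFinLocFreeMor f.hom) (hfa : RepWith @IsAffineHom f.hom)
    [(unitModEt X.obj).IsQuasicoherent] :
    ∃ q : SheafOfModules.LocalGeneratorsData.{u + 1} ((pushModEt hf).obj (unitModEt X.obj)),
      q.IsLocallyFreeData ∧ q.IsFiniteType := by
  let M := (pushModEt hf).obj (unitModEt X.obj)
  haveI := PushAff.isQuasicoherent_push hf (unitModEt X.obj) hfa
  let ι := {W : EtOver Y.obj // IsAffine W.obj.left.left ∧
    Module.Free (Γ₀ W) (sectModEt M W) ∧ Module.Finite (Γ₀ W) (sectModEt M W)}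
  have key : ∀ (E : EtOver Y.obj) (e : E.obj.left.left), ∃ (W : EtOver Y.obj) (_ : IsAffine W.obj.left.left)
      (g : W ⟶ E), e ∈ Set.range g.hom.left.left ∧
        Module.Free (Γ₀ W) (sectModEt M W) ∧ Module.Finite (Γ₀ W) (sectModEt M W) := by
    intro E e
    obtain ⟨_, ⟨(B : E.obj.left.left.Opens), hB, rfl⟩, heB, -⟩ :=
      E.obj.left.left.isBasis_affineOpens.exists_subset_of_mem_open (Set.mem_univ e) isOpen_univ
    haveI : IsAffine (openObj E B).obj.left.left := hB
    obtain ⟨h1, h2⟩ := sections_push hf hflf (openObj E B)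
    haveI := h1
    haveI := h2
    obtain ⟨W, hW, g, ⟨w, hw⟩, hfree, hfin⟩ := exists_free_nhd M (E := openObj E B) ⟨e, heB⟩
    refine ⟨W, hW, g ≫ openι E B, ⟨w, ?_⟩, hfree, hfin⟩
    show (g.hom.left.left ≫ (openι E B).hom.left.left) w = e
    rw [Scheme.Hom.comp_apply, hw]
    rfl
  have hcov : (etTop Y.obj).CoversTop (fun W : ι => W.1) := fun E => by
    choose W hW g hg hfree hfin using key E
    refine GrothendieckTopology.superset_covering _ ?_ (ofArrows_mem_etTop W g fun e => ⟨e, hg e⟩)
    rw [Sieve.ofArrows, Sieve.generate_le_iff]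
    rintro _ _ ⟨e⟩
    exact ⟨⟨W e, hW e, hfree e, hfin e⟩, ⟨𝟙 _⟩⟩
  choose σ hσ hσf using fun i : ι => exists_isIso_generators M
    (fun W' _ g => haveI := i.2.1; bc_of_isQuasicoherent M g) i.2.2.1 i.2.2.2
  let q := SheafOfModules.LocalGeneratorsData.mk (M := M) ι (fun W => W.1) hcov σ
  refine ⟨q, ?_, ?_⟩
  · constructor
    exact hσ
  · constructor
    exact hσf

/-- Locally free data on the pushed structure sheaf make an affine morphism finite locally free. -/
theorem isFinLocFreeMor_of_data (hfa : RepWith @IsAffineHom f.hom)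
    (q : SheafOfModules.LocalGeneratorsData.{u + 1} ((pushModEt hf).obj (unitModEt X.obj)))
    (hq : q.IsLocallyFreeData) (hqf : q.IsFiniteType) : AlgSp.IsFinLocFreeMor f.hom := by
  obtain ⟨U, p, hp, hps⟩ := Y.property.atlas
  let E₀ : EtOver Y.obj := EtOver.mk p hp
  have hloc : ∀ t : E₀.obj.left.left, ∃ (W : EtOver Y.obj) (_ : IsAffine W.obj.left.left) (g : W ⟶ E₀),
      t ∈ Set.range g.hom.left.left ∧ AlgSp.finLocFree (EtOver.bcπ hf W).left := by
    intro t
    obtain ⟨W, hW, g, hg, ht⟩ := exists_refinement (q.coversTop E₀) t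
    haveI := hW
    obtain ⟨i, ⟨h⟩⟩ := hg
    haveI := hq.isIso i
    haveI := hqf.isFiniteType i
    obtain ⟨h1, h2⟩ := free_of_isIso _ (q.generators i) h
    exact ⟨W, hW, g, ht, finLocFree_bcπ hf hfa W h1 h2⟩
  choose W hW g hg hflf using hloc
  let D := sigmaObj W g
  have hD : AlgSp.finLocFree (EtOver.bcπ hf D).left := by
    have hpiece : ∀ t, AlgSp.finLocFree
        (pullback.snd (EtOver.bcπ hf D).left (Sigma.ι (fun t => (W t).obj.left.left) t)) := by
      intro t
      have sq := (EtOver.isPullback_bcMap_left hf (sigmaι W g t))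
      exact MorphismProperty.of_isPullback
        (IsPullback.of_horiz_isIso (fst := sq.isoPullback.inv) (g := 𝟙 _)
          ⟨by rw [Category.comp_id]; exact sq.isoPullback_inv_snd⟩) (hflf t)
    refine ⟨?_, ?_, ?_⟩
    · exact IsZariskiLocalAtTarget.of_openCover (P := @IsFinite) (sigmaOpenCover _) fun t => (hpiece t).1
    · exact IsZariskiLocalAtTarget.of_openCover (P := @Flat) (sigmaOpenCover _) fun t => (hpiece t).2.1
    · exact IsZariskiLocalAtTarget.of_openCover (P := @LocallyOfFinitePresentation) (sigmaOpenCover _)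
        fun t => (hpiece t).2.2
  have hsurj : RepWith @Surjective D.obj.hom := by
    haveI : Surjective (sigmaDesc W g).hom.left.left :=
      ⟨surjective_sigmaDesc W g fun t => ⟨t, hg t⟩⟩
    exact MorphismProperty.comp_mem _ _ _ (Groth.L23.repWith_map (g := (sigmaDesc W g).hom.left) ‹_›) hps
  exact Groth.Agent.S10293.result f D.obj.left D.obj.hom D.property hsurj _ _ (hf.isPullback D.obj.hom)
    (Groth.L23.repWith_map hD)

end Groth.L23.FLF

namespace Groth.L23.FLF

open Groth.L09.ModEt

/-- The structure sheaf is quasi-coherent. -/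
theorem isQuasicoherent_unit {S : Scheme.{u}} (X : Sp S) : (unitModEt X).IsQuasicoherent := by
  refine isQuasicoherent_of_bc _ (fun W : {W : EtOver X // IsAffine W.obj.left.left} => W.1)
    (Groth.L23.SubQcoh.coversTop_affine (X := X)) ?_
  intro W W' _ g
  letI := (pb g).toAlgebra
  let u : sectModEt (unitModEt X) W.1 ≃ₗ[Γ₀ W.1] Γ₀ W.1 :=
    { toFun := fun a => (show ULift.{u + 1} Γ(W.1.obj.left.left, ⊤) from a).down
      map_add' := fun _ _ => rfl
      map_smul' := fun _ _ => rfl
      invFun := fun a => (ULift.up a : ULift.{u + 1} Γ(W.1.obj.left.left, ⊤))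
      left_inv := fun _ => rfl
      right_inv := fun _ => rfl }
  let T : Γ₀ W' ⊗[Γ₀ W.1] sectModEt (unitModEt X) W.1 ≃ₗ[Γ₀ W.1] Γ₀ W' :=
    (TensorProduct.congr (LinearEquiv.refl _ _) u).trans (TensorProduct.rid (Γ₀ W.1) (Γ₀ W'))
  have hT : ∀ z, θ (unitModEt X) g z = (ULift.up (T z) : ULift.{u + 1} Γ(W'.obj.left.left, ⊤)) := fun z => by
    induction z using TensorProduct.induction_on with
    | zero => rw [map_zero, map_zero]; rfl
    | tmul b m =>
      refine congrArg ULift.up ?_
      show b * pb g (u m) = T (b ⊗ₜ m)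
      rw [mul_comm]
      rfl
    | add x y hx hy => rw [map_add, map_add, hx, hy]; rfl
  refine ⟨fun a b hab => T.injective (congrArg ULift.down (((hT a).symm.trans hab).trans (hT b))), fun y => ?_⟩
  obtain ⟨z, hz⟩ := T.surjective (show ULift.{u + 1} Γ(W'.obj.left.left, ⊤) from y).down
  exact ⟨z, (hT z).trans (congrArg ULift.up hz)⟩

end Groth.L23.FLF
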