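import Groth.Agent.L23.SpRlimSect
import Groth.Agent.L23.QcohClosure
import Groth.Agent.L09.ModEt.Ext
import Groth.Agent.L23.FinLocFreeMod
import Groth.Agent.L10.WSerreLib
import Groth.Agent.L10.RDerTri

/-!
# Derived direct image along an affine morphism reflects isomorphisms on quasi-coherent complexes
-/

universe u

open CategoryTheory CategoryTheory.Limits AlgebraicGeometry Opposite AlgSp DerivedCategory CategoryTheory.Pretriangulated

set_option autoImplicit false
set_option linter.style.haveILetI false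
set_option backward.isDefEq.respectTransparency false
set_option backward.isDefEq.respectTransparency.types false

attribute [local instance] HasDerivedCategory.standard

noncomputable section

namespace Groth.L23.AffPushReflect

open Groth.L09.ModEt Groth.L23.ModVanish Groth.L23.CohNbhd Groth.L10 Groth.L23.SpRlim Groth.L23.SpRlimSect

variable {S : Scheme.{u}} {X Y : Sp S}

theorem isWeakSerre (X : Sp S) : WSerre.IsWeakSerre (SheafOfModules.isQuasicoherent (OEtRing X)) where
  exists_zero := by
    haveI : (unitModEt X).IsQuasicoherent := Groth.L23.FLF.isQuasicoherent_unit X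
    refine ⟨kernel (𝟙 (unitModEt X)), isZero_kernel_of_mono _, ?_⟩
    exact Groth.L23.QcClosure.isQuasicoherent_kernel _
  kernels_le := by
    intro Z hZ
    obtain ⟨f, k, hk, hA, hB⟩ := hZ
    exact ObjectProperty.prop_of_iso (SheafOfModules.isQuasicoherent (OEtRing X))
      ((kernelIsKernel f).conePointUniqueUpToIso hk) (@Groth.L23.QcClosure.isQuasicoherent_kernel _ _ _ _ hA hB f)
  cokernels_le := by
    intro Z hZ
    obtain ⟨f, k, hk, hA, hB⟩ := hZ
    let C := ShortComplex.mk f (cokernel.π f) (cokernel.condition f)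
    haveI : C.X₁.IsQuasicoherent := hA
    haveI : C.X₂.IsQuasicoherent := hB
    haveI : Epi C.g := inferInstanceAs (Epi (cokernel.π f))
    exact ObjectProperty.prop_of_iso (SheafOfModules.isQuasicoherent (OEtRing X))
      ((cokernelIsCokernel f).coconePointUniqueUpToIso hk)
      (Groth.L23.QcClosure.isQuasicoherent_of_epi C (C.exact_of_g_is_cokernel (cokernelIsCokernel f)))
  prop_X₂_of_shortExact hS h₁ h₃ := Groth.L09.ModEt.isQuasicoherent_middle hS h₁ h₃

variable {f : X ⟶ Y} (hf : Representable f)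

/-- A sheaf with quasi-coherent sections vanishing on pulled back affine objects is zero. -/
theorem isZero_of_sections (hY : IsAlgSpace Y) (hfa : RepWith @IsAffineHom f) (M : ModEt X) [M.IsQuasicoherent]
    (h : ∀ (W : EtOver Y), IsAffine W.obj.left.left → ∀ s : sectModEt M (EtOver.bcObj hf W), s = 0) : IsZero M := by
  rw [IsZero.iff_id_eq_zero]
  refine (SheafOfModules.forget (OEtRing X)).map_injective
    (PresheafOfModules.hom_ext fun Z => ModuleCat.hom_ext (LinearMap.ext fun (s : sectModEt M Z.unop) => ?_))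
  show s = 0
  choose E hE W hW g c hg using Groth.L23.FP.exists_common_bcObj hY hf hfa Z.unop
  refine eq_of_cover M (c := g) (fun e => ⟨e, hg e⟩) fun e => ?_
  rw [map_zero]
  haveI := hE e
  haveI := hW e
  haveI := isAffine_bcObj hf hfa (E e)
  letI := (pb (c e)).toAlgebra
  obtain ⟨x, hx⟩ := (bc_of_isQuasicoherent M (c e)).2 (res M (g e) s)
  rw [← hx]
  clear hx
  induction x using TensorProduct.induction_on with
  | zero => exact map_zero _
  | tmul b m => rw [θ_tmul, h (E e) (hE e) m, map_zero, smul_zero]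
  | add a b ha hb => rw [map_add, ha, hb, add_zero]

theorem exists_section_preimage {A B : ModEt Y} (p : A ⟶ B) [Epi p] {W : EtOver Y} (z : sectModEt B W)
    (w : ↥W.obj.left.left) : ∃ (V : EtOver Y) (_ : IsAffine V.obj.left.left) (g : V ⟶ W),
      w ∈ Set.range g.hom.left.left ∧ ∃ a, app₀ p V a = res B g z := by
  obtain ⟨V, hV, g, hw, a, ha⟩ := Groth.L23.EpiLoc.exists_local_lift p z w
  exact ⟨V, hV, g, hw, a, ha⟩

/-- An exact spot of a complex lifts cycles locally. -/
theorem exists_local_boundary (C : ShortComplex (ModEt Y)) (hC : C.Exact) {W : EtOver Y} (z : sectModEt C.X₂ W)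
    (hz : app₀ C.g W z = 0) (w : ↥W.obj.left.left) : ∃ (V : EtOver Y) (_ : IsAffine V.obj.left.left) (g : V ⟶ W),
      w ∈ Set.range g.hom.left.left ∧ ∃ a, app₀ C.f V a = res C.X₂ g z := by
  have h0 : (sec W C.X₂).symm z ≫ C.g = 0 := by
    apply (sec W C.X₃).injective
    rw [sec_comp, Equiv.apply_symm_apply, sec_zero]
    exact hz
  obtain ⟨A', π, hπ, x, hx⟩ := (ShortComplex.exact_iff_exact_up_to_refinements C).1 hC ((sec W C.X₂).symm z) h0
  haveI := hπ
  obtain ⟨V, hV, g, hw, a, ha⟩ := exists_section_preimage π (sec W (ModEtGroth.gen W) (𝟙 _)) w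
  refine ⟨V, hV, g, hw, app₀ x V a, ?_⟩
  have h1 := congrArg (fun k => app₀ k V a) hx
  simp only [Groth.L23.QcClosure.app₀_comp] at h1
  rw [← h1, ha, app₀_res]
  refine congrArg (res C.X₂ g) ?_
  exact ((sec_comp (𝟙 _) ((sec W C.X₂).symm z)).symm.trans (congrArg (sec W C.X₂) (Category.id_comp _))).trans
    ((sec W C.X₂).apply_symm_apply z)

theorem homologyπ_eq_zero {A : Type*} [Category A] [Abelian A] (K : CochainComplex A ℤ) {T : A} (z : T ⟶ K.X 0)
    (hz : z ≫ K.d 0 1 = 0) (b : T ⟶ K.X (-1)) (hb : b ≫ K.d (-1) 0 = z) :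
    K.liftCycles z 1 (by simp) hz ≫ K.homologyπ 0 = 0 :=
  HomologicalComplex.liftCycles_homologyπ_eq_zero_of_boundary K z 1 (by simp) b hb.symm

set_option maxHeartbeats 1600000 in
/-- Cohomology classes over a pulled back object vanish when the direct image is acyclic. -/
theorem eq_zero_of_acyclic (I : CochainComplex (ModEt X) ℤ) [I.IsKInjective]
    (hI : DCoh.IsQCohDMod (OEtRing X) (DerivedCategory.Q.obj I))
    (hac : (((pushModEt hf).mapHomologicalComplex (ComplexShape.up ℤ)).obj I).ExactAt 0)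
    (W : EtOver Y) [IsAffine (EtOver.bcObj hf W).obj.left.left]
    (s : sectModEt (HS (DerivedCategory.Q.obj I) 0) (EtOver.bcObj hf W)) : s = 0 := by
  haveI := enoughKInj (X := X)
  haveI := ModEtGroth.isGrothendieckAbelian (X := X)
  haveI : HasProductsOfShape ℕ (DModEt X) := DerivedProd.hasProductsOfShape
  let W' := EtOver.bcObj hf W
  have hb := ClsBij.bijective_cls (SpRlim.isRlimVia hI) (ModEtGroth.gen W') fun i => by
    haveI : (DCoh.HDMod (OEtRing X) (DerivedCategory.Q.obj I) i).IsQuasicoherent := hI i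
    exact small_gen W' (DCoh.HDMod (OEtRing X) (DerivedCategory.Q.obj I) i)
  obtain ⟨ξ, hξ⟩ := hb.2 ((sec W' (HS (DerivedCategory.Q.obj I) 0)).symm s)
  obtain ⟨ψ, hψ⟩ := (CochainComplex.IsKInjective.Qh_map_bijective
    ((HomotopyCategory.quotient (ModEt X) (ComplexShape.up ℤ)).obj ((CochainComplex.singleFunctor (ModEt X) 0).obj (ModEtGroth.gen W')))
    I).2 ξ
  obtain ⟨φ, rfl⟩ := (HomotopyCategory.quotient (ModEt X) (ComplexShape.up ℤ)).map_surjective ψ
  have hφ : DerivedCategory.Q.map φ = ξ := hψ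
  let z : ModEtGroth.gen W' ⟶ I.X 0 := (HomologicalComplex.singleObjXSelf (ComplexShape.up ℤ) 0 (ModEtGroth.gen W')).inv ≫ φ.f 0
  have hz : z ≫ I.d 0 1 = 0 := by
    simp only [z, Category.assoc]
    rw [φ.comm 0 1]
    simp [HomologicalComplex.single_obj_d]
  have hφ' : φ = HomologicalComplex.mkHomFromSingle (c := ComplexShape.up ℤ) z (fun j hj => by
      obtain rfl : (0 : ℤ) + 1 = j := hj
      exact hz) := by
    apply HomologicalComplex.from_single_hom_ext
    rw [HomologicalComplex.mkHomFromSingle_f]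
    simp [z]
  have hclass : (sec W' (HS (DerivedCategory.Q.obj I) 0)).symm s =
      I.liftCycles z 1 (by simp) hz ≫ I.homologyπ 0 ≫ (homologyFunctorFactors (ModEt X) 0).inv.app I := by
    rw [← hξ, ← hφ, hφ']
    exact LocalDetect.cls_Q z hz
  let C : ShortComplex (ModEt Y) :=
    (((pushModEt hf).mapHomologicalComplex (ComplexShape.up ℤ)).obj I).sc' (-1) 0 1
  have hC : C.Exact := (HomologicalComplex.exactAt_iff' _ (-1) 0 1 (by simp) (by simp)).1 hac
  let ζ : sectModEt C.X₂ W := sec W' (I.X 0) z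
  have hζ : app₀ C.g W ζ = 0 := by
    show app₀ (I.d 0 1) W' (sec W' (I.X 0) z) = 0
    exact (sec_comp z (I.d 0 1)).symm.trans (by rw [hz, sec_zero])
  choose V hV g hw a ha using exists_local_boundary C hC ζ hζ
  refine eq_of_cover (HS (DerivedCategory.Q.obj I) 0) (c := fun w => EtOver.bcMap hf (g w)) (fun x => ?_) fun w => ?_
  · obtain ⟨v, hv⟩ := hw ((EtOver.bcπ hf W).left x)
    obtain ⟨v', hv', -⟩ := Scheme.exists_preimage_of_isPullback (EtOver.isPullback_bcMap_left hf (g _)) x v hv.symm
    exact ⟨_, v', hv'⟩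
  rw [map_zero]
  let z' : ModEtGroth.gen (EtOver.bcObj hf (V w)) ⟶ I.X 0 := genMap (EtOver.bcMap hf (g w)) ≫ z
  have hz' : z' ≫ I.d 0 1 = 0 := by simp only [z', Category.assoc, hz, comp_zero]
  have hbd : (sec (EtOver.bcObj hf (V w)) (I.X (-1))).symm (a w) ≫ I.d (-1) 0 = z' := by
    apply (sec (EtOver.bcObj hf (V w)) (I.X 0)).injective
    rw [sec_comp, Equiv.apply_symm_apply, sec_genMap]
    exact ha w
  have h0 := homologyπ_eq_zero I z' hz' _ hbd
  have h2 : genMap (EtOver.bcMap hf (g w)) ≫ (sec W' (HS (DerivedCategory.Q.obj I) 0)).symm s = 0 := by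
    rw [hclass, ← Category.assoc (genMap _), HomologicalComplex.comp_liftCycles, reassoc_of% h0, zero_comp]
  have h3 := congrArg (sec (EtOver.bcObj hf (V w)) (HS (DerivedCategory.Q.obj I) 0)) h2
  rw [sec_genMap, Equiv.apply_symm_apply, sec_zero] at h3
  exact h3

include hf in
theorem isIso_of_isIso_map (hY : IsAlgSpace Y) (hfa : RepWith @IsAffineHom f) [HasRpushModEtD hf]
    {E F : DModEt X} (hE : DCoh.IsQCohDMod (OEtRing X) E) (hF : DCoh.IsQCohDMod (OEtRing X) F) (α : E ⟶ F)
    (hα : IsIso ((RpushModEtD hf).map α)) : IsIso α := by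
  haveI := enoughKInj (X := X)
  haveI := isWeakSerre X
  obtain ⟨C, g, h, hT⟩ := distinguished_cocone_triangle α
  have hC : DCoh.IsQCohDMod (OEtRing X) C := by
    haveI : (WSerre.cohIn (SheafOfModules.isQuasicoherent (OEtRing X))).IsClosedUnderIsomorphisms :=
      ⟨fun e hK j => ObjectProperty.prop_of_iso _ ((homologyFunctor (ModEt X) j).mapIso e) (hK j)⟩
    haveI : (WSerre.cohIn (SheafOfModules.isQuasicoherent (OEtRing X))).IsTriangulated :=
      (WSerreLib.cohIn_isTriangulated (SheafOfModules.isQuasicoherent (OEtRing X))).1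
    exact ObjectProperty.ext_of_isTriangulatedClosed₃ (WSerre.cohIn (SheafOfModules.isQuasicoherent (OEtRing X))) _ hT hE hF
  let R := RpushModEtD hf
  let a := (pushModEtKh hf).totalRightDerivedUnit DerivedCategory.Qh (HomotopyCategory.quasiIso (ModEt X) (ComplexShape.up ℤ))
  obtain ⟨δ, hT'⟩ := RDerTri.exists_triangle (F := pushModEt hf) a _ hT
  have hRC : IsZero (R.obj C) := (Triangle.isZero₃_iff_isIso₁ _ hT').2 hα
  suffices IsZero C from (Triangle.isZero₃_iff_isIso₁ _ hT).1 this
  rw [IsZero.iff_id_eq_zero]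
  haveI : IsIso (0 : C ⟶ C) := by
    rw [DerivedCategory.isIso_iff]
    intro i
    suffices hz : IsZero ((homologyFunctor (ModEt X) i).obj C) from hz.isIso hz _
    refine IsZero.of_iso ?_ (hShiftIso C i 0 i (by omega)).symm
    obtain ⟨I, hI, ⟨e⟩⟩ := LocalDetect.exists_rep (C⟦i⟧)
    haveI := hI
    haveI hqI : DCoh.IsQCohDMod (OEtRing X) (DerivedCategory.Q.obj I) := fun j =>
      ObjectProperty.prop_of_iso (SheafOfModules.isQuasicoherent (OEtRing X))
        ((homologyFunctor (ModEt X) j).mapIso e).symm (isQCoh_shift hC i j)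
    haveI : (DCoh.HDMod (OEtRing X) (DerivedCategory.Q.obj I) 0).IsQuasicoherent := hqI 0
    refine IsZero.of_iso ?_ ((homologyFunctor (ModEt X) 0).mapIso e).symm
    refine isZero_of_sections hf hY hfa (DCoh.HDMod (OEtRing X) (DerivedCategory.Q.obj I) 0) fun W hW s => ?_
    haveI := isAffine_bcObj hf hfa W
    refine eq_zero_of_acyclic hf I hqI ?_ W s
    rw [HomologicalComplex.exactAt_iff_isZero_homology]
    haveI := KInjDerived.isIso_app_quotient a I
    obtain ⟨e'⟩ := RDerTri.nonempty_obj_shift (F := pushModEt hf) a C i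
    have hz : IsZero (R.obj (DerivedCategory.Qh.obj ((HomotopyCategory.quotient (ModEt X) (ComplexShape.up ℤ)).obj I))) :=
      ((CategoryTheory.shiftFunctor _ i).map_isZero hRC).of_iso
        (R.mapIso ((quotientCompQhIso (ModEt X)).app I ≪≫ e) ≪≫ e')
    have hz' := hz.of_iso (asIso (a.app ((HomotopyCategory.quotient (ModEt X) (ComplexShape.up ℤ)).obj I)))
    exact ((homologyFunctor (ModEt Y) 0).map_isZero hz').of_iso
      ((homologyFunctorFactors (ModEt Y) 0).app (((pushModEt hf).mapHomologicalComplex (ComplexShape.up ℤ)).obj I)).symm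
  exact (IsIso.inv_hom_id (0 : C ⟶ C)).symm.trans comp_zero

end Groth.L23.AffPushReflect
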