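import Groth.Agent.L09.ElemSq.Basic
import Groth.Agent.L09.ModEt.Exact
import Groth.Agent.L23.Points
import Mathlib.Algebra.Homology.ShortComplex.Abelian

/-!
# Coverings attached to an elementary distinguished square, and short exactness via sections
-/

universe u

open CategoryTheory CategoryTheory.Limits AlgebraicGeometry Opposite AlgSp TopologicalSpace

set_option autoImplicit false
set_option linter.style.haveILetI false
set_option backward.isDefEq.respectTransparency false
set_option backward.isDefEq.respectTransparency.types false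

noncomputable section

namespace Groth.L23.MV

open Groth.L09.ModEt

variable {S : Scheme.{u}}

section Sections

variable {X : Sp S}

theorem sapp_comp {A B C : ModEt X} (f : A ⟶ B) (g : B ⟶ C) (E : EtOver X) (x : sectModEt A E) :
    sapp (f ≫ g) E x = sapp g E (sapp f E x) := rfl

theorem sapp_zero {A B : ModEt X} (E : EtOver X) (x : sectModEt A E) :
    sapp (0 : A ⟶ B) E x = 0 := rfl

theorem sapp_add {A B : ModEt X} (f g : A ⟶ B) (E : EtOver X) (x : sectModEt A E) :
    sapp (f + g) E x = sapp f E x + sapp g E x := rfl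

theorem sapp_neg {A B : ModEt X} (f : A ⟶ B) (E : EtOver X) (x : sectModEt A E) :
    sapp (-f) E x = -sapp f E x := rfl

theorem hom_ext_sapp {A B : ModEt X} {f g : A ⟶ B} (h : ∀ E x, sapp f E x = sapp g E x) : f = g :=
  (SheafOfModules.forget (OEtRing X)).map_injective
    (PresheafOfModules.hom_ext fun Z => ModuleCat.hom_ext (LinearMap.ext fun x => h Z.unop x))

theorem sapp_id {A : ModEt X} (E : EtOver X) (x : sectModEt A E) : sapp (𝟙 A) E x = x := rfl

theorem mono_of_injective {A B : ModEt X} (f : A ⟶ B) (h : ∀ E, Function.Injective (sapp f E)) : Mono f :=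
  ⟨fun a b e => hom_ext_sapp fun E x => h E (by rw [← sapp_comp, ← sapp_comp, e])⟩

theorem injective_of_mono {A B : ModEt X} (f : A ⟶ B) [Mono f] (E : EtOver X) : Function.Injective (sapp f E) :=
  (ModuleCat.mono_iff_injective ((SheafOfModules.evaluation.{u + 1} (OEtRing X) (op E)).map f)).1 inferInstance

/-- Local surjectivity on sections gives an epimorphism. -/
theorem epi_of_locally_surjective {A B : ModEt X} (f : A ⟶ B)
    (h : ∀ (E : EtOver X) (z : sectModEt B E), ∃ (ι : Type) (V : ι → EtOver X) (c : ∀ i, V i ⟶ E),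
      IsCover c ∧ ∀ i, ∃ y, sapp f (V i) y = res B (c i) z) : Epi f :=
  ⟨fun {G} a b e => hom_ext_sapp fun E z => by
    obtain ⟨ι, V, c, hc, hy⟩ := h E z
    refine eq_of_cover G hc fun i => ?_
    obtain ⟨y, hy⟩ := hy i
    rw [← sapp_res, ← sapp_res, ← hy, ← sapp_comp, ← sapp_comp, e]⟩

theorem epi_of_lift {A B K C : ModEt X} (f : A ⟶ B) (g : B ⟶ C) (k : K ⟶ B) [Mono k] (hk : k ≫ g = 0)
    (l : A ⟶ K) (hl : l ≫ k = f) (he : ∀ E x, sapp g E x = 0 → ∃ y, sapp f E y = x) : Epi l :=
  epi_of_locally_surjective _ fun E z => ⟨Unit, fun _ => E, fun _ => 𝟙 E, fun x => ⟨(), x, rfl⟩, fun _ => by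
    obtain ⟨y, hy⟩ := he E (sapp k E z) (by rw [← sapp_comp, hk, sapp_zero])
    refine ⟨y, injective_of_mono k E ?_⟩
    rw [res_id, ← sapp_comp, hl, hy]⟩

/-- Left exactness on sections and local surjectivity give a short exact sequence. -/
theorem shortExact_of_sapp (C : ShortComplex (ModEt X)) (hi : ∀ E, Function.Injective (sapp C.f E))
    (he : ∀ E x, sapp C.g E x = 0 → ∃ y, sapp C.f E y = x)
    (hs : ∀ (E : EtOver X) (z : sectModEt C.X₃ E), ∃ (ι : Type) (V : ι → EtOver X) (c : ∀ i, V i ⟶ E),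
      IsCover c ∧ ∀ i, ∃ y, sapp C.g (V i) y = res C.X₃ (c i) z) : C.ShortExact := by
  haveI := mono_of_injective C.f hi
  haveI := epi_of_locally_surjective C.g hs
  have hexact : C.Exact := by
    rw [ShortComplex.exact_iff_epi_kernel_lift]
    exact epi_of_lift C.f C.g (kernel.ι C.g) (kernel.condition C.g) _ (kernel.lift_ι _ _ _) he
  exact { exact := hexact }

/-- The variant with the maps given explicitly. -/
theorem shortExact_mk_of_sapp {M N P : ModEt X} (f : M ⟶ N) (g : N ⟶ P) (w : f ≫ g = 0)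
    (hi : ∀ E, Function.Injective (sapp f E)) (he : ∀ E x, sapp g E x = 0 → ∃ y, sapp f E y = x)
    (hs : ∀ (E : EtOver X) (z : sectModEt P E), ∃ (ι : Type) (V : ι → EtOver X) (c : ∀ i, V i ⟶ E),
      IsCover c ∧ ∀ i, ∃ y, sapp g (V i) y = res P (c i) z) : (ShortComplex.mk f g w).ShortExact :=
  shortExact_of_sapp (ShortComplex.mk f g w) hi he hs

variable {A B : ModEt X}

theorem sapp_biprod_ext {E : EtOver X} {x y : sectModEt (A ⊞ B) E}
    (h₁ : sapp biprod.fst E x = sapp biprod.fst E y) (h₂ : sapp biprod.snd E x = sapp biprod.snd E y) : x = y := by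
  have e : ∀ z : sectModEt (A ⊞ B) E,
      z = sapp biprod.inl E (sapp biprod.fst E z) + sapp biprod.inr E (sapp biprod.snd E z) := fun z =>
    (sapp_id (A := A ⊞ B) E z).symm.trans ((congrArg (fun f => sapp f E z) (biprod.total (X := A) (Y := B)).symm).trans
      ((sapp_add (biprod.fst ≫ biprod.inl) (biprod.snd ≫ biprod.inr) E z).trans
        (congrArg₂ (· + ·) (sapp_comp _ _ E z) (sapp_comp _ _ E z))))
  rw [e x, e y, h₁, h₂]

theorem sapp_desc {C : ModEt X} (f : A ⟶ C) (g : B ⟶ C) (E : EtOver X) (x : sectModEt (A ⊞ B) E) :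
    sapp (biprod.desc f g) E x = sapp f E (sapp biprod.fst E x) + sapp g E (sapp biprod.snd E x) := by
  rw [biprod.desc_eq, sapp_add, sapp_comp, sapp_comp]

theorem sapp_lift {C : ModEt X} (f : C ⟶ A) (g : C ⟶ B) (E : EtOver X) (x : sectModEt C E) :
    sapp biprod.fst E (sapp (biprod.lift f g) E x) = sapp f E x ∧
      sapp biprod.snd E (sapp (biprod.lift f g) E x) = sapp g E x := by
  rw [← sapp_comp, ← sapp_comp, biprod.lift_fst, biprod.lift_snd]
  exact ⟨rfl, rfl⟩

theorem exists_sapp_biprod (E : EtOver X) (a : sectModEt A E) (b : sectModEt B E) :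
    ∃ x : sectModEt (A ⊞ B) E, sapp biprod.fst E x = a ∧ sapp biprod.snd E x = b := by
  refine ⟨sapp biprod.inl E a + sapp biprod.inr E b, ?_, ?_⟩
  · rw [map_add, ← sapp_comp, ← sapp_comp, biprod.inl_fst, biprod.inr_fst, sapp_id, sapp_zero, add_zero]
  · rw [map_add, ← sapp_comp, ← sapp_comp, biprod.inl_snd, biprod.inr_snd, sapp_id, sapp_zero, zero_add]

end Sections

section Cover

variable {X : AlgSp.Space S} {U V : EtOver X.obj}

/-- The open part is a monomorphism, so maps to it in the site are unique. -/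
theorem subsingleton_hom_open (hsq : IsElemDistSq U.obj.hom V.obj.hom) {T : EtOver X.obj} (a b : T ⟶ U) : a = b := by
  refine EtOver.hom_ext _ _ ((yon S).map_injective ?_)
  haveI := mono_of_repWith_openImmersion hsq.1
  exact (cancel_mono U.obj.hom).1 ((EtOver.w a).trans (EtOver.w b).symm)

/-- A compatible point of `V` over a point of `E` shows that it is hit by the product. -/
theorem range_subset_prodSnd {P E : EtOver X.obj} {R : Over S} (r : R ⟶ E.obj.left) (a : (yon S).obj R ⟶ (yon S).obj P.obj.left)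
    (ha : a ≫ P.obj.hom = (yon S).map r ≫ E.obj.hom) :
    Set.range r.left ⊆ Set.range (prod.snd : P ⨯ E ⟶ E).hom.left.left := by
  obtain ⟨l, hl₁, hl₂⟩ := (E.property.1.isPullback P.obj.hom).exists_lift ((yon S).map r) a ha.symm
  obtain ⟨l₀, rfl⟩ := (yon S).map_surjective l
  rintro _ ⟨z, rfl⟩
  refine ⟨(prod.lift (EtOver.prodFst P E) (EtOver.prodSnd P E)).hom.left.left (l₀.left z), ?_⟩
  rw [← Functor.relativelyRepresentable.map_fst', ← Functor.map_comp] at hl₁
  have h₂ : (prod.lift (EtOver.prodFst P E) (EtOver.prodSnd P E)) ≫ (prod.snd : P ⨯ E ⟶ E) = EtOver.prodSnd P E :=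
    prod.lift_snd _ _
  exact (congrArg (fun k => k.hom.left.left (l₀.left z)) h₂).trans
    (congrArg (fun k : R ⟶ E.obj.left => k.left z) ((yon S).map_injective hl₁))

/-- The two parts of the square cover every object. -/
theorem mem_range_of_square (hsq : IsElemDistSq U.obj.hom V.obj.hom) (E : EtOver X.obj) (x : ↥E.obj.left.left) :
    x ∈ Set.range (prod.snd : U ⨯ E ⟶ E).hom.left.left ∨ x ∈ Set.range (prod.snd : V ⨯ E ⟶ E).hom.left.left := by
  obtain ⟨hj, -, T, P, i, p₁, p₂, ⟨hi, hir, -⟩, sq, hiso⟩ := hsq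
  let z : Spec (E.obj.left.left.residueField x) ⟶ E.obj.left.left := E.obj.left.left.fromSpecResidueField x
  let r : Over.mk (z ≫ E.obj.left.hom) ⟶ E.obj.left := Over.homMk z rfl
  have hr : ∀ q, r.left q = x := fun q => Scheme.fromSpecResidueField_apply _ _
  obtain ⟨q₀⟩ : Nonempty ↥(Over.mk (z ≫ E.obj.left.hom)).left := inferInstanceAs (Nonempty (Spec (E.obj.left.left.residueField x)))
  have hx : x ∈ Set.range r.left := ⟨q₀, hr q₀⟩
  let y := (yon S).map r ≫ E.obj.hom
  by_cases hU : Points.ofPt E.obj.hom x ∈ Set.range (Points.map U.obj.hom)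
  · obtain ⟨a, ha⟩ : ∃ a, a ≫ U.obj.hom = y := (Groth.L23.exists_factor_iff hj y).2 fun q hq => by
      rw [range_map_yon] at hq
      obtain ⟨v, rfl⟩ := hq
      rw [ofPt_comp r E.obj.hom v, hr]
      exact hU
    exact Or.inl (range_subset_prodSnd r a ha hx)
  · haveI : IsReduced (Over.mk (z ≫ E.obj.left.hom)).left :=
      inferInstanceAs (IsReduced (Spec (E.obj.left.left.residueField x)))
    have hred : IsReducedSp ((yon S).obj (Over.mk (z ≫ E.obj.left.hom))) :=
      ⟨_, 𝟙 _, repWith_of_isIso _, repWith_of_isIso _, inferInstance⟩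
    obtain ⟨t, ht⟩ := exists_factor_of_range_subset hi hred y (by
      rintro _ ⟨q, rfl⟩
      obtain ⟨q', rfl⟩ := (Points.schemeEquiv (Over.mk (z ≫ E.obj.left.hom))).surjective q
      refine hir.ge ?_
      show Points.map y (Points.ofScheme (Over.mk (z ≫ E.obj.left.hom)) q') ∈ (Set.range (Points.map U.obj.hom))ᶜ
      rw [← Points.ofPt_eq_map_ofScheme, ofPt_comp r E.obj.hom q', hr]
      exact hU)
    haveI := hiso
    refine Or.inr (range_subset_prodSnd r (t ≫ inv p₁ ≫ p₂) ?_ hx)
    rw [Category.assoc, Category.assoc, ← sq.w, IsIso.inv_hom_id_assoc, ht]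

/-- Two maps to the chart agree locally, or land in the open part. -/
theorem exists_cover_of_maps (hsq : IsElemDistSq U.obj.hom V.obj.hom) {T : EtOver X.obj} (a b : T ⟶ V)
    (t : ↥T.obj.left.left) : ∃ O : T.obj.left.left.Opens, t ∈ O ∧
      (openι T O ≫ a = openι T O ≫ b ∨ Nonempty (Groth.L09.ModEt.openObj T O ⟶ U)) := by
  obtain ⟨O, ht, h⟩ := Groth.L09.ElemSq.cover_of_eq (IsAlgSpace.yon_obj V.obj.left) X.property hsq
    ((yon S).map a.hom.left) ((yon S).map b.hom.left) ((EtOver.w a).trans (EtOver.w b).symm) t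
  refine ⟨O, ht, h.imp (fun e => EtOver.hom_ext _ _ ((yon S).map_injective ?_)) fun ⟨v, hv⟩ => ?_⟩
  · show (yon S).map (_ ≫ _) = (yon S).map (_ ≫ _)
    rw [Functor.map_comp, Functor.map_comp]
    exact e
  · obtain ⟨v₀, rfl⟩ := (yon S).map_surjective v
    refine ⟨EtOver.homMk v₀ ?_⟩
    change (yon S).map v₀ ≫ U.obj.hom = (yon S).map _ ≫ T.obj.hom
    exact hv.trans (congrArg (_ ≫ ·) (EtOver.w a))

end Cover

end Groth.L23.MV
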