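import Groth.Agent.L23.SpRlimSect

/-!
# The derived limit of a surjective system of quasi-coherent modules is its limit
-/

universe u

open CategoryTheory CategoryTheory.Limits AlgebraicGeometry Opposite AlgSp DerivedCategory CategoryTheory.Pretriangulated

set_option autoImplicit false
set_option linter.style.haveILetI false
set_option backward.isDefEq.respectTransparency false
set_option backward.isDefEq.respectTransparency.types false

attribute [local instance] HasDerivedCategory.standard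

noncomputable section

namespace Groth.L23.SpRlimSingle

open Groth.L09.ModEt Groth.L23.CohNbhd Groth.L10 Groth.L23.SpRlim Groth.L23.SpRlimSect

variable {S : Scheme.{u}} {X : Sp S}

local notation "S0" => singleFunctor (ModEt X) 0

/-- The cohomology of a module in degree zero. -/
abbrev h0 (M : ModEt X) : HS ((S0).obj M) 0 ≅ M := (singleFunctorCompHomologyFunctorIso (ModEt X) 0).app M

theorem h0_nat {M N : ModEt X} (f : M ⟶ N) :
    (DerivedCategory.homologyFunctor (ModEt X) 0).map ((S0).map f) ≫ (h0 N).hom = (h0 M).hom ≫ f :=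
  (singleFunctorCompHomologyFunctorIso (ModEt X) 0).hom.naturality f

theorem isZero_H_single (M : ModEt X) (q : ℤ) (hq : q ≠ 0) : IsZero (HS ((S0).obj M) q) :=
  (HomologicalComplex.isZero_single_obj_homology (ComplexShape.up ℤ) 0 M q hq).of_iso
    ((homologyFunctorFactors _ q).app _)

theorem isQuasicoherent_of_isZero {Z : ModEt X} (hZ : IsZero Z) (M : ModEt X) (hM : M.IsQuasicoherent) :
    Z.IsQuasicoherent := by
  haveI : Mono (0 : Z ⟶ M) := ⟨fun a b _ => hZ.eq_of_tgt a b⟩
  let C := ShortComplex.mk (0 : Z ⟶ M) (𝟙 M) zero_comp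
  have hC : C.Exact := C.exact_of_f_is_kernel
    (KernelFork.IsLimit.ofι' (0 : Z ⟶ M) zero_comp fun k hk => ⟨0, by
      rw [Category.comp_id] at hk
      rw [hk, zero_comp]⟩)
  exact isQuasicoherent_left hC inferInstance hM hM

theorem isQCoh_single {M : ModEt X} (hM : M.IsQuasicoherent) : DCoh.IsQCohDMod (OEtRing X) ((S0).obj M) := fun q => by
  by_cases hq : q = 0
  · subst hq
    exact ObjectProperty.prop_of_iso (SheafOfModules.isQuasicoherent (OEtRing X)) (h0 M).symm hM
  · exact isQuasicoherent_of_isZero (isZero_H_single M q hq) M hM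

theorem app₀_comp {A B C : ModEt X} (f : A ⟶ B) (g : B ⟶ C) (W : EtOver X) (s : sectModEt A W) :
    app₀ (f ≫ g) W s = app₀ g W (app₀ f W s) := rfl

theorem app₀_id {A : ModEt X} (W : EtOver X) (s : sectModEt A W) : app₀ (𝟙 A) W s = s := rfl

theorem app₀_iso_inv_hom {A B : ModEt X} (e : A ≅ B) (W : EtOver X) (s : sectModEt B W) :
    app₀ e.hom W (app₀ e.inv W s) = s := by
  rw [← app₀_comp, e.inv_hom_id, app₀_id]

theorem app₀_iso_hom_inv {A B : ModEt X} (e : A ≅ B) (W : EtOver X) (s : sectModEt A W) :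
    app₀ e.inv W (app₀ e.hom W s) = s := by
  rw [← app₀_comp, e.hom_inv_id, app₀_id]

theorem isIso_of_bijective {A B : ModEt X} (f : A ⟶ B) (h : ∀ W, Function.Bijective (app₀ f W)) : IsIso f := by
  haveI : ∀ Z : (EtOver X)ᵒᵖ, IsIso (f.val.app Z) := fun Z =>
    (ConcreteCategory.isIso_iff_bijective (f.val.app Z)).2 (h Z.unop)
  haveI : IsIso f.val :=
    ⟨(PresheafOfModules.isoMk (fun Z => asIso (f.val.app Z)) (fun {Z Z'} g => f.val.naturality g)).inv,
      (PresheafOfModules.isoMk (fun Z => asIso (f.val.app Z)) (fun {Z Z'} g => f.val.naturality g)).hom_inv_id,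
      (PresheafOfModules.isoMk (fun Z => asIso (f.val.app Z)) (fun {Z Z'} g => f.val.naturality g)).inv_hom_id⟩
  exact (isIso_iff_of_reflects_iso f (SheafOfModules.forget (OEtRing X))).1 this

variable (M : ℕ → ModEt X) (t : ∀ n, M (n + 1) ⟶ M n) (hM : ∀ n, (M n).IsQuasicoherent) (ht : ∀ n, Epi (t n))

include ht in
theorem epi_H (q : ℤ) (n : ℕ) :
    Epi ((DerivedCategory.homologyFunctor (ModEt X) q).map ((S0).map (t n))) := by
  by_cases hq : q = 0
  · subst hq
    haveI := ht n
    have e : (DerivedCategory.homologyFunctor (ModEt X) 0).map ((S0).map (t n)) =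
        (h0 (M (n + 1))).hom ≫ t n ≫ (h0 (M n)).inv := by
      rw [← Category.assoc, ← h0_nat, Category.assoc, Iso.hom_inv_id, Category.comp_id]
    rw [e]
    infer_instance
  · exact ⟨fun a b _ => (isZero_H_single (M n) q hq).eq_of_src a b⟩

omit M t in
/-- A comparison map is bijective when it matches a system with the limit property on sections. -/
theorem isIso_of_conj {M : ℕ → ModEt X} (t : ∀ n, M (n + 1) ⟶ M n) {P : ModEt X} (π : ∀ n, P ⟶ M n)
    (hw : ∀ n, π (n + 1) ≫ t n = π n)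
    (hext : ∀ (W : EtOver X) (x y : sectModEt P W), (∀ n, app₀ (π n) W x = app₀ (π n) W y) → x = y)
    (N : ℕ → ModEt X) (τ : ∀ n, N (n + 1) ⟶ N n)
    (η : ∀ n, N n ≅ M n) (hη : ∀ n, τ n ≫ (η n).hom = (η (n + 1)).hom ≫ t n) {A H : ModEt X} (al : ∀ n, A ⟶ N n)
    (hinj : ∀ (W : EtOver X) (s s' : sectModEt A W), (∀ n, app₀ (al n) W s = app₀ (al n) W s') → s = s')
    (hsurj : ∀ (W : EtOver X) (x : ∀ n, sectModEt (N n) W), (∀ n, app₀ (τ n) W (x (n + 1)) = x n) →
      ∃ s, ∀ n, app₀ (al n) W s = x n)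
    (ι : A ≅ H) (β : ∀ n, H ⟶ M n) (hι : ∀ n, al n ≫ (η n).hom = ι.hom ≫ β n)
    (ψ : H ⟶ P) (hψ : ∀ n, ψ ≫ π n = β n) :
    IsIso ψ := by
  refine isIso_of_bijective ψ fun W => ⟨fun s s' e => ?_, fun x => ?_⟩
  · have hf : ∀ n, ψ ≫ π n = ι.inv ≫ al n ≫ (η n).hom := fun n => by
      rw [hψ, hι, Iso.inv_hom_id_assoc]
    have h1 : app₀ ι.inv W s = app₀ ι.inv W s' := hinj W _ _ fun n => by
      have h3 : app₀ (ι.inv ≫ al n ≫ (η n).hom) W s = app₀ (ι.inv ≫ al n ≫ (η n).hom) W s' := by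
        rw [← hf, app₀_comp, app₀_comp, e]
      rw [app₀_comp, app₀_comp, app₀_comp, app₀_comp] at h3
      have h4 := congrArg (app₀ (η n).inv W) h3
      rwa [app₀_iso_hom_inv, app₀_iso_hom_inv] at h4
    have h5 := congrArg (app₀ ι.hom W) h1
    rwa [app₀_iso_inv_hom, app₀_iso_inv_hom] at h5
  · obtain ⟨r, hr⟩ := hsurj W (fun n => app₀ (η n).inv W (app₀ (π n) W x)) fun n => by
      have hc : (η (n + 1)).inv ≫ τ n = t n ≫ (η n).inv := by
        rw [Iso.inv_comp_eq, ← Category.assoc, ← hη, Category.assoc, Iso.hom_inv_id, Category.comp_id]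
      rw [← app₀_comp, hc, app₀_comp, ← app₀_comp (π (n + 1)), hw]
    refine ⟨app₀ ι.hom W r, hext W _ _ fun n => ?_⟩
    rw [← app₀_comp ψ, hψ, ← app₀_comp, ← hι, app₀_comp, hr, app₀_iso_inv_hom]

theorem ext_limit {M : ℕ → ModEt X} (t : ∀ n, M (n + 1) ⟶ M n) (W : EtOver X)
    (x y : sectModEt (limit (Functor.ofOpSequence t)) W)
    (h : ∀ n, app₀ (limit.π (Functor.ofOpSequence t) (op n)) W x = app₀ (limit.π (Functor.ofOpSequence t) (op n)) W y) :
    x = y :=
  Concrete.isLimit_ext _ (isLimitOfPreserves (SheafOfModules.evaluation.{u + 1} (OEtRing X) (op W))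
    (limit.isLimit (Functor.ofOpSequence t))) x y fun n => h n.unop

theorem limit_w {M : ℕ → ModEt X} (t : ∀ n, M (n + 1) ⟶ M n) (n : ℕ) :
    limit.π (Functor.ofOpSequence t) (op (n + 1)) ≫ t n = limit.π (Functor.ofOpSequence t) (op n) := by
  simpa [Functor.ofOpSequence_map_homOfLE_succ] using limit.w (Functor.ofOpSequence t) (homOfLE n.le_succ).op

include hM ht in
set_option maxHeartbeats 1600000 in
theorem exists_triangle [HasProduct fun n : ℕ => (S0).obj (M n)] :
    ∃ c : (∏ᶜ fun n : ℕ => (S0).obj (M n)) ⟶ ((S0).obj (limit (Functor.ofOpSequence t)))⟦(1 : ℤ)⟧,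
      Triangle.mk (Pi.lift (f := fun n : ℕ => (S0).obj (M n)) fun n : ℕ => (S0).map (limit.π (Functor.ofOpSequence t) (op n)))
        (Pi.lift fun n : ℕ => Pi.π (fun n : ℕ => (S0).obj (M n)) n -
          Pi.π (fun n : ℕ => (S0).obj (M n)) (n + 1) ≫ (S0).map (t n)) c ∈ distTriang _ := by
  obtain ⟨L, f, g, hT⟩ := distinguished_cocone_triangle₁ (Pi.lift fun n : ℕ => Pi.π (fun n : ℕ => (S0).obj (M n)) n -
      Pi.π (fun n : ℕ => (S0).obj (M n)) (n + 1) ≫ (S0).map (t n))
  let a : ∀ n, L ⟶ (S0).obj (M n) := fun n => f ≫ Pi.π _ n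
  have hf : Pi.lift a = f := Pi.hom_ext _ _ fun n => by simp [a]
  have hL : CohCx.IsRlimVia (fun n => (S0).obj (M n)) (fun n => (S0).map (t n)) L a := ⟨g, by rw [hf]; exact hT⟩
  have hK := fun n => isQCoh_single (hM n)
  have hz : ∀ q : ℤ, q ≠ 0 → IsZero (HS L q) := fun q hq => by
    rw [IsZero.iff_id_eq_zero]
    refine (SheafOfModules.forget (OEtRing X)).map_injective
      (PresheafOfModules.hom_ext fun Z => ModuleCat.hom_ext (LinearMap.ext fun (s : sectModEt (HS L q) Z.unop) => ?_))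
    exact eq_zero_of_map_eq_zero hK (epi_H M t ht) hL q Z.unop s fun n => by
      show app₀ ((DerivedCategory.homologyFunctor (ModEt X) q).map (a n)) Z.unop s = 0
      rw [(isZero_H_single (M n) q hq).eq_of_tgt ((DerivedCategory.homologyFunctor (ModEt X) q).map (a n)) 0]
      rfl
  haveI : L.IsGE 0 := (DerivedCategory.isGE_iff L 0).2 fun i hi => hz i (by omega)
  haveI : L.IsLE 0 := (DerivedCategory.isLE_iff L 0).2 fun i hi => hz i (by omega)
  obtain ⟨eL⟩ := exists_iso_single_H L 0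
  let H := (DerivedCategory.homologyFunctor (ModEt X) 0).obj L
  let β : ∀ n, H ⟶ M n := fun n => (S0).preimage (eL.inv ≫ a n)
  have hβ : ∀ n, (S0).map (β n) = eL.inv ≫ a n := fun n => (S0).map_preimage _
  have hw : ∀ n, β (n + 1) ≫ t n = β n := fun n => (S0).map_injective (by
    rw [Functor.map_comp, hβ, hβ, Category.assoc]
    exact congrArg (eL.inv ≫ ·) (TowerStab.rlim_w hL n))
  let ι : HS L 0 ≅ H := (DerivedCategory.homologyFunctor (ModEt X) 0).mapIso eL ≪≫ h0 H
  have hι : ∀ n, (DerivedCategory.homologyFunctor (ModEt X) 0).map (a n) ≫ (h0 (M n)).hom = ι.hom ≫ β n := fun n => by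
    rw [show a n = eL.hom ≫ (S0).map (β n) by rw [hβ, Iso.hom_inv_id_assoc], Functor.map_comp, Category.assoc, h0_nat]
    simp only [ι, Iso.trans_hom, Functor.mapIso_hom, Category.assoc]
    rfl
  let c₀ : Cone (Functor.ofOpSequence t) :=
    { pt := H
      π := NatTrans.ofOpSequence β fun n => by
        simp only [Functor.ofOpSequence_map_homOfLE_succ]
        exact (Category.id_comp _).trans (hw n).symm }
  let ψ : H ⟶ limit (Functor.ofOpSequence t) := limit.lift (Functor.ofOpSequence t) c₀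
  have hψ : ∀ n, ψ ≫ limit.π (Functor.ofOpSequence t) (op n) = β n := fun n => limit.lift_π c₀ (op n)
  haveI : IsIso ψ := isIso_of_conj t (fun n => limit.π (Functor.ofOpSequence t) (op n)) (limit_w t) (ext_limit t) (fun n => HS ((S0).obj (M n)) 0)
    (fun n => (DerivedCategory.homologyFunctor (ModEt X) 0).map ((S0).map (t n))) (fun n => h0 (M n))
    (fun n => h0_nat (t n)) (fun n => (DerivedCategory.homologyFunctor (ModEt X) 0).map (a n))
    (fun W s s' h => injective_sections hK (epi_H M t ht) hL 0 W s s' h)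
    (fun W x hx => exists_sections hK (epi_H M t ht) hL 0 W x hx) ι β hι ψ hψ
  let e : L ≅ (S0).obj (limit (Functor.ofOpSequence t)) := eL ≪≫ (S0).mapIso (asIso ψ)
  have key : ∀ n, (S0).map (limit.π (Functor.ofOpSequence t) (op n)) = e.inv ≫ a n := fun n => by
    rw [← cancel_epi e.hom, Iso.hom_inv_id_assoc]
    refine (Category.assoc _ _ _).trans ((congrArg (eL.hom ≫ ·) (((S0).map_comp ψ _).symm.trans
      ((congrArg (S0).map (hψ n)).trans (hβ n)))).trans (eL.hom_inv_id_assoc _))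
  have key₂ : Pi.lift (f := fun n : ℕ => (S0).obj (M n))
      (fun n : ℕ => (S0).map (limit.π (Functor.ofOpSequence t) (op n))) = e.inv ≫ f :=
    Pi.hom_ext _ _ fun n => by
      rw [Pi.lift_π, key n]
      exact (Category.assoc _ _ _).symm
  refine ⟨g ≫ e.hom⟦(1 : ℤ)⟧', isomorphic_distinguished _ hT _
    (Triangle.isoMk _ _ e.symm (Iso.refl _) (Iso.refl _) ?_ ?_ ?_)⟩
  · exact (Category.comp_id _).trans key₂
  · exact (Category.comp_id _).trans (Category.id_comp _).symm
  · change (g ≫ e.hom⟦(1 : ℤ)⟧') ≫ e.inv⟦(1 : ℤ)⟧' = 𝟙 _ ≫ g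
    rw [Category.assoc, ← Functor.map_comp, e.hom_inv_id, CategoryTheory.Functor.map_id, Category.comp_id, Category.id_comp]

end Groth.L23.SpRlimSingle
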