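import Groth.Agent.L09.Pull.ChartQcoh
import Groth.Agent.L23.MVCover
import Groth.Agent.L23.SpRlimSingle
import Mathlib.Algebra.Category.ModuleCat.Sheaf.PullbackFree
import Groth.Agent.L23.AffPushReflect
import Groth.Agent.L09.EtCoh.OnSite
import Groth.Prelude.Def_AlgSpPerf
import Mathlib.CategoryTheory.Sites.CoverPreserving
import Mathlib.Algebra.Homology.ShortComplex.ExactFunctor

/-!
# The site over an object as the small etale site of its scheme
-/

universe u

open TensorProduct

open CategoryTheory CategoryTheory.Limits AlgebraicGeometry Opposite AlgSp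

set_option autoImplicit false
set_option linter.style.haveILetI false
set_option backward.isDefEq.respectTransparency false
set_option backward.isDefEq.respectTransparency.types false

noncomputable section

namespace Groth.L23.Slice

variable {S : Scheme.{u}} {X : Sp S} (W : EtOver X)

/-- The sheaf represented by the scheme of `W`. -/
abbrev Y : Sp S := (yon S).obj W.obj.left

theorem hW : IsEtaleMor (W.obj.hom : Y W ⟶ X) := isEtaleMor_of_repWith _ W.property

/-- Composition with the structure map. -/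
def pc : EtOver (Y W) ⥤ EtOver X := EtOver.postcomp (W.obj.hom : Y W ⟶ X) (hW W)

/-- The structure map to `W`. -/
def str (E : EtOver (Y W)) : (pc W).obj E ⟶ W :=
  EtOver.homMk ((yon S).preimage E.obj.hom) (by rw [Functor.map_preimage]; rfl)

theorem map_str (E : EtOver (Y W)) : (yon S).map (str W E).hom.left = E.obj.hom :=
  (yon S).map_preimage _

theorem map_comp_str {E E' : EtOver (Y W)} (g : E ⟶ E') :
    (yon S).map (g.hom.left ≫ (str W E').hom.left) = (yon S).map (str W E).hom.left :=
  ((yon S).map_comp g.hom.left (str W E').hom.left).trans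
    ((congrArg ((yon S).map g.hom.left ≫ ·) (map_str W E')).trans ((EtOver.w g).trans (map_str W E).symm))

theorem pc_map_str {E E' : EtOver (Y W)} (g : E ⟶ E') : (pc W).map g ≫ str W E' = str W E :=
  EtOver.hom_ext _ _ ((yon S).map_injective (map_comp_str W g))

theorem exists_affine_over (z : W.obj.left.left) :
    ∃ (A : EtOver (Y W)) (_ : IsAffine A.obj.left.left) (a : A.obj.left.left),
      (str W A).hom.left.left a = z := by
  obtain ⟨_, ⟨(B : W.obj.left.left.Opens), hB, rfl⟩, hzB, -⟩ :=
    W.obj.left.left.isBasis_affineOpens.exists_subset_of_mem_open (Set.mem_univ z) isOpen_univ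
  let b := Groth.L09.ModEt.openι W B
  let A : EtOver (Y W) := EtOver.mk ((yon S).map b.hom.left)
    ((repWith_yon_map_iff @Etale b.hom.left).2 (EtOver.etale_left b))
  have h : (str W A).hom.left = b.hom.left := (yon S).map_injective (map_str W A)
  refine ⟨A, hB, (⟨z, hzB⟩ : B), ?_⟩
  exact congrArg (fun k => k.left (⟨z, hzB⟩ : B)) h

/-- The objects of the small etale site of the scheme of `W` as objects over `W`. -/
def G : EtOver (Y W) ⥤ Over W where
  obj E := Over.mk (str W E)
  map g := Over.homMk ((pc W).map g) (pc_map_str W g)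
  map_id E := Over.OverMorphism.ext ((pc W).map_id E)
  map_comp g h := Over.OverMorphism.ext ((pc W).map_comp g h)

theorem full_aux {E E' : EtOver (Y W)} (m : E.obj.left ⟶ E'.obj.left)
    (hm : m ≫ (yon S).preimage E'.obj.hom = (yon S).preimage E.obj.hom) :
    (yon S).map m ≫ E'.obj.hom = E.obj.hom := by
  have h := congrArg (fun n => (yon S).map n) hm
  simp only [Functor.map_comp, Functor.map_preimage] at h
  exact h

theorem map_left {E E' : EtOver (Y W)} (g : E ⟶ E') : ((G W).map g).left = (pc W).map g := rfl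

theorem pc_map_left {E E' : EtOver (Y W)} (g : E ⟶ E') : ((pc W).map g).hom.left = g.hom.left := rfl

theorem G_w {E E' : EtOver (Y W)} (k : (G W).obj E ⟶ (G W).obj E') : k.left ≫ str W E' = str W E :=
  Over.w k

instance full_G : (G W).Full where
  map_surjective {E E'} k := by
    have hk : k.left.hom.left ≫ (yon S).preimage E'.obj.hom = (yon S).preimage E.obj.hom :=
      congrArg (fun n => n.hom.left) (G_w W k)
    refine ⟨EtOver.homMk k.left.hom.left (full_aux W k.left.hom.left hk), ?_⟩
    apply Over.OverMorphism.ext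
    rw [map_left]
    exact EtOver.hom_ext _ _ (pc_map_left W _)

instance faithful_G : (G W).Faithful where
  map_injective {E E'} g g' h := EtOver.hom_ext _ _ (congrArg (fun k => k.left.hom.left) h)

instance essSurj_G : (G W).EssSurj where
  mem_essImage a := by
    let E : EtOver (Y W) := EtOver.mk ((yon S).map a.hom.hom.left)
      ((repWith_yon_map_iff @Etale a.hom.hom.left).2 (EtOver.etale_left a.hom))
    let i : (pc W).obj E ⟶ a.left := EtOver.homMk (𝟙 _) (by
      rw [CategoryTheory.Functor.map_id, Category.id_comp]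
      exact (EtOver.w a.hom).symm)
    let j : a.left ⟶ (pc W).obj E := EtOver.homMk (𝟙 _) (by
      rw [CategoryTheory.Functor.map_id, Category.id_comp]
      exact EtOver.w a.hom)
    refine ⟨E, ⟨Over.isoMk ⟨i, j, EtOver.hom_ext _ _ (Category.id_comp _), EtOver.hom_ext _ _ (Category.id_comp _)⟩ ?_⟩⟩
    refine EtOver.hom_ext _ _ ((yon S).map_injective ?_)
    show (yon S).map (𝟙 _ ≫ a.hom.hom.left) = (yon S).map (str W E).hom.left
    rw [Category.id_comp, map_str]
    rfl

instance isEquivalence_G : (G W).IsEquivalence where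

theorem coverPreserving : CoverPreserving (etTop (Y W)) ((etTop X).over W) (G W) := by
  refine ⟨fun {E R} hR => ?_⟩
  rw [GrothendieckTopology.mem_over_iff]
  choose V _ g hg hx using fun x : ↥E.obj.left.left => Groth.L09.ModEt.exists_refinement hR x
  refine (etTop X).superset_covering (fun Z a ha => ?_)
    (ofArrows_mem_etTop (X := X) (fun x => (pc W).obj (V x)) (fun x => (pc W).map (g x)) fun x => ⟨x, hx x⟩)
  obtain ⟨x, k, rfl⟩ := (Sieve.mem_ofArrows_iff _ _ _).1 ha
  refine Sieve.downward_closed _ ?_ k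
  rw [Sieve.overEquiv_iff]
  refine ⟨V x, g x, Over.homMk (𝟙 _) ?_, hg x, Over.OverMorphism.ext (Category.id_comp _).symm⟩
  show 𝟙 _ ≫ str W (V x) = (pc W).map (g x) ≫ str W E
  rw [Category.id_comp]
  exact (Over.w ((G W).map (g x))).symm

instance isContinuous_G : (G W).IsContinuous (etTop (Y W)) ((etTop X).over W) :=
  Functor.isContinuous_of_coverPreserving (compatiblePreservingOfFlat _ _) (coverPreserving W)

theorem exists_lift_of_mem {E : EtOver (Y W)} {R : Sieve ((G W).obj E)} (hR : R ∈ (etTop X).over W ((G W).obj E))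
    (x : ↥E.obj.left.left) :
    ∃ (V : EtOver (Y W)) (c : V ⟶ E), R ((G W).map c) ∧ x ∈ Set.range c.hom.left.left := by
  obtain ⟨Z, -, g, hg, hx⟩ := Groth.L09.ModEt.exists_refinement ((GrothendieckTopology.mem_over_iff _ _).1 hR) x
  rw [Sieve.overEquiv_iff] at hg
  let a : Over.mk (g ≫ str W E) ⟶ (G W).obj E := Over.homMk g
  obtain ⟨V, ⟨e⟩⟩ : ∃ V, Nonempty ((G W).obj V ≅ Over.mk (g ≫ str W E)) :=
    ⟨_, ⟨(G W).objObjPreimageIso _⟩⟩
  refine ⟨V, (G W).preimage (e.hom ≫ a), ?_, ?_⟩
  · rw [Functor.map_preimage]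
    exact R.downward_closed hg e.hom
  · obtain ⟨z, hz⟩ := hx
    refine ⟨e.inv.left.hom.left.left z, ?_⟩
    have h : e.inv ≫ (G W).map ((G W).preimage (e.hom ≫ a)) = a := by
      rw [Functor.map_preimage, Iso.inv_hom_id_assoc]
    exact (congrArg (fun k => k.left.hom.left.left z) h).trans hz

/-- Functions are unchanged. -/
def φ : OEtRing (Y W) ⟶
    ((G W).sheafPushforwardContinuous RingCat.{u + 1} (etTop (Y W)) ((etTop X).over W)).obj (OEtOn W) :=
  ObjectProperty.homMk
    { app := fun E => 𝟙 _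
      naturality := fun E E' g => (Category.comp_id _).trans (Category.id_comp _).symm }

/-- Modules over `W` as modules on the small etale site of its scheme. -/
def Ψ : ModEtOn W ⥤ ModEt (Y W) := SheafOfModules.pushforward.{u + 1} (φ W)

instance additive_Ψ : (Ψ W).Additive where

theorem sapp_Ψ {A B : ModEtOn W} (f : A ⟶ B) (E : EtOver (Y W)) (x : sectModEt ((Ψ W).obj A) E) :
    Groth.L09.ModEt.sapp ((Ψ W).map f) E x = f.val.app (op ((G W).obj E)) x := rfl

theorem shortExact_Ψ (C : ShortComplex (ModEtOn W)) (hC : C.ShortExact) : (C.map (Ψ W)).ShortExact := by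
  haveI : Mono (C.map (Ψ W)).f :=
    Groth.L23.MV.mono_of_injective _ fun E => (Groth.L09.EtCoh.GenMod.sect_exact hC ((G W).obj E)).1
  haveI : Epi (C.map (Ψ W)).g := ⟨fun {M} a b e => Groth.L23.MV.hom_ext_sapp fun E z => by
    haveI := hC.epi_g
    obtain ⟨R, hR, hl⟩ := Groth.L09.EtCoh.exists_sieve_lift C.g ((G W).obj E) z
    choose V c hcR hc using fun x : ↥E.obj.left.left => exists_lift_of_mem W hR x
    refine Groth.L09.ModEt.eq_of_cover M (V := V) (c := c) (fun x => ⟨x, hc x⟩) fun x => ?_
    obtain ⟨m, hm⟩ := hl _ (hcR x)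
    rw [← Groth.L09.ModEt.sapp_res, ← Groth.L09.ModEt.sapp_res]
    have hm' : Groth.L09.ModEt.sapp (C.map (Ψ W)).g (V x) m = Groth.L09.ModEt.res (C.map (Ψ W)).X₃ (c x) z := hm
    rw [← hm', ← Groth.L23.MV.sapp_comp, ← Groth.L23.MV.sapp_comp, e]⟩
  have hex : (C.map (Ψ W)).Exact := by
    rw [ShortComplex.exact_iff_epi_kernel_lift]
    exact Groth.L23.MV.epi_of_lift _ (C.map (Ψ W)).g (kernel.ι (C.map (Ψ W)).g)
      (kernel.condition (C.map (Ψ W)).g) _ (kernel.lift_ι _ _ _)
      fun E x hx => (Groth.L09.EtCoh.GenMod.sect_exact hC ((G W).obj E)).2 x hx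
  exact { exact := hex }

instance preservesHomology_Ψ : (Ψ W).PreservesHomology :=
  ((Functor.exact_tfae (Ψ W)).out 0 2).1 (shortExact_Ψ W)

open Groth.L09.ModEt

/-- The unit goes to the unit. -/
theorem nonempty_Ψ_unit : Nonempty (unitModEt (Y W) ≅ (Ψ W).obj (SheafOfModules.unit (OEtOn W))) := by
  let f : unitModEt (Y W) ⟶ (Ψ W).obj (SheafOfModules.unit (OEtOn W)) := SheafOfModules.unitToPushforwardObjUnit (φ W)
  haveI : IsIso f := Groth.L23.SpRlimSingle.isIso_of_bijective f fun E => by
    refine ⟨fun a b h => h, fun b => ⟨b, rfl⟩⟩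
  exact ⟨asIso f⟩

theorem isQuasicoherent_Ψ_free (n : ℕ) :
    ((Ψ W).obj (SheafOfModules.free (R := OEtOn W) (ULift.{u + 1} (Fin n)))).IsQuasicoherent := by
  obtain ⟨e⟩ := nonempty_Ψ_unit W
  have hfae := (Functor.exact_tfae (Ψ W)).out 2 3
  haveI : PreservesFiniteColimits (Ψ W) := (hfae.1 (preservesHomology_Ψ W)).2
  let D : Discrete (ULift.{u + 1} (Fin n)) ⥤ ModEtOn W := Discrete.functor fun _ => SheafOfModules.unit (OEtOn W)
  refine (SheafOfModules.isQuasicoherent (OEtRing (Y W))).prop_of_iso (preservesColimitIso (Ψ W) D).symm ?_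
  refine isQuasicoherent_colimit (D ⋙ Ψ W) fun j => ?_
  exact (SheafOfModules.isQuasicoherent (OEtRing (Y W))).prop_of_iso e (Groth.L23.FLF.isQuasicoherent_unit (Y W))

theorem isQuasicoherent_Ψ_summand {M : ModEtOn W} (hM : DCoh.IsFinFreeSummandMod (OEtOn W) M) :
    ((Ψ W).obj M).IsQuasicoherent := by
  obtain ⟨n, i, p, h⟩ := hM
  haveI := isQuasicoherent_Ψ_free W n
  have h' : (Ψ W).map i ≫ (Ψ W).map p = 𝟙 _ := by rw [← Functor.map_comp, h, CategoryTheory.Functor.map_id]
  let q := 𝟙 ((Ψ W).obj (SheafOfModules.free (R := OEtOn W) (ULift.{u + 1} (Fin n)))) - (Ψ W).map p ≫ (Ψ W).map i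
  have hz : (Ψ W).map i ≫ q = 0 := by
    simp only [q, Preadditive.comp_sub, Category.comp_id, ← Category.assoc, h', Category.id_comp, sub_self]
  haveI : Mono ((Ψ W).map i) := mono_of_mono_fac h'
  let k : IsLimit (KernelFork.ofι ((Ψ W).map i) hz) := KernelFork.IsLimit.ofι' _ _ fun {T} g hg =>
    ⟨g ≫ (Ψ W).map p, by
      simp only [q, Preadditive.comp_sub, Category.comp_id, sub_eq_zero] at hg
      rw [Category.assoc]
      exact hg.symm⟩
  exact (SheafOfModules.isQuasicoherent (OEtRing (Y W))).prop_of_iso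
    ((kernelIsKernel q).conePointUniqueUpToIso k) (Groth.L23.QcClosure.isQuasicoherent_kernel q)

theorem isQuasicoherent_homology (K : CochainComplex (ModEt X) ℤ) (hK : ∀ i, (K.X i).IsQuasicoherent) (i : ℤ) :
    (K.homology i).IsQuasicoherent := by
  haveI := hK
  let P := SheafOfModules.isQuasicoherent (OEtRing X)
  haveI := Groth.L23.AffPushReflect.isWeakSerre X
  have hc : P (K.cycles i) :=
    P.prop_of_isLimit_kernelFork (k := KernelFork.ofι (K.iCycles i) (K.iCycles_d i ((ComplexShape.up ℤ).next i)))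
      (K.cyclesIsKernel i _ rfl) (hK _) (hK _)
  exact P.prop_of_isColimit_cokernelCofork
    (k := CokernelCofork.ofπ (K.homologyπ i) (K.toCycles_comp_homologyπ ((ComplexShape.up ℤ).prev i) i))
    (K.homologyIsCokernel _ i rfl) (hK _) hc

set_option maxHeartbeats 1000000 in
theorem nonempty_res_iso (M : ModEt X) (V : EtOver X) :
    Nonempty ((Ψ V).obj ((resModEt V).obj M) ≅ (Groth.L09.Pull.restr (X := Y V) V.property).obj M) :=
  ⟨(SheafOfModules.fullyFaithfulForget _).preimageIso <| PresheafOfModules.isoMk (fun U => Iso.refl _) (fun U U' f => ModuleCat.hom_ext (LinearMap.ext fun m => rfl))⟩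

set_option maxHeartbeats 800000 in
theorem bc_of_slice (M : ModEt X) (V : EtOver X) (Z₀ : EtOver (Y V)) [IsAffine Z₀.obj.left.left]
    [((Groth.L09.Pull.restr (X := Y V) V.property).obj M).IsQuasicoherent] (W' : EtOver X) [IsAffine W'.obj.left.left]
    (g : W' ⟶ Groth.L09.Pull.pushObj (W := Y V) V.property Z₀) : BC M g := by
  let Z' : EtOver (Y V) := EtOver.mk ((yon S).map g.hom.left ≫ Z₀.obj.hom)
    ((repWith_isMultiplicative (S := S) @Etale).comp_mem _ _
      ((repWith_yon_map_iff _ _).2 (EtOver.etale_left g)) Z₀.property)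
  haveI : IsAffine Z'.obj.left.left := ‹IsAffine W'.obj.left.left›
  let g' : Z' ⟶ Z₀ := EtOver.homMk g.hom.left rfl
  let e : W' ⟶ Groth.L09.Pull.pushObj (W := Y V) V.property Z' := EtOver.homMk (𝟙 _) (by
    show (yon S).map (𝟙 _) ≫ ((yon S).map g.hom.left ≫ Z₀.obj.hom) ≫ V.obj.hom = _
    rw [CategoryTheory.Functor.map_id, Category.id_comp, Category.assoc]
    exact EtOver.w g)
  let e' : Groth.L09.Pull.pushObj (W := Y V) V.property Z' ⟶ W' := EtOver.homMk (𝟙 _) (by
    show (yon S).map (𝟙 _) ≫ W'.obj.hom = ((yon S).map g.hom.left ≫ Z₀.obj.hom) ≫ V.obj.hom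
    rw [CategoryTheory.Functor.map_id, Category.id_comp, Category.assoc]
    exact (EtOver.w g).symm)
  haveI : IsIso e := ⟨e', EtOver.hom_ext _ _ (Category.id_comp _), EtOver.hom_ext _ _ (Category.id_comp _)⟩
  have hg : g = e ≫ Groth.L09.Pull.pushMap V.property g' := EtOver.hom_ext _ _ (Category.id_comp _).symm
  rw [hg]
  exact Groth.L09.Pull.bc_iso_comp M e _ (bc_of_isQuasicoherent ((Groth.L09.Pull.restr (X := Y V) V.property).obj M) g')

theorem mem_ofObjects {ι : Type (u + 1)} (A : ι → EtOver X) (Z : EtOver X)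
    (hex : ∀ z : Z.obj.left.left, ∃ (i : ι) (h : A i ⟶ Z), z ∈ Set.range h.hom.left.left) :
    Sieve.ofObjects A Z ∈ etTop X Z := by
  choose i h hh using hex
  refine (etTop X).superset_covering ?_ (ofArrows_mem_etTop (fun z => A (i z)) h fun z => ⟨z, hh z⟩)
  rintro T k hk
  obtain ⟨z, l, rfl⟩ := (Sieve.mem_ofArrows_iff _ _ _).1 hk
  exact ⟨i z, ⟨l⟩⟩

theorem exists_affine_slice {Z V : EtOver X} (g : V ⟶ Z) (z' : V.obj.left.left) :
    ∃ (A : EtOver (Y V)) (_ : IsAffine A.obj.left.left) (h : Groth.L09.Pull.pushObj (W := Y V) V.property A ⟶ Z),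
      g.hom.left.left z' ∈ Set.range h.hom.left.left := by
  obtain ⟨A, hA, a, ha⟩ := exists_affine_over V z'
  let s' : Groth.L09.Pull.pushObj (W := Y V) V.property A ⟶ V := str V A
  refine ⟨A, hA, s' ≫ g, a, ?_⟩
  show g.hom.left.left ((str V A).hom.left.left a) = g.hom.left.left z'
  rw [ha]

/-- An affine object over a good member. -/
structure GoodObj (M : ModEt X) : Type (u + 1) where
  V : EtOver X
  A : EtOver (Y V)
  aff : IsAffine A.obj.left.left
  good : ((Groth.L09.Pull.restr (X := Y V) V.property).obj M).IsQuasicoherent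

/-- The object of a good member in the site. -/
def GoodObj.push {M : ModEt X} (o : GoodObj M) : EtOver X := Groth.L09.Pull.pushObj (W := Y o.V) o.V.property o.A

/-- A module with quasi-coherent restrictions to a covering family is quasi-coherent. -/
theorem isQuasicoherent_of_restrs (M : ModEt X)
    (hloc : ∀ (Z : EtOver X) (z : Z.obj.left.left), ∃ (V : EtOver X) (g : V ⟶ Z),
      z ∈ Set.range g.hom.left.left ∧ ((Groth.L09.Pull.restr (X := Y V) V.property).obj M).IsQuasicoherent) :
    M.IsQuasicoherent := by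
  refine isQuasicoherent_of_bc M (GoodObj.push (M := M)) (fun Z => ?_) fun i W' _ g => ?_
  · refine mem_ofObjects (GoodObj.push (M := M)) Z fun z => ?_
    obtain ⟨V, g, ⟨z', hz'⟩, hV⟩ := hloc Z z
    obtain ⟨A, hA, h, hh⟩ := exists_affine_slice g z'
    subst hz'
    refine ⟨GoodObj.mk V A hA hV, ?_⟩
    exact ⟨h, hh⟩
  · haveI := i.aff
    haveI := i.good
    exact bc_of_slice M i.V i.A W' g

/-- A module with quasi-coherent restrictions to a covering family is quasi-coherent. -/
theorem isQuasicoherent_of_slices (M : ModEt X)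
    (hloc : ∀ (Z : EtOver X) (z : Z.obj.left.left), ∃ (V : EtOver X) (g : V ⟶ Z),
      z ∈ Set.range g.hom.left.left ∧ ((Ψ V).obj ((resModEt V).obj M)).IsQuasicoherent) : M.IsQuasicoherent :=
  isQuasicoherent_of_restrs M fun Z z => by
    obtain ⟨V, g, hz, hV⟩ := hloc Z z
    obtain ⟨e⟩ := nonempty_res_iso M V
    exact ⟨V, g, hz, (SheafOfModules.isQuasicoherent (OEtRing (Y V))).prop_of_iso e hV⟩

end Groth.L23.Slice
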