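import Groth.Prelude.Def_AlgSpCov
import Groth.Agent.L23.LocP
import Groth.Agent.L23.Points

/-!
# Lifting coverings of algebraic spaces to coverings by schemes
-/

universe u

open CategoryTheory CategoryTheory.Limits AlgebraicGeometry Opposite AlgSp

set_option backward.isDefEq.respectTransparency.types false

namespace Groth.L23

variable {S : Scheme.{u}}

/-- Locally on a scheme mapping to an algebraic space, such a map lifts to a covering of the space. -/
theorem exists_scheme_lift {X : Sp S} (hX : IsAlgSpace X) {ι : Type u} {Yi : ι → Sp S}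
    (hYi : ∀ i, IsAlgSpace (Yi i)) (g : ∀ i, Yi i ⟶ X) (T : Over S) (t : (yon S).obj T ⟶ X)
    (hs : ∀ z : T.left, ∃ i, Points.ofPt t z ∈ Set.range (Points.map (g i))) :
    ∃ (κ : Type u) (Tk : κ → Over S) (c : ∀ k, Tk k ⟶ T),
      (∀ z, ∃ k, z ∈ Set.range (c k).left) ∧
      ∀ k, ∃ (i : ι) (l : (yon S).obj (Tk k) ⟶ Yi i), l ≫ g i = (yon S).map (c k) ≫ t ∧
        ∀ Q : MorphismProperty Scheme.{u}, EtLocal Q → LocP Q (g i) → Q (c k).left := by
  have hT : IsAlgSpace ((yon S).obj T) := IsAlgSpace.yon_obj T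
  have sq := fun i => IsPullback.of_hasPullback (g i) t
  have hP := fun i => isAlgSpace_of_isPullback hX.diag (hYi i) hT (sq i)
  choose U a ha has using fun i => (hP i).atlas
  choose c hc using fun i => (yon S).map_surjective (a i ≫ pullback.snd (g i) t)
  refine ⟨ι, U, c, fun z => ?_, fun i => ⟨i, a i ≫ pullback.fst (g i) t, ?_, fun Q hQ hgi => ?_⟩⟩
  · obtain ⟨i, y, hy⟩ := hs z
    obtain ⟨p, -, hp⟩ := exists_of_isPullback (sq i) y (Points.ofScheme T z)
      (hy.trans (Points.ofPt_eq_map_ofScheme t z))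
    obtain ⟨v, hv⟩ := surjective_ofPt (has i) p
    refine ⟨i, v, (Points.schemeEquiv T).injective ?_⟩
    show Points.ofScheme T _ = Points.ofScheme T _
    rw [← hp, ← hv, Points.map_ofPt, ← hc, ofPt_map]
  · rw [Category.assoc, (sq i).w, hc, Category.assoc]
  · have := hQ.comp
    have := hQ.stable
    refine locP_yon_map ?_
    rw [hc]
    exact locP_comp hQ (IsAlgSpace.yon_obj _) (hP i) hT
      (locP_of_repWith hQ (repWith_mono (fun φ hφ => hQ.etale φ hφ) (ha i)))
      (locP_of_isPullback hQ (hYi i) hX hT (sq i) hgi)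

/-- A covering sieve of the big etale site of algebraic spaces is refined, after pullback to a scheme,
by an etale covering by schemes. -/
theorem exists_etale_refinement {Z : Space S} {R : Sieve Z} (hR : R ∈ spacesTop S IsEtaleMor Z)
    (T : Over S) (t : (yon S).obj T ⟶ Z.obj) :
    ∃ (κ : Type u) (Tk : κ → Over S) (c : ∀ k, Tk k ⟶ T), (∀ k, Etale (c k).left) ∧
      (∀ z, ∃ k, z ∈ Set.range (c k).left) ∧
      ∀ k, R (Y := (AlgSp.ofScheme S).obj (Tk k)) (ObjectProperty.homMk ((yon S).map (c k) ≫ t)) := by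
  induction hR generalizing T with
  | of Z R hR =>
    have hz : ∀ z : T.left, ∃ (Y : Space S) (g : Y ⟶ Z), R g ∧
        Points.ofPt t z ∈ Set.range (Points.map g.hom) := fun z => hR.2 _
    choose Y g hg hx using hz
    obtain ⟨κ, Tk, c, hs, hl⟩ := exists_scheme_lift Z.property (fun z => (Y z).property)
      (fun z => (g z).hom) T t (fun z => ⟨z, hx z⟩)
    refine ⟨κ, Tk, c, fun k => ?_, hs, fun k => ?_⟩
    · obtain ⟨i, l, -, hQ⟩ := hl k
      exact hQ _ etLocal_etale ((isEtaleMor_iff_locP (Y i).property Z.property _).1 (hR.1 _ (hg i)))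
    · obtain ⟨i, l, hw, -⟩ := hl k
      let h : (AlgSp.ofScheme S).obj (Tk k) ⟶ Y i := ObjectProperty.homMk l
      have e : h ≫ g i = ObjectProperty.homMk ((yon S).map (c k) ≫ t) := ObjectProperty.hom_ext _ hw
      rw [← e]
      exact (Sieve.generate R).downward_closed (Sieve.le_generate R _ _ (hg i)) h
  | top Z =>
    refine ⟨PUnit, fun _ => T, fun _ => 𝟙 T, fun _ => ?_, fun z => ⟨⟨⟩, z, rfl⟩, fun _ => trivial⟩
    rw [Over.id_left]
    infer_instance
  | pullback Z R _ Z' f ih =>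
    obtain ⟨κ, Tk, c, he, hs, hm⟩ := ih T (t ≫ f.hom)
    refine ⟨κ, Tk, c, he, hs, fun k => ?_⟩
    let g' : (AlgSp.ofScheme S).obj (Tk k) ⟶ Z' := ObjectProperty.homMk ((yon S).map (c k) ≫ t)
    let g'' : (AlgSp.ofScheme S).obj (Tk k) ⟶ Z :=
      ObjectProperty.homMk ((yon S).map (c k) ≫ t ≫ f.hom)
    have e : g' ≫ f = g'' := ObjectProperty.hom_ext _ (Category.assoc _ _ _)
    have hk : R g'' := hm k
    change (R.pullback f).arrows g'
    rw [Sieve.pullback_apply, e]
    exact hk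
  | transitive Z R R' _ _ ih₁ ih₂ =>
    obtain ⟨κ, Tk, c, he, hs, hm⟩ := ih₁ T t
    choose κ' Tl d he' hs' hm' using fun k => ih₂ (hm k) (Tk k) (𝟙 _)
    refine ⟨Σ k, κ' k, fun p => Tl p.1 p.2, fun p => d p.1 p.2 ≫ c p.1, fun p => ?_, fun z => ?_,
      fun p => ?_⟩
    · have := he p.1
      have := he' p.1 p.2
      rw [Over.comp_left]
      infer_instance
    · obtain ⟨k, w, rfl⟩ := hs z
      obtain ⟨l, v, rfl⟩ := hs' k w
      exact ⟨⟨k, l⟩, v, by simp⟩
    · let g₁ : (AlgSp.ofScheme S).obj (Tl p.1 p.2) ⟶ (AlgSp.ofScheme S).obj (Tk p.1) :=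
        ObjectProperty.homMk ((yon S).map (d p.1 p.2) ≫ 𝟙 _)
      let g₂ : (AlgSp.ofScheme S).obj (Tk p.1) ⟶ Z := ObjectProperty.homMk ((yon S).map (c p.1) ≫ t)
      let g₃ : (AlgSp.ofScheme S).obj (Tl p.1 p.2) ⟶ Z :=
        ObjectProperty.homMk ((yon S).map (d p.1 p.2 ≫ c p.1) ≫ t)
      have e : g₁ ≫ g₂ = g₃ := ObjectProperty.hom_ext _ (by
        show ((yon S).map (d p.1 p.2) ≫ 𝟙 _) ≫ (yon S).map (c p.1) ≫ t =
          (yon S).map (d p.1 p.2 ≫ c p.1) ≫ t
        rw [Category.comp_id, Functor.map_comp, Category.assoc])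
      have hk : R' (g₁ ≫ g₂) := hm' p.1 p.2
      rw [e] at hk
      exact hk

/-- Jointly surjective families of flat morphisms locally of finite presentation cover. -/
theorem fppf_family_mem_J {T : Over S} {ι : Type*} {U : ι → Over S} (g : ∀ i, U i ⟶ T)
    (hg : ∀ i, Flat (g i).left ∧ LocallyOfFinitePresentation (g i).left)
    (hs : ∀ z : T.left, ∃ i, z ∈ Set.range (g i).left) : Sieve.ofArrows U g ∈ AlgSp.J S T := by
  rw [GrothendieckTopology.mem_over_iff]
  choose i u hu using hs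
  let 𝒰 : Scheme.Cover.{u} Scheme.fppfPrecoverage.{u} T.left := Scheme.Cover.mkOfCovers T.left
    (fun t => (U (i t)).left) (fun t => (g (i t)).left) (fun t => ⟨t, u t, hu t⟩) (fun t => hg _)
  refine GrothendieckTopology.superset_covering _ ?_
    (Precoverage.generate_mem_toGrothendieck 𝒰.mem₀)
  rintro W v ⟨Z, a, _, ⟨t⟩, rfl⟩
  refine (Sieve.overEquiv_iff (Y := T) _ _).2 ?_
  refine ⟨U (i t), Over.homMk a (by
    show a ≫ (U (i t)).hom = (a ≫ (g (i t)).left) ≫ T.hom
    rw [Category.assoc]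
    exact congrArg _ (Over.w (g (i t))).symm), g (i t), ⟨i t⟩, ?_⟩
  exact Over.OverMorphism.ext rfl

end Groth.L23
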