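import Mathlib.RingTheory.Smooth.NoetherianDescent
import Mathlib.RingTheory.Spectrum.Prime.Chevalley
import Mathlib.RingTheory.Finiteness.Descent
import Mathlib.RingTheory.Etale.Descent
import Mathlib.RingTheory.RingHom.QuasiFinite
import Mathlib.RingTheory.Etale.Kaehler
import Mathlib.RingTheory.Smooth.Flat

/-!
# Descent along faithfully flat etale algebras
-/

universe u

open TensorProduct

namespace Groth.L23

section Range

variable {R R' C : Type u} [CommRing R] [CommRing R'] [CommRing C] [Algebra R R'] [Algebra R C]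

/-- The image of a base changed spectrum map is the preimage of the image. -/
lemma mem_range_comap_baseChange (q : PrimeSpectrum R')
    (h : PrimeSpectrum.comap (algebraMap R R') q ∈ Set.range (PrimeSpectrum.comap (algebraMap R C))) :
    q ∈ Set.range (PrimeSpectrum.comap (algebraMap R' (R' ⊗[R] C))) := by
  rw [← PrimeSpectrum.nontrivial_iff_mem_rangeComap] at h ⊢
  let q₀ := PrimeSpectrum.comap (algebraMap R R') q
  let k₀ := q₀.asIdeal.ResidueField
  let k := q.asIdeal.ResidueField
  let κ : k₀ →ₐ[R] k := Ideal.ResidueField.mapₐ _ _ (Algebra.ofId R R') rfl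
  let _ : Algebra k₀ k := κ.toRingHom.toAlgebra
  have : IsScalarTower R k₀ k := .of_algebraMap_eq fun x => (κ.commutes x).symm
  have hinj := Algebra.TensorProduct.includeRight_injective (R := k₀) (A := k) (B := k₀ ⊗[R] C)
    (RingHom.injective _)
  have : Nontrivial (k ⊗[k₀] (k₀ ⊗[R] C)) := hinj.nontrivial
  have : Nontrivial (k ⊗[R] C) :=
    (Algebra.TensorProduct.cancelBaseChange R k₀ k k C).toEquiv.symm.nontrivial
  exact (Algebra.TensorProduct.cancelBaseChange R R' k k C).toEquiv.nontrivial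

lemma faithfullyFlat_baseChange_of_range [Module.Flat R C]
    (h : ∀ q : PrimeSpectrum R',
      PrimeSpectrum.comap (algebraMap R R') q ∈ Set.range (PrimeSpectrum.comap (algebraMap R C))) :
    Module.FaithfullyFlat R' (R' ⊗[R] C) :=
  .of_comap_surjective fun q => mem_range_comap_baseChange q (h q)

end Range

variable {A B C : Type u} [CommRing A] [CommRing B] [CommRing C] [Algebra A B] [Algebra B C]
  [Algebra A C] [IsScalarTower A B C]

/-- Finite type descends along faithfully flat etale algebras. -/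
theorem finiteType_of_etale_comp [Algebra.Etale B C] [Module.FaithfullyFlat B C]
    [Algebra.FiniteType A C] : Algebra.FiniteType A B := by
  classical
  obtain ⟨B₀, C₀, _, _, hB₀, hC₀, ⟨e⟩⟩ := Algebra.Etale.exists_subalgebra_fg (R := A) (A := B) (B := C)
  have : Module.Flat B₀ C₀ := inferInstance
  -- the open image upstairs contains the image of `Spec B`
  let U := Set.range (PrimeSpectrum.comap (algebraMap B₀ C₀))
  have hU : IsOpen U := PrimeSpectrum.isOpenMap_comap_of_hasGoingDown_of_finitePresentation.isOpen_range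
  obtain ⟨I, hI⟩ := (PrimeSpectrum.isClosed_iff_zeroLocus_ideal Uᶜ).1 hU.isClosed_compl
  have hIB : I.map (algebraMap B₀ B) = ⊤ := by
    by_contra hne
    obtain ⟨m, hm, hle⟩ := Ideal.exists_le_maximal _ hne
    obtain ⟨Q, hQ⟩ := PrimeSpectrum.comap_surjective_of_faithfullyFlat (B := C) (⟨m, hm.isPrime⟩ : PrimeSpectrum B)
    let φ : C₀ →+* C := (e.symm : B ⊗[B₀] C₀ →+* C).comp Algebra.TensorProduct.includeRight.toRingHom
    have hφ : φ.comp (algebraMap B₀ C₀) = (algebraMap B C).comp (algebraMap B₀ B) := by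
      ext x
      simp only [φ, RingHom.comp_apply, AlgHom.toRingHom_eq_coe, RingHom.coe_coe,
        Algebra.TensorProduct.includeRight_apply, ← e.symm.commutes,
        Algebra.TensorProduct.algebraMap_apply, Algebra.algebraMap_self_apply]
      congr 1
      rw [Algebra.algebraMap_eq_smul_one (A := C₀), Algebra.algebraMap_eq_smul_one (A := B),
        TensorProduct.tmul_smul, TensorProduct.smul_tmul']
    have hmem : PrimeSpectrum.comap (algebraMap B₀ B) ⟨m, hm.isPrime⟩ ∈ U :=
      ⟨PrimeSpectrum.comap φ Q, by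
        rw [← PrimeSpectrum.comap_comp_apply, hφ, PrimeSpectrum.comap_comp_apply, hQ]⟩
    have : PrimeSpectrum.comap (algebraMap B₀ B) ⟨m, hm.isPrime⟩ ∈ Uᶜ := by
      rw [hI]; exact Ideal.map_le_iff_le_comap.1 hle
    exact this hmem
  have h1 : (1 : B) ∈ Submodule.span B (algebraMap B₀ B '' I) := by
    change (1 : B) ∈ I.map (algebraMap B₀ B)
    rw [hIB]; trivial
  obtain ⟨T, hT, h1'⟩ := Submodule.mem_span_finite_of_mem_span h1
  obtain ⟨coef, -, hcoef⟩ := Submodule.mem_span_finset.1 h1'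
  obtain ⟨G, hG⟩ := Algebra.FiniteType.out (R := A) (A := C)
  choose S hS using fun c : C => TensorProduct.exists_finset (e c)
  let E : Finset B := T.image coef ∪ G.biUnion (fun c => (S c).image Prod.fst)
  let B₁ : Subalgebra A B := B₀ ⊔ Algebra.adjoin A (E : Set B)
  have hB₁ : B₁.FG := hB₀.sup ⟨E, rfl⟩
  have hle : B₀ ≤ B₁ := le_sup_left
  let _ : Algebra B₀ B₁ := (Subalgebra.inclusion hle).toRingHom.toAlgebra
  have : IsScalarTower B₀ B₁ B := .of_algebraMap_eq fun x => rfl
  have : IsScalarTower A B₀ B₁ := .of_algebraMap_eq fun x => rfl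
  have hE : ∀ x ∈ E, x ∈ B₁ := fun x hx =>
    le_sup_right (a := B₀) (Algebra.subset_adjoin hx)
  have : Module.FaithfullyFlat B₁ (B₁ ⊗[B₀] C₀) := by
    refine faithfullyFlat_baseChange_of_range fun q => ?_
    by_contra hq
    have hq' : PrimeSpectrum.comap (algebraMap B₀ B₁) q ∈ Uᶜ := hq
    rw [hI] at hq'
    have hI' : ∀ x ∈ I, algebraMap B₀ B₁ x ∈ q.asIdeal := fun x hx => hq' hx
    have hmem : ∀ x ∈ T, ∃ y ∈ q.asIdeal, (y : B) = coef x • x := fun x hx => by
      obtain ⟨i, hi, rfl⟩ := hT hx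
      exact ⟨⟨coef _, hE _ (Finset.mem_union_left _ (Finset.mem_image_of_mem _ hx))⟩ * algebraMap B₀ B₁ i,
        q.asIdeal.mul_mem_left _ (hI' i hi), rfl⟩
    choose y hy hy' using hmem
    refine q.isPrime.ne_top ((Ideal.eq_top_iff_one _).2 ?_)
    rw [show (1 : B₁) = ∑ x ∈ T.attach, y x.1 x.2 by
      apply Subtype.ext
      rw [AddSubmonoidClass.coe_finsetSum]
      simp only [hy', OneMemClass.coe_one]
      rw [Finset.sum_attach T (fun x => coef x • x)]
      exact hcoef.symm]
    exact q.asIdeal.sum_mem fun x _ => hy x.1 x.2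
  -- the model surjects onto `C`
  let ι' : B₁ →ₐ[B₀] B := IsScalarTower.toAlgHom B₀ B₁ B
  let Φ : B₁ ⊗[B₀] C₀ →ₐ[B₁] B ⊗[B₀] C₀ :=
    Algebra.TensorProduct.map (IsScalarTower.toAlgHom B₁ B₁ B) (AlgHom.id B₀ C₀)
  have hΦ : Function.Surjective Φ := by
    intro z
    obtain ⟨c, rfl⟩ := e.surjective z
    have hc : c ∈ Algebra.adjoin A (G : Set C) := by rw [hG]; trivial
    induction hc using Algebra.adjoin_induction with
    | mem c hc =>
      rw [hS c]
      refine ⟨∑ p ∈ (S c).attach, (⟨p.1.1, hE _ (Finset.mem_union_right _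
        (Finset.mem_biUnion.2 ⟨c, hc, Finset.mem_image_of_mem _ p.2⟩))⟩ : B₁) ⊗ₜ[B₀] p.1.2, ?_⟩
      rw [← Finset.sum_attach (S c) (fun p => p.1 ⊗ₜ[B₀] p.2), map_sum]
      exact Finset.sum_congr rfl fun _ _ => rfl
    | algebraMap r =>
      refine ⟨algebraMap A B₁ r ⊗ₜ 1, ?_⟩
      rw [IsScalarTower.algebraMap_apply A B C, e.commutes]
      rfl
    | add x y _ _ hx hy =>
      obtain ⟨a, ha⟩ := hx; obtain ⟨b, hb⟩ := hy
      exact ⟨a + b, by simp [ha, hb]⟩
    | mul x y _ _ hx hy =>
      obtain ⟨a, ha⟩ := hx; obtain ⟨b, hb⟩ := hy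
      exact ⟨a * b, by simp [ha, hb]⟩
  have hsurj : Function.Surjective (Algebra.linearMap B₁ B) := by
    rw [← Module.FaithfullyFlat.lTensor_surjective_iff_surjective B₁ (B₁ ⊗[B₀] C₀)]
    intro y
    let ec := AlgebraTensorModule.cancelBaseChange B₀ B₁ B₁ B C₀
    obtain ⟨x, hx⟩ := hΦ (ec (TensorProduct.comm B₁ _ B y))
    refine ⟨x ⊗ₜ 1, (TensorProduct.comm B₁ _ B).injective (ec.injective ?_)⟩
    rw [← hx, LinearMap.lTensor_tmul, TensorProduct.comm_tmul]
    clear hx
    induction x with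
    | zero => exact ((congrArg ec (TensorProduct.tmul_zero _ _)).trans ec.map_zero).trans Φ.map_zero'.symm
    | add a b ha hb =>
      exact ((congrArg ec (TensorProduct.tmul_add _ a b)).trans (ec.map_add _ _)).trans
        ((congrArg₂ (· + ·) ha hb).trans (Φ.map_add' a b).symm)
    | tmul b c =>
      simp [ec, Φ, Algebra.smul_def]
      rfl
  have htop : B₁ = ⊤ := by
    refine eq_top_iff.2 fun b _ => ?_
    obtain ⟨x, rfl⟩ := hsurj b
    exact x.2
  exact ⟨htop ▸ hB₁⟩

end Groth.L23
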