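import Groth.Agent.L23.UHPush
import Groth.Agent.L23.EtaleMono
import Groth.Agent.L24.Boot.LqfBase
import Groth.Agent.L23.StLocal

/-!
# Maps to etale spaces extend uniquely along universal homeomorphisms
-/

universe u

open CategoryTheory CategoryTheory.Limits AlgebraicGeometry Opposite AlgSp

set_option backward.isDefEq.respectTransparency.types false

namespace Groth.L23

variable {S : Scheme.{u}} {W Y : Sp S}

/-- Maps into an etale space agreeing after a surjective map agree. -/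
theorem hom_ext_uh_sp (hW : IsAlgSpace W) (hY : IsAlgSpace Y) {a : W ⟶ Y} (ha : IsEtaleMor a) {T₀ T : Over S}
    (φ : T₀ ⟶ T) (hφ : Surjective φ.left) {p q : (yon S).obj T ⟶ W} (h : p ≫ a = q ≫ a)
    (h₀ : (yon S).map φ ≫ p = (yon S).map φ ≫ q) : p = q := by
  have hd := repWith_isOpenImmersion_diagonal_of_unramified hW hY
    (locP_mono (fun f (_ : Etale f) =>
      (⟨inferInstance, inferInstance⟩ : (@LocallyOfFiniteType ⊓ @FormallyUnramified :
        MorphismProperty Scheme.{u}) f))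
      ((isEtaleMor_iff_locP hW hY a).1 ha))
  obtain ⟨E, e, fst, sq⟩ : ∃ (E : Over S) (e : E ⟶ T) (fst : (yon S).obj E ⟶ W),
      IsPullback fst ((yon S).map e) (pullback.diagonal a) (pullback.lift p q h) :=
    ⟨_, _, _, hd.1.isPullback _⟩
  have : IsOpenImmersion e.left := repWith_prop hd sq
  obtain ⟨r, hr⟩ := (yon S).map_surjective (sq.lift ((yon S).map φ ≫ p) ((yon S).map φ) (by
    refine pullback.hom_ext ?_ ?_
    · simp only [Category.assoc, pullback.diagonal_fst, Category.comp_id]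
      rw [pullback.lift_fst]
    · simp only [Category.assoc, pullback.diagonal_snd, Category.comp_id]
      rw [pullback.lift_snd, h₀]))
  have hre : r ≫ e = φ := (yon S).map_injective (by rw [Functor.map_comp, hr, sq.lift_snd])
  have : Surjective (r.left ≫ e.left) := by rw [← Over.comp_left, hre]; exact hφ
  have : Surjective e.left := Surjective.of_comp r.left e.left
  have : Epi e.left.base := (TopCat.epi_iff_surjective _).2 e.left.surjective
  have : IsIso e.left := IsOpenImmersion.isIso e.left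
  have : IsIso e := by
    refine ⟨Over.homMk (inv e.left) (by rw [IsIso.inv_comp_eq, Over.w]), ?_, ?_⟩ <;>
      (ext; simp)
  have h1 : (yon S).map (inv e) ≫ fst ≫ pullback.diagonal a = pullback.lift p q h := by
    rw [sq.w, ← Category.assoc, ← Functor.map_comp, IsIso.inv_hom_id, (yon S).map_id, Category.id_comp]
  have hp := h1 =≫ pullback.fst a a
  have hq := h1 =≫ pullback.snd a a
  rw [Category.assoc, Category.assoc, pullback.diagonal_fst, Category.comp_id, pullback.lift_fst] at hp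
  rw [Category.assoc, Category.assoc, pullback.diagonal_snd, Category.comp_id, pullback.lift_snd] at hq
  exact hp.symm.trans hq

/-- Maps into an etale space extend uniquely along a universal homeomorphism. -/
theorem existsUnique_lift_sp (hW : IsAlgSpace W) (hY : IsAlgSpace Y) {a : W ⟶ Y} (ha : IsEtaleMor a)
    {T₀ T : Over S} (φ : T₀ ⟶ T) (hφ : FlatMor.IsUnivHomeo φ.left) (g : (yon S).obj T ⟶ Y)
    (l₀ : (yon S).obj T₀ ⟶ W) (h : l₀ ≫ a = (yon S).map φ ≫ g) :
    ∃! l : (yon S).obj T ⟶ W, l ≫ a = g ∧ (yon S).map φ ≫ l = l₀ := by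
  have hφs : Surjective φ.left := ((Groth.L20.isUnivHomeo_iff _).1 hφ).2.2
  refine existsUnique_of_exists_of_unique ?_ fun l l' h₁ h₂ =>
    hom_ext_uh_sp hW hY ha φ hφs (h₁.1.trans h₂.1.symm) (h₁.2.trans h₂.2.symm)
  obtain ⟨U, c, hc, hcs⟩ := hW.atlas
  obtain ⟨U₀, π, u₀, sU⟩ : ∃ (U₀ : Over S) (π : U₀ ⟶ T₀) (u₀ : U₀ ⟶ U),
      IsPullback ((yon S).map u₀) ((yon S).map π) c l₀ := by
    obtain ⟨U₀, p, q, sq⟩ := exists_isPullback_of_representable hc.1 l₀
    exact ⟨U₀, q, p, sq⟩
  have : Etale π.left := repWith_prop hc sU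
  have : Surjective π.left := repWith_prop hcs sU
  obtain ⟨T', q₀, ρ₀, hq, sq₀⟩ := UHPush.exists_etale_descent φ.left hφ π.left
  let T'' : Over S := Over.mk (q₀ ≫ T.hom)
  let q : T'' ⟶ T := Over.homMk q₀
  let ρ : U₀ ⟶ T'' := Over.homMk ρ₀ (by
    show ρ₀ ≫ q₀ ≫ T.hom = _
    rw [reassoc_of% sq₀.w, Over.w φ, Over.w π])
  have sq : IsPullback ρ π q φ := IsPullback.of_map (Over.forget S) (Over.OverMorphism.ext sq₀.w) sq₀
  have : Etale q.left := hq
  have : Surjective (ρ.left ≫ q.left) := by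
    rw [← Over.comp_left, sq.w, Over.comp_left]; infer_instance
  have : Surjective q.left := Surjective.of_comp ρ.left q.left
  have hρ : FlatMor.IsUnivHomeo ρ.left :=
    MorphismProperty.of_isPullback (sq.map (Over.forget S)).flip hφ
  obtain ⟨l', ⟨hl', hl''⟩, -⟩ := existsUnique_lift_uh (a := c ≫ a) (ha c hc) ρ hρ ((yon S).map q ≫ g) u₀ (by
    rw [← Category.assoc, sU.w, Category.assoc, h, ← Category.assoc, ← Category.assoc, ← Functor.map_comp,
      ← Functor.map_comp, sq.w])
  have hρm : (yon S).map ρ ≫ (yon S).map l' ≫ c = (yon S).map π ≫ l₀ := by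
    rw [← Category.assoc, ← Functor.map_comp, hl'', sU.w]
  obtain ⟨l, hl, -⟩ := Groth.L24.Boot.existsUnique_descend q ((yon S).map l' ≫ c) fun Z x y hxy => by
    obtain ⟨Z₀, ψ, z, sZ⟩ : ∃ (Z₀ : Over S) (ψ : Z₀ ⟶ Z) (z : Z₀ ⟶ T₀), IsPullback z ψ φ (x ≫ q) :=
      ⟨_, _, _, IsPullback.of_hasPullback φ (x ≫ q)⟩
    have hψ : FlatMor.IsUnivHomeo ψ.left := MorphismProperty.of_isPullback (sZ.map (Over.forget S)) hφ
    refine hom_ext_uh_sp hW hY ha ψ ((Groth.L20.isUnivHomeo_iff _).1 hψ).2.2 ?_ ?_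
    · simp only [Category.assoc, hl']
      rw [← Functor.map_comp_assoc, hxy, Functor.map_comp_assoc]
    · obtain ⟨x₀, hx₁, hx₂⟩ := sq.exists_lift (ψ ≫ x) z (by rw [Category.assoc, sZ.w])
      obtain ⟨y₀, hy₁, hy₂⟩ := sq.exists_lift (ψ ≫ y) z (by rw [Category.assoc, ← hxy, sZ.w])
      calc (yon S).map ψ ≫ (yon S).map x ≫ (yon S).map l' ≫ c
          = (yon S).map x₀ ≫ (yon S).map ρ ≫ (yon S).map l' ≫ c := by
            rw [← Functor.map_comp_assoc, ← hx₁, Functor.map_comp_assoc]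
        _ = (yon S).map y₀ ≫ (yon S).map ρ ≫ (yon S).map l' ≫ c := by
            rw [hρm, ← Functor.map_comp_assoc, hx₂, ← hy₂, Functor.map_comp_assoc]
        _ = _ := by
            rw [← Functor.map_comp_assoc, hy₁, Functor.map_comp_assoc]
  refine ⟨l, Groth.L24.Boot.hom_ext_fppf q ?_, Groth.L24.Boot.hom_ext_fppf π ?_⟩
  · rw [← Category.assoc, hl, Category.assoc, hl']
  · rw [← Functor.map_comp_assoc, ← sq.w, Functor.map_comp_assoc, hl, hρm]

end Groth.L23
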