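import Groth.Agent.L23.UHPushProps
import Groth.Agent.L23.UHSpaceLift
import Groth.Agent.L23.SpaceSmoothDesc
import Groth.Agent.L23.AffineMor
import Groth.Agent.L23.Univ
import Groth.Agent.L23.StLocal

/-!
# Topological invariance of the category of etale algebraic spaces
-/

universe u

open CategoryTheory CategoryTheory.Limits AlgebraicGeometry Opposite AlgSp

set_option backward.isDefEq.respectTransparency.types false

namespace Groth.L23

variable {S : Scheme.{u}} {X Y : Sp S} {f : X ⟶ Y}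

/-- Integral, universally injective and surjective maps are universal homeomorphisms. -/
theorem repWith_isUnivHomeo (h1 : IsIntegralMor f) (h2 : IsUnivInjectiveMor f) (h3 : IsSurjectiveMor f) :
    RepWith FlatMor.IsUnivHomeo f := by
  have hi := isIntegralMor_iff.1 h1
  exact repWith_of_snd hi.1 fun U g => (Groth.L20.isUnivHomeo_iff _).2
    ⟨(IsIntegralHom.iff_universallyClosed_and_isAffineHom.1 (repWith_snd hi g)).1,
      repWith_snd ((repWith_universallyInjective_iff hi.1).2 h2) g,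
      repWith_snd (repWith_surjective_of_map hi.1 h3) g⟩

variable (hX : IsAlgSpace X) (hY : IsAlgSpace Y) (hf : RepWith FlatMor.IsUnivHomeo f)
include hX hY hf

/-- An etale space is the base change of an etale space. -/
theorem exists_etale_space_descent {V : Sp S} (hV : IsAlgSpace V) {b : V ⟶ X} (hb : IsEtaleMor b) :
    ∃ (V' : Sp S) (_ : IsAlgSpace V') (a : V' ⟶ Y) (c : V ⟶ V'), IsEtaleMor a ∧ IsPullback b c f a := by
  obtain ⟨U, c, hc, hcs⟩ := hV.atlas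
  have hcb : RepWith @Etale (c ≫ b) := hb c hc
  have hP : IsAlgSpace (UHPush.push f (c ≫ b)) := UHPush.isAlgSpace_push hY hf hcb
  have hp : RepWith @Etale (UHPush.pushMap f b c) := repWith_of_exists fun T ξ => by
    obtain ⟨T', q, fst, sq, hq, -⟩ := UHPush.exists_chart hf c hc ξ
    exact ⟨T', fst, q, sq, hq⟩
  have hps : RepWith @Surjective (UHPush.pushMap f b c) := repWith_of_exists fun T ξ => by
    obtain ⟨T', q, fst, sq, -, hq⟩ := UHPush.exists_chart hf c hc ξ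
    exact ⟨T', fst, q, sq, hq hcs⟩
  have hV' : IsAlgSpace (UHPush.push f b) := Groth.L24.Boot.isAlgSpace_of_repWith_etale hP _ hp hps
  have hflat : LocP @Flat (UHPush.pushMap f b c) :=
    locP_mono (fun φ (_ : Etale φ) => inferInstanceAs (Flat φ)) (locP_of_repWith etLocal_etale hp)
  have hlfp : LocP @LocallyOfFinitePresentation (UHPush.pushMap f b c) :=
    locP_mono (fun φ (_ : Etale φ) => inferInstanceAs (LocallyOfFinitePresentation φ))
      (locP_of_repWith etLocal_etale hp)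
  have ha : IsEtaleMor (UHPush.proj f b) :=
    isEtaleMor_of_fppf_comp hP hV' hY (surjective_map_of_repWith hps) hflat hlfp
      (StLocal.isEtaleMor_of_repWith hP hY (by rw [UHPush.pushMap_proj]; exact UHPush.repWith_etale_proj hf hcb))
  obtain ⟨u, hu⟩ := UHPush.exists_isPullback_proj_of_lift (b := b) hf fun {Z T₀ φ y₀ y} sT σ hσ₁ hσ₂ l hl =>
    existsUnique_lift_sp hV hX hb σ
      (UHPush.isUnivHomeo_section (repWith_prop hf sT) (congr_arg CommaMorphism.left hσ₂)) y₀ l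
      (by rw [hl, hσ₁])
  exact ⟨_, hV', _, u, ha, hu⟩

omit hX in
/-- Maps between base changes of etale spaces descend uniquely. -/
theorem existsUnique_etale_space_hom {V₁' V₂' V₁ V₂ : Sp S} (hV₂ : IsAlgSpace V₂')
    {a₁ : V₁' ⟶ Y} {a₂ : V₂' ⟶ Y} (ha₂ : IsEtaleMor a₂) {b₁ : V₁ ⟶ X} {b₂ : V₂ ⟶ X}
    {c₁ : V₁ ⟶ V₁'} {c₂ : V₂ ⟶ V₂'} (s₁ : IsPullback b₁ c₁ f a₁) (s₂ : IsPullback b₂ c₂ f a₂)
    (φ : V₁ ⟶ V₂) (hφ : φ ≫ b₂ = b₁) : ∃! φ' : V₁' ⟶ V₂', φ' ≫ a₂ = a₁ ∧ c₁ ≫ φ' = φ ≫ c₂ := by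
  have hc : RepWith FlatMor.IsUnivHomeo c₁ := repWith_of_isPullback s₁ hf
  have hl : ∀ {Z : Over S} (l : (yon S).obj Z ⟶ V₁'), ∃! m : (yon S).obj Z ⟶ V₂', m ≫ a₂ = l ≫ a₁ ∧
      (yon S).map (hc.1.snd l) ≫ m = hc.1.fst l ≫ φ ≫ c₂ := fun {Z} l =>
    existsUnique_lift_sp hV₂ hY ha₂ _ (repWith_snd hc l) _ _ (by
      rw [Category.assoc, Category.assoc, ← s₂.w, reassoc_of% hφ, s₁.w, ← Category.assoc, hc.1.w, Category.assoc])
  choose τ hτ hτu using @hl
  obtain ⟨φ', hφ'⟩ := UHPush.exists_hom_of_yon (fun Z => τ) fun {Z Z'} k l => by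
    refine (hτu ((yon S).map k ≫ l) _ ⟨?_, ?_⟩).symm
    · rw [Category.assoc, (hτ l).1, Category.assoc]
    · have e : hc.1.fst ((yon S).map k ≫ l) ≫ c₁ =
          (yon S).map (hc.1.snd ((yon S).map k ≫ l) ≫ k) ≫ l := by
        rw [hc.1.w, Functor.map_comp, Category.assoc]
      have h₁ := hc.1.lift_fst (g := l) _ _ e
      have h₂ := hc.1.lift_snd (g := l) _ _ e
      rw [← Functor.map_comp_assoc, ← h₂, Functor.map_comp_assoc, (hτ l).2, reassoc_of% h₁]
  have key : ∀ φ'' : V₁' ⟶ V₂', φ'' ≫ a₂ = a₁ → c₁ ≫ φ'' = φ ≫ c₂ → φ'' = φ' := fun φ'' h₁ h₂ => by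
    refine ObjectProperty.hom_ext _ (NatTrans.ext (funext fun T => ?_))
    ext p
    obtain ⟨k, rfl⟩ := ((AlgSp.J S).uliftYonedaEquiv.{u + 1} (X := T.unop)).surjective p
    refine ((AlgSp.J S).uliftYonedaEquiv_comp k φ'').symm.trans (Eq.trans (congr_arg _ ?_)
      ((AlgSp.J S).uliftYonedaEquiv_comp k φ'))
    rw [hφ']
    exact hτu k _ ⟨by rw [Category.assoc, h₁], by rw [← hc.1.w_assoc, h₂]⟩
  have h₁ : φ' ≫ a₂ = a₁ := by
    refine ObjectProperty.hom_ext _ (NatTrans.ext (funext fun T => ?_))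
    ext p
    obtain ⟨k, rfl⟩ := ((AlgSp.J S).uliftYonedaEquiv.{u + 1} (X := T.unop)).surjective p
    refine ((AlgSp.J S).uliftYonedaEquiv_comp k (φ' ≫ a₂)).symm.trans (Eq.trans (congr_arg _ ?_)
      ((AlgSp.J S).uliftYonedaEquiv_comp k a₁))
    rw [← Category.assoc, hφ', (hτ k).1]
  have h₂ : c₁ ≫ φ' = φ ≫ c₂ := by
    refine ObjectProperty.hom_ext _ (NatTrans.ext (funext fun T => ?_))
    ext p
    obtain ⟨k, rfl⟩ := ((AlgSp.J S).uliftYonedaEquiv.{u + 1} (X := T.unop)).surjective p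
    refine ((AlgSp.J S).uliftYonedaEquiv_comp k (c₁ ≫ φ')).symm.trans (Eq.trans (congr_arg _ ?_)
      ((AlgSp.J S).uliftYonedaEquiv_comp k (φ ≫ c₂)))
    have e : k ≫ c₁ = (yon S).map (𝟙 _) ≫ k ≫ c₁ := by rw [(yon S).map_id, Category.id_comp]
    have h₁ := hc.1.lift_fst (g := k ≫ c₁) k (𝟙 _) e
    have h₂ := hc.1.lift_snd (g := k ≫ c₁) k (𝟙 _) e
    rw [← Category.assoc, hφ',
      ← Category.id_comp (τ _), ← (yon S).map_id, ← h₂, Functor.map_comp_assoc, (hτ _).2, reassoc_of% h₁]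
  exact ⟨φ', ⟨h₁, h₂⟩, fun φ'' h => key φ'' h.1 h.2⟩

end Groth.L23
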