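import Groth.Agent.L23.Valuative2
import Groth.Agent.L23.Epi
import Mathlib.RingTheory.Flat.TorsionFree
import Mathlib.AlgebraicGeometry.Morphisms.ClosedImmersion
import Mathlib.RingTheory.Etale.Basic

/-!
# Descent of dotted arrows along extensions of valuation rings, for separated morphisms
-/

universe u

open CategoryTheory CategoryTheory.Limits AlgebraicGeometry Opposite AlgSp Topology IsLocalRing
open scoped TensorProduct

set_option backward.isDefEq.respectTransparency.types false

namespace Groth.L23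

variable {S : Scheme.{u}}

section Pts

variable {A : Type u} [CommRing A] (str : Spec (CommRingCat.of A) ⟶ S)

/-- The spectrum of an `A`-algebra, over `S`. -/
noncomputable abbrev spOver (R : Type u) [CommRing R] [Algebra A R] : Over S :=
  Over.mk (Spec.map (CommRingCat.ofHom (algebraMap A R)) ≫ str)

/-- The map of spectra attached to a map of `A`-algebras. -/
noncomputable def spMap {R R' : Type u} [CommRing R] [Algebra A R] [CommRing R'] [Algebra A R']
    (g : R →ₐ[A] R') : spOver str R' ⟶ spOver str R :=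
  Over.homMk (Spec.map (CommRingCat.ofHom g.toRingHom)) (by
    show _ ≫ Spec.map _ ≫ str = Spec.map _ ≫ str
    rw [← Spec.map_comp_assoc, ← CommRingCat.ofHom_comp, show g.toRingHom.comp (algebraMap A R) = algebraMap A R' from g.comp_algebraMap])

lemma spMap_comp {R R' R'' : Type u} [CommRing R] [Algebra A R] [CommRing R'] [Algebra A R']
    [CommRing R''] [Algebra A R''] (g : R →ₐ[A] R') (g' : R' →ₐ[A] R'') :
    spMap str g' ≫ spMap str g = spMap str (g'.comp g) :=
  Over.OverMorphism.ext (Spec.map_comp _ _).symm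

/-- The map to `Spec A`. -/
noncomputable def spBase (R : Type u) [CommRing R] [Algebra A R] : spOver str R ⟶ Over.mk str :=
  Over.homMk (Spec.map (CommRingCat.ofHom (algebraMap A R))) rfl

lemma spMap_base {R R' : Type u} [CommRing R] [Algebra A R] [CommRing R'] [Algebra A R']
    (g : R →ₐ[A] R') : spMap str g ≫ spBase str R = spBase str R' := by
  refine Over.OverMorphism.ext ?_
  show Spec.map _ ≫ Spec.map _ = Spec.map _
  rw [← Spec.map_comp, ← CommRingCat.ofHom_comp, show g.toRingHom.comp (algebraMap A R) = algebraMap A R' from g.comp_algebraMap]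

end Pts

/-- A closed immersion of fibre products over a separated space. -/
lemma isClosedImmersion_lift {P : Sp S} {T : Over S} (s : P ⟶ (yon S).obj T) (hs : IsSeparatedMor s)
    {U T' V R : Over S} {a : (yon S).obj U ⟶ P} {l : (yon S).obj T' ⟶ P}
    {φ : U ⟶ T} {φ' : T' ⟶ T} (ha : a ≫ s = (yon S).map φ) (hl : l ≫ s = (yon S).map φ')
    {p₁ : V ⟶ U} {p₂ : V ⟶ T'} (sqV : IsPullback ((yon S).map p₁) ((yon S).map p₂) a l)
    {q₁ : R ⟶ U} {q₂ : R ⟶ T'} (sqR : IsPullback q₁ q₂ φ φ') (c : V ⟶ R)
    (hc₁ : c ≫ q₁ = p₁) (hc₂ : c ≫ q₂ = p₂) : IsClosedImmersion c.left := by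
  have h := repWith_of_isPullback (pullback_map_diagonal_isPullback a l s) hs
  have sqR' := sqR.map (yon S)
  rw [← ha, ← hl] at sqR'
  refine (repWith_yon_map_iff (P := @IsClosedImmersion) _).1 ?_
  have e : (yon S).map c = sqV.isoPullback.hom ≫ pullback.mapDesc a l s ≫ sqR'.isoPullback.inv := by
    rw [← Category.assoc, Iso.eq_comp_inv]
    apply pullback.hom_ext
    · simp only [Category.assoc, IsPullback.isoPullback_hom_fst, pullback.lift_fst, Category.comp_id]
      rw [← Functor.map_comp, hc₁]
    · simp only [Category.assoc, IsPullback.isoPullback_hom_snd, pullback.lift_snd, Category.comp_id]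
      rw [← Functor.map_comp, hc₂]
  rw [e]
  exact repWith_comp (repWith_of_isIso _) (repWith_comp h (repWith_of_isIso _))

section Main

variable {A : Type u} [CommRing A] (str : Spec (CommRingCat.of A) ⟶ S) {P : Sp S}
  {s : P ⟶ (yon S).obj (Over.mk str)} {B : Type u} [CommRing B] [Algebra A B]
  {a : (yon S).obj (spOver str B) ⟶ P} {A' : Type u} [CommRing A'] [Algebra A A']

/-- The fibre product with an etale affine chart as an explicit quotient of a tensor product. -/
theorem exists_fibre_ideal (hs : IsSeparatedMor s) (ha : RepWith @Etale a)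
    (has : a ≫ s = (yon S).map (spBase str B)) (l : (yon S).obj (spOver str A') ⟶ P)
    (hl : l ≫ s = (yon S).map (spBase str A')) :
    ∃ I : Ideal (B ⊗[A] A'),
      IsPullback ((yon S).map (spMap str ((Ideal.Quotient.mkₐ A I).comp
          Algebra.TensorProduct.includeLeft)))
        ((yon S).map (spMap str ((Ideal.Quotient.mkₐ A I).comp
          (Algebra.TensorProduct.includeRight : A' →ₐ[A] B ⊗[A] A')))) a l ∧
      ((Ideal.Quotient.mk I).comp
        (Algebra.TensorProduct.includeRight : A' →ₐ[A] B ⊗[A] A').toRingHom).Etale := by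
  let U := spOver str B
  let T' := spOver str A'
  let R := spOver str (B ⊗[A] A')
  let q₁ : R ⟶ U := spMap str Algebra.TensorProduct.includeLeft
  let q₂ : R ⟶ T' := spMap str (Algebra.TensorProduct.includeRight : A' →ₐ[A] B ⊗[A] A')
  have sqS : IsPullback q₁.left q₂.left (spBase str B).left (spBase str A').left :=
    isPullback_SpecMap_of_isPushout _ _ _ _ (CommRingCat.isPushout_tensorProduct A B A')
  have sqR : IsPullback q₁ q₂ (spBase str B) (spBase str A') :=
    IsPullback.of_map (Over.forget S) (by rw [spMap_base, spMap_base]) sqS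
  obtain ⟨p₁, hp₁⟩ := (yon S).map_surjective (ha.1.fst l)
  have sqV := ha.1.isPullback l
  rw [← hp₁] at sqV
  let p₂ := ha.1.snd l
  have hw : p₁ ≫ spBase str B = p₂ ≫ spBase str A' := (yon S).map_injective (by
    rw [Functor.map_comp, Functor.map_comp, ← has, ← hl, reassoc_of% sqV.w])
  let c := sqR.lift p₁ p₂ hw
  have hc : IsClosedImmersion c.left :=
    isClosedImmersion_lift s hs has hl sqV sqR c (sqR.lift_fst _ _ hw) (sqR.lift_snd _ _ hw)
  obtain ⟨I, e, he⟩ := (IsClosedImmersion.Spec_iff (R := CommRingCat.of (B ⊗[A] A'))).1 hc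
  let V := spOver str ((B ⊗[A] A') ⧸ I)
  let i : V ⟶ ha.1.pullback l := Over.homMk e.inv (by
    show e.inv ≫ (ha.1.pullback l).hom = _
    rw [← Over.w c, he]
    simp only [Category.assoc, Iso.inv_hom_id_assoc]
    show Spec.map _ ≫ Spec.map _ ≫ str = _
    rw [← Spec.map_comp_assoc]
    rfl)
  have : IsIso i.left := inferInstanceAs (IsIso e.inv)
  have : IsIso ((Over.forget S).map i) := this
  have : IsIso i := isIso_of_reflects_iso _ (Over.forget S)
  have hmk : e.inv ≫ c.left = Spec.map (CommRingCat.ofHom (Ideal.Quotient.mk I)) := by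
    rw [he, Iso.inv_hom_id_assoc]
  have h₁ : i ≫ p₁ = spMap str ((Ideal.Quotient.mkₐ A I).comp Algebra.TensorProduct.includeLeft) := by
    rw [← spMap_comp, ← sqR.lift_fst p₁ p₂ hw]
    refine Over.OverMorphism.ext ?_
    simp only [Over.comp_left]
    exact (Category.assoc _ _ _).symm.trans (congrArg (· ≫ q₁.left) hmk)
  have h₂ : i ≫ p₂ = spMap str ((Ideal.Quotient.mkₐ A I).comp
      (Algebra.TensorProduct.includeRight : A' →ₐ[A] B ⊗[A] A')) := by
    rw [← spMap_comp, ← sqR.lift_snd p₁ p₂ hw]
    refine Over.OverMorphism.ext ?_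
    simp only [Over.comp_left]
    exact (Category.assoc _ _ _).symm.trans (congrArg (· ≫ q₂.left) hmk)
  refine ⟨I, ?_, ?_⟩
  · rw [← h₁, ← h₂]
    exact sqV.of_iso (asIso ((yon S).map i)).symm (Iso.refl _) (Iso.refl _) (Iso.refl _)
      (by simp [← Functor.map_comp]) (by simp [← Functor.map_comp, p₂]) (by simp) (by simp)
  · have : Etale p₂.left := repWith_snd ha l
    have h3 : Etale (i ≫ p₂).left := inferInstanceAs (Etale (e.inv ≫ p₂.left))
    rw [h₂] at h3
    exact (HasRingHomProperty.Spec_iff (P := @Etale)).1 h3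

variable {str} {l : (yon S).obj (spOver str A') ⟶ P} {I : Ideal (B ⊗[A] A')}

lemma fibre_ideal_le_ker (sq : IsPullback ((yon S).map (spMap str ((Ideal.Quotient.mkₐ A I).comp
      Algebra.TensorProduct.includeLeft)))
    ((yon S).map (spMap str ((Ideal.Quotient.mkₐ A I).comp
      (Algebra.TensorProduct.includeRight : A' →ₐ[A] B ⊗[A] A')))) a l)
    {G : Type u} [CommRing G] [Algebra A G] (g : B →ₐ[A] G) (g' : A' →ₐ[A] G)
    (h : (yon S).map (spMap str g) ≫ a = (yon S).map (spMap str g') ≫ l) :
    ∀ x ∈ I, Algebra.TensorProduct.productMap g g' x = 0 := by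
  obtain ⟨k, hk⟩ := (yon S).map_surjective (sq.lift _ _ h)
  obtain ⟨κ, hκ⟩ := Spec.map_surjective k.left
  have key : ∀ {Q : Type u} [CommRing Q] [Algebra A Q] (m : Q →ₐ[A] (B ⊗[A] A') ⧸ I)
      (n : Q →ₐ[A] G), k ≫ spMap str m = spMap str n → ∀ y, κ.hom (m y) = n y := by
    intro Q _ _ m n e y
    have := congrArg CommaMorphism.left e
    simp only [Over.comp_left, ← hκ] at this
    change Spec.map κ ≫ Spec.map (CommRingCat.ofHom m.toRingHom) =
      Spec.map (CommRingCat.ofHom n.toRingHom) at this
    rw [← Spec.map_comp] at this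
    exact RingHom.congr_fun (congrArg CommRingCat.Hom.hom (Spec.map_injective this)) y
  have e₁ := key _ g ((yon S).map_injective (by rw [Functor.map_comp, hk, sq.lift_fst]))
  have e₂ := key _ g' ((yon S).map_injective (by rw [Functor.map_comp, hk, sq.lift_snd]))
  have hall : ∀ x, κ.hom (Ideal.Quotient.mk I x) = Algebra.TensorProduct.productMap g g' x := by
    intro x
    induction x with
    | zero => simp
    | tmul b a' =>
      rw [show b ⊗ₜ[A] a' = (b ⊗ₜ[A] (1 : A')) * ((1 : B) ⊗ₜ[A] a') by simp, map_mul, map_mul,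
        map_mul]
      simp only [Algebra.TensorProduct.productMap_apply_tmul, map_one, mul_one, one_mul]
      exact congrArg₂ (· * ·) (e₁ b) (e₂ a')
    | add x y hx hy => rw [map_add, map_add, map_add, hx, hy]
  intro x hx
  rw [← hall, Ideal.Quotient.eq_zero_iff_mem.2 hx, map_zero]

lemma fibre_ideal_comm (sq : IsPullback ((yon S).map (spMap str ((Ideal.Quotient.mkₐ A I).comp
      Algebra.TensorProduct.includeLeft)))
    ((yon S).map (spMap str ((Ideal.Quotient.mkₐ A I).comp
      (Algebra.TensorProduct.includeRight : A' →ₐ[A] B ⊗[A] A')))) a l)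
    {G : Type u} [CommRing G] [Algebra A G] (g : B →ₐ[A] G) (g' : A' →ₐ[A] G)
    (h : ∀ x ∈ I, Algebra.TensorProduct.productMap g g' x = 0) :
    (yon S).map (spMap str g) ≫ a = (yon S).map (spMap str g') ≫ l := by
  let k : (B ⊗[A] A') ⧸ I →ₐ[A] G := Ideal.Quotient.liftₐ I _ h
  have e₁ : k.comp ((Ideal.Quotient.mkₐ A I).comp Algebra.TensorProduct.includeLeft) = g := by
    ext b
    exact (Algebra.TensorProduct.productMap_apply_tmul _ _ _ _).trans (by simp)
  have e₂ : k.comp ((Ideal.Quotient.mkₐ A I).comp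
      (Algebra.TensorProduct.includeRight : A' →ₐ[A] B ⊗[A] A')) = g' := by
    ext y
    exact (Algebra.TensorProduct.productMap_apply_tmul _ _ _ _).trans (by simp)
  rw [← e₁, ← e₂, ← spMap_comp str _ k, ← spMap_comp str _ k, Functor.map_comp, Functor.map_comp,
    Category.assoc, Category.assoc, sq.w]

end Main

section Domain

variable {A : Type u} [CommRing A] [IsDomain A] {K : Type u} [Field K] [Algebra A K]
  [IsFractionRing A K]

lemma exists_tmul_eq {M : Type u} [AddCommGroup M] [Module A M] (x : M ⊗[A] K) :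
    ∃ (m : M) (d : A), d ≠ 0 ∧ x = m ⊗ₜ (algebraMap A K d)⁻¹ := by
  induction x with
  | zero => exact ⟨0, 1, one_ne_zero, by simp⟩
  | tmul m k =>
    obtain ⟨n, d, hd, rfl⟩ := IsFractionRing.div_surjective (A := A) k
    refine ⟨n • m, d, nonZeroDivisors.ne_zero hd, ?_⟩
    rw [TensorProduct.smul_tmul, Algebra.smul_def, div_eq_mul_inv]
  | add x y hx hy =>
    obtain ⟨m, d, hd, rfl⟩ := hx
    obtain ⟨n, d', hd', rfl⟩ := hy
    refine ⟨d' • m + d • n, d * d', mul_ne_zero hd hd', ?_⟩
    have h0 : algebraMap A K d ≠ 0 := (map_ne_zero_iff _ (IsFractionRing.injective A K)).2 hd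
    have h0' : algebraMap A K d' ≠ 0 := (map_ne_zero_iff _ (IsFractionRing.injective A K)).2 hd'
    rw [TensorProduct.add_tmul, TensorProduct.smul_tmul, TensorProduct.smul_tmul, Algebra.smul_def,
      Algebra.smul_def, map_mul]
    congr 2 <;> field_simp

lemma tensor_fraction_injective {A' K' : Type u} [CommRing A'] [IsDomain A'] [Field K']
    [Algebra A A'] [Algebra A' K'] [Algebra A K'] [IsScalarTower A A' K'] [IsFractionRing A' K']
    [Algebra K K'] [IsScalarTower A K K'] (x : A' ⊗[A] K)
    (hx : Algebra.TensorProduct.productMap (IsScalarTower.toAlgHom A A' K')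
      (IsScalarTower.toAlgHom A K K') x = 0) : x = 0 := by
  obtain ⟨m, d, hd, rfl⟩ := exists_tmul_eq x
  rw [Algebra.TensorProduct.productMap_apply_tmul, mul_eq_zero] at hx
  rcases hx with h | h
  · rw [(map_eq_zero_iff _ (IsFractionRing.injective A' K')).1 h, TensorProduct.zero_tmul]
  · exact absurd ((map_eq_zero_iff (algebraMap A K) (IsFractionRing.injective A K)).1 (inv_eq_zero.1
      ((map_eq_zero_iff _ (algebraMap K K').injective).1 h))) hd

lemma isUnit_algebraMap_of_algHom {M : Type u} [CommRing M] [Algebra A M] (g : K →ₐ[A] M) {d : A}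
    (hd : d ≠ 0) : IsUnit (algebraMap A M d) := by
  rw [← g.commutes]
  exact (isUnit_iff_ne_zero.2 ((map_ne_zero_iff _ (IsFractionRing.injective A K)).2 hd)).map g

lemma flat_of_smul_eq_zero [ValuationRing A] {M : Type u} [AddCommGroup M] [Module A M]
    (h : ∀ d : A, d ≠ 0 → ∀ y : M, d • y = 0 → y = 0) : Module.Flat A M := by
  rw [Module.Flat.flat_iff_torsion_eq_bot_of_isBezout, Submodule.eq_bot_iff]
  rintro y ⟨⟨d, hd⟩, hy⟩
  exact h d (nonZeroDivisors.ne_zero hd) y hy

lemma flat_of_injective [ValuationRing A] {M E : Type u} [CommRing M] [Algebra A M] [CommRing E]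
    [Algebra A E] (ι : M →ₐ[A] E) (hι : Function.Injective ι) (g : K →ₐ[A] E) : Module.Flat A M :=
  flat_of_smul_eq_zero fun d hd y hy => hι (by
    have : algebraMap A E d * ι y = 0 := by
      rw [← map_zero ι, ← hy, map_smul]
      exact (Algebra.smul_def d (ι y)).symm
    rw [map_zero]
    exact (isUnit_algebraMap_of_algHom g hd).mul_right_eq_zero.1 this)

variable {A' K' : Type u} [CommRing A'] [IsDomain A'] [Field K'] [Algebra A A'] [Algebra A' K']
  [Algebra A K'] [IsScalarTower A A' K'] [IsFractionRing A' K'] [Algebra K K'] [IsScalarTower A K K']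

/-- An element of `Z ⊗ A'` is zero if it dies in every compatible algebra over the generic fibres. -/
lemma eq_zero_of_generic [Module.Flat A A'] {Z E : Type u} [CommRing Z] [Algebra A Z] [CommRing E]
    [Algebra A E] [Algebra K E] [IsScalarTower A K E] (ι : Z →ₐ[A] E) (hι : Function.Injective ι)
    (x : Z ⊗[A] A')
    (h : ∀ {G : Type u} [CommRing G] [Algebra A G] (gE : E →ₐ[A] G) (gK : K' →ₐ[A] G),
      (∀ k : K, gE (algebraMap K E k) = gK (algebraMap K K' k)) →
      Algebra.TensorProduct.productMap (gE.comp ι) (gK.comp (IsScalarTower.toAlgHom A A' K')) x = 0) :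
    x = 0 := by
  let gE : E →ₐ[A] E ⊗[K] K' :=
    (Algebra.TensorProduct.includeLeft : E →ₐ[K] E ⊗[K] K').restrictScalars A
  let gK : K' →ₐ[A] E ⊗[K] K' :=
    (Algebra.TensorProduct.includeRight : K' →ₐ[K] E ⊗[K] K').restrictScalars A
  have hx := h gE gK fun k =>
    ((Algebra.TensorProduct.includeLeft : E →ₐ[K] E ⊗[K] K').commutes k).trans
      ((Algebra.TensorProduct.includeRight : K' →ₐ[K] E ⊗[K] K').commutes k).symm
  let μ : K ⊗[A] A' →ₗ[K] K' :=
    (Algebra.TensorProduct.lift (Algebra.ofId K K') (IsScalarTower.toAlgHom A A' K')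
      (fun _ _ => Commute.all _ _)).toLinearMap
  have hμ : Function.Injective μ := by
    rw [injective_iff_map_eq_zero]
    intro z hz
    have : (Algebra.TensorProduct.comm A A' K).symm z = (Algebra.TensorProduct.comm A A' K).symm 0 := by
      rw [map_zero]
      refine tensor_fraction_injective (K' := K') _ ?_
      rw [← hz]
      clear hz
      induction z with
      | zero => simp
      | tmul k y => simp [μ, mul_comm, Algebra.ofId_apply]
      | add p q hp hq => simp only [map_add, hp, hq]
    exact (Algebra.TensorProduct.comm A A' K).symm.injective this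
  have h₁ : Function.Injective (LinearMap.rTensor A' ι.toLinearMap) :=
    Module.Flat.rTensor_preserves_injective_linearMap _ hι
  have h₂ : Function.Injective (μ.lTensor E) :=
    Module.Flat.lTensor_preserves_injective_linearMap _ hμ
  let e₃ := TensorProduct.AlgebraTensorModule.cancelBaseChange A K K E A'
  have : ∀ z, Algebra.TensorProduct.productMap (gE.comp ι)
      (gK.comp (IsScalarTower.toAlgHom A A' K')) z =
        μ.lTensor E (e₃.symm (LinearMap.rTensor A' ι.toLinearMap z)) := by
    intro z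
    induction z with
    | zero => simp
    | tmul z y => simp [gE, gK, μ, e₃, Algebra.TensorProduct.tmul_mul_tmul]
    | add p q hp hq => simp only [map_add, hp, hq]
  rw [this] at hx
  exact h₁ ((e₃.symm.injective (h₂ (hx.trans (map_zero _).symm) |>.trans
    (map_zero e₃.symm).symm)).trans (map_zero _).symm)

end Domain

/-- A flat algebra embeds in its generic fibre. -/
lemma exists_generic_embedding {A A' K' : Type u} [CommRing A] [CommRing A'] [IsDomain A'] [Field K']
    [Algebra A A'] [Algebra A' K'] [Algebra A K'] [IsScalarTower A A' K'] [IsFractionRing A' K']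
    (Q : Type u) [CommRing Q] [Algebra A Q] [Algebra A' Q] [IsScalarTower A A' Q] [Module.Flat A' Q] :
    ∃ (F : Type u) (_ : CommRing F) (_ : Algebra A F) (gF : Q →ₐ[A] F) (gK : K' →ₐ[A] F),
      Function.Injective gF ∧
        gF.comp (IsScalarTower.toAlgHom A A' Q) = gK.comp (IsScalarTower.toAlgHom A A' K') := by
  refine ⟨Q ⊗[A'] K', inferInstance, inferInstance,
    (Algebra.TensorProduct.includeLeft : Q →ₐ[A'] Q ⊗[A'] K').restrictScalars A,
    (Algebra.TensorProduct.includeRight : K' →ₐ[A'] Q ⊗[A'] K').restrictScalars A,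
    Algebra.TensorProduct.includeLeft_injective (S := A') (IsFractionRing.injective A' K'), ?_⟩
  ext y
  exact ((Algebra.TensorProduct.includeLeft : Q →ₐ[A'] Q ⊗[A'] K').commutes y).trans
    ((Algebra.TensorProduct.includeRight : K' →ₐ[A'] Q ⊗[A'] K').commutes y).symm

/-- A flat algebra over a domain is dense in its generic fibre. -/
lemma exists_generic_fibre {A K : Type u} [CommRing A] [Field K] [Algebra A K] [IsFractionRing A K]
    (M : Type u) [CommRing M] [Algebra A M] [Module.Flat A M] :
    ∃ (R : Type u) (_ : CommRing R) (_ : Algebra A R) (iX : M →ₐ[A] R) (_ : K →ₐ[A] R),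
      Function.Injective iX :=
  ⟨M ⊗[A] K, inferInstance, inferInstance, Algebra.TensorProduct.includeLeft,
    Algebra.TensorProduct.includeRight,
    Algebra.TensorProduct.includeLeft_injective (S := A) (IsFractionRing.injective A K)⟩

/-- Maps to a separated space agreeing on a schematically dense subscheme agree. -/
lemma eq_of_dense {A : Type u} [CommRing A] {str : Spec (CommRingCat.of A) ⟶ S} {P : Sp S}
    {s : P ⟶ (yon S).obj (Over.mk str)} (hs : IsSeparatedMor s) {M R : Type u} [CommRing M]
    [Algebra A M] [CommRing R] [Algebra A R] (g : M →ₐ[A] R) (hg : Function.Injective g)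
    (x y : (yon S).obj (spOver str M) ⟶ P) (hxy : x ≫ s = y ≫ s)
    (h : (yon S).map (spMap str g) ≫ x = (yon S).map (spMap str g) ≫ y) : x = y := by
  let m : (yon S).obj (spOver str M) ⟶ pullback.diagonalObj s := pullback.lift x y hxy
  have hsd : RepWith @IsClosedImmersion (pullback.diagonal s) := hs
  have sqm := hsd.1.isPullback m
  have hcm : IsClosedImmersion (hsd.1.snd m).left := repWith_snd hsd m
  let w := hsd.1.lift (g := m) ((yon S).map (spMap str g) ≫ x) (spMap str g) (by
    apply pullback.hom_ext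
    · simp only [m, Category.assoc, pullback.diagonal_fst, Category.comp_id, pullback.lift_fst]
    · simp only [m, Category.assoc, pullback.diagonal_snd, Category.comp_id, pullback.lift_snd]
      exact h)
  have hw : w ≫ hsd.1.snd m = spMap str g := hsd.1.lift_snd _ _ _
  obtain ⟨Iq, e, he⟩ := (IsClosedImmersion.Spec_iff (R := CommRingCat.of M)).1 hcm
  have hIq : Iq = ⊥ := by
    obtain ⟨κ, hκ⟩ := Spec.map_surjective (w.left ≫ e.hom)
    have h1 := congrArg CommaMorphism.left hw
    change w.left ≫ (hsd.1.snd m).left = Spec.map _ at h1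
    rw [he, ← Category.assoc, ← hκ, ← Spec.map_comp] at h1
    rw [eq_bot_iff]
    intro z hz
    refine hg ?_
    rw [map_zero]
    refine (RingHom.congr_fun (congrArg CommRingCat.Hom.hom (Spec.map_injective h1)) z).symm.trans ?_
    show κ.hom (Ideal.Quotient.mk Iq z) = 0
    rw [Ideal.Quotient.eq_zero_iff_mem.2 hz, map_zero]
  have : IsIso (hsd.1.snd m).left := by
    subst hIq
    rw [he]
    have : IsIso (CommRingCat.ofHom (Ideal.Quotient.mk (⊥ : Ideal (CommRingCat.of M)))) :=
      (ConcreteCategory.isIso_iff_bijective _).2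
        ⟨fun x y h => by simpa [Ideal.Quotient.eq, sub_eq_zero] using h, Ideal.Quotient.mk_surjective⟩
    infer_instance
  have : IsIso ((Over.forget S).map (hsd.1.snd m)) := this
  have : IsIso (hsd.1.snd m) := isIso_of_reflects_iso _ (Over.forget S)
  rw [← cancel_epi ((yon S).map (hsd.1.snd m))]
  have e₁ := sqm.w.symm =≫ pullback.fst s s
  have e₂ := sqm.w.symm =≫ pullback.snd s s
  simp only [m, Category.assoc, pullback.diagonal_fst, pullback.diagonal_snd, pullback.lift_fst,
    pullback.lift_snd, Category.comp_id] at e₁ e₂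
  exact e₁.trans e₂.symm

section Closure

variable {A : Type u} [CommRing A] [IsDomain A] {K : Type u} [Field K] [Algebra A K]
  [IsFractionRing A K] {str : Spec (CommRingCat.of A) ⟶ S} {P : Sp S} {B : Type u} [CommRing B]
  [Algebra A B] {a : (yon S).obj (spOver str B) ⟶ P} {σ : (yon S).obj (spOver str K) ⟶ P}
  {I₀ : Ideal (B ⊗[A] K)}

/-- The ideal of the closure of the generic fibre. -/
abbrev closureIdeal (I₀ : Ideal (B ⊗[A] K)) : Ideal B :=
  Ideal.comap (Algebra.TensorProduct.includeLeft : B →ₐ[A] B ⊗[A] K) I₀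

/-- Anything over the generic point compatible with the closure lies over the section. -/
lemma comp_eq_of_closure
    (sq₀ : IsPullback ((yon S).map (spMap str ((Ideal.Quotient.mkₐ A I₀).comp
        Algebra.TensorProduct.includeLeft)))
      ((yon S).map (spMap str ((Ideal.Quotient.mkₐ A I₀).comp
        (Algebra.TensorProduct.includeRight : K →ₐ[A] B ⊗[A] K)))) a σ)
    {G : Type u} [CommRing G] [Algebra A G] (g : (B ⧸ closureIdeal I₀) →ₐ[A] G) (g' : K →ₐ[A] G) :
    (yon S).map (spMap str (g.comp (Ideal.Quotient.mkₐ A (closureIdeal I₀)))) ≫ a =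
      (yon S).map (spMap str g') ≫ σ := by
  refine fibre_ideal_comm sq₀ _ _ fun x hx => ?_
  obtain ⟨b, d, hd, rfl⟩ := exists_tmul_eq x
  have hb : b ∈ closureIdeal I₀ := by
    show b ⊗ₜ[A] (1 : K) ∈ I₀
    have h' := I₀.mul_mem_left ((1 : B) ⊗ₜ[A] algebraMap A K d) hx
    rwa [Algebra.TensorProduct.tmul_mul_tmul, one_mul,
      mul_inv_cancel₀ ((map_ne_zero_iff _ (IsFractionRing.injective A K)).2 hd)] at h'
  rw [Algebra.TensorProduct.productMap_apply_tmul, AlgHom.comp_apply, Ideal.Quotient.mkₐ_eq_mk,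
    Ideal.Quotient.eq_zero_iff_mem.2 hb, map_zero, zero_mul]

variable {A' K' : Type u} [CommRing A'] [IsDomain A'] [Field K'] [Algebra A A'] [Algebra A' K']
  [Algebra A K'] [IsScalarTower A A' K'] [IsFractionRing A' K'] [Algebra K K'] [IsScalarTower A K K']
  {l : (yon S).obj (spOver str A') ⟶ P} {I' : Ideal (B ⊗[A] A')}

/-- The fibre over `A'` is the base change of the closure of the generic fibre. -/
lemma fibre_ideal_eq [Module.Flat A A']
    (sq₀ : IsPullback ((yon S).map (spMap str ((Ideal.Quotient.mkₐ A I₀).comp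
        Algebra.TensorProduct.includeLeft)))
      ((yon S).map (spMap str ((Ideal.Quotient.mkₐ A I₀).comp
        (Algebra.TensorProduct.includeRight : K →ₐ[A] B ⊗[A] K)))) a σ)
    (sq' : IsPullback ((yon S).map (spMap str ((Ideal.Quotient.mkₐ A I').comp
        Algebra.TensorProduct.includeLeft)))
      ((yon S).map (spMap str ((Ideal.Quotient.mkₐ A I').comp
        (Algebra.TensorProduct.includeRight : A' →ₐ[A] B ⊗[A] A')))) a l)
    (het : ((Ideal.Quotient.mk I').comp
        (Algebra.TensorProduct.includeRight : A' →ₐ[A] B ⊗[A] A').toRingHom).Etale)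
    (hlσ : (yon S).map (spMap str (IsScalarTower.toAlgHom A A' K')) ≫ l =
      (yon S).map (spMap str (IsScalarTower.toAlgHom A K K')) ≫ σ) :
    RingHom.ker (Algebra.TensorProduct.map (Ideal.Quotient.mkₐ A (closureIdeal I₀))
      (AlgHom.id A A')) = I' := by
  letI : Algebra K ((B ⊗[A] K) ⧸ I₀) := ((Ideal.Quotient.mkₐ A I₀).comp
    (Algebra.TensorProduct.includeRight : K →ₐ[A] B ⊗[A] K)).toRingHom.toAlgebra
  haveI : IsScalarTower A K ((B ⊗[A] K) ⧸ I₀) := IsScalarTower.of_algebraMap_eq fun x =>
    (((Ideal.Quotient.mkₐ A I₀).comp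
      (Algebra.TensorProduct.includeRight : K →ₐ[A] B ⊗[A] K)).commutes x).symm
  let ι : B ⧸ closureIdeal I₀ →ₐ[A] (B ⊗[A] K) ⧸ I₀ := Ideal.Quotient.liftₐ (closureIdeal I₀)
    ((Ideal.Quotient.mkₐ A I₀).comp Algebra.TensorProduct.includeLeft)
    (fun b hb => Ideal.Quotient.eq_zero_iff_mem.2 hb)
  have hι : Function.Injective ι := by
    rw [injective_iff_map_eq_zero]
    intro z hz
    obtain ⟨b, rfl⟩ := Ideal.Quotient.mk_surjective z
    exact Ideal.Quotient.eq_zero_iff_mem.2
      (show b ⊗ₜ[A] (1 : K) ∈ I₀ from Ideal.Quotient.eq_zero_iff_mem.1 hz)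
  ext x
  rw [RingHom.mem_ker]
  refine ⟨fun hx => ?_, fun hx => eq_zero_of_generic (K := K) (K' := K') ι hι _ ?_⟩
  · letI : Algebra A' ((B ⊗[A] A') ⧸ I') :=
      ((Ideal.Quotient.mk I').comp
        (Algebra.TensorProduct.includeRight : A' →ₐ[A] B ⊗[A] A').toRingHom).toAlgebra
    haveI : IsScalarTower A A' ((B ⊗[A] A') ⧸ I') := IsScalarTower.of_algebraMap_eq fun y =>
      (((Ideal.Quotient.mkₐ A I').comp
        (Algebra.TensorProduct.includeRight : A' →ₐ[A] B ⊗[A] A')).commutes y).symm
    have : Algebra.Etale A' ((B ⊗[A] A') ⧸ I') := het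
    obtain ⟨F, _, _, gF, gK, hinj, hsame⟩ :=
      exists_generic_embedding (A := A) (A' := A') (K' := K') ((B ⊗[A] A') ⧸ I')
    have hsame : gF.comp ((Ideal.Quotient.mkₐ A I').comp
        (Algebra.TensorProduct.includeRight : A' →ₐ[A] B ⊗[A] A')) =
        gK.comp (IsScalarTower.toAlgHom A A' K') :=
      AlgHom.ext fun y => AlgHom.congr_fun hsame y
    let gB := gF.comp ((Ideal.Quotient.mkₐ A I').comp Algebra.TensorProduct.includeLeft)
    have hI₀ : ∀ y ∈ I₀, Algebra.TensorProduct.productMap (S := F) gB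
        (gK.comp (IsScalarTower.toAlgHom A K K')) y = 0 := by
      refine fibre_ideal_le_ker sq₀ _ _ ?_
      rw [← spMap_comp str _ gF, ← spMap_comp str (IsScalarTower.toAlgHom A K K') gK,
        Functor.map_comp, Functor.map_comp, Category.assoc, Category.assoc, sq'.w, ← hlσ,
        ← Category.assoc, ← Category.assoc, ← Functor.map_comp, ← Functor.map_comp, spMap_comp,
        spMap_comp, hsame]
    let gZ : (B ⧸ closureIdeal I₀) →ₐ[A] F := Ideal.Quotient.liftₐ _ gB fun b hb => by
      have := hI₀ _ hb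
      rwa [Algebra.TensorProduct.includeLeft_apply, Algebra.TensorProduct.productMap_apply_tmul,
        map_one, mul_one] at this
    have hfac : ∀ y, gF (Ideal.Quotient.mk I' y) =
        Algebra.TensorProduct.productMap gZ (gK.comp (IsScalarTower.toAlgHom A A' K'))
          (Algebra.TensorProduct.map (Ideal.Quotient.mkₐ A (closureIdeal I₀)) (AlgHom.id A A') y) := by
      intro y
      induction y with
      | zero => simp
      | tmul b z =>
        rw [show b ⊗ₜ[A] z = (b ⊗ₜ[A] (1 : A')) * ((1 : B) ⊗ₜ[A] z) by simp, map_mul, map_mul,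
          map_mul, map_mul]
        congr 1
        · rw [Algebra.TensorProduct.map_tmul, Algebra.TensorProduct.productMap_apply_tmul,
            map_one, map_one, mul_one]
          rfl
        · rw [Algebra.TensorProduct.map_tmul, Algebra.TensorProduct.productMap_apply_tmul,
            map_one, map_one, one_mul]
          exact AlgHom.congr_fun hsame z
      | add p q hp hq => simp only [map_add, hp, hq]
    refine Ideal.Quotient.eq_zero_iff_mem.1 (hinj ?_)
    rw [hfac, hx, map_zero, map_zero]
  · intro G _ _ gE gK hcompat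
    have key : ∀ y, Algebra.TensorProduct.productMap (gE.comp ι)
        (gK.comp (IsScalarTower.toAlgHom A A' K'))
        (Algebra.TensorProduct.map (Ideal.Quotient.mkₐ A (closureIdeal I₀)) (AlgHom.id A A') y) =
      Algebra.TensorProduct.productMap ((gE.comp ι).comp (Ideal.Quotient.mkₐ A (closureIdeal I₀)))
        (gK.comp (IsScalarTower.toAlgHom A A' K')) y := by
      intro y
      induction y with
      | zero => simp
      | tmul b z => rw [Algebra.TensorProduct.map_tmul]; simp
      | add p q hp hq => simp only [map_add, hp, hq]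
    rw [key]
    refine fibre_ideal_le_ker sq' _ _ ?_ x hx
    rw [← spMap_comp str (IsScalarTower.toAlgHom A A' K') gK, Functor.map_comp, Category.assoc,
      hlσ, ← Category.assoc, ← Functor.map_comp, spMap_comp]
    exact comp_eq_of_closure sq₀ (gE.comp ι) (gK.comp (IsScalarTower.toAlgHom A K K'))

end Closure

/-- The core: a dotted arrow over an extension gives one over the valuation ring. -/
theorem exists_section_of_ext {A K A' K' : Type u} [CommRing A] [IsDomain A] [ValuationRing A]
    [Field K] [Algebra A K] [IsFractionRing A K] [CommRing A'] [IsDomain A'] [ValuationRing A']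
    [Field K'] [Algebra A' K'] [IsFractionRing A' K'] [Algebra A A'] [Algebra A K']
    [IsScalarTower A A' K'] [Algebra K K'] [IsScalarTower A K K'] [IsLocalHom (algebraMap A A')]
    (str : Spec (CommRingCat.of A) ⟶ S) {P : Sp S} (hP : IsAlgSpace P)
    {s : P ⟶ (yon S).obj (Over.mk str)} (hs : IsSeparatedMor s)
    (σ : (yon S).obj (spOver str K) ⟶ P) (hσ : σ ≫ s = (yon S).map (spBase str K))
    (l : (yon S).obj (spOver str A') ⟶ P) (hl : l ≫ s = (yon S).map (spBase str A'))
    (hlσ : (yon S).map (spMap str (IsScalarTower.toAlgHom A A' K')) ≫ l =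
      (yon S).map (spMap str (IsScalarTower.toAlgHom A K K')) ≫ σ) :
    ∃ lam : (yon S).obj (Over.mk str) ⟶ P,
      (yon S).map (spBase str K) ≫ lam = σ ∧ lam ≫ s = 𝟙 _ := by
  -- an affine chart at the closed point
  obtain ⟨U₀, a₀, ha₀, has₀⟩ := hP.atlas
  obtain ⟨u₀, hu₀⟩ := surjective_ofPt has₀ (Points.ofPt l (closedPoint A'))
  obtain ⟨_, ⟨(O : U₀.left.Opens), hO, rfl⟩, huO, -⟩ :=
    U₀.left.isBasis_affineOpens.exists_subset_of_mem_open (Set.mem_univ u₀) isOpen_univ
  have : IsAffine O.toScheme := hO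
  obtain ⟨φ, hφ⟩ := (yon S).map_surjective
    ((yon S).map (Over.homMk O.ι rfl : Over.mk (O.ι ≫ U₀.hom) ⟶ U₀) ≫ a₀ ≫ s)
  obtain ⟨β, hβ⟩ := Spec.map_surjective (O.toScheme.isoSpec.inv ≫ φ.left)
  let B : Type u := Γ(O.toScheme, ⊤)
  letI : Algebra A B := β.hom.toAlgebra
  let j : spOver str B ⟶ U₀ := Over.homMk (O.toScheme.isoSpec.inv ≫ O.ι) (by
    show (O.toScheme.isoSpec.inv ≫ O.ι) ≫ U₀.hom = Spec.map β ≫ str
    rw [hβ, Category.assoc, Category.assoc]
    exact congrArg (_ ≫ ·) (Over.w φ).symm)
  let a := (yon S).map j ≫ a₀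
  have hje : Etale j.left := inferInstanceAs (Etale (O.toScheme.isoSpec.inv ≫ O.ι))
  have ha : RepWith @Etale a := repWith_comp (repWith_map hje) ha₀
  let j₁ : spOver str B ⟶ Over.mk (O.ι ≫ U₀.hom) := Over.homMk O.toScheme.isoSpec.inv
    ((Category.assoc _ _ _).symm.trans (Over.w j))
  have has : a ≫ s = (yon S).map (spBase str B) := by
    rw [Category.assoc, show j = j₁ ≫ Over.homMk O.ι rfl from Over.OverMorphism.ext rfl,
      Functor.map_comp, Category.assoc, ← hφ, ← Functor.map_comp]
    congr 1
    exact Over.OverMorphism.ext hβ.symm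
  obtain ⟨I₀, sq₀, -⟩ := exists_fibre_ideal str hs ha has σ hσ
  obtain ⟨I', sq', het⟩ := exists_fibre_ideal str hs ha has l hl
  -- the schematic closure of the generic fibre
  let J : Ideal B := closureIdeal I₀
  let Z := B ⧸ J
  have hZflat : Module.Flat A Z :=
    flat_of_injective (K := K) (Ideal.Quotient.liftₐ J
      ((Ideal.Quotient.mkₐ A I₀).comp Algebra.TensorProduct.includeLeft)
      (fun b hb => Ideal.Quotient.eq_zero_iff_mem.2 hb)) (by
        rw [injective_iff_map_eq_zero]
        intro z hz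
        obtain ⟨b, rfl⟩ := Ideal.Quotient.mk_surjective z
        exact Ideal.Quotient.eq_zero_iff_mem.2
          (show b ⊗ₜ[A] (1 : K) ∈ I₀ from Ideal.Quotient.eq_zero_iff_mem.1 hz))
      ((Ideal.Quotient.mkₐ A I₀).comp (Algebra.TensorProduct.includeRight : K →ₐ[A] B ⊗[A] K))
  have hA'flat : Module.Flat A A' := flat_of_smul_eq_zero fun d hd y hy => by
    rw [Algebra.smul_def, mul_eq_zero] at hy
    refine hy.resolve_left fun e => hd ?_
    apply IsFractionRing.injective A K
    apply (algebraMap K K').injective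
    simp only [map_zero]
    rw [← IsScalarTower.algebraMap_apply A K K', IsScalarTower.algebraMap_apply A A' K' d, e,
      map_zero]
  have hgen : ∀ {G : Type u} [CommRing G] [Algebra A G] (g : Z →ₐ[A] G) (g' : K →ₐ[A] G),
      (yon S).map (spMap str (g.comp (Ideal.Quotient.mkₐ A J))) ≫ a =
        (yon S).map (spMap str g') ≫ σ := fun g g' => comp_eq_of_closure sq₀ g g'
  let Pm : B ⊗[A] A' →ₐ[A] Z ⊗[A] A' :=
    Algebra.TensorProduct.map (Ideal.Quotient.mkₐ A J) (AlgHom.id A A')
  have hPs : Function.Surjective Pm := by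
    intro x
    induction x with
    | zero => exact ⟨0, map_zero _⟩
    | tmul z y =>
      obtain ⟨b, rfl⟩ := Ideal.Quotient.mk_surjective z
      exact ⟨b ⊗ₜ y, rfl⟩
    | add x y hx hy =>
      obtain ⟨p, rfl⟩ := hx; obtain ⟨q, rfl⟩ := hy
      exact ⟨p + q, map_add _ _ _⟩
  have hkerP : RingHom.ker Pm.toRingHom = I' := fibre_ideal_eq sq₀ sq' het hlσ
  let eF : (B ⊗[A] A') ⧸ I' ≃+* Z ⊗[A] A' :=
    (Ideal.quotEquivOfEq hkerP.symm).trans (RingHom.quotientKerEquivOfSurjective hPs)
  have heF : eF.toRingHom.comp ((Ideal.Quotient.mk I').comp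
      (Algebra.TensorProduct.includeRight : A' →ₐ[A] B ⊗[A] A').toRingHom) =
      (Algebra.TensorProduct.includeRight : A' →ₐ[A] Z ⊗[A] A').toRingHom := by
    ext y
    show Pm ((1 : B) ⊗ₜ[A] y) = (1 : Z) ⊗ₜ[A] y
    simp [Pm]
  -- `Spec Z → Spec A` is etale and surjective
  have hAA' : Module.FaithfullyFlat A A' := Module.FaithfullyFlat.of_flat_of_isLocalHom
  have hff := (flat_and_surjective_SpecMap_iff (CommRingCat.ofHom (algebraMap A A'))).2
    (RingHom.faithfullyFlat_algebraMap_iff.2 hAA')
  have sqZ : IsPullback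
      (Spec.map (CommRingCat.ofHom (Algebra.TensorProduct.includeLeftRingHom : Z →+* Z ⊗[A] A')))
      (Spec.map (CommRingCat.ofHom
        (Algebra.TensorProduct.includeRight : A' →ₐ[A] Z ⊗[A] A').toRingHom))
      (Spec.map (CommRingCat.ofHom (algebraMap A Z))) (Spec.map (CommRingCat.ofHom (algebraMap A A'))) :=
    isPullback_SpecMap_of_isPushout _ _ _ _ (CommRingCat.isPushout_tensorProduct A Z A')
  have hZet : Etale (Spec.map (CommRingCat.ofHom (algebraMap A Z))) := by
    have := hff.1
    have := hff.2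
    have : QuasiCompact (Spec.map (CommRingCat.ofHom (algebraMap A A'))) :=
      (HasAffineProperty.iff_of_isAffine (P := @QuasiCompact)).mpr inferInstance
    refine MorphismProperty.of_isPullback_of_descendsAlong (P := @Etale)
      (Q := @Surjective ⊓ @Flat ⊓ @QuasiCompact) sqZ.flip ⟨⟨inferInstance, inferInstance⟩, inferInstance⟩ ?_
    refine (HasRingHomProperty.Spec_iff (P := @Etale)).2 ?_
    rw [CommRingCat.hom_ofHom, ← heF]
    exact RingHom.Etale.respectsIso.1 _ eF het
  have hZs : Surjective (Spec.map (CommRingCat.ofHom (algebraMap A Z))) := by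
    obtain ⟨w, -, hw⟩ := exists_point_of_isPullback sq'
      (x := Points.ofScheme (spOver str B) (O.toScheme.isoSpec.hom ⟨u₀, huO⟩))
      (u := (closedPoint A' : (spOver str A').left)) (by
        rw [← Points.ofPt_eq_map_ofScheme, ofPt_comp]
        refine (congrArg (Points.ofPt a₀) ?_).trans hu₀
        show (O.toScheme.isoSpec.inv ≫ O.ι) (O.toScheme.isoSpec.hom ⟨u₀, huO⟩) = u₀
        rw [← Scheme.Hom.comp_apply, Iso.hom_inv_id_assoc]
        rfl)
    have hmem : ∃ z, Spec.map (CommRingCat.ofHom (algebraMap A Z)) z = closedPoint A := by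
      refine ⟨Spec.map (CommRingCat.ofHom (Algebra.TensorProduct.includeLeftRingHom : Z →+* Z ⊗[A] A'))
        (PrimeSpectrum.comap eF.symm.toRingHom w), ?_⟩
      rw [← Scheme.Hom.comp_apply, sqZ.w, Scheme.Hom.comp_apply]
      refine Eq.trans (congrArg _ ?_) (comap_closedPoint (algebraMap A A'))
      show PrimeSpectrum.comap _ (PrimeSpectrum.comap eF.symm.toRingHom w) = closedPoint A'
      rw [← PrimeSpectrum.comap_comp_apply]
      refine Eq.trans (congrArg (fun r => PrimeSpectrum.comap r w) ?_) hw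
      refine RingHom.ext fun y => ?_
      show eF.symm _ = _
      rw [RingEquiv.symm_apply_eq]
      exact (RingHom.congr_fun heF y).symm
    have hgm : GeneralizingMap (Spec.map (CommRingCat.ofHom (algebraMap A Z))) :=
      Flat.generalizingMap _
    refine ⟨fun p => ?_⟩
    obtain ⟨z, hz⟩ := hmem
    obtain ⟨z', -, hz'⟩ := hgm (show p ⤳ Spec.map (CommRingCat.ofHom (algebraMap A Z)) z by
      rw [hz]; exact specializes_closedPoint p)
    exact ⟨z', hz'⟩
  -- glue
  let T := (Over.mk str : Over S)
  let aZ := (yon S).map (spMap str (Ideal.Quotient.mkₐ A J)) ≫ a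
  let b := (yon S).map (spBase str Z)
  have hbe : RepWith @Etale b := repWith_map hZet
  have hbs : RepWith @Surjective b := repWith_map hZs
  have : Epi b := epi_of_repWith b hbe hbs
  let iL : Z →ₐ[A] Z ⊗[A] Z := Algebra.TensorProduct.includeLeft
  let iR : Z →ₐ[A] Z ⊗[A] Z := Algebra.TensorProduct.includeRight
  have sqZZ : IsPullback (spMap str iL) (spMap str iR) (spBase str Z) (spBase str Z) :=
    IsPullback.of_map (Over.forget S) (by rw [spMap_base, spMap_base])
      (isPullback_SpecMap_of_isPushout _ _ _ _ (CommRingCat.isPushout_tensorProduct A Z Z))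
  have sqb := sqZZ.map (yon S)
  have hdesc : (yon S).map (spMap str iL) ≫ aZ = (yon S).map (spMap str iR) ≫ aZ := by
    have hb' : ∀ i : Z →ₐ[A] Z ⊗[A] Z, ((yon S).map (spMap str i) ≫ aZ) ≫ s =
        (yon S).map (spBase str (Z ⊗[A] Z)) := fun i => by
      rw [Category.assoc, Category.assoc, has, ← Functor.map_comp, ← Functor.map_comp, spMap_base,
        spMap_base]
    have : Module.Flat A (Z ⊗[A] Z) := inferInstance
    obtain ⟨R₂, _, _, iX, gK', hiX⟩ := exists_generic_fibre (A := A) (K := K) (Z ⊗[A] Z)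
    refine eq_of_dense hs iX hiX
      _ _ ((hb' iL).trans (hb' iR).symm) ?_
    simp only [aZ, ← Category.assoc, ← Functor.map_comp, spMap_comp]
    exact (hgen (iX.comp iL) gK').trans (hgen (iX.comp iR) gK').symm
  obtain ⟨hc⟩ := nonempty_isColimit_cofork b sqb
  let lam := hc.desc (Cofork.ofπ aZ hdesc)
  have hlam : b ≫ lam = aZ := hc.fac (Cofork.ofπ aZ hdesc) WalkingParallelPair.one
  refine ⟨lam, ?_, ?_⟩
  · let kZ : Z →ₐ[A] Z ⊗[A] K := Algebra.TensorProduct.includeLeft
    let kK : K →ₐ[A] Z ⊗[A] K := Algebra.TensorProduct.includeRight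
    have sqK : IsPullback (spMap str kZ) (spMap str kK) (spBase str Z) (spBase str K) :=
      IsPullback.of_map (Over.forget S) (by rw [spMap_base, spMap_base])
        (isPullback_SpecMap_of_isPushout _ _ _ _ (CommRingCat.isPushout_tensorProduct A Z K))
    have sqKy := sqK.map (yon S)
    have : Epi ((yon S).map (spMap str kK)) :=
      epi_of_repWith _ (repWith_of_isPullback sqKy hbe) (repWith_of_isPullback sqKy hbs)
    rw [← cancel_epi ((yon S).map (spMap str kK)), ← Category.assoc, ← sqKy.w, Category.assoc, hlam,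
      ← hgen kZ kK, ← spMap_comp str _ kZ, Functor.map_comp, Category.assoc]
  · rw [← cancel_epi b, ← Category.assoc, hlam, Category.comp_id]
    rw [Category.assoc, has, ← Functor.map_comp, spMap_base]

end Groth.L23

namespace Groth.L23

/-- A dotted arrow after an extension gives a dotted arrow, for separated morphisms. -/
theorem hasLift_of_separated {S : Scheme.{u}} {X Y : Sp S} (hX : IsAlgSpace X) (hY : IsAlgSpace Y)
    {f : X ⟶ Y} (hf : IsSeparatedMor f) (v : ValSq f) (e : v.DomExt) (he : e.HasLift) :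
    v.HasLift := by
  obtain ⟨l, hl₁, hl₂⟩ := he
  letI : Algebra v.A e.A' := e.φ.toAlgebra
  letI : Algebra v.K e.K' := e.ψ.toAlgebra
  letI : Algebra v.A e.K' := ((algebraMap e.A' e.K').comp e.φ).toAlgebra
  haveI : IsScalarTower v.A e.A' e.K' := IsScalarTower.of_algebraMap_eq fun _ => rfl
  haveI : IsScalarTower v.A v.K e.K' := IsScalarTower.of_algebraMap_eq (RingHom.congr_fun e.comm)
  haveI : IsLocalHom (algebraMap v.A e.A') := e.isLocalHom
  have sq := IsPullback.of_hasPullback f v.bot
  have hP : IsAlgSpace (pullback f v.bot) :=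
    isAlgSpace_of_isPullback hY.diag hX (IsAlgSpace.yon_obj _) sq
  let σ : (yon S).obj (spOver v.str v.K) ⟶ pullback f v.bot :=
    sq.lift v.top ((yon S).map (spBase v.str v.K)) v.comm
  let l' : (yon S).obj (spOver v.str e.A') ⟶ pullback f v.bot :=
    sq.lift l ((yon S).map (spBase v.str e.A')) hl₂
  let κ : spOver v.str e.K' ⟶ e.ptK' := Over.homMk (𝟙 _) (by
    show 𝟙 _ ≫ Spec.map _ ≫ Spec.map _ ≫ v.str = Spec.map _ ≫ v.str
    rw [Category.id_comp, ← Spec.map_comp_assoc]
    rfl)
  obtain ⟨lam, h₁, h₂⟩ := exists_section_of_ext (K := v.K) (A' := e.A') (K' := e.K') v.str hP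
    (s := pullback.snd f v.bot) (separated_of_isPullback sq hf) σ (sq.lift_snd _ _ _) l'
    (sq.lift_snd _ _ _) (by
      apply sq.hom_ext
      · rw [Category.assoc, Category.assoc, sq.lift_fst, sq.lift_fst]
        have h := congrArg ((yon S).map κ ≫ ·) hl₁
        simp only [← Category.assoc, ← Functor.map_comp] at h
        refine Eq.trans ?_ (h.trans ?_)
        · congr 2
        · congr 2
      · rw [Category.assoc, Category.assoc, sq.lift_snd, sq.lift_snd, ← Functor.map_comp,
          ← Functor.map_comp, spMap_base, spMap_base])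
  refine ⟨lam ≫ pullback.fst f v.bot, ?_, by rw [Category.assoc, sq.w, reassoc_of% h₂]⟩
  refine (Category.assoc _ _ _).symm.trans ?_
  exact (congrArg (· ≫ pullback.fst f v.bot) h₁).trans (sq.lift_fst _ _ _)

theorem existVC_iff_strict_of_separated {S : Scheme.{u}} {X Y : Sp S} (hX : IsAlgSpace X)
    (hY : IsAlgSpace Y) {f : X ⟶ Y} (hf : IsSeparatedMor f) : ExistVC f ↔ ExistVCStrict f := by
  refine ⟨fun h v => ?_, fun h v => ?_⟩
  · obtain ⟨e, he⟩ := h v
    exact hasLift_of_separated hX hY hf v e he
  · obtain ⟨l, h₁, h₂⟩ := h v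
    let e : v.DomExt :=
      { A' := v.A, K' := v.K, φ := RingHom.id _, ψ := RingHom.id _, comm := rfl
        isLocalHom := ⟨fun _ h => h⟩ }
    let i : e.ptA' ⟶ v.ptA := Over.homMk (Spec.map (CommRingCat.ofHom e.φ)) rfl
    refine ⟨e, (yon S).map i ≫ l, ?_, by rw [Category.assoc, h₂]⟩
    rw [← h₁, ← Category.assoc, ← Category.assoc, ← Functor.map_comp, ← Functor.map_comp]
    congr 2
    ext1
    simp only [i, e, Over.comp_left, Over.homMk_left, CommRingCat.ofHom_id, Spec.map_id]
    exact (Category.comp_id _).trans (Category.id_comp _).symm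

end Groth.L23
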