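import Groth.Agent.L23.Refined
import Groth.Agent.L23.LiftDescent
import Groth.Agent.L23.LocP
import Groth.Agent.L23.MorCalc
import Groth.Agent.L18.DominatingDVR
import Mathlib.RingTheory.Smooth.Flat
import Mathlib.RingTheory.Ideal.GoingDown

/-!
# Discrete valuation rings suffice in the valuative criteria over locally Noetherian bases
-/

universe u

open CategoryTheory CategoryTheory.Limits AlgebraicGeometry Opposite AlgSp Topology IsLocalRing
open scoped TensorProduct

set_option backward.isDefEq.respectTransparency.types false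
set_option maxHeartbeats 400000

namespace Groth.L23

variable {S : Scheme.{u}}

section Core

variable {A : Type u} [CommRing A] (str : Spec (CommRingCat.of A) ⟶ S) {P U' : Sp S}

/-- An affine chart of a space over `Spec A`, as the spectrum of an `A`-algebra. -/
lemma exists_spOver_of_chart {E : CommRingCat.{u}} {sE : Spec E ⟶ S}
    (c : (yon S).obj (Over.mk sE) ⟶ P) (π : P ⟶ (yon S).obj (Over.mk str)) :
    ∃ χ : A →+* E, sE = Spec.map (CommRingCat.ofHom χ) ≫ str ∧
      ∀ k : Over.mk sE ⟶ Over.mk str, k.left = Spec.map (CommRingCat.ofHom χ) →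
        c ≫ π = (yon S).map k := by
  obtain ⟨φ, hφ⟩ := (yon S).map_surjective (c ≫ π)
  obtain ⟨χ, hχ⟩ := Spec.map_surjective φ.left
  refine ⟨χ.hom, ?_, fun k hk => ?_⟩
  · rw [CommRingCat.ofHom_hom, hχ]; exact (Over.w φ).symm
  · rw [← hφ]; congr 1; exact Over.OverMorphism.ext (hχ.symm.trans hk.symm)

lemma exists_spOver_atlas (hP : IsQuasiCompactSp P) (π : P ⟶ (yon S).obj (Over.mk str)) :
    ∃ (B : Type u) (_ : CommRing B) (_ : Algebra A B) (a : (yon S).obj (spOver str B) ⟶ P),
      RepWith @Etale a ∧ RepWith @Surjective a ∧ a ≫ π = (yon S).map (spBase str B) := by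
  obtain ⟨D, sD, a, ha, has⟩ := exists_affine_atlas hP
  obtain ⟨χ, rfl, hk⟩ := exists_spOver_of_chart str a π
  letI : Algebra A D := χ.toAlgebra
  exact ⟨D, inferInstance, inferInstance, a, ha, has, hk (spBase str D) rfl⟩

variable {V K : Type u} [CommRing V] [IsDomain V] [ValuationRing V] [Field K] [Algebra V K]
  [IsFractionRing V K]

/-- Either some valuation ring over `V` contains the algebra, or a relation witnesses that none
does. -/
theorem exists_extension_or_relation {B M : Type u} [CommRing B] [CommRing M] [Algebra A B]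
    [Algebra A V] [Algebra A M] (η : B →ₐ[A] M) (ρ : K →+* M)
    (hρ : ∀ x : A, ρ (algebraMap V K (algebraMap A V x)) = algebraMap A M x) :
    (∃ (L : Type u) (_ : Field L) (W : ValuationSubring L) (μ : M →+* L) (φ : V →+* W)
      (g : B →+* W), IsLocalHom φ ∧ (∀ v, (φ v : L) = μ (ρ (algebraMap V K v))) ∧
        ∀ b, (g b : L) = μ (η b)) ∨
    ∃ (n : ℕ) (b : Fin n → B) (v : Fin n → V), (∀ i, v i ∈ maximalIdeal V) ∧
      ∑ i, η (b i) * ρ (algebraMap V K (v i)) = 1 := by
  let τ : B ⊗[A] V →ₐ[A] M := Algebra.TensorProduct.productMap η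
    { __ := ρ.comp (algebraMap V K), commutes' := hρ }
  let J : Ideal (B ⊗[A] V) :=
    (maximalIdeal V).map (Algebra.TensorProduct.includeRight : V →ₐ[A] B ⊗[A] V)
  by_cases htop : RingHom.ker τ.toRingHom ⊔ J = ⊤
  · right
    letI := η.toRingHom.toAlgebra
    let T : Submodule B M :=
      Submodule.span B ((fun v => ρ (algebraMap V K v)) '' (maximalIdeal V : Set V))
    have hmul : ∀ y : B ⊗[A] V, ∀ v ∈ maximalIdeal V, τ y * ρ (algebraMap V K v) ∈ T := by
      intro y v hv
      induction y with
      | zero => simp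
      | tmul b w =>
        have : τ (b ⊗ₜ w) * ρ (algebraMap V K v) = b • ρ (algebraMap V K (w * v)) := by
          rw [Algebra.smul_def, map_mul, map_mul, ← mul_assoc]
          rfl
        rw [this]
        exact T.smul_mem _ (Submodule.subset_span ⟨_, Ideal.mul_mem_left _ w hv, rfl⟩)
      | add y z hy hz => rw [map_add, add_mul]; exact T.add_mem hy hz
    have hJ : ∀ x ∈ J, ∀ y, τ (y * x) ∈ T := by
      intro x hx
      induction hx using Submodule.span_induction with
      | mem x hx =>
        obtain ⟨v, hv, rfl⟩ := hx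
        intro y
        rw [map_mul]
        have : τ (Algebra.TensorProduct.includeRight (R := A) (A := B) v) = ρ (algebraMap V K v) := by
          simp [τ]
        rw [this]
        exact hmul y v hv
      | zero => simp
      | add x z _ _ hx hz => intro y; rw [mul_add, map_add]; exact T.add_mem (hx y) (hz y)
      | smul r x _ hx => intro y; rw [smul_eq_mul, ← mul_assoc]; exact hx _
    obtain ⟨k, hk, j, hj, hkj⟩ := Submodule.mem_sup.1 (htop.ge (Submodule.mem_top (x := (1 : B ⊗[A] V))))
    have h1 : (1 : M) ∈ T := by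
      have := hJ j hj 1
      rw [one_mul] at this
      have e : τ k + τ j = 1 := by rw [← map_add, hkj, map_one]
      rw [show τ k = 0 from hk, zero_add] at e
      exact e ▸ this
    obtain ⟨n, b, g, hbg⟩ := Submodule.mem_span_set'.1 h1
    choose v hv hvg using fun i => (g i).2
    refine ⟨n, b, v, hv, ?_⟩
    rw [← hbg]
    exact Finset.sum_congr rfl fun i _ => congrArg (η (b i) * ·) (hvg i)
  · left
    obtain ⟨𝔭, h𝔭, hle⟩ := Ideal.exists_le_maximal _ htop
    obtain ⟨Q, hQ, hQle⟩ := Ideal.exists_minimalPrimes_le (le_sup_left.trans hle)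
    obtain ⟨N, hN, -, hNQ⟩ := Ideal.exists_comap_eq_of_mem_minimalPrimes (I := ⊥) τ.toRingHom Q hQ
    let μ : M →+* N.ResidueField := algebraMap M _
    obtain ⟨W, θW, hθW, hcl⟩ := exists_valuation_over (μ.comp τ.toRingHom) ⟨𝔭, h𝔭.isPrime⟩
      fun y hy => hQle <| by
        rw [← hNQ]
        show τ y ∈ N
        exact Ideal.algebraMap_residueField_eq_zero.1 hy
    refine ⟨_, inferInstance, W, μ,
      θW.comp (Algebra.TensorProduct.includeRight : V →ₐ[A] B ⊗[A] V).toRingHom,
      θW.comp (Algebra.TensorProduct.includeLeftRingHom : B →+* B ⊗[A] V), ⟨fun v hv => ?_⟩,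
      fun v => ?_, fun b => ?_⟩
    · by_contra hv'
      have hmem : Algebra.TensorProduct.includeRight (R := A) (A := B) v ∈ 𝔭 :=
        hle (Ideal.mem_sup_right (Ideal.mem_map_of_mem _ hv'))
      have h2 := (congrArg PrimeSpectrum.asIdeal hcl).ge hmem
      exact h2 hv
    · refine (RingHom.congr_fun hθW _).trans (congrArg μ ?_)
      show τ _ = _
      simp [τ]
    · refine (RingHom.congr_fun hθW _).trans (congrArg μ ?_)
      show τ _ = _
      simp [τ]

/-- The arithmetic of the relation: no prime over the closed point survives it. -/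
theorem false_of_relation_aux {R' K' G M B : Type u} [CommRing R'] [IsDomain R'] [IsLocalRing R']
    [Field K'] [Algebra R' K'] [IsFractionRing R' K'] [CommRing G] [CommRing M] [CommRing B]
    (u : B →+* G) (v : R' →+* G) (hv : v.Etale) (w : PrimeSpectrum G)
    (hw : PrimeSpectrum.comap v w = closedPoint R')
    (η : B →+* M) (ρ : K →+* M) (ψ : K →+* K')
    (huniv : ∀ (F : Type u) [Field F] (γ : G →+* F) (g : K' →+* F),
      g.comp (algebraMap R' K') = γ.comp v →
        ∃ μ : M →+* F, μ.comp η = γ.comp u ∧ μ.comp ρ = g.comp ψ)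
    {n : ℕ} (b : Fin n → B) (x : Fin n → K)
    (ht : ∀ i, ∃ r ∈ maximalIdeal R', algebraMap R' K' r = ψ (x i))
    (h1 : ∑ i, η (b i) * ρ (x i) = 1) : False := by
  letI : Algebra R' G := v.toAlgebra
  have : Algebra.Etale R' G := hv
  have : Module.Flat R' G := inferInstance
  have : w.asIdeal.LiesOver (maximalIdeal R') := ⟨(congrArg PrimeSpectrum.asIdeal hw).symm⟩
  obtain ⟨Q, hQle, hQp, hQ⟩ := Ideal.exists_ideal_le_liesOver_of_le (p := (⊥ : Ideal R'))
    (q := maximalIdeal R') w.asIdeal bot_le
  let γ : G →+* Q.ResidueField := algebraMap G _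
  have hinj : Function.Injective (γ.comp v) := by
    rw [injective_iff_map_eq_zero]
    intro r hr
    have hrQ : v r ∈ Q := Ideal.algebraMap_residueField_eq_zero.1 hr
    exact (Submodule.mem_bot R').1 (hQ.over.ge hrQ)
  let gK : K' →+* Q.ResidueField := IsFractionRing.lift hinj
  have hgK : ∀ r, gK (algebraMap R' K' r) = γ (v r) := fun r =>
    IsFractionRing.lift_algebraMap hinj r
  clear_value gK
  obtain ⟨μ, hμB, hμK⟩ := huniv Q.ResidueField γ gK (RingHom.ext hgK)
  choose r hr hrx using ht
  have hq : ∑ i, u (b i) * v (r i) ∈ w.asIdeal :=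
    Ideal.sum_mem _ fun i _ => Ideal.mul_mem_left _ _ ((congrArg PrimeSpectrum.asIdeal hw).ge (hr i))
  have e : γ (∑ i, u (b i) * v (r i)) = γ 1 := by
    rw [map_one, ← map_one μ, ← h1, map_sum, map_sum]
    refine Finset.sum_congr rfl fun i _ => ?_
    rw [map_mul, map_mul]
    refine congrArg₂ (· * ·) (RingHom.congr_fun hμB (b i)).symm ?_
    refine Eq.trans ?_ (RingHom.congr_fun hμK (x i)).symm
    exact ((hgK (r i)).symm.trans (congrArg gK (hrx i)))
  rw [← sub_eq_zero, ← map_sub, Ideal.algebraMap_residueField_eq_zero] at e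
  exact w.isPrime.ne_top ((Ideal.eq_top_iff_one _).2
    ((Submodule.sub_mem_iff_right _ hq).1 (hQle e)))

/-- A relation forbids dotted arrows with source a valuation ring in which the coefficients are
non-units. -/
theorem false_of_relation [Algebra A K] {B : Type u} [CommRing B] [Algebra A B]
    {a : (yon S).obj (spOver str B) ⟶ P} {π : P ⟶ (yon S).obj (Over.mk str)} (hs : IsSeparatedMor π)
    (ha : RepWith @Etale a) (has : RepWith @Surjective a) (haπ : a ≫ π = (yon S).map (spBase str B))
    {σ : (yon S).obj (spOver str K) ⟶ P} {I : Ideal (B ⊗[A] K)}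
    (sq : IsPullback ((yon S).map (spMap str ((Ideal.Quotient.mkₐ A I).comp
        Algebra.TensorProduct.includeLeft)))
      ((yon S).map (spMap str ((Ideal.Quotient.mkₐ A I).comp
        (Algebra.TensorProduct.includeRight : K →ₐ[A] B ⊗[A] K)))) a σ)
    {R' K' : Type u} [CommRing R'] [IsDomain R'] [IsLocalRing R'] [Field K'] [Algebra A R']
    [Algebra R' K'] [IsFractionRing R' K'] [Algebra A K'] [IsScalarTower A R' K']
    (ψ : K →ₐ[A] K') (l : (yon S).obj (spOver str R') ⟶ P) (hl : l ≫ π = (yon S).map (spBase str R'))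
    (hlσ : (yon S).map (spMap str (IsScalarTower.toAlgHom A R' K')) ≫ l =
      (yon S).map (spMap str ψ) ≫ σ)
    {η : B →+* (B ⊗[A] K) ⧸ I} {ρ : K →+* (B ⊗[A] K) ⧸ I}
    (hη : η = ((Ideal.Quotient.mkₐ A I).comp Algebra.TensorProduct.includeLeft).toRingHom)
    (hρ : ρ = ((Ideal.Quotient.mkₐ A I).comp
      (Algebra.TensorProduct.includeRight : K →ₐ[A] B ⊗[A] K)).toRingHom)
    {n : ℕ} (b : Fin n → B) (x : Fin n → K)
    (ht : ∀ i, ∃ r ∈ maximalIdeal R', algebraMap R' K' r = ψ (x i))
    (h1 : ∑ i, η (b i) * ρ (x i) = 1) : False := by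
  obtain ⟨I', sq', het⟩ := exists_fibre_ideal str hs ha haπ l hl
  obtain ⟨y, hy⟩ := surjective_ofPt has (Points.ofPt l (closedPoint R'))
  obtain ⟨w, -, hw⟩ := exists_point_of_isPullback sq' (x := Points.ofScheme (spOver str B) y)
    (u := (closedPoint R' : (spOver str R').left)) (by rw [← Points.ofPt_eq_map_ofScheme]; exact hy)
  refine false_of_relation_aux
    ((Ideal.Quotient.mkₐ A I').comp Algebra.TensorProduct.includeLeft).toRingHom
    ((Ideal.Quotient.mkₐ A I').comp
      (Algebra.TensorProduct.includeRight : R' →ₐ[A] B ⊗[A] R')).toRingHom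
    het w hw η ρ ψ.toRingHom (fun F _ γ g hg => ?_) b x ht h1
  letI : Algebra A F := (γ.comp (algebraMap A ((B ⊗[A] R') ⧸ I'))).toAlgebra
  let γ' : (B ⊗[A] R') ⧸ I' →ₐ[A] F := { __ := γ, commutes' := fun _ => rfl }
  let g' : K' →ₐ[A] F :=
    { __ := g
      commutes' := fun c => by
        show g _ = _
        rw [IsScalarTower.algebraMap_apply A R' K']
        refine (RingHom.congr_fun hg _).trans (congrArg γ ?_)
        exact ((Ideal.Quotient.mkₐ A I').comp
          (Algebra.TensorProduct.includeRight : R' →ₐ[A] B ⊗[A] R')).commutes c }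
  have hg' : g'.comp (IsScalarTower.toAlgHom A R' K') = γ'.comp ((Ideal.Quotient.mkₐ A I').comp
      (Algebra.TensorProduct.includeRight : R' →ₐ[A] B ⊗[A] R')) :=
    AlgHom.ext fun r => RingHom.congr_fun hg r
  have hcomm : (yon S).map (spMap str (γ'.comp ((Ideal.Quotient.mkₐ A I').comp
      Algebra.TensorProduct.includeLeft))) ≫ a = (yon S).map (spMap str (g'.comp ψ)) ≫ σ := by
    rw [← spMap_comp str ψ g', Functor.map_comp, Category.assoc, ← hlσ, ← Category.assoc,
      ← Functor.map_comp, spMap_comp, hg']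
    rw [← spMap_comp str _ γ', ← spMap_comp str _ γ', Functor.map_comp, Functor.map_comp,
      Category.assoc, Category.assoc, sq'.w]
  refine ⟨(Ideal.Quotient.liftₐ I (Algebra.TensorProduct.productMap _ (g'.comp ψ))
    (fibre_ideal_le_ker sq _ (g'.comp ψ) hcomm)).toRingHom, ?_, ?_⟩
  · subst hη
    exact RingHom.ext fun c => (Algebra.TensorProduct.productMap_apply_tmul _ _ _ _).trans
      ((congrArg (_ * ·) (map_one _)).trans (mul_one _))
  · subst hρ
    exact RingHom.ext fun c => (Algebra.TensorProduct.productMap_apply_tmul _ _ _ _).trans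
      ((congrArg (· * _) (map_one _)).trans (one_mul _))

/-- From dotted arrows for discrete valuation rings to dotted arrows, when the field is finitely
generated over the base. -/
theorem exists_extension_of_dvr [IsNoetherianRing A] [Algebra A V] [Algebra A K]
    [IsScalarTower A V K] {π : P ⟶ (yon S).obj (Over.mk str)} (hs : IsSeparatedMor π)
    (hP : IsQuasiCompactSp P) (σ : (yon S).obj (spOver str K) ⟶ P)
    (hσ : σ ≫ π = (yon S).map (spBase str K))
    {gens : Set K} (hfin : gens.Finite)
    (hgen : Subfield.closure (Set.range (algebraMap A K) ∪ gens) = ⊤)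
    (hdvr : ∀ R : ValuationSubring K, IsDiscreteValuationRing R →
      ∀ g : A →+* R, R.subtype.comp g = algebraMap A K →
      ∃ (R' K' : Type u) (_ : CommRing R') (_ : IsDomain R') (_ : IsLocalRing R') (_ : Field K')
        (_ : Algebra R' K') (_ : IsFractionRing R' K') (_ : Algebra A R') (_ : Algebra A K')
        (_ : IsScalarTower A R' K') (φ : R →+* R') (ψ : K →ₐ[A] K')
        (l : (yon S).obj (spOver str R') ⟶ P), IsLocalHom φ ∧
          (∀ r, algebraMap R' K' (φ r) = ψ (r : K)) ∧ l ≫ π = (yon S).map (spBase str R') ∧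
          (yon S).map (spMap str (IsScalarTower.toAlgHom A R' K')) ≫ l =
            (yon S).map (spMap str ψ) ≫ σ) :
    ∃ (L : Type u) (_ : Field L) (_ : Algebra A L) (W : ValuationSubring L) (gW : A →+* W)
      (φ : V →+* W) (ψ : K →ₐ[A] L) (B : Type u) (_ : CommRing B) (_ : Algebra A B)
      (a : (yon S).obj (spOver str B) ⟶ P) (g : B →+* W) (gL : B →ₐ[A] L),
      a ≫ π = (yon S).map (spBase str B) ∧ IsLocalHom φ ∧
      g.comp (algebraMap A B) = gW ∧ φ.comp (algebraMap A V) = gW ∧
      (∀ v, (φ v : L) = ψ (algebraMap V K v)) ∧ (∀ b, (g b : L) = gL b) ∧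
      (yon S).map (spMap str gL) ≫ a = (yon S).map (spMap str ψ) ≫ σ := by
  obtain ⟨B, _, _, a, ha, has, haπ⟩ := exists_spOver_atlas str hP π
  obtain ⟨I, sq, -⟩ := exists_fibre_ideal str hs ha haπ σ hσ
  let η : B →ₐ[A] (B ⊗[A] K) ⧸ I :=
    (Ideal.Quotient.mkₐ A I).comp Algebra.TensorProduct.includeLeft
  let ρ : K →ₐ[A] (B ⊗[A] K) ⧸ I :=
    (Ideal.Quotient.mkₐ A I).comp (Algebra.TensorProduct.includeRight : K →ₐ[A] B ⊗[A] K)
  rcases exists_extension_or_relation (A := A) (V := V) (K := K) η ρ.toRingHom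
    (fun c => (congrArg ρ (IsScalarTower.algebraMap_apply A V K c).symm).trans (ρ.commutes c)) with
    ⟨L, _, W, μ, φ, g, hloc, hφ, hg⟩ | ⟨n, b, v, hv, h1⟩
  · letI : Algebra A L := (μ.comp (algebraMap A _)).toAlgebra
    let μA : (B ⊗[A] K) ⧸ I →ₐ[A] L := { __ := μ, commutes' := fun _ => rfl }
    refine ⟨L, inferInstance, inferInstance, W, φ.comp (algebraMap A V), φ, μA.comp ρ, B,
      inferInstance, inferInstance, a, g, μA.comp η, haπ, hloc, ?_, rfl, hφ, hg, ?_⟩
    · refine RingHom.ext fun c => Subtype.ext ?_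
      refine (hg _).trans (Eq.trans ?_ (hφ _).symm)
      refine congrArg μ ((η.commutes c).trans ?_)
      exact ((congrArg ρ (IsScalarTower.algebraMap_apply A V K c).symm).trans (ρ.commutes c)).symm
    · rw [← spMap_comp str η μA, ← spMap_comp str ρ μA, Functor.map_comp, Functor.map_comp,
        Category.assoc, Category.assoc]
      exact congrArg (_ ≫ ·) sq.w
  · exfalso
    obtain ⟨w, -, -⟩ := exists_point_of_isPullback sq
      (x := Points.ofScheme (spOver str B)
        (Classical.choose (surjective_ofPt has (Points.ofPt σ (⊥ : PrimeSpectrum K)))))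
      (u := (⊥ : PrimeSpectrum K)) (by
        rw [← Points.ofPt_eq_map_ofScheme]
        exact Classical.choose_spec (surjective_ofPt has (Points.ofPt σ (⊥ : PrimeSpectrum K))))
    have : Nontrivial ((B ⊗[A] K) ⧸ I) :=
      PrimeSpectrum.nonempty_iff_nontrivial.1 ⟨(w : PrimeSpectrum ((B ⊗[A] K) ⧸ I))⟩
    classical
    let Vs : ValuationSubring K :=
      { (algebraMap V K).range with
        mem_or_inv_mem' := fun x => ValuationRing.isInteger_or_isInteger V x }
    let s : Set K := Set.range fun i => algebraMap V K (v i)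
    let C : Subalgebra A K := Algebra.adjoin A s
    have hCV : ∀ z ∈ C, z ∈ Vs := by
      intro z hz
      induction hz using Algebra.adjoin_induction with
      | mem x hx => obtain ⟨i, rfl⟩ := hx; exact ⟨_, rfl⟩
      | algebraMap c => exact ⟨algebraMap A V c, (IsScalarTower.algebraMap_apply A V K c).symm⟩
      | add _ _ _ _ h1 h2 => exact add_mem h1 h2
      | mul _ _ _ _ h1 h2 => exact mul_mem h1 h2
    have : Algebra.FiniteType A C := (Subalgebra.fg_iff_finiteType C).mp
      ⟨Finset.univ.image fun i => algebraMap V K (v i), by simp [C, s]⟩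
    have : IsNoetherianRing C := Algebra.FiniteType.isNoetherianRing A C
    let p : Ideal C := Ideal.span (Set.range fun i =>
      (⟨algebraMap V K (v i), Algebra.subset_adjoin ⟨i, rfl⟩⟩ : C))
    obtain ⟨R, hR, hCR, hpR⟩ := Groth.L18.exists_isDiscreteValuationRing_of_le (A := C) (L := K)
      hfin (eq_top_iff.2 (hgen.ge.trans (Subfield.closure_mono (Set.union_subset_union_left _ (by
        rintro _ ⟨c, rfl⟩; exact ⟨algebraMap A C c, rfl⟩))))) p Vs (fun c => hCV _ c.2)
      (fun c hc => by
        refine (Vs.valuation_lt_one_iff ⟨_, hCV _ c.2⟩).1 ?_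
        induction hc using Submodule.span_induction with
        | mem c hc =>
          obtain ⟨i, rfl⟩ := hc
          intro hu
          obtain ⟨⟨y, z, rfl⟩, hy⟩ := hu.exists_right_inv
          exact hv i (IsUnit.of_mul_eq_one z
            (IsFractionRing.injective V K ((map_mul _ _ _).trans
              ((congrArg Subtype.val hy).trans (map_one _).symm))))
        | zero => exact Ideal.zero_mem _
        | add c d _ _ hc hd => exact Ideal.add_mem _ hc hd
        | smul r c _ hc => exact Ideal.mul_mem_left _ (⟨_, hCV _ r.2⟩ : Vs) hc) (by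
        by_contra! hz
        have : ∀ i, algebraMap V K (v i) = 0 := fun i => hz _ (Ideal.subset_span ⟨i, rfl⟩)
        simp [this] at h1)
    have hAR : ∀ c : A, algebraMap A K c ∈ R := fun c => hCR (algebraMap A C c)
    obtain ⟨R', K', _, _, _, _, _, _, _, _, _, φ, ψ, l, hφ, hφψ, hl, hlσ⟩ :=
      hdvr R hR ((algebraMap A K).codRestrict R.toSubring hAR) rfl
    refine false_of_relation str hs ha has haπ sq ψ l hl hlσ (η := η.toRingHom) (ρ := ρ.toRingHom)
      rfl rfl b (fun i => algebraMap V K (v i)) (fun i => ?_) h1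
    have hlt := hpR _ (Ideal.subset_span ⟨i, rfl⟩)
    have hm : algebraMap V K (v i) ∈ R := R.valuation_le_one_iff _ |>.1 hlt.le
    refine ⟨φ ⟨_, hm⟩, fun hu => ?_, hφψ _⟩
    exact (R.valuation_lt_one_iff ⟨_, hm⟩).2 hlt (hφ.map_nonunit _ hu)

/-- Over a Noetherian affine scheme, squares with finitely generated fields have dotted arrows
after an extension as soon as those with discrete valuation rings have. -/
theorem hasLiftExt_of_dvr [IsNoetherianRing A] {π : P ⟶ (yon S).obj (Over.mk str)}
    (hs : IsSeparatedMor π) (hP : IsQuasiCompactSp P) {h : U' ⟶ P}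
    (hft : LocP @LocallyOfFiniteType (h ≫ π))
    (hd : ∀ w : ValSq π, IsDiscreteValuationRing w.A →
      (∃ t : (yon S).obj w.ptK ⟶ U', t ≫ h = w.top) → w.HasLiftExt)
    (v : ValSq π) (hv : FGTop h v) : v.HasLiftExt := by
  classical
  obtain ⟨E, sE, c, θ, tE, hc, htE, hgen, htop⟩ := hv
  obtain ⟨χ, rfl, hk⟩ := exists_spOver_of_chart str c (h ≫ π)
  letI : Algebra A E := χ.toAlgebra
  have hck : c ≫ h ≫ π = (yon S).map (spBase str E) := hk (spBase str E) rfl
  obtain ⟨φb, hφb⟩ := (yon S).map_surjective v.bot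
  obtain ⟨δ, hδ⟩ := Spec.map_surjective φb.left
  letI : Algebra A v.A := δ.hom.toAlgebra
  letI : Algebra A v.K := ((algebraMap v.A v.K).comp δ.hom).toAlgebra
  haveI : IsScalarTower A v.A v.K := IsScalarTower.of_algebraMap_eq fun _ => rfl
  have hstr : Spec.map δ ≫ str = v.str := by rw [hδ]; exact Over.w φb
  let κ : spOver str v.K ⟶ v.ptK := Over.homMk (𝟙 _) (by
    show 𝟙 _ ≫ Spec.map (CommRingCat.ofHom (algebraMap v.A v.K)) ≫ v.str = _
    rw [Category.id_comp, ← hstr, ← Spec.map_comp_assoc]
    rfl)
  have hκj : κ ≫ v.j ≫ φb = spBase str v.K := by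
    ext1
    simp only [Over.comp_left, κ, spBase, Over.homMk_left, Category.id_comp, ← hδ, ← Spec.map_comp]
    rfl
  let σ : (yon S).obj (spOver str v.K) ⟶ P := (yon S).map κ ≫ v.top
  have hσ : σ ≫ π = (yon S).map (spBase str v.K) := by
    rw [← hκj, Category.assoc, v.comm, ← hφb, ← Functor.map_comp, ← Functor.map_comp]
  have hθ : ∀ x : A, θ (algebraMap A E x) = algebraMap A v.K x := by
    have e : (κ ≫ tE) ≫ spBase str E = spBase str v.K := (yon S).map_injective (by
      rw [← hσ, Functor.map_comp, Functor.map_comp, ← hck]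
      simp [σ, ← htop])
    have := congrArg CommaMorphism.left e
    simp only [Over.comp_left, htE, spBase, κ, Over.homMk_left, Category.id_comp,
      ← Spec.map_comp] at this
    exact fun x => RingHom.congr_fun (congrArg CommRingCat.Hom.hom (Spec.map_injective this)) x
  have hfin : Algebra.FiniteType A E := by
    have hl : LocallyOfFiniteType (spBase str E).left := hft c (𝟙 _) (spBase str E) hc
      (repWith_id _ _) (by rw [Category.comp_id]; exact hck)
    exact (HasRingHomProperty.Spec_iff (P := @LocallyOfFiniteType)).1 hl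
  obtain ⟨g₀, hg₀⟩ := hfin.out
  have hgens : Subfield.closure (Set.range (algebraMap A v.K) ∪ θ '' (g₀ : Set E)) = ⊤ := by
    refine eq_top_iff.2 (hgen.ge.trans (Subfield.closure_le.2 ?_))
    rintro _ ⟨e, rfl⟩
    induction (hg₀.ge (Algebra.mem_top (x := e))) using Algebra.adjoin_induction with
    | mem x hx => exact Subfield.subset_closure (Or.inr ⟨x, hx, rfl⟩)
    | algebraMap x => exact Subfield.subset_closure (Or.inl ⟨x, (hθ x).symm⟩)
    | add x y _ _ hx hy => rw [map_add]; exact add_mem hx hy
    | mul x y _ _ hx hy => rw [map_mul]; exact mul_mem hx hy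
  obtain ⟨L, _, _, W, gW, φ, ψ, B, _, _, a, g, gL, haπ, hloc, hgB, hφW, hφL, hgL, hcomm⟩ :=
    exists_extension_of_dvr str (V := v.A) (K := v.K) hs hP σ hσ (g₀.finite_toSet.image θ) hgens
      (fun R hR gR hgR => by
        letI : Algebra A R := gR.toAlgebra
        let ptR : Over S := Over.mk (Spec.map (CommRingCat.ofHom (algebraMap R v.K)) ≫
          Spec.map (CommRingCat.ofHom gR) ≫ str)
        let κR : ptR ⟶ spOver str v.K := Over.homMk (𝟙 _) (by
          show 𝟙 _ ≫ Spec.map (CommRingCat.ofHom (algebraMap A v.K)) ≫ str = _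
          rw [Category.id_comp, ← hgR, CommRingCat.ofHom_comp, Spec.map_comp, Category.assoc]
          rfl)
        let w : ValSq π :=
          { A := R, K := v.K, str := Spec.map (CommRingCat.ofHom gR) ≫ str
            top := (yon S).map κR ≫ σ
            bot := (yon S).map (spBase str R)
            comm := by
              rw [Category.assoc, hσ, ← Functor.map_comp, ← Functor.map_comp]
              congr 1
              ext1
              simp only [Over.comp_left, κR, spBase, Over.homMk_left, Category.id_comp,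
                ← Spec.map_comp]
              exact congrArg (fun r => Spec.map (CommRingCat.ofHom r)) hgR.symm }
        obtain ⟨e, l, hl₁, hl₂⟩ := hd w hR ⟨(yon S).map (κR ≫ κ ≫ tE) ≫ c, by
          simp [w, σ, ← htop]⟩
        let φR : R →+* e.A' := e.φ
        let ψR : v.K →+* e.K' := e.ψ
        letI : Algebra A e.A' := (φR.comp gR).toAlgebra
        letI : Algebra A e.K' := ((algebraMap e.A' e.K').comp (φR.comp gR)).toAlgebra
        haveI : IsScalarTower A e.A' e.K' := IsScalarTower.of_algebraMap_eq fun _ => rfl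
        have hRK : ∀ r : R, algebraMap e.A' e.K' (φR r) = ψR (r : v.K) := fun r =>
          RingHom.congr_fun e.comm r
        let ψ' : v.K →ₐ[A] e.K' :=
          { __ := ψR
            commutes' := fun x => (congrArg ψR (RingHom.congr_fun hgR x).symm).trans
              (hRK (gR x)).symm }
        let oA : spOver str e.A' ⟶ e.ptA' := Over.homMk (𝟙 _) (by
          show 𝟙 _ ≫ Spec.map _ ≫ Spec.map _ ≫ str = _
          rw [Category.id_comp, ← Spec.map_comp_assoc]
          rfl)
        let oK : spOver str e.K' ⟶ e.ptK' := Over.homMk (𝟙 _) (by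
          show 𝟙 _ ≫ Spec.map _ ≫ Spec.map _ ≫ Spec.map _ ≫ str = _
          rw [Category.id_comp, ← Spec.map_comp_assoc, ← Spec.map_comp_assoc]
          rfl)
        refine ⟨e.A', e.K', inferInstance, inferInstance, inferInstance, inferInstance,
          inferInstance, inferInstance, inferInstance, inferInstance, inferInstance, φR, ψ',
          (yon S).map oA ≫ l, e.isLocalHom, hRK, ?_, ?_⟩
        · rw [Category.assoc, hl₂, ← Functor.map_comp_assoc, ← Functor.map_comp]
          congr 1
          ext1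
          simp only [Over.comp_left, oA, spBase, Over.homMk_left, Category.id_comp, ← Spec.map_comp]
          rfl
        · have h1 := congrArg ((yon S).map oK ≫ ·) hl₁
          simp only [← Category.assoc, ← Functor.map_comp] at h1 ⊢
          refine Eq.trans ?_ (h1.trans ?_)
          · congr 2
          · simp only [w, ← Category.assoc, ← Functor.map_comp]
            congr 2)
  let φA : v.A →+* W := φ
  let e : v.DomExt :=
    { A' := W, K' := L, φ := φA, ψ := ψ.toRingHom
      comm := RingHom.ext hφL, isLocalHom := hloc }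
  have hδW : φA.comp δ.hom = gW := hφW
  let i : e.ptA' ⟶ spOver str B := Over.homMk (Spec.map (CommRingCat.ofHom g)) (by
    show Spec.map (CommRingCat.ofHom g) ≫ Spec.map _ ≫ str = Spec.map _ ≫ v.str
    rw [← hstr, ← Spec.map_comp_assoc, ← CommRingCat.ofHom_comp, hgB,
      ← hδW, CommRingCat.ofHom_comp, Spec.map_comp, Category.assoc]
    rfl)
  refine ⟨e, (yon S).map i ≫ a, ?_, ?_⟩
  · let κ' : v.ptK ⟶ spOver str v.K := Over.homMk (𝟙 _) (by
      show 𝟙 _ ≫ Spec.map (CommRingCat.ofHom (algebraMap A v.K)) ≫ str = _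
      rw [Category.id_comp]
      show _ = Spec.map (CommRingCat.ofHom (algebraMap v.A v.K)) ≫ v.str
      rw [← hstr, ← Spec.map_comp_assoc]
      rfl)
    have hκ' : (yon S).map κ' ≫ σ = v.top := by
      rw [← Category.assoc, ← Functor.map_comp, show κ' ≫ κ = 𝟙 _ from
        Over.OverMorphism.ext (Category.id_comp _), CategoryTheory.Functor.map_id, Category.id_comp]
    let oL : e.ptK' ⟶ spOver str L := Over.homMk (𝟙 _) (by
      show 𝟙 _ ≫ Spec.map (CommRingCat.ofHom (algebraMap A L)) ≫ str = Spec.map _ ≫ Spec.map _ ≫ v.str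
      rw [Category.id_comp, ← hstr, ← Spec.map_comp_assoc, ← Spec.map_comp_assoc]
      congr 2
      ext x
      exact (ψ.commutes x).symm.trans (hφL (δ.hom x)).symm)
    have h1 := congrArg ((yon S).map oL ≫ ·) hcomm
    rw [← hκ']
    simp only [← Category.assoc, ← Functor.map_comp] at h1 ⊢
    refine Eq.trans ?_ (h1.trans ?_)
    · congr 2
      ext1
      simp only [Over.comp_left, i, oL, spMap, Over.homMk_left, Category.id_comp, ← Spec.map_comp]
      refine congrArg Spec.map ?_
      ext b
      exact hgL b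
    · congr 2
  · rw [Category.assoc, haπ, ← hφb, ← Functor.map_comp, ← Functor.map_comp]
    congr 1
    ext1
    simp only [Over.comp_left, i, spBase, Over.homMk_left, ← hδ, ← Spec.map_comp]
    refine congrArg Spec.map ?_
    rw [← CommRingCat.ofHom_comp, hgB]
    ext x
    exact congrArg Subtype.val (RingHom.congr_fun hδW x).symm

end Core

section Global

variable {X Y U : Sp S}

/-- A square for a base change gives a square. -/
noncomputable def pushSq {X' Y' : Sp S} {f : X ⟶ Y} {g : Y' ⟶ Y} {fst : X' ⟶ X}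
    {f' : X' ⟶ Y'} (sq : IsPullback fst f' f g) (v : ValSq f') : ValSq f where
  A := v.A
  K := v.K
  str := v.str
  top := v.top ≫ fst
  bot := v.bot ≫ g
  comm := by rw [Category.assoc, sq.w, reassoc_of% v.comm]

theorem hasLiftExt_of_isPullback {X' Y' : Sp S} {f : X ⟶ Y} {g : Y' ⟶ Y} {fst : X' ⟶ X}
    {f' : X' ⟶ Y'} (sq : IsPullback fst f' f g) (v : ValSq f') (hv : (pushSq sq v).HasLiftExt) :
    v.HasLiftExt := by
  obtain ⟨e, l, h₁, h₂⟩ := hv
  let e' : v.DomExt :=
    { A' := e.A', K' := e.K', φ := e.φ, ψ := e.ψ, comm := e.comm, isLocalHom := e.isLocalHom }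
  refine ⟨e', sq.lift l ((yon S).map (Over.homMk (Spec.map (CommRingCat.ofHom e.φ)) rfl :
      e'.ptA' ⟶ v.ptA) ≫ v.bot) (h₂.trans (Category.assoc _ _ _).symm), ?_, sq.lift_snd _ _ _⟩
  apply sq.hom_ext
  · rw [Category.assoc, sq.lift_fst, Category.assoc]; exact h₁
  · rw [Category.assoc, sq.lift_snd, Category.assoc, v.comm, ← Category.assoc, ← Category.assoc,
      ← Functor.map_comp, ← Functor.map_comp]
    congr 2
    ext1
    simp only [Over.comp_left, Over.homMk_left]
    rw [← Spec.map_comp, ← Spec.map_comp, ← CommRingCat.ofHom_comp, ← CommRingCat.ofHom_comp]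
    exact congrArg (fun r => Spec.map (CommRingCat.ofHom r)) e.comm

/-- The discrete valuation ring criterion, refined along a dense morphism of finite type. -/
theorem isUnivClosedMor_of_dvr (hU : IsAlgSpace U) (hX : IsAlgSpace X) (hY : IsAlgSpace Y)
    (hN : IsLocNoethSp Y) {h : U ⟶ X} {f : X ⟶ Y} (hs : IsSeparatedMor f) (hf : IsFiniteTypeMor f)
    (hh : IsFiniteTypeMor h) (hd : DenseRange (Points.map h))
    (hval : ∀ v : ValSq f, IsDiscreteValuationRing v.A →
      (∃ t : (yon S).obj v.ptK ⟶ U, t ≫ h = v.top) → v.HasLiftExt) : IsUnivClosedMor f := by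
  obtain ⟨V, p, hp, hps, hV⟩ := hN
  have : IsLocallyNoetherian V.left := hV
  refine isUnivClosedMor_of_affineOpens hX hY hf.2 hp hps fun n C j hj g _ hg Q k π sqX => ?_
  let T : Over S := Over.mk (j ≫ (affOver V (ULift.{u} (Fin n))).hom)
  have : LocallyOfFiniteType (affProj V (ULift.{u} (Fin n))).left := by
    have : LocallyOfFinitePresentation (affProj V (ULift.{u} (Fin n))).left :=
      inferInstanceAs (LocallyOfFinitePresentation (𝔸(ULift.{u} (Fin n); V.left) ↘ V.left))
    infer_instance
  have hT : IsLocallyNoetherian (affOver V (ULift.{u} (Fin n))).left :=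
    LocallyOfFiniteType.isLocallyNoetherian (affProj V (ULift.{u} (Fin n))).left
  have : IsLocallyNoetherian (Spec C) := LocallyOfFiniteType.isLocallyNoetherian j
  have : IsNoetherianRing C := isLocallyNoetherian_Spec.1 ‹_›
  have sqh := IsPullback.of_hasPullback h k
  have : CompactSpace T.left := inferInstanceAs (CompactSpace (Spec C))
  have hQ : IsAlgSpace Q := isAlgSpace_of_isPullback hY.diag hX (IsAlgSpace.yon_obj T) sqX
  have hU' : IsAlgSpace (pullback h k) := isAlgSpace_of_isPullback hX.diag hU hQ sqh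
  have hd' : DenseRange (Points.map (pullback.snd h k)) := by
    rw [DenseRange, range_fst_of_isPullback sqh.flip]
    exact hd.preimage (isOpenMap_map_of_universallyOpen (repWith_of_isPullback sqX.flip hg))
  have hsπ : IsSeparatedMor π := separated_of_isPullback sqX hs
  have hqπ : IsQuasiCompactSp Q :=
    hf.2 (IsAlgSpace.yon_obj _) isQuasiCompactSp_of_compactSpace _ k π sqX
  have hft : LocP @LocallyOfFiniteType (pullback.snd h k ≫ π) :=
    locP_comp etLocal_lft hU' hQ (IsAlgSpace.yon_obj T)
      (locP_of_isPullback etLocal_lft hU hX hQ sqh hh.1)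
      (locP_of_isPullback etLocal_lft hX hY (IsAlgSpace.yon_obj T) sqX hf.1)
  refine isClosedMap_of_refined hqπ (qcMor_of_isPullback sqh hh.2) hd'
    (fun v _ => uniqVC_of_separated hsπ v) (fun v hv => hasLiftExt_of_dvr
      (A := C) _ hsπ hqπ hft (fun w hw ⟨t, ht⟩ => ?_) v hv)
  exact hasLiftExt_of_isPullback sqX w (hval (pushSq sqX w) hw ⟨t ≫ pullback.fst h k, by
    show (t ≫ pullback.fst h k) ≫ h = w.top ≫ k
    rw [Category.assoc, sqh.w, reassoc_of% ht]⟩)

theorem hasLiftExt_of_hasLift {f : X ⟶ Y} (v : ValSq f) (h : v.HasLift) : v.HasLiftExt := by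
  obtain ⟨l, h₁, h₂⟩ := h
  let e : v.DomExt :=
    { A' := v.A, K' := v.K, φ := RingHom.id _, ψ := RingHom.id _, comm := rfl
      isLocalHom := ⟨fun _ h => h⟩ }
  let i : e.ptA' ⟶ v.ptA := Over.homMk (Spec.map (CommRingCat.ofHom e.φ)) rfl
  refine ⟨e, (yon S).map i ≫ l, ?_, by rw [Category.assoc, h₂]⟩
  rw [← h₁, ← Category.assoc, ← Category.assoc, ← Functor.map_comp, ← Functor.map_comp]
  congr 2
  ext1
  simp only [i, e, Over.comp_left, Over.homMk_left, CommRingCat.ofHom_id, Spec.map_id]
  exact (Category.comp_id _).trans (Category.id_comp _).symm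

theorem isFiniteTypeMor_id : IsFiniteTypeMor (𝟙 X) :=
  ⟨locP_of_repWith etLocal_lft (repWith_of_isIso _), isQuasiCompactMor_of_repWith (repWith_of_isIso _)⟩

/-- The discrete valuation ring criterion of separatedness. -/
theorem isSeparatedMor_of_dvr (hX : IsAlgSpace X) (hY : IsAlgSpace Y) {f : X ⟶ Y}
    (hqs : IsQuasiSeparatedMor f) (hft : LocP @LocallyOfFiniteType f) (hN : IsLocNoethSp Y)
    (hu : ∀ v : ValSq f, IsDiscreteValuationRing v.A → v.HasUniq) : IsSeparatedMor f := by
  have sq := IsPullback.of_hasPullback f f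
  have hZ : IsAlgSpace (pullback f f) := isAlgSpace_of_isPullback hY.diag hX hX sq
  have hZft : LocP @LocallyOfFiniteType (pullback.fst f f ≫ f) :=
    locP_comp etLocal_lft hZ hX hY (locP_of_isPullback etLocal_lft hX hY hX sq.flip hft) hft
  have hZN : IsLocNoethSp (pullback f f) := by
    obtain ⟨V, b, hb, hbs, hV⟩ := hN
    obtain ⟨U₀, a, k, ha, w, has⟩ := exists_chart_over hZ hY (pullback.fst f f ≫ f) hb
    have := hZft a b k ha hb w
    have : IsLocallyNoetherian V.left := hV
    exact ⟨U₀, a, ha, has hbs, LocallyOfFiniteType.isLocallyNoetherian k.left⟩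
  have hsd : IsSeparatedMor (pullback.diagonal f) := repWith_of_isIso _
  have hfd : IsFiniteTypeMor (pullback.diagonal f) :=
    ⟨locP_of_comp etLocal_lft (fun φ ψ (_ : LocallyOfFiniteType (φ ≫ ψ)) =>
      locallyOfFiniteType_of_comp φ ψ) hX hZ hX (g := pullback.fst f f) (by
        rw [pullback.diagonal_fst]; exact isFiniteTypeMor_id.1), isQuasiCompactMor_of_repWith hqs⟩
  refine (isSeparatedMor_iff_univClosed hX f).2 (isUnivClosedMor_of_dvr hX hX hZ hZN hsd hfd
    isFiniteTypeMor_id (fun x => subset_closure ⟨x, by simp [Points.map_id]⟩) fun v hv _ => ?_)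
  let v' : ValSq f :=
    { A := v.A, K := v.K, str := v.str, top := v.top, bot := v.bot ≫ pullback.fst f f ≫ f,
      comm := by rw [← reassoc_of% v.comm]; simp }
  have h' : v.bot ≫ pullback.fst f f = v.bot ≫ pullback.snd f f :=
    hu v' hv _ _ (by rw [← reassoc_of% v.comm]; simp [v']) (Category.assoc _ _ _)
      (by rw [← reassoc_of% v.comm]; simp [v'])
      ((Category.assoc _ _ _).trans (congrArg (v.bot ≫ ·) pullback.condition.symm))
  refine hasLiftExt_of_hasLift v ⟨v.bot ≫ pullback.fst f f, by rw [← reassoc_of% v.comm]; simp, ?_⟩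
  rw [Category.assoc]
  apply pullback.hom_ext <;> simp [h']

end Global

end Groth.L23
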