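import Groth.Agent.L23.Valuative
import Groth.Agent.L23.MorCalc
import Mathlib.AlgebraicGeometry.ValuativeCriterion
import Mathlib.AlgebraicGeometry.Morphisms.QuasiFinite

/-!
# Valuative criteria: universal closedness and separatedness
-/

universe u

open CategoryTheory CategoryTheory.Limits AlgebraicGeometry Opposite AlgSp Topology IsLocalRing

set_option backward.isDefEq.respectTransparency.types false

namespace Groth.L23

variable {S : Scheme.{u}} {X Y P : Sp S}

/-- The existence part and quasi-compactness give universal closedness. -/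
theorem isUnivClosedMor_of_existVC (hX : IsAlgSpace X) (hY : IsAlgSpace Y) {f : X ⟶ Y}
    (hq : IsQuasiCompactMor f) (he : ExistVC f) : IsUnivClosedMor f := by
  refine (isUnivClosedMor_iff_affine f).2 fun W hW g => ?_
  have : IsAffine W.left := hW
  have sq := IsPullback.of_hasPullback f g
  have heP := existVC_of_isPullback sq he
  obtain ⟨U, a, ha, has, hU⟩ := isQuasiCompactMor_of_pullback hq g
  have : CompactSpace U.left := hU
  obtain ⟨φ, hφ⟩ := (yon S).map_surjective (a ≫ pullback.snd f g)
  intro A hA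
  let C : Set U.left := Points.ofPt a ⁻¹' A
  have hC : IsClosed C := hA.preimage (Points.continuous_ofPt a)
  have hkey : Points.map (pullback.snd f g) '' A = Points.schemeHomeo W '' (φ.left '' C) := by
    rw [show A = Points.ofPt a '' C from (Set.image_preimage_eq _ (surjective_ofPt has)).symm,
      Set.image_image, Set.image_image]
    refine Set.image_congr fun x _ => ?_
    rw [Points.map_ofPt, ← hφ, ofPt_map]
    rfl
  rw [hkey]
  refine (Points.schemeHomeo W).isClosedMap _ ?_
  have hstab : StableUnderSpecialization (φ.left '' C) := by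
    rintro _ y h ⟨x', hx', rfl⟩
    let c : W.left.presheaf.stalk y ⟶ U.left.residueField x' :=
      W.left.presheaf.stalkSpecializes h ≫ φ.left.stalkMap x' ≫ U.left.residue x'
    obtain ⟨B, hB, hB'⟩ := exists_factor_valuationRing c.hom
    let cB : W.left.presheaf.stalk y ⟶ .of B := CommRingCat.ofHom (c.hom.codRestrict _ hB)
    have w : U.left.fromSpecResidueField x' ≫ φ.left =
        Spec.map (CommRingCat.ofHom (algebraMap B (U.left.residueField x'))) ≫
          Spec.map cB ≫ W.left.fromSpecStalk y := by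
      rw [Scheme.fromSpecResidueField, Category.assoc, ← Scheme.SpecMap_stalkMap_fromSpecStalk,
        ← Scheme.SpecMap_stalkSpecializes_fromSpecStalk h]
      simp_rw [← Spec.map_comp_assoc]
      rfl
    let str : Spec (CommRingCat.of B) ⟶ S := (Spec.map cB ≫ W.left.fromSpecStalk y) ≫ W.hom
    let ptK : Over S :=
      Over.mk (Spec.map (CommRingCat.ofHom (algebraMap B (U.left.residueField x'))) ≫ str)
    let t : ptK ⟶ U := Over.homMk (U.left.fromSpecResidueField x') (by
      change U.left.fromSpecResidueField x' ≫ U.hom = _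
      rw [← Over.w φ, ← Category.assoc, w]
      simp [ptK, str])
    let b : Over.mk str ⟶ W := Over.homMk (Spec.map cB ≫ W.left.fromSpecStalk y) rfl
    let v : ValSq (pullback.snd f g) :=
      { A := B, K := U.left.residueField x', str := str, top := (yon S).map t ≫ a,
        bot := (yon S).map b,
        comm := by
          rw [Category.assoc, ← hφ, ← Functor.map_comp, ← Functor.map_comp]
          congr 1
          exact Over.OverMorphism.ext w }
    obtain ⟨e, l, hl₁, hl₂⟩ := heP v
    let q := Points.ofPt l (closedPoint e.A')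
    have hgen : Points.ofPt l (Spec.map (CommRingCat.ofHom (algebraMap e.A' e.K')) (closedPoint e.K')) =
        Points.ofPt a x' := by
      refine (ofPt_comp (Over.homMk (Spec.map (CommRingCat.ofHom (algebraMap e.A' e.K'))) rfl :
        e.ptK' ⟶ e.ptA') l _).symm.trans ?_
      rw [hl₁, ofPt_comp, show v.top = (yon S).map t ≫ a from rfl, ofPt_comp]
      exact congrArg (Points.ofPt a) (Scheme.fromSpecResidueField_apply _ _)
    have hsp : Spec.map (CommRingCat.ofHom (algebraMap e.A' e.K')) (closedPoint e.K') ⤳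
        closedPoint e.A' := specializes_closedPoint _
    have hqA : q ∈ A := by
      have := hsp.mem_closed (hA.preimage (Points.continuous_ofPt l))
        (show Points.ofPt l _ ∈ A by rw [hgen]; exact hx')
      exact this
    obtain ⟨x, hx⟩ := surjective_ofPt has q
    refine ⟨x, show Points.ofPt a x ∈ A by rw [hx]; exact hqA, (Points.schemeEquiv W).injective ?_⟩
    show Points.ofScheme W (φ.left x) = Points.ofScheme W y
    rw [← ofPt_map, hφ, ← Points.map_ofPt, hx, Points.map_ofPt, hl₂, ofPt_comp]
    rw [show v.bot = (yon S).map b from rfl, ofPt_map]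
    refine congrArg (Points.ofScheme W) ?_
    change (Spec.map cB ≫ W.left.fromSpecStalk y) (Spec.map (CommRingCat.ofHom e.φ) (closedPoint e.A')) = y
    have he' : IsLocalHom e.φ := e.isLocalHom
    have h₁ : Spec.map (CommRingCat.ofHom e.φ) (closedPoint e.A') = closedPoint B :=
      comap_closedPoint (S := e.A') e.φ
    have h₂ : Spec.map cB (closedPoint B) = closedPoint (W.left.presheaf.stalk y) :=
      comap_closedPoint (S := B) (c.hom.codRestrict B.toSubring hB)
    rw [h₁, Scheme.Hom.comp_apply, h₂, W.left.fromSpecStalk_closedPoint]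
  obtain ⟨R, r, hr⟩ := compactSpace_iff_exists.mp hU
  rw [show φ.left '' C = (r ≫ φ.left) '' (r ⁻¹' C) by
    rw [Scheme.Hom.comp_base, TopCat.coe_comp, Set.image_comp, Set.image_preimage_eq _ hr]] at hstab ⊢
  obtain ⟨ψ, hψ⟩ := Spec.homEquiv.symm.surjective (r ≫ φ.left ≫ W.left.isoSpec.hom)
  have h2 := PrimeSpectrum.isClosed_image_of_stableUnderSpecialization ψ.hom _
    (hC.preimage r.continuous)
  have e2 : (Spec.homEquiv.symm ψ : Spec R ⟶ _) '' (r ⁻¹' C) =
      W.left.isoSpec.hom '' ((r ≫ φ.left) '' (r ⁻¹' C)) := by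
    rw [hψ, Set.image_image]; rfl
  have hh := W.left.isoSpec.hom.homeomorph
  have h3 : StableUnderSpecialization (W.left.isoSpec.hom '' ((r ≫ φ.left) '' (r ⁻¹' C))) :=
    hstab.image W.left.isoSpec.hom.homeomorph.isClosedMap.specializingMap
  rw [← e2] at h3
  have h4 := h2 h3
  have h5 : IsClosed (W.left.isoSpec.hom '' ((r ≫ φ.left) '' (r ⁻¹' C))) := e2 ▸ h4
  exact (W.left.isoSpec.hom.homeomorph.isClosed_image).1 h5

/-- Quasi-separated and universally closed gives the existence part. -/
theorem existVC_of_univClosed (hX : IsAlgSpace X) (hY : IsAlgSpace Y) {f : X ⟶ Y}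
    (hqs : IsQuasiSeparatedMor f) (hc : IsUnivClosedMor f) : ExistVC f := by
  intro v
  have sq := IsPullback.of_hasPullback f v.bot
  let P := pullback f v.bot
  let s := pullback.snd f v.bot
  have hP : IsAlgSpace P := isAlgSpace_of_isPullback hY.diag hX (IsAlgSpace.yon_obj _) sq
  let t : (yon S).obj v.ptK ⟶ P := sq.lift v.top ((yon S).map v.j) v.comm
  have hts : t ≫ s = (yon S).map v.j := sq.lift_snd _ _ _
  let x : Points P := Points.ofPt t (closedPoint v.K)
  have hcl : IsClosedMap (Points.map s) :=
    univSp_of_isPullback sq hc (IsAlgSpace.yon_obj _) (𝟙 _) (𝟙 _) _ IsPullback.of_id_fst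
  obtain ⟨q, hxq, hq⟩ : ∃ q : Points P, x ⤳ q ∧
      Points.map s q = Points.ofScheme v.ptA (closedPoint v.A) := by
    refine (hcl.specializingMap (?_ : Points.map s x ⤳ Points.ofScheme v.ptA (closedPoint v.A)))
    rw [show Points.map s x = Points.ofScheme v.ptA (v.j.left (closedPoint v.K)) by
      rw [Points.map_ofPt, hts, ofPt_map]]
    exact (specializes_closedPoint _).map (Points.schemeHomeo v.ptA).continuous
  obtain ⟨U₀, a₀, ha₀, has₀⟩ := hP.atlas
  obtain ⟨u₀, hu₀⟩ := surjective_ofPt has₀ q
  obtain ⟨_, ⟨(O : U₀.left.Opens), hO, rfl⟩, huO, -⟩ :=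
    U₀.left.isBasis_affineOpens.exists_subset_of_mem_open (Set.mem_univ u₀) isOpen_univ
  let U : Over S := Over.mk (O.ι ≫ U₀.hom)
  let a := (yon S).map (Over.homMk O.ι rfl : U ⟶ U₀) ≫ a₀
  have ha : RepWith @Etale a := repWith_comp (repWith_etale_openMk O) ha₀
  have hUa : IsAffine U.left := hO
  let u : U.left := ⟨u₀, huO⟩
  have hu : Points.ofPt a u = q := (ofPt_openMk O a₀ u).trans hu₀
  have sqW := ha.1.isPullback t
  let W := ha.1.pullback t
  have : Etale (ha.1.snd t).left := repWith_snd ha t
  have : IsAffine v.ptA.left := inferInstanceAs (IsAffine (Spec (CommRingCat.of v.A)))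
  have : IsAffine v.ptK.left := inferInstanceAs (IsAffine (Spec (CommRingCat.of v.K)))
  have hqcj : IsQuasiCompactMor ((yon S).map v.j) :=
    isQuasiCompactMor_of_repWith (repWith_map inferInstance)
  have hsqs : IsQuasiSeparatedMor s := repWith_of_isPullback (isPullback_diagonal sq) hqs
  have hqct : IsQuasiCompactMor t :=
    qcMor_of_comp (IsAlgSpace.yon_obj _) hP (IsAlgSpace.yon_obj _) (hts.symm ▸ hqcj) hsqs
  have hWc : CompactSpace W.left := compactSpace_of_isQuasiCompactSp
    (hqct (IsAlgSpace.yon_obj U) isQuasiCompactSp_of_compactSpace a ((yon S).map (ha.1.snd t))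
      (ha.1.fst t) sqW.flip)
  have : QuasiCompact (ha.1.snd t).left :=
    (quasiCompact_iff_compactSpace _).2 hWc
  obtain ⟨mfst, hmfst⟩ := (yon S).map_surjective (ha.1.fst t)
  have hfin : Finite W.left := by
    have hfp := (ha.1.snd t).left.finite_preimage_singleton (closedPoint v.K)
    exact Set.finite_univ_iff.1
      (hfp.subset fun z _ => Subsingleton.elim (α := PrimeSpectrum v.K) _ _)
  obtain ⟨w, hw⟩ : ∃ w : W.left, mfst.left w ⤳ u := by
    have hmem : u ∈ closure (Set.range mfst.left) := by
      rw [mem_closure_iff]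
      intro N hN huN
      obtain ⟨n, hn, hne⟩ := hxq.mem_open (isOpenMap_ofPt ha N hN) ⟨u, huN, hu⟩
      obtain ⟨w, hw₁, -⟩ := exists_point_of_isPullback sqW (x := Points.ofScheme U n)
        (u := (closedPoint v.K : v.ptK.left)) ((Points.ofPt_eq_map_ofScheme a n).symm.trans hne)
      refine ⟨n, hn, w, (Points.schemeEquiv U).injective ?_⟩
      show Points.ofScheme U _ = Points.ofScheme U n
      rw [← ofPt_map, hmfst]
      exact hw₁
    rw [show Set.range mfst.left = ⋃ w, {mfst.left w} by ext; simp [eq_comm],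
      closure_iUnion_of_finite] at hmem
    obtain ⟨w, hw⟩ := Set.mem_iUnion.1 hmem
    exact ⟨w, specializes_iff_mem_closure.2 hw⟩
  let L := W.left.residueField w
  let gU : Spec L ⟶ U.left := W.left.fromSpecResidueField w ≫ mfst.left
  have hgU : gU (closedPoint L) ⤳ u := by
    rwa [Scheme.Hom.comp_apply, Scheme.fromSpecResidueField_apply]
  let c : U.left.presheaf.stalk u ⟶ L :=
    U.left.presheaf.stalkSpecializes hgU ≫ Scheme.stalkClosedPointTo gU
  obtain ⟨B, hB, hB'⟩ := exists_factor_valuationRing c.hom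
  let cB : U.left.presheaf.stalk u ⟶ .of B := CommRingCat.ofHom (c.hom.codRestrict _ hB)
  let lU : Spec (CommRingCat.of B) ⟶ U.left := Spec.map cB ≫ U.left.fromSpecStalk u
  have hlU : Spec.map (CommRingCat.ofHom (algebraMap B L)) ≫ lU = gU := by
    rw [← Category.assoc, ← Spec.map_comp]
    change Spec.map c ≫ _ = _
    rw [Spec.map_comp, Category.assoc, Scheme.SpecMap_stalkSpecializes_fromSpecStalk,
      Scheme.Spec_stalkClosedPointTo_fromSpecStalk]
  obtain ⟨hA, hhA⟩ := (yon S).map_surjective (a ≫ s)
  obtain ⟨φ, hφ⟩ := Spec.homEquiv.symm.surjective (lU ≫ hA.left)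
  change Spec.map φ = lU ≫ hA.left at hφ
  obtain ⟨ψ, hψ⟩ := Spec.homEquiv.symm.surjective (W.left.fromSpecResidueField w ≫ (ha.1.snd t).left)
  change Spec.map ψ = _ at hψ
  have hWA : mfst ≫ hA = ha.1.snd t ≫ v.j := (yon S).map_injective (by
    rw [Functor.map_comp, Functor.map_comp, hmfst, hhA, ← hts, ← Category.assoc, sqW.w,
      Category.assoc])
  have hcomm : (algebraMap B L).comp φ.hom = ψ.hom.comp (algebraMap v.A v.K) := by
    have hh : Spec.map (CommRingCat.ofHom (algebraMap B L)) ≫ Spec.map φ =
        Spec.map ψ ≫ Spec.map (CommRingCat.ofHom (algebraMap v.A v.K)) := by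
      rw [hφ, ← Category.assoc, hlU, hψ, Category.assoc, Category.assoc]
      exact congrArg (W.left.fromSpecResidueField w ≫ ·) (congrArg CommaMorphism.left hWA)
    rw [← Spec.map_comp, ← Spec.map_comp] at hh
    exact congrArg CommRingCat.Hom.hom (Spec.map_injective hh)
  have hloc : IsLocalHom φ.hom := by
    rw [isLocalHom_iff_comap_closedPoint]
    change Spec.map φ (closedPoint B) = closedPoint v.A
    rw [hφ, Scheme.Hom.comp_apply, Scheme.Hom.comp_apply]
    rw [show Spec.map cB (closedPoint B) = closedPoint (U.left.presheaf.stalk u) from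
      comap_closedPoint (S := B) (c.hom.codRestrict B.toSubring hB), U.left.fromSpecStalk_closedPoint]
    refine (Points.schemeEquiv v.ptA).injective ?_
    show Points.ofScheme v.ptA _ = Points.ofScheme v.ptA _
    rw [← ofPt_map, hhA, ← Points.map_ofPt, hu, hq]
  let e : v.DomExt :=
    { A' := B, K' := L, φ := φ.hom, ψ := ψ.hom, comm := hcomm, isLocalHom := hloc }
  have hlw : lU ≫ U.hom = Spec.map φ ≫ v.str := by
    rw [hφ, Category.assoc]
    exact congrArg (lU ≫ ·) (Over.w hA).symm
  let lA : e.ptA' ⟶ U := Over.homMk lU hlw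
  refine ⟨e, (yon S).map lA ≫ a ≫ pullback.fst f v.bot, ?_, ?_⟩
  · let w' : e.ptK' ⟶ W := Over.homMk (W.left.fromSpecResidueField w) (by
      change W.left.fromSpecResidueField w ≫ W.hom =
        Spec.map (CommRingCat.ofHom (algebraMap B L)) ≫ Spec.map φ ≫ v.str
      rw [← hlw, ← Category.assoc (Spec.map _), hlU, Category.assoc, Over.w mfst])
    let jK : e.ptK' ⟶ e.ptA' :=
      Over.homMk (Spec.map (CommRingCat.ofHom (algebraMap e.A' e.K'))) rfl
    have hj : jK ≫ lA = w' ≫ mfst := Over.OverMorphism.ext hlU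
    refine (Category.assoc _ _ _).symm.trans ?_
    rw [← Functor.map_comp, hj]
    rw [Functor.map_comp, Category.assoc, hmfst, reassoc_of% sqW.w, ← Category.assoc,
      ← Functor.map_comp, show t ≫ pullback.fst f v.bot = v.top from sq.lift_fst _ _ _]
    congr 2
    exact Over.OverMorphism.ext hψ.symm
  · rw [Category.assoc, Category.assoc, sq.w, show a ≫ pullback.snd f v.bot ≫ v.bot =
      (a ≫ s) ≫ v.bot from (Category.assoc _ _ _).symm, ← hhA, ← Category.assoc, ← Functor.map_comp]
    congr 2
    exact Over.OverMorphism.ext hφ.symm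

theorem existVC_diagonal_of_uniqVC {f : X ⟶ Y} (hu : UniqVC f) :
    ExistVC (pullback.diagonal f) := by
  intro v
  let e : v.DomExt :=
    { A' := v.A, K' := v.K, φ := RingHom.id _, ψ := RingHom.id _, comm := rfl
      isLocalHom := ⟨fun _ h => h⟩ }
  let v' : ValSq f :=
    { A := v.A, K := v.K, str := v.str, top := v.top, bot := v.bot ≫ pullback.fst f f ≫ f,
      comm := by rw [← reassoc_of% v.comm]; simp }
  have h : v.bot ≫ pullback.fst f f = v.bot ≫ pullback.snd f f :=
    hu v' _ _ (by rw [← reassoc_of% v.comm]; simp [v']) (Category.assoc _ _ _)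
      (by rw [← reassoc_of% v.comm]; simp [v'])
      ((Category.assoc _ _ _).trans (congrArg (v.bot ≫ ·) pullback.condition.symm))
  let i : e.ptA' ⟶ v.ptA := Over.homMk (Spec.map (CommRingCat.ofHom e.φ)) rfl
  refine ⟨e, (yon S).map i ≫ v.bot ≫ pullback.fst f f, ?_, ?_⟩
  · rw [show v.top = ((yon S).map v.j ≫ v.bot) ≫ pullback.fst f f by rw [← v.comm]; simp]
    simp only [Category.assoc, ← Functor.map_comp_assoc]
    congr 2
    ext1
    simp only [i, e, Over.comp_left, Over.homMk_left, CommRingCat.ofHom_id, Spec.map_id]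
    exact (Category.comp_id _).trans (Category.id_comp _).symm
  · simp only [Category.assoc]
    congr 1
    apply pullback.hom_ext <;> simp [h]

theorem isSeparatedMor_of_uniqVC (hX : IsAlgSpace X) (hY : IsAlgSpace Y) {f : X ⟶ Y}
    (hqs : IsQuasiSeparatedMor f) (hu : UniqVC f) : IsSeparatedMor f :=
  (isSeparatedMor_iff_univClosed hX f).2 (isUnivClosedMor_of_existVC hX
    (isAlgSpace_of_isPullback hY.diag hX hX (IsPullback.of_hasPullback f f))
    (isQuasiCompactMor_of_repWith hqs) (existVC_diagonal_of_uniqVC hu))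

end Groth.L23
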