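import Groth.Agent.L23.InfCharts

/-!
# Lifting along first order thickenings of schemes and algebraic spaces
-/

universe u

open CategoryTheory CategoryTheory.Limits AlgebraicGeometry AlgSp Opposite

set_option backward.isDefEq.respectTransparency.types false

namespace Groth.L23

variable {S : Scheme.{u}}

/-- A first order thickening of an affine scheme is a standard one. -/
theorem exists_std_thickening {T T' : Over S} [IsAffine T'.left] (j : T ⟶ T')
    (hj : MoreMor.IsFirstOrderThickening j.left) :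
    ∃ (A : Type u) (_ : CommRing A) (I : Ideal A) (_ : I ^ 2 = ⊥) (str : Spec (CommRingCat.of A) ⟶ S)
      (ε₀ : Over.mk (Spec.map (CommRingCat.ofHom (Ideal.Quotient.mk I)) ≫ str) ≅ T)
      (ε : Over.mk str ≅ T'),
      ε₀.hom ≫ j = (Over.homMk (Spec.map (CommRingCat.ofHom (Ideal.Quotient.mk I))) rfl :
        Over.mk (Spec.map (CommRingCat.ofHom (Ideal.Quotient.mk I)) ≫ str) ⟶ Over.mk str) ≫ ε.hom := by
  obtain ⟨⟨_, _⟩, h₂⟩ := hj
  have hsq : RingHom.ker j.left.appTop.hom ^ 2 = ⊥ := by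
    have h0 := congr(($(show j.left.ker * j.left.ker = ⊥ from h₂)).ideal ⟨⊤, isAffineOpen_top T'.left⟩)
    rw [Scheme.IdealSheafData.ideal_mul, Pi.mul_apply, Scheme.Hom.ker_apply,
      Scheme.IdealSheafData.ideal_bot, Pi.bot_apply] at h0
    rw [pow_two]
    exact h0
  have : IsAffine T.left := isAffine_of_isAffineHom j.left
  have hs : Function.Surjective j.left.appTop := (IsClosedImmersion.isAffine_surjective_of_isAffine j.left).2
  let e := RingHom.quotientKerEquivOfSurjective (f := j.left.appTop.hom) hs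
  let δ : Spec Γ(T.left, ⊤) ≅ Spec (CommRingCat.of (Γ(T'.left, ⊤) ⧸ RingHom.ker j.left.appTop.hom)) :=
    Scheme.Spec.mapIso e.toCommRingCatIso.op
  have he : δ.hom ≫ Spec.map (CommRingCat.ofHom (Ideal.Quotient.mk _)) = Spec.map j.left.appTop := by
    show Spec.map _ ≫ _ = _
    rw [← Spec.map_comp]
    rfl
  have key : (δ.symm ≪≫ T.left.isoSpec.symm).hom ≫ j.left =
      Spec.map (CommRingCat.ofHom (Ideal.Quotient.mk _)) ≫ T'.left.isoSpec.inv := by
    rw [← cancel_epi δ.hom, reassoc_of% he]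
    simp only [Iso.trans_hom, Iso.symm_hom, Category.assoc, Iso.hom_inv_id_assoc]
    rw [Iso.inv_comp_eq, ← Category.assoc, Scheme.isoSpec_hom_naturality, Category.assoc,
      Iso.hom_inv_id, Category.comp_id]
  refine ⟨Γ(T'.left, ⊤), inferInstance, _, hsq, T'.left.isoSpec.inv ≫ T'.hom,
    Over.isoMk (δ.symm ≪≫ T.left.isoSpec.symm) ?_, Over.isoMk T'.left.isoSpec.symm rfl,
    Over.OverMorphism.ext key⟩
  show _ ≫ T.hom = Spec.map _ ≫ _ ≫ T'.hom
  rw [← Over.w j, reassoc_of% key]

theorem exists_lift_affine {F G : Sp S} {f : F ⟶ G} (hf : IsFormallySmoothMor f) {T T' : Over S}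
    [IsAffine T'.left] (j : T ⟶ T') (hj : MoreMor.IsFirstOrderThickening j.left)
    (top : (yon S).obj T ⟶ F) (bot : (yon S).obj T' ⟶ G) (w : top ≫ f = (yon S).map j ≫ bot) :
    ∃ l, (yon S).map j ≫ l = top ∧ l ≫ f = bot := by
  obtain ⟨A, _, I, hI, str, ε₀, ε, hε⟩ := exists_std_thickening j hj
  obtain ⟨l, hl₁, hl₂⟩ := hf
    { A := A, I := I, sq_zero := hI, str := str, top := (yon S).map ε₀.hom ≫ top,
      bot := (yon S).map ε.hom ≫ bot,
      comm := by rw [Category.assoc, w, ← Functor.map_comp_assoc, hε, Functor.map_comp_assoc] }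
  refine ⟨(yon S).map ε.inv ≫ l, ?_, ?_⟩
  · rw [← cancel_epi ((yon S).map ε₀.hom), ← Functor.map_comp_assoc, hε, Functor.map_comp_assoc,
      Iso.map_hom_inv_id_assoc]
    exact hl₁
  · refine (Category.assoc _ _ _).trans ((congrArg ((yon S).map ε.inv ≫ ·) hl₂).trans ?_)
    rw [← Functor.map_comp_assoc, Iso.inv_hom_id, (yon S).map_id, Category.id_comp]

theorem uniq_lift_affine {F G : Sp S} {f : F ⟶ G} (hf : IsFormallyUnramifiedMor f) {T T' : Over S}
    [IsAffine T'.left] (j : T ⟶ T') (hj : MoreMor.IsFirstOrderThickening j.left)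
    (l l' : (yon S).obj T' ⟶ F) (e₁ : (yon S).map j ≫ l = (yon S).map j ≫ l') (e₂ : l ≫ f = l' ≫ f) :
    l = l' := by
  obtain ⟨A, _, I, hI, str, ε₀, ε, hε⟩ := exists_std_thickening j hj
  let sq : InfSq f :=
    { A := A, I := I, sq_zero := hI, str := str, top := (yon S).map ε₀.hom ≫ (yon S).map j ≫ l,
      bot := (yon S).map ε.hom ≫ l ≫ f,
      comm := by
        rw [Category.assoc, Category.assoc, ← Functor.map_comp_assoc, hε, Functor.map_comp_assoc] }
  have := hf sq ((yon S).map ε.hom ≫ l) ((yon S).map ε.hom ≫ l')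
    (by show (yon S).map _ ≫ _ = _; rw [← Functor.map_comp_assoc, ← hε, Functor.map_comp_assoc])
    (by show _ = (yon S).map ε.hom ≫ l ≫ f; rw [Category.assoc])
    (by show (yon S).map _ ≫ _ = (yon S).map ε₀.hom ≫ (yon S).map j ≫ l
        rw [← Functor.map_comp_assoc, ← hε, Functor.map_comp_assoc, e₁])
    (by show _ = (yon S).map ε.hom ≫ l ≫ f; rw [Category.assoc, e₂])
  rwa [cancel_epi] at this

theorem uniq_lift_scheme {F G : Sp S} {f : F ⟶ G} (hf : IsFormallyUnramifiedMor f) {T T' : Over S}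
    (j : T ⟶ T') (hj : MoreMor.IsFirstOrderThickening j.left)
    (l l' : (yon S).obj T' ⟶ F) (e₁ : (yon S).map j ≫ l = (yon S).map j ≫ l') (e₂ : l ≫ f = l' ≫ f) :
    l = l' := ext_of_etale_nhds _ _ fun x => by
  obtain ⟨_, ⟨O₀, hO, rfl⟩, hxO, -⟩ :=
    T'.left.isBasis_affineOpens.exists_subset_of_mem_open (Set.mem_univ x) isOpen_univ
  let O : T'.left.Opens := O₀
  let T₁ : Over S := Over.mk (O.ι ≫ T'.hom)
  let o : T₁ ⟶ T' := Over.homMk O.ι rfl
  have : IsAffine T₁.left := hO
  have sq : IsPullback (pullback.fst o j) (pullback.snd o j) o j := IsPullback.of_hasPullback _ _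
  refine ⟨T₁, o, inferInstanceAs (Etale O.ι), ⟨⟨x, hxO⟩, rfl⟩,
    uniq_lift_affine hf (pullback.fst o j) (isFirstOrder_of_isPullback hj (sq.map (Over.forget S))) _ _ ?_ ?_⟩
  · rw [← Functor.map_comp_assoc, ← Functor.map_comp_assoc, sq.w, Functor.map_comp_assoc,
      Functor.map_comp_assoc, e₁]
  · rw [Category.assoc, Category.assoc, e₂]

/-- If a composite with an etale surjection is formally unramified, so is the second map. -/
theorem isFormallyUnramifiedMor_of_etale_comp {F G H : Sp S} {a : F ⟶ G} {b : G ⟶ H} (ha : RepWith @Etale a)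
    (has : RepWith @Surjective a) (h : IsFormallyUnramifiedMor (a ≫ b)) : IsFormallyUnramifiedMor b := by
  intro sq l l' h₁ h₂ h₃ h₄
  have sE := ha.1.isPullback l
  have hπ : Etale (ha.1.snd l).left := repWith_prop ha sE
  have hπs : Surjective (ha.1.snd l).left := repWith_prop has sE
  have := epi_of_repWith _ (repWith_map (P := (@Etale : MorphismProperty Scheme.{u})) hπ)
    (repWith_map (P := (@Surjective : MorphismProperty Scheme.{u})) hπs)
  rw [← cancel_epi ((yon S).map (ha.1.snd l))]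
  have s₀ : IsPullback (pullback.fst (ha.1.snd l) sq.j) (pullback.snd (ha.1.snd l) sq.j) (ha.1.snd l) sq.j :=
    IsPullback.of_hasPullback _ _
  have hj := isFirstOrder_of_isPullback sq.firstOrder (s₀.map (Over.forget S))
  obtain ⟨l₂, ⟨e₁, e₂⟩, -⟩ := etale_thick_lift ha (pullback.fst (ha.1.snd l) sq.j) hj.1
    ((yon S).map (pullback.fst (ha.1.snd l) sq.j) ≫ ha.1.fst l) ((yon S).map (ha.1.snd l) ≫ l') (by
      rw [Category.assoc, sE.w, ← Functor.map_comp_assoc, ← Functor.map_comp_assoc, s₀.w,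
        Functor.map_comp_assoc, Functor.map_comp_assoc]
      exact congrArg ((yon S).map _ ≫ ·) (h₁.trans h₃.symm))
  have : l₂ = ha.1.fst l := uniq_lift_scheme h (pullback.fst (ha.1.snd l) sq.j) hj _ _ e₁ (by
    rw [← Category.assoc, e₂, ← Category.assoc, sE.w, Category.assoc, Category.assoc]
    exact congrArg ((yon S).map _ ≫ ·) (h₄.trans h₂.symm))
  rw [← e₂, this, sE.w]

end Groth.L23
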