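import Groth.Agent.L23.ThickSplit
import Groth.Agent.L23.Cover
import Groth.Agent.L23.Epi
import Groth.Agent.L23.LocP
import Groth.Agent.L20.ThickeningProps
import Groth.Prelude.Def_AlgSpInf

/-!
# Unique lifting along thickenings: etale sections and formally unramified morphisms
-/

universe u

open CategoryTheory CategoryTheory.Limits AlgebraicGeometry AlgSp Opposite

set_option backward.isDefEq.respectTransparency.types false

namespace Groth.L23

variable {S : Scheme.{u}}

/-- Sections of etale morphisms lift uniquely along thickenings. -/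
theorem existsUnique_section {E T' T : Scheme.{u}} (π : E ⟶ T') [Etale π] (j : T ⟶ T')
    (hj : MoreMor.IsThickening j) (σ : T ⟶ E) (w : σ ≫ π = j) :
    ∃! τ : T' ⟶ E, τ ≫ π = 𝟙 T' ∧ j ≫ τ = σ := by
  obtain ⟨_, _⟩ := hj
  let s₀ : T ⟶ pullback π j := pullback.lift σ (𝟙 T) (by simpa using w)
  have hs₀ : Etale (s₀ ≫ pullback.snd π j) := by
    rw [pullback.lift_snd]; infer_instance
  have : Etale s₀ := Etale.of_comp s₀ (pullback.snd π j)
  have : Mono (s₀ ≫ pullback.snd π j) := by rw [pullback.lift_snd]; infer_instance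
  have : Mono s₀ := mono_of_mono s₀ (pullback.snd π j)
  have : IsOpenImmersion s₀ := IsOpenImmersion.of_flat_of_mono s₀
  have hfst : IsClosedImmersion (pullback.fst π j) := inferInstance
  have : Surjective (pullback.fst π j) := inferInstance
  have hh : IsHomeomorph (pullback.fst π j) :=
    isHomeomorph_iff_isEmbedding_surjective.2 ⟨(pullback.fst π j).isClosedEmbedding.isEmbedding,
      (pullback.fst π j).surjective⟩
  let O : E.Opens := ⟨pullback.fst π j '' s₀.opensRange, hh.isOpenMap _ s₀.opensRange.2⟩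
  have hpre : pullback.fst π j ⁻¹ᵁ O = s₀.opensRange := by
    ext z
    exact ⟨fun ⟨z', hz', e⟩ => hh.injective e ▸ hz', fun h => ⟨z, h, rfl⟩⟩
  have hrange : Set.range σ ⊆ Set.range O.ι := by
    rintro _ ⟨t, rfl⟩
    rw [Scheme.Opens.range_ι]
    exact ⟨s₀ t, ⟨t, rfl⟩, by rw [← Scheme.Hom.comp_apply, pullback.lift_fst]⟩
  let σO : T ⟶ O.toScheme := IsOpenImmersion.lift O.ι σ hrange
  have hσO : σO ≫ O.ι = σ := IsOpenImmersion.lift_fac _ _ _
  have sq₁ : IsPullback σO s₀ O.ι (pullback.fst π j) :=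
    IsOpenImmersion.isPullback _ _ _ _ (by rw [hσO, pullback.lift_fst])
      (by rw [Scheme.Opens.opensRange_ι]; exact hpre)
  have sq₂ : IsPullback σO (𝟙 T) (O.ι ≫ π) j := by
    have := sq₁.paste_vert (IsPullback.of_hasPullback π j)
    rwa [pullback.lift_snd] at this
  have : IsIso (O.ι ≫ π) := isIso_of_isPullback_thickening sq₂
  have hτ : j ≫ inv (O.ι ≫ π) = σO := by
    rw [IsIso.comp_inv_eq, sq₂.w, Category.id_comp]
  refine ⟨inv (O.ι ≫ π) ≫ O.ι, ⟨by simp, ?_⟩, ?_⟩
  · rw [← Category.assoc, hτ, hσO]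
  · rintro τ ⟨h₁, h₂⟩
    have hr : Set.range τ ⊆ Set.range O.ι := by
      rintro _ ⟨t', rfl⟩
      obtain ⟨t, rfl⟩ := j.surjective t'
      refine hrange ⟨t, ?_⟩
      rw [← Scheme.Hom.comp_apply, h₂]
    rw [← IsOpenImmersion.lift_fac O.ι τ hr]
    congr 1
    rw [← cancel_mono (O.ι ≫ π), IsIso.inv_hom_id]
    rw [← Category.assoc, IsOpenImmersion.lift_fac, h₁]

/-- Lifting along a representable etale map is unique and exists along any thickening. -/
theorem etale_thick_lift {F G : Sp S} {a : F ⟶ G} (ha : RepWith @Etale a) {T T' : Over S} (j : T ⟶ T')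
    (hj : MoreMor.IsThickening j.left) (top : (yon S).obj T ⟶ F) (bot : (yon S).obj T' ⟶ G)
    (w : top ≫ a = (yon S).map j ≫ bot) :
    ∃! l : (yon S).obj T' ⟶ F, (yon S).map j ≫ l = top ∧ l ≫ a = bot := by
  have sE := ha.1.isPullback bot
  have hπ : Etale (ha.1.snd bot).left := repWith_prop ha sE
  let σ := ha.1.lift (g := bot) top j w
  obtain ⟨τ, ⟨hτ₁, hτ₂⟩, hτu⟩ := existsUnique_section (ha.1.snd bot).left j.left hj σ.left
    congr($(ha.1.lift_snd (g := bot) top j w).left)
  let τ' : T' ⟶ ha.1.pullback bot := Over.homMk τ (by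
    rw [← Over.w (ha.1.snd bot), ← Category.assoc, hτ₁, Category.id_comp])
  have e₁ : τ' ≫ ha.1.snd bot = 𝟙 T' := Over.OverMorphism.ext hτ₁
  have e₂ : j ≫ τ' = σ := Over.OverMorphism.ext hτ₂
  refine ⟨(yon S).map τ' ≫ ha.1.fst bot, ⟨?_, ?_⟩, ?_⟩
  · rw [← Functor.map_comp_assoc, e₂]; exact ha.1.lift_fst top j w
  · rw [Category.assoc, sE.w, ← Functor.map_comp_assoc, e₁, (yon S).map_id, Category.id_comp]
  · rintro l ⟨hl₁, hl₂⟩
    let μ := ha.1.lift (g := bot) l (𝟙 T') (by rw [hl₂, (yon S).map_id, Category.id_comp])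
    have hμ₁ : μ ≫ ha.1.snd bot = 𝟙 T' := ha.1.lift_snd _ _ _
    have hμ₂ : (yon S).map μ ≫ ha.1.fst bot = l := ha.1.lift_fst _ _ _
    have e : j ≫ μ = σ := by
      refine ha.1.hom_ext ?_ ?_
      · rw [Functor.map_comp, Category.assoc, hμ₂, hl₁, ha.1.lift_fst]
      · rw [Category.assoc, hμ₁, Category.comp_id, ha.1.lift_snd]
    have : μ = τ' := Over.OverMorphism.ext (hτu μ.left ⟨congr($(hμ₁).left), congr($(e).left)⟩)
    rw [← hμ₂, this]

/-- Maps out of a scheme into a sheaf agree if they agree etale locally. -/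
theorem ext_of_etale_nhds {F : Sp S} {R : Over S} (l l' : (yon S).obj R ⟶ F)
    (h : ∀ x : R.left, ∃ (W : Over S) (e : W ⟶ R), Etale e.left ∧ x ∈ Set.range e.left ∧
      (yon S).map e ≫ l = (yon S).map e ≫ l') : l = l' := by
  choose W e he hx heq using h
  let P : Presieve R.left := Presieve.ofArrows (fun x => (W x).left) (fun x => (e x).left)
  have hP : P ∈ Scheme.fppfPrecoverage R.left := by
    rw [Scheme.fppfPrecoverage, Scheme.ofArrows_mem_precoverage_iff]
    refine ⟨fun y => ⟨y, hx y⟩, fun x => ?_⟩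
    have := he x
    exact ⟨inferInstance, inferInstance⟩
  have hmem : Sieve.ofArrows W e ∈ J S R := by
    rw [Sieve.ofArrows, GrothendieckTopology.mem_over_iff, Sieve.overEquiv_generate]
    refine GrothendieckTopology.superset_covering _ ?_ (Precoverage.generate_mem_toGrothendieck hP)
    refine Sieve.generate_mono ?_
    rintro Z v ⟨x⟩
    exact ⟨_, e x, 𝟙 _, Presieve.ofArrows.mk x, by simp⟩
  refine (J S).uliftYonedaEquiv.injective ?_
  refine ((isSheaf_iff_isSheaf_of_type _ _).1 F.property).isSeparated _ hmem |>.ext fun Z g hg => ?_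
  obtain ⟨_, q, _, ⟨x⟩, rfl⟩ := hg
  have key := congrArg (J S).uliftYonedaEquiv (congrArg ((yon S).map q ≫ ·) (heq x))
  simp only [← Functor.map_comp_assoc] at key
  rw [← GrothendieckTopology.uliftYonedaEquiv_naturality, ← GrothendieckTopology.uliftYonedaEquiv_naturality] at key
  exact key

theorem ker_sq_of_isPullback {T T' W W' : Scheme.{u}} {j : T ⟶ T'} [IsClosedImmersion j]
    (hn : IsNilpotent j.ker) {a : W ⟶ W'} {p : W ⟶ T} {q : W' ⟶ T'} (sq : IsPullback a p q j) :
    IsNilpotent a.ker :=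
  Groth.L20.Thick.isNilpotent_ker_of_isPullback hn sq

/-- At most one lift along a nilpotent thickening for a formally unramified chart. -/
theorem unique_lift_of_chart {X Y : Sp S} {f : X ⟶ Y} {U V : Over S} {a : (yon S).obj U ⟶ X}
    {b : (yon S).obj V ⟶ Y} {h : U ⟶ V} (ha : RepWith @Etale a) (has : RepWith @Surjective a)
    (hb : RepWith @Etale b) (wc : a ≫ f = (yon S).map h ≫ b) [FormallyUnramified h.left]
    {T T' : Over S} (j : T ⟶ T') (hj : MoreMor.IsThickening j.left) (hn : IsNilpotent j.left.ker)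
    (l l' : (yon S).obj T' ⟶ X) (e₁ : (yon S).map j ≫ l = (yon S).map j ≫ l')
    (e₂ : l ≫ f = l' ≫ f) : l = l' := by
  obtain ⟨E, u₁, π, sE⟩ := exists_isPullback_of_representable ha.1 l
  have hπ : Etale π.left := repWith_prop ha sE
  have hπs : Surjective π.left := repWith_prop has sE
  have := epi_of_repWith _ (repWith_map (P := (@Etale : MorphismProperty Scheme.{u})) hπ)
    (repWith_map (P := (@Surjective : MorphismProperty Scheme.{u})) hπs)
  rw [← cancel_epi ((yon S).map π)]
  let E₀ := pullback π j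
  let j' : E₀ ⟶ E := pullback.fst π j
  have sq₀ : IsPullback j' (pullback.snd π j) π j := IsPullback.of_hasPullback _ _
  have sq₀' := sq₀.map (Over.forget S)
  obtain ⟨_, _⟩ := hj
  have hj' : MoreMor.IsThickening j'.left :=
    Groth.L20.Thick.isThickening_of_isPullback ⟨‹_›, ‹_›⟩ sq₀'
  obtain ⟨_, _⟩ := hj'
  have wtop : ((yon S).map (j' ≫ u₁)) ≫ a = (yon S).map j' ≫ (yon S).map π ≫ l' := by
    rw [Functor.map_comp, Category.assoc, sE.w, ← Functor.map_comp_assoc, sq₀.w, Functor.map_comp,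
      Category.assoc, e₁, ← Functor.map_comp_assoc, ← sq₀.w, Functor.map_comp, Category.assoc]
  obtain ⟨l₂, ⟨h₁, h₂⟩, -⟩ := etale_thick_lift ha j' ⟨‹_›, ‹_›⟩ _ _ wtop
  obtain ⟨u₂, rfl⟩ := (yon S).map_surjective l₂
  rw [← Functor.map_comp] at h₁
  have e₀ : j' ≫ u₂ = j' ≫ u₁ := (yon S).map_injective h₁
  have eV : (yon S).map (u₁ ≫ h) = (yon S).map (u₂ ≫ h) := by
    refine (etale_thick_lift hb j' ⟨‹_›, ‹_›⟩ ((yon S).map (j' ≫ u₁ ≫ h)) ((yon S).map π ≫ l ≫ f) ?_).unique
      ⟨(Functor.map_comp _ _ _).symm, ?_⟩ ⟨?_, ?_⟩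
    · rw [Functor.map_comp, Functor.map_comp, Category.assoc, Category.assoc, ← wc, ← reassoc_of% sE.w]
    · rw [Functor.map_comp, Category.assoc, ← wc, reassoc_of% sE.w]
    · rw [← Functor.map_comp, reassoc_of% e₀]
    · rw [Functor.map_comp, Category.assoc, ← wc, reassoc_of% h₂, e₂]
  have : u₁ = u₂ := Over.OverMorphism.ext (FormallyUnramified.hom_ext j'.left
    (ker_sq_of_isPullback hn sq₀') h.left congr($(e₀.symm).left)
    congr($((yon S).map_injective eV).left))
  subst this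
  rw [← sE.w, h₂]

end Groth.L23
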