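import Groth.Agent.L23.InfEtale

/-!
# Gluing lifts: formally etale morphisms of sheaves by charts
-/

universe u

open CategoryTheory CategoryTheory.Limits AlgebraicGeometry AlgSp Opposite

set_option backward.isDefEq.respectTransparency.types false

namespace Groth.L23

variable {S : Scheme.{u}}

theorem exists_glue_etale {F : Sp S} {R : Over S} {ι : Type u} (W : ι → Over S) (e : ∀ i, W i ⟶ R)
    (he : ∀ i, Etale (e i).left) (hx : ∀ x : R.left, ∃ i, x ∈ Set.range (e i).left)
    (l : ∀ i, (yon S).obj (W i) ⟶ F)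
    (hc : ∀ (i k : ι) (Z : Over S) (p : Z ⟶ W i) (q : Z ⟶ W k), p ≫ e i = q ≫ e k →
      (yon S).map p ≫ l i = (yon S).map q ≫ l k) :
    ∃ L : (yon S).obj R ⟶ F, ∀ i, (yon S).map (e i) ≫ L = l i := by
  let P : Presieve R.left := Presieve.ofArrows (fun i => (W i).left) (fun i => (e i).left)
  have hP : P ∈ Scheme.fppfPrecoverage R.left := by
    rw [Scheme.fppfPrecoverage, Scheme.ofArrows_mem_precoverage_iff]
    refine ⟨fun y => hx y, fun i => ?_⟩
    have := he i
    exact ⟨inferInstance, inferInstance⟩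
  have hmem : Sieve.ofArrows W e ∈ J S R := by
    rw [Sieve.ofArrows, GrothendieckTopology.mem_over_iff, Sieve.overEquiv_generate]
    refine GrothendieckTopology.superset_covering _ ?_ (Precoverage.generate_mem_toGrothendieck hP)
    refine Sieve.generate_mono ?_
    rintro Z v ⟨i⟩
    exact ⟨_, e i, 𝟙 _, Presieve.ofArrows.mk i, by simp⟩
  have hs : Presieve.IsSheafFor F.obj (Presieve.ofArrows W e) :=
    (Presieve.isSheafFor_iff_generate _).2
      (((isSheaf_iff_isSheaf_of_type _ _).1 F.property) _ hmem)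
  rw [Presieve.isSheafFor_arrows_iff] at hs
  obtain ⟨t, ht, -⟩ := hs (fun i => (J S).uliftYonedaEquiv (l i)) (fun i k Z p q hpq => by
    have := congrArg (J S).uliftYonedaEquiv (hc i k Z p q hpq)
    rwa [← GrothendieckTopology.uliftYonedaEquiv_naturality,
      ← GrothendieckTopology.uliftYonedaEquiv_naturality] at this)
  refine ⟨(J S).uliftYonedaEquiv.symm t, fun i => (J S).uliftYonedaEquiv.injective ?_⟩
  rw [← GrothendieckTopology.uliftYonedaEquiv_naturality, Equiv.apply_symm_apply]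
  exact ht i

theorem formallyUnramified_of_formallyEtaleHom {U V : Scheme.{u}} {h : U ⟶ V}
    (hh : MoreMor.IsFormallyEtaleHom h) : FormallyUnramified h := by
  refine FormallyUnramified.of_hom_ext h fun R R₀ φ hφ hk g₁ g₂ hg hgf => ?_
  let e := RingHom.quotientKerEquivOfSurjective (f := φ.hom) hφ
  have he : CommRingCat.ofHom (Ideal.Quotient.mk (RingHom.ker φ.hom)) ≫
      CommRingCat.ofHom e.toRingHom = φ := by ext x; rfl
  let q : Spec (.of (R ⧸ RingHom.ker φ.hom)) ⟶ Spec R₀ := Spec.map (CommRingCat.ofHom e.symm.toRingHom)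
  have hq : q ≫ Spec.map φ = Spec.map (CommRingCat.ofHom (Ideal.Quotient.mk (RingHom.ker φ.hom))) := by
    show Spec.map _ ≫ _ = _
    rw [← Spec.map_comp]
    congr 1
    ext x
    exact e.symm_apply_apply (Ideal.Quotient.mk _ x)
  exact (hh R (RingHom.ker φ.hom) hk (q ≫ Spec.map φ ≫ g₁) (g₁ ≫ h) (by
    simp [← reassoc_of% hq])).unique ⟨by rw [← hq, Category.assoc], rfl⟩
    ⟨by rw [← hq, Category.assoc, hg], hgf.symm⟩

/-- Existence and uniqueness of lifts along first order thickenings of schemes. -/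
theorem existsUnique_lift_of_chart {X Y : Sp S} {f : X ⟶ Y} {U V : Over S} {a : (yon S).obj U ⟶ X}
    {b : (yon S).obj V ⟶ Y} {h : U ⟶ V} (ha : RepWith @Etale a) (has : RepWith @Surjective a)
    (hb : RepWith @Etale b) (wc : a ≫ f = (yon S).map h ≫ b) (hh : MoreMor.IsFormallyEtaleHom h.left)
    {T T' : Over S} (j : T ⟶ T') (hj : MoreMor.IsFirstOrderThickening j.left)
    (top : (yon S).obj T ⟶ X) (bot : (yon S).obj T' ⟶ Y) (w : top ≫ f = (yon S).map j ≫ bot) :
    ∃! l : (yon S).obj T' ⟶ X, (yon S).map j ≫ l = top ∧ l ≫ f = bot := by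
  have := formallyUnramified_of_formallyEtaleHom hh
  have uniq : ∀ {R₀ R : Over S} (k : R₀ ⟶ R), MoreMor.IsFirstOrderThickening k.left →
      ∀ l l' : (yon S).obj R ⟶ X, (yon S).map k ≫ l = (yon S).map k ≫ l' → l ≫ f = l' ≫ f → l = l' :=
    fun k hk => unique_lift_of_chart ha has hb wc k hk.1 (isNilpotent_ker_of_firstOrder hk)
  obtain ⟨P, u₀, ρ, sP⟩ := exists_isPullback_of_representable ha.1 top
  have hρ : Etale ρ.left := repWith_prop ha sP
  have hρs : Surjective ρ.left := repWith_prop has sP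
  choose V₁ P₁ e m j₁ he haff sq₁ hrange using fun π => exists_local_etale_lift ρ.left j.left hj.1 π
  obtain ⟨_, _⟩ := hj.1
  let W : P.left → Over S := fun π => Over.mk (e π ≫ T'.hom)
  let W₀ : P.left → Over S := fun π => Over.mk (j₁ π ≫ (W π).hom)
  let eW : ∀ π, W π ⟶ T' := fun π => Over.homMk (e π) rfl
  let jW : ∀ π, W₀ π ⟶ W π := fun π => Over.homMk (j₁ π) rfl
  have hm : ∀ π, m π ≫ P.hom = j₁ π ≫ e π ≫ T'.hom := fun π => by
    rw [← Over.w ρ, ← Over.w j, ← Category.assoc, ← Category.assoc, (sq₁ π).w, Category.assoc]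
  let mW : ∀ π, W₀ π ⟶ P := fun π => Over.homMk (m π) (hm π)
  have sqW : ∀ π, IsPullback (mW π ≫ ρ) (jW π) j (eW π) := fun π =>
    IsPullback.of_map (Over.forget S) (Over.OverMorphism.ext (sq₁ π).w) (sq₁ π)
  have hjW : ∀ π, MoreMor.IsFirstOrderThickening (jW π).left := fun π =>
    isFirstOrder_of_isPullback hj (sq₁ π).flip
  have hlocal : ∀ π, ∃ l : (yon S).obj (W π) ⟶ X, (yon S).map (jW π) ≫ l =
      (yon S).map (mW π ≫ ρ) ≫ top ∧ l ≫ f = (yon S).map (eW π) ≫ bot := fun π => by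
    have wb : (yon S).map (mW π ≫ u₀ ≫ h) ≫ b = (yon S).map (jW π) ≫ (yon S).map (eW π) ≫ bot := by
      rw [Functor.map_comp, Functor.map_comp, Category.assoc, Category.assoc, ← wc, reassoc_of% sP.w, w]
      simp only [← Functor.map_comp_assoc]
      rw [← (sqW π).w]
      simp only [Category.assoc]
    obtain ⟨v, ⟨hv₁, hv₂⟩, -⟩ := etale_thick_lift hb (jW π) (hjW π).1 _ _ wb
    obtain ⟨v, rfl⟩ := (yon S).map_surjective v
    have hv₁' : jW π ≫ v = mW π ≫ u₀ ≫ h := (yon S).map_injective (by rw [(yon S).map_comp, hv₁])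
    have : IsAffine (W π).left := haff π
    obtain ⟨l, hl₁, hl₂⟩ := exists_lift_of_formallySmoothHom (f := h.left)
      (fun A _ I hI x y z => (hh A I hI x y z).exists) (hjW π) (mW π ≫ u₀).left v.left
      (by rw [← Over.comp_left, hv₁']; simp)
    let l' : W π ⟶ U := Over.homMk l (by rw [← Over.w h, ← Category.assoc, hl₂, Over.w v])
    have e₁ : jW π ≫ l' = mW π ≫ u₀ := Over.OverMorphism.ext hl₁
    have e₂ : l' ≫ h = v := Over.OverMorphism.ext hl₂
    refine ⟨(yon S).map l' ≫ a, ?_, ?_⟩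
    · rw [← Functor.map_comp_assoc, e₁, Functor.map_comp, Category.assoc, sP.w,
        Functor.map_comp, Category.assoc]
    · rw [Category.assoc, wc, ← Functor.map_comp_assoc, e₂, hv₂]
  choose l hl₁ hl₂ using hlocal
  have hcov : ∀ x' : T'.left, ∃ π, x' ∈ Set.range (eW π).left := fun x' => by
    obtain ⟨x, rfl⟩ := j.left.surjective x'
    obtain ⟨π, rfl⟩ := ρ.left.surjective x
    exact ⟨π, hrange π⟩
  obtain ⟨L, hL⟩ := exists_glue_etale W eW he hcov l (fun π π' Z p q hpq => by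
    obtain ⟨g, hg⟩ : ∃ g : Z ⟶ T', p ≫ eW π = g := ⟨_, rfl⟩
    rw [hg] at hpq
    have sZ : IsPullback (pullback.fst g j) (pullback.snd g j) g j :=
      IsPullback.of_hasPullback _ _
    refine uniq (pullback.fst g j)
      (isFirstOrder_of_isPullback hj (sZ.map (Over.forget S))) _ _ ?_ ?_
    · have w₁ : pullback.snd g j ≫ j = (pullback.fst g j ≫ p) ≫ eW π := by
        rw [← sZ.w, Category.assoc, hg]
      have w₂ : pullback.snd g j ≫ j = (pullback.fst g j ≫ q) ≫ eW π' := by
        rw [← sZ.w, Category.assoc, ← hpq]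
      rw [← Functor.map_comp_assoc, ← Functor.map_comp_assoc,
        ← (sqW π).lift_snd _ _ w₁, ← (sqW π').lift_snd _ _ w₂,
        Functor.map_comp, Functor.map_comp, Category.assoc, Category.assoc, hl₁, hl₁,
        ← Functor.map_comp_assoc, ← Functor.map_comp_assoc, (sqW π).lift_fst, (sqW π').lift_fst]
    · rw [Category.assoc, Category.assoc, hl₂, hl₂, ← Functor.map_comp_assoc, ← Functor.map_comp_assoc, hg, ← hpq])
  have hLf : L ≫ f = bot := ext_of_etale_nhds _ _ fun x' => by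
    obtain ⟨π, hπ⟩ := hcov x'
    exact ⟨_, eW π, he π, hπ, by rw [← Category.assoc, hL, hl₂]⟩
  have hLj : (yon S).map j ≫ L = top := ext_of_etale_nhds _ _ fun x => by
    obtain ⟨π, hπ⟩ := hcov (j.left x)
    obtain ⟨v, hv⟩ := hπ
    have := he π
    have : Surjective (j₁ π) := (hjW π).1.2
    obtain ⟨z, rfl⟩ := (j₁ π).surjective v
    refine ⟨W₀ π, mW π ≫ ρ, MorphismProperty.of_isPullback (P := @Etale) (sq₁ π).flip (he π),
      ⟨z, j.left.isClosedEmbedding.injective ?_⟩, ?_⟩
    · rw [← hv, ← Scheme.Hom.comp_apply]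
      exact congr($((sq₁ π).w) z)
    · rw [← Functor.map_comp_assoc, (sqW π).w, Functor.map_comp, Category.assoc, hL, hl₁]
  exact ⟨L, ⟨hLj, hLf⟩, fun l' hl' => uniq j hj l' L (hl'.1.trans hLj.symm) (hl'.2.trans hLf.symm)⟩

theorem formallyEtale_of_chart {X Y : Sp S} {f : X ⟶ Y} {U V : Over S} {a : (yon S).obj U ⟶ X}
    {b : (yon S).obj V ⟶ Y} {h : U ⟶ V} (ha : RepWith @Etale a) (has : RepWith @Surjective a)
    (hb : RepWith @Etale b) (wc : a ≫ f = (yon S).map h ≫ b) (hh : MoreMor.IsFormallyEtaleHom h.left) :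
    IsFormallyEtaleMor f := fun sq =>
  existsUnique_lift_of_chart ha has hb wc hh sq.j sq.firstOrder sq.top sq.bot sq.comm

end Groth.L23
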