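import Groth.Prelude.Def_AlgSpInf

/-!
# Formal calculus of infinitesimal lifting
-/

universe u

open CategoryTheory CategoryTheory.Limits AlgebraicGeometry Opposite AlgSp

namespace Groth.L23

variable {S : Scheme.{u}} {F G H : Sp S}

/-- Replace the maps of a lifting square. -/
noncomputable abbrev reSq {F' G' : Sp S} {f : F ⟶ G} (sq : InfSq f) (f' : F' ⟶ G')
    (top : (yon S).obj sq.ptT ⟶ F') (bot : (yon S).obj sq.ptT' ⟶ G')
    (comm : top ≫ f' = (yon S).map sq.j ≫ bot) : InfSq f' :=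
  { A := sq.A, I := sq.I, sq_zero := sq.sq_zero, str := sq.str, top := top, bot := bot, comm := comm }

lemma formallyEtale_iff (f : F ⟶ G) :
    IsFormallyEtaleMor f ↔ IsFormallySmoothMor f ∧ IsFormallyUnramifiedMor f :=
  ⟨fun h => ⟨fun sq => (h sq).exists, fun sq l l' a b c d => (h sq).unique ⟨a, b⟩ ⟨c, d⟩⟩,
    fun ⟨h₁, h₂⟩ sq => by
      obtain ⟨l, hl⟩ := h₁ sq
      exact ⟨l, hl, fun l' hl' => h₂ sq l' l hl'.1 hl'.2 hl.1 hl.2⟩⟩

variable (a : F ⟶ G) (b : G ⟶ H)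

lemma smooth_comp (ha : IsFormallySmoothMor a) (hb : IsFormallySmoothMor b) :
    IsFormallySmoothMor (a ≫ b) := fun sq => by
  obtain ⟨m, hm₁, hm₂⟩ := hb (reSq sq b (sq.top ≫ a) sq.bot (by simpa using sq.comm))
  obtain ⟨l, hl₁, hl₂⟩ := ha (reSq sq a sq.top m hm₁.symm)
  exact ⟨l, hl₁, by rw [← Category.assoc, hl₂]; exact hm₂⟩

lemma unramified_comp (ha : IsFormallyUnramifiedMor a) (hb : IsFormallyUnramifiedMor b) :
    IsFormallyUnramifiedMor (a ≫ b) := fun sq l l' h₁ h₂ h₃ h₄ => by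
  have e := hb (reSq sq b (sq.top ≫ a) sq.bot (by simpa using sq.comm)) (l ≫ a) (l' ≫ a)
    ((Category.assoc _ _ _).symm.trans (congrArg (· ≫ a) h₁)) ((Category.assoc _ _ _).trans h₂)
    ((Category.assoc _ _ _).symm.trans (congrArg (· ≫ a) h₃)) ((Category.assoc _ _ _).trans h₄)
  exact ha (reSq sq a sq.top (l ≫ a) (by rw [← Category.assoc]; exact congrArg (· ≫ a) h₁.symm))
    l l' h₁ rfl h₃ e.symm

lemma etale_comp (ha : IsFormallyEtaleMor a) (hb : IsFormallyEtaleMor b) :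
    IsFormallyEtaleMor (a ≫ b) := by
  rw [formallyEtale_iff] at *
  exact ⟨smooth_comp a b ha.1 hb.1, unramified_comp a b ha.2 hb.2⟩

lemma unramified_of_comp (h : IsFormallyUnramifiedMor (a ≫ b)) : IsFormallyUnramifiedMor a :=
  fun sq l l' h₁ h₂ h₃ h₄ =>
    h (reSq sq (a ≫ b) sq.top (sq.bot ≫ b) (by simp [reassoc_of% sq.comm])) l l' h₁
      ((Category.assoc _ _ _).symm.trans (congrArg (· ≫ b) h₂)) h₃
      ((Category.assoc _ _ _).symm.trans (congrArg (· ≫ b) h₄))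

lemma smooth_of_comp (hb : IsFormallyUnramifiedMor b) (h : IsFormallySmoothMor (a ≫ b)) :
    IsFormallySmoothMor a := fun sq => by
  obtain ⟨l, hl₁, hl₂⟩ := h (reSq sq (a ≫ b) sq.top (sq.bot ≫ b) (by simp [reassoc_of% sq.comm]))
  refine ⟨l, hl₁, hb (reSq sq b (sq.top ≫ a) (sq.bot ≫ b) (by simp [reassoc_of% sq.comm]))
    (l ≫ a) sq.bot ?_ ((Category.assoc _ _ _).trans hl₂) sq.comm.symm rfl⟩
  exact (Category.assoc _ _ _).symm.trans (congrArg (· ≫ a) hl₁)

lemma etale_of_comp (hb : IsFormallyUnramifiedMor b) (h : IsFormallyEtaleMor (a ≫ b)) :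
    IsFormallyEtaleMor a := by
  rw [formallyEtale_iff] at *
  exact ⟨smooth_of_comp a b hb h.1, unramified_of_comp a b h.2⟩

section BaseChange

variable {a} {P : Sp S} {c : H ⟶ G} {c' : P ⟶ F} {a' : P ⟶ H} (hP : IsPullback c' a' a c)
include hP

lemma smooth_baseChange (ha : IsFormallySmoothMor a) : IsFormallySmoothMor a' := fun sq => by
  obtain ⟨l, hl₁, hl₂⟩ := ha (reSq sq a (sq.top ≫ c') (sq.bot ≫ c)
    (by simp [hP.w, reassoc_of% sq.comm]))
  refine ⟨hP.lift l sq.bot hl₂, hP.hom_ext ?_ ?_, hP.lift_snd _ _ _⟩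
  · rw [Category.assoc, hP.lift_fst]; exact hl₁
  · rw [Category.assoc, hP.lift_snd]; exact sq.comm.symm

lemma unramified_baseChange (ha : IsFormallyUnramifiedMor a) : IsFormallyUnramifiedMor a' :=
  fun sq l l' h₁ h₂ h₃ h₄ => hP.hom_ext
    (ha (reSq sq a (sq.top ≫ c') (sq.bot ≫ c) (by simp [hP.w, reassoc_of% sq.comm]))
      (l ≫ c') (l' ≫ c') ((Category.assoc _ _ _).symm.trans (congrArg (· ≫ c') h₁))
      (by simp [hP.w, reassoc_of% h₂])
      ((Category.assoc _ _ _).symm.trans (congrArg (· ≫ c') h₃))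
      (by simp [hP.w, reassoc_of% h₄])) (h₂.trans h₄.symm)

lemma etale_baseChange (ha : IsFormallyEtaleMor a) : IsFormallyEtaleMor a' := by
  rw [formallyEtale_iff] at *
  exact ⟨smooth_baseChange hP ha.1, unramified_baseChange hP ha.2⟩

end BaseChange

end Groth.L23
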