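import Groth.Agent.L23.SmoothLiftRing
import Mathlib.AlgebraicGeometry.Morphisms.Smooth
import Mathlib.AlgebraicGeometry.Morphisms.Etale
import Mathlib.AlgebraicGeometry.Morphisms.ClosedImmersion

/-!
# Etale-local lifting of morphisms to a smooth scheme along a thickening
-/

universe u

open CategoryTheory CategoryTheory.Limits AlgebraicGeometry TensorProduct Opposite

set_option backward.isDefEq.respectTransparency.types false

namespace Groth.L23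

theorem isPullback_Spec_map_of_ker {A B D C : Type u} [CommRing A] [CommRing B] [CommRing D] [CommRing C]
    [Algebra A B] [Algebra A D] [Algebra A C] [Algebra B C] [IsScalarTower A B C]
    (hAB : Function.Surjective (algebraMap A B)) (ψ : D →ₐ[A] C) (hψ : Function.Surjective ψ)
    (hk : RingHom.ker ψ = (RingHom.ker (algebraMap A B)).map (algebraMap A D)) :
    IsPullback (Spec.map (CommRingCat.ofHom (algebraMap B C))) (Spec.map (CommRingCat.ofHom ψ.toRingHom))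
      (Spec.map (CommRingCat.ofHom (algebraMap A B))) (Spec.map (CommRingCat.ofHom (algebraMap A D))) := by
  let Φ : B ⊗[A] D →ₐ[A] C := Algebra.TensorProduct.lift (IsScalarTower.toAlgHom A B C) ψ
    (fun _ _ => Commute.all _ _)
  obtain ⟨hk0, hs0⟩ := ker_includeRight_of_surjective (M := D) hAB
  have hΦ : ∀ d, Φ ((1 : B) ⊗ₜ[A] d) = ψ d := fun d => by simp [Φ]
  have hbij : Function.Bijective Φ := by
    refine ⟨(injective_iff_map_eq_zero Φ).2 fun z hz => ?_, fun c => ?_⟩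
    · obtain ⟨d, rfl⟩ := hs0 z
      have : d ∈ RingHom.ker ψ := (hΦ d).symm.trans hz
      rw [hk, ← hk0] at this
      exact this
    · obtain ⟨d, rfl⟩ := hψ c
      exact ⟨_, hΦ d⟩
  refine isPullback_SpecMap_of_isPushout _ _ _ _ ?_
  let e : CommRingCat.of (B ⊗[A] D) ≅ CommRingCat.of C :=
    (RingEquiv.ofBijective Φ.toRingHom hbij).toCommRingCatIso
  refine (CommRingCat.isPushout_tensorProduct A B D).of_iso (Iso.refl _) (Iso.refl _) (Iso.refl _) e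
    (by simp) (by simp) ?_ ?_
  · ext b
    show Φ (b ⊗ₜ[A] 1) = algebraMap B C b
    simp [Φ]
  · ext d
    exact hΦ d

variable {P T V U W : Scheme.{u}}

theorem exists_smooth_lift {ρ : P ⟶ T} {j : T ⟶ V} {s : P ⟶ U} {h : U ⟶ W} {k : V ⟶ W}
    [Etale ρ] [IsClosedImmersion j] [Surjective j] [Smooth h] (w : s ≫ h = ρ ≫ j ≫ k) (π : P) :
    ∃ (V₁ P₁ : Scheme.{u}) (e : V₁ ⟶ V) (m : P₁ ⟶ P) (j₁ : P₁ ⟶ V₁) (l : V₁ ⟶ U), Etale e ∧
      IsPullback (m ≫ ρ) j₁ j e ∧ l ≫ h = e ≫ k ∧ j₁ ≫ l = m ≫ s ∧ j (ρ π) ∈ Set.range e := by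
  obtain ⟨W₁, hW₁, U₁, hU₁, hu, eU, hstd⟩ := Smooth.exists_isStandardSmooth h (s π)
  have hmem : j (ρ π) ∈ k ⁻¹ᵁ W₁ := by
    show k (j (ρ π)) ∈ W₁
    have e2 : h (s π) = k (j (ρ π)) := by
      rw [← Scheme.Hom.comp_apply, w]
      simp
    rw [← e2]
    exact eU hu
  obtain ⟨_, ⟨V₀, hV₀, rfl⟩, hv₀, hV₀le⟩ :=
    V.isBasis_affineOpens.exists_subset_of_mem_open hmem (k ⁻¹ᵁ W₁).2
  let T₀ : T.Opens := j ⁻¹ᵁ V₀
  have hT₀ : IsAffineOpen T₀ := (show IsAffineOpen V₀ from hV₀).preimage j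
  obtain ⟨_, ⟨P₁, hP₁, rfl⟩, hπ, hP₁le⟩ :=
    P.isBasis_affineOpens.exists_subset_of_mem_open (a := π) (u := ↑(s ⁻¹ᵁ U₁ ⊓ ρ ⁻¹ᵁ T₀)) ⟨hu, hv₀⟩
      (s ⁻¹ᵁ U₁ ⊓ ρ ⁻¹ᵁ T₀).2
  have eP : P₁ ≤ s ⁻¹ᵁ U₁ := fun x hx => (hP₁le hx).1
  have eρ : P₁ ≤ ρ ⁻¹ᵁ T₀ := fun x hx => (hP₁le hx).2
  have eV : V₀ ≤ k ⁻¹ᵁ W₁ := hV₀le
  algebraize [(j.app V₀).hom, (ρ.appLE T₀ P₁ eρ).hom, ((ρ.appLE T₀ P₁ eρ).hom).comp (j.app V₀).hom]
  have hsurj : Function.Surjective (algebraMap Γ(V, V₀) Γ(T, T₀)) := j.app_surjective _ hV₀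
  have : Algebra.Etale Γ(T, T₀) Γ(P, P₁) :=
    HasRingHomProperty.appLE @Etale ρ ‹_› ⟨T₀, hT₀⟩ ⟨P₁, hP₁⟩ eρ
  have hnil : ∀ x ∈ RingHom.ker (algebraMap Γ(V, V₀) Γ(T, T₀)), IsNilpotent x := by
    intro x hx
    refine (V.isNilpotent_iff_basicOpen_eq_bot_of_isCompact (U := V₀)
      (show IsAffineOpen V₀ from hV₀).isCompact x).2 ?_
    ext v
    simp only [TopologicalSpace.Opens.coe_bot, Set.mem_empty_iff_false, iff_false]
    intro hv
    obtain ⟨t, rfl⟩ := j.surjective v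
    have hv' : t ∈ j ⁻¹ᵁ V.basicOpen x := hv
    rw [Scheme.preimage_basicOpen, show (j.app V₀) x = 0 from hx, Scheme.basicOpen_zero] at hv'
    exact hv'
  have hg : ((s.appLE U₁ P₁ eP).hom).comp (h.appLE W₁ U₁ eU).hom =
      (algebraMap Γ(V, V₀) Γ(P, P₁)).comp (k.appLE W₁ V₀ eV).hom := by
    rw [RingHom.algebraMap_toAlgebra]
    rw [RingHom.comp_assoc]
    refine congrArg CommRingCat.Hom.hom (?_ : h.appLE W₁ U₁ eU ≫ s.appLE U₁ P₁ eP =
      (k.appLE W₁ V₀ eV ≫ j.app V₀) ≫ ρ.appLE T₀ P₁ eρ)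
    simp only [T₀, Scheme.Hom.app_eq_appLE, Scheme.Hom.appLE_comp_appLE]
    congr 1
    try simpa [Category.assoc] using w
  obtain ⟨D, _, _, ψ, g', hD, hψ, hk', hg₁, hg₂⟩ :=
    exists_etale_smooth_lift_nil hsurj hnil (k.appLE W₁ V₀ eV).hom (h.appLE W₁ U₁ eU).hom hstd
      (s.appLE U₁ P₁ eP).hom hg
  let e : Spec (CommRingCat.of D) ⟶ V :=
    Spec.map (CommRingCat.ofHom (algebraMap Γ(V, V₀) D)) ≫ IsAffineOpen.fromSpec hV₀
  refine ⟨Spec (CommRingCat.of D), Spec Γ(P, P₁), e, IsAffineOpen.fromSpec hP₁,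
    Spec.map (CommRingCat.ofHom ψ.toRingHom), Spec.map (CommRingCat.ofHom g') ≫ hU₁.fromSpec, ?_, ?_, ?_, ?_, ?_⟩
  · have : Etale (Spec.map (CommRingCat.ofHom (algebraMap Γ(V, V₀) D))) :=
      (HasRingHomProperty.Spec_iff (P := @Etale)).2 (RingHom.etale_algebraMap.2 hD)
    exact inferInstanceAs (Etale (_ ≫ _))
  · have sq₁ : IsPullback (Spec.map (j.app V₀)) hT₀.fromSpec (IsAffineOpen.fromSpec hV₀) j := by
      refine IsOpenImmersion.isPullback _ _ _ _ ?_ ?_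
      · rw [Scheme.Hom.app_eq_appLE]
        exact ((show IsAffineOpen V₀ from hV₀).SpecMap_appLE_fromSpec j hT₀ le_rfl).symm
      · rw [IsAffineOpen.opensRange_fromSpec, IsAffineOpen.opensRange_fromSpec]
    have sq₂ := (isPullback_Spec_map_of_ker (B := Γ(T, T₀)) hsurj ψ hψ hk').paste_horiz sq₁.flip
    rw [show IsAffineOpen.fromSpec hP₁ ≫ ρ = Spec.map (ρ.appLE T₀ P₁ eρ) ≫ hT₀.fromSpec from
      (hT₀.SpecMap_appLE_fromSpec ρ hP₁ eρ).symm]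
    exact sq₂
  · rw [Category.assoc, ← hW₁.SpecMap_appLE_fromSpec h hU₁ eU, ← Spec.map_comp_assoc]
    show _ = (_ ≫ _) ≫ k
    rw [Category.assoc, ← hW₁.SpecMap_appLE_fromSpec k (show IsAffineOpen V₀ from hV₀) eV, ← Spec.map_comp_assoc]
    congr 2
    exact CommRingCat.hom_ext hg₂
  · rw [← hU₁.SpecMap_appLE_fromSpec s hP₁ eP, ← Spec.map_comp_assoc]
    congr 2
    exact CommRingCat.hom_ext hg₁
  · obtain ⟨z, hz⟩ : π ∈ Set.range (IsAffineOpen.fromSpec hP₁) := by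
      rw [IsAffineOpen.range_fromSpec]; exact hπ
    refine ⟨Spec.map (CommRingCat.ofHom ψ.toRingHom) z, ?_⟩
    rw [← hz, ← Scheme.Hom.comp_apply, ← Scheme.Hom.comp_apply, ← Scheme.Hom.comp_apply]
    refine congrArg (fun F : Spec Γ(P, P₁) ⟶ V => F z) ?_

    have sq₁ : Spec.map (j.app V₀) ≫ IsAffineOpen.fromSpec hV₀ = hT₀.fromSpec ≫ j := by
      rw [Scheme.Hom.app_eq_appLE]
      exact (show IsAffineOpen V₀ from hV₀).SpecMap_appLE_fromSpec j hT₀ le_rfl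
    rw [show IsAffineOpen.fromSpec hP₁ ≫ ρ ≫ j = Spec.map (ρ.appLE T₀ P₁ eρ) ≫ Spec.map (j.app V₀) ≫
        IsAffineOpen.fromSpec hV₀ by rw [sq₁, ← Category.assoc, ← Category.assoc, hT₀.SpecMap_appLE_fromSpec ρ hP₁ eρ]]
    show _ ≫ _ ≫ _ = _
    rw [← Spec.map_comp_assoc, ← Spec.map_comp_assoc]
    congr 2
    refine CommRingCat.hom_ext (RingHom.ext fun a => ?_)
    exact ψ.commutes a

end Groth.L23
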