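import Groth.Agent.L23.InfLift
import Groth.Agent.L23.SmoothLift
import Groth.Agent.L23.Formally
import Groth.Agent.L20.Thickening

/-!
# Formally unramified and formally etale morphisms of sheaves by charts
-/

universe u

open CategoryTheory CategoryTheory.Limits AlgebraicGeometry AlgSp Opposite

set_option backward.isDefEq.respectTransparency.types false

namespace Groth.L23

variable {S : Scheme.{u}}

theorem surjective_specMap_quotient_of_nil {A : Type u} [CommRing A] (I : Ideal A) (hI : I ^ 2 = ⊥) :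
    Surjective (Spec.map (CommRingCat.ofHom (Ideal.Quotient.mk I))) :=
  ⟨Groth.L20.surjective_specMap_mk_of_sq_eq_bot I hI⟩

theorem isFirstOrder_specMap_quotient {A : Type u} [CommRing A] (I : Ideal A) (hI : I ^ 2 = ⊥) :
    MoreMor.IsFirstOrderThickening (Spec.map (CommRingCat.ofHom (Ideal.Quotient.mk I))) := by
  refine ⟨⟨IsClosedImmersion.spec_of_surjective _ Ideal.Quotient.mk_surjective,
    surjective_specMap_quotient_of_nil I hI⟩, ?_⟩
  set φ := CommRingCat.ofHom (Ideal.Quotient.mk I)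
  refine Scheme.IdealSheafData.ext_of_isAffine ?_
  rw [Scheme.IdealSheafData.ideal_bot, Pi.bot_apply, Scheme.IdealSheafData.ideal_mul, Pi.mul_apply,
    Scheme.Hom.ker_apply, eq_bot_iff, Ideal.mul_le]
  intro x hx y hy
  have key : ∀ z, z ∈ RingHom.ker ((Spec.map φ).appTop).hom → (Scheme.ΓSpecIso (.of A)).hom z ∈ I := by
    intro z (hz : (Spec.map φ).appTop z = 0)
    have := ConcreteCategory.congr_hom (Scheme.ΓSpecIso_naturality φ) z
    change (Scheme.ΓSpecIso _).hom ((Spec.map φ).appTop z) = φ ((Scheme.ΓSpecIso (.of A)).hom z) at this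
    rw [hz, map_zero] at this
    exact Ideal.Quotient.eq_zero_iff_mem.1 this.symm
  have h := Ideal.mul_mem_mul (key x hx) (key y hy)
  rw [← pow_two, hI, Ideal.mem_bot] at h
  refine (Ideal.mem_bot).2 ((ConcreteCategory.bijective_of_isIso (Scheme.ΓSpecIso (.of A)).hom).1 ?_)
  rw [map_mul, h, map_zero]

theorem isNilpotent_ker_of_firstOrder {X X' : Scheme.{u}} {i : X ⟶ X'}
    (h : MoreMor.IsFirstOrderThickening i) : IsNilpotent i.ker :=
  ⟨2, by rw [pow_two]; exact h.2⟩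

theorem isFirstOrder_of_isPullback {T T' W W' : Scheme.{u}} {j : T ⟶ T'}
    (hj : MoreMor.IsFirstOrderThickening j) {a : W ⟶ W'} {p : W ⟶ T} {q : W' ⟶ T'}
    (sq : IsPullback a p q j) : MoreMor.IsFirstOrderThickening a := by
  obtain ⟨hj, h₂⟩ := hj
  have := hj.1
  refine ⟨Groth.L20.Thick.isThickening_of_isPullback hj sq, ?_⟩
  rw [← pow_two, Groth.L17.Thick.ker_of_isPullback sq, ← Groth.L17.Thick.comap_pow, pow_two, h₂]
  exact Scheme.IdealSheafData.comap_bot _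

theorem _root_.AlgSp.InfSq.firstOrder {F G : Sp S} {f : F ⟶ G} (sq : InfSq f) :
    MoreMor.IsFirstOrderThickening sq.j.left :=
  isFirstOrder_specMap_quotient sq.I sq.sq_zero

variable {F G : Sp S}

theorem formallyEtale_of_repWith {a : F ⟶ G} (ha : RepWith @Etale a) : IsFormallyEtaleMor a :=
  fun sq => etale_thick_lift ha sq.j sq.firstOrder.1 sq.top sq.bot sq.comm

theorem formallyUnramified_of_chart {f : F ⟶ G} {U V : Over S} {a : (yon S).obj U ⟶ F}
    {b : (yon S).obj V ⟶ G} {h : U ⟶ V} (ha : RepWith @Etale a) (has : RepWith @Surjective a)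
    (hb : RepWith @Etale b) (wc : a ≫ f = (yon S).map h ≫ b) (hh : FormallyUnramified h.left) :
    IsFormallyUnramifiedMor f := fun sq l l' h₁ h₂ h₃ h₄ =>
  unique_lift_of_chart ha has hb wc sq.j sq.firstOrder.1 (isNilpotent_ker_of_firstOrder sq.firstOrder)
    l l' (h₁.trans h₃.symm) (h₂.trans h₄.symm)

/-- Formally smooth morphisms of schemes lift along first order thickenings of affine schemes. -/
theorem exists_lift_of_formallySmoothHom {X Y T T' : Scheme.{u}} {f : X ⟶ Y}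
    (hf : MoreMor.IsFormallySmoothHom f) [IsAffine T'] {j : T ⟶ T'}
    (hj : MoreMor.IsFirstOrderThickening j) (a : T ⟶ X) (b : T' ⟶ Y) (w : j ≫ b = a ≫ f) :
    ∃ l : T' ⟶ X, j ≫ l = a ∧ l ≫ f = b := by
  obtain ⟨⟨_, _⟩, h₂⟩ := hj
  obtain ⟨I, hI⟩ : ∃ I : Ideal Γ(T', ⊤), I = RingHom.ker j.appTop.hom := ⟨_, rfl⟩
  have hsq : I ^ 2 = ⊥ := by
    have h0 := congr(($(show j.ker * j.ker = ⊥ from h₂)).ideal ⟨⊤, isAffineOpen_top T'⟩)
    rw [Scheme.IdealSheafData.ideal_mul, Pi.mul_apply, Scheme.Hom.ker_apply,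
      Scheme.IdealSheafData.ideal_bot, Pi.bot_apply] at h0
    rw [hI, pow_two]
    exact h0
  have : IsAffine T := isAffine_of_isAffineHom j
  have hs : Function.Surjective j.appTop := (IsClosedImmersion.isAffine_surjective_of_isAffine j).2
  let e := RingHom.quotientKerEquivOfSurjective (f := j.appTop.hom) hs
  subst hI
  let ε : Spec Γ(T, ⊤) ≅ Spec (CommRingCat.of (Γ(T', ⊤) ⧸ RingHom.ker j.appTop.hom)) :=
    Scheme.Spec.mapIso e.toCommRingCatIso.op
  have he : ε.hom ≫ Spec.map (CommRingCat.ofHom (Ideal.Quotient.mk _)) = Spec.map j.appTop := by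
    show Spec.map _ ≫ _ = _
    rw [← Spec.map_comp]
    rfl
  have hn : j ≫ T'.isoSpec.hom = T.isoSpec.hom ≫ Spec.map j.appTop :=
    (Scheme.isoSpec_hom_naturality j).symm
  obtain ⟨l, hl₁, hl₂⟩ := hf Γ(T', ⊤) _ hsq (ε.inv ≫ T.isoSpec.inv ≫ a) (T'.isoSpec.inv ≫ b) (by
    simp only [Category.assoc, ← w]
    rw [← cancel_epi ε.hom, ε.hom_inv_id_assoc, reassoc_of% he, ← cancel_epi T.isoSpec.hom,
      Iso.hom_inv_id_assoc, ← reassoc_of% hn, Iso.hom_inv_id_assoc])
  refine ⟨T'.isoSpec.hom ≫ l, ?_, by rw [Category.assoc, hl₂, Iso.hom_inv_id_assoc]⟩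
  rw [← Category.assoc, hn, Category.assoc, ← he, Category.assoc, hl₁, Iso.hom_inv_id_assoc,
    Iso.hom_inv_id_assoc]

/-- An etale scheme over a thickened scheme lifts locally. -/
theorem exists_local_etale_lift {P T V : Scheme.{u}} (ρ : P ⟶ T) [Etale ρ] (j : T ⟶ V)
    (hj : MoreMor.IsThickening j) (π : P) :
    ∃ (V₁ P₁ : Scheme.{u}) (e : V₁ ⟶ V) (m : P₁ ⟶ P) (j₁ : P₁ ⟶ V₁), Etale e ∧ IsAffine V₁ ∧
      IsPullback (m ≫ ρ) j₁ j e ∧ j (ρ π) ∈ Set.range e := by
  obtain ⟨_, _⟩ := hj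
  obtain ⟨V₁, P₁, e, m, j₁, l, he, sq, -, -, hv⟩ :=
    exists_smooth_lift (ρ := ρ) (j := j) (s := ρ ≫ j) (h := 𝟙 V) (k := 𝟙 V) (by simp) π
  obtain ⟨v, hv⟩ := hv
  obtain ⟨_, ⟨O₀, hO, rfl⟩, hvO, -⟩ :=
    V₁.isBasis_affineOpens.exists_subset_of_mem_open (Set.mem_univ v) isOpen_univ
  let O : V₁.Opens := O₀
  let P₂ := pullback j₁ O.ι
  refine ⟨O.toScheme, P₂, O.ι ≫ e, pullback.fst j₁ O.ι ≫ m, pullback.snd j₁ O.ι, inferInstance, hO, ?_,
    ⟨⟨v, hvO⟩, by rw [Scheme.Hom.comp_apply]; exact hv⟩⟩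
  rw [Category.assoc]
  exact (IsPullback.of_hasPullback j₁ O.ι).paste_horiz sq

end Groth.L23
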