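import Groth.Agent.L23.BranchScheme
import Groth.Agent.L05.Henselization.AtPrime
import Groth.Prelude.Def_Hens2

/-!
# Branches and elementary étale neighbourhoods
-/

universe u

open IsLocalRing Groth.L05.Henselization

set_option linter.style.haveILetI false
set_option backward.isDefEq.respectTransparency.types false

namespace Groth.L23.Branch

/-- The number of branches only depends on the local ring up to isomorphism. -/
theorem numBranches_ringEquiv {A A' : Type u} [CommRing A] [IsLocalRing A] [CommRing A'] [IsLocalRing A']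
    (e : A ≃+* A') : Brnch.numBranches A = Brnch.numBranches A' := by
  obtain ⟨T, _, _, _, _, hT⟩ := exists_isHenselization A'
  haveI := flat_of_isHenselization A' T
  rw [← card_minimalPrimes_hens A' T]
  letI : Algebra A T := ((algebraMap A' T).comp e.toRingHom).toAlgebra
  haveI : IsLocalHom (algebraMap A T) := ⟨fun x hx => by
    change IsUnit (algebraMap A' T (e x)) at hx
    exact (isUnit_map_iff e x).1 (isUnit_of_map_unit (algebraMap A' T) _ hx)⟩
  haveI : Hensel.IsHenselization A T := by
    refine ⟨hT.henselian, fun U _ _ f _ => ?_⟩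
    haveI : IsLocalHom (f.comp e.symm.toRingHom) := ⟨fun a ha => by
      have := (isUnit_of_map_unit f (e.symm a) ha).map e
      rwa [e.apply_symm_apply] at this⟩
    obtain ⟨g, hg, hgu⟩ := hT.universal U (f.comp e.symm.toRingHom) inferInstance
    refine ⟨g, RingHom.ext fun a => ?_, fun g' hg' => hgu g' (RingHom.ext fun a => ?_)⟩
    · show g (algebraMap A' T (e a)) = f a
      rw [← RingHom.comp_apply, hg]
      simp
    · show g' (algebraMap A' T a) = f (e.symm a)
      rw [← DFunLike.congr_fun hg' (e.symm a)]
      show _ = g' (algebraMap A' T (e (e.symm a)))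
      rw [e.apply_symm_apply]
  haveI := flat_of_isHenselization A T
  exact (card_minimalPrimes_hens A T).symm

/-- A local ring flat over `E` and centred at `q` sees all minimal primes below `q`. -/
theorem encard_le_of_flat_comap {E C L : Type u} [CommRing E] [CommRing C] [IsLocalRing C] [CommRing L]
    (f : E →+* C) (hf : f.Flat) (q : Ideal E) [q.IsPrime] (hq : (maximalIdeal C).comap f = q)
    [Algebra E L] [IsLocalization.AtPrime L q] : (minimalPrimes L).encard ≤ (minimalPrimes C).encard := by
  letI := f.toAlgebra
  haveI : Module.Flat E C := hf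
  have hinj : Function.Injective (Ideal.comap (algebraMap E L)) :=
    (IsLocalization.orderEmbedding q.primeCompl L).injective
  rw [← hinj.injOn.encard_image]
  refine le_trans (Set.encard_le_encard ?_) (Set.encard_image_le (Ideal.comap (algebraMap E C)) (minimalPrimes C))
  rintro _ ⟨P', hP', rfl⟩
  haveI := hP'.isPrime
  have hdisj := ((IsLocalization.isPrime_iff_isPrime_disjoint q.primeCompl L P').1 inferInstance)
  set P := P'.comap (algebraMap E L) with hP
  have hPq : P ≤ q := fun x hx => by
    by_contra h
    exact Set.disjoint_left.1 hdisj.2 h hx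
  haveI : P.IsPrime := hdisj.1
  have hmin : ∀ Q : Ideal E, Q.IsPrime → Q ≤ P → P ≤ Q := by
    intro Q hQ hle
    haveI := hQ
    have hd : Disjoint (q.primeCompl : Set E) Q := Set.disjoint_left.2 fun x hx hxQ => hx (hPq (hle hxQ))
    have hQc := IsLocalization.comap_map_of_isPrime_disjoint q.primeCompl L hQ hd
    have h' : P' ≤ Q.map (algebraMap E L) := hP'.2
      ⟨IsLocalization.isPrime_of_isPrime_disjoint q.primeCompl L Q hQ hd, bot_le⟩
      ((Ideal.map_mono hle).trans Ideal.map_comap_le)
    exact (Ideal.comap_mono h').trans hQc.le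
  haveI : (maximalIdeal C).LiesOver q := ⟨hq.symm⟩
  obtain ⟨P₁, -, hP₁, hP₁'⟩ := Ideal.exists_ideal_le_liesOver_of_le (maximalIdeal C) (p := P) (q := q) hPq
  haveI := hP₁
  obtain ⟨P₂, hP₂, hle⟩ := Ideal.exists_minimalPrimes_le (I := (⊥ : Ideal C)) (J := P₁) bot_le
  haveI := hP₂.isPrime
  have hc : P₁.comap (algebraMap E C) = P := hP₁'.over.symm
  exact ⟨P₂, hP₂, le_antisymm ((Ideal.comap_mono hle).trans hc.le)
    (hmin _ inferInstance ((Ideal.comap_mono hle).trans hc.le))⟩

variable {R : Type u} [CommRing R] (p : Ideal R) [p.IsPrime]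

theorem numBranches_atPrime_eq :
    Brnch.numBranches (Localization.AtPrime p) = (minimalPrimes (Col R p.ResidueField)).encard := by
  obtain ⟨Rh, _, _, _, _, hRh⟩ := exists_isHenselization (Localization.AtPrime p)
  letI : Algebra R Rh :=
    ((algebraMap (Localization.AtPrime p) Rh).comp (algebraMap R (Localization.AtPrime p))).toAlgebra
  haveI : IsScalarTower R (Localization.AtPrime p) Rh := IsScalarTower.of_algebraMap_eq fun r => rfl
  obtain ⟨e⟩ := nonempty_algEquiv_atPrime p Rh
  haveI := flat_of_isHenselization (Localization.AtPrime p) Rh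
  rw [← card_minimalPrimes_hens (Localization.AtPrime p) Rh]
  exact SH.encard_minimalPrimes_ringEquiv e.toRingEquiv.symm

/-- Residually trivial étale neighbourhoods have at most as many local components as branches. -/
theorem encard_point_le {E L : Type u} [CommRing E] [Algebra R E] [Algebra.Etale R E]
    (φ : E →ₐ[R] p.ResidueField) (q : Ideal E) [q.IsPrime] (hq : RingHom.ker φ = q) [CommRing L]
    [Algebra E L] [IsLocalization.AtPrime L q] :
    (minimalPrimes L).encard ≤ Brnch.numBranches (Localization.AtPrime p) := by
  rw [numBranches_atPrime_eq p]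
  haveI := isLocalRing_col R p.ResidueField
  obtain ⟨X, e, he⟩ := Obj.exists_obj E φ
  let f : E →+* Col R p.ResidueField := (ι X).toRingHom.comp e.toRingEquiv.toRingHom
  refine encard_le_of_flat_comap f ?_ q ?_
  · refine RingHom.Flat.comp (RingHom.Flat.of_bijective e.bijective) ?_
    letI : Algebra X.R (Col R p.ResidueField) := (ι X).toRingHom.toAlgebra
    exact flat_ι X
  · have hmax : maximalIdeal (Col R p.ResidueField) = RingHom.ker (ε R p.ResidueField) :=
      haveI := RingHom.ker_isMaximal_of_surjective _ (ε_surjective_prime p)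
      (eq_maximalIdeal inferInstance).symm
    rw [hmax, ← hq]
    ext x
    show ε R p.ResidueField (ι X (e x)) = 0 ↔ φ x = 0
    rw [ε_ι, ← he]
    rfl

/-- Branches are attained on residually trivial étale neighbourhoods. -/
theorem exists_point_ge (m : ℕ) (h : (m : ℕ∞) ≤ Brnch.numBranches (Localization.AtPrime p)) :
    ∃ X : Obj R p.ResidueField, haveI : (RingHom.ker X.φ).IsPrime := RingHom.ker_isPrime _
      (m : ℕ∞) ≤ (minimalPrimes (Localization.AtPrime (RingHom.ker X.φ))).encard := by
  rw [numBranches_atPrime_eq p] at h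
  obtain ⟨s, hs, hcard⟩ := Set.exists_subset_encard_eq h
  have hfin : s.Finite := by
    rw [← Set.encard_ne_top_iff, hcard]
    exact ENat.natCast_ne_top m
  obtain ⟨X, G, hG, hGm⟩ := SH.exists_stage hfin.toFinset fun P hP => hs (hfin.mem_toFinset.1 hP)
  haveI : (RingHom.ker X.φ).IsPrime := RingHom.ker_isPrime _
  refine ⟨X, ?_⟩
  rw [← hcard, hfin.encard_eq_coe_toFinset_card, ← hG]
  exact SH.card_le_encard_minimalPrimes_localization (L := Localization.AtPrime (RingHom.ker X.φ)) (RingHom.ker X.φ) G hGm

end Groth.L23.Branch
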