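import Groth.Agent.L23.SchemeFlatAt
import Groth.Agent.L23.SpaceFibre
import Groth.Prelude.Def_AlgSpMor5

/-!
# The flat locus of a morphism of algebraic spaces over a base
-/

universe u

open CategoryTheory CategoryTheory.Limits AlgebraicGeometry AlgSp

set_option backward.isDefEq.respectTransparency.types false

namespace Groth.L23

variable {S : Scheme.{u}} {X Y Z : Sp S}

theorem flat_stalkMap_of_other_chart {f : X ⟶ Y} {U V U' V' : Over S} {a : (yon S).obj U ⟶ X}
    {b : (yon S).obj V ⟶ Y} {h : U ⟶ V} {a' : (yon S).obj U' ⟶ X} {b' : (yon S).obj V' ⟶ Y}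
    {h' : U' ⟶ V'} (ha : RepWith @Etale a) (hb : RepWith @Etale b) (ha' : RepWith @Etale a')
    (hb' : RepWith @Etale b') (w : a ≫ f = (yon S).map h ≫ b) (w' : a' ≫ f = (yon S).map h' ≫ b')
    {u : U.left} {u' : U'.left} (e : Points.ofPt a' u' = Points.ofPt a u)
    (hu : (h.left.stalkMap u).hom.Flat) : (h'.left.stalkMap u').hom.Flat := by
  obtain ⟨U₂, p', p, sqU⟩ := exists_isPullback_of_representable ha'.1 a
  obtain ⟨V₂, r', r, sqV⟩ := exists_isPullback_of_representable hb'.1 b
  have hp : Etale p.left := repWith_prop ha' sqU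
  have hr : Etale r.left := repWith_prop hb' sqV
  have hp' : Etale p'.left := repWith_prop ha sqU.flip
  have hr' : Etale r'.left := repWith_prop hb sqV.flip
  obtain ⟨l, hl', hl⟩ := exists_lift_yon sqV (p' ≫ h') (p ≫ h) (by
    rw [Functor.map_comp, Functor.map_comp, Category.assoc, Category.assoc, ← w, ← w', ← Category.assoc,
      ← Category.assoc, sqU.w])
  obtain ⟨v, hv, hv'⟩ := exists_point_of_isPullback sqU (x := Points.ofScheme U' u') (u := u) (by
    rw [← Points.ofPt_eq_map_ofScheme, e])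
  replace hv : p'.left v = u' := (Points.schemeEquiv U').injective (by
    show Points.ofScheme U' _ = Points.ofScheme U' _
    rw [← ofPt_map]; exact hv)
  subst hv hv'
  have h₁ : ((p.left ≫ h.left).stalkMap v).hom.Flat := (flat_stalkMap_etale_comp_iff _ _ v).2 hu
  rw [flat_stalkMap_congr (show p.left ≫ h.left = l.left ≫ r.left from congr($(hl.symm).left)) v,
    flat_stalkMap_comp_etale_iff] at h₁
  rw [← flat_stalkMap_etale_comp_iff p'.left h'.left v,
    flat_stalkMap_congr (show p'.left ≫ h'.left = l.left ≫ r'.left from congr($(hl'.symm).left)) v,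
    flat_stalkMap_comp_etale_iff]
  exact h₁

/-- One chart diagram suffices for flatness at a point. -/
theorem isFlatAtMor_ofPt_iff {f : X ⟶ Y} {U V : Over S} {a : (yon S).obj U ⟶ X}
    {b : (yon S).obj V ⟶ Y} {h : U ⟶ V} (ha : RepWith @Etale a) (hb : RepWith @Etale b)
    (w : a ≫ f = (yon S).map h ≫ b) (u : U.left) :
    IsFlatAtMor f (Points.ofPt a u) ↔ (h.left.stalkMap u).hom.Flat :=
  ⟨fun H => H a b h u ha hb w rfl, fun H _ _ a' b' h' u' ha' hb' w' e =>
    flat_stalkMap_of_other_chart ha hb ha' hb' w w' e H⟩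

theorem isOpen_flatLocus (hX : IsAlgSpace X) (hY : IsAlgSpace Y) (hZ : IsAlgSpace Z) {f : X ⟶ Y}
    {h : Y ⟶ Z} (hfp : LocP @LocallyOfFinitePresentation (f ≫ h)) (hft : LocP @LocallyOfFiniteType h) :
    IsOpen {x : Points X | IsFlatAtMor f x} := by
  obtain ⟨U₁, a₁, ha₁, has₁⟩ := hX.atlas
  obtain ⟨V₁, b₁, hb₁, hbs₁⟩ := hY.atlas
  obtain ⟨U, V, W, a, b, c, h₀, k, p, q, -, -, ha, has, hb, hbs, hc, w₁, w₂, -⟩ :=
    exists_charts₂ hZ f h ha₁ has₁ hb₁ hbs₁
  have : LocallyOfFinitePresentation (h₀.left ≫ k.left) :=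
    hfp a c (h₀ ≫ k) ha hc (by rw [reassoc_of% w₁, w₂, Functor.map_comp, Category.assoc])
  have : LocallyOfFiniteType k.left := hft b c k hb hc w₂
  have := Groth.L20.locallyOfFinitePresentation_of_comp h₀.left k.left
  have heq : {x : Points X | IsFlatAtMor f x} =
      Points.ofPt a '' {u : U.left | (h₀.left.stalkMap u).hom.Flat} := by
    ext x
    obtain ⟨u, rfl⟩ := surjective_ofPt has x
    exact ⟨fun hx => ⟨u, (isFlatAtMor_ofPt_iff ha hb w₁ u).1 hx, rfl⟩, fun ⟨v, hv, e⟩ =>
      show IsFlatAtMor f _ from e ▸ (isFlatAtMor_ofPt_iff ha hb w₁ v).2 hv⟩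
  rw [heq]
  exact isOpenMap_ofPt ha _ (Groth.L20.isOpen_flat_stalkMap h₀.left)

theorem isFlatAtMor_baseChange_iff (hX : IsAlgSpace X) (hY : IsAlgSpace Y) (hZ : IsAlgSpace Z)
    {f : X ⟶ Y} {h : Y ⟶ Z} (hfp : LocP @LocallyOfFinitePresentation (f ≫ h))
    (hfl : LocP @Flat (f ≫ h)) (hft : LocP @LocallyOfFiniteType h) {X' Y' Z' : Sp S}
    (hZ' : IsAlgSpace Z') {g : Z' ⟶ Z} {f' : X' ⟶ Y'} {h' : Y' ⟶ Z'} {pX : X' ⟶ X} {pY : Y' ⟶ Y}
    (sqY : IsPullback pY h' h g) (sqX : IsPullback pX f' f pY) (x' : Points X') :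
    IsFlatAtMor f' x' ↔ IsFlatAtMor f (Points.map pX x') := by
  obtain ⟨W, c, hc, hcs⟩ := hZ.atlas
  obtain ⟨V₁, b₁, hb₁, hbs₁⟩ := hY.atlas
  obtain ⟨U₁, a₁, ha₁, has₁⟩ := hX.atlas
  obtain ⟨V, q, k, -, hb, hbs, w₂⟩ := exists_chart_of_charts h hb₁ hbs₁ hc hcs
  obtain ⟨U, p, h₀, -, ha, has, w₁⟩ := exists_chart_of_charts f ha₁ has₁ hb hbs
  set b := (yon S).map q ≫ b₁
  set a := (yon S).map p ≫ a₁
  have wU : a ≫ (f ≫ h) = (yon S).map (h₀ ≫ k) ≫ c := by
    rw [reassoc_of% w₁, w₂, Functor.map_comp, Category.assoc]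
  have : LocallyOfFinitePresentation (h₀.left ≫ k.left) := hfp a c (h₀ ≫ k) ha hc wU
  have : Flat (h₀.left ≫ k.left) := hfl a c (h₀ ≫ k) ha hc wU
  have : LocallyOfFiniteType k.left := hft b c k hb hc w₂
  have sqQ := IsPullback.of_hasPullback c g
  obtain ⟨W', π, hπ, hπs⟩ :=
    (isAlgSpace_of_isPullback hZ.diag (IsAlgSpace.yon_obj W) hZ' sqQ).atlas
  let e := π ≫ pullback.snd c g
  have he : RepWith @Etale e := repWith_comp hπ (repWith_of_isPullback sqQ hc)
  obtain ⟨g₀, hg₀⟩ := (yon S).map_surjective (π ≫ pullback.fst c g)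
  have heg : e ≫ g = (yon S).map g₀ ≫ c := by
    rw [hg₀, Category.assoc, Category.assoc, sqQ.w]
  let V' := pullback k g₀
  let pV : V' ⟶ V := pullback.fst k g₀
  let k' : V' ⟶ W' := pullback.snd k g₀
  let U' := pullback h₀ pV
  let pU : U' ⟶ U := pullback.fst h₀ pV
  let h₀' : U' ⟶ V' := pullback.snd h₀ pV
  have sV : IsPullback pV k' k g₀ := IsPullback.of_hasPullback _ _
  have sU : IsPullback pU h₀' h₀ pV := IsPullback.of_hasPullback _ _
  have sqX' : IsPullback pX (f' ≫ h') (f ≫ h) g := sqX.paste_vert sqY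
  have sQY : IsPullback (pullback.fst h' e ≫ pY) (pullback.snd h' e) h ((yon S).map g₀ ≫ c) :=
    heg ▸ (IsPullback.of_hasPullback h' e).paste_horiz sqY
  have sQX : IsPullback (pullback.fst (f' ≫ h') e ≫ pX) (pullback.snd (f' ≫ h') e) (f ≫ h)
      ((yon S).map g₀ ≫ c) :=
    heg ▸ (IsPullback.of_hasPullback (f' ≫ h') e).paste_horiz sqX'
  let lY := sQY.lift ((yon S).map pV ≫ b) ((yon S).map k')
    (by rw [Category.assoc, w₂, ← Functor.map_comp_assoc, sV.w, Functor.map_comp, Category.assoc])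
  let lX := sQX.lift ((yon S).map pU ≫ a) ((yon S).map (h₀' ≫ k'))
    (by rw [Category.assoc, wU, ← Functor.map_comp_assoc, (sU.paste_vert sV).w, Functor.map_comp,
      Category.assoc])
  let b' := lY ≫ pullback.fst h' e
  let a' := lX ≫ pullback.fst (f' ≫ h') e
  have hb' : RepWith @Etale b' := repWith_comp (repWith_etale_lift hb hc w₂ sV sQY)
    (repWith_of_isPullback (IsPullback.of_hasPullback h' e).flip he)
  have ha' : RepWith @Etale a' := repWith_comp (repWith_etale_lift ha hc wU (sU.paste_vert sV) sQX)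
    (repWith_of_isPullback (IsPullback.of_hasPullback (f' ≫ h') e).flip he)
  have eb₁ : b' ≫ pY = (yon S).map pV ≫ b := by
    simp only [b', Category.assoc]; exact sQY.lift_fst _ _ _
  have eb₂ : b' ≫ h' = (yon S).map k' ≫ e := by
    simp only [b', Category.assoc, pullback.condition]
    rw [← Category.assoc, show lY ≫ pullback.snd h' e = _ from sQY.lift_snd _ _ _]
  have ea₁ : a' ≫ pX = (yon S).map pU ≫ a := by
    simp only [a', Category.assoc]; exact sQX.lift_fst _ _ _
  have ea₂ : a' ≫ f' ≫ h' = (yon S).map (h₀' ≫ k') ≫ e := by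
    simp only [a', Category.assoc, pullback.condition]
    rw [← Category.assoc, show lX ≫ pullback.snd (f' ≫ h') e = _ from sQX.lift_snd _ _ _]
  clear_value a' b'
  have w₁' : a' ≫ f' = (yon S).map h₀' ≫ b' := by
    apply sqY.hom_ext
    · rw [Category.assoc, Category.assoc, ← sqX.w, eb₁, reassoc_of% ea₁, w₁, ← Category.assoc ((yon S).map pU), ← Functor.map_comp, sU.w, Functor.map_comp,
        Category.assoc]
    · rw [Category.assoc, Category.assoc, ea₂, eb₂, Functor.map_comp, Category.assoc]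
  obtain ⟨u', hu'⟩ : ∃ u' : U'.left, Points.ofPt a' u' = x' := by
    obtain ⟨u, hu⟩ := surjective_ofPt has (Points.map pX x')
    have sR := IsPullback.of_hasPullback a pX
    obtain ⟨r, -, hr⟩ := exists_of_isPullback sR (Points.ofScheme U u) x'
      (by rw [← Points.ofPt_eq_map_ofScheme, hu])
    let m : pullback a pX ⟶ pullback c g :=
      sqQ.lift (pullback.fst a pX ≫ (yon S).map (h₀ ≫ k)) (pullback.snd a pX ≫ f' ≫ h') (by
        rw [Category.assoc, ← wU, pullback.condition_assoc, Category.assoc, Category.assoc, sqX'.w,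
          Category.assoc])
    obtain ⟨w', hw'⟩ := surjective_ofPt hπs (Points.map m r)
    have sE := IsPullback.of_hasPullback m π
    obtain ⟨s, hs, -⟩ := exists_of_isPullback sE r (Points.ofScheme W' w')
      (by rw [← Points.ofPt_eq_map_ofScheme, hw'])
    have sY' := (sU.paste_vert sV).map (yon S)
    let n : pullback m π ⟶ (yon S).obj U' := sY'.lift
      (pullback.fst m π ≫ pullback.fst a pX) (pullback.snd m π) (by
        rw [hg₀, ← pullback.condition_assoc, sqQ.lift_fst, Category.assoc])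
    have hn : n ≫ a' = pullback.fst m π ≫ pullback.snd a pX := by
      apply sqX'.hom_ext
      · rw [Category.assoc, ea₁, ← Category.assoc n, sY'.lift_fst, Category.assoc, Category.assoc,
          pullback.condition]
      · rw [Category.assoc, ea₂, ← Category.assoc n, sY'.lift_snd, ← pullback.condition_assoc,
          sqQ.lift_snd, Category.assoc]
    obtain ⟨u', hu'⟩ := (Points.schemeEquiv U').surjective (Points.map n s)
    change Points.ofScheme U' u' = _ at hu'
    refine ⟨u', ?_⟩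
    rw [Points.ofPt_eq_map_ofScheme, hu', ← Points.map_comp, hn, Points.map_comp, hs, hr]
  subst hu'
  rw [Points.map_ofPt, ea₁, ofPt_comp, isFlatAtMor_ofPt_iff ha' hb' w₁' u',
    isFlatAtMor_ofPt_iff ha hb w₁]
  exact flat_stalkMap_baseChange_iff (f := h₀.left) (g := k.left) (sU.map (Over.forget S))
    (sV.map (Over.forget S)) u'

end Groth.L23
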