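import Groth.Agent.L23.DimFunAlg
import Groth.Agent.L06.AffineRTrdeg
import Mathlib.AlgebraicGeometry.Morphisms.Etale

/-!
# Induced dimension functions on schemes
-/

universe u

open CategoryTheory AlgebraicGeometry TopologicalSpace Topology

set_option linter.style.haveILetI false
set_option backward.isDefEq.respectTransparency.types false

namespace Groth.L23.DimFun

open Groth.L22.Cyc (rtrdeg)

variable {X S : Scheme.{u}}

theorem rtrdeg_etale {A B : Scheme.{u}} (e : A ⟶ B) [Etale e] (x : A) : rtrdeg e x = 0 := by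
  unfold Groth.L22.Cyc.rtrdeg
  letI := (e.residueFieldMap x).hom.toAlgebra
  haveI : Algebra.IsSeparable (_ : Type u) (_ : Type u) :=
    show Algebra.IsSeparable (B.residueField (e.base x)) (A.residueField x) from inferInstance
  exact trdeg_eq_zero

theorem isUniversallyCatenary_of_ringEquiv {A B : Type u} [CommRing A] [CommRing B] (e : A ≃+* B)
    (hA : CAlg.IsUniversallyCatenary A) : CAlg.IsUniversallyCatenary B := by
  letI := e.toRingHom.toAlgebra
  haveI : Algebra.FiniteType A B := RingHom.FiniteType.of_surjective _ e.surjective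
  exact Groth.L18.Cat.isUniversallyCatenary_of_essFiniteType hA B

/-- Sections over affine opens are universally catenary if the local rings are. -/
theorem isUniversallyCatenary_section [IsLocallyNoetherian S]
    (h : ∀ s : S, CAlg.IsUniversallyCatenary (S.presheaf.stalk s)) {V : S.Opens} (hV : IsAffineOpen V) :
    CAlg.IsUniversallyCatenary Γ(S, V) := by
  haveI : IsNoetherianRing Γ(S, V) := IsLocallyNoetherian.component_noetherian ⟨V, hV⟩
  refine Groth.L18.Cat.isUniversallyCatenary_of_localization_maximal _ fun m hm => ?_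
  let P : Spec Γ(S, V) := (⟨m, hm.isPrime⟩ : PrimeSpectrum Γ(S, V))
  exact isUniversallyCatenary_of_ringEquiv
    ((asIso (hV.fromSpec.stalkMap P) ≪≫ Spec.stalkIso Γ(S, V) P).commRingCatIsoToRingEquiv)
    (h (hV.fromSpec P))

/-- The induced function of a dimension function is a dimension function. -/
theorem isDimFun_of_deltaCompat (f : X ⟶ S) [LocallyOfFiniteType f] [IsLocallyNoetherian S]
    (huc : ∀ s : S, CAlg.IsUniversallyCatenary (S.presheaf.stalk s)) {δ : S → ℤ} (hδ : Cyc.IsDimFun S δ)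
    {δX : X → ℤ} (h : Cyc.DeltaCompat f δX δ) : Cyc.IsDimFun X δX := by
  intro x y hxy hne
  obtain ⟨_, ⟨V, hV, rfl⟩, hyV, -⟩ :=
    S.isBasis_affineOpens.exists_subset_of_mem_open (Set.mem_univ (f y)) isOpen_univ
  change S.Opens at V
  obtain ⟨_, ⟨B, hB, rfl⟩, hyB, e⟩ :=
    X.isBasis_affineOpens.exists_subset_of_mem_open (show y ∈ f ⁻¹ᵁ V from hyV) (f ⁻¹ᵁ V).isOpen
  change X.Opens at B
  let φ := f.appLE V B e
  letI : Algebra Γ(S, V) Γ(X, B) := φ.hom.toAlgebra
  haveI : Algebra.FiniteType Γ(S, V) Γ(X, B) := f.finiteType_appLE hV hB e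
  let g : Spec Γ(X, B) ⟶ Spec Γ(S, V) := Groth.L03.FibreLocalDim.f Γ(S, V) Γ(X, B)
  have sq : g ≫ hV.fromSpec = hB.fromSpec ≫ f := hV.SpecMap_appLE_fromSpec f hB e
  let D : PrimeSpectrum Γ(S, V) → ℤ := fun p => δ (hV.fromSpec p)
  have hD : IsDim D := by
    intro p q hpq
    have hs : hV.fromSpec p ⤳ hV.fromSpec q :=
      ((PrimeSpectrum.le_iff_specializes p q).1 hpq.le).map hV.fromSpec.continuous
    obtain ⟨h1, h2⟩ := hδ _ _ hs fun he => hpq.ne (hV.fromSpec.isOpenEmbedding.injective he)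
    refine ⟨h1, fun himm => h2 fun z hz1 hz2 => ?_⟩
    obtain ⟨r, rfl⟩ : z ∈ Set.range hV.fromSpec :=
      hz2.mem_open hV.fromSpec.isOpenEmbedding.isOpen_range ⟨q, rfl⟩
    rcases himm r ((PrimeSpectrum.le_iff_specializes _ _).2 (hV.fromSpec.isOpenEmbedding.isInducing.specializes_iff.1 hz1))
      ((PrimeSpectrum.le_iff_specializes _ _).2 (hV.fromSpec.isOpenEmbedding.isInducing.specializes_iff.1 hz2)) with hr | hr
    · exact Or.inl (congrArg hV.fromSpec hr)
    · exact Or.inr (congrArg hV.fromSpec hr)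
  have hrB : Set.range hB.fromSpec = (B : Set X) := hB.range_fromSpec
  have hxB : x ∈ B := hxy.mem_open B.isOpen hyB
  obtain ⟨Q, rfl⟩ : x ∈ Set.range hB.fromSpec := hrB.symm ▸ hxB
  obtain ⟨Q', rfl⟩ : y ∈ Set.range hB.fromSpec := hrB.symm ▸ hyB
  have hfQ : ∀ q : PrimeSpectrum Γ(X, B),
      f (hB.fromSpec q) = hV.fromSpec (PrimeSpectrum.comap (algebraMap Γ(S, V) Γ(X, B)) q) := fun q => by
    change (hB.fromSpec ≫ f) q = _
    rw [← sq]; rfl
  have hlt : @LT.lt (PrimeSpectrum Γ(X, B)) _ Q Q' :=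
    lt_of_le_of_ne ((PrimeSpectrum.le_iff_specializes _ _).2 (hB.fromSpec.isOpenEmbedding.isInducing.specializes_iff.1 hxy))
      fun he => hne (congrArg hB.fromSpec he)
  have htr : ∀ (q : PrimeSpectrum Γ(X, B)) (t : ℕ), rtrdeg f (hB.fromSpec q) = t →
      Algebra.trdeg (Γ(S, V) ⧸ q.asIdeal.under Γ(S, V)) (Γ(X, B) ⧸ q.asIdeal) = t := fun q t ht => by
    have h1 := Groth.L22.Cyc.rtrdeg_congr _ sq q
    rw [Groth.L22.Cyc.rtrdeg_comp, Groth.L22.Cyc.rtrdeg_comp, rtrdeg_etale hV.fromSpec,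
      rtrdeg_etale hB.fromSpec, zero_add, add_zero, ht, Groth.L06.AffineRTrdeg.rtrdeg_spec] at h1
    rw [trdeg_residueField]
    exact h1
  obtain ⟨t, ht, hδQ⟩ := h (hB.fromSpec Q)
  obtain ⟨t', ht', hδQ'⟩ := h (hB.fromSpec Q')
  obtain ⟨n, hn, h1, himm⟩ := step (isUniversallyCatenary_section huc hV) hD hlt (htr Q t ht) (htr Q' t' ht')
  have key : δX (hB.fromSpec Q) = δX (hB.fromSpec Q') + n := by
    rw [hδQ, hδQ', hfQ, hfQ]
    simp only [D] at hn
    omega
  refine ⟨by omega, fun hi => ?_⟩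
  have : n = 1 := himm fun r hr1 hr2 => by
    rcases hi (hB.fromSpec r) (((PrimeSpectrum.le_iff_specializes _ _).1 hr1).map hB.fromSpec.continuous)
      (((PrimeSpectrum.le_iff_specializes _ _).1 hr2).map hB.fromSpec.continuous) with hr | hr
    · exact Or.inl (hB.fromSpec.isOpenEmbedding.injective hr)
    · exact Or.inr (hB.fromSpec.isOpenEmbedding.injective hr)
  omega

/-- Relative transcendence degrees are finite. -/
theorem exists_rtrdeg_eq (f : X ⟶ S) [LocallyOfFiniteType f] (x : X) : ∃ n : ℕ, rtrdeg f x = n := by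
  obtain ⟨y, z, rfl⟩ : ∃ (y : S) (z : f.fiber y), f.fiberι y z = x :=
    ⟨f x, f.asFiber x, f.fiberι_asFiber x⟩
  letI : (f.fiber y).Over (Spec (CommRingCat.of (S.residueField y))) :=
    ⟨f.fiberToSpecResidueField y⟩
  haveI : LocallyOfFiniteType ((f.fiber y) ↘ Spec (CommRingCat.of (S.residueField y))) :=
    MorphismProperty.pullback_snd f (S.fromSpecResidueField y) inferInstance
  obtain ⟨n, -, htr⟩ := Groth.L22.SchemeDim.exists_dim_closure_eq_trdeg (S.residueField y) (f.fiber y) z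
  exact ⟨n, (Groth.L22.Cyc.rtrdeg_fiberι f y z).trans htr⟩

end Groth.L23.DimFun
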