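import Groth.Agent.L23.CritTensor
import Groth.Agent.L23.Epi
import Groth.Agent.L23.LocalDimEtale
import Mathlib.AlgebraicGeometry.Artinian
import Mathlib.AlgebraicGeometry.Morphisms.QuasiFinite
import Mathlib.AlgebraicGeometry.EffectiveEpi
import Mathlib.AlgebraicGeometry.QuasiAffine
import Mathlib.AlgebraicGeometry.ZariskisMainTheorem

/-!
# Spaces without first cohomology are affine, given generation by global sections
-/

universe u

open CategoryTheory CategoryTheory.Limits AlgebraicGeometry Opposite AlgSp TensorProduct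

set_option autoImplicit false
set_option linter.style.haveILetI false
set_option backward.isDefEq.respectTransparency false
set_option backward.isDefEq.respectTransparency.types false

noncomputable section

namespace Groth.L23.GlobSec

open Groth.L09.ModEt

/-- A quasi-compact separated quasi-finite map from a scheme with the same functions is an open immersion. -/
theorem isOpenImmersion_of_functions {R : Scheme.{u}} {B : CommRingCat.{u}} [CompactSpace R] (g : R ⟶ Spec B)
    [IsSeparated g] [LocallyQuasiFinite g] [LocallyOfFiniteType g] (hg : IsIso g.appTop) : IsOpenImmersion g := by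
  haveI : QuasiCompact g := quasiCompact_of_compactSpace g
  haveI : IsOpenImmersion g.toNormalization := inferInstance
  haveI : IsAffine g.normalization := isAffine_of_isAffineHom g.fromNormalization
  haveI : R.IsQuasiAffine := Scheme.IsQuasiAffine.of_isImmersion g.toNormalization
  have hn := Scheme.toSpecΓ_naturality g
  haveI : IsIso g.appTop := hg
  have hi : IsOpenImmersion (g ≫ (Spec B).toSpecΓ) := by
    rw [hn]
    infer_instance
  exact (MorphismProperty.cancel_right_of_respectsIso @IsOpenImmersion g _).1 hi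

variable {S : Scheme.{u}} {X : Sp S}

/-- A morphism to an affine scheme, as a map of rings. -/
def toSpec (R : Over S) {B : CommRingCat.{u}} (φ : B ⟶ Γ(R.left, ⊤)) : R.left ⟶ Spec B :=
  R.left.toSpecΓ ≫ Spec.map φ

theorem toSpec_comp (R : Over S) {B B' : CommRingCat.{u}} (φ : B ⟶ Γ(R.left, ⊤)) (ψ : B' ⟶ B) :
    toSpec R φ ≫ Spec.map ψ = toSpec R (ψ ≫ φ) := by
  rw [toSpec, toSpec, Category.assoc, Spec.map_comp]

theorem toSpec_of_hom {R V : Over S} (k : R ⟶ V) :
    toSpec R k.left.appTop = k.left ≫ V.left.toSpecΓ := (Scheme.toSpecΓ_naturality k.left).symm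

theorem appTop_toSpec (R : Over S) {B : CommRingCat.{u}} (φ : B ⟶ Γ(R.left, ⊤)) :
    (toSpec R φ).appTop = (Scheme.ΓSpecIso B).hom ≫ φ := by
  rw [toSpec, Scheme.Hom.comp_appTop, Scheme.toSpecΓ_appTop, Scheme.ΓSpecIso_naturality]

variable [QuasiSeparatedSpace S]

set_option synthInstance.maxHeartbeats 100000 in
set_option maxHeartbeats 3200000 in
/-- A space without first cohomology, on which quasi-coherent modules are generated, is affine. -/
theorem exists_iso_yon_affine (hX : IsAlgSpace X) (hqs : IsQuasiSeparatedSp X) (a : Atlas X)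
    (h1 : Lifting a) (hgen : Generates a) :
    ∃ T : Over S, IsAffine T.left ∧ Nonempty ((yon S).obj T ≅ X) := by
  -- notation
  let U := a.U.obj.left
  haveI : IsAffine U.left := a.aff
  let p := a.U.obj.hom
  let v₀ : U ⟶ a.U.obj.left := 𝟙 _
  letI := algD a v₀
  let B : CommRingCat.{u} := CommRingCat.of (Γ₀ a.U ⊗[A₀ a] Γ(U.left, ⊤))
  let Rv := (Pb a (qv a v₀) (rep_qv a hX v₀)).obj.left
  let p₁ : Rv ⟶ U := pU a (qv a v₀) (rep_qv a hX v₀)
  let p₂ : Rv ⟶ U := pD a (qv a v₀) (rep_qv a hX v₀)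
  have sqR : IsPullback ((yon S).map p₂) ((yon S).map p₁) p p := by
    have h := sq_bc a (qv a v₀) (rep_qv a hX v₀)
    exact h.of_iso (Iso.refl _) (Iso.refl _) (Iso.refl _) (Iso.refl _) ((Category.comp_id _).trans (Category.id_comp _).symm)
      ((Category.comp_id _).trans (Category.id_comp _).symm)
      (by rw [qv, (yon S).map_id]; simp [p]) ((Category.comp_id _).trans (Category.id_comp _).symm)
  haveI : CompactSpace Rv.left := compactSpace_bc (D := U) (U := a.U.obj.left) hqs sqR
  haveI hep₂ : Etale p₂.left := etale_pD a (qv a v₀) (rep_qv a hX v₀)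
  let Φ : B ⟶ Γ(Rv.left, ⊤) := CommRingCat.ofHom (tensorMap a hX v₀)
  haveI hΦ : IsIso Φ := (ConcreteCategory.isIso_iff_bijective Φ).2 (bijective_tensorMap a hX hqs v₀ h1 hgen)
  let inl : Γ(U.left, ⊤) ⟶ B := CommRingCat.ofHom (Algebra.TensorProduct.includeLeftRingHom :
    Γ₀ a.U →+* Γ₀ a.U ⊗[A₀ a] Γ(U.left, ⊤))
  let inr : Γ(U.left, ⊤) ⟶ B := CommRingCat.ofHom
    (Algebra.TensorProduct.includeRight : Γ(U.left, ⊤) →ₐ[A₀ a] Γ₀ a.U ⊗[A₀ a] Γ(U.left, ⊤)).toRingHom
  have hinl : inl ≫ Φ = p₁.left.appTop := CommRingCat.hom_ext (RingHom.ext fun c =>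
    (tensorMap_tmul a hX v₀ c 1).trans (by rw [map_one, mul_one]))
  have hinr : inr ≫ Φ = p₂.left.appTop := CommRingCat.hom_ext (RingHom.ext fun c =>
    (tensorMap_tmul a hX v₀ 1 c).trans (by rw [map_one, one_mul]))
  let g : Rv.left ⟶ Spec B := toSpec Rv Φ
  have hg₁ : g ≫ Spec.map inl = p₁.left ≫ U.left.toSpecΓ := by rw [toSpec_comp, hinl, toSpec_of_hom]
  have hg₂ : g ≫ Spec.map inr = p₂.left ≫ U.left.toSpecΓ := by rw [toSpec_comp, hinr, toSpec_of_hom]
  -- `g` is an isomorphism
  haveI : Mono g := by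
    refine ⟨fun {Z} m m' h => ?_⟩
    have e₁ : m ≫ p₁.left = m' ≫ p₁.left := by
      rw [← cancel_mono U.left.toSpecΓ, Category.assoc, Category.assoc, ← hg₁, reassoc_of% h]
    have e₂ : m ≫ p₂.left = m' ≫ p₂.left := by
      rw [← cancel_mono U.left.toSpecΓ, Category.assoc, Category.assoc, ← hg₂, reassoc_of% h]
    have hs : m ≫ Rv.hom = m' ≫ Rv.hom := by rw [← Over.w p₁, reassoc_of% e₁]
    let Zo : Over S := Over.mk (m ≫ Rv.hom)
    let mo : Zo ⟶ Rv := Over.homMk m rfl
    let mo' : Zo ⟶ Rv := Over.homMk m' hs.symm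
    have : mo = mo' := (yon S).map_injective (sqR.hom_ext
      (by rw [← Functor.map_comp, ← Functor.map_comp]; exact congrArg _ (Over.OverMorphism.ext e₂))
      (by rw [← Functor.map_comp, ← Functor.map_comp]; exact congrArg _ (Over.OverMorphism.ext e₁)))
    exact congrArg CommaMorphism.left this
  haveI : LocallyOfFiniteType (g ≫ Spec.map inr) := by
    rw [hg₂]; haveI : LocallyOfFiniteType p₂.left := inferInstance; infer_instance
  haveI : LocallyOfFiniteType g := locallyOfFiniteType_of_comp g (Spec.map inr)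
  haveI : LocallyQuasiFinite (g ≫ Spec.map inr) := by
    rw [hg₂]
    haveI := lqf_of_etale p₂.left
    infer_instance
  haveI : LocallyQuasiFinite g := LocallyQuasiFinite.of_comp g (Spec.map inr)
  haveI hgo : IsOpenImmersion g := isOpenImmersion_of_functions g (by rw [appTop_toSpec]; infer_instance)
  haveI hgs : Surjective g := by
    refine ⟨fun w => ?_⟩
    let K : CommRingCat.{u} := CommRingCat.of w.asIdeal.ResidueField
    let evw : B ⟶ K := CommRingCat.ofHom (algebraMap B w.asIdeal.ResidueField)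
    let u₂ : Spec K ⟶ U.left := Spec.map (inr ≫ evw) ≫ U.left.isoSpec.inv
    let D : Over S := Over.mk (u₂ ≫ U.hom)
    haveI : IsAffine D.left := inferInstanceAs (IsAffine (Spec K))
    let v : D ⟶ a.U.obj.left := Over.homMk u₂ rfl
    letI := algD a v
    let Pk := (Pb a (qv a v) (rep_qv a hX v)).obj.left
    let k₁ : Pk ⟶ U := pU a (qv a v) (rep_qv a hX v)
    let k₂ : Pk ⟶ D := pD a (qv a v) (rep_qv a hX v)
    haveI : CompactSpace Pk.left := compactSpace_bc (D := D) (U := a.U.obj.left) hqs (sq_bc a (qv a v) (rep_qv a hX v))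
    haveI hek : Etale k₂.left := etale_pD a (qv a v) (rep_qv a hX v)
    haveI hPk : IsAffine Pk.left := by
      let f : Pk.left ⟶ Spec K := k₂.left
      haveI : Etale f := hek
      haveI := lqf_of_etale f
      haveI : QuasiCompact f := quasiCompact_of_compactSpace f
      haveI : IsArtinianRing K := inferInstanceAs (IsArtinianRing w.asIdeal.ResidueField)
      haveI : IsLocallyArtinian (Spec K) := Scheme.isLocallyArtinianScheme_Spec.mpr inferInstance
      haveI : IsFinite f := IsFinite.of_locallyQuasiFinite f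
      exact isAffine_of_isAffineHom f
    -- the retraction
    let β : Γ(D.left, ⊤) ⟶ K := (Scheme.ΓSpecIso K).hom
    have hv : v.left.appTop ≫ β = inr ≫ evw := by
      show (Spec.map (inr ≫ evw) ≫ U.left.isoSpec.inv).appTop ≫ (Scheme.ΓSpecIso K).hom = _
      rw [Scheme.Hom.comp_appTop, Category.assoc, Scheme.ΓSpecIso_naturality, ← Category.assoc,
        show U.left.isoSpec.inv.appTop ≫ (Scheme.ΓSpecIso Γ(U.left, ⊤)).hom = 𝟙 _ by
          simp [Scheme.isoSpec], Category.id_comp]
    let evA : Γ₀ a.U ⊗[A₀ a] Γ(U.left, ⊤) →ₐ[A₀ a] w.asIdeal.ResidueField :=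
      IsScalarTower.toAlgHom (A₀ a) B w.asIdeal.ResidueField
    let lA : Γ₀ a.U →ₐ[A₀ a] w.asIdeal.ResidueField := evA.comp Algebra.TensorProduct.includeLeft
    let rA : Γ(D.left, ⊤) →ₐ[A₀ a] w.asIdeal.ResidueField :=
      { β.hom with
        commutes' := fun r => by
          show (v.left.appTop ≫ β) r.1 = _
          rw [hv]
          exact (evA.comp Algebra.TensorProduct.includeRight).commutes r }
    let Ψ : CommRingCat.of (Γ₀ a.U ⊗[A₀ a] Γ(D.left, ⊤)) ⟶ Γ(Pk.left, ⊤) := CommRingCat.ofHom (tensorMap a hX v)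
    haveI : IsIso Ψ := (ConcreteCategory.isIso_iff_bijective Ψ).2 (bijective_tensorMap a hX hqs v h1 hgen)
    let ψ : Γ(Pk.left, ⊤) ⟶ K :=
      inv Ψ ≫ CommRingCat.ofHom (Algebra.TensorProduct.lift lA rA fun _ _ => Commute.all _ _).toRingHom
    have hψ : ∀ (c : Γ₀ a.U) (d : Γ(D.left, ⊤)), ψ (k₁.left.appTop c * k₂.left.appTop d) = lA c * rA d := by
      intro c d
      rw [show k₁.left.appTop c * k₂.left.appTop d = Ψ (c ⊗ₜ d) from (tensorMap_tmul a hX v c d).symm]
      have h := ConcreteCategory.congr_hom (IsIso.hom_inv_id_assoc Ψ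
        (CommRingCat.ofHom (Algebra.TensorProduct.lift lA rA fun _ _ => Commute.all _ _).toRingHom)) (c ⊗ₜ[A₀ a] d)
      rw [CommRingCat.comp_apply] at h
      exact h.trans (Algebra.TensorProduct.lift_tmul lA rA (fun _ _ => Commute.all _ _) c d)
    let s : Spec K ⟶ Pk.left := Spec.map ψ ≫ Pk.left.isoSpec.inv
    -- the lift to `Rv`
    have hw : (yon S).map (k₂ ≫ v) ≫ p = (yon S).map k₁ ≫ p := by
      rw [Functor.map_comp, Category.assoc]
      exact (sq_bc a (qv a v) (rep_qv a hX v)).w
    obtain ⟨t, ht⟩ := (yon S).map_surjective (sqR.lift _ _ hw)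
    have ht₂ : t ≫ p₂ = k₂ ≫ v := (yon S).map_injective (by rw [Functor.map_comp, ht, sqR.lift_fst])
    have ht₁ : t ≫ p₁ = k₁ := (yon S).map_injective (by rw [Functor.map_comp, ht, sqR.lift_snd])
    let pt : Spec K := Classical.arbitrary _
    refine ⟨(s ≫ t.left) pt, ?_⟩
    have hcomp : s ≫ t.left ≫ g = Spec.map evw := by
      apply ext_of_isAffine
      rw [Scheme.Hom.comp_appTop, Scheme.Hom.comp_appTop, appTop_toSpec]
      have hs : s.appTop = ψ ≫ (Scheme.ΓSpecIso K).inv := by
        rw [Scheme.Hom.comp_appTop,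
          show Pk.left.isoSpec.inv.appTop = (Scheme.ΓSpecIso Γ(Pk.left, ⊤)).inv by
            rw [← cancel_mono (Scheme.ΓSpecIso Γ(Pk.left, ⊤)).hom, Iso.inv_hom_id]; simp [Scheme.isoSpec],
          Scheme.ΓSpecIso_inv_naturality]
      have hkey : Φ ≫ t.left.appTop ≫ ψ = evw := by
        refine CommRingCat.hom_ext (RingHom.ext fun x => ?_)
        show ψ (t.left.appTop (Φ x)) = evw x
        induction x using TensorProduct.induction_on with
        | zero => simp
        | tmul c d =>
          rw [show Φ (c ⊗ₜ d) = p₁.left.appTop c * p₂.left.appTop d from tensorMap_tmul a hX v₀ c d, map_mul]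
          have e₁ : t.left.appTop (p₁.left.appTop c) = k₁.left.appTop c := by
            rw [← ht₁, Over.comp_left, Scheme.Hom.comp_appTop]; rfl
          have e₂ : t.left.appTop (p₂.left.appTop d) = k₂.left.appTop (v.left.appTop d) := by
            show (p₂.left.appTop ≫ t.left.appTop) d = (v.left.appTop ≫ k₂.left.appTop) d
            rw [← Scheme.Hom.comp_appTop, ← Scheme.Hom.comp_appTop, ← Over.comp_left, ← Over.comp_left, ht₂]
          rw [e₁, e₂, hψ]
          show evw (c ⊗ₜ 1) * (v.left.appTop ≫ β) d = evw (c ⊗ₜ d)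
          rw [hv]
          show evw (c ⊗ₜ 1) * evw (1 ⊗ₜ d) = _
          rw [← map_mul, Algebra.TensorProduct.tmul_mul_tmul, mul_one, one_mul]
        | add x y hx hy => simp only [map_add, hx, hy]
      rw [hs, Category.assoc, Category.assoc, reassoc_of% hkey, ← Scheme.ΓSpecIso_naturality_assoc,
        Iso.hom_inv_id, Category.comp_id]
    have h2 : (Spec.map evw) pt = w := by
      refine PrimeSpectrum.ext ?_
      show Ideal.comap (algebraMap B w.asIdeal.ResidueField) pt.asIdeal = w.asIdeal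
      rw [(Ideal.eq_bot_or_top pt.asIdeal).resolve_right pt.isPrime.ne_top]
      exact Ideal.ker_algebraMap_residueField _
    rw [← h2, ← hcomp]
    rfl
  haveI : IsIso g := by
    haveI : Epi g.base := (TopCat.epi_iff_surjective _).2 g.surjective
    exact IsOpenImmersion.isIso g
  -- the descended scheme
  haveI hff := faithfullyFlat h1 hgen
  let A : CommRingCat.{u} := CommRingCat.of (A₀ a)
  let πA : A ⟶ Γ(U.left, ⊤) := CommRingCat.ofHom (algebraMap (A₀ a) (Γ₀ a.U))
  have hπ : Flat (Spec.map πA) ∧ Surjective (Spec.map πA) :=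
    (flat_and_surjective_SpecMap_iff _).2 (RingHom.faithfullyFlat_algebraMap_iff.2 hff)
  haveI := hπ.1
  haveI := hπ.2
  have hπ' : inl.hom.comp πA.hom = inr.hom.comp πA.hom := RingHom.ext fun r => by
    show (algebraMap (A₀ a) (Γ₀ a.U) r) ⊗ₜ[A₀ a] (1 : Γ(U.left, ⊤)) =
      (1 : Γ₀ a.U) ⊗ₜ[A₀ a] ((algebraMap (A₀ a) Γ(U.left, ⊤)) r)
    rw [Algebra.TensorProduct.tmul_one_eq_one_tmul]
  have sqW : IsPullback (Spec.map inl) (Spec.map inr) (Spec.map πA) (Spec.map πA) :=
    isPullback_SpecMap_of_isPushout _ _ _ _ (CommRingCat.isPushout_tensorProduct (A₀ a) (Γ₀ a.U) Γ(U.left, ⊤))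
  let f : Spec Γ(U.left, ⊤) ⟶ S := U.left.isoSpec.inv ≫ U.hom
  have hf : Spec.map inl ≫ f = Spec.map inr ≫ f := by
    rw [← cancel_epi g, reassoc_of% hg₁, reassoc_of% hg₂]
    simp only [f, Category.assoc, show U.left.toSpecΓ ≫ U.left.isoSpec.inv = 𝟙 _ from U.left.isoSpec.hom_inv_id,
      Category.id_comp, Category.comp_id, reassoc_of% (show U.left.toSpecΓ ≫ U.left.isoSpec.inv = 𝟙 _ from
        U.left.isoSpec.hom_inv_id), Over.w]
  haveI := isRegularEpi_of_flat_of_surjective_of_isAffine (Spec.map πA)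
  obtain ⟨str, hstr⟩ := IsRegularEpi.exists_of_isKernelPair (Spec.map πA) sqW f hf
  let T : Over S := Over.mk str
  haveI : IsAffine T.left := inferInstanceAs (IsAffine (Spec A))
  let τ : U ⟶ T := Over.homMk (U.left.isoSpec.hom ≫ Spec.map πA) (by
    show (U.left.isoSpec.hom ≫ Spec.map πA) ≫ str = U.hom
    rw [Category.assoc, hstr, Iso.hom_inv_id_assoc])
  have sqτ : IsPullback p₁.left p₂.left τ.left τ.left := by
    refine sqW.of_iso (asIso g).symm U.left.isoSpec.symm U.left.isoSpec.symm (Iso.refl _) ?_ ?_ ?_ ?_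
    · show _ = inv g ≫ _
      rw [IsIso.eq_inv_comp, ← Category.assoc, hg₁, Category.assoc]
      exact (congrArg (p₁.left ≫ ·) U.left.isoSpec.hom_inv_id).trans (Category.comp_id _)
    · show _ = inv g ≫ _
      rw [IsIso.eq_inv_comp, ← Category.assoc, hg₂, Category.assoc]
      exact (congrArg (p₂.left ≫ ·) U.left.isoSpec.hom_inv_id).trans (Category.comp_id _)
    · show Spec.map πA ≫ 𝟙 _ = U.left.isoSpec.inv ≫ U.left.isoSpec.hom ≫ Spec.map πA
      rw [Iso.inv_hom_id_assoc, Category.comp_id]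
    · show Spec.map πA ≫ 𝟙 _ = U.left.isoSpec.inv ≫ U.left.isoSpec.hom ≫ Spec.map πA
      rw [Iso.inv_hom_id_assoc, Category.comp_id]
  haveI : Flat τ.left := inferInstanceAs (Flat (U.left.isoSpec.hom ≫ Spec.map πA))
  haveI : Surjective τ.left := inferInstanceAs (Surjective (U.left.isoSpec.hom ≫ Spec.map πA))
  haveI : QuasiCompact τ.left := quasiCompact_of_compactSpace τ.left
  have het : Etale τ.left := MorphismProperty.of_isPullback_of_descendsAlong
    (P := @Etale) (Q := @Surjective ⊓ @Flat ⊓ @QuasiCompact) sqτ.flip ⟨⟨inferInstance, inferInstance⟩, inferInstance⟩ hep₂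
  haveI := epi_of_repWith _ (repWith_map het) (repWith_map (inferInstanceAs (Surjective τ.left)))
  haveI := epi_of_repWith p a.U.property (repWith_surjective_atlas a)
  have sqO : IsPullback p₂ p₁ τ τ :=
    IsPullback.of_map (Over.forget S) (Over.OverMorphism.ext sqτ.flip.w) sqτ.flip
  obtain ⟨hc₁⟩ := nonempty_isColimit_cofork p sqR
  obtain ⟨hc₂⟩ := nonempty_isColimit_cofork ((yon S).map τ) (sqO.map (yon S))
  exact ⟨T, inferInstance, ⟨hc₂.coconePointUniqueUpToIso hc₁⟩⟩

end Groth.L23.GlobSec
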