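import Groth.Agent.L23.Glue
import Groth.Agent.L23.Epi
import Groth.Agent.L23.LocP
import Mathlib.AlgebraicGeometry.Morphisms.Affine
import Mathlib.Algebra.Category.Ring.Constructions
import Mathlib.RingTheory.Flat.Basic

/-!
# Etale descent of affine schemes
-/

universe u

open CategoryTheory CategoryTheory.Limits AlgebraicGeometry Opposite AlgSp
open scoped TensorProduct

set_option backward.isDefEq.respectTransparency.types false

namespace Groth.L23

section Ring

variable {R R' B B₂ B₃ : Type u} [CommRing R] [CommRing R'] [CommRing B] [CommRing B₂] [CommRing B₃]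
  [Algebra R R'] [Algebra R B] [Algebra R B₂] [Algebra R B₃]

/-- `r ⊗ b ↦ f r * g b`. -/
noncomputable def mulMap (f : R' →ₐ[R] B₂) (g : B →ₐ[R] B₂) : R' ⊗[R] B →ₐ[R] B₂ :=
  Algebra.TensorProduct.lift f g fun _ _ => Commute.all _ _

@[simp] lemma mulMap_tmul (f : R' →ₐ[R] B₂) (g : B →ₐ[R] B₂) (r : R') (b : B) :
    mulMap f g (r ⊗ₜ b) = f r * g b := Algebra.TensorProduct.lift_tmul _ _ _ _ _

/-- Faithfully flat descent for algebras, elementwise: the descended algebra is `{b | d₀ b = d₁ b}`. -/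
theorem bijective_descend [Module.Flat R R'] (u : R' →ₐ[R] B) (i₂ : R' →ₐ[R] B₂) (d₀ d₁ : B →ₐ[R] B₂)
    (he : Function.Bijective (mulMap i₂ d₀)) (i₃ : R' →ₐ[R] B₃) (j₁ : B₂ →ₐ[R] B₃)
    (hψ : Function.Bijective (mulMap i₃ j₁)) (m₀ m₁ : B₂ →ₐ[R] B₃)
    (h₀ : m₀.comp d₀ = j₁.comp d₀) (h₀' : m₀.comp i₂ = i₃)
    (h₁ : m₁.comp d₀ = j₁.comp d₁) (h₁' : m₁.comp i₂ = i₃) (hm : m₀.comp d₁ = m₁.comp d₁)
    (δ : B₂ →ₐ[R] B) (hδ₀ : δ.comp d₀ = AlgHom.id R B) (hδ₂ : δ.comp i₂ = u)
    (hδ₁ : δ.comp d₁ = AlgHom.id R B) (hd : d₁.comp u = i₂) :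
    Function.Bijective (mulMap u (AlgHom.equalizer d₀ d₁).val) := by
  let A := AlgHom.equalizer d₀ d₁
  let D : B →ₗ[R] B₂ := d₀.toLinearMap - d₁.toLinearMap
  have hex : Function.Exact A.val.toLinearMap D := fun b => by
    simp [D, A, sub_eq_zero, AlgHom.mem_equalizer]
  have hexT := Module.Flat.lTensor_exact R' hex
  have hinj : Function.Injective (A.val.toLinearMap.lTensor R') :=
    Module.Flat.lTensor_preserves_injective_linearMap _ Subtype.val_injective
  have key : ∀ y, mulMap u A.val y = δ (mulMap i₂ d₀ (A.val.toLinearMap.lTensor R' y)) := fun y => by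
    induction y with
    | zero => simp
    | tmul r a =>
      have e₁ : δ (d₀ a.1) = a.1 := congr($hδ₀ a.1)
      have e₂ : δ (i₂ r) = u r := congr($hδ₂ r)
      simp [e₁, e₂]
    | add y y' h h' => simp [h, h']
  constructor
  · intro y y' h
    apply hinj
    apply he.1
    have lem : ∀ y, mulMap i₂ d₀ (A.val.toLinearMap.lTensor R' y) = d₁ (mulMap u A.val y) := fun y => by
      induction y with
      | zero => simp
      | tmul r a =>
        have e₁ : d₁ (u r) = i₂ r := congr($hd r)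
        have e₂ : d₀ a.1 = d₁ a.1 := a.2
        simp [e₁, e₂]
      | add y y' h h' => simp [h, h']
    rw [lem, lem, h]
  · intro x
    obtain ⟨y, hy⟩ := he.2 (d₁ x)
    have e₀ : ∀ z, mulMap i₃ j₁ ((d₀.toLinearMap).lTensor R' z) = m₀ (mulMap i₂ d₀ z) := fun z => by
      induction z with
      | zero => simp
      | tmul r b =>
        have e₁ : m₀ (d₀ b) = j₁ (d₀ b) := congr($h₀ b)
        have e₂ : m₀ (i₂ r) = i₃ r := congr($h₀' r)
        simp [e₁, e₂]
      | add y y' h h' => simp [h, h']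
    have e₁ : ∀ z, mulMap i₃ j₁ ((d₁.toLinearMap).lTensor R' z) = m₁ (mulMap i₂ d₀ z) := fun z => by
      induction z with
      | zero => simp
      | tmul r b =>
        have e₁ : m₁ (d₀ b) = j₁ (d₁ b) := congr($h₁ b)
        have e₂ : m₁ (i₂ r) = i₃ r := congr($h₁' r)
        simp [e₁, e₂]
      | add y y' h h' => simp [h, h']
    have hy0 : D.lTensor R' y = 0 := by
      rw [LinearMap.lTensor_sub, LinearMap.sub_apply, sub_eq_zero]
      apply hψ.1
      rw [e₀, e₁, hy]
      exact congr($hm x)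
    obtain ⟨z, hz⟩ := (hexT y).1 hy0
    refine ⟨z, ?_⟩
    rw [key, hz, hy]
    exact congr($hδ₁ x)

end Ring

variable {S : Scheme.{u}}

/-- The algebra map on global sections of a morphism over an affine base. -/
noncomputable def appTopAlgHom {W X Y : Scheme.{u}} (f : X ⟶ Y) {a : X ⟶ W} {b : Y ⟶ W}
    (h : f ≫ b = a) :
    letI := a.appTop.hom.toAlgebra
    letI := b.appTop.hom.toAlgebra
    Γ(Y, ⊤) →ₐ[Γ(W, ⊤)] Γ(X, ⊤) :=
  letI := a.appTop.hom.toAlgebra
  letI := b.appTop.hom.toAlgebra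
  { f.appTop.hom with
    commutes' := fun r => by
      have := congr($(Scheme.Hom.comp_appTop f b).hom r)
      rw [h] at this
      exact this.symm }

lemma bijective_mulMap_of_isPullback {W X Y P : Scheme.{u}} [IsAffine W] [IsAffine X] [IsAffine Y]
    {fst : P ⟶ X} {snd : P ⟶ Y} {a : X ⟶ W} {b : Y ⟶ W} (sq : IsPullback fst snd a b)
    {c : P ⟶ W} (h₁ : fst ≫ a = c) (h₂ : snd ≫ b = c) :
    letI := a.appTop.hom.toAlgebra
    letI := b.appTop.hom.toAlgebra
    letI := c.appTop.hom.toAlgebra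
    Function.Bijective (mulMap (appTopAlgHom snd h₂) (appTopAlgHom fst h₁)) := by
  letI := a.appTop.hom.toAlgebra
  letI := b.appTop.hom.toAlgebra
  letI := c.appTop.hom.toAlgebra
  have hT := CommRingCat.isPushout_tensorProduct Γ(W, ⊤) Γ(Y, ⊤) Γ(X, ⊤)
  have hP : IsPushout b.appTop a.appTop snd.appTop fst.appTop := (isPushout_appTop_of_isPullback sq).flip
  let e := hT.isoIsPushout _ _ hP
  have key : ∀ z, mulMap (appTopAlgHom snd h₂) (appTopAlgHom fst h₁) z = e.hom z := fun z => by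
    induction z with
    | zero => simp
    | tmul r x =>
      have hl : snd.appTop.hom r = e.hom (r ⊗ₜ 1) := (congr($(hT.inl_isoIsPushout_hom _ _ hP).hom r)).symm
      have hr : fst.appTop.hom x = e.hom ((1 : Γ(Y, ⊤)) ⊗ₜ x) :=
        (congr($(hT.inr_isoIsPushout_hom _ _ hP).hom x)).symm
      rw [mulMap_tmul]
      change snd.appTop.hom r * fst.appTop.hom x = _
      rw [hl, hr, ← map_mul]
      simp
    | add z z' h h' => simp [h, h']
  exact (funext key : _ = _) ▸ (ConcreteCategory.bijective_of_isIso e.hom)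

/-- A sheaf over an affine scheme which becomes affine after an affine etale surjective base change is
affine. -/
theorem exists_affine_of_etale_cover {W V U : Over S} [IsAffine W.left] [IsAffine V.left]
    [IsAffine U.left] {X : Sp S} {q : X ⟶ (yon S).obj W} (v : V ⟶ W) [Etale v.left]
    [Surjective v.left] {p : (yon S).obj U ⟶ X} {u : U ⟶ V}
    (sq : IsPullback p ((yon S).map u) q ((yon S).map v)) :
    ∃ (A : Over S) (k : X ⟶ (yon S).obj A) (ā : A ⟶ W), IsAffine A.left ∧ IsIso k ∧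
      k ≫ (yon S).map ā = q := by
  let uv := u ≫ v
  have sq₂ := IsPullback.of_hasPullback uv v
  set π₁ := pullback.fst uv v
  set π₂ := pullback.snd uv v
  obtain ⟨σ, hσp, hσu⟩ : ∃ σ : pullback uv v ⟶ U,
      (yon S).map σ ≫ p = (yon S).map π₁ ≫ p ∧ σ ≫ u = π₂ := by
    obtain ⟨σ, hσ⟩ := (yon S).map_surjective (sq.lift ((yon S).map π₁ ≫ p) ((yon S).map π₂) (by
      rw [Category.assoc, sq.w, ← Functor.map_comp, ← Functor.map_comp, ← Functor.map_comp, pullback.condition]))
    exact ⟨σ, by rw [hσ, sq.lift_fst], (yon S).map_injective (by rw [Functor.map_comp, hσ, sq.lift_snd])⟩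
  have hext : ∀ {Z : Over S} {a b : Z ⟶ U}, (yon S).map a ≫ p = (yon S).map b ≫ p → a ≫ u = b ≫ u → a = b :=
    fun h h' => (yon S).map_injective (sq.hom_ext h (by rw [← Functor.map_comp, ← Functor.map_comp, h']))
  let c₂ := π₁ ≫ uv
  have hσv : σ ≫ uv = c₂ := by
    rw [show σ ≫ uv = (σ ≫ u) ≫ v from (Category.assoc _ _ _).symm, hσu]
    exact pullback.condition.symm
  have sq₃ := IsPullback.of_hasPullback c₂ v
  set ρ₁ := pullback.fst c₂ v
  set ρ₂ := pullback.snd c₂ v
  let c₃ := ρ₁ ≫ c₂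
  let m₀ := sq₂.lift (ρ₁ ≫ π₁) ρ₂ (by rw [Category.assoc]; exact sq₃.w)
  let m₁ := sq₂.lift (ρ₁ ≫ σ) ρ₂ (by rw [Category.assoc, hσv]; exact sq₃.w)
  have hm : m₀ ≫ σ = m₁ ≫ σ := hext
    (by rw [Functor.map_comp, Category.assoc, hσp, ← Functor.map_comp_assoc, sq₂.lift_fst,
      Functor.map_comp, Category.assoc, ← hσp, ← Functor.map_comp_assoc, ← sq₂.lift_fst (ρ₁ ≫ σ) ρ₂ (by
        rw [Category.assoc, hσv]; exact sq₃.w), Functor.map_comp, Category.assoc, ← hσp,
      ← Functor.map_comp_assoc])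
    (by rw [Category.assoc, Category.assoc, hσu, sq₂.lift_snd, sq₂.lift_snd])
  let δ := sq₂.lift (𝟙 U) u (Category.id_comp _)
  have hδσ : δ ≫ σ = 𝟙 U := hext
    (by rw [Functor.map_comp, Category.assoc, hσp, ← Functor.map_comp_assoc, sq₂.lift_fst])
    (by rw [Category.assoc, hσu, sq₂.lift_snd, Category.id_comp])
  -- the rings
  letI := v.left.appTop.hom.toAlgebra
  letI := uv.left.appTop.hom.toAlgebra
  letI := c₂.left.appTop.hom.toAlgebra
  letI := c₃.left.appTop.hom.toAlgebra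
  have sq₂' : IsPullback π₁.left π₂.left uv.left v.left := sq₂.map (Over.forget S)
  have sq₃' : IsPullback ρ₁.left ρ₂.left c₂.left v.left := sq₃.map (Over.forget S)
  have : IsAffine (pullback uv v).left := IsAffine.of_isPullback sq₂'
  have : Module.Flat Γ(W.left, ⊤) Γ(V.left, ⊤) :=
    RingHom.flat_algebraMap_iff.1 ((HasRingHomProperty.iff_of_isAffine (P := @Flat)).1
      (inferInstanceAs (Flat v.left)))
  have L : ∀ {a b c : Over S} {f : a ⟶ b} {g : b ⟶ c} {h : a ⟶ c}, f ≫ g = h → f.left ≫ g.left = h.left :=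
    fun {a b c f g h} e => by rw [← Over.comp_left, e]
  let αu := appTopAlgHom u.left (L (rfl : u ≫ v = uv))
  let i₂ := appTopAlgHom π₂.left (L (pullback.condition.symm : π₂ ≫ v = c₂))
  let d₀ := appTopAlgHom π₁.left (L (rfl : π₁ ≫ uv = c₂))
  let d₁ := appTopAlgHom σ.left (L hσv)
  have hm₀c : m₀ ≫ c₂ = c₃ := by
    show m₀ ≫ π₁ ≫ uv = ρ₁ ≫ π₁ ≫ uv
    rw [sq₂.lift_fst_assoc, Category.assoc]
  have hm₁c : m₁ ≫ c₂ = c₃ := by
    show m₁ ≫ π₁ ≫ uv = ρ₁ ≫ π₁ ≫ uv
    rw [sq₂.lift_fst_assoc, Category.assoc, hσv]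
  have hδc : δ ≫ c₂ = uv := by
    show δ ≫ π₁ ≫ uv = uv
    rw [sq₂.lift_fst_assoc, Category.id_comp]
  have comp : ∀ {a b c : Over S} {f : a ⟶ b} {g : b ⟶ c} {k : a ⟶ c}, f ≫ g = k → ∀ x,
      f.left.appTop.hom (g.left.appTop.hom x) = k.left.appTop.hom x := fun {a b c f g k} e x => by
    rw [← e, Over.comp_left, Scheme.Hom.comp_appTop]; rfl
  have hd : d₁.comp αu = i₂ := AlgHom.ext fun x => comp hσu x
  have hbij := bijective_descend αu i₂ d₀ d₁
    (bijective_mulMap_of_isPullback sq₂' _ _)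
    (appTopAlgHom ρ₂.left (L (sq₃.w.symm : ρ₂ ≫ v = c₃))) (appTopAlgHom ρ₁.left (L (rfl : ρ₁ ≫ c₂ = c₃)))
    (bijective_mulMap_of_isPullback sq₃' _ _)
    (appTopAlgHom m₀.left (L hm₀c)) (appTopAlgHom m₁.left (L hm₁c))
    (AlgHom.ext fun x => (comp (sq₂.lift_fst _ _ _) x).trans (comp rfl x).symm)
    (AlgHom.ext fun x => comp (sq₂.lift_snd _ _ _) x)
    (AlgHom.ext fun x => (comp (sq₂.lift_fst _ _ _) x).trans (comp rfl x).symm)
    (AlgHom.ext fun x => comp (sq₂.lift_snd _ _ _) x)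
    (AlgHom.ext fun x => (comp hm x).trans (comp rfl x).symm)
    (appTopAlgHom δ.left (L hδc))
    (AlgHom.ext fun x => (comp (sq₂.lift_fst _ _ _) x).trans (by simp))
    (AlgHom.ext fun x => comp (sq₂.lift_snd _ _ _) x)
    (AlgHom.ext fun x => (comp hδσ x).trans (by simp)) hd
  -- the descended scheme
  let E := AlgHom.equalizer d₀ d₁
  let A : Over S := Over.mk (Spec.map (CommRingCat.ofHom (algebraMap Γ(W.left, ⊤) E)) ≫ W.left.isoSpec.inv ≫ W.hom)
  let ā : A ⟶ W := Over.homMk (Spec.map (CommRingCat.ofHom (algebraMap Γ(W.left, ⊤) E)) ≫ W.left.isoSpec.inv)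
    (Category.assoc _ _ _)
  let a' : U.left ⟶ A.left := U.left.isoSpec.hom ≫ Spec.map (CommRingCat.ofHom E.val.toRingHom)
  have ha' : a' ≫ ā.left = uv.left := by
    show (U.left.isoSpec.hom ≫ _) ≫ _ ≫ W.left.isoSpec.inv = _
    rw [Category.assoc, ← Spec.map_comp_assoc, ← CommRingCat.ofHom_comp,
      show CommRingCat.ofHom (E.val.toRingHom.comp (algebraMap Γ(W.left, ⊤) E)) = uv.left.appTop from rfl,
      ← Category.assoc, Iso.comp_inv_eq]
    exact Scheme.isoSpec_hom_naturality uv.left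
  let a : U ⟶ A := Over.homMk a' (by
    show a' ≫ ā.left ≫ W.hom = U.hom
    rw [← Category.assoc, ha']
    exact Over.w uv)
  have haā : a ≫ ā = uv := Over.OverMorphism.ext ha'
  have hπσ : π₁ ≫ a = σ ≫ a := by
    refine Over.OverMorphism.ext ?_
    show π₁.left ≫ a' = σ.left ≫ a'
    show π₁.left ≫ U.left.isoSpec.hom ≫ _ = σ.left ≫ U.left.isoSpec.hom ≫ _
    rw [← Scheme.isoSpec_hom_naturality_assoc, ← Scheme.isoSpec_hom_naturality_assoc,
      ← Spec.map_comp, ← Spec.map_comp]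
    congr 2
    ext x
    exact x.2
  have sqA : IsPullback a.left u.left ā.left v.left := by
    have hT := CommRingCat.isPushout_tensorProduct Γ(W.left, ⊤) E Γ(V.left, ⊤)
    let α : E ⊗[Γ(W.left, ⊤)] Γ(V.left, ⊤) ≃+* Γ(U.left, ⊤) :=
      RingEquiv.ofBijective ((mulMap αu E.val).toRingHom.comp
        (Algebra.TensorProduct.comm Γ(W.left, ⊤) E Γ(V.left, ⊤)).toAlgHom.toRingHom)
        (hbij.comp (Algebra.TensorProduct.comm Γ(W.left, ⊤) E Γ(V.left, ⊤)).bijective)
    have hP : IsPushout (CommRingCat.ofHom (algebraMap Γ(W.left, ⊤) E)) v.left.appTop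
        (CommRingCat.ofHom E.val.toRingHom) u.left.appTop :=
      hT.of_iso (Iso.refl _) (Iso.refl _) (Iso.refl _) α.toCommRingCatIso (by simp) (by simp; rfl)
        (by ext x; show mulMap αu E.val (1 ⊗ₜ x) = x.1; simp)
        (by ext x; show mulMap αu E.val (x ⊗ₜ 1) = u.left.appTop.hom x; simp; rfl)
    refine (isPullback_SpecMap_of_isPushout _ _ _ _ hP).of_iso U.left.isoSpec.symm (Iso.refl _) V.left.isoSpec.symm
      W.left.isoSpec.symm ?_ ?_ ?_ ?_
    · simp [a, a']
    · simp [Scheme.isoSpec_inv_naturality]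
    · simp [ā]
    · simp [Scheme.isoSpec_inv_naturality]
  have haff : IsAffine A.left := inferInstanceAs (IsAffine (Spec _))
  have sqk : IsPullback ((yon S).map π₁) ((yon S).map σ) p p := by
    refine IsPullback.of_bot ?_ hσp.symm sq
    rw [← Functor.map_comp, hσu]
    have := (sq₂.map (yon S))
    rw [show (yon S).map uv = p ≫ q from ?_] at this
    · exact this
    · rw [Functor.map_comp, sq.w]
  have hev : RepWith @Etale ((yon S).map v) := (repWith_yon_map_iff _ _).2 ‹_›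
  have hsv : RepWith @Surjective ((yon S).map v) := (repWith_yon_map_iff _ _).2 ‹_›
  have : Epi p := epi_of_repWith p (repWith_of_isPullback sq.flip hev) (repWith_of_isPullback sq.flip hsv)
  have := effectiveEpi_of_epi p
  let hc := isColimitCoforkOfEffectiveEpi p _ sqk.isLimit
  have hw : (yon S).map π₁ ≫ (yon S).map a = (yon S).map σ ≫ (yon S).map a := by
    rw [← Functor.map_comp, ← Functor.map_comp, hπσ]
  let k : X ⟶ (yon S).obj A := hc.desc (Cofork.ofπ ((yon S).map a) hw)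
  have hpk : p ≫ k = (yon S).map a := hc.fac (Cofork.ofπ ((yon S).map a) hw) WalkingParallelPair.one
  have hkq : k ≫ (yon S).map ā = q := by
    rw [← cancel_epi p, reassoc_of% hpk, ← Functor.map_comp, haā, Functor.map_comp, sq.w]
  have sqA' : IsPullback ((yon S).map a) ((yon S).map u) ((yon S).map ā) ((yon S).map v) :=
    (show IsPullback a u ā v from IsPullback.of_map (Over.forget S) (by rw [haā]) sqA).map (yon S)
  have sqka : IsPullback ((yon S).map (𝟙 U)) p ((yon S).map a) k := by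
    refine (IsPullback.of_right ?_ ?_ sqA'.flip).flip.flip
    · rw [hkq, ← Functor.map_comp, Category.id_comp]
      exact sq.flip
    · rw [hpk, ← Functor.map_comp, Category.id_comp]
  have hea : RepWith @Etale ((yon S).map a) := repWith_of_isPullback sqA'.flip hev
  have hsa : RepWith @Surjective ((yon S).map a) := repWith_of_isPullback sqA'.flip hsv
  have : Mono k := mono_of_cover k _ hea hsa sqka.flip
  have : Epi k := by
    have := epi_of_repWith _ hea hsa
    exact epi_of_epi_fac hpk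
  exact ⟨A, k, ā, haff, isIso_of_mono_of_epi k, hkq⟩

end Groth.L23
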