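import Groth.Agent.L23.FpqcAffine
import Groth.Agent.L22.AffineDescent
import Groth.Agent.L23.ImmersionDescent

/-!
# Fpqc descent of quasi-affine morphisms of algebraic spaces
-/

universe u

open CategoryTheory CategoryTheory.Limits AlgebraicGeometry AlgSp Opposite
open scoped TensorProduct

set_option backward.isDefEq.respectTransparency.types false

namespace Groth.L23

variable {S : Scheme.{u}}

lemma bijective_mulMap_of_qcqs {W X Y P : Scheme.{u}} [IsAffine W] [CompactSpace X]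
    [QuasiSeparatedSpace X] [IsAffine Y] {fst : P ⟶ X} {snd : P ⟶ Y} {a : X ⟶ W} {b : Y ⟶ W} [Flat b]
    (sq : IsPullback fst snd a b) {c : P ⟶ W} (h₁ : fst ≫ a = c) (h₂ : snd ≫ b = c) :
    letI := a.appTop.hom.toAlgebra
    letI := b.appTop.hom.toAlgebra
    letI := c.appTop.hom.toAlgebra
    Function.Bijective (mulMap (appTopAlgHom snd h₂) (appTopAlgHom fst h₁)) := by
  letI := a.appTop.hom.toAlgebra
  letI := b.appTop.hom.toAlgebra
  letI := c.appTop.hom.toAlgebra
  have hT := CommRingCat.isPushout_tensorProduct Γ(W, ⊤) Γ(Y, ⊤) Γ(X, ⊤)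
  have hP : IsPushout b.appTop a.appTop snd.appTop fst.appTop :=
    (Groth.L22.AffDesc.isPushout_appTop sq).flip
  let e := hT.isoIsPushout _ _ hP
  have key : ∀ z, mulMap (appTopAlgHom snd h₂) (appTopAlgHom fst h₁) z = e.hom z := fun z => by
    induction z with
    | zero => simp
    | tmul r x =>
      have hl : snd.appTop.hom r = e.hom (r ⊗ₜ 1) := (congr($(hT.inl_isoIsPushout_hom _ _ hP).hom r)).symm
      have hr : fst.appTop.hom x = e.hom ((1 : Γ(Y, ⊤)) ⊗ₜ x) :=
        (congr($(hT.inr_isoIsPushout_hom _ _ hP).hom x)).symm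
      rw [mulMap_tmul]
      change snd.appTop.hom r * fst.appTop.hom x = _
      rw [hl, hr, ← map_mul]
      simp
    | add z z' h h' => simp [h, h']
  exact (funext key : _ = _) ▸ (ConcreteCategory.bijective_of_isIso e.hom)

/-- A sheaf over an affine scheme which becomes quasi-affine after an affine fpqc base change is
quasi-affine. -/
theorem exists_quasiAffine_of_fpqc_cover {W V U : Over S} [IsAffine W.left] [IsAffine V.left]
    [U.left.IsQuasiAffine] {X : Sp S} (hX : IsAlgSpace X) {q : X ⟶ (yon S).obj W} (v : V ⟶ W) [Flat v.left]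
    [Surjective v.left] {p : (yon S).obj U ⟶ X} {u : U ⟶ V}
    (sq : IsPullback p ((yon S).map u) q ((yon S).map v)) :
    ∃ (A : Over S) (k : X ⟶ (yon S).obj A) (ā : A ⟶ W), A.left.IsQuasiAffine ∧ IsIso k ∧
      k ≫ (yon S).map ā = q := by
  let uv := u ≫ v
  have sq₂ := IsPullback.of_hasPullback uv v
  set π₁ := pullback.fst uv v
  set π₂ := pullback.snd uv v
  obtain ⟨σ, hσp, hσu⟩ : ∃ σ : pullback uv v ⟶ U,
      (yon S).map σ ≫ p = (yon S).map π₁ ≫ p ∧ σ ≫ u = π₂ := by
    obtain ⟨σ, hσ⟩ := (yon S).map_surjective (sq.lift ((yon S).map π₁ ≫ p) ((yon S).map π₂) (by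
      rw [Category.assoc, sq.w, ← Functor.map_comp, ← Functor.map_comp, ← Functor.map_comp, pullback.condition]))
    exact ⟨σ, by rw [hσ, sq.lift_fst], (yon S).map_injective (by rw [Functor.map_comp, hσ, sq.lift_snd])⟩
  have hext : ∀ {Z : Over S} {a b : Z ⟶ U}, (yon S).map a ≫ p = (yon S).map b ≫ p → a ≫ u = b ≫ u → a = b :=
    fun h h' => (yon S).map_injective (sq.hom_ext h (by rw [← Functor.map_comp, ← Functor.map_comp, h']))
  let c₂ := π₁ ≫ uv
  have hσv : σ ≫ uv = c₂ := by
    rw [show σ ≫ uv = (σ ≫ u) ≫ v from (Category.assoc _ _ _).symm, hσu]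
    exact pullback.condition.symm
  have sq₃ := IsPullback.of_hasPullback c₂ v
  set ρ₁ := pullback.fst c₂ v
  set ρ₂ := pullback.snd c₂ v
  let c₃ := ρ₁ ≫ c₂
  let m₀ := sq₂.lift (ρ₁ ≫ π₁) ρ₂ (by rw [Category.assoc]; exact sq₃.w)
  let m₁ := sq₂.lift (ρ₁ ≫ σ) ρ₂ (by rw [Category.assoc, hσv]; exact sq₃.w)
  have hm : m₀ ≫ σ = m₁ ≫ σ := hext
    (by rw [Functor.map_comp, Category.assoc, hσp, ← Functor.map_comp_assoc, sq₂.lift_fst,
      Functor.map_comp, Category.assoc, ← hσp, ← Functor.map_comp_assoc, ← sq₂.lift_fst (ρ₁ ≫ σ) ρ₂ (by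
        rw [Category.assoc, hσv]; exact sq₃.w), Functor.map_comp, Category.assoc, ← hσp,
      ← Functor.map_comp_assoc])
    (by rw [Category.assoc, Category.assoc, hσu, sq₂.lift_snd, sq₂.lift_snd])
  let δ := sq₂.lift (𝟙 U) u (Category.id_comp _)
  have hδσ : δ ≫ σ = 𝟙 U := hext
    (by rw [Functor.map_comp, Category.assoc, hσp, ← Functor.map_comp_assoc, sq₂.lift_fst])
    (by rw [Category.assoc, hσu, sq₂.lift_snd, Category.id_comp])
  -- the rings
  letI := v.left.appTop.hom.toAlgebra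
  letI := uv.left.appTop.hom.toAlgebra
  letI := c₂.left.appTop.hom.toAlgebra
  letI := c₃.left.appTop.hom.toAlgebra
  have sq₂' : IsPullback π₁.left π₂.left uv.left v.left := sq₂.map (Over.forget S)
  have sq₃' : IsPullback ρ₁.left ρ₂.left c₂.left v.left := sq₃.map (Over.forget S)
  have : IsAffineHom π₁.left :=
    MorphismProperty.of_isPullback (P := @IsAffineHom) sq₂'.flip (isAffineHom_of_isAffine v.left)
  have : (pullback uv v).left.IsQuasiAffine := Scheme.IsQuasiAffine.of_isAffineHom π₁.left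
  have : Module.Flat Γ(W.left, ⊤) Γ(V.left, ⊤) :=
    RingHom.flat_algebraMap_iff.1 ((HasRingHomProperty.iff_of_isAffine (P := @Flat)).1
      (inferInstanceAs (Flat v.left)))
  have L : ∀ {a b c : Over S} {f : a ⟶ b} {g : b ⟶ c} {h : a ⟶ c}, f ≫ g = h → f.left ≫ g.left = h.left :=
    fun {a b c f g h} e => by rw [← Over.comp_left, e]
  let αu := appTopAlgHom u.left (L (rfl : u ≫ v = uv))
  let i₂ := appTopAlgHom π₂.left (L (pullback.condition.symm : π₂ ≫ v = c₂))
  let d₀ := appTopAlgHom π₁.left (L (rfl : π₁ ≫ uv = c₂))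
  let d₁ := appTopAlgHom σ.left (L hσv)
  have hm₀c : m₀ ≫ c₂ = c₃ := by
    show m₀ ≫ π₁ ≫ uv = ρ₁ ≫ π₁ ≫ uv
    rw [sq₂.lift_fst_assoc, Category.assoc]
  have hm₁c : m₁ ≫ c₂ = c₃ := by
    show m₁ ≫ π₁ ≫ uv = ρ₁ ≫ π₁ ≫ uv
    rw [sq₂.lift_fst_assoc, Category.assoc, hσv]
  have hδc : δ ≫ c₂ = uv := by
    show δ ≫ π₁ ≫ uv = uv
    rw [sq₂.lift_fst_assoc, Category.id_comp]
  have comp : ∀ {a b c : Over S} {f : a ⟶ b} {g : b ⟶ c} {k : a ⟶ c}, f ≫ g = k → ∀ x,
      f.left.appTop.hom (g.left.appTop.hom x) = k.left.appTop.hom x := fun {a b c f g k} e x => by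
    rw [← e, Over.comp_left, Scheme.Hom.comp_appTop]; rfl
  have hd : d₁.comp αu = i₂ := AlgHom.ext fun x => comp hσu x
  have hbij := bijective_descend αu i₂ d₀ d₁
    (bijective_mulMap_of_qcqs sq₂' _ _)
    (appTopAlgHom ρ₂.left (L (sq₃.w.symm : ρ₂ ≫ v = c₃))) (appTopAlgHom ρ₁.left (L (rfl : ρ₁ ≫ c₂ = c₃)))
    (bijective_mulMap_of_qcqs sq₃' _ _)
    (appTopAlgHom m₀.left (L hm₀c)) (appTopAlgHom m₁.left (L hm₁c))
    (AlgHom.ext fun x => (comp (sq₂.lift_fst _ _ _) x).trans (comp rfl x).symm)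
    (AlgHom.ext fun x => comp (sq₂.lift_snd _ _ _) x)
    (AlgHom.ext fun x => (comp (sq₂.lift_fst _ _ _) x).trans (comp rfl x).symm)
    (AlgHom.ext fun x => comp (sq₂.lift_snd _ _ _) x)
    (AlgHom.ext fun x => (comp hm x).trans (comp rfl x).symm)
    (appTopAlgHom δ.left (L hδc))
    (AlgHom.ext fun x => (comp (sq₂.lift_fst _ _ _) x).trans (by simp))
    (AlgHom.ext fun x => comp (sq₂.lift_snd _ _ _) x)
    (AlgHom.ext fun x => (comp hδσ x).trans (by simp)) hd
  -- the descended scheme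
  let E := AlgHom.equalizer d₀ d₁
  let A : Over S := Over.mk (Spec.map (CommRingCat.ofHom (algebraMap Γ(W.left, ⊤) E)) ≫ W.left.isoSpec.inv ≫ W.hom)
  let ā : A ⟶ W := Over.homMk (Spec.map (CommRingCat.ofHom (algebraMap Γ(W.left, ⊤) E)) ≫ W.left.isoSpec.inv)
    (Category.assoc _ _ _)
  let a' : U.left ⟶ A.left := U.left.toSpecΓ ≫ Spec.map (CommRingCat.ofHom E.val.toRingHom)
  have ha' : a' ≫ ā.left = uv.left := by
    show (U.left.toSpecΓ ≫ _) ≫ _ ≫ W.left.isoSpec.inv = _
    rw [Category.assoc, ← Spec.map_comp_assoc, ← CommRingCat.ofHom_comp,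
      show CommRingCat.ofHom (E.val.toRingHom.comp (algebraMap Γ(W.left, ⊤) E)) = uv.left.appTop from rfl,
      ← Category.assoc, Iso.comp_inv_eq]
    exact (Scheme.toSpecΓ_naturality uv.left).symm
  let a : U ⟶ A := Over.homMk a' (by
    show a' ≫ ā.left ≫ W.hom = U.hom
    rw [← Category.assoc, ha']
    exact Over.w uv)
  have haā : a ≫ ā = uv := Over.OverMorphism.ext ha'
  have hπσ : π₁ ≫ a = σ ≫ a := by
    refine Over.OverMorphism.ext ?_
    show π₁.left ≫ a' = σ.left ≫ a'
    show π₁.left ≫ U.left.toSpecΓ ≫ _ = σ.left ≫ U.left.toSpecΓ ≫ _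
    rw [Scheme.toSpecΓ_naturality_assoc, Scheme.toSpecΓ_naturality_assoc,
      ← Spec.map_comp, ← Spec.map_comp]
    congr 2
    ext x
    exact x.2
  let Ub : Over S := Over.mk (Spec.map u.left.appTop ≫ V.left.isoSpec.inv ≫ V.hom)
  let ub : Ub ⟶ V := Over.homMk (Spec.map u.left.appTop ≫ V.left.isoSpec.inv) (Category.assoc _ _ _)
  let jb : U ⟶ Ub := Over.homMk U.left.toSpecΓ (by
    show U.left.toSpecΓ ≫ Spec.map u.left.appTop ≫ V.left.isoSpec.inv ≫ V.hom = U.hom
    rw [← Scheme.toSpecΓ_naturality_assoc, ← Over.w u]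
    simp [Scheme.isoSpec])
  have hju : jb ≫ ub = u := Over.OverMorphism.ext (by
    show U.left.toSpecΓ ≫ Spec.map u.left.appTop ≫ V.left.isoSpec.inv = u.left
    rw [← Scheme.toSpecΓ_naturality_assoc]
    simp [Scheme.isoSpec])
  let ab' : Ub.left ⟶ A.left := Spec.map (CommRingCat.ofHom E.val.toRingHom)
  have hab' : ab' ≫ ā.left = (ub ≫ v).left := by
    show Spec.map _ ≫ Spec.map _ ≫ W.left.isoSpec.inv = (Spec.map u.left.appTop ≫ V.left.isoSpec.inv) ≫ v.left
    rw [← Spec.map_comp_assoc, ← CommRingCat.ofHom_comp,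
      show CommRingCat.ofHom (E.val.toRingHom.comp (algebraMap Γ(W.left, ⊤) E)) = uv.left.appTop from rfl,
      Category.assoc, ← Scheme.isoSpec_inv_naturality, ← Spec.map_comp_assoc]
    rfl
  let ab : Ub ⟶ A := Over.homMk ab' (by
    show ab' ≫ ā.left ≫ W.hom = Ub.hom
    rw [← Category.assoc, hab']
    exact Over.w (ub ≫ v))
  have haab : jb ≫ ab = a := Over.OverMorphism.ext rfl
  have sqA : IsPullback ab.left ub.left ā.left v.left := by
    have hT := CommRingCat.isPushout_tensorProduct Γ(W.left, ⊤) E Γ(V.left, ⊤)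
    let α : E ⊗[Γ(W.left, ⊤)] Γ(V.left, ⊤) ≃+* Γ(U.left, ⊤) :=
      RingEquiv.ofBijective ((mulMap αu E.val).toRingHom.comp
        (Algebra.TensorProduct.comm Γ(W.left, ⊤) E Γ(V.left, ⊤)).toAlgHom.toRingHom)
        (hbij.comp (Algebra.TensorProduct.comm Γ(W.left, ⊤) E Γ(V.left, ⊤)).bijective)
    have hP : IsPushout (CommRingCat.ofHom (algebraMap Γ(W.left, ⊤) E)) v.left.appTop
        (CommRingCat.ofHom E.val.toRingHom) u.left.appTop :=
      hT.of_iso (Iso.refl _) (Iso.refl _) (Iso.refl _) α.toCommRingCatIso (by simp) (by simp; rfl)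
        (by ext x; show mulMap αu E.val (1 ⊗ₜ x) = x.1; simp)
        (by ext x; show mulMap αu E.val (x ⊗ₜ 1) = u.left.appTop.hom x; simp; rfl)
    refine (isPullback_SpecMap_of_isPushout _ _ _ _ hP).of_iso (Iso.refl _) (Iso.refl _) V.left.isoSpec.symm
      W.left.isoSpec.symm ?_ ?_ ?_ ?_
    · simp [ab, ab']
    · simp [ub]
    · simp [ā]
    · simp [Scheme.isoSpec_inv_naturality]
  have sqk : IsPullback ((yon S).map π₁) ((yon S).map σ) p p := by
    refine IsPullback.of_bot ?_ hσp.symm sq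
    rw [← Functor.map_comp, hσu]
    have := (sq₂.map (yon S))
    rw [show (yon S).map uv = p ≫ q from ?_] at this
    · exact this
    · rw [Functor.map_comp, sq.w]
  have hker : ∀ {R : Over S} (x y : R ⟶ U), (yon S).map x ≫ p = (yon S).map y ≫ p → x ≫ a = y ≫ a := by
    intro R x y e
    obtain ⟨m, hm⟩ := (yon S).map_surjective (sqk.lift ((yon S).map x) ((yon S).map y) e)
    rw [← (yon S).map_injective (show (yon S).map (m ≫ π₁) = (yon S).map x by rw [Functor.map_comp, hm, sqk.lift_fst]),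
      ← (yon S).map_injective (show (yon S).map (m ≫ σ) = (yon S).map y by rw [Functor.map_comp, hm, sqk.lift_snd]),
      Category.assoc, Category.assoc, hπσ]
  obtain ⟨k, hpk, -⟩ := exists_desc_space hX sq a hker
  have hkq : k ≫ (yon S).map ā = q := by
    obtain ⟨k₁, hk₁, huniq⟩ := exists_desc_space hX sq uv fun x y e => by
      apply (yon S).map_injective
      rw [(yon S).map_comp x uv, (yon S).map_comp y uv, show (yon S).map uv = p ≫ q by rw [sq.w, ← Functor.map_comp], reassoc_of% e]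
    rw [huniq q (by rw [sq.w, ← Functor.map_comp]),
      huniq (k ≫ (yon S).map ā) (by rw [reassoc_of% hpk, ← Functor.map_comp, haā])]
  have habv : ab ≫ ā = ub ≫ v := Over.OverMorphism.ext hab'
  have sqA'' : IsPullback ((yon S).map ab) ((yon S).map ub) ((yon S).map ā) ((yon S).map v) :=
    (show IsPullback ab ub ā v from IsPullback.of_map (Over.forget S) habv sqA).map (yon S)
  have sqka : IsPullback p ((yon S).map jb) k ((yon S).map ab) := by
    refine IsPullback.of_bot ?_ ?_ sqA''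
    · rw [hkq, ← Functor.map_comp, hju]; exact sq
    · rw [hpk, ← Functor.map_comp, haab]
  have : Flat ab.left := MorphismProperty.of_isPullback (P := @Flat) sqA.flip ‹_›
  have : Surjective ab.left := MorphismProperty.of_isPullback (P := @Surjective) sqA.flip ‹_›
  have : IsAffine A.left := inferInstanceAs (IsAffine (Spec _))
  have : IsAffine Ub.left := inferInstanceAs (IsAffine (Spec _))
  have hj : RepWith @IsOpenImmersion ((yon S).map jb) :=
    repWith_map (inferInstanceAs (IsOpenImmersion U.left.toSpecΓ))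
  have hk : RepWith @IsOpenImmersion k := (isLocalOnBase_fpqc_isOpenImmersion _ _ (IsAlgSpace.yon_obj A)
    (fun _ => IsAlgSpace.yon_obj Ub) (isFpqcCover_singleton_yon ab) k hX (fun _ => (yon S).obj U)
    (fun _ => (yon S).map jb) (fun _ => p) (fun _ => IsAlgSpace.yon_obj U) (fun _ => sqka)).2 fun _ => hj
  obtain ⟨G, θ, π, sG⟩ : ∃ (G : Over S) (θ : (yon S).obj G ⟶ X) (π : G ⟶ A),
      IsPullback θ ((yon S).map π) k (𝟙 ((yon S).obj A)) := ⟨_, _, _, hk.1.isPullback _⟩
  have : IsIso θ := sG.isIso_fst_of_isIso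
  have : IsOpenImmersion π.left := repWith_prop hk sG
  have hc : CompactSpace G.left := by
    obtain ⟨φ, hφ⟩ := (yon S).map_surjective (p ≫ inv θ)
    have : Surjective φ.left := by
      have hs : RepWith @Surjective p :=
        repWith_of_isPullback sqka.flip (repWith_map ‹Surjective ab.left›)
      have h2 := repWith_comp hs (repWith_of_isIso (P := @Surjective) (inv θ))
      rw [← hφ] at h2
      exact (repWith_yon_map_iff _ _).1 h2
    exact ⟨by rw [← φ.left.surjective.range_eq]; exact isCompact_range φ.left.continuous⟩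
  refine ⟨G, inv θ, π ≫ ā, Scheme.IsQuasiAffine.of_isImmersion π.left, inferInstance, ?_⟩
  rw [IsIso.inv_comp_eq, ← hkq, ← Category.assoc, sG.w, Category.comp_id, Functor.map_comp]

open scoped Function in
/-- A finite disjoint union of quasi-affine schemes is quasi-affine. -/
theorem isQuasiAffine_sigma {J : Type u} [Finite J] (B : J → Scheme.{u}) [∀ j, (B j).IsQuasiAffine] :
    (∐ B).IsQuasiAffine := by
  let C : J → Scheme.{u} := fun j => Spec Γ(B j, ⊤)
  let f : ∐ B ⟶ ∐ C := Sigma.desc fun j => (B j).toSpecΓ ≫ Sigma.ι C j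
  have : ∀ j, IsOpenImmersion (Sigma.ι C j) := fun j =>
    inferInstanceAs (IsOpenImmersion ((sigmaOpenCover C).f j))
  have : IsOpenImmersion f := by
    refine isOpenImmersion_sigmaDesc _ _ fun i j hij => ?_
    refine Set.disjoint_left.2 ?_
    rintro _ ⟨x, rfl⟩ ⟨y, hy⟩
    rw [Scheme.Hom.comp_apply, Scheme.Hom.comp_apply] at hy
    exact hij (congrArg Sigma.fst ((sigmaι_eq_iff C _ _ _ _).1 hy)).symm
  have : CompactSpace ↥(∐ B) := (sigmaMk B).compactSpace
  exact Scheme.IsQuasiAffine.of_isImmersion f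

theorem isQuasiAffineMor_of_isPullback {X Y X' Y' : Sp S} {f : X ⟶ Y} {a : X' ⟶ X} {b : Y' ⟶ Y}
    {f' : X' ⟶ Y'} (sq : IsPullback a f' f b) (h : IsQuasiAffineMor f) : IsQuasiAffineMor f' := by
  intro Z hZ g
  obtain ⟨W, i, fst, sW, hW⟩ := h hZ (g ≫ b)
  have w : fst ≫ f = ((yon S).map i ≫ g) ≫ b := by rw [sW.w, Category.assoc]
  refine ⟨W, i, sq.lift fst ((yon S).map i ≫ g) w, IsPullback.of_right ?_ (sq.lift_snd _ _ _) sq, hW⟩
  rwa [sq.lift_fst]

theorem isLocalOnBase_fpqc_quasiAffine : IsLocalOnBase (S := S) IsFpqcCover IsQuasiAffineMor := by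
  intro ι Y Yi g hY hYi hcov X f hX Xi p q hXi sq
  refine ⟨fun h i => isQuasiAffineMor_of_isPullback (sq i) h, fun h Z hZ k => ?_⟩
  have : IsAffine Z.left := hZ
  obtain ⟨J, hJ, A, e, i, l, hA, he, hl, hs⟩ := exists_fpqc_affine_family hcov k
  choose W w fst' sqW hW using fun j => h (i j) (hA j) (l j)
  let V : Over S := Over.mk (Sigma.desc fun j => (A j).hom)
  let c : ∀ j, A j ⟶ V := fun j => Over.homMk (Sigma.ι (fun j => (A j).left) j) (Sigma.ι_desc _ _)
  have : ∀ j, IsOpenImmersion (c j).left :=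
    fun j => inferInstanceAs (IsOpenImmersion ((sigmaOpenCover fun j => (A j).left).f j))
  have hcov' : ∀ t : ↥V.left, ∃ j, t ∈ Set.range (c j).left :=
    fun t => (sigmaOpenCover fun j => (A j).left).exists_eq t
  let v : V ⟶ Z := Over.homMk (Sigma.desc fun j => (e j).left) (by
    apply Sigma.hom_ext
    intro j
    show Sigma.ι _ j ≫ _ ≫ Z.hom = Sigma.ι _ j ≫ Sigma.desc _
    rw [Sigma.ι_desc, ← Category.assoc, Sigma.ι_desc]
    exact Over.w (e j))
  have hcv : ∀ j, c j ≫ v = e j := fun j => Over.OverMorphism.ext (Sigma.ι_desc _ _)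
  have : IsAffine V.left := by
    have := hA
    exact inferInstanceAs (IsAffine (∐ fun j => (A j).left))
  have : Surjective v.left := ⟨fun z => by
    obtain ⟨j, a, rfl⟩ := hs z
    exact ⟨(c j).left a, by rw [← Scheme.Hom.comp_apply, ← Over.comp_left, hcv]⟩⟩
  have : Flat v.left := IsZariskiLocalAtSource.of_openCover (P := @Flat) (sigmaOpenCover fun j => (A j).left)
    fun j => by
      show Flat ((c j).left ≫ v.left)
      rw [← Over.comp_left, hcv]; exact he j
  have hP : IsAlgSpace (pullback f k) :=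
    Groth.L24.St.isAlgSpace_pullback hX (IsAlgSpace.yon_obj Z) hY _ _
  have sqF := IsPullback.of_hasPullback (pullback.snd f k) ((yon S).map v)
  choose φ hφ using fun j => exists_refine_square sq k ((yon S).map (e j)) (i j) (l j) (hl j)
  let m : ∀ j, (yon S).obj (W j) ⟶ pullback (pullback.snd f k) ((yon S).map v) := fun j =>
    sqF.lift ((sqW j).isoPullback.hom ≫ φ j) ((yon S).map (w j ≫ c j)) (by
      rw [Category.assoc, (hφ j).w, reassoc_of% (sqW j).isoPullback_hom_snd, ← Functor.map_comp, ← Functor.map_comp,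
        Category.assoc, hcv])
  have sqm : ∀ j, IsPullback (m j) ((yon S).map (w j))
      (pullback.snd (pullback.snd f k) ((yon S).map v)) ((yon S).map (c j)) := fun j => by
    refine IsPullback.of_right ?_ (by rw [sqF.lift_snd, Functor.map_comp]) sqF
    rw [sqF.lift_fst, ← Functor.map_comp, hcv]
    exact (hφ j).of_iso (sqW j).isoPullback.symm (Iso.refl _) (Iso.refl _) (Iso.refl _)
      (by rw [Iso.refl_hom, Category.comp_id, Iso.symm_hom, Iso.inv_hom_id_assoc])
      (by rw [Iso.refl_hom, Category.comp_id, Iso.symm_hom, IsPullback.isoPullback_inv_snd]) (by simp) (by simp)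
  have := hW
  obtain ⟨G, π, θ, hθ, hθq, hG⟩ := exists_scheme_of_sigma A c hcov'
    (fun a b x y e => congrArg Sigma.fst ((sigmaι_eq_iff (fun j => (A j).left) _ _ _ _).1 e))
    (pullback.snd (pullback.snd f k) ((yon S).map v)) W w m sqm (Q := fun X => X.IsQuasiAffine) (isQuasiAffine_sigma _)
  have sqG : IsPullback (θ ≫ pullback.fst _ _) ((yon S).map π) (pullback.snd f k) ((yon S).map v) :=
    sqF.of_iso (asIso θ).symm (Iso.refl _) (Iso.refl _) (Iso.refl _) (by simp) (by simp [← hθq]) (by simp)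
      (by simp)
  obtain ⟨T, kk, t, hT, hkk, hkt⟩ := exists_quasiAffine_of_fpqc_cover hP v sqG
  exact ⟨T, t, inv kk ≫ pullback.fst f k, (IsPullback.of_hasPullback f k).of_iso (asIso kk) (Iso.refl _) (Iso.refl _)
    (Iso.refl _) (by simp) (by simp [hkt]) (by simp) (by simp), hT⟩

/-- Quasi-affine morphisms are representable. -/
theorem representable_of_isQuasiAffineMor {X Y : Sp S} {f : X ⟶ Y} (h : IsQuasiAffineMor f) : Representable f :=
  representable_of_affine f fun _ hZ g => by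
    obtain ⟨W, i, fst, sW, -⟩ := h hZ g
    exact ⟨W, i, fst, sW⟩

theorem isQuasiAffineMor_of_qcImmersion {X Y : Sp S} {f : X ⟶ Y}
    (h : RepWith (@IsImmersion ⊓ @QuasiCompact) f) : IsQuasiAffineMor f := by
  intro Z hZ g
  obtain ⟨h₁, h₂⟩ := repWith_snd h g
  have : CompactSpace (h.1.pullback g).left := QuasiCompact.compactSpace_of_compactSpace (h.1.snd g).left
  exact ⟨_, h.1.snd g, h.1.fst g, h.1.isPullback g, Scheme.IsQuasiAffine.of_isImmersion (h.1.snd g).left⟩

theorem isLocalOnBase_fpqc_qcImmersion :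
    IsLocalOnBase (S := S) IsFpqcCover (RepWith (@IsImmersion ⊓ @QuasiCompact)) := by
  intro ι Y Yi g hY hYi hcov X f hX Xi p q hXi sq
  have := descendsAlong_qcImmersion.{u}
  refine ⟨fun h i => repWith_of_isPullback (sq i) h, fun h => ?_⟩
  have ha := (isLocalOnBase_fpqc_quasiAffine Yi g hY hYi hcov f hX Xi p q hXi sq).2
    fun i => isQuasiAffineMor_of_qcImmersion (h i)
  exact repWith_of_fpqcCover hcov (representable_of_isQuasiAffineMor ha) sq h

end Groth.L23
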