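import Groth.Agent.L23.RelSpec.VecBundle
import Groth.Agent.L23.RelSpec.AffineLim
import Groth.Agent.L23.FpqcQuasiAffine
import Groth.Agent.L23.ImmersionBC
import Groth.Agent.L22.AffineDescent

/-!
# The affine hull of a quasi-affine morphism of algebraic spaces
-/

universe u

open CategoryTheory CategoryTheory.Limits AlgebraicGeometry Opposite AlgSp

set_option autoImplicit false
set_option linter.style.haveILetI false
set_option backward.isDefEq.respectTransparency false
set_option backward.isDefEq.respectTransparency.types false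

noncomputable section

namespace Groth.L23.Hull

open Groth.L23.Norm Groth.L23.RelSpec

variable {S : Scheme.{u}} {F G : Sp S} {f : F ⟶ G}

/-- Pullbacks of quasi-affine morphisms to affine schemes are quasi-affine. -/
theorem isQuasiAffine_pullback (hqa : IsQuasiAffineMor f) {Z : Over S} (hZ : IsAffine Z.left) {g : (yon S).obj Z ⟶ G}
    {W : Over S} {i : W ⟶ Z} {fst : (yon S).obj W ⟶ F} (sq : IsPullback fst ((yon S).map i) f g) :
    W.left.IsQuasiAffine := by
  obtain ⟨W', i', fst', sq', hW'⟩ := hqa hZ g
  haveI := hW'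
  obtain ⟨φ, hφ⟩ := (yon S).map_surjective (sq.isoIsPullback _ _ sq').hom
  haveI : IsIso ((yon S).map φ) := hφ ▸ inferInstance
  haveI : IsIso φ := isIso_of_fully_faithful (yon S) φ
  haveI : IsIso φ.left := inferInstanceAs (IsIso ((Over.forget S).map φ))
  haveI : CompactSpace W.left := QuasiCompact.compactSpace_of_compactSpace φ.left
  exact Scheme.IsQuasiAffine.of_isImmersion φ.left

variable (hf : Representable f)

/-- The transition maps of the charts of the source. -/
abbrev ω {c' c : Chart G} (r : Refine c' c) : hf.pullback c'.v ⟶ hf.pullback c.v :=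
  (EtOver.bcMap hf (objR r)).hom.left

theorem ω_snd {c' c : Chart G} (r : Refine c' c) : ω hf r ≫ hf.snd c.v = hf.snd c'.v ≫ r.a :=
  EtOver.bcMap_snd hf (objR r)

theorem ω_fst {c' c : Chart G} (r : Refine c' c) : (yon S).map (ω hf r) ≫ hf.fst c.v = hf.fst c'.v :=
  EtOver.map_bcMap_fst hf (objR r)

theorem ω_comp {c'' c' c : Chart G} (r : Refine c'' c') (s : Refine c' c) : ω hf (r.comp s) = ω hf r ≫ ω hf s := by
  refine hf.hom_ext ?_ ?_
  · rw [ω_fst, Functor.map_comp, Category.assoc, ω_fst, ω_fst]
  · rw [ω_snd, Category.assoc, ω_snd, ← Category.assoc, ω_snd, Category.assoc]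
    rfl

theorem isPullback_ω {c' c : Chart G} (r : Refine c' c) :
    IsPullback (ω hf r) (hf.snd c'.v) (hf.snd c.v) r.a := by
  refine IsPullback.of_map (yon S) (ω_snd hf r) ?_
  refine IsPullback.of_right ?_ (by rw [← Functor.map_comp, ω_snd, Functor.map_comp]) (hf.isPullback c.v)
  rw [ω_fst, r.fac]
  exact hf.isPullback c'.v

variable (hqa : IsQuasiAffineMor f)

include hqa in
theorem isQuasiAffine_chart (c : Chart G) : (hf.pullback c.v).left.IsQuasiAffine :=
  isQuasiAffine_pullback hqa c.aff (hf.isPullback c.v)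

/-- The functions on the charts of the source. -/
def hullData : AlgData G where
  A c := Γ((hf.pullback c.v).left, ⊤)
  str c := (hf.snd c.v).left.appTop
  map r := (ω hf r).left.appTop
  isPushout {c' c} r := by
    haveI := isQuasiAffine_chart hf hqa c
    haveI := r.etale
    exact Groth.L22.AffDesc.isPushout_appTop ((isPullback_ω hf r).map (Over.forget S))
  map_comp r s := by rw [ω_comp, Over.comp_left, Scheme.Hom.comp_appTop]

/-- The map of a chart of the source to the affine hull. -/
def toHull (c : Chart G) : hf.pullback c.v ⟶ (hullData hf hqa).spec c :=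
  Over.homMk (hf.pullback c.v).left.toSpecΓ (by
    show (hf.pullback c.v).left.toSpecΓ ≫ Spec.map (hf.snd c.v).left.appTop ≫ c.V.left.isoSpec.inv ≫ c.V.hom = _
    rw [← Scheme.toSpecΓ_naturality_assoc, show c.V.left.toSpecΓ = c.V.left.isoSpec.hom from
      (Scheme.isoSpec_hom c.V.left).symm, Iso.hom_inv_id_assoc]
    exact Over.w (hf.snd c.v))

theorem toHull_proj (c : Chart G) : toHull hf hqa c ≫ (hullData hf hqa).proj c = hf.snd c.v := by
  refine Over.OverMorphism.ext ?_
  show (hf.pullback c.v).left.toSpecΓ ≫ Spec.map (hf.snd c.v).left.appTop ≫ c.V.left.isoSpec.inv = _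
  rw [← Scheme.toSpecΓ_naturality_assoc, show c.V.left.toSpecΓ = c.V.left.isoSpec.hom from
      (Scheme.isoSpec_hom c.V.left).symm, Iso.hom_inv_id, Category.comp_id]

theorem toHull_natural {c' c : Chart G} (r : Refine c' c) :
    ω hf r ≫ toHull hf hqa c = toHull hf hqa c' ≫ (hullData hf hqa).specMap r := by
  refine Over.OverMorphism.ext ?_
  show (ω hf r).left ≫ (hf.pullback c.v).left.toSpecΓ =
    (hf.pullback c'.v).left.toSpecΓ ≫ Spec.map (ω hf r).left.appTop
  exact Scheme.toSpecΓ_naturality _

include hf hqa in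
/-- A quasi-affine morphism factors as an open immersion into a space which is affine over the target. -/
theorem exists_hull (hF : IsAlgSpace F) (hG : IsAlgSpace G) (hGqc : IsQuasiCompactSp G) :
    ∃ (A : Sp S) (k : F ⟶ A) (q : A ⟶ G), IsAlgSpace A ∧ RepWith @IsAffineHom q ∧
      RepWith @IsOpenImmersion k ∧ k ≫ q = f := by
  let B := hullData hf hqa
  obtain ⟨n, hn, -, hnk⟩ := exists_glued B.toData
  let e : ∀ c : Chart G, pullback f c.v ≅ (yon S).obj (hf.pullback c.v) := fun c =>
    (IsPullback.of_hasPullback f c.v).isoIsPullback _ _ (hf.isPullback c.v)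
  obtain ⟨k, hk, hsq⟩ := exists_map_glued f B.toData (fun c => (e c).hom ≫ (yon S).map (toHull hf hqa c))
    (fun c => by
      show ((e c).hom ≫ (yon S).map (toHull hf hqa c)) ≫ (yon S).map (B.proj c) = _
      rw [Category.assoc, ← Functor.map_comp, toHull_proj]
      exact IsPullback.isoIsPullback_hom_snd _ _ _ _)
    (fun {c' c} r => by
      show _ ≫ (e c).hom ≫ (yon S).map (toHull hf hqa c) =
        ((e c').hom ≫ (yon S).map (toHull hf hqa c')) ≫ (yon S).map (B.specMap r)
      rw [Category.assoc, ← Functor.map_comp, ← toHull_natural, Functor.map_comp, ← Category.assoc, ← Category.assoc]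
      congr 1
      refine (hf.isPullback c.v).hom_ext ?_ ?_
      · rw [Category.assoc, IsPullback.isoIsPullback_hom_fst, Category.assoc, pullback.lift_fst, Category.comp_id,
          ω_fst, IsPullback.isoIsPullback_hom_fst]
      · rw [Category.assoc, IsPullback.isoIsPullback_hom_snd, Category.assoc, pullback.lift_snd, ← Functor.map_comp,
          ω_snd, Functor.map_comp, ← Category.assoc, IsPullback.isoIsPullback_hom_snd])
    hn hnk
  have hA : IsAlgSpace B.relSpec := B.isAlgSpace hG
  obtain ⟨U, p, hU, hp, hps⟩ := Qs.exists_affine_atlas hG hGqc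
  let c : Chart G := { V := U, aff := hU, v := p, etale := hp }
  haveI := isQuasiAffine_chart hf hqa c
  refine ⟨_, k, B.relProj, hA, Groth.L23.isAffineMor_iff.1 (B.isAffineMor_relProj hG),
    ImmBC.repWith_of_etale_base_change _ (Or.inr (Or.inl rfl)) hF hA (repWith_of_isPullback (hn c).flip hp)
      (repWith_of_isPullback (hn c).flip hps)
      (fst := hf.fst c.v) ((hsq c).of_iso (e c) (Iso.refl _) (Iso.refl _) (Iso.refl _) ?_ ?_ (by simp) (by simp))
      (repWith_map (show IsOpenImmersion (toHull hf hqa c).left from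
        inferInstanceAs (IsOpenImmersion (hf.pullback c.v).left.toSpecΓ))), hk⟩
  · rw [Iso.refl_hom, Category.comp_id]
    exact (IsPullback.isoIsPullback_hom_fst _ _ _ _).symm
  · rw [Iso.refl_hom, Category.comp_id]

end Groth.L23.Hull
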