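import Groth.Agent.L23.RedInd
import Groth.Agent.L23.Decent2
import Groth.Prelude.Def_AlgSpDec

/-!
# Integral closed subspaces
-/

universe u

open CategoryTheory CategoryTheory.Limits AlgebraicGeometry AlgSp TopologicalSpace

set_option autoImplicit false
set_option linter.style.haveILetI false
set_option backward.isDefEq.respectTransparency.types false

namespace Groth.L23

theorem isEmbedding_map_of_closedImmersion {S : Scheme.{u}} {X Z : Sp S} {i : Z ⟶ X}
    (hi : RepWith @IsClosedImmersion i) : Topology.IsClosedEmbedding (Points.map i) := by
  refine Topology.IsClosedEmbedding.of_continuous_injective_isClosedMap (Points.continuous_map i)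
    (injective_map_of_repWith (repWith_mono (Q := (@UniversallyInjective : MorphismProperty Scheme.{u}))
      (fun f (hf : IsClosedImmersion f) => (inferInstance : UniversallyInjective f)) hi)) ?_
  refine isClosedMap_map_of_representable hi.1 fun _ g => ?_
  haveI : IsClosedImmersion (hi.1.snd g).left := repWith_snd hi g
  exact (hi.1.snd g).left.isClosedEmbedding.isClosedMap

theorem exists_integral_subspace {S : Scheme.{u}} {X : Sp S} (hX : IsAlgSpace X) (hd : IsDecent X)
    {T : Set (Points X)} (hT : IsClosed T) (hTi : IsIrreducible T) :
    ∃ (Z : Sp S) (_ : IsAlgSpace Z) (i : Z ⟶ X), RepWith @IsClosedImmersion i ∧ IsIntegralSp Z ∧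
      Set.range (Points.map i) = T := by
  obtain ⟨Z, hZ, i, hi, hr, hred⟩ := exists_isRedInduced hX hT
  refine ⟨Z, hZ, i, hi, ⟨hred, Pt.isDecent_of_representable i hi.1 hd, ?_⟩, hr⟩
  have he := (isEmbedding_map_of_closedImmersion hi).isEmbedding.toHomeomorph
  haveI : IrreducibleSpace (Set.range (Points.map i)) :=
    Subtype.irreducibleSpace (hr ▸ hTi)
  exact (irreducibleSpace_def _).2 (by
    have := (IrreducibleSpace.isIrreducible_univ (Set.range (Points.map i))).image he.symm he.symm.continuous.continuousOn
    rwa [Set.image_univ, he.symm.surjective.range_eq] at this)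

end Groth.L23
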