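import Groth.Agent.L23.Alteration
import Groth.Agent.L23.IntegralSub
import Groth.Agent.L23.Decent3
import Groth.Agent.L23.MorCalc
import Groth.Agent.L23.Compact
import Groth.Agent.S10381
import Groth.Agent.S10423

/-!
# Every proper surjection onto an integral space contains an alteration
-/

universe u

open CategoryTheory CategoryTheory.Limits AlgebraicGeometry AlgSp Topology

set_option backward.isDefEq.respectTransparency.types false
set_option linter.style.haveILetI false

namespace Groth.L23.Alter

variable {S : Scheme.{u}}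

/-- The fibres of a quasi-compact morphism are compact. -/
theorem isCompact_fibre {X Y : Sp S} {f : X ⟶ Y} (hf : IsQuasiCompactMor f) (y : Points Y) :
    IsCompact (Points.map f ⁻¹' {y}) := by
  obtain ⟨q, -, hq⟩ := exists_eq_ofPt_field y
  have : Unique ↥q.pt.left := inferInstanceAs (Unique (PrimeSpectrum q.K))
  have hr : Set.range (Points.map q.toHom) = {y} := by
    rw [range_map_yon, Set.range_unique, ← hq]
    exact congrArg (fun s => {Points.ofPt q.toHom s}) (Subsingleton.elim _ _)
  have sq := IsPullback.of_hasPullback f q.toHom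
  rw [← hr, ← range_fst_of_isPullback sq]
  have := compactSpace_of_qcSp (hf (IsAlgSpace.yon_obj q.pt) isQuasiCompactSp_of_compactSpace q.toHom _ _ sq)
  exact isCompact_range (Points.continuous_map _)

theorem isProperMor_closed_comp {X Y Z : Sp S} (hX : IsAlgSpace X) (hY : IsAlgSpace Y) (hZ : IsAlgSpace Z)
    {i : Z ⟶ X} {f : X ⟶ Y} (hi : RepWith @IsClosedImmersion i) (hf : IsProperMor f) : IsProperMor (i ≫ f) :=
  isProperMor_comp hZ hX hY (isProperMor_of_repWith (repWith_mono
    (fun φ (_ : IsClosedImmersion φ) => inferInstanceAs (IsProper φ)) hi)) hf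

theorem exists_alteration {X Y : Space S} (f : X ⟶ Y) (hf : IsProperMor f.hom) (hs : IsSurjectiveMor f.hom)
    (hY : IsIntegralSp Y.obj) :
    ∃ (X' : Space S) (i : X' ⟶ X), RepWith @IsClosedImmersion i.hom ∧ IsIntegralSp X'.obj ∧
      IsProperMor (i ≫ f).hom ∧ IsDominantMor (i ≫ f).hom ∧
      ∃ (V : Space S) (j : V ⟶ Y), RepWith @IsOpenImmersion j.hom ∧ Nonempty (Points V.obj) ∧
        ∀ (P : Space S) (fst : P ⟶ V) (snd : P ⟶ X'), IsPullback fst.hom snd.hom j.hom (i ≫ f).hom →
          IsFiniteMor fst.hom := by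
  obtain ⟨y, hy⟩ := IntSp.exists_genericPoint Y.property hY.2.1 hY.2.2
  have hqs : IsQuasiSeparatedMor f.hom :=
    repWith_mono (fun φ (_ : IsClosedImmersion φ) => inferInstanceAs (QuasiCompact φ)) hf.1
  have hdX : IsDecent X.obj := Groth.Agent.S10381.result f ((Groth.Agent.S10423.result f).2 hqs) hY.2.1
  let F : Set (Points X.obj) := Points.map f.hom ⁻¹' {y}
  have hFc : IsCompact F := isCompact_fibre hf.2.1.2 y
  have : CompactSpace F := isCompact_iff_compactSpace.1 hFc
  have : T0Space (Points X.obj) := Pt.t0Space_of_isDecent X.property hdX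
  have : Nonempty F := by
    obtain ⟨x, hx⟩ := hs y
    exact ⟨⟨x, hx⟩⟩
  obtain ⟨⟨x, hxy⟩, -, hxc⟩ := IsClosed.exists_closed_singleton (isClosed_univ (X := F)) Set.univ_nonempty
  obtain ⟨Z, hZ, i, hi, hZi, hr⟩ := exists_integral_subspace X.property hdX (T := closure {x}) isClosed_closure
    isIrreducible_singleton.closure
  let X' : Space S := ⟨Z, hZ⟩
  let i' : X' ⟶ X := ObjectProperty.homMk i
  have hp : IsProperMor (i' ≫ f).hom := isProperMor_closed_comp X.property Y.property hZ hi hf
  obtain ⟨z, hz⟩ : x ∈ Set.range (Points.map i) := hr ▸ subset_closure rfl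
  have hei := isEmbedding_map_of_closedImmersion hi
  have hzy : Points.map (i' ≫ f).hom z = y := by
    show Points.map (i ≫ f.hom) z = y
    rw [Points.map_comp, hz]; exact hxy
  have hzg : IsGenericPoint z (Set.univ : Set (Points Z)) := by
    show closure {z} = Set.univ
    rw [hei.isInducing.closure_eq_preimage_closure_image, Set.image_singleton, hz, ← hr, Set.preimage_range]
  have hdom : IsDominantMor (i' ≫ f).hom := by
    show DenseRange (Points.map (i' ≫ f).hom)
    rw [DenseRange, dense_iff_closure_eq]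
    refine Set.eq_univ_of_univ_subset (hy.symm.le.trans (closure_mono ?_))
    rintro _ rfl
    exact ⟨z, hzy⟩
  refine ⟨X', i', hi, hZi, hp, hdom, (alteration_iff hZi hY (i' ≫ f) hp.2.1.1 hdom hzg hy hp).2 fun x' hx' => ?_⟩
  refine hei.injective (hz.symm ▸ ?_)
  have h1 : Points.map i x' ∈ closure {x} := hr ▸ ⟨x', rfl⟩
  have h2 : Points.map i x' ∈ F := by
    show Points.map f.hom (Points.map i x') = y
    rw [← Points.map_comp]; exact hx'
  have h3 : (⟨_, h2⟩ : F) ∈ closure ({⟨x, hxy⟩} : Set F) := by
    rw [IsInducing.subtypeVal.closure_eq_preimage_closure_image, Set.image_singleton]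
    exact h1
  rw [hxc.closure_eq] at h3
  exact congrArg Subtype.val h3

end Groth.L23.Alter
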