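import Groth.Agent.L23.CodimOne

/-!
# Fibres over points of codimension zero
-/

universe u

open CategoryTheory CategoryTheory.Limits AlgebraicGeometry AlgSp Topology

set_option backward.isDefEq.respectTransparency.types false
set_option linter.style.haveILetI false

namespace Groth.L23.CodimZero

variable {U V : Scheme.{u}} (h : U ⟶ V) [LocallyOfFiniteType h] (u : U)

theorem isOpen_asFiber (H : QFL.qfAt U V h u) : IsOpen ({h.asFiber u} : Set (h.fiber (h u))) := by
  rwa [QFL.qfAt_iff_quasiFiniteAt, Scheme.Hom.quasiFiniteAt_iff_isOpen_singleton_asFiber] at H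

theorem isClosed_asFiber (H : QFL.qfAt U V h u) : IsClosed ({h.asFiber u} : Set (h.fiber (h u))) := by
  have : LocallyOfFiniteType (h.fiberToSpecResidueField (h u)) :=
    MorphismProperty.pullback_snd _ _ ‹LocallyOfFiniteType h›
  have : JacobsonSpace (h.fiber (h u)) := LocallyOfFiniteType.jacobsonSpace (h.fiberToSpecResidueField (h u))
  obtain ⟨z, hz, hcl⟩ := nonempty_inter_closedPoints (Z := ({h.asFiber u} : Set (h.fiber (h u)))) ⟨_, rfl⟩
    (isOpen_asFiber h u H).isLocallyClosed
  rw [Set.mem_singleton_iff] at hz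
  exact hz ▸ hcl

theorem exists_preimage {u' : U} (e : h u' = h u) : ∃ z, h.fiberι (h u) z = u' := by
  have : u' ∈ Set.range (h.fiberι (h u)) := by rw [h.range_fiberι]; exact e
  exact this

theorem eq_of_qf_of_gen (H : QFL.qfAt U V h u) {u' : U} (hs : u' ⤳ u) (e : h u' = h u) : u' = u := by
  obtain ⟨z, hz⟩ := exists_preimage h u e
  have hs' : z ⤳ h.asFiber u := (h.fiberι (h u)).isEmbedding.isInducing.specializes_iff.mp (by
    rw [hz, h.fiberι_asFiber]; exact hs)
  have : z = h.asFiber u := hs'.mem_open (isOpen_asFiber h u H) rfl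
  rw [← hz, this, h.fiberι_asFiber]

theorem eq_of_qf_of_spec (H : QFL.qfAt U V h u) {u' : U} (hs : u ⤳ u') (e : h u' = h u) : u' = u := by
  obtain ⟨z, hz⟩ := exists_preimage h u e
  have hs' : h.asFiber u ⤳ z := (h.fiberι (h u)).isEmbedding.isInducing.specializes_iff.mp (by
    rw [hz, h.fiberι_asFiber]; exact hs)
  have : z = h.asFiber u := hs'.mem_closed (isClosed_asFiber h u H) rfl
  rw [← hz, this, h.fiberι_asFiber]

theorem qfAt_of_forall_maximal (H : ∀ u', h u' = h u → ∀ q, q ⤳ u' → q = u') : QFL.qfAt U V h u := by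
  have : LocallyOfFiniteType (h.fiberToSpecResidueField (h u)) :=
    MorphismProperty.pullback_snd _ _ ‹LocallyOfFiniteType h›
  have := LocallyOfFiniteType.isLocallyNoetherian (h.fiberToSpecResidueField (h u))
  rw [QFL.qfAt_iff_quasiFiniteAt, Scheme.Hom.quasiFiniteAt_iff_isOpen_singleton_asFiber]
  have hmem : ∀ z, h (h.fiberι (h u) z) = h u := fun z => by
    have : h.fiberι (h u) z ∈ Set.range (h.fiberι (h u)) := ⟨z, rfl⟩
    rw [h.range_fiberι] at this
    exact this
  have hcl : ∀ z : h.fiber (h u), IsClosed ({z} : Set (h.fiber (h u))) := fun z => by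
    rw [← closure_subset_iff_isClosed]
    intro w hw
    have hzw : z ⤳ w := specializes_iff_mem_closure.2 hw
    exact ((h.fiberι (h u)).isEmbedding.injective (H _ (hmem w) _ (hzw.map (h.fiberι (h u)).continuous))).symm
  refine DimPt.isOpen_of_isClosed_of_generalization (hcl _) fun {p q} hs hq => ?_
  rw [Set.mem_singleton_iff] at hq ⊢
  exact (hs.mem_closed (hcl p) rfl).symm.trans hq

theorem maximal_of_qf (hv : ∀ q, q ⤳ h u → q = h u) (H : QFL.qfAt U V h u) (q : U) (hq : q ⤳ u) : q = u :=
  eq_of_qf_of_gen h u H hq (hv _ (hq.map h.continuous))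

theorem maximal_of_maximal_qf (hv : ∀ q, q ⤳ h u → q = h u)
    (H : ∀ u', h u' = h u → (∀ q, q ⤳ u' → q = u') → QFL.qfAt U V h u') (q : U) (hq : q ⤳ u) : q = u := by
  obtain ⟨ξ, hξ, hξm⟩ := Groth.L07.Equidim.exists_maximal_generization q
  have e : h ξ = h u := hv _ ((hξ.trans hq).map h.continuous)
  have e₁ : u = ξ := eq_of_qf_of_spec h ξ (H ξ e hξm) (hξ.trans hq) e.symm
  subst e₁
  exact (eq_of_qf_of_spec h u (H u rfl hξm) hξ (hv _ (hq.map h.continuous)))

end Groth.L23.CodimZero
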