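import Groth.Agent.L23.CodimOne
import Groth.Agent.L23.Compact
import Mathlib.AlgebraicGeometry.Morphisms.UniversallyOpen
import Mathlib.AlgebraicGeometry.Noetherian

/-!
# Locally finitely many irreducible components
-/

universe u

open CategoryTheory CategoryTheory.Limits AlgebraicGeometry AlgSp Topology TopologicalSpace

set_option backward.isDefEq.respectTransparency.types false
set_option linter.style.haveILetI false

namespace Groth.L23.LFC

/-- The points without proper generization. -/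
def maxPts (A : Type*) [TopologicalSpace A] : Set A := {x | ∀ q, q ⤳ x → q = x}

theorem finite_irr_iff (U : Scheme.{u}) : (irreducibleComponents U).Finite ↔ (maxPts U).Finite := by
  have e : maxPts U = genericPoints U := by
    ext x
    exact (Groth.L07.EquidimQF.closure_singleton_mem_irreducibleComponents_iff x).symm
  rw [e, ← Set.finite_coe_iff, ← Set.finite_coe_iff]
  exact genericPoints.equiv.finite_iff.symm

theorem maxPts_opens {U : Scheme.{u}} (W : U.Opens) :
    W.ι '' maxPts (W : Scheme.{u}) = maxPts U ∩ W := by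
  ext x
  constructor
  · rintro ⟨w, hw, rfl⟩
    refine ⟨fun q hq => ?_, w.2⟩
    have hqW : q ∈ W := hq.mem_open W.2 w.2
    exact congrArg Subtype.val (hw ⟨q, hqW⟩ (W.ι.isEmbedding.isInducing.specializes_iff.mp hq))
  · rintro ⟨hx, hxW⟩
    exact ⟨⟨x, hxW⟩, fun q hq => Subtype.ext (hx _ (hq.map W.ι.continuous)), rfl⟩

theorem finite_irr_opens_iff {U : Scheme.{u}} (W : U.Opens) :
    (irreducibleComponents ↥W).Finite ↔ (maxPts U ∩ W).Finite := by
  rw [← maxPts_opens W, Set.finite_image_iff W.ι.isEmbedding.injective.injOn]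
  exact finite_irr_iff (W : Scheme.{u})

/-- Locally finitely many irreducible components. -/
def LFin (U : Scheme.{u}) : Prop :=
  ∀ W : U.Opens, IsCompact (W : Set U) → (irreducibleComponents ↥W).Finite

theorem map_maxPts {U V : Scheme.{u}} (h : U ⟶ V) [Flat h] {u : U} (hu : u ∈ maxPts U) :
    h u ∈ maxPts V := by
  intro q hq
  obtain ⟨u', hu', e⟩ := Flat.generalizingMap h hq
  rw [← e, hu u' hu']

theorem finite_maxPts_of_isNoetherian (U : Scheme.{u}) [CompactSpace U] [IsLocallyNoetherian U] :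
    (maxPts U).Finite := by
  haveI : AlgebraicGeometry.IsNoetherian U := ⟨⟩
  exact (finite_irr_iff U).1 NoetherianSpace.finite_irreducibleComponents

theorem lfin_of_flat_lft {U V : Scheme.{u}} (h : U ⟶ V) [Flat h] [LocallyOfFiniteType h]
    (hV : LFin V) : LFin U := by
  intro W hW
  rw [finite_irr_opens_iff]
  have key : ∀ u ∈ (W : Set U), ∃ B : U.Opens, u ∈ B ∧ (maxPts U ∩ B).Finite := by
    intro u hu
    obtain ⟨A, hA, huA, -⟩ := exists_isAffineOpen_mem_and_subset (x := h u) (U := ⊤) trivial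
    obtain ⟨B, hB, huB, hBA⟩ := exists_isAffineOpen_mem_and_subset (x := u) (U := h ⁻¹ᵁ A) huA
    refine ⟨B, huB, ?_⟩
    haveI : IsAffine (A : Scheme.{u}) := hA
    haveI : IsAffine (B : Scheme.{u}) := hB
    let g := h.resLE A B hBA
    haveI : LocallyOfFiniteType g := by
      have : LocallyOfFiniteType (g ≫ A.ι) := by
        rw [Scheme.Hom.resLE_comp_ι]; infer_instance
      exact locallyOfFiniteType_of_comp g A.ι
    haveI : QuasiCompact g := inferInstance
    have hfib : ∀ v : (A : Scheme.{u}), (maxPts U ∩ B ∩ h ⁻¹' {A.ι v}).Finite := by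
      intro v
      haveI : LocallyOfFiniteType (g.fiberToSpecResidueField v) :=
        MorphismProperty.pullback_snd _ _ ‹LocallyOfFiniteType g›
      haveI : QuasiCompact (g.fiberToSpecResidueField v) :=
        MorphismProperty.pullback_snd _ _ ‹QuasiCompact g›
      haveI := LocallyOfFiniteType.isLocallyNoetherian (g.fiberToSpecResidueField v)
      haveI : CompactSpace (g.fiber v) :=
        QuasiCompact.compactSpace_of_compactSpace (g.fiberToSpecResidueField v)
      refine ((finite_maxPts_of_isNoetherian (g.fiber v)).image (g.fiberι v ≫ B.ι)).subset ?_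
      rintro x ⟨⟨hx, hxB⟩, hxv⟩
      have hx' : (⟨x, hxB⟩ : (B : Scheme.{u})) ∈ Set.range (g.fiberι v) := by
        rw [g.range_fiberι]
        refine A.ι.isEmbedding.injective ?_
        rw [← Scheme.Hom.comp_apply, Scheme.Hom.resLE_comp_ι, Scheme.Hom.comp_apply]
        exact hxv
      obtain ⟨z, hz⟩ := hx'
      refine ⟨z, fun q hq => ?_, by rw [Scheme.Hom.comp_apply, hz]; rfl⟩
      have h1 := hx _ ((hq.map (g.fiberι v).continuous).map B.ι.continuous |>.trans (specializes_of_eq (by
        rw [hz]; rfl)))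
      exact (g.fiberι v).isEmbedding.injective (B.ι.isEmbedding.injective (h1.trans (by rw [hz]; rfl)))
    refine Set.Finite.subset (Set.Finite.biUnion
      ((finite_irr_opens_iff A).1 (hV A hA.isCompact)) (t := fun v => maxPts U ∩ B ∩ h ⁻¹' {v}) ?_) ?_
    · rintro v ⟨-, hvA⟩
      exact hfib ⟨v, hvA⟩
    · rintro x ⟨hx, hxB⟩
      exact Set.mem_biUnion (x := h x) ⟨map_maxPts h hx, hBA hxB⟩ ⟨⟨hx, hxB⟩, rfl⟩
  choose B hB hBf using key
  obtain ⟨t, ht⟩ := hW.elim_finite_subcover (fun u : (W : Set U) => (B u.1 u.2 : Set U))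
    (fun u => (B u.1 u.2).2) (fun u hu => Set.mem_iUnion.2 ⟨⟨u, hu⟩, hB u hu⟩)
  refine (t.finite_toSet.biUnion fun u _ => hBf u.1 u.2).subset fun x hx => ?_
  obtain ⟨u, hut, hxu⟩ := Set.mem_iUnion₂.1 (ht hx.2)
  exact Set.mem_biUnion hut ⟨hx.1, hxu⟩

theorem lfin_of_surjective {U V : Scheme.{u}} (h : U ⟶ V) [Surjective h] (ho : IsOpenMap h)
    (hU : LFin U) : LFin V := by
  intro W hW
  rw [finite_irr_opens_iff]
  have key : ∀ v ∈ (W : Set V), ∃ B : U.Opens, v ∈ h '' (B : Set U) ∧ (maxPts U ∩ B).Finite := by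
    intro v _
    obtain ⟨u, rfl⟩ := h.surjective v
    obtain ⟨B, hB, huB, -⟩ := exists_isAffineOpen_mem_and_subset (x := u) (U := ⊤) trivial
    exact ⟨B, ⟨u, huB, rfl⟩, (finite_irr_opens_iff B).1 (hU B hB.isCompact)⟩
  choose B hB hBf using key
  obtain ⟨t, ht⟩ := hW.elim_finite_subcover (fun v : (W : Set V) => h '' (B v.1 v.2 : Set U))
    (fun v => ho _ (B v.1 v.2).2) (fun v hv => Set.mem_iUnion.2 ⟨⟨v, hv⟩, hB v hv⟩)
  refine ((t.finite_toSet.biUnion fun v _ => hBf v.1 v.2).image h).subset fun x hx => ?_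
  obtain ⟨v, hvt, w, hw, rfl⟩ := Set.mem_iUnion₂.1 (ht hx.2)
  obtain ⟨w', hw', hm⟩ := Groth.L07.Equidim.exists_maximal_generization w
  exact ⟨w', Set.mem_biUnion hvt ⟨hm, hw'.mem_open (B v.1 v.2).2 hw⟩, hx.1 _ (hw'.map h.continuous)⟩

variable {S : Scheme.{u}} {X Y : Sp S}

theorem lfin_chart (hX : EtaleLocally LFin X) {U : Over S} (a : (yon S).obj U ⟶ X)
    (ha : RepWith @Etale a) : LFin U.left := by
  obtain ⟨U₀, p, hp, hps, h₀⟩ := hX
  obtain ⟨R, r₁, r₂, sR⟩ : ∃ (R : Over S) (r₁ : R ⟶ U) (r₂ : R ⟶ U₀),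
      IsPullback ((yon S).map r₁) ((yon S).map r₂) a p :=
    exists_isPullback_of_representable ha.1 p
  haveI : Etale r₂.left := repWith_prop ha sR
  haveI : Etale r₁.left := repWith_prop hp sR.flip
  haveI : Surjective r₁.left := repWith_prop hps sR.flip
  exact lfin_of_surjective r₁.left r₁.left.isOpenMap (lfin_of_flat_lft r₂.left h₀)

theorem finite_components_of_surjective {A B : Type*} [TopologicalSpace A] [TopologicalSpace B]
    {f : A → B} (hf : Continuous f) (hs : Function.Surjective f) (h : (irreducibleComponents A).Finite) :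
    (irreducibleComponents B).Finite := by
  classical
  refine (h.image fun Z => closure (f '' Z)).subset fun C hC => ?_
  obtain ⟨_, ht, hsub⟩ := isIrreducible_iff_sUnion_isClosed.1 hC.1 (h.toFinset.image fun Z => closure (f '' Z))
    (fun t ht => by
      obtain ⟨Z, -, rfl⟩ := Finset.mem_image.1 ht
      exact isClosed_closure)
    (fun b _ => by
      obtain ⟨a, rfl⟩ := hs b
      exact ⟨_, Finset.mem_coe.2 (Finset.mem_image.2 ⟨irreducibleComponent a,
        h.mem_toFinset.2 (irreducibleComponent_mem_irreducibleComponents a), rfl⟩),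
        subset_closure ⟨a, mem_irreducibleComponent, rfl⟩⟩)
  obtain ⟨Z, hZ, rfl⟩ := Finset.mem_image.1 ht
  have hZ' := h.mem_toFinset.1 hZ
  exact ⟨Z, hZ', (hC.2 ((hZ'.1.image f hf.continuousOn).closure) hsub).antisymm hsub⟩

end Groth.L23.LFC
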