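import Groth.Agent.L23.QuotRestrict
import Groth.Agent.L23.ImmersionBC
import Groth.Agent.L23.LocP
import Groth.Agent.L23.Epi
import Groth.Agent.L24.Boot.QuotRep

/-!
# The subspace of an algebraic space defined by an invariant immersion into an atlas
-/

universe u

open CategoryTheory CategoryTheory.Limits AlgebraicGeometry Opposite AlgSp

set_option autoImplicit false
set_option backward.isDefEq.respectTransparency false
set_option backward.isDefEq.respectTransparency.types false

namespace Groth.L23

variable {S : Scheme.{u}}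

/-- Descent of a section of a subsheaf along an epimorphism. -/
theorem exists_factor_of_epi_of_mono {A B C D : Sp S} (e : A ⟶ B) [Epi e] (m : C ⟶ D) [Mono m] (b : B ⟶ D)
    (a : A ⟶ C) (h : a ≫ m = e ≫ b) : ∃ c : B ⟶ C, c ≫ m = b := by
  obtain ⟨hc⟩ := nonempty_isColimit_cofork e (IsPullback.of_hasPullback e e)
  have hdesc : pullback.fst e e ≫ a = pullback.snd e e ≫ a := by
    rw [← cancel_mono m, Category.assoc, Category.assoc, h, pullback.condition_assoc]
  refine ⟨hc.desc (Cofork.ofπ a hdesc), ?_⟩
  rw [← cancel_epi e, ← h, ← Category.assoc]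
  exact congrArg (· ≫ m) (hc.fac (Cofork.ofπ a hdesc) WalkingParallelPair.one)

variable {X : Sp S} {R U : Over S} {s t : R ⟶ U} {p : (yon S).obj U ⟶ X}

/-- The subspace cut out by an invariant immersion into the atlas. -/
theorem exists_subspace_of_invariant (hX : IsAlgSpace X) (hp : IsPresentation s t p)
    {Z' R' : Over S} (i' : Z' ⟶ U) [IsImmersion i'.left] (k : R' ⟶ R) (s' t' : R' ⟶ Z')
    (hs : IsPullback k s' s i') (ht : IsPullback k t' t i') :
    ∃ (Z : Sp S) (_ : IsAlgSpace Z) (i : Z ⟶ X) (q : (yon S).obj Z' ⟶ Z),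
      RepWith @IsImmersion i ∧ IsPullback q ((yon S).map i') i p ∧
      (IsClosedImmersion i'.left → RepWith @IsClosedImmersion i) ∧
      (IsOpenImmersion i'.left → RepWith @IsOpenImmersion i) := by
  haveI : Mono i' := by
    haveI : Mono i'.left := inferInstance
    exact Over.mono_of_mono_left i'
  haveI : Mono k := ⟨fun a b e => hs.hom_ext e (by
    rw [← cancel_mono i', Category.assoc, Category.assoc, ← hs.w, reassoc_of% e])⟩
  have hE := Groth.L24.Boot.isEqvRelSp_of_isEqvRel hp.eqvRel.toIsEqvRel
  let π := quotSpπ ((yon S).map s') ((yon S).map t')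
  haveI : Epi π := inferInstanceAs (Epi (coequalizer.π _ _))
  haveI : Mono ((yon S).map i') := inferInstance
  haveI : Mono ((yon S).map k) := inferInstance
  have hlift : ∀ (T : Over S) (a b : (yon S).obj T ⟶ (yon S).obj Z') (r : (yon S).obj T ⟶ (yon S).obj R),
      r ≫ (yon S).map t = a ≫ (yon S).map i' → r ≫ (yon S).map s = b ≫ (yon S).map i' →
      ∃ r' : (yon S).obj T ⟶ (yon S).obj R', r' ≫ (yon S).map t' = a ∧ r' ≫ (yon S).map s' = b := by
    intro T a b r hta hsb
    obtain ⟨m, hm₁, hm₂⟩ := (ht.map (yon S)).exists_lift r a hta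
    refine ⟨m, hm₂, ?_⟩
    rw [← cancel_mono ((yon S).map i'), Category.assoc, ← (hs.map (yon S)).w, reassoc_of% hm₁, hsb]
  have hwt : (yon S).map t' ≫ (yon S).map i' = (yon S).map k ≫ (yon S).map t := (ht.map (yon S)).w.symm
  have hws : (yon S).map s' ≫ (yon S).map i' = (yon S).map k ≫ (yon S).map s := (hs.map (yon S)).w.symm
  have hE' : IsEqvRelSp ((yon S).map s') ((yon S).map t') := by
    refine ⟨fun T r r' e₁ e₂ => (cancel_mono ((yon S).map k)).1 (hE.injective T _ _ ?_ ?_), fun T => ⟨fun a => ?_, ?_, ?_⟩⟩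
    · simp only [Category.assoc, ← hwt, reassoc_of% e₁]
    · simp only [Category.assoc, ← hws, reassoc_of% e₂]
    · obtain ⟨r, h₁, h₂⟩ := (hE.equivalence T).refl (a ≫ (yon S).map i')
      exact hlift T a a r h₁ h₂
    · rintro a b ⟨m, rfl, rfl⟩
      obtain ⟨r, h₁, h₂⟩ := (hE.equivalence T).symm (x := (m ≫ (yon S).map t') ≫ (yon S).map i')
        (y := (m ≫ (yon S).map s') ≫ (yon S).map i')
        ⟨m ≫ (yon S).map k, by simp only [Category.assoc, hwt], by simp only [Category.assoc, hws]⟩
      exact hlift T _ _ r h₁ h₂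
    · rintro a b c ⟨m, rfl, hm⟩ ⟨m', hm', rfl⟩
      obtain ⟨r, h₁, h₂⟩ := (hE.equivalence T).trans (x := (m ≫ (yon S).map t') ≫ (yon S).map i')
        (y := b ≫ (yon S).map i') (z := (m' ≫ (yon S).map s') ≫ (yon S).map i')
        ⟨m ≫ (yon S).map k, by simp only [Category.assoc, hwt], by rw [← hm]; simp only [Category.assoc, hws]⟩
        ⟨m' ≫ (yon S).map k, by rw [← hm']; simp only [Category.assoc, hwt],
          by simp only [Category.assoc, hws]⟩
      exact hlift T _ _ r h₁ h₂
  haveI htE : Etale t.left := hp.eqvRel.etale_right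
  have ht' : Etale t'.left := MorphismProperty.of_isPullback (P := @Etale) (ht.map (Over.forget S)) htE
  haveI := ht'
  have hZ : IsAlgSpace (quotSp ((yon S).map s') ((yon S).map t')) :=
    Groth.L24.Boot.isAlgSpace_of_kernelPair (Groth.L24.Boot.isPullback_quotSpπ hE') (IsAlgSpace.yon_obj R')
      (IsAlgSpace.yon_obj Z') (locP_of_repWith etLocal_flat (repWith_map (show Flat t'.left from inferInstance)))
      (locP_of_repWith etLocal_lfp (repWith_map (show LocallyOfFinitePresentation t'.left from inferInstance)))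
  haveI : Epi p := epi_of_repWith p hp.etale hp.surjective
  let θ := quotSpDesc p hp.isPullback.w.symm
  haveI : IsIso θ := by
    haveI : Epi (pullback.lift ((yon S).map t) ((yon S).map s) hp.isPullback.w : (yon S).obj R ⟶ pullback p p) := by
      have e : (pullback.lift ((yon S).map t) ((yon S).map s) hp.isPullback.w : (yon S).obj R ⟶ pullback p p) =
          hp.isPullback.isoPullback.hom := by
        apply pullback.hom_ext
        · exact (pullback.lift_fst _ _ _).trans hp.isPullback.isoPullback_hom_fst.symm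
        · exact (pullback.lift_snd _ _ _).trans hp.isPullback.isoPullback_hom_snd.symm
      rw [e]; infer_instance
    exact isIso_quotSpDesc p hp.isPullback.w.symm
  let c := (yon S).map i' ≫ quotSpπ ((yon S).map s) ((yon S).map t)
  have hcoeq : (yon S).map s' ≫ c = (yon S).map t' ≫ c := by
    simp only [c, reassoc_of% hws, reassoc_of% hwt]
    exact congrArg (_ ≫ ·) (quotSp_condition _ _)
  let ψ := quotSpDesc c hcoeq
  haveI : Mono ψ := QR.mono_of_restrict _ _ hE.equivalence hlift ψ (quotSpπ_desc _ _ c hcoeq)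
  let i := ψ ≫ θ
  haveI : Mono i := inferInstanceAs (Mono (ψ ≫ θ))
  have hi : π ≫ i = (yon S).map i' ≫ p := by
    show π ≫ ψ ≫ θ = _
    rw [quotSpπ_desc_assoc, Category.assoc, quotSpπ_desc]
  let l := pullback.lift π ((yon S).map i') hi
  haveI : IsIso l := Groth.L24.Boot.isIso_of_yon l
    (fun T x y e => by
      rw [← cancel_mono ((yon S).map i')]
      simpa [l, pullback.lift_snd] using congrArg (· ≫ pullback.snd i p) e)
    fun T z => by
      obtain ⟨T', e, b, _, _, _, hb⟩ := Groth.L24.Boot.exists_lift_of_epi π (z ≫ pullback.fst i p)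
      haveI := QR.epi_yon_map e
      have hba : (b ≫ (yon S).map i') ≫ p = ((yon S).map e ≫ z ≫ pullback.snd i p) ≫ p := by
        rw [Category.assoc, ← hi, reassoc_of% hb, Category.assoc, Category.assoc, pullback.condition]
      obtain ⟨r, hr₁, hr₂⟩ := hp.isPullback.exists_lift _ _ hba
      obtain ⟨m, hm₁, -⟩ := (ht.map (yon S)).exists_lift r b hr₁
      obtain ⟨c', hc'⟩ := exists_factor_of_epi_of_mono ((yon S).map e) ((yon S).map i')
        (z ≫ pullback.snd i p) (m ≫ (yon S).map s') (by rw [Category.assoc, hws, reassoc_of% hm₁, hr₂])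
      haveI : Mono (pullback.snd i p) := inferInstance
      refine ⟨c', (cancel_mono (pullback.snd i p)).1 ?_⟩
      rw [Category.assoc, pullback.lift_snd, hc']
  have sq : IsPullback π ((yon S).map i') i p :=
    (IsPullback.of_hasPullback i p).of_iso (asIso l).symm (Iso.refl _) (Iso.refl _) (Iso.refl _)
      (by simp [l, pullback.lift_fst]) (by simp [l, pullback.lift_snd]) (by simp) (by simp)
  exact ⟨_, hZ, i, π,
    ImmBC.repWith_of_etale_base_change _ (Or.inr (Or.inr rfl)) hZ hX hp.etale hp.surjective sq
      (repWith_map (P := @IsImmersion) inferInstance), sq,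
    fun h => ImmBC.repWith_of_etale_base_change _ (Or.inl rfl) hZ hX hp.etale hp.surjective sq
      (repWith_map (P := @IsClosedImmersion) h),
    fun h => ImmBC.repWith_of_etale_base_change _ (Or.inr (Or.inl rfl)) hZ hX hp.etale hp.surjective sq
      (repWith_map (P := @IsOpenImmersion) h)⟩

/-- A pullback square of schemes over `S`, from one of schemes. -/
theorem isPullback_over {A B C D : Over S} {f : A ⟶ B} {g : A ⟶ C} {h : B ⟶ D} {j : C ⟶ D}
    (sq : IsPullback f.left g.left h.left j.left) : IsPullback f g h j :=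
  IsPullback.of_map (Over.forget S) (Over.OverMorphism.ext sq.w) sq

end Groth.L23
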