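import Groth.Agent.L23.FibreBound
import Groth.Agent.L23.LocFinComp
import Groth.Agent.L23.Subspace
import Groth.Agent.L23.Decent
import Groth.Agent.L23.SchemeDecent

/-!
# Decent spaces with finitely many irreducible components
-/

universe u

open CategoryTheory CategoryTheory.Limits AlgebraicGeometry AlgSp Topology

set_option backward.isDefEq.respectTransparency.types false
set_option linter.style.haveILetI false

namespace Groth.L23.DecFin

variable {S : Scheme.{u}} {Z : Sp S}

/-- A quasi-compact field-valued point has finite fibres in affine etale charts. -/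
theorem finite_preimage (hZ : IsAlgSpace Z) {q : FieldPt Z} (hq : RepWith @QuasiCompact q.toHom) {U : Over S}
    [IsAffine U.left] {b : (yon S).obj U ⟶ Z} (hb : RepWith @Etale b) :
    (Points.ofPt b ⁻¹' {Points.mk q}).Finite := by
  obtain ⟨T, t₁, t₂, sT⟩ := exists_isPullback_of_representable (hZ.representable_from_yon q.toHom) b
  haveI : Etale t₁.left := repWith_prop hb sT.flip
  haveI : QuasiCompact t₂.left := repWith_prop hq sT
  haveI : CompactSpace T.left := QuasiCompact.compactSpace_of_compactSpace t₂.left
  let π : T.left ⟶ Spec (CommRingCat.of q.K) := t₁.left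
  haveI : Etale π := ‹Etale t₁.left›
  haveI : Finite T.left := Pt.finite_of_etale_field π
  refine (Set.finite_range t₂.left).subset fun w hw => ?_
  obtain ⟨τ, -, hτ⟩ := exists_point_of_isPullback sT (x := Points.ofScheme q.pt (IsLocalRing.closedPoint q.K))
    (u := w) (by rw [← Points.ofPt_eq_map_ofScheme, Points.ofPt_toHom]; exact hw.symm)
  exact ⟨τ, hτ⟩

/-- Over a point with quasi-compact representative, projections from products of charts have finite fibres. -/
theorem finite_fibre_of_qc (hZ : IsAlgSpace Z) {W U R : Over S} [IsAffine W.left] [IsAffine U.left]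
    {a : (yon S).obj W ⟶ Z} {b : (yon S).obj U ⟶ Z} (hb : RepWith @Etale b) {t : R ⟶ W} {s : R ⟶ U}
    (sR : IsPullback ((yon S).map t) ((yon S).map s) a b) (w : W.left) {q : FieldPt Z}
    (hq : RepWith @QuasiCompact q.toHom) (e : Points.mk q = Points.ofPt a w) : (t.left ⁻¹' {w}).Finite := by
  haveI : Etale t.left := repWith_prop hb sR.flip
  let K : Over S := Over.mk (W.left.fromSpecResidueField w ≫ W.hom)
  let ι : K ⟶ W := Over.homMk (W.left.fromSpecResidueField w) rfl
  let p : FieldPt Z := Pt.ofHom (W.left.fromSpecResidueField w ≫ W.hom) ((yon S).map ι ≫ a)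
  have hp : RepWith @QuasiCompact ((yon S).map ι ≫ a) := by
    have := Pt.qc_congr hZ q p (e.trans (by
      rw [Pt.mk_ofHom _ _ (IsLocalRing.closedPoint (W.left.residueField w)), ofPt_comp]
      exact congrArg _ (Scheme.fromSpecResidueField_apply _ _).symm)) hq
    rwa [Pt.toHom_ofHom] at this
  let F : Over S := Over.mk (t.left.fiberι w ≫ R.hom)
  let i₁ : F ⟶ R := Over.homMk (t.left.fiberι w) rfl
  let i₂ : F ⟶ K := Over.homMk (t.left.fiberToSpecResidueField w) (by
    show t.left.fiberToSpecResidueField w ≫ W.left.fromSpecResidueField w ≫ W.hom = t.left.fiberι w ≫ R.hom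
    rw [← Over.w t]; exact (pullback.condition_assoc (f := t.left) (g := W.left.fromSpecResidueField w) W.hom).symm)
  have sF : IsPullback i₁ i₂ t ι := isPullback_over (IsPullback.of_hasPullback _ _)
  have sq : IsPullback ((yon S).map (i₁ ≫ s)) ((yon S).map i₂) b ((yon S).map ι ≫ a) := by
    rw [Functor.map_comp]
    exact (sF.map (yon S)).paste_horiz sR.flip
  haveI : QuasiCompact (i₁ ≫ s).left := repWith_prop hp sq.flip
  haveI : CompactSpace F.left := QuasiCompact.compactSpace_of_compactSpace (i₁ ≫ s).left
  let π : F.left ⟶ Spec (CommRingCat.of (W.left.residueField w)) := t.left.fiberToSpecResidueField w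
  haveI : Etale π := MorphismProperty.pullback_snd t.left (W.left.fromSpecResidueField w) ‹Etale t.left›
  haveI : CompactSpace (t.left.fiber w) := ‹CompactSpace F.left›
  haveI : Finite F.left := Pt.finite_of_etale_field π
  rw [← Scheme.Hom.range_fiberι]
  haveI : Finite (t.left.fiber w) := ‹Finite F.left›
  exact Set.finite_range _

/-- A finite fibre gives a quasi-compact representative. -/
theorem compact_of_finite {W U R : Over S} {a : (yon S).obj W ⟶ Z} {b : (yon S).obj U ⟶ Z}
    {t : R ⟶ W} {s : R ⟶ U} (sR : IsPullback ((yon S).map t) ((yon S).map s) a b) (w : W.left)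
    (h : (t.left ⁻¹' {w}).Finite) :
    CompactSpace (Points (pullback
      ((yon S).map (Over.homMk (W.left.fromSpecResidueField w) rfl :
        Over.mk (W.left.fromSpecResidueField w ≫ W.hom) ⟶ W) ≫ a) b)) := by
  let K : Over S := Over.mk (W.left.fromSpecResidueField w ≫ W.hom)
  let ι : K ⟶ W := Over.homMk (W.left.fromSpecResidueField w) rfl
  let F : Over S := Over.mk (t.left.fiberι w ≫ R.hom)
  let i₁ : F ⟶ R := Over.homMk (t.left.fiberι w) rfl
  let i₂ : F ⟶ K := Over.homMk (t.left.fiberToSpecResidueField w) (by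
    show t.left.fiberToSpecResidueField w ≫ W.left.fromSpecResidueField w ≫ W.hom = t.left.fiberι w ≫ R.hom
    rw [← Over.w t]; exact (pullback.condition_assoc (f := t.left) (g := W.left.fromSpecResidueField w) W.hom).symm)
  have sF : IsPullback i₁ i₂ t ι := isPullback_over (IsPullback.of_hasPullback _ _)
  have sq : IsPullback ((yon S).map i₂) ((yon S).map (i₁ ≫ s)) ((yon S).map ι ≫ a) b := by
    rw [Functor.map_comp]
    exact (sF.map (yon S)).flip.paste_vert sR
  haveI : Finite F.left := by
    haveI := h.to_subtype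
    refine Finite.of_injective (fun x : ↥F.left => (⟨t.left.fiberι w x, ?_⟩ : t.left ⁻¹' {w})) fun x y e =>
      (t.left.fiberι w).isEmbedding.injective (congrArg Subtype.val e)
    exact (t.left.range_fiberι w).subset ⟨x, rfl⟩
  have := Pt.finite_points_yon (T := F)
  exact Pt.compact_of_iso sq.isoPullback Finite.compactSpace

theorem finite_irr_open {A B : Type*} [TopologicalSpace A] [TopologicalSpace B] {f : A → B}
    (hf : IsOpenEmbedding f) (h : (irreducibleComponents B).Finite) : (irreducibleComponents A).Finite := by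
  refine (h.image (f ⁻¹' ·)).subset fun Z hZ => ?_
  obtain ⟨C, hC, hsub⟩ := exists_mem_irreducibleComponents_subset_of_isIrreducible _
    (hZ.1.image f hf.continuous.continuousOn).closure
  obtain ⟨z, hz⟩ := hZ.1.nonempty
  have hC' : f ⁻¹' C ∈ irreducibleComponents A :=
    preimage_mem_irreducibleComponents hC hf ⟨f z, hsub (subset_closure ⟨z, hz, rfl⟩), z, rfl⟩
  refine ⟨C, hC, ?_⟩
  have h1 : Z ⊆ f ⁻¹' C := fun x hx => hsub (subset_closure ⟨x, hx, rfl⟩)
  exact (hZ.2 hC'.1 h1).antisymm h1

theorem finite_irr_dense {A B : Type*} [TopologicalSpace A] [TopologicalSpace B] {f : A → B}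
    (hf : Continuous f) (hd : DenseRange f) (h : (irreducibleComponents A).Finite) :
    (irreducibleComponents B).Finite := by
  classical
  refine (h.image fun Z => closure (f '' Z)).subset fun C hC => ?_
  obtain ⟨_, ht, hsub⟩ := isIrreducible_iff_sUnion_isClosed.1 hC.1 (h.toFinset.image fun Z => closure (f '' Z))
    (fun t ht => by
      obtain ⟨Z, -, rfl⟩ := Finset.mem_image.1 ht
      exact isClosed_closure)
    (by
      intro b _
      rw [Finset.coe_image, Set.sUnion_image, h.coe_toFinset, ← h.closure_biUnion, ← Set.image_iUnion₂,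
        ← Set.sUnion_eq_biUnion, sUnion_irreducibleComponents, Set.image_univ]
      exact hd b)
  obtain ⟨Z, hZ, rfl⟩ := Finset.mem_image.1 ht
  have hZ' := h.mem_toFinset.1 hZ
  exact ⟨Z, hZ', (hC.2 ((hZ'.1.image f hf.continuousOn).closure) hsub).antisymm hsub⟩

/-- A space with a dense open subscheme with finitely many nice generic points is decent. -/
theorem isDecent_of_dense (X : AlgSp.Space S) (X' : Over S) (j : (yon S).obj X' ⟶ X.obj)
    (hj : RepWith @IsOpenImmersion j) (hd : Dense (Set.range (Points.ofPt j)))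
    (hfin : (irreducibleComponents ↥X'.left).Finite)
    (hqc : ∀ x' ∈ LFC.maxPts X'.left, RepWith @QuasiCompact (FieldPt.ofPt j x').toHom) : IsDecent X.obj := by
  intro x
  obtain ⟨W, a, hW, ha, w, rfl⟩ := exists_affine_etale_nhd X.property x
  haveI := hW
  obtain ⟨η, hηw, hηmax⟩ := Groth.L07.Equidim.exists_maximal_generization w
  -- the preimage of the dense open
  obtain ⟨R', r₁, r₂, sq⟩ := exists_isPullback_of_representable hj.1 a
  haveI : IsOpenImmersion r₂.left := repWith_prop hj sq
  haveI : Etale r₁.left := repWith_prop ha sq.flip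
  have hO : Dense (Set.range r₂.left) := by
    have h := hd.preimage (isOpenMap_ofPt ha)
    refine h.mono fun v hv => ?_
    obtain ⟨x', hx'⟩ := hv
    obtain ⟨τ, -, hτ⟩ := exists_point_of_isPullback sq (x := Points.ofScheme X' x') (u := v)
      (by rw [← Points.ofPt_eq_map_ofScheme]; exact hx')
    exact ⟨τ, hτ⟩
  have himg : ∀ r ∈ LFC.maxPts R'.left, Points.ofPt a (r₂.left r) = Points.mk (FieldPt.ofPt j (r₁.left r)) := by
    intro r _
    rw [← ofPt_comp, ← sq.w, ofPt_comp]
    rfl
  have hmx : (r₂.left '' LFC.maxPts R'.left).Finite := by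
    refine (((LFC.finite_irr_iff X'.left).1 hfin).biUnion fun x' hx' =>
      finite_preimage X.property (hqc x' hx') ha).subset ?_
    rintro _ ⟨r, hr, rfl⟩
    exact Set.mem_biUnion (LFC.map_maxPts r₁.left hr) (himg r hr)
  obtain ⟨r, hrmax, hrη⟩ : η ∈ r₂.left '' LFC.maxPts R'.left := by
    have hcl : Set.range r₂.left ⊆ ⋃ m ∈ r₂.left '' LFC.maxPts R'.left, closure {m} := by
      rintro _ ⟨r, rfl⟩
      obtain ⟨r', hr', hm⟩ := Groth.L07.Equidim.exists_maximal_generization r
      exact Set.mem_biUnion ⟨r', hm, rfl⟩ (specializes_iff_mem_closure.1 (hr'.map r₂.left.continuous))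
    have := closure_minimal hcl (hmx.isClosed_biUnion fun _ _ => isClosed_closure) (hO η)
    obtain ⟨m, hm, hηm⟩ := Set.mem_iUnion₂.1 this
    exact hηmax m (specializes_iff_mem_closure.2 hηm) ▸ hm
  let ι : Over.mk (W.left.fromSpecResidueField w ≫ W.hom) ⟶ W := Over.homMk (W.left.fromSpecResidueField w) rfl
  let p : FieldPt X.obj := Pt.ofHom (W.left.fromSpecResidueField w ≫ W.hom) ((yon S).map ι ≫ a)
  have hp : Points.mk p = Points.ofPt a w := by
    rw [Pt.mk_ofHom _ _ (IsLocalRing.closedPoint (W.left.residueField w)), ofPt_comp]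
    exact congrArg _ (Scheme.fromSpecResidueField_apply _ _)
  rw [← hp]
  refine Pt.goodPt_of_qc X.property p ((Pt.qc_iff X.property p).2 fun U φ hU hφ => ?_)
  haveI := hU
  obtain ⟨R, t, s, sR⟩ : ∃ (R : Over S) (t : R ⟶ W) (s : R ⟶ U),
      IsPullback ((yon S).map t) ((yon S).map s) a φ := exists_isPullback_of_representable ha.1 φ
  haveI : Etale t.left := repWith_prop hφ sR.flip
  haveI : IsSeparated U.hom := IsSeparated.of_comp U.hom (terminal.from S)
  haveI : IsSeparated t.left := by
    let J : R.left ⟶ pullback W.hom U.hom := pullback.lift t.left s.left (by rw [Over.w t, Over.w s])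
    haveI : Mono J := ⟨fun {A} z z' h => by
      have h₁ : z ≫ t.left = z' ≫ t.left := by simpa [J, pullback.lift_fst] using h =≫ pullback.fst W.hom U.hom
      have h₂ : z ≫ s.left = z' ≫ s.left := by simpa [J, pullback.lift_snd] using h =≫ pullback.snd W.hom U.hom
      have hw : z' ≫ R.hom = z ≫ R.hom := by rw [← Over.w t, reassoc_of% h₁]
      let ζ : Over.mk (z ≫ R.hom) ⟶ R := Over.homMk z rfl
      let ζ' : Over.mk (z ≫ R.hom) ⟶ R := Over.homMk z' hw
      have : ζ = ζ' := (yon S).map_injective (sR.hom_ext
        (by rw [← Functor.map_comp, ← Functor.map_comp]; exact congrArg _ (Over.OverMorphism.ext h₁))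
        (by rw [← Functor.map_comp, ← Functor.map_comp]; exact congrArg _ (Over.OverMorphism.ext h₂)))
      exact congrArg (fun φ => φ.left) this⟩
    rw [show t.left = J ≫ pullback.fst W.hom U.hom from (pullback.lift_fst _ _ _).symm]
    infer_instance
  have hη : (t.left ⁻¹' {η}).Finite :=
    finite_fibre_of_qc X.property hφ sR η (hqc _ (LFC.map_maxPts r₁.left hrmax)) (hrη ▸ (himg r hrmax).symm)
  have hfw := FibreBound.finite_fibre t.left hηw hη
  have hc := compact_of_finite sR w hfw
  exact (Pt.compact_eq_iff (Pt.toHom_ofHom _ _) rfl).2 hc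

theorem result (X : AlgSp.Space S) :
    (IsDecent X.obj ∧ (irreducibleComponents (Points X.obj)).Finite) ↔
      ∃ (X' : Over S) (j : (yon S).obj X' ⟶ X.obj), RepWith @IsOpenImmersion j ∧
        Dense (Set.range (Points.ofPt j)) ∧ (irreducibleComponents ↥X'.left).Finite ∧
        ∀ x' : ↥X'.left, (∃ T ∈ irreducibleComponents ↥X'.left, IsGenericPoint x' T) →
          RepWith @QuasiCompact (FieldPt.ofPt j x').toHom := by
  constructor
  · rintro ⟨hd, hfin⟩
    obtain ⟨Z, j, hj, hrep, hr⟩ := SL.exists_locus X.property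
    obtain ⟨G, ⟨e⟩⟩ := hrep.has_representation
    let j' : (yon S).obj G ⟶ X.obj := (isoOfRepresentableBy e).hom ≫ j
    have hj' : RepWith @IsOpenImmersion j' := repWith_comp (repWith_of_isIso _) hj
    have := mono_of_repWith_openImmersion hj'
    have hrange : Set.range (Points.ofPt j') = {x | SL.SchemePt x} := by
      rw [← range_map_yon, ← hr, show Points.map j' = Points.map j ∘ Points.map (isoOfRepresentableBy e).hom from
        funext fun z => (Points.map_comp _ _ _), Set.range_comp,
        (surjective_map_of_repWith (repWith_of_isIso (isoOfRepresentableBy e).hom)).range_eq, Set.image_univ]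
    have hemb : IsOpenEmbedding (Points.ofPt j') := by
      refine IsOpenEmbedding.of_continuous_injective_isOpenMap (Points.continuous_ofPt j') ?_
        (isOpenMap_ofPt (repWith_mono (fun φ (_ : IsOpenImmersion φ) => inferInstanceAs (Etale φ)) hj'))
      intro u v h
      rw [Points.ofPt_eq_map_ofScheme, Points.ofPt_eq_map_ofScheme] at h
      exact (Points.schemeEquiv G).injective (QFL.map_injective_of_mono j' h)
    refine ⟨G, j', hj', hrange ▸ SL.dense_schemePt X.property hd, finite_irr_open hemb hfin, fun x' _ => ?_⟩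
    exact Pt.qc_of_goodPt X.property (hd _) (FieldPt.ofPt j' x') rfl
  · rintro ⟨X', j, hj, hd, hfin, hqc⟩
    refine ⟨isDecent_of_dense X X' j hj hd hfin fun x' hx' => hqc x' ⟨_, ?_, rfl⟩,
      finite_irr_dense (Points.continuous_ofPt j) hd hfin⟩
    exact (Groth.L07.EquidimQF.closure_singleton_mem_irreducibleComponents_iff x').2 hx'

end Groth.L23.DecFin
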