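import Groth.Agent.L23.SpaceFibreDim
import Mathlib.AlgebraicGeometry.Morphisms.Finite
import Mathlib.Topology.JacobsonSpace

/-!
# Quasi-finiteness and discrete fibres
-/

universe u

open CategoryTheory CategoryTheory.Limits AlgebraicGeometry AlgSp TopologicalSpace Topology

set_option autoImplicit false
set_option linter.style.haveILetI false
set_option backward.isDefEq.respectTransparency.types false

namespace Groth.L23.SpDim

theorem krullDim_le_zero_of_closed_points {W : Scheme.{u}} (h : ∀ w : W, IsClosed ({w} : Set W)) :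
    topologicalKrullDim W ≤ 0 := by
  let := specializationOrder W
  unfold topologicalKrullDim
  rw [Order.krullDim_eq_of_orderIso (irreducibleSetEquivPoints (α := W)), Order.krullDim_nonpos_iff_forall_isMax]
  intro a b hab
  have hs : b ⤳ a := hab
  have : a ∈ ({b} : Set W) := (h b).closure_eq ▸ hs.mem_closure
  exact le_of_eq (Set.mem_singleton_iff.1 this).symm

theorem krullDim_chart_le_zero (k : Type u) [Field k] {S : Scheme.{u}} {str : Spec (CommRingCat.of k) ⟶ S}
    {P : Sp S} {snd : P ⟶ (yon S).obj (Over.mk str)} (hs : LocP @LocallyOfFiniteType snd)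
    [DiscreteTopology (Points P)] {W : Over S} {q : (yon S).obj W ⟶ P} (hq : RepWith @Etale q) :
    topologicalKrullDim W.left ≤ 0 := by
  obtain ⟨m, hm⟩ := (yon S).map_surjective (q ≫ snd)
  haveI : LocallyOfFiniteType m.left := hs q (𝟙 _) m hq (repWith_of_isIso _) (by rw [Category.comp_id, hm])
  haveI : JacobsonSpace (Over.mk str).left := inferInstanceAs (JacobsonSpace (Spec (CommRingCat.of k)))
  haveI : JacobsonSpace W.left := LocallyOfFiniteType.jacobsonSpace m.left
  obtain ⟨R, r₁, r₂, sR⟩ := exists_isPullback_of_representable hq.1 q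
  haveI : Etale r₁.left := repWith_prop hq sR.flip
  haveI : Etale r₂.left := repWith_prop hq sR
  refine krullDim_le_zero_of_closed_points fun w => ?_
  have hO : IsOpen (Points.ofPt q ⁻¹' {Points.ofPt q w}) :=
    (isOpen_discrete _).preimage (Points.continuous_ofPt q)
  obtain ⟨w₀, hw₀, hcl⟩ := nonempty_inter_closedPoints (Z := Points.ofPt q ⁻¹' {Points.ofPt q w}) ⟨w, rfl⟩ hO.isLocallyClosed
  obtain ⟨r, hr₁, hr₂⟩ := (ofPt_eq_ofPt_iff sR w w₀).1 (Set.mem_singleton_iff.1 hw₀).symm
  haveI : LocallyQuasiFinite r₂.left := lqf_of_etale _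
  haveI : DiscreteTopology (r₂.left ⁻¹' {w₀}) := (r₂.left.isDiscrete_preimage_singleton w₀).to_subtype
  have hclosed : IsClosed ({r} : Set R.left) := by
    have h1 : IsClosed ({(⟨r, hr₂⟩ : r₂.left ⁻¹' {w₀})} : Set (r₂.left ⁻¹' {w₀})) := isClosed_discrete _
    have h2 := (hcl.preimage r₂.left.continuous).isClosedMap_subtype_val _ h1
    rwa [Set.image_singleton] at h2
  rw [← hr₁]
  exact r₁.left.closePoints_subset_preimage_closedPoints hclosed

theorem lqf_iff_discrete_fibres {S : Scheme.{u}} {X Y : Sp S} (hX : IsAlgSpace X) (hY : IsAlgSpace Y) {f : X ⟶ Y}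
    (hf : LocP @LocallyOfFiniteType f) :
    LocP ((@LocallyQuasiFinite : MorphismProperty Scheme.{u}) ⊓ @LocallyOfFiniteType) f ↔
      ∀ (k : Type u) [Field k] (str : Spec (CommRingCat.of k) ⟶ S) (y : (yon S).obj (Over.mk str) ⟶ Y)
        (P : Sp S) (fst : P ⟶ X) (snd : P ⟶ (yon S).obj (Over.mk str)),
        IsPullback fst snd f y → DiscreteTopology (Points P) := by
  constructor
  · intro H k _ str y P fst snd sq
    haveI hsub : Subsingleton (Over.mk str).left := inferInstanceAs (Subsingleton (Spec (CommRingCat.of k)))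
    have hs := locP_of_isPullback etLocal_lqfLft hX hY (IsAlgSpace.yon_obj _) sq H
    obtain ⟨W, q, hq, hqs⟩ := (isAlgSpace_of_isPullback hY.diag hX (IsAlgSpace.yon_obj _) sq).atlas
    obtain ⟨m, hm⟩ := (yon S).map_surjective (q ≫ snd)
    obtain ⟨h1, -⟩ := hs q (𝟙 _) m hq (repWith_of_isIso _) (by rw [Category.comp_id, hm])
    haveI := h1
    haveI : DiscreteTopology W.left := discreteTopology_iff_isOpen_singleton.2 fun w => by
      haveI : DiscreteTopology (m.left ⁻¹' {m.left w}) := (m.left.isDiscrete_preimage_singleton _).to_subtype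
      have hu : m.left ⁻¹' {m.left w} = Set.univ := Set.eq_univ_of_forall fun z => Subsingleton.elim _ _
      have h3 : IsOpen ({(⟨w, rfl⟩ : m.left ⁻¹' {m.left w})} : Set _) := isOpen_discrete _
      have h4 := (hu ▸ isOpen_univ : IsOpen (m.left ⁻¹' {m.left w})).isOpenMap_subtype_val _ h3
      rwa [Set.image_singleton] at h4
    exact discreteTopology_iff_forall_isOpen.2 fun s =>
      (isOpenQuotientMap_ofPt hq hqs).isQuotientMap.isOpen_preimage.1 (isOpen_discrete _)
  · intro H
    obtain ⟨U, V, a, b, h, ha, has, hb, -, w⟩ := exists_chart hX hY f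
    haveI : LocallyOfFiniteType h.left := hf a b h ha hb w
    refine locP_of_chart etLocal_lqfLft ha has hb w ⟨?_, ‹_›⟩
    refine (locallyQuasiFinite_iff_fibreDim h.left).2 fun u => le_antisymm ?_ ?_
    · obtain ⟨k, hk⟩ := Points.mk_surjective (Points.map f (Points.ofPt a u))
      have sq := IsPullback.of_hasPullback f k.toHom
      haveI := H k.K k.str k.toHom _ _ _ sq
      have hs := locP_of_isPullback etLocal_lft hX hY (IsAlgSpace.yon_obj _) sq hf
      have hd : dim (pullback f k.toHom) ≤ 0 :=
        iSup_le fun W => iSup_le fun q => iSup_le fun hq => krullDim_chart_le_zero k.K hs hq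
      exact (hasAtMor_fibreDim_iff (· ≤ (0 : WithBot ℕ∞)) ha hb w u).1
        ((dim_fibre_le_iff hX hY hf hk sq 0).1 hd _ rfl)
    · refine le_iInf fun O => ?_
      let z : (O.1 : Set (h.left.fiber (h.left u))) := ⟨_, O.2⟩
      haveI : Nonempty (IrreducibleCloseds (O.1 : Set (h.left.fiber (h.left u)))) :=
        ⟨⟨closure {z}, isIrreducible_singleton.closure, isClosed_closure⟩⟩
      exact Order.krullDim_nonneg

end Groth.L23.SpDim
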