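import Groth.Agent.L23.LqfRep
import Groth.Agent.L23.MorCalc
import Groth.Agent.L23.AffineMor
import Groth.Agent.L23.Univ
import Groth.Agent.L23.DiscreteFibre
import Groth.Agent.L23.Good
import Mathlib.AlgebraicGeometry.ZariskisMainTheorem

/-!
# Characterisations of finite morphisms of algebraic spaces
-/

universe u

open CategoryTheory CategoryTheory.Limits AlgebraicGeometry AlgSp

set_option backward.isDefEq.respectTransparency.types false
set_option linter.style.haveILetI false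

namespace Groth.L23.FinMor

variable {S : Scheme.{u}} {X Y : Sp S}

theorem isFiniteMor_of_univClosed_sep_lqf (hX : IsAlgSpace X) (hY : IsAlgSpace Y) {f : X ⟶ Y}
    (hu : IsUnivClosedMor f) (hs : IsSeparatedMor f)
    (hl : LocP ((@LocallyQuasiFinite : MorphismProperty Scheme.{u}) ⊓ @LocallyOfFiniteType) f) : IsFiniteMor f := by
  have hr := Lqf.representable_of_lqf hX hY hl hs
  refine isFiniteMor_iff.2 (repWith_mono
    (fun φ ⟨⟨(_ : IsSeparated φ), ⟨(_ : LocallyQuasiFinite φ), (_ : LocallyOfFiniteType φ)⟩⟩, (_ : UniversallyClosed φ)⟩ =>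
      have : IsProper φ := {}
      IsFinite.of_isProper_of_locallyQuasiFinite φ)
    (repWith_inf_iff.2 ⟨repWith_inf_iff.2 ⟨(isSeparatedMor_iff hr).1 hs, repWith_of_locP etLocal_lqfLft hY hr hl⟩,
      (repWith_universallyClosed_iff hr).2 hu⟩))

theorem isProperMor_of_isFiniteMor {f : X ⟶ Y} (h : IsFiniteMor f) : IsProperMor f :=
  isProperMor_of_repWith (repWith_mono (fun φ (_ : IsFinite φ) => by infer_instance) (isFiniteMor_iff.1 h))

theorem lqf_of_isFiniteMor {f : X ⟶ Y} (h : IsFiniteMor f) :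
    LocP ((@LocallyQuasiFinite : MorphismProperty Scheme.{u}) ⊓ @LocallyOfFiniteType) f :=
  locP_of_repWith etLocal_lqfLft
    (repWith_mono (fun φ (_ : IsFinite φ) => ⟨inferInstance, inferInstance⟩) (isFiniteMor_iff.1 h))

theorem tfae (hX : IsAlgSpace X) (hY : IsAlgSpace Y) (f : X ⟶ Y) :
    [IsFiniteMor f,
      IsProperMor f ∧ LocP (@LocallyQuasiFinite ⊓ @LocallyOfFiniteType) f,
      IsProperMor f ∧
        ∀ (k : FieldPt Y) (Xk : Sp S) (fst : Xk ⟶ X) (snd : Xk ⟶ (yon S).obj k.pt),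
          IsPullback fst snd f k.toHom → DiscreteTopology (Points Xk),
      IsUnivClosedMor f ∧ IsSeparatedMor f ∧ LocP @LocallyOfFiniteType f ∧
        ∀ (k : FieldPt Y) (Xk : Sp S) (fst : Xk ⟶ X) (snd : Xk ⟶ (yon S).obj k.pt),
          IsPullback fst snd f k.toHom → DiscreteTopology (Points Xk)].TFAE := by
  tfae_have 1 → 2 := fun h => ⟨isProperMor_of_isFiniteMor h, lqf_of_isFiniteMor h⟩
  tfae_have 2 → 3 := by
    rintro ⟨hp, hl⟩
    refine ⟨hp, fun k Xk fst snd sq => ?_⟩
    exact (SpDim.lqf_iff_discrete_fibres hX hY hp.2.1.1).1 hl k.K k.str k.toHom Xk fst snd sq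
  tfae_have 3 → 4 := fun ⟨hp, h⟩ => ⟨hp.2.2, hp.1, hp.2.1.1, h⟩
  tfae_have 4 → 1 := by
    rintro ⟨hu, hs, hft, h⟩
    refine isFiniteMor_of_univClosed_sep_lqf hX hY hu hs
      ((SpDim.lqf_iff_discrete_fibres hX hY hft).2 fun k _ str y P fst snd sq => ?_)
    have e := Pt.toHom_ofHom str y
    exact h (Pt.ofHom str y) P fst snd (e.symm ▸ sq)
  tfae_finish

end Groth.L23.FinMor
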