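import Groth.Agent.L23.GenFinite
import Groth.Agent.L23.DecentFinite
import Groth.Agent.L23.OpenCharts
import Groth.Agent.L23.CodimZeroFibre
import Groth.Agent.L23.CodimOne
import Groth.Agent.L23.DimDecent
import Groth.Agent.L23.FiniteMor
import Groth.Agent.L23.MorCalc
import Groth.Agent.L23.QsTop
import Groth.Agent.L23.QFPoints

/-!
# Generic finiteness over decent spaces with finitely many codimension zero points
-/

universe u

open CategoryTheory CategoryTheory.Limits AlgebraicGeometry AlgSp Topology TopologicalSpace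

set_option backward.isDefEq.respectTransparency.types false
set_option linter.style.haveILetI false

namespace Groth.L23.DenseFin

variable {S : Scheme.{u}}

/-- Codimension zero. -/
abbrev C0 (X : Sp S) (x : Points X) : Prop :=
  HasAt (fun U u => ringKrullDim ↥(U.presheaf.stalk u) = 0) X x

theorem c0_iff {X : Sp S} (hX : IsAlgSpace X) {U : Over S} {a : (yon S).obj U ⟶ X}
    (ha : RepWith @Etale a) (u : U.left) : C0 X (Points.ofPt a u) ↔ u ∈ LFC.maxPts U.left :=
  (Pt.hasAt_stalkDim_iff hX ha u (fun d => d = 0)).trans (CodimOne.stalkDim_eq_zero_iff u)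

/-- The charts of `Z` see exactly the maximal points over `v`. -/
def MaxOver {Z : Sp S} {V : Over S} (q : Z ⟶ (yon S).obj V) (v : V.left) : Prop :=
  ∀ (U : Over S) (a : (yon S).obj U ⟶ Z) (n : U ⟶ V), RepWith @Etale a → a ≫ q = (yon S).map n →
    ∀ u, n.left u = v ↔ u ∈ LFC.maxPts U.left

/-- Finiteness near the maximal point for a quasi-compact space. -/
theorem exists_nhd_of_qc {Z : Sp S} (hZ : IsAlgSpace Z) (hZc : IsQuasiCompactSp Z) {V : Over S}
    [IsAffine V.left] {q : Z ⟶ (yon S).obj V} (hq : LocP @LocallyOfFiniteType q) {v : V.left}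
    (hv : ∀ x, x ⤳ v → x = v) (hmax : MaxOver q v) :
    ∃ W : V.left.Opens, IsAffineOpen W ∧ v ∈ W ∧
      IsFiniteMor (pullback.snd q ((yon S).map (openOverι V W))) := by
  obtain ⟨U, p, hU, hp, hps⟩ := Qs.exists_affine_atlas hZ hZc
  haveI := hU
  obtain ⟨R, t, s, sR⟩ : ∃ (R : Over S) (t : R ⟶ U) (s : R ⟶ U),
      IsPullback ((yon S).map t) ((yon S).map s) p p := exists_isPullback_of_representable hp.1 p
  obtain ⟨m, hm⟩ := (yon S).map_surjective (p ≫ q)
  haveI : LocallyOfFiniteType m.left := hq p (𝟙 _) m hp (repWith_of_isIso _) (by rw [Category.comp_id, hm])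
  haveI : Etale t.left := repWith_prop hp sR.flip
  have hM := hmax U p m hp hm.symm
  have hqf : ∀ u, m.left u = v → QFL.qfAt U.left V.left m.left u := fun u hu =>
    CodimZero.qfAt_of_forall_maximal m.left u fun u' e => (hM u').1 (e.trans hu)
  -- finitely many points of the relation over `v`
  obtain ⟨W₁, hW₁a, hvW₁, hW₁⟩ := GenFin.exists_nhd_preimage_subset m.left hv
    ⟨{u | QFL.qfAt U.left V.left m.left u}, isOpen_iff_forall_mem_open.2 fun u hu => by
      obtain ⟨O, huO, h1, h2⟩ := hu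
      exact ⟨O, fun u' hu' => ⟨O, hu', h1, h2⟩, O.2, huO⟩⟩ hqf
  let U₁ : U.left.Opens := m.left ⁻¹ᵁ W₁
  haveI : IsAffine (U₁ : Scheme.{u}) := hW₁a.preimage m.left
  let g : (U₁ : Scheme.{u}) ⟶ V.left := U₁.ι ≫ m.left
  haveI : LocallyQuasiFinite g := GenFin.lqf_of_forall_qfAt m.left U₁ fun u hu => hW₁ hu
  haveI : LocallyOfFiniteType g := inferInstance
  haveI : QuasiCompact g := inferInstance
  haveI : LocallyOfFiniteType (pullback.fst m.left g) :=
    MorphismProperty.pullback_fst _ _ ‹LocallyOfFiniteType g›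
  haveI : LocallyQuasiFinite (pullback.fst m.left g) :=
    MorphismProperty.pullback_fst _ _ ‹LocallyQuasiFinite g›
  haveI : QuasiCompact (pullback.fst m.left g) := MorphismProperty.pullback_fst _ _ ‹QuasiCompact g›
  let R₁ : R.left.Opens := s.left ⁻¹ᵁ U₁
  have hts : t ≫ m = s ≫ m := (yon S).map_injective (by
    rw [Functor.map_comp, Functor.map_comp, hm, reassoc_of% sR.w])
  let J : (R₁ : Scheme.{u}) ⟶ pullback m.left g := pullback.lift (R₁.ι ≫ t.left) (s.left ∣_ U₁) (by
    show (R₁.ι ≫ t.left) ≫ m.left = (s.left ∣_ U₁) ≫ U₁.ι ≫ m.left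
    rw [morphismRestrict_ι_assoc, Category.assoc, ← Over.comp_left, hts, Over.comp_left])
  haveI : Mono J := ⟨fun {A} z z' h => by
    refine (cancel_mono R₁.ι).1 ?_
    have h₁ : (z ≫ R₁.ι) ≫ t.left = (z' ≫ R₁.ι) ≫ t.left := by
      simpa [J, pullback.lift_fst] using h =≫ pullback.fst m.left g
    have h₂ : (z ≫ R₁.ι) ≫ s.left = (z' ≫ R₁.ι) ≫ s.left := by
      have h₃ : z ≫ (s.left ∣_ U₁) = z' ≫ (s.left ∣_ U₁) := by
        simpa [J, pullback.lift_snd] using h =≫ pullback.snd m.left g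
      simpa [Category.assoc, morphismRestrict_ι] using h₃ =≫ U₁.ι
    have hw : (z' ≫ R₁.ι) ≫ R.hom = (z ≫ R₁.ι) ≫ R.hom := by
      rw [← Over.w t, ← Category.assoc, ← Category.assoc (z ≫ R₁.ι), h₁]
    let ζ : Over.mk ((z ≫ R₁.ι) ≫ R.hom) ⟶ R := Over.homMk (z ≫ R₁.ι) rfl
    let ζ' : Over.mk ((z ≫ R₁.ι) ≫ R.hom) ⟶ R := Over.homMk (z' ≫ R₁.ι) hw
    have : ζ = ζ' := (yon S).map_injective (sR.hom_ext
      (by rw [← Functor.map_comp, ← Functor.map_comp]; exact congrArg _ (Over.OverMorphism.ext h₁))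
      (by rw [← Functor.map_comp, ← Functor.map_comp]; exact congrArg _ (Over.OverMorphism.ext h₂)))
    exact congrArg (fun φ => φ.left) this⟩
  have hMfin : {u | m.left u = v}.Finite :=
    (QFL.finite_qf_fibre m.left v).subset fun u hu => ⟨hu, hqf u hu⟩
  have hfst : ∀ u : U.left, (pullback.fst m.left g ⁻¹' {u}).Finite := fun u =>
    (QFL.finite_qf_fibre (pullback.fst m.left g) u).subset fun z hz =>
      ⟨hz, ⟨⊤, trivial, inferInstance, inferInstance⟩⟩
  have hF : {r : R.left | m.left (t.left r) = v}.Finite := by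
    refine (((hMfin.biUnion fun u _ => hfst u).preimage J.injective.injOn).image R₁.ι).subset ?_
    intro r hr
    have hr₁ : r ∈ R₁ := by
      show m.left (s.left r) ∈ W₁
      rw [← Scheme.Hom.comp_apply, ← Over.comp_left, ← hts, Over.comp_left, Scheme.Hom.comp_apply]
      exact hr.symm ▸ hvW₁
    refine ⟨⟨r, hr₁⟩, Set.mem_biUnion (x := t.left r) hr ?_, rfl⟩
    show pullback.fst m.left g (J ⟨r, hr₁⟩) = t.left r
    rw [← Scheme.Hom.comp_apply, pullback.lift_fst]
    rfl
  choose A hA hrA _ using fun r : R.left => exists_isAffineOpen_mem_and_subset (x := r) (U := ⊤) trivial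
  let O : R.left.Opens := ⨆ r ∈ {r : R.left | m.left (t.left r) = v}, A r
  have hO : (O : Set R.left) = ⋃ r ∈ {r : R.left | m.left (t.left r) = v}, (A r : Set R.left) := by
    simp only [O, Opens.coe_iSup]
  refine GenFin.exists_finite_nhd hZ hq hp hps sR hv (fun n hn u hu => ?_) O
    (hO ▸ hF.isCompact_biUnion fun r _ => (hA r).isCompact) fun n hn r => ?_
  · obtain rfl : n = m := (yon S).map_injective (hn.symm.trans hm.symm)
    exact hqf u hu
  · obtain rfl : n = m := (yon S).map_injective (hn.symm.trans hm.symm)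
    obtain ⟨r', hs, hr'⟩ := Groth.L07.Equidim.exists_maximal_generization r
    have e : n.left (t.left r') = v := (hM _).2 (LFC.map_maxPts t.left hr')
    exact ⟨r', hs, Opens.mem_iSup.2 ⟨r', Opens.mem_iSup.2 ⟨e, hrA r'⟩⟩, Or.inl e⟩

/-- Extension from an open subspace containing the points over `v`, in the separated case. -/
theorem exists_nhd_of_separated {Z : Sp S} (hZ : IsAlgSpace Z) {V : Over S}
    {q : Z ⟶ (yon S).obj V} (hsep : IsSeparatedMor q) {v : V.left} (hmax : MaxOver q v)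
    {Z' : Sp S} (hZ' : IsAlgSpace Z') {j : Z' ⟶ Z} (hj : RepWith @IsOpenImmersion j)
    (hP : ∀ z, Points.map q z = Points.ofScheme V v → z ∈ Set.range (Points.map j))
    (W : V.left.Opens)
    (hfin : IsFiniteMor (pullback.snd (j ≫ q) ((yon S).map (openOverι V W)))) :
    IsFiniteMor (pullback.snd q ((yon S).map (openOverι V W))) := by
  let jW := (yon S).map (openOverι V W)
  have sW := IsPullback.of_hasPullback q jW
  have sW' := IsPullback.of_hasPullback (j ≫ q) jW
  have hW : IsAlgSpace ((yon S).obj (openOver V W)) := IsAlgSpace.yon_obj _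
  have hZW : IsAlgSpace (pullback q jW) :=
    isAlgSpace_of_isPullback (IsAlgSpace.yon_obj V).diag hZ hW sW
  have hZW' : IsAlgSpace (pullback (j ≫ q) jW) :=
    isAlgSpace_of_isPullback (IsAlgSpace.yon_obj V).diag hZ' hW sW'
  let i := sW.lift (pullback.fst (j ≫ q) jW ≫ j) (pullback.snd (j ≫ q) jW)
    (by rw [Category.assoc]; exact sW'.w)
  have hi₂ : i ≫ pullback.snd q jW = pullback.snd (j ≫ q) jW := sW.lift_snd _ _ _
  have si : IsPullback (pullback.fst (j ≫ q) jW) i j (pullback.fst q jW) :=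
    IsPullback.of_bot (hi₂.symm ▸ sW') (sW.lift_fst _ _ _).symm sW
  have hi : RepWith @IsOpenImmersion i := repWith_of_isPullback si hj
  have huc : IsUnivClosedMor i := univClosed_of_comp_separated hZW' hZW hW
    (hi₂.symm ▸ (FinMor.isProperMor_of_isFiniteMor hfin).2.2) (separated_of_isPullback sW hsep)
  have hcl : IsClosedMap (Points.map i) := huc hZW (𝟙 _) (𝟙 _) i (IsPullback.of_horiz_isIso ⟨by simp⟩)
  have he : RepWith @Etale (pullback.fst q jW) :=
    repWith_of_isPullback sW.flip (repWith_etale_openMk W)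
  haveI : IsIso i := isIso_of_openImmersion_surjective hi fun z => by
    obtain ⟨A, a, -, ha, u, rfl⟩ := exists_affine_etale_nhd hZW z
    obtain ⟨u', hs, hu'⟩ := Groth.L07.Equidim.exists_maximal_generization u
    obtain ⟨μ, hμ⟩ := (yon S).map_surjective (a ≫ pullback.snd q jW)
    have w : (a ≫ pullback.fst q jW) ≫ q = (yon S).map (μ ≫ openOverι V W) := by
      rw [Category.assoc, sW.w, ← Category.assoc, ← hμ, ← Functor.map_comp]
    have e : Points.map q (Points.ofPt (a ≫ pullback.fst q jW) u') = Points.ofScheme V v := by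
      rw [Points.map_ofPt, w, ofPt_map, (hmax A _ _ (repWith_comp ha he) w u').2 hu']
    obtain ⟨z', hz'⟩ := hP _ e
    obtain ⟨y, -, hy⟩ := exists_of_isPullback si z' (Points.ofPt a u') (by rw [hz', Points.map_ofPt])
    exact (hs.map (Points.continuous_ofPt a)).mem_closed hcl.isClosed_range ⟨y, hy⟩
  rw [show pullback.snd q jW = inv i ≫ pullback.snd (j ≫ q) jW by rw [← hi₂, IsIso.inv_hom_id_assoc]]
  exact isFiniteMor_iff.2 (repWith_comp (repWith_of_isIso _) (isFiniteMor_iff.1 hfin))

/-- Transport of finiteness to the chosen pullback. -/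
theorem isFiniteMor_pullback_snd {F G H P : Sp S} {f : F ⟶ G} {g g' : H ⟶ G} {a : P ⟶ F} {c : P ⟶ H}
    (sq : IsPullback a c f g) (e : g = g') (h : IsFiniteMor c) : IsFiniteMor (pullback.snd f g') := by
  subst e
  rw [← (IsPullback.of_hasPullback f g).isoIsPullback_hom_snd _ _ sq]
  exact isFiniteMor_iff.2 (repWith_comp (repWith_of_isIso _) (isFiniteMor_iff.1 h))

variable {X Y : AlgSp.Space S}

/-- Finiteness over an affine neighbourhood in an atlas of a codimension zero point. -/
theorem exists_finite_piece (f : X ⟶ Y) (hf : LocP @LocallyOfFiniteType f.hom) (hY : IsDecent Y.obj)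
    (hX0 : {x : Points X.obj | C0 X.obj x}.Finite) (hY0 : {y : Points Y.obj | C0 Y.obj y}.Finite)
    (hpre : ∀ x : Points X.obj, C0 X.obj x ↔ C0 Y.obj (Points.map f.hom x))
    (hqs : IsQuasiCompactMor f.hom ∨ IsSeparatedMor f.hom)
    {U₀ : Over S} {p₀ : (yon S).obj U₀ ⟶ Y.obj} (hp₀ : RepWith @Etale p₀) (v₀ : U₀.left)
    (hv₀ : C0 Y.obj (Points.ofPt p₀ v₀)) :
    ∃ (W : Over S) (i : W ⟶ U₀), IsOpenImmersion i.left ∧ IsAffine W.left ∧ v₀ ∈ Set.range i.left ∧
      IsFiniteMor (pullback.snd f.hom ((yon S).map i ≫ p₀)) := by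
  classical
  obtain ⟨B₀, hB₀, hv₀B, -⟩ := exists_isAffineOpen_mem_and_subset (x := v₀) (U := ⊤) trivial
  haveI : IsAffine (openOver U₀ B₀).left := hB₀
  have hb₀ : RepWith @Etale ((yon S).map (openOverι U₀ B₀) ≫ p₀) :=
    repWith_comp (repWith_etale_openMk B₀) hp₀
  -- remove the other maximal points
  have hM : (LFC.maxPts (openOver U₀ B₀).left).Finite := by
    refine (hY0.biUnion fun y _ => DecFin.finite_preimage Y.property
      (Pt.qc_of_goodPt Y.property (hY y) _ (Quotient.out_eq y)) hb₀).subset fun m hm => ?_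
    refine Set.mem_biUnion ((c0_iff Y.property hb₀ m).2 hm) ?_
    exact (Quotient.out_eq _).symm
  have hv₀max : (⟨v₀, hv₀B⟩ : ↥(openOver U₀ B₀).left) ∈ LFC.maxPts (openOver U₀ B₀).left := by
    refine (c0_iff Y.property hb₀ _).1 ?_
    rwa [ofPt_comp]
  let N : Set (openOver U₀ B₀).left :=
    ⋃ m ∈ LFC.maxPts (openOver U₀ B₀).left \ {⟨v₀, hv₀B⟩}, closure {m}
  have hN : IsClosed N := hM.sdiff.isClosed_biUnion fun _ _ => isClosed_closure
  have hvN : (⟨v₀, hv₀B⟩ : ↥(openOver U₀ B₀).left) ∉ N := fun h => by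
    obtain ⟨m, ⟨-, hm⟩, hcl⟩ := Set.mem_iUnion₂.1 h
    exact hm (hv₀max m (specializes_iff_mem_closure.2 hcl))
  obtain ⟨B, hB, hvB, hBN⟩ := exists_isAffineOpen_mem_and_subset
    (x := (⟨v₀, hv₀B⟩ : ↥(openOver U₀ B₀).left)) (U := ⟨Nᶜ, hN.isOpen_compl⟩) hvN
  let V : Over S := openOver (openOver U₀ B₀) B
  let jV : V ⟶ U₀ := openOverι (openOver U₀ B₀) B ≫ openOverι U₀ B₀
  let v : V.left := ⟨⟨v₀, hv₀B⟩, hvB⟩
  haveI : IsAffine V.left := hB
  let b := (yon S).map jV ≫ p₀
  have hb : RepWith @Etale b := by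
    show RepWith @Etale ((yon S).map jV ≫ p₀)
    rw [Functor.map_comp, Category.assoc]
    exact repWith_comp (repWith_etale_openMk B) hb₀
  have hVmax : ∀ x, x ∈ LFC.maxPts V.left ↔ x = v := by
    intro x
    constructor
    · intro hx
      have hx' : (B.ι x : ↥(openOver U₀ B₀).left) ∈ LFC.maxPts (openOver U₀ B₀).left :=
        LFC.map_maxPts B.ι hx
      by_contra hne
      exact hBN x.2 (Set.mem_biUnion (x := (B.ι x : ↥(openOver U₀ B₀).left)) ⟨hx', fun e => hne (Subtype.ext e)⟩ (subset_closure rfl))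
    · rintro rfl q hq
      exact Subtype.ext (hv₀max _ (hq.map B.ι.continuous))
  have hv : ∀ x, x ⤳ v → x = v := (hVmax v).2 rfl
  have sq := IsPullback.of_hasPullback f.hom b
  have hV : IsAlgSpace ((yon S).obj V) := IsAlgSpace.yon_obj V
  have hZ : IsAlgSpace (pullback f.hom b) :=
    isAlgSpace_of_isPullback Y.property.diag X.property hV sq
  have hqlft : LocP @LocallyOfFiniteType (pullback.snd f.hom b) :=
    locP_of_isPullback etLocal_lft X.property Y.property hV sq hf
  have hefst : RepWith @Etale (pullback.fst f.hom b) := repWith_of_isPullback sq.flip hb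
  have hmax : MaxOver (pullback.snd f.hom b) v := by
    intro U a n ha hn u
    have ha' : RepWith @Etale (a ≫ pullback.fst f.hom b) := repWith_comp ha hefst
    have w : (a ≫ pullback.fst f.hom b) ≫ f.hom = (yon S).map n ≫ b := by
      rw [Category.assoc, sq.w, reassoc_of% hn]
    rw [← c0_iff X.property ha' u, hpre, Points.map_ofPt, w, ofPt_comp, c0_iff Y.property hb, hVmax]
  suffices h : ∃ W : V.left.Opens, IsAffineOpen W ∧ v ∈ W ∧
      IsFiniteMor (pullback.snd (pullback.snd f.hom b) ((yon S).map (openOverι V W))) by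
    obtain ⟨W, hWa, hvW, hfin⟩ := h
    refine ⟨openOver V W, openOverι V W ≫ jV,
      inferInstanceAs (IsOpenImmersion (W.ι ≫ B.ι ≫ B₀.ι)), hWa, ⟨⟨v, hvW⟩, rfl⟩, ?_⟩
    have sW := (IsPullback.of_hasPullback (pullback.snd f.hom b) ((yon S).map (openOverι V W))).paste_horiz sq
    have e : (yon S).map (openOverι V W) ≫ b = (yon S).map (openOverι V W ≫ jV) ≫ p₀ := by
      rw [Functor.map_comp, Category.assoc]
    exact isFiniteMor_pullback_snd sW e hfin
  rcases hqs with hqc | hsep
  · exact exists_nhd_of_qc hZ (hqc hV (qcSp_of_compactSpace hV Pt.compact_yon) _ _ _ sq) hqlft hv hmax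
  -- finitely many points over `v`
  have hfib : ∀ x : Points X.obj, (Points.map (pullback.fst f.hom b) ⁻¹' {x}).Finite := by
    intro x
    obtain ⟨A, φ, hA, hφ, ω, rfl⟩ := exists_affine_etale_nhd X.property x
    haveI := hA
    obtain ⟨R, t, s, sR⟩ := exists_isPullback_of_representable
      (Y.property.representable_from_yon (φ ≫ f.hom)) b
    have hfin := DecFin.finite_fibre_of_qc Y.property hb sR ω
      (Pt.qc_of_goodPt Y.property (hY _) (FieldPt.ofPt (φ ≫ f.hom) ω) rfl) rfl
    let ρ := sq.lift ((yon S).map t ≫ φ) ((yon S).map s) (by rw [Category.assoc]; exact sR.w)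
    have sρ : IsPullback ρ ((yon S).map t) (pullback.fst f.hom b) φ := by
      refine (IsPullback.of_right ?_ ?_ sq.flip).flip.flip
      · rw [sq.lift_snd]; exact sR.flip
      · exact sq.lift_fst _ _ _
    refine (hfin.image (Points.ofPt ρ)).subset fun z hz => ?_
    obtain ⟨y, hy₁, hy₂⟩ := exists_of_isPullback sρ z (Points.ofScheme A ω) (by
      rw [← Points.ofPt_eq_map_ofScheme]; exact hz)
    obtain ⟨r, rfl⟩ := (Points.schemeEquiv R).surjective y
    refine ⟨r, (Points.schemeEquiv A).injective ?_, (Points.ofPt_eq_map_ofScheme ρ r).trans hy₁⟩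
    exact ((ofPt_map t r).symm.trans (Points.ofPt_eq_map_ofScheme _ r)).trans hy₂
  have hP : {z | Points.map (pullback.snd f.hom b) z = Points.ofScheme V v}.Finite := by
    refine (hX0.biUnion fun x _ => hfib x).subset fun z hz => Set.mem_biUnion ?_ rfl
    show C0 X.obj _
    rw [hpre, ← Points.map_comp, sq.w, Points.map_comp, hz, ← Points.ofPt_eq_map_ofScheme,
      c0_iff Y.property hb]
    exact hv
  obtain ⟨U₁, p₁, hp₁, hp₁s⟩ := hZ.atlas
  choose w hw using surjective_ofPt hp₁s
  choose A hA hwA _ using fun u : U₁.left => exists_isAffineOpen_mem_and_subset (x := u) (U := ⊤) trivial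
  let O : U₁.left.Opens :=
    ⨆ z ∈ {z | Points.map (pullback.snd f.hom b) z = Points.ofScheme V v}, A (w z)
  have hO : (O : Set U₁.left) =
      ⋃ z ∈ {z | Points.map (pullback.snd f.hom b) z = Points.ofScheme V v}, (A (w z) : Set U₁.left) := by
    simp only [O, Opens.coe_iSup]
  obtain ⟨Z', j, e, hZ', hj, he, hes, hej, hr⟩ := Qs.exists_openSub_chart hZ
    (a := (yon S).map (openOverι U₁ O) ≫ p₁) (repWith_comp (repWith_etale_openMk O) hp₁)
  have hc : CompactSpace (openOver U₁ O).left :=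
    isCompact_iff_compactSpace.1 (hO ▸ hP.isCompact_biUnion fun z _ => (hA (w z)).isCompact)
  have hje : RepWith @Etale j := repWith_mono (fun φ (_ : IsOpenImmersion φ) => inferInstanceAs (Etale φ)) hj
  obtain ⟨W, hWa, hvW, hfin⟩ := exists_nhd_of_qc hZ' ⟨_, e, he, hes, hc⟩
    (q := j ≫ pullback.snd f.hom b)
    (locP_comp etLocal_lft hZ' hZ hV
      (locP_of_repWith etLocal_lft (repWith_mono (fun φ (_ : IsOpenImmersion φ) =>
        inferInstanceAs (LocallyOfFiniteType φ)) hj)) hqlft) hv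
    fun U a n ha hn u => hmax U (a ≫ j) n (repWith_comp ha hje) (by rw [Category.assoc, hn]) u
  refine ⟨W, hWa, hvW, exists_nhd_of_separated hZ (separated_of_isPullback sq hsep) hmax hZ' hj
    (fun z hz => hr.ge ⟨⟨w z, Opens.mem_iSup.2 ⟨z, Opens.mem_iSup.2 ⟨hz, hwA _⟩⟩⟩, ?_⟩) W hfin⟩
  rw [ofPt_comp]
  exact hw z

/-- Finiteness over a scheme can be tested on an open cover by affines. -/
theorem isFiniteMor_of_cover {T : Over S} {P : Sp S} (hP : IsAlgSpace P) (q : P ⟶ (yon S).obj T)
    {ι : Type*} (W : ι → Over S) (l : ∀ i, W i ⟶ T) [∀ i, IsOpenImmersion (l i).left]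
    (hW : ∀ i, IsAffine (W i).left) (hs : ∀ t, ∃ i w, (l i).left w = t)
    (h : ∀ i, IsFiniteMor (pullback.snd q ((yon S).map (l i)))) : IsFiniteMor q := by
  choose A k fst sA hA hk using fun i => h i (hW i) (𝟙 _)
  let a := fun i => fst i ≫ pullback.fst q ((yon S).map (l i))
  have sq : ∀ i, IsPullback (a i) ((yon S).map (k i)) q ((yon S).map (l i)) := fun i => by
    simpa using (sA i).paste_horiz (IsPullback.of_hasPullback q ((yon S).map (l i)))
  have ha : ∀ i, RepWith @IsOpenImmersion (a i) := fun i =>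
    repWith_of_isPullback (sq i).flip (repWith_map (inferInstanceAs (IsOpenImmersion (l i).left)))
  obtain ⟨G, θ, hθ⟩ := OpenCharts.exists_scheme_of_open_charts hP fun x => by
    obtain ⟨t, ht⟩ := (Points.schemeEquiv T).surjective (Points.map q x)
    obtain ⟨i, w, rfl⟩ := hs t
    obtain ⟨y, hy, -⟩ := exists_of_isPullback (sq i) x (Points.ofScheme (W i) w) (by
      rw [← ht, ← Points.ofPt_eq_map_ofScheme, ofPt_map]; rfl)
    obtain ⟨r, rfl⟩ := (Points.schemeEquiv (A i)).surjective y
    exact ⟨A i, a i, r, ha i, (Points.ofPt_eq_map_ofScheme _ r).trans hy⟩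
  haveI := hθ
  obtain ⟨π, hπ⟩ := (yon S).map_surjective (θ ≫ q)
  have hfin : IsFinite π.left := by
    rw [IsZariskiLocalAtTarget.iff_of_iSup_eq_top (P := @IsFinite) (fun i => (l i).left.opensRange)
      (top_le_iff.1 fun t _ => Opens.mem_iSup.2 (by obtain ⟨i, w, hw⟩ := hs t; exact ⟨i, w, hw⟩))]
    intro i
    have sq' : IsPullback (a i ≫ inv θ) ((yon S).map (k i)) ((yon S).map π) ((yon S).map (l i)) :=
      (sq i).of_iso (Iso.refl _) (asIso θ).symm (Iso.refl _) (Iso.refl _) (by simp) (by simp)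
        (by simp [hπ]) (by simp)
    obtain ⟨a', ha'⟩ := (yon S).map_surjective (a i ≫ inv θ)
    rw [← ha'] at sq'
    have sq₃ : IsPullback a'.left (k i).left π.left (l i).left :=
      (IsPullback.of_map (yon S) ((yon S).map_injective (by simpa using sq'.w)) sq').map (Over.forget S)
    haveI := hk i
    refine (MorphismProperty.arrow_mk_iso_iff @IsFinite (morphismRestrictOpensRange π.left (l i).left)).2 ?_
    rw [← sq₃.isoPullback_inv_snd]
    infer_instance
  rw [isFiniteMor_iff, show q = inv θ ≫ (yon S).map π by rw [hπ, IsIso.inv_hom_id_assoc]]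
  exact repWith_comp (repWith_of_isIso _) (repWith_map hfin)

theorem exists_dense_finite (f : X ⟶ Y) (hf : LocP @LocallyOfFiniteType f.hom) (hY : IsDecent Y.obj)
    (hX0 : {x : Points X.obj | C0 X.obj x}.Finite) (hY0 : {y : Points Y.obj | C0 Y.obj y}.Finite)
    (hpre : ∀ x : Points X.obj, C0 X.obj x ↔ C0 Y.obj (Points.map f.hom x))
    (hqs : IsQuasiCompactMor f.hom ∨ IsSeparatedMor f.hom) :
    ∃ (V X' : AlgSp.Space S) (j : V ⟶ Y) (fst : X' ⟶ V) (snd : X' ⟶ X), RepWith @IsOpenImmersion j.hom ∧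
      Dense (Set.range (Points.map j.hom)) ∧ IsPullback fst.hom snd.hom j.hom f.hom ∧
      IsFiniteMor fst.hom := by
  obtain ⟨U₀, p₀, hp₀, hp₀s⟩ := Y.property.atlas
  choose w hw using surjective_ofPt hp₀s
  choose W i hio hWa hwi hfin using fun y : {y : Points Y.obj // C0 Y.obj y} =>
    exists_finite_piece f hf hY hX0 hY0 hpre hqs hp₀ (w y.1) ((hw y.1).symm ▸ y.2)
  haveI := hio
  let O : U₀.left.Opens := ⨆ y, (i y).left.opensRange
  let T : Over S := openOver U₀ O
  have hrg : ∀ y, Set.range (i y).left ⊆ Set.range O.ι := fun y => by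
    rw [Scheme.Opens.range_ι]
    exact fun x hx => Opens.mem_iSup.2 ⟨y, hx⟩
  let l : ∀ y, W y ⟶ T := fun y => Over.homMk (IsOpenImmersion.lift O.ι (i y).left (hrg y))
    (by show _ ≫ O.ι ≫ U₀.hom = _; rw [IsOpenImmersion.lift_fac_assoc, Over.w])
  have hl : ∀ y, l y ≫ openOverι U₀ O = i y := fun y =>
    Over.OverMorphism.ext (IsOpenImmersion.lift_fac _ _ _)
  haveI : ∀ y, IsOpenImmersion (l y).left := fun y => by
    haveI : IsOpenImmersion ((l y).left ≫ O.ι) := by
      rw [show (l y).left ≫ O.ι = (i y).left from IsOpenImmersion.lift_fac _ _ _]; exact hio y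
    exact IsOpenImmersion.of_comp _ O.ι
  let b := (yon S).map (openOverι U₀ O) ≫ p₀
  have hb : RepWith @Etale b := repWith_comp (repWith_etale_openMk O) hp₀
  have sb := IsPullback.of_hasPullback f.hom b
  have hP : IsAlgSpace (pullback f.hom b) :=
    isAlgSpace_of_isPullback Y.property.diag X.property (IsAlgSpace.yon_obj T) sb
  have hT : IsFiniteMor (pullback.snd f.hom b) := by
    refine isFiniteMor_of_cover hP _ W l hWa (fun t => ?_) fun y => ?_
    · obtain ⟨y, z, hz⟩ := Opens.mem_iSup.1 t.2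
      refine ⟨y, z, O.ι.isEmbedding.injective ?_⟩
      rw [← Scheme.Hom.comp_apply, show (l y).left ≫ O.ι = (i y).left from IsOpenImmersion.lift_fac _ _ _]
      exact hz
    · have sy := (IsPullback.of_hasPullback (pullback.snd f.hom b) ((yon S).map (l y))).paste_horiz sb
      have e : (yon S).map (i y) ≫ p₀ = (yon S).map (l y) ≫ b := by
        rw [← hl y, Functor.map_comp, Category.assoc]
      have sy' : IsPullback (pullback.fst f.hom ((yon S).map (i y) ≫ p₀))
          (pullback.snd f.hom ((yon S).map (i y) ≫ p₀)) f.hom ((yon S).map (l y) ≫ b) :=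
        e ▸ IsPullback.of_hasPullback f.hom ((yon S).map (i y) ≫ p₀)
      rw [← sy.isoIsPullback_hom_snd _ _ sy']
      exact isFiniteMor_iff.2 (repWith_comp (repWith_of_isIso _) (isFiniteMor_iff.1 (hfin y)))
  obtain ⟨Y', j, e, hY', hj, he, hes, hej, hr⟩ := Qs.exists_openSub_chart Y.property hb
  have sj := IsPullback.of_hasPullback j f.hom
  have hX' := isAlgSpace_of_isPullback Y.property.diag hY' X.property sj
  refine ⟨⟨Y', hY'⟩, ⟨_, hX'⟩, ⟨j⟩, ⟨pullback.fst j f.hom⟩, ⟨pullback.snd j f.hom⟩, hj, ?_, sj, ?_⟩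
  · show Dense (Set.range (Points.map j))
    rw [hr, dense_iff_inter_open]
    rintro Q hQ ⟨x, hx⟩
    obtain ⟨m, hm, hmmax⟩ := Groth.L07.Equidim.exists_maximal_generization (w x)
    have hmQ : Points.ofPt p₀ m ∈ Q :=
      (hm.map (Points.continuous_ofPt p₀)).mem_open hQ (by rw [hw]; exact hx)
    let y : {y : Points Y.obj // C0 Y.obj y} := ⟨_, (c0_iff Y.property hp₀ m).2 hmmax⟩
    refine ⟨Points.ofPt p₀ m, hmQ, ⟨w y.1, Opens.mem_iSup.2 ⟨y, hwi y⟩⟩, ?_⟩
    rw [ofPt_comp]
    exact hw y.1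
  · show IsFiniteMor (pullback.fst j f.hom)
    let k := sj.flip.lift (pullback.fst f.hom b) (pullback.snd f.hom b ≫ e)
      (by rw [sb.w, Category.assoc, hej])
    have sk : IsPullback k (pullback.snd f.hom b) (pullback.fst j f.hom) e :=
      IsPullback.of_right (by rw [sj.flip.lift_fst, hej]; exact sb) (sj.flip.lift_snd _ _ _) sj.flip
    have haff : IsAffineMor (pullback.fst j f.hom) :=
      isAffineMor_of_cover he hes sk (isAffineMor_iff.2 (repWith_mono
        (fun φ (_ : IsFinite φ) => inferInstanceAs (IsAffineHom φ)) (isFiniteMor_iff.1 hT)))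
    have := isLocallySurjective_of_etale e he hes
    have := isLocalAtTarget_fppf (@IsFinite : MorphismProperty Scheme.{u})
    exact isFiniteMor_iff.2 (repWith_of_locallySurjective
      (isAffineMor_iff.1 haff).1 sk (isFiniteMor_iff.1 hT))

end Groth.L23.DenseFin
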