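import Groth.Agent.L23.FiniteMor
import Groth.Agent.L23.DimDecent
import Groth.Agent.L23.DenseFinite

/-!
# Dimension functions descend along finite surjective morphisms
-/

universe u

open CategoryTheory CategoryTheory.Limits AlgebraicGeometry AlgSp Topology

set_option backward.isDefEq.respectTransparency.types false
set_option linter.style.haveILetI false

namespace Groth.L23.DimFun

variable {S : Scheme.{u}} {X Y : Sp S}

theorem isClosedMap_of_finite {f : Y ⟶ X} (hf : IsFiniteMor f) : IsClosedMap (Points.map f) := by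
  have h := isFiniteMor_iff.1 hf
  refine isClosedMap_map_of_representable h.rep fun U g => ?_
  haveI : IsFinite (h.rep.snd g).left := repWith_prop h (h.rep.isPullback g)
  exact Scheme.Hom.isClosedMap _

/-- A finite morphism to a decent space has no specializations in its fibres. -/
theorem strict_of_finite (hY : IsAlgSpace Y) (hX : IsAlgSpace X) (hdY : IsDecent Y) (hdX : IsDecent X)
    {f : Y ⟶ X} (hf : IsFiniteMor f) {c b : Points Y} (h : c ⤳ b) (e : Points.map f c = Points.map f b) :
    c = b := by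
  obtain ⟨U, a, ha, has⟩ := hX.atlas
  obtain ⟨u, hu⟩ := surjective_ofPt has (Points.map f b)
  have hF := isFiniteMor_iff.1 hf
  let g := hF.rep.snd a
  have sq := hF.rep.isPullback a
  haveI : IsFinite g.left := repWith_prop hF sq
  have hfst : RepWith @Etale (hF.rep.fst a) := repWith_of_isPullback sq.flip ha
  obtain ⟨w, hw, hw'⟩ := exists_point_of_isPullback sq hu.symm
  obtain ⟨w', hs, hw''⟩ := Pt.exists_gen_lift hY h (hdY c) hfst w hw
  have hcomm : ∀ z, Points.ofPt a (g.left z) = Points.map f (Points.ofPt (hF.rep.fst a) z) := fun z => by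
    rw [Points.map_ofPt, sq.w, ofPt_comp]
  have hgs : g.left w' ⤳ g.left w := hs.map g.left.continuous
  have hg : g.left w' = g.left w :=
    Pt.ofPt_strict hX hdX ha _ _ hgs (by rw [hcomm, hcomm, hw'', hw, e])
  haveI : LocallyQuasiFinite g.left := inferInstance
  have := Groth.L23.eq_of_specializes_of_lqf g.left hs hg
  rw [← hw'', ← hw, this]

theorem isDimFun_of_finite_surjective (hY : IsAlgSpace Y) (hX : IsAlgSpace X) (hdY : IsDecent Y)
    (hdX : IsDecent X) {f : Y ⟶ X} (hf : IsFiniteMor f) (hs : IsSurjectiveMor f) (δ : Points X → ℤ)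
    (hδ : ∀ a b : Points Y, a ⤳ b → a ≠ b → (δ ∘ Points.map f) b < (δ ∘ Points.map f) a ∧
      ((∀ c, a ⤳ c → c ⤳ b → c = a ∨ c = b) → (δ ∘ Points.map f) a = (δ ∘ Points.map f) b + 1))
    (a b : Points X) (hab : a ⤳ b) (hne : a ≠ b) :
    δ b < δ a ∧ ((∀ c, a ⤳ c → c ⤳ b → c = a ∨ c = b) → δ a = δ b + 1) := by
  obtain ⟨a', rfl⟩ := hs a
  obtain ⟨b', hb', rfl⟩ : ∃ b', a' ⤳ b' ∧ Points.map f b' = b :=
    (isClosedMap_of_finite hf).specializingMap hab
  have hne' : a' ≠ b' := fun he => hne (congrArg _ he)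
  obtain ⟨h1, h2⟩ := hδ a' b' hb' hne'
  refine ⟨h1, fun himm => h2 fun c hc1 hc2 => ?_⟩
  rcases himm _ (hc1.map (Points.continuous_map f)) (hc2.map (Points.continuous_map f)) with hc | hc
  · exact Or.inl (strict_of_finite hY hX hdY hdX hf hc1 hc.symm).symm
  · exact Or.inr (strict_of_finite hY hX hdY hdX hf hc2 hc)

end Groth.L23.DimFun
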