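import Groth.Agent.L23.DecentFinite
import Groth.Agent.L23.QFLocus
import Groth.Agent.L23.QFPoints
import Groth.Agent.L23.QsTop
import Groth.Agent.L23.AffineMor
import Mathlib.Topology.JacobsonSpace

/-!
# Finite fibres
-/

universe u

open CategoryTheory CategoryTheory.Limits AlgebraicGeometry AlgSp Topology TopologicalSpace

set_option backward.isDefEq.respectTransparency.types false
set_option linter.style.haveILetI false

namespace Groth.L23.FibFin

/-- A finite fibre consists of quasi-finite points. -/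
theorem qfAt_of_finite {U V : Scheme.{u}} (h : U ⟶ V) [LocallyOfFiniteType h] (u : U)
    (H : (h ⁻¹' {h u}).Finite) : QFL.qfAt U V h u := by
  rw [QFL.qfAt_iff_quasiFiniteAt, Scheme.Hom.quasiFiniteAt_iff_isOpen_singleton_asFiber]
  haveI : LocallyOfFiniteType (h.fiberToSpecResidueField (h u)) :=
    MorphismProperty.pullback_snd _ _ ‹LocallyOfFiniteType h›
  haveI := LocallyOfFiniteType.jacobsonSpace (h.fiberToSpecResidueField (h u))
  haveI : Finite (h.fiber (h u)) := by
    haveI := H.to_subtype
    refine Finite.of_injective (fun x : ↥(h.fiber (h u)) => (⟨h.fiberι (h u) x, ?_⟩ : h ⁻¹' {h u})) fun x y e =>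
      (h.fiberι (h u)).isEmbedding.injective (congrArg Subtype.val e)
    exact (h.range_fiberι (h u)).subset ⟨x, rfl⟩
  exact isOpen_discrete _

variable {S : Scheme.{u}}

/-- Finite fibres of a decent source give quasi-finite points. -/
theorem hasAtMor_of_finite {X Y : Sp S} (hX : IsAlgSpace X) (hY : IsAlgSpace Y) (hd : IsDecent X) {f : X ⟶ Y}
    (hf : LocP @LocallyOfFiniteType f) (x : Points X)
    (H : (Points.map f ⁻¹' {Points.map f x}).Finite) : HasAtMor QFL.qfAt f x := by
  obtain ⟨V, b, -, hb, v, hv⟩ := exists_affine_etale_nhd hY (Points.map f x)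
  have sq := IsPullback.of_hasPullback f b
  have hZ : IsAlgSpace (pullback f b) :=
    isAlgSpace_of_isPullback hY.diag hX (IsAlgSpace.yon_obj V) sq
  obtain ⟨z, hz, -⟩ := exists_of_isPullback sq x (Points.ofScheme V v)
    (by rw [← Points.ofPt_eq_map_ofScheme, hv])
  obtain ⟨U, p, hU, hp, u, rfl⟩ := exists_affine_etale_nhd hZ z
  haveI := hU
  obtain ⟨k, hk⟩ := (yon S).map_surjective (p ≫ pullback.snd f b)
  have ha : RepWith @Etale (p ≫ pullback.fst f b) := repWith_comp hp (repWith_of_isPullback sq.flip hb)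
  have w : (p ≫ pullback.fst f b) ≫ f = (yon S).map k ≫ b := by
    rw [Category.assoc, sq.w, ← Category.assoc, hk]
  haveI : LocallyOfFiniteType k.left := hf _ b k ha hb w
  rw [Points.map_ofPt] at hz
  rw [← hz] at H ⊢
  refine (QFL.hasAtMor_iff ha hb w u).2 (qfAt_of_finite k.left u ?_)
  refine (H.biUnion fun x' _ => DecFin.finite_preimage hX
    (Pt.qc_of_goodPt hX (hd x') _ (Quotient.out_eq x')) ha).subset fun u' hu' => ?_
  refine Set.mem_biUnion (x := Points.ofPt (p ≫ pullback.fst f b) u') ?_ (Quotient.out_eq _).symm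
  show Points.map f _ = Points.map f _
  rw [Points.map_ofPt, Points.map_ofPt, w, ofPt_comp, ofPt_comp]
  exact congrArg _ hu'

/-- Finite morphisms have finite fibres. -/
theorem finite_fibre {X Y : Sp S} (f : X ⟶ Y) (hf : IsFiniteMor f) (y : Points Y) :
    (Points.map f ⁻¹' {y}).Finite := by
  obtain ⟨p, rfl⟩ := Points.mk_surjective y
  haveI : IsAffine p.pt.left := inferInstanceAs (IsAffine (Spec (CommRingCat.of p.K)))
  obtain ⟨W, i, fst, sq, hW, hi⟩ := hf (Z := p.pt) inferInstance p.toHom
  haveI := hi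
  let π : W.left ⟶ Spec (CommRingCat.of p.K) := i.left
  haveI : IsFinite π := hi
  haveI : Finite W.left := by
    have := π.finite_preimage_singleton (IsLocalRing.closedPoint p.K)
    exact Set.finite_univ_iff.1 (this.subset fun z _ => Subsingleton.elim (α := PrimeSpectrum p.K) _ _)
  refine (Set.finite_range (Points.ofPt fst)).subset fun x hx => ?_
  obtain ⟨z, hz, -⟩ := exists_of_isPullback sq x (Points.ofScheme p.pt (IsLocalRing.closedPoint p.K)) (by
    rw [← Points.ofPt_eq_map_ofScheme, Points.ofPt_toHom]; exact hx)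
  obtain ⟨w, rfl⟩ := (Points.schemeEquiv W).surjective z
  exact ⟨w, (Points.ofPt_eq_map_ofScheme fst w).trans hz⟩

end Groth.L23.FibFin
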