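import Groth.Agent.L23.CodimZeroFibre
import Groth.Agent.S10399

/-!
# Quasi-finiteness at the generic point
-/

universe u

open CategoryTheory CategoryTheory.Limits AlgebraicGeometry AlgSp Topology

set_option backward.isDefEq.respectTransparency.types false
set_option linter.style.haveILetI false

namespace Groth.L23.GenQF

variable {S : Scheme.{u}} {X Y : AlgSp.Space S}

theorem hasAt_zero_iff_eq (hX : IsIntegralSp X.obj) {x : Points X.obj}
    (hx : IsGenericPoint x (Set.univ : Set (Points X.obj))) (z : Points X.obj) :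
    HasAt (fun U u => ringKrullDim ↥(U.presheaf.stalk u) = 0) X.obj z ↔ z = x := by
  haveI := hX.2.2
  haveI := Pt.t0Space_of_isDecent X.property hX.2.1
  refine (Pt.hasAt_zero_iff X.property hX.2.1 z).symm.trans ⟨?_, ?_⟩
  · rintro ⟨T, hT, hg⟩
    rw [irreducibleComponents_eq_singleton, Set.mem_singleton_iff] at hT
    exact (hT ▸ hg).eq hx
  · rintro rfl
    exact ⟨Set.univ, by rw [irreducibleComponents_eq_singleton]; rfl, hx⟩

theorem qf_iff_unique (hX : IsIntegralSp X.obj) (hY : IsIntegralSp Y.obj) (f : X ⟶ Y)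
    (hft : LocP @LocallyOfFiniteType f.hom) {x : Points X.obj}
    (hx : IsGenericPoint x (Set.univ : Set (Points X.obj))) {y : Points Y.obj}
    (hy : IsGenericPoint y (Set.univ : Set (Points Y.obj))) (hxy : Points.map f.hom x = y) :
    HasAtMor QFL.qfAt f.hom x ↔ ∀ x', Points.map f.hom x' = y → x' = x := by
  obtain ⟨h1, h2⟩ := Groth.Agent.S10399.result f hft y ((hasAt_zero_iff_eq hY hy y).2 rfl)
  constructor
  · intro hq x' hx'
    refine (hasAt_zero_iff_eq hX hx x').1 (h2 (fun z _ hz => ?_) x' hx')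
    rw [(hasAt_zero_iff_eq hX hx z).1 hz]
    exact hq
  · intro H
    exact h1.1 (fun z hz => (hasAt_zero_iff_eq hX hx z).2 (H z hz)) x hxy

theorem map_generic (hX : IsIntegralSp X.obj) (hY : IsIntegralSp Y.obj) (f : X ⟶ Y) (hd : IsDominantMor f.hom)
    {x : Points X.obj} (hx : IsGenericPoint x (Set.univ : Set (Points X.obj))) {y : Points Y.obj}
    (hy : IsGenericPoint y (Set.univ : Set (Points Y.obj))) : Points.map f.hom x = y := by
  haveI := Pt.t0Space_of_isDecent Y.property hY.2.1
  have h := hx.image (Points.continuous_map f.hom)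
  rw [Set.image_univ, DenseRange.closure_range hd] at h
  exact h.eq hy

theorem qf_iff_trdeg (hX : IsIntegralSp X.obj) (f : X ⟶ Y) (hft : LocP @LocallyOfFiniteType f.hom)
    {x : Points X.obj} (hx : IsGenericPoint x (Set.univ : Set (Points X.obj))) :
    HasAtMor QFL.qfAt f.hom x ↔ HasAtMor (fun _ _ h u => Dual3.resTrdeg h u = 0) f.hom x := by
  refine ⟨CodimOne.resTrdeg_zero_of_qf, ?_⟩
  rintro ⟨U, V, a, b, g, u, ha, hb, w, e, H⟩
  haveI : LocallyOfFiniteType g.left := hft a b g ha hb w
  have hm : ∀ q, q ⤳ u → q = u := (CodimOne.stalkDim_eq_zero_iff u).1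
    ((Pt.hasAt_stalkDim_iff X.property ha u (fun t => t = 0)).1 (e.symm ▸ (hasAt_zero_iff_eq hX hx x).2 rfl))
  refine ⟨U, V, a, b, g, u, ha, hb, w, e, (FibCond.qfAt_iff_fibreDimAt g.left u).2 ?_⟩
  rw [Trdeg.fibreDimAt_eq_add, H, Groth.L07.DimToolkit.fibre_dim_zero g.left u fun z _ hz => hm z hz]
  simp

end Groth.L23.GenQF
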