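import Groth.Agent.L23.SiteFacts
import Groth.Agent.L23.DimDecent
import Groth.Agent.L06.NormalAscent
import Groth.Agent.S7180
import Mathlib.RingTheory.LocalProperties.IntegrallyClosed

/-!
# Integral algebraic spaces
-/

universe u

open CategoryTheory CategoryTheory.Limits AlgebraicGeometry Opposite AlgSp Topology TopologicalSpace

set_option backward.isDefEq.respectTransparency.types false
set_option linter.style.haveILetI false

namespace Groth.L23.IntSp

variable {S : Scheme.{u}}

/-- The minimal points of a chart are those over the generic point. -/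
theorem minimal_iff {X : Sp S} (hX : IsAlgSpace X) (hd : IsDecent X) {ξ : Points X} (hξ : IsGenericPoint ξ Set.univ)
    {U : Over S} {a : (yon S).obj U ⟶ X} (ha : RepWith @Etale a) (u : U.left) :
    (∀ v, v ⤳ u → v = u) ↔ Points.ofPt a u = ξ := by
  haveI := Pt.t0Space_of_isDecent hX hd
  constructor
  · intro h
    obtain ⟨v, hv, he⟩ := Pt.exists_gen_lift hX (hξ.specializes (Set.mem_univ (Points.ofPt a u))) (hd ξ) ha u rfl
    rwa [h v hv] at he
  · intro h v hv
    refine Pt.ofPt_strict hX hd ha v u hv ?_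
    rw [h]
    exact ((h ▸ hv.map (Points.continuous_ofPt a)).antisymm (hξ.specializes (Set.mem_univ _))).eq

theorem finite_minimal {X : Sp S} (hX : IsAlgSpace X) (hd : IsDecent X) {ξ : Points X} (hξ : IsGenericPoint ξ Set.univ)
    {U : Over S} [IsAffine U.left] {a : (yon S).obj U ⟶ X} (ha : RepWith @Etale a) :
    {u : U.left | ∀ v, v ⤳ u → v = u}.Finite := by
  obtain ⟨p, hp, hm, hq⟩ := hd ξ
  refine ((Pt.qc_iff_finite_fibres hX p).1 hq U a inferInstance ha).subset fun u hu => ?_
  exact ((minimal_iff hX hd hξ ha u).1 hu).trans hp.symm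

theorem exists_minimal {X : Sp S} (hX : IsAlgSpace X) (hd : IsDecent X) {ξ : Points X} (hξ : IsGenericPoint ξ Set.univ)
    {U : Over S} {a : (yon S).obj U ⟶ X} (ha : RepWith @Etale a) (u : U.left) :
    ∃ w, (∀ v, v ⤳ w → v = w) ∧ w ⤳ u ∧ Points.ofPt a w = ξ := by
  obtain ⟨w, hw, he⟩ := Pt.exists_gen_lift hX (hξ.specializes (Set.mem_univ (Points.ofPt a u))) (hd ξ) ha u rfl
  exact ⟨w, (minimal_iff hX hd hξ ha w).2 he, hw, he⟩

theorem exists_genericPoint {X : Sp S} (hX : IsAlgSpace X) (hd : IsDecent X) (hi : IrreducibleSpace (Points X)) :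
    ∃ ξ : Points X, IsGenericPoint ξ Set.univ := by
  haveI := Pt.quasiSober_of_isDecent hX hd
  exact QuasiSober.sober (IrreducibleSpace.isIrreducible_univ _) isClosed_univ

theorem eq_of_minimal_of_domain {U : Scheme.{u}} {u : U} [IsDomain (U.presheaf.stalk u)] {η η' : U}
    (hη : ∀ v, v ⤳ η → v = η) (hη' : ∀ v, v ⤳ η' → v = η') (h : η ⤳ u) (h' : η' ⤳ u) : η = η' := by
  have key : ∀ {ζ : U}, (∀ v, v ⤳ ζ → v = ζ) → ζ ⤳ u →
      ζ = U.fromSpecStalk u (⊥ : PrimeSpectrum (U.presheaf.stalk u)) := by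
    intro ζ hζ hu
    obtain ⟨p, rfl⟩ : ζ ∈ Set.range (U.fromSpecStalk u) := by rw [Scheme.range_fromSpecStalk]; exact hu
    exact (hζ _ (((PrimeSpectrum.le_iff_specializes _ _).1 bot_le).map (U.fromSpecStalk u).continuous)).symm
  exact (key hη h).trans (key hη' h').symm

/-- Normality of stalks at points of charts. -/
theorem normal_chart {X : Sp S} (hX : IsAlgSpace X)
    (hn : EtaleLocally (fun U => ∀ u : ↥U, IsDomain ↥(U.presheaf.stalk u) ∧
      IsIntegrallyClosed ↥(U.presheaf.stalk u)) X)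
    {U : Over S} {a : (yon S).obj U ⟶ X} (ha : RepWith @Etale a) (u : U.left) :
    IsDomain (U.left.presheaf.stalk u) ∧ IsIntegrallyClosed (U.left.presheaf.stalk u) := by
  obtain ⟨V, b, hb, hbs, hV⟩ := hn
  obtain ⟨R, t, s, sq⟩ := exists_isPullback_of_representable (hX.representable_from_yon a) b
  haveI : Etale t.left := repWith_prop hb sq.flip
  haveI : Surjective t.left := repWith_prop hbs sq.flip
  haveI : Etale s.left := repWith_prop ha sq
  haveI : WeaklyEtale s.left := inferInstance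
  obtain ⟨r, rfl⟩ := t.left.surjective u
  obtain ⟨h1, h2⟩ := Groth.Agent.S7180.result s.left hV r
  letI := (t.left.stalkMap r).hom.toAlgebra
  haveI : Module.Flat (U.left.presheaf.stalk (t.left r)) (R.left.presheaf.stalk r) := Flat.stalkMap t.left r
  haveI : IsLocalHom (algebraMap (U.left.presheaf.stalk (t.left r)) (R.left.presheaf.stalk r)) :=
    inferInstanceAs (IsLocalHom (t.left.stalkMap r).hom)
  haveI : Module.FaithfullyFlat (U.left.presheaf.stalk (t.left r)) (R.left.presheaf.stalk r) :=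
    Module.FaithfullyFlat.of_flat_of_isLocalHom
  exact Groth.L06.NormalAscent.isIntegrallyClosed_of_faithfullyFlat _ (R.left.presheaf.stalk r)

/-- Normal integral spaces have normal integral affine charts. -/
theorem exists_normal_chart (X : Space S) (hi : IsIntegralSp X.obj)
    (hn : EtaleLocally (fun U => ∀ u : ↥U, IsDomain ↥(U.presheaf.stalk u) ∧
      IsIntegrallyClosed ↥(U.presheaf.stalk u)) X.obj) (x : Points X.obj) :
    ∃ (U : Over S) (a : (yon S).obj U ⟶ X.obj), RepWith @Etale a ∧ IsAffine U.left ∧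
      IsIntegral U.left ∧ IsIntegrallyClosed Γ(U.left, ⊤) ∧ x ∈ Set.range (Points.ofPt a) := by
  obtain ⟨ξ, hξ⟩ := exists_genericPoint X.property hi.2.1 hi.2.2
  obtain ⟨U, a, hU, ha, u, hu⟩ := exists_affine_etale_nhd X.property x
  let M : Set U.left := {v | ∀ z, z ⤳ v → z = v}
  have hM : M.Finite := finite_minimal X.property hi.2.1 hξ ha
  obtain ⟨w, hwM, hwu, -⟩ := exists_minimal X.property hi.2.1 hξ ha u
  haveI := (normal_chart X.property hn ha u).1
  let W : U.left.Opens := ⟨(⋃ η ∈ M \ {w}, closure {η})ᶜ,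
    ((hM.subset Set.diff_subset).isClosed_biUnion fun _ _ => isClosed_closure).isOpen_compl⟩
  have huW : u ∈ W := fun h => by
    obtain ⟨η, hη, hηu⟩ := Set.mem_iUnion₂.1 h
    exact hη.2 (eq_of_minimal_of_domain hη.1 hwM (specializes_iff_mem_closure.2 hηu) hwu)
  have hWw : ∀ z ∈ W, w ⤳ z := fun z hz => by
    obtain ⟨η, hη, hηz, -⟩ := exists_minimal X.property hi.2.1 hξ ha z
    rcases eq_or_ne η w with h | h
    · exact h ▸ hηz
    · exact absurd (Set.mem_biUnion (show η ∈ M \ {w} from ⟨hη, h⟩) hηz.mem_closure) hz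
  obtain ⟨_, ⟨B, hB, rfl⟩, huB, hBW⟩ :=
    U.left.isBasis_affineOpens.exists_subset_of_mem_open huW W.isOpen
  change U.left.Opens at B
  have hwB : w ∈ B := hwu.mem_open B.isOpen huB
  let U' : Over S := Over.mk (B.ι ≫ U.hom)
  haveI : IsAffine U'.left := hB
  let a' : (yon S).obj U' ⟶ X.obj := (yon S).map (Over.homMk B.ι rfl : U' ⟶ U) ≫ a
  have ha' : RepWith @Etale a' := repWith_comp (repWith_etale_openMk B) ha
  haveI : IrreducibleSpace B.toScheme := by
    have hg : IsGenericPoint (⟨w, hwB⟩ : B.toScheme) Set.univ :=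
      Set.eq_univ_of_forall fun z => specializes_iff_mem_closure.1
        ((subtype_specializes_iff (⟨w, hwB⟩ : B) z).2 (hWw z.1 (hBW z.2)))
    exact { toPreirreducibleSpace := ⟨hg.isIrreducible.2⟩, toNonempty := ⟨⟨w, hwB⟩⟩ }
  haveI : IsReduced U'.left := Supp.isReduced_obj (X := X) hi.1 (EtOver.mk a' ha')
  haveI : IsReduced B.toScheme := show IsReduced U'.left from inferInstance
  haveI hI : IsIntegral U'.left := isIntegral_of_irreducibleSpace_of_isReduced B.toScheme
  haveI : IsDomain Γ(U'.left, ⊤) := inferInstance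
  have hIC : IsIntegrallyClosed Γ(U'.left, ⊤) := by
    refine IsIntegrallyClosed.of_localization_maximal fun m _ hm => ?_
    let P : Spec Γ(U'.left, ⊤) := (⟨m, hm.isPrime⟩ : PrimeSpectrum Γ(U'.left, ⊤))
    let e := (asIso (U'.left.isoSpec.inv.stalkMap P) ≪≫ Spec.stalkIso Γ(U'.left, ⊤) P).commRingCatIsoToRingEquiv
    haveI := (normal_chart X.property hn ha' (U'.left.isoSpec.inv P)).2
    exact IsIntegrallyClosed.of_equiv e
  refine ⟨U', a', ha', inferInstance, hI, hIC, ⟨(⟨u, huB⟩ : B), ?_⟩⟩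
  exact (ofPt_openMk B a ⟨u, huB⟩).trans hu

/-- Two points with the same image have sections with compatible non-vanishing. -/
theorem exists_common {X : Space S} (E E' : EtOver X.obj) (v : E.obj.left.left) (v' : E'.obj.left.left)
    (h : Points.ofPt E.obj.hom v = Points.ofPt E'.obj.hom v') :
    ∃ (F : EtOver X.obj) (g : F ⟶ E) (g' : F ⟶ E') (r : F.obj.left.left),
      g.hom.left.left r = v ∧ g'.hom.left.left r = v' := by
  obtain ⟨R, t, s, sq⟩ := exists_isPullback_of_representable (X.property.representable_from_yon E.obj.hom) E'.obj.hom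
  obtain ⟨r, hr, hr'⟩ := (ofPt_eq_ofPt_iff sq v v').1 h
  haveI : Etale t.left := repWith_prop E'.property sq.flip
  let F : EtOver X.obj := EtOver.mk ((yon S).map t ≫ E.obj.hom) (repWith_comp (repWith_map ‹Etale t.left›) E.property)
  exact ⟨F, EtOver.homMk t rfl, EtOver.homMk s sq.w.symm, r, hr, hr'⟩

theorem isDomain_gsect (X : Space S) (hi : IsIntegralSp X.obj) : IsDomain ↥(gsectEt (OEt X.obj)) := by
  obtain ⟨ξ, hξ⟩ := exists_genericPoint X.property hi.2.1 hi.2.2
  let π : ∀ (E : EtOver X.obj), ↥(gsectEt (OEt X.obj)) → Γ(E.obj.left.left, ⊤) := fun E f => ((limit.π (OEt X.obj).obj (op E)) f).down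
  let D := fun (f : ↥(gsectEt (OEt X.obj))) (E : EtOver X.obj) => E.obj.left.left.basicOpen (π E f)
  have hnat : ∀ (f : ↥(gsectEt (OEt X.obj))) {F E : EtOver X.obj} (g : F ⟶ E),
      g.hom.left.left ⁻¹ᵁ D f E = D f F := fun f F E g => by
    have := congrArg (fun φ => (φ f).down) (limit.w (OEt X.obj).obj g.op)
    show g.hom.left.left ⁻¹ᵁ _ = F.obj.left.left.basicOpen (π F f)
    rw [Scheme.preimage_basicOpen_top]
    exact congrArg F.obj.left.left.basicOpen this
  have hzero : ∀ f : ↥(gsectEt (OEt X.obj)), (∀ E, D f E = ⊥) → f = 0 := fun f hf => by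
    refine Concrete.limit_ext _ _ _ fun E => ?_
    refine (ULift.down_injective ?_).trans (map_zero (limit.π (OEt X.obj).obj E).hom).symm
    exact (@basicOpen_eq_bot_iff _ (Supp.isReduced_obj hi.1 E.unop) _ _).1 (hf E.unop)
  have hgen : ∀ f : ↥(gsectEt (OEt X.obj)), f ≠ 0 →
      ∃ (E : EtOver X.obj) (v : E.obj.left.left), v ∈ D f E ∧ Points.ofPt E.obj.hom v = ξ := fun f hf => by
    by_contra hc
    push Not at hc
    refine hf (hzero f fun E => eq_bot_iff.2 fun z hz => ?_)
    obtain ⟨w, -, hwz, hwξ⟩ := exists_minimal X.property hi.2.1 hξ E.property z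
    exact absurd hwξ (hc E w (hwz.mem_open (D f E).isOpen hz))
  haveI : NoZeroDivisors ↥(gsectEt (OEt X.obj)) := ⟨fun {f g} hfg => by
    by_contra hc
    push Not at hc
    obtain ⟨E, v, hv, hvξ⟩ := hgen f hc.1
    obtain ⟨E', v', hv', hvξ'⟩ := hgen g hc.2
    obtain ⟨F, p, p', r, hr, hr'⟩ := exists_common E E' v v' (hvξ.trans hvξ'.symm)
    have h1 : r ∈ D f F := by rw [← hnat f p]; show p.hom.left.left r ∈ D f E; rw [hr]; exact hv
    have h2 : r ∈ D g F := by rw [← hnat g p']; show p'.hom.left.left r ∈ D g E'; rw [hr']; exact hv'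
    have h3 : r ∈ D (f * g) F := by
      show r ∈ F.obj.left.left.basicOpen (π F (f * g))
      rw [show π F (f * g) = π F f * π F g from congrArg ULift.down (map_mul (limit.π (OEt X.obj).obj (op F)).hom f g),
        Scheme.basicOpen_mul]
      exact ⟨h1, h2⟩
    rw [hfg] at h3
    have h0 : π F 0 = 0 := congrArg ULift.down (map_zero (limit.π (OEt X.obj).obj (op F)).hom)
    have h4 : r ∈ F.obj.left.left.basicOpen (0 : Γ(F.obj.left.left, ⊤)) := h0 ▸ h3
    rw [Scheme.basicOpen_zero] at h4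
    exact h4⟩
  haveI : Nontrivial ↥(gsectEt (OEt X.obj)) := by
    obtain ⟨U, a, hU, ha, u, -⟩ := exists_affine_etale_nhd X.property ξ
    refine ⟨⟨1, 0, fun h => ?_⟩⟩
    have h1 : π (EtOver.mk a ha) 1 = π (EtOver.mk a ha) 0 := by rw [h]
    rw [show π (EtOver.mk a ha) 1 = 1 from congrArg ULift.down (map_one (limit.π (OEt X.obj).obj _).hom),
      show π (EtOver.mk a ha) 0 = 0 from congrArg ULift.down (map_zero (limit.π (OEt X.obj).obj _).hom)] at h1
    have hu : u ∈ U.left.basicOpen (1 : Γ(U.left, ⊤)) := by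
      rw [Scheme.basicOpen_of_isUnit _ isUnit_one]; trivial
    rw [show (1 : Γ(U.left, ⊤)) = 0 from h1, Scheme.basicOpen_zero] at hu
    exact hu
  exact NoZeroDivisors.to_isDomain _

end Groth.L23.IntSp
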