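import Groth.Agent.L23.DenseFinite
import Groth.Agent.L23.FibreFinite
import Groth.Agent.L23.GenericQF
import Groth.Agent.L23.DimFunDesc
import Groth.Agent.L23.IntegralSpace

/-!
# Generically finite morphisms of integral algebraic spaces
-/

universe u

open CategoryTheory CategoryTheory.Limits AlgebraicGeometry Opposite AlgSp Topology

set_option backward.isDefEq.respectTransparency.types false
set_option linter.style.haveILetI false

namespace Groth.L23.Alter

variable {S : Scheme.{u}}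

theorem mem_open {B : Type*} [TopologicalSpace B] {y : B} (hy : IsGenericPoint y Set.univ) {O : Set B}
    (hO : IsOpen O) (hne : O.Nonempty) : y ∈ O :=
  (hy.mem_open_set_iff hO).2 (by rwa [Set.univ_inter])

theorem etale_of_openImm {X : Sp S} {U : Over S} {a : (yon S).obj U ⟶ X} (ha : RepWith @IsOpenImmersion a) :
    RepWith @Etale a :=
  repWith_mono (fun φ (_ : IsOpenImmersion φ) => inferInstanceAs (Etale φ)) ha

theorem schemePt_generic {Y : Space S} (hY : IsIntegralSp Y.obj) {y : Points Y.obj} (hy : IsGenericPoint y Set.univ) :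
    SL.SchemePt y := by
  haveI := hY.2.2
  exact mem_open hy SL.isOpen_schemePt (SL.dense_schemePt Y.property hY.2.1).nonempty

theorem exists_affine_open {X : Sp S} {x : Points X} (hx : SL.SchemePt x) {O : Set (Points X)} (hO : IsOpen O)
    (hxO : x ∈ O) : ∃ (V : Over S) (b : (yon S).obj V ⟶ X) (v : V.left), IsAffine V.left ∧
      RepWith @IsOpenImmersion b ∧ Points.ofPt b v = x ∧ Set.range (Points.ofPt b) ⊆ O := by
  obtain ⟨A, c, z, hc, rfl⟩ := hx
  let O' : A.left.Opens := ⟨_, hO.preimage (Points.continuous_ofPt c)⟩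
  obtain ⟨_, ⟨B, hB, rfl⟩, hzB, hBO⟩ :=
    A.left.isBasis_affineOpens.exists_subset_of_mem_open (show z ∈ O' from hxO) O'.isOpen
  change A.left.Opens at B
  let Bo : Over S := Over.mk (B.ι ≫ A.hom)
  let g : Bo ⟶ A := Over.homMk B.ι
  refine ⟨Bo, (yon S).map g ≫ c, ⟨z, hzB⟩, hB,
    repWith_comp (repWith_map (show IsOpenImmersion g.left from inferInstanceAs (IsOpenImmersion B.ι))) hc,
    by rw [ofPt_comp]; rfl, ?_⟩
  rintro _ ⟨w, rfl⟩
  rw [ofPt_comp]
  exact hBO w.2

variable {X Y : Space S} (hXi : IsIntegralSp X.obj) (hYi : IsIntegralSp Y.obj) (f : X ⟶ Y)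
  (hft : LocP @LocallyOfFiniteType f.hom) (hd : IsDominantMor f.hom)
  {x : Points X.obj} (hx : IsGenericPoint x (Set.univ : Set (Points X.obj)))
  {y : Points Y.obj} (hy : IsGenericPoint y (Set.univ : Set (Points Y.obj)))

include hXi hYi hft hd hx hy

theorem unique_of_local_finite {U V : Over S} {a : (yon S).obj U ⟶ X.obj} {b : (yon S).obj V ⟶ Y.obj} {g : U ⟶ V}
    (hne : Nonempty U.left) (ha : RepWith @IsOpenImmersion a) (hb : RepWith @IsOpenImmersion b)
    (w : a ≫ f.hom = (yon S).map g ≫ b) (hg : IsFinite g.left) (x' : Points X.obj) (hx' : Points.map f.hom x' = y) :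
    x' = x := by
  obtain ⟨u, hu⟩ : x ∈ Set.range (Points.ofPt a) :=
    mem_open hx (isOpenMap_ofPt (etale_of_openImm ha)).isOpen_range ⟨_, hne.some, rfl⟩
  haveI := hg
  refine (GenQF.qf_iff_unique hXi hYi f hft hx hy (GenQF.map_generic hXi hYi f hd hx hy)).1 ?_ x' hx'
  exact ⟨U, V, a, b, g, u, etale_of_openImm ha, etale_of_openImm hb, w, hu, ⊤, trivial,
    inferInstanceAs (LocallyQuasiFinite ((⊤ : U.left.Opens).ι ≫ g.left)),
    inferInstanceAs (LocallyOfFiniteType ((⊤ : U.left.Opens).ι ≫ g.left))⟩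

theorem exists_local_finite (huniq : ∀ x', Points.map f.hom x' = y → x' = x) :
    ∃ (U V : Over S) (a : (yon S).obj U ⟶ X.obj) (b : (yon S).obj V ⟶ Y.obj) (g : U ⟶ V),
      IsAffine U.left ∧ IsAffine V.left ∧ Nonempty U.left ∧
        RepWith @IsOpenImmersion a ∧ RepWith @IsOpenImmersion b ∧
          a ≫ f.hom = (yon S).map g ≫ b ∧ IsFinite g.left := by
  have hxy := GenQF.map_generic hXi hYi f hd hx hy
  obtain ⟨V₀, b₀, v, hV₀, hb₀, hv, -⟩ := exists_affine_open (schemePt_generic hYi hy) isOpen_univ trivial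
  let O : Set (Points X.obj) := Points.map f.hom ⁻¹' Set.range (Points.ofPt b₀)
  have hO : IsOpen O := ((isOpenMap_ofPt (etale_of_openImm hb₀)).isOpen_range).preimage (Points.continuous_map f.hom)
  obtain ⟨U₀, a₀, u, hU₀, ha₀, hu, hrange⟩ := exists_affine_open (schemePt_generic hXi hx) hO
    (show Points.map f.hom x ∈ Set.range (Points.ofPt b₀) from ⟨v, hv.trans hxy.symm⟩)
  haveI := mono_of_repWith_openImmersion ha₀
  haveI := mono_of_repWith_openImmersion hb₀
  obtain ⟨k, hk⟩ := (exists_factor_iff hb₀ (a₀ ≫ f.hom)).2 (by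
    rintro _ ⟨z, rfl⟩
    rw [range_map_yon, Points.map_comp]
    exact hrange (by rw [← range_map_yon]; exact ⟨z, rfl⟩))
  obtain ⟨g, rfl⟩ := (yon S).map_surjective k
  haveI : LocallyOfFiniteType g.left := hft a₀ b₀ g (etale_of_openImm ha₀) (etale_of_openImm hb₀) hk.symm
  have hgmap : ∀ z, Points.ofPt b₀ (g.left z) = Points.map f.hom (Points.ofPt a₀ z) := fun z => by
    rw [Points.map_ofPt, ← hk, ofPt_comp]
  have hinj : ∀ {T : Over S} {c : (yon S).obj T ⟶ Y.obj} [Mono c], Function.Injective (Points.ofPt c) := by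
    intro T c _ p q h
    rw [Points.ofPt_eq_map_ofScheme, Points.ofPt_eq_map_ofScheme] at h
    exact (Points.schemeEquiv T).injective (QFL.map_injective_of_mono c h)
  have hfib : ∀ z, g.left z = v → z = u := fun z hz => by
    have h1 : Points.ofPt a₀ z = x := huniq _ (by rw [← hgmap, hz, hv])
    rw [← hu, Points.ofPt_eq_map_ofScheme, Points.ofPt_eq_map_ofScheme] at h1
    exact (Points.schemeEquiv U₀).injective (QFL.map_injective_of_mono a₀ h1)
  have hgu : g.left u = v := hinj (by rw [hgmap, hu, hxy, hv])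
  have hvmax : ∀ q, q ⤳ v → q = v := (IntSp.minimal_iff Y.property hYi.2.1 hy (etale_of_openImm hb₀) v).2 hv
  let Qo : U₀.left.Opens := ⟨{z | QFL.qfAt U₀.left V₀.left g.left z}, by
    refine isOpen_iff_forall_mem_open.2 fun z hz => ?_
    obtain ⟨W, hzW, h1, h2⟩ := hz
    exact ⟨W, fun z' hz' => ⟨W, hz', h1, h2⟩, W.isOpen, hzW⟩⟩
  have hQ : ∀ z, g.left z = v → z ∈ Qo := fun z hz => by
    obtain rfl := hfib z hz
    exact FibFin.qfAt_of_finite g.left z ((Set.finite_singleton z).subset fun w hw =>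
      hfib w (hw.trans hgu))
  obtain ⟨W₁, -, hvW₁, hW₁Q⟩ := Groth.L23.GenFin.exists_nhd_preimage_subset g.left hvmax Qo hQ
  haveI hlqf : LocallyQuasiFinite (g.left ∣_ W₁) := by
    haveI : LocallyQuasiFinite ((g.left ⁻¹ᵁ W₁).ι ≫ g.left) :=
      Groth.L23.GenFin.lqf_of_forall_qfAt g.left _ fun z hz => hW₁Q hz
    rw [← morphismRestrict_ι] at this
    exact LocallyQuasiFinite.of_comp (g.left ∣_ W₁) W₁.ι
  haveI : QuasiCompact g.left := inferInstance
  haveI : IsSeparated g.left := inferInstance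
  obtain ⟨W, -, hvW, hWfin⟩ := Groth.L23.GenFin.exists_isFinite_nhd g.left hvmax W₁ hvW₁ hlqf
  obtain ⟨_, ⟨B, hB, rfl⟩, hvB, hBW⟩ :=
    V₀.left.isBasis_affineOpens.exists_subset_of_mem_open hvW W.isOpen
  change V₀.left.Opens at B
  haveI := hWfin
  haveI hfinB := Groth.L23.GenFin.isFinite_restrict_le g.left (W := W) (W' := B) hBW
  let U : Over S := Over.mk ((g.left ⁻¹ᵁ B).ι ≫ U₀.hom)
  let V : Over S := Over.mk (B.ι ≫ V₀.hom)
  let iU : U ⟶ U₀ := Over.homMk (g.left ⁻¹ᵁ B).ι
  let iV : V ⟶ V₀ := Over.homMk B.ι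
  let g' : U ⟶ V := Over.homMk (g.left ∣_ B) (by
    show (g.left ∣_ B) ≫ B.ι ≫ V₀.hom = (g.left ⁻¹ᵁ B).ι ≫ U₀.hom
    rw [morphismRestrict_ι_assoc, Over.w g])
  haveI : IsAffine V.left := hB
  haveI : IsFinite g'.left := hfinB
  refine ⟨U, V, (yon S).map iU ≫ a₀, (yon S).map iV ≫ b₀, g', isAffine_of_isAffineHom g'.left, inferInstance,
    ⟨(⟨u, show g.left u ∈ B from hgu.symm ▸ hvB⟩ : (g.left ⁻¹ᵁ B))⟩,
    repWith_comp (repWith_map (show IsOpenImmersion (g.left ⁻¹ᵁ B).ι from inferInstance)) ha₀,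
    repWith_comp (repWith_map (show IsOpenImmersion B.ι from inferInstance)) hb₀, ?_, hfinB⟩
  rw [Category.assoc, ← hk, ← Category.assoc, ← Category.assoc, ← Functor.map_comp, ← Functor.map_comp]
  congr 2
  exact Over.OverMorphism.ext (morphismRestrict_ι g.left B).symm

theorem exists_affine_finite (hsq : IsSeparatedMor f.hom ∨ IsQuasiCompactMor f.hom)
    (huniq : ∀ x', Points.map f.hom x' = y → x' = x) :
    ∃ (V : Over S) (b : (yon S).obj V ⟶ Y.obj) (U : Over S) (g : U ⟶ V) (a : (yon S).obj U ⟶ X.obj),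
        IsAffine V.left ∧ Nonempty V.left ∧ RepWith @IsOpenImmersion b ∧
          IsPullback a ((yon S).map g) f.hom b ∧ IsAffine U.left ∧ IsFinite g.left := by
  have hxy := GenQF.map_generic hXi hYi f hd hx hy
  obtain ⟨V', X', j, fst, snd, hj, hjd, sq, hfin⟩ := DenseFin.exists_dense_finite f hft hYi.2.1
    ((Set.finite_singleton x).subset fun z hz => (GenQF.hasAt_zero_iff_eq hXi hx z).1 hz)
    ((Set.finite_singleton y).subset fun z hz => (GenQF.hasAt_zero_iff_eq hYi hy z).1 hz)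
    (fun z => ((GenQF.hasAt_zero_iff_eq hXi hx z).trans
      ⟨fun h => h ▸ hxy, huniq z⟩).trans (GenQF.hasAt_zero_iff_eq hYi hy _).symm)
    hsq.symm
  haveI := mono_of_repWith_openImmersion hj
  have hjo : IsOpen (Set.range (Points.map j.hom)) := (isOpenMap_map_of_universallyOpen
    (repWith_mono (fun φ (_ : IsOpenImmersion φ) => inferInstanceAs (UniversallyOpen φ)) hj)).isOpen_range
  obtain ⟨V, b, v, hV, hb, -, hsub⟩ := exists_affine_open (schemePt_generic hYi hy) hjo
    (mem_open hy hjo (haveI : Nonempty (Points Y.obj) := ⟨y⟩; hjd.nonempty))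
  obtain ⟨k, hk⟩ := (exists_factor_iff hj b).2 (by rw [range_map_yon]; exact hsub)
  obtain ⟨W, i, fst', sq', hW, hi⟩ := hfin hV k
  refine ⟨V, b, W, i, fst' ≫ snd.hom, hV, ⟨v⟩, hb, ?_, hW, hi⟩
  rw [← hk]
  exact (sq'.flip.paste_vert sq).flip

theorem unique_of_affine_finite {V U : Over S} {b : (yon S).obj V ⟶ Y.obj} {g : U ⟶ V} {a : (yon S).obj U ⟶ X.obj}
    (hne : Nonempty V.left) (hb : RepWith @IsOpenImmersion b) (sq : IsPullback a ((yon S).map g) f.hom b)
    (hg : IsFinite g.left) (x' : Points X.obj) (hx' : Points.map f.hom x' = y) : x' = x := by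
  have hao := repWith_of_isPullback sq.flip hb
  obtain ⟨v, hv⟩ : y ∈ Set.range (Points.ofPt b) :=
    mem_open hy (isOpenMap_ofPt (etale_of_openImm hb)).isOpen_range ⟨_, hne.some, rfl⟩
  obtain ⟨u', -, -⟩ := exists_point_of_isPullback sq (hx'.trans hv.symm)
  exact unique_of_local_finite hXi hYi f hft hd hx hy ⟨u'⟩ hao hb sq.w hg x' hx'

theorem alteration_iff (hp : IsProperMor f.hom) :
    (∃ (V : Space S) (j : V ⟶ Y), RepWith @IsOpenImmersion j.hom ∧ Nonempty (Points V.obj) ∧
      ∀ (P : Space S) (fst : P ⟶ V) (snd : P ⟶ X), IsPullback fst.hom snd.hom j.hom f.hom →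
        IsFiniteMor fst.hom) ↔ (∀ x', Points.map f.hom x' = y → x' = x) := by
  constructor
  · rintro ⟨V', j, hj, ⟨z⟩, H⟩ x' hx'
    have sqP := IsPullback.of_hasPullback j.hom f.hom
    have hP : IsAlgSpace (pullback j.hom f.hom) := isAlgSpace_of_isPullback Y.property.diag V'.property X.property sqP
    have hfin := H ⟨_, hP⟩ (ObjectProperty.homMk (pullback.fst j.hom f.hom))
      (ObjectProperty.homMk (pullback.snd j.hom f.hom)) sqP
    have hjo : IsOpen (Set.range (Points.map j.hom)) := (isOpenMap_map_of_universallyOpen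
      (repWith_mono (fun φ (_ : IsOpenImmersion φ) => inferInstanceAs (UniversallyOpen φ)) hj)).isOpen_range
    obtain ⟨V, b, v, hV, hb, -, hsub⟩ := exists_affine_open (schemePt_generic hYi hy) hjo
      (mem_open hy hjo ⟨_, z, rfl⟩)
    haveI := mono_of_repWith_openImmersion hj
    obtain ⟨k, hk⟩ := (exists_factor_iff hj b).2 (by rw [range_map_yon]; exact hsub)
    obtain ⟨W, i, fst', sq', hW, hi⟩ := hfin hV k
    have sqB : IsPullback (fst' ≫ pullback.snd j.hom f.hom) ((yon S).map i) f.hom b := by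
      rw [← hk]
      exact (sq'.flip.paste_vert sqP).flip
    exact unique_of_affine_finite hXi hYi f hft hd hx hy ⟨v⟩ hb sqB hi x' hx'
  · intro huniq
    obtain ⟨V, b, U, g, a, hV, hne, hb, sq, -, hg⟩ :=
      exists_affine_finite hXi hYi f hft hd hx hy (Or.inl hp.1) huniq
    refine ⟨(ofScheme S).obj V, ObjectProperty.homMk b, hb, ⟨Points.ofScheme V hne.some⟩, fun P fst snd sqP => ?_⟩
    have h1 : RepWith @IsFinite ((yon S).map g) := repWith_map hg
    refine isFiniteMor_iff.2 ?_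
    have e : fst.hom = (sqP.isoIsPullback _ _ sq.flip).hom ≫ (yon S).map g :=
      (IsPullback.isoIsPullback_hom_fst _ _ sqP sq.flip).symm
    rw [e]
    exact repWith_comp (repWith_of_isIso _) h1

end Groth.L23.Alter
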