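import Groth.Agent.L23.CutOutApps
import Groth.Agent.L23.RedInd
import Groth.Agent.L23.Points
import Groth.Agent.L09.EtSub.Extend
import Groth.Agent.L09.EtSub.SubObj
import Groth.Agent.L09.EtSub.Gen
import Groth.Agent.L09.Filtration.Induction
import Groth.Agent.L09.Filtration.Main

/-!
# Ideal sheaves of finite type cutting out the complement of a quasi-compact open
-/

universe u

open CategoryTheory CategoryTheory.Limits AlgebraicGeometry Opposite AlgSp TopologicalSpace

set_option autoImplicit false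
set_option linter.style.haveILetI false
set_option backward.isDefEq.respectTransparency false
set_option backward.isDefEq.respectTransparency.types false

noncomputable section

namespace Groth.L23.IdealFt

open Groth.L09.ModEt Groth.L09.EtSub Groth.L23.SubQcoh

variable {S : Scheme.{u}} {X : Sp S}

/-- An ideal sheaf as a submodule of the structure module. -/
def subOfIdeal (I : IdealEt X) (hI : I.IsQCoh) : AffSub (unitModEt X) where
  P E hE := Submodule.comap (dn₀ E) (I.ideal E hE)
  res_mem {E E'} hE hE' g {s} hs := I.map_le g hE hE' (Ideal.mem_map_of_mem _ hs)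
  mem_span {E E'} hE hE' g {z} hz := by
    suffices h : ∀ r ∈ (I.ideal E hE).map g.hom.left.left.appTop.hom, (up₀ r : sectModEt (unitModEt X) E') ∈
        Submodule.span (Γ₀ E') (res (unitModEt X) g ''
          ((Submodule.comap (dn₀ E) (I.ideal E hE) : Submodule (Γ₀ E) (sectModEt (unitModEt X) E)) :
            Set (sectModEt (unitModEt X) E))) from h _ (hI g hE hE' hz)
    intro r hr
    induction hr using Submodule.span_induction with
    | mem x hx =>
      obtain ⟨a, ha, rfl⟩ := hx
      exact Submodule.subset_span ⟨up₀ a, ha, rfl⟩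
    | zero => exact zero_mem _
    | add x y _ _ hx hy => exact add_mem hx hy
    | smul a x _ hx => exact Submodule.smul_mem _ a hx

/-- The ideal sheaf of a submodule of the structure module. -/
def idealOfSub (A : AffSub (unitModEt X)) : IdealEt X where
  ideal E _ := (A.P E).map (dn₀ E)
  map_le {E E'} g hE hE' := by
    haveI := hE
    haveI := hE'
    rw [Ideal.map_le_iff_le_comap]
    intro a ha
    obtain ⟨s, hs, rfl⟩ := Submodule.mem_map.1 ha
    exact ⟨_, A.res_mem g hs, rfl⟩

theorem idealOfSub_isQCoh (A : AffSub (unitModEt X)) : (idealOfSub A).IsQCoh := by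
  intro E E' g hE hE' r hr
  obtain ⟨z, hz, rfl⟩ := Submodule.mem_map.1 hr
  have h := A.mem_span g hz
  clear hz hr
  induction h using Submodule.span_induction with
  | mem x hx =>
    obtain ⟨s, hs, rfl⟩ := hx
    exact Ideal.mem_map_of_mem g.hom.left.left.appTop.hom (Submodule.mem_map_of_mem (f := dn₀ E) hs)
  | zero => rw [map_zero]; exact zero_mem _
  | add x y _ _ hx hy => rw [map_add]; exact add_mem hx hy
  | smul a x _ hx => rw [map_smul]; exact Ideal.mul_mem_left _ _ hx

/-- The range of a closed immersion into an affine scheme. -/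
theorem range_eq_zeroLocus {T' T : Scheme.{u}} [IsAffine T] (f : T' ⟶ T) [IsClosedImmersion f] :
    Set.range f = T.zeroLocus (U := ⊤) (RingHom.ker f.appTop.hom : Set Γ(T, ⊤)) := by
  have h := f.ker.coe_support_inter ⟨⊤, isAffineOpen_top T⟩
  have hs : (f.ker.support : Set T) = Set.range f := by
    rw [f.support_ker]
    exact f.isClosedEmbedding.isClosed_range.closure_eq
  rw [hs, f.ker_apply] at h
  simpa using h

/-- Membership in the zero locus of a cut out subspace. -/
theorem preimage_range {Z : Sp S} {i : Z ⟶ X} {I : IdealEt X} (hi : IsCutOutBy I i) (E : EtOver X)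
    [hE : IsAffine E.obj.left.left] :
    Points.ofPt E.obj.hom ⁻¹' Set.range (Points.map i) =
      E.obj.left.left.zeroLocus (U := ⊤) (I.ideal E hE : Set Γ(E.obj.left.left, ⊤)) := by
  obtain ⟨hcl, rfl⟩ := hi
  rw [← Set.image_univ, preimage_image_map (hcl.1.isPullback E.obj.hom), Set.preimage_univ, Set.image_univ]
  haveI : IsClosedImmersion (hcl.1.snd E.obj.hom).left := repWith_snd hcl _
  exact range_eq_zeroLocus _

/-- The complement of the zero locus of a finitely generated ideal is quasi-compact. -/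
theorem isCompact_compl_zeroLocus {T : Scheme.{u}} [IsAffine T] {I : Ideal Γ(T, ⊤)} (h : I.FG) :
    IsCompact ((T.zeroLocus (U := ⊤) (I : Set Γ(T, ⊤)))ᶜ) := by
  obtain ⟨t, rfl⟩ := h
  rw [Scheme.zeroLocus_span, Scheme.zeroLocus_def, Set.compl_iInter₂]
  refine t.finite_toSet.isCompact_biUnion fun f _ => ?_
  rw [compl_compl]
  exact ((isAffineOpen_top T).basicOpen f).isCompact

/-- A quasi-compact open complement of a zero locus is the complement of finitely many functions. -/
theorem exists_finite_sub_ideal {T : Scheme.{u}} {I : Ideal Γ(T, ⊤)}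
    (h : IsCompact ((T.zeroLocus (U := ⊤) (I : Set Γ(T, ⊤)))ᶜ)) :
    ∃ t : Finset Γ(T, ⊤), (∀ f ∈ t, f ∈ I) ∧
      T.zeroLocus (U := ⊤) (t : Set Γ(T, ⊤)) = T.zeroLocus (U := ⊤) (I : Set Γ(T, ⊤)) := by
  classical
  obtain ⟨b, hb⟩ := h.elim_finite_subcover (fun f : I => ((T.basicOpen f.1 : T.Opens) : Set T))
    (fun f => (T.basicOpen f.1).isOpen) fun x hx => by
      simp only [Set.mem_compl_iff, Scheme.mem_zeroLocus_iff, not_forall, not_not] at hx
      obtain ⟨f, hf, hxf⟩ := hx
      exact Set.mem_iUnion.2 ⟨⟨f, hf⟩, hxf⟩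
  refine ⟨b.image Subtype.val, fun f hf => ?_, ?_⟩
  · obtain ⟨g, -, rfl⟩ := Finset.mem_image.1 hf
    exact g.2
  · refine subset_antisymm (fun x hx => ?_) fun x hx => ?_
    · by_contra hn
      obtain ⟨g, hg, hxg⟩ := Set.mem_iUnion₂.1 (hb hn)
      exact (Scheme.mem_zeroLocus_iff _ _ _).1 hx g.1 (Finset.mem_image_of_mem _ hg) hxg
    · refine (Scheme.mem_zeroLocus_iff _ _ _).2 fun f hf => ?_
      obtain ⟨g, -, rfl⟩ := Finset.mem_image.1 hf
      exact (Scheme.mem_zeroLocus_iff _ _ _).1 hx g.1 g.2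

/-- Finitely many functions of an ideal sheaf lie in a subsheaf of finite type. -/
theorem exists_ft_le [QuasiSeparatedSpace ↥S] (hX : IsAlgSpace X) (hqc : IsQuasiCompactSp X)
    (hqs : IsQuasiSeparatedSp X) (I : IdealEt X) (hI : I.IsQCoh) (E₀ : EtOver X) [hE₀ : IsAffine E₀.obj.left.left]
    (t : Finset (Γ₀ E₀)) (ht : ∀ f ∈ t, f ∈ I.ideal E₀ hE₀) :
    ∃ J : IdealEt X, J.IsQCoh ∧ (∀ (E : EtOver X) (hE : IsAffine E.obj.left.left), (J.ideal E hE).FG) ∧
      J ≤ I ∧ ∀ f ∈ t, f ∈ J.ideal E₀ hE₀ := by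
  classical
  haveI := isQuasicoherent_unit₀ (X := X)
  let B := subOfIdeal I hI
  haveI := B.isQuasicoherent
  have hr : ∀ (E : EtOver X) [IsAffine E.obj.left.left], Set.range (sapp B.ι E) = (B.P E : Set _) :=
    fun E _ => B.range_ι E
  have hl : ∀ f : t, ∃ x : sectModEt B.mod E₀, sapp B.ι E₀ x = up₀ f.1 := fun f => by
    show up₀ f.1 ∈ Set.range (sapp B.ι E₀)
    rw [hr E₀]
    exact ht f.1 f.2
  choose x hx using hl
  obtain ⟨A, hA, hmem⟩ := exists_affSub_fg B.mod hX hqc hqs (E₀ := E₀) (Finset.univ.image x)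
  haveI := A.isQuasicoherent
  haveI := isFiniteType_mod A hA
  let C : AffSub (unitModEt X) := ofHom (A.ι ≫ B.ι)
  refine ⟨idealOfSub C, idealOfSub_isQCoh C, fun E hE => ?_, fun E hE r hr' => ?_, fun f hf => ?_⟩
  · haveI := hE
    haveI := finite_sectModEt A.mod E
    show Submodule.FG ((LinearMap.range (sapp (A.ι ≫ B.ι) E)).map (dn₀ E))
    exact (Module.Finite.iff_fg.1 (Module.Finite.range _)).map _
  · haveI := hE
    obtain ⟨z, hz, rfl⟩ := Submodule.mem_map.1 hr'
    obtain ⟨w, rfl⟩ := hz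
    have h : sapp B.ι E (sapp A.ι E w) ∈ (B.P E : Set _) := (hr E).le ⟨_, rfl⟩
    exact h
  · have h1 : x ⟨f, hf⟩ ∈ A.P E₀ := hmem _ (Finset.mem_image_of_mem _ (Finset.mem_univ _))
    have h2 : x ⟨f, hf⟩ ∈ Set.range (A.ι.val.app (op E₀)).hom := by
      rw [A.range_ι]
      exact h1
    obtain ⟨w, hw⟩ := h2
    refine Submodule.mem_map.2 ⟨up₀ f, ⟨w, ?_⟩, rfl⟩
    exact ((Groth.L09.EtSub.sapp_comp A.ι B.ι E₀ w).trans (congrArg _ hw)).trans (hx ⟨f, hf⟩)

end Groth.L23.IdealFt
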