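import Groth.Agent.L23.AlgSpace
import Groth.Agent.L23.Cover
import Groth.Agent.L24.Boot.QuotFlat
import Mathlib.CategoryTheory.Sites.EpiMono

/-!
# Quotients by pre-equivalence relations and their restrictions
-/

universe u

open CategoryTheory CategoryTheory.Limits AlgebraicGeometry Opposite AlgSp

set_option autoImplicit false
set_option backward.isDefEq.respectTransparency false
set_option backward.isDefEq.respectTransparency.types false

namespace Groth.L23.QR

variable {S : Scheme.{u}} {R U : Sp S} (s t : R ⟶ U)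

/-- The relation on sections. -/
def rel (T : Over S) (x y : U.obj.obj (op T)) : Prop :=
  ∃ r : R.obj.obj (op T), t.hom.app (op T) r = x ∧ s.hom.app (op T) r = y

theorem app_uliftYonedaEquiv {F G : Sp S} (a : F ⟶ G) {T : Over S} (k : (yon S).obj T ⟶ F) :
    a.hom.app (op T) ((J S).uliftYonedaEquiv.{u + 1} k) = (J S).uliftYonedaEquiv.{u + 1} (k ≫ a) :=
  ((J S).uliftYonedaEquiv_comp k a).symm

theorem rel_equivalence (hpre : IsPreEqvRelSp s t) (T : Over S) : Equivalence (rel s t T) := by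
  have h : ∀ a b : (yon S).obj T ⟶ U,
      rel s t T ((J S).uliftYonedaEquiv.{u + 1} a) ((J S).uliftYonedaEquiv.{u + 1} b) ↔
        ∃ r : (yon S).obj T ⟶ R, r ≫ t = a ∧ r ≫ s = b := fun a b => by
    constructor
    · rintro ⟨r, hr, hr'⟩
      obtain ⟨k, rfl⟩ := (J S).uliftYonedaEquiv.{u + 1}.surjective r
      rw [app_uliftYonedaEquiv, Equiv.apply_eq_iff_eq] at hr hr'
      exact ⟨k, hr, hr'⟩
    · rintro ⟨k, rfl, rfl⟩
      exact ⟨_, app_uliftYonedaEquiv t k, app_uliftYonedaEquiv s k⟩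
  refine ⟨fun x => ?_, fun {x y} hxy => ?_, fun {x y z} hxy hyz => ?_⟩
  · obtain ⟨a, rfl⟩ := (J S).uliftYonedaEquiv.{u + 1}.surjective x
    exact (h a a).2 ((hpre T).refl a)
  · obtain ⟨a, rfl⟩ := (J S).uliftYonedaEquiv.{u + 1}.surjective x
    obtain ⟨b, rfl⟩ := (J S).uliftYonedaEquiv.{u + 1}.surjective y
    exact (h b a).2 ((hpre T).symm ((h a b).1 hxy))
  · obtain ⟨a, rfl⟩ := (J S).uliftYonedaEquiv.{u + 1}.surjective x
    obtain ⟨b, rfl⟩ := (J S).uliftYonedaEquiv.{u + 1}.surjective y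
    obtain ⟨c, rfl⟩ := (J S).uliftYonedaEquiv.{u + 1}.surjective z
    exact (h a c).2 ((hpre T).trans ((h a b).1 hxy) ((h b c).1 hyz))

/-- The presheaf quotient. -/
def Q0 : (Over S)ᵒᵖ ⥤ Type (u + 1) where
  obj T := Quot (rel s t T.unop)
  map {T T'} g := ↾ (Quot.lift (fun x => Quot.mk _ (U.obj.map g x)) fun x y ⟨r, hr, hr'⟩ => Quot.sound
    ⟨R.obj.map g r, (NatTrans.naturality_apply t.hom g r).trans (congrArg _ hr),
      (NatTrans.naturality_apply s.hom g r).trans (congrArg _ hr')⟩)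
  map_id T := by
    ext x
    obtain ⟨x, rfl⟩ := Quot.exists_rep x
    show Quot.mk _ (U.obj.map (𝟙 T) x) = Quot.mk _ x
    rw [CategoryTheory.Functor.map_id]
    rfl
  map_comp g h := by
    ext x
    obtain ⟨x, rfl⟩ := Quot.exists_rep x
    show Quot.mk _ (U.obj.map (g ≫ h) x) = Quot.mk _ (U.obj.map h (U.obj.map g x))
    rw [CategoryTheory.Functor.map_comp]
    rfl

/-- The presheaf quotient map. -/
def q0 : U.obj ⟶ Q0 s t where
  app T := ↾ (fun x => Quot.mk _ x)
  naturality _ _ g := by ext x; rfl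

/-- The quotient map of a pre-equivalence relation has `R` covering its kernel pair. -/
theorem epi_toKernelPair (hpre : IsPreEqvRelSp s t) :
    Epi (pullback.lift t s (quotSp_condition s t).symm : R ⟶ pullback (quotSpπ s t) (quotSpπ s t)) := by
  let π := quotSpπ s t
  let L : R ⟶ pullback π π := pullback.lift t s (quotSp_condition s t).symm
  show Epi L
  refine (Sheaf.isLocallySurjective_iff_epi' (φ := L)).1 ⟨fun {T} z => ?_⟩
  let Qs : Sp S := (presheafToSheaf (J S) (Type (u + 1))).obj (Q0 s t)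
  let qbar : U ⟶ Qs := ⟨q0 s t ≫ toSheafify (J S) (Q0 s t)⟩
  have hq : s ≫ qbar = t ≫ qbar := Sheaf.hom_ext (NatTrans.ext (funext fun T => by
    ext r
    exact congrArg ((toSheafify (J S) (Q0 s t)).app T) (Quot.sound ⟨r, rfl, rfl⟩).symm))
  obtain ⟨k, rfl⟩ := (J S).uliftYonedaEquiv.{u + 1}.surjective z
  let x := (J S).uliftYonedaEquiv.{u + 1} (k ≫ pullback.fst π π)
  let y := (J S).uliftYonedaEquiv.{u + 1} (k ≫ pullback.snd π π)
  have hxy : qbar.hom.app (op T) x = qbar.hom.app (op T) y := by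
    have hfac : qbar = π ≫ quotSpDesc qbar hq := (quotSpπ_desc _ _ qbar hq).symm
    rw [app_uliftYonedaEquiv, app_uliftYonedaEquiv, Category.assoc, Category.assoc, hfac,
      pullback.condition_assoc]
  have hcov := Presheaf.equalizerSieve_mem (J S) (toSheafify (J S) (Q0 s t))
    ((q0 s t).app (op T) x) ((q0 s t).app (op T) y) hxy
  refine GrothendieckTopology.superset_covering _ (fun V g hg => ?_) hcov
  have hg' : Quot.mk (rel s t V) (U.obj.map g.op x) = Quot.mk (rel s t V) (U.obj.map g.op y) := hg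
  obtain ⟨r, hr, hr'⟩ := (rel_equivalence s t hpre V).eqvGen_iff.1 (Quot.eqvGen_exact hg')
  obtain ⟨m, rfl⟩ := (J S).uliftYonedaEquiv.{u + 1}.surjective r
  refine ⟨(J S).uliftYonedaEquiv.{u + 1} m, ?_⟩
  show L.hom.app (op V) _ = (pullback π π).obj.map g.op _
  rw [app_uliftYonedaEquiv, GrothendieckTopology.uliftYonedaEquiv_naturality, Equiv.apply_eq_iff_eq]
  rw [app_uliftYonedaEquiv, GrothendieckTopology.uliftYonedaEquiv_naturality, Equiv.apply_eq_iff_eq] at hr hr'
  apply pullback.hom_ext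
  · rw [Category.assoc, pullback.lift_fst, hr, Category.assoc]
  · rw [Category.assoc, pullback.lift_snd, hr', Category.assoc]

variable {R' U' : Sp S} {s' t' : R' ⟶ U'} {g : U' ⟶ U}

theorem epi_yon_map {T' T : Over S} (h : T' ⟶ T) [Flat h.left] [LocallyOfFinitePresentation h.left]
    [Surjective h.left] : Epi ((yon S).map h) := by
  have : Sheaf.IsLocallySurjective ((yon S).map h) := isLocallySurjective_of_repWith _
    (repWith_map ‹Flat h.left›) (repWith_map ‹LocallyOfFinitePresentation h.left›) (repWith_map ‹Surjective h.left›)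
  infer_instance

/-- The map of quotients induced by a restriction is a monomorphism. -/
theorem mono_of_restrict (hpre : IsPreEqvRelSp s t)
    (hlift : ∀ (T : Over S) (a b : (yon S).obj T ⟶ U') (r : (yon S).obj T ⟶ R),
      r ≫ t = a ≫ g → r ≫ s = b ≫ g → ∃ r' : (yon S).obj T ⟶ R', r' ≫ t' = a ∧ r' ≫ s' = b)
    (ψ : quotSp s' t' ⟶ quotSp s t) (hψ : quotSpπ s' t' ≫ ψ = g ≫ quotSpπ s t) : Mono ψ := by
  haveI := epi_toKernelPair s t hpre
  refine ⟨fun {Z} x y e => hom_ext_yon fun T z => ?_⟩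
  obtain ⟨T₁, e₁, a₀, _, _, _, ha⟩ := Groth.L24.Boot.exists_lift_of_epi (quotSpπ s' t') (z ≫ x)
  obtain ⟨T₂, e₂, b, _, _, _, hb⟩ :=
    Groth.L24.Boot.exists_lift_of_epi (quotSpπ s' t') ((yon S).map e₁ ≫ z ≫ y)
  let a := (yon S).map e₂ ≫ a₀
  have hab : (a ≫ g) ≫ quotSpπ s t = (b ≫ g) ≫ quotSpπ s t := by
    simp only [a, Category.assoc, ← hψ, reassoc_of% ha, reassoc_of% hb, e]
  obtain ⟨T₃, e₃, r, _, _, _, hr⟩ := Groth.L24.Boot.exists_lift_of_epi
    (pullback.lift t s (quotSp_condition s t).symm : R ⟶ pullback (quotSpπ s t) (quotSpπ s t))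
    (pullback.lift (a ≫ g) (b ≫ g) hab)
  have ht : r ≫ t = ((yon S).map e₃ ≫ a) ≫ g := by
    simpa [pullback.lift_fst] using congrArg (· ≫ pullback.fst _ _) hr
  have hs : r ≫ s = ((yon S).map e₃ ≫ b) ≫ g := by
    simpa [pullback.lift_snd] using congrArg (· ≫ pullback.snd _ _) hr
  obtain ⟨r', hr't, hr's⟩ := hlift T₃ _ _ r ht hs
  have key : ((yon S).map e₃ ≫ a) ≫ quotSpπ s' t' = ((yon S).map e₃ ≫ b) ≫ quotSpπ s' t' := by
    rw [← hr't, ← hr's, Category.assoc, Category.assoc, quotSp_condition]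
  haveI := epi_yon_map e₁
  haveI := epi_yon_map e₂
  haveI := epi_yon_map e₃
  rw [← cancel_epi ((yon S).map e₁), ← cancel_epi ((yon S).map e₂), ← cancel_epi ((yon S).map e₃)]
  simpa only [a, Category.assoc, ha, hb] using key

omit s t in
theorem isIso_of_restrict {s t : R ⟶ U} (ψ : quotSp s' t' ⟶ quotSp s t)
    (hψ : quotSpπ s' t' ≫ ψ = g ≫ quotSpπ s t) (hm : Mono ψ) (he : Epi (g ≫ quotSpπ s t)) : IsIso ψ := by
  haveI := hm
  haveI := he
  have : Epi ψ := epi_of_epi_fac hψ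
  exact isIso_of_mono_of_epi ψ

theorem GroupoidSp.isPreEqvRelSp {B : Sp S} (G : GroupoidSp B) : IsPreEqvRelSp G.s G.t := fun T => by
  refine ⟨fun a => ⟨a ≫ G.e, ?_, ?_⟩, ?_, ?_⟩
  · rw [Category.assoc, G.e_t, Category.comp_id]
  · rw [Category.assoc, G.e_s, Category.comp_id]
  · rintro a b ⟨r, rfl, rfl⟩
    exact ⟨r ≫ G.i, by rw [Category.assoc, G.i_t], by rw [Category.assoc, G.i_s]⟩
  · rintro a b c ⟨r, rfl, hr⟩ ⟨r', hr', rfl⟩
    exact ⟨pullback.lift r r' (hr.trans hr'.symm) ≫ G.c, G.comp_t _ _ _, G.comp_s _ _ _⟩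

end Groth.L23.QR
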