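import Groth.Agent.L23.PointProps
import Groth.Agent.L23.Compact
import Groth.Agent.L23.Univ
import Groth.Agent.L23.Points
import Groth.Agent.L23.MorCalc
import Groth.Prelude.Def_AlgSpInf

/-!
# Topological properties of morphisms along thickenings
-/

universe u

open CategoryTheory CategoryTheory.Limits AlgebraicGeometry AlgSp

set_option backward.isDefEq.respectTransparency.types false

namespace Groth.L23

variable {S : Scheme.{u}}

theorem isUnivHomeo_of_thickening {A B : Scheme.{u}} (φ : A ⟶ B) (h : MoreMor.IsThickening φ) :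
    FlatMor.IsUnivHomeo φ := by
  intro A' B' a b φ' sq
  have h₁ : IsClosedImmersion φ' := MorphismProperty.of_isPullback sq.flip h.1
  have h₂ : Surjective φ' := MorphismProperty.of_isPullback sq.flip h.2
  exact isHomeomorph_iff_isEmbedding_surjective.2 ⟨φ'.isClosedEmbedding.isEmbedding, φ'.surjective⟩

theorem isHomeomorph_of_isThickMor {F G : Sp S} (hG : IsAlgSpace G) {i : F ⟶ G} (h : IsThickMor i) :
    IsHomeomorph (Points.map i) := by
  have h' : RepWith FlatMor.IsUnivHomeo i := repWith_mono isUnivHomeo_of_thickening h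
  exact (repWith_isUnivHomeo_iff h'.1).1 h' hG (𝟙 G) (𝟙 F) i IsPullback.of_id_fst

theorem mono_of_isThickMor {F G : Sp S} {i : F ⟶ G} (h : IsThickMor i) : Mono i :=
  mono_of_repWith (fun _ _ φ (hφ : MoreMor.IsThickening φ) => have := hφ.1; inferInstanceAs (Mono φ)) h

/-- A base change of the thickened morphism, seen on the thickened spaces. -/
theorem exists_baseChange_thick {X X' Y Y' Z Q Z₀ : Sp S} {i : X ⟶ X'} {j : Y ⟶ Y'} {f : X ⟶ Y}
    {f' : X' ⟶ Y'} (hi : IsThickMor i) (w : i ≫ f' = f ≫ j) {g : Z ⟶ Y'} {fst : Q ⟶ X'} {snd : Q ⟶ Z}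
    (sq : IsPullback fst snd f' g) {m : Z₀ ⟶ Z} {g₀ : Z₀ ⟶ Y} (sqZ : IsPullback g₀ m j g) :
    ∃ (Q₀ : Sp S) (n : Q₀ ⟶ Q) (a : Q₀ ⟶ X) (snd₀ : Q₀ ⟶ Z₀), IsPullback a snd₀ f g₀ ∧
      IsThickMor n ∧ n ≫ snd = snd₀ ≫ m := by
  have sqQ := IsPullback.of_hasPullback fst i
  set n := pullback.fst fst i
  set a := pullback.snd fst i
  let snd₀ := sqZ.lift (a ≫ f) (n ≫ snd)
    (by rw [Category.assoc, ← w, ← Category.assoc, ← sqQ.w, Category.assoc, sq.w, Category.assoc])
  refine ⟨_, n, a, snd₀, ?_, repWith_of_isPullback sqQ.flip hi, (sqZ.lift_snd _ _ _).symm⟩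
  refine IsPullback.of_bot ?_ (sqZ.lift_fst _ _ _).symm sqZ
  rw [sqZ.lift_snd, ← w]
  exact sqQ.flip.paste_vert sq

/-- Transfer of a property of the map on points along homeomorphisms. -/
theorem thick_univSp_iff {X X' Y Y' : Sp S} (hX' : IsAlgSpace X') (hY' : IsAlgSpace Y') {i : X ⟶ X'}
    {j : Y ⟶ Y'} {f : X ⟶ Y} {f' : X' ⟶ Y'} (hi : IsThickMor i) (hj : IsThickMor j)
    (w : i ≫ f' = f ≫ j) (Q : MorphismProperty (Sp S))
    (hQ : ∀ {A A₀ B B₀ : Sp S} (n : A₀ ⟶ A) (m : B₀ ⟶ B) (s₀ : A₀ ⟶ B₀) (s : A ⟶ B),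
      IsHomeomorph (Points.map n) → IsHomeomorph (Points.map m) → n ≫ s = s₀ ≫ m → (Q s₀ ↔ Q s)) :
    UnivSp Q f ↔ UnivSp Q f' := by
  have := mono_of_isThickMor hj
  constructor
  · intro h Z P hZ g fst snd sq
    have sqZ := IsPullback.of_hasPullback j g
    have hm : IsThickMor (pullback.snd j g) := repWith_of_isPullback sqZ hj
    obtain ⟨Q₀, n, a, snd₀, sq₀, hn, e⟩ := exists_baseChange_thick hi w sq sqZ
    exact (hQ n _ snd₀ snd (isHomeomorph_of_isThickMor (isAlgSpace_of_isPullback hY'.diag hX' hZ sq) hn)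
      (isHomeomorph_of_isThickMor hZ hm) e).1
      (h (isAlgSpace_of_representable_to hZ hm.1) _ a snd₀ sq₀)
  · intro h Z P hZ g fst snd sq
    have sq' := IsPullback.of_hasPullback f' (g ≫ j)
    have sqZ : IsPullback g (𝟙 Z) j (g ≫ j) :=
      IsPullback.mk' (by simp) (fun _ _ _ _ h₂ => by simpa using h₂)
        (fun T a b hab => ⟨b, by rw [← cancel_mono j, Category.assoc, hab], Category.comp_id _⟩)
    obtain ⟨Q₀, n, a, snd₀, sq₀, hn, e⟩ := exists_baseChange_thick hi w sq' sqZ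
    let φ := sq.isoIsPullback _ _ sq₀
    have h₁ : IsHomeomorph (Points.map (𝟙 Z)) := by
      rw [show Points.map (𝟙 Z) = id from funext fun x => Points.map_id x]
      exact IsHomeomorph.id
    have hs := (hQ n (𝟙 Z) snd₀ (pullback.snd f' (g ≫ j))
      (isHomeomorph_of_isThickMor (isAlgSpace_of_isPullback hY'.diag hX' hZ sq') hn) h₁ e).2
      (h hZ _ _ _ sq')
    refine (hQ φ.hom (𝟙 Z) snd snd₀ ?_ h₁ (by simp [φ])).2 hs
    exact isHomeomorph_iff_exists_inverse.2 ⟨Points.continuous_map _, Points.map φ.inv,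
      fun x => by rw [← Points.map_comp, φ.hom_inv_id, Points.map_id],
      fun x => by rw [← Points.map_comp, φ.inv_hom_id, Points.map_id], Points.continuous_map _⟩

theorem topo_iff {A A₀ B B₀ : Sp S} (n : A₀ ⟶ A) (m : B₀ ⟶ B) (s₀ : A₀ ⟶ B₀) (s : A ⟶ B)
    (hn : IsHomeomorph (Points.map n)) (hm : IsHomeomorph (Points.map m)) (e : n ≫ s = s₀ ≫ m) :
    (Function.Injective (Points.map s₀) ↔ Function.Injective (Points.map s)) ∧
    (IsClosedMap (Points.map s₀) ↔ IsClosedMap (Points.map s)) ∧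
    (IsOpenMap (Points.map s₀) ↔ IsOpenMap (Points.map s)) ∧
    (IsHomeomorph (Points.map s₀) ↔ IsHomeomorph (Points.map s)) ∧
    (Function.Surjective (Points.map s₀) ↔ Function.Surjective (Points.map s)) := by
  obtain ⟨N, hN⟩ : ∃ N : Points A₀ ≃ₜ Points A, ⇑N = Points.map n := ⟨hn.homeomorph _, rfl⟩
  obtain ⟨M, hM⟩ : ∃ M : Points B₀ ≃ₜ Points B, ⇑M = Points.map m := ⟨hm.homeomorph _, rfl⟩
  have he : Points.map s = M ∘ Points.map s₀ ∘ N.symm := funext fun x => by
    obtain ⟨y, rfl⟩ := N.surjective x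
    simp only [Function.comp_apply, Homeomorph.symm_apply_apply]
    rw [hN, hM, ← Points.map_comp, e, Points.map_comp]
  have he' : Points.map s₀ = M.symm ∘ Points.map s ∘ N := funext fun x => by simp [he]
  refine ⟨⟨fun h => ?_, fun h => ?_⟩, ⟨fun h => ?_, fun h => ?_⟩, ⟨fun h => ?_, fun h => ?_⟩,
    ⟨fun h => ?_, fun h => ?_⟩, ⟨fun h => ?_, fun h => ?_⟩⟩
  · rw [he]; exact M.injective.comp (h.comp N.symm.injective)
  · rw [he']; exact M.symm.injective.comp (h.comp N.injective)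
  · rw [he]; exact M.isClosedMap.comp (h.comp N.symm.isClosedMap)
  · rw [he']; exact M.symm.isClosedMap.comp (h.comp N.isClosedMap)
  · rw [he]; exact M.isOpenMap.comp (h.comp N.symm.isOpenMap)
  · rw [he']; exact M.symm.isOpenMap.comp (h.comp N.isOpenMap)
  · rw [he]; exact M.isHomeomorph.comp (h.comp N.symm.isHomeomorph)
  · rw [he']; exact M.symm.isHomeomorph.comp (h.comp N.isHomeomorph)
  · rw [he]; exact M.surjective.comp (h.comp N.symm.surjective)
  · rw [he']; exact M.symm.surjective.comp (h.comp N.surjective)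

theorem qcMor_thick_iff {X X' Y Y' : Sp S} (hX' : IsAlgSpace X') (hY' : IsAlgSpace Y') {i : X ⟶ X'}
    {j : Y ⟶ Y'} {f : X ⟶ Y} {f' : X' ⟶ Y'} (hi : IsThickMor i) (hj : IsThickMor j)
    (w : i ≫ f' = f ≫ j) : IsQuasiCompactMor f ↔ IsQuasiCompactMor f' := by
  have := mono_of_isThickMor hj
  have hX : IsAlgSpace X := isAlgSpace_of_representable_to hX' hi.1
  have hY : IsAlgSpace Y := isAlgSpace_of_representable_to hY' hj.1
  constructor
  · intro h Z P hZ hqc g fst snd sq
    have sqZ := IsPullback.of_hasPullback j g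
    have hm : IsThickMor (pullback.snd j g) := repWith_of_isPullback sqZ hj
    have hZ₀ : IsAlgSpace (pullback j g) := isAlgSpace_of_representable_to hZ hm.1
    obtain ⟨Q₀, n, a, snd₀, sq₀, hn, e⟩ := exists_baseChange_thick hi w sq sqZ
    have : CompactSpace (Points Z) := compactSpace_of_qcSp hqc
    have : CompactSpace (Points (pullback j g)) :=
      ((isHomeomorph_of_isThickMor hZ hm).homeomorph _).symm.compactSpace
    have := h hZ₀ (qcSp_of_compactSpace hZ₀ this) _ a snd₀ sq₀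
    exact qcSp_of_surjective (isAlgSpace_of_isPullback hY'.diag hX' hZ sq) n
      (isHomeomorph_of_isThickMor (isAlgSpace_of_isPullback hY'.diag hX' hZ sq) hn).surjective this
  · intro h Z P hZ hqc g fst snd sq
    have sq' := IsPullback.of_hasPullback f' (g ≫ j)
    have sqZ : IsPullback g (𝟙 Z) j (g ≫ j) :=
      IsPullback.mk' (by simp) (fun _ _ _ _ h₂ => by simpa using h₂)
        (fun T a b hab => ⟨b, by rw [← cancel_mono j, Category.assoc, hab], Category.comp_id _⟩)
    obtain ⟨Q₀, n, a, snd₀, sq₀, hn, e⟩ := exists_baseChange_thick hi w sq' sqZ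
    have := compactSpace_of_qcSp (h hZ hqc _ _ _ sq')
    have hQ₀ : CompactSpace (Points Q₀) :=
      ((isHomeomorph_of_isThickMor (isAlgSpace_of_isPullback hY'.diag hX' hZ sq') hn).homeomorph _).symm.compactSpace
    exact qcSp_of_surjective (isAlgSpace_of_isPullback hY.diag hX hZ sq) (sq.isoIsPullback _ _ sq₀).inv
      (fun x => ⟨Points.map (sq.isoIsPullback _ _ sq₀).hom x, by
        rw [← Points.map_comp, Iso.hom_inv_id, Points.map_id]⟩)
      (qcSp_of_compactSpace (isAlgSpace_of_isPullback hY.diag hX hZ sq₀) hQ₀)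

theorem surjectiveMor_thick_iff {X X' Y Y' : Sp S} (hX' : IsAlgSpace X') (hY' : IsAlgSpace Y')
    {i : X ⟶ X'} {j : Y ⟶ Y'} {f : X ⟶ Y} {f' : X' ⟶ Y'} (hi : IsThickMor i) (hj : IsThickMor j)
    (w : i ≫ f' = f ≫ j) : IsSurjectiveMor f ↔ IsSurjectiveMor f' :=
  (topo_iff i j f f' (isHomeomorph_of_isThickMor hX' hi) (isHomeomorph_of_isThickMor hY' hj) w).2.2.2.2

end Groth.L23
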