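import Groth.Agent.L23.SchImageFlat
import Groth.Agent.L23.ThickTop
import Groth.Agent.L23.OpenSub
import Groth.Agent.L23.QuotRestrict

/-!
# Factorisation of immersions, opens of thickenings, descent across dense opens
-/

universe u

open CategoryTheory CategoryTheory.Limits AlgebraicGeometry Opposite AlgSp TopologicalSpace

set_option autoImplicit false
set_option linter.style.haveILetI false
set_option backward.isDefEq.respectTransparency.types false

namespace Groth.L23

variable {S : Scheme.{u}} {X X' Y Z : Sp S}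

theorem exists_open_closed_factorization (hX : IsAlgSpace X) (hZ : IsAlgSpace Z) {i : Z ⟶ X}
    (hi : RepWith @IsImmersion i) (hq : IsQuasiCompactMor i) :
    ∃ (Zbar : Sp S) (_ : IsAlgSpace Zbar) (j : Z ⟶ Zbar) (c : Zbar ⟶ X), j ≫ c = i ∧
      RepWith @IsOpenImmersion j ∧ RepWith @IsClosedImmersion c := by
  obtain ⟨Zbar, hZbar, c, hc⟩ := exists_isSchImage hZ hX i
  obtain ⟨j, hj⟩ := hc.2.1
  exact ⟨Zbar, hZbar, j, c, hj, (Img.immersion_into_schImage hX hZ hZbar hi (Or.inl hq) hc hj).1, hc.1⟩

/-- Opens of a thickened space and of its thickening correspond. -/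
theorem exists_open_of_thick (hX' : IsAlgSpace X') {i : X ⟶ X'} (hi : IsThickMor i) {U : Sp S} {u : U ⟶ X}
    (hu : RepWith @IsOpenImmersion u) :
    ∃ (U' : Sp S) (_ : IsAlgSpace U') (u' : U' ⟶ X') (k : U ⟶ U'),
      RepWith @IsOpenImmersion u' ∧ IsPullback u k i u' := by
  have hh := isHomeomorph_of_isThickMor hX' hi
  have ho : IsOpen (Set.range (Points.map u)) :=
    (isOpenMap_map_of_representable hu.1 fun _ g => by
      haveI : IsOpenImmersion (hu.1.snd g).left := repWith_snd hu g
      exact (hu.1.snd g).left.isOpenEmbedding.isOpenMap).isOpen_range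
  let W : Opens (Points X') := ⟨Points.map i '' Set.range (Points.map u), hh.isOpenMap _ ho⟩
  have hW := range_openSubι W
  have sq := IsPullback.of_hasPullback i (openSubι W)
  have h₁ : RepWith @IsOpenImmersion (pullback.fst i (openSubι W)) :=
    repWith_of_isPullback sq.flip (repWith_openSubι W)
  have hr : Set.range (Points.map (pullback.fst i (openSubι W))) = Set.range (Points.map u) := by
    rw [range_fst_of_isPullback sq, hW]
    exact hh.injective.preimage_image _
  obtain ⟨a, ha⟩ := (exists_factor_iff h₁ u).2 hr.ge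
  obtain ⟨b, hb⟩ := (exists_factor_iff hu (pullback.fst i (openSubι W))).2 hr.le
  haveI := mono_of_repWith_openImmersion hu
  haveI := mono_of_repWith_openImmersion h₁
  let e : U ≅ pullback i (openSubι W) := ⟨a, b, by rw [← cancel_mono u, Category.assoc, hb, ha, Category.id_comp],
    by rw [← cancel_mono (pullback.fst i (openSubι W)), Category.assoc, ha, hb, Category.id_comp]⟩
  exact ⟨openSub W, isAlgSpace_openSub W hX', openSubι W, a ≫ pullback.snd i (openSubι W), repWith_openSubι W,
    sq.of_iso e.symm (Iso.refl _) (Iso.refl _) (Iso.refl _) (by simp [e, hb]) (by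
      simp only [Iso.refl_hom, Category.comp_id, Iso.symm_hom, e]
      rw [← Category.assoc, show b ≫ a = 𝟙 _ from e.inv_hom_id, Category.id_comp]) (by simp) (by simp)⟩

theorem exists_iso_of_thick_open (hX' : IsAlgSpace X') {i : X ⟶ X'} (hi : IsThickMor i) {U U₁ U₂ : Sp S}
    {u : U ⟶ X} {u₁ : U₁ ⟶ X'} {u₂ : U₂ ⟶ X'} {k₁ : U ⟶ U₁} {k₂ : U ⟶ U₂}
    (h₁ : RepWith @IsOpenImmersion u₁) (sq₁ : IsPullback u k₁ i u₁)
    (h₂ : RepWith @IsOpenImmersion u₂) (sq₂ : IsPullback u k₂ i u₂) :
    ∃ e : U₁ ≅ U₂, e.hom ≫ u₂ = u₁ := by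
  have hh := isHomeomorph_of_isThickMor hX' hi
  have hr : Set.range (Points.map u₁) = Set.range (Points.map u₂) := by
    rw [← Set.image_preimage_eq (Set.range (Points.map u₁)) hh.surjective,
      ← Set.image_preimage_eq (Set.range (Points.map u₂)) hh.surjective,
      ← range_fst_of_isPullback sq₁, ← range_fst_of_isPullback sq₂]
  obtain ⟨a, ha⟩ := (exists_factor_iff h₂ u₁).2 hr.le
  obtain ⟨b, hb⟩ := (exists_factor_iff h₁ u₂).2 hr.ge
  haveI := mono_of_repWith_openImmersion h₁
  haveI := mono_of_repWith_openImmersion h₂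
  exact ⟨⟨a, b, by rw [← cancel_mono u₁, Category.assoc, hb, ha, Category.id_comp],
    by rw [← cancel_mono u₂, Category.assoc, ha, hb, Category.id_comp]⟩, ha⟩

theorem epi_of_flat_lfp_surjective (hX : IsAlgSpace X) (hY : IsAlgSpace Y) (f : X ⟶ Y) (hfl : LocP @Flat f)
    (hfp : LocP @LocallyOfFinitePresentation f) (hs : Function.Surjective (Points.map f)) : Epi f := by
  obtain ⟨U', a', ha', has'⟩ := hX.atlas
  obtain ⟨U, V, a, b, k, π, ha, -, hb, hbs, w, hks, -⟩ := exists_surjective_chart hX hY f hs ha' has'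
  haveI : Flat k.left := hfl a b k ha hb w
  haveI : LocallyOfFinitePresentation k.left := hfp a b k ha hb w
  haveI := QR.epi_yon_map k
  haveI := epi_of_repWith b hb hbs
  haveI : Epi (a ≫ f) := by rw [w]; infer_instance
  exact epi_of_epi a f

/-- Morphisms to a separated space agreeing on a scheme theoretically dense open are equal. -/
theorem eq_of_eq_on_schDense {B W : Sp S} (hX : IsAlgSpace X) {q : Y ⟶ B} (hq : IsSeparatedMor q) {f g : X ⟶ Y}
    (hfg : f ≫ q = g ≫ q) {j : W ⟶ X} (hj : IsSchDense j) (heq : j ≫ f = j ≫ g) : f = g := by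
  let d := pullback.lift f g hfg
  have sq := IsPullback.of_hasPullback (pullback.diagonal q) d
  have hi : RepWith @IsClosedImmersion (pullback.snd (pullback.diagonal q) d) := repWith_of_isPullback sq hq
  have hj' : j ≫ d = (j ≫ f) ≫ pullback.diagonal q := by
    apply pullback.hom_ext
    · simp [d, pullback.lift_fst]
    · simp only [d, Category.assoc, pullback.lift_snd, pullback.diagonal, Category.comp_id]
      exact heq.symm
  obtain ⟨k, hk⟩ := (Img.isSchImage_id_of_isSchDense hj).2.2 (pullback.snd (pullback.diagonal q) d)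
    (isAlgSpace_of_representable_to hX hi.1) hi
    ⟨sq.lift (j ≫ f) j hj'.symm, sq.lift_snd _ _ _⟩
  have e₁ : pullback.snd (pullback.diagonal q) d ≫ f = pullback.snd (pullback.diagonal q) d ≫ g := by
    have h := sq.w
    have h1 := congrArg (· ≫ pullback.fst _ _) h
    have h2 := congrArg (· ≫ pullback.snd _ _) h
    simp [d, pullback.lift_fst, pullback.lift_snd, pullback.diagonal] at h1 h2
    exact h1.symm.trans h2
  have h := congrArg (k ≫ ·) e₁
  change k ≫ _ = k ≫ _ at h
  rw [← Category.assoc, ← Category.assoc, hk] at h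
  simpa using h

theorem exists_factor_over_schDense {B X Y Z V : Sp S} (hX : IsAlgSpace X) (hZ : IsAlgSpace Z) {pY : Y ⟶ B}
    {pZ : Z ⟶ B} {f : X ⟶ Y} {g : X ⟶ Z} (hfg : f ≫ pY = g ≫ pZ) (hY : IsSeparatedMor pY)
    (hgs : Function.Surjective (Points.map g)) (hgf : LocP @Flat g) (hgp : LocP @LocallyOfFinitePresentation g)
    {v : V ⟶ Z} (hv : IsSchDense v) (hvq : IsQuasiCompactMor v)
    (hfac : ∃ φ : V ⟶ Y, pullback.fst g v ≫ f = pullback.snd g v ≫ φ) : ∃ h : Z ⟶ Y, g ≫ h = f := by
  obtain ⟨φ, hφ⟩ := hfac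
  have sqR := IsPullback.of_hasPullback g g
  have hR : IsAlgSpace (pullback g g) := isAlgSpace_of_isPullback hZ.diag hX hX sqR
  have h1 : LocP @Flat (pullback.fst g g) := locP_of_isPullback etLocal_flat hX hZ hX sqR.flip hgf
  have hflat : LocP @Flat (pullback.fst g g ≫ g) := locP_comp etLocal_flat hR hX hZ h1 hgf
  have sqV := IsPullback.of_hasPullback v (pullback.fst g g ≫ g)
  let jR := pullback.snd v (pullback.fst g g ≫ g)
  have hd : IsSchDense jR := Img.isSchDense_preimage_of_flat hZ hR hflat hv hvq sqV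
  have key : pullback.fst g g ≫ f = pullback.snd g g ≫ f := by
    refine eq_of_eq_on_schDense hR hY ?_ hd ?_
    · rw [Category.assoc, Category.assoc, hfg, pullback.condition_assoc]
    · have ea := congrArg (pullback.lift (f := g) (g := v) (jR ≫ pullback.fst g g) (pullback.fst v _)
        (by rw [Category.assoc]; exact sqV.w.symm) ≫ ·) hφ
      have eb := congrArg (pullback.lift (f := g) (g := v) (jR ≫ pullback.snd g g) (pullback.fst v _)
        (by rw [Category.assoc, ← pullback.condition]; exact sqV.w.symm) ≫ ·) hφ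
      simp only [pullback.lift_fst_assoc, pullback.lift_snd_assoc, Category.assoc] at ea eb
      exact ea.trans eb.symm
  haveI := epi_of_flat_lfp_surjective hX hZ g hgf hgp hgs
  obtain ⟨hc⟩ := nonempty_isColimit_cofork g sqR
  exact ⟨hc.desc (Cofork.ofπ f key), hc.fac _ WalkingParallelPair.one⟩

end Groth.L23
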