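import Groth.Agent.L23.AffineHull
import Groth.Agent.L23.SchApps3
import Groth.Agent.L09.SpLimit.Eventually
import Groth.Agent.L09.SpLimit.Derived
import Groth.Agent.L23.QsTop
import Groth.Agent.L23.MorCalc

/-!
# Quasi-affine morphisms of finite type embed into morphisms of finite presentation
-/

universe u

open CategoryTheory CategoryTheory.Limits AlgebraicGeometry Opposite AlgSp Topology

set_option autoImplicit false
set_option linter.style.haveILetI false
set_option backward.isDefEq.respectTransparency false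
set_option backward.isDefEq.respectTransparency.types false

noncomputable section

namespace Groth.L23.QAffineFp

variable {S : Scheme.{u}} [QuasiSeparatedSpace S] {X Y : Sp S}

/-- A quasi-compact open subspace around a compact locally closed set in which it is closed. -/
theorem exists_qc_open_closed (hY : IsAlgSpace Y) {Z : Set (Points Y)} (hZc : IsCompact Z) (hZ : IsLocallyClosed Z) :
    ∃ O : TopologicalSpace.Opens (Points Y), IsQuasiCompactSp (openSub O) ∧ Z ⊆ O ∧
      IsClosed (Points.map (openSubι O) ⁻¹' Z) := by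
  obtain ⟨O₀, C, hO₀, hC, rfl⟩ := hZ
  choose W a hW ha hmem using fun x => exists_affine_etale_nhd hY x
  -- affine charts inside the open
  have key : ∀ x ∈ O₀ ∩ C, ∃ V : Set (Points Y), IsOpen V ∧ IsCompact V ∧ x ∈ V ∧ V ⊆ O₀ := by
    intro x hx
    obtain ⟨w, hw⟩ := hmem x
    have ho : IsOpen (Points.ofPt (a x) ⁻¹' O₀) := hO₀.preimage (Points.continuous_ofPt _)
    obtain ⟨K, hKo, hKw, hKs⟩ :=
      (W x).left.isBasis_affineOpens.exists_subset_of_mem_open (show w ∈ Points.ofPt (a x) ⁻¹' O₀ by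
        rw [Set.mem_preimage, hw]; exact hx.1) ho
    obtain ⟨K, hK, rfl⟩ := hKo
    exact ⟨Points.ofPt (a x) '' K, (isOpenMap_ofPt (ha x)) _ K.2, hK.isCompact.image (Points.continuous_ofPt _),
      ⟨w, hKw, hw⟩, Set.image_subset_iff.2 hKs⟩
  choose V hVo hVc hVx hVs using key
  obtain ⟨t, ht⟩ := hZc.elim_finite_subcover (fun x : ↥(O₀ ∩ C) => V x.1 x.2) (fun x => hVo _ x.2)
    fun x hx => Set.mem_iUnion.2 ⟨⟨x, hx⟩, hVx x hx⟩
  let O : TopologicalSpace.Opens (Points Y) := ⟨⋃ x ∈ t, V x.1 x.2, isOpen_biUnion fun x _ => hVo _ x.2⟩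
  refine ⟨O, qcSp_of_compactSpace (isAlgSpace_openSub O hY) ⟨?_⟩, ht, ?_⟩
  · have he := isEmbedding_map_of_immersion hY
      (repWith_mono (fun φ (_ : IsOpenImmersion φ) => inferInstanceAs (IsImmersion φ)) (repWith_openSubι O))
    rw [he.1.isInducing.isCompact_iff, Set.image_univ, range_openSubι]
    exact t.finite_toSet.isCompact_biUnion fun x _ => hVc _ x.2
  · have : Points.map (openSubι O) ⁻¹' (O₀ ∩ C) = Points.map (openSubι O) ⁻¹' C := by
      refine Set.Subset.antisymm (fun z hz => hz.2) fun z hz => ⟨?_, hz⟩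
      obtain ⟨x, -, hx⟩ := Set.mem_iUnion₂.1 ((range_openSubι O).le ⟨z, rfl⟩)
      exact hVs _ x.2 hx
    rw [this]
    exact hC.preimage (Points.continuous_map _)

/-- An immersion from a quasi-compact space is a closed immersion into a quasi-compact open subspace. -/
theorem exists_closed_into_open (hY : IsAlgSpace Y) (hXqc : IsQuasiCompactSp X) {i : X ⟶ Y}
    (hi : RepWith @IsImmersion i) :
    ∃ (U : Sp S) (g : X ⟶ U) (j : U ⟶ Y), IsAlgSpace U ∧ IsQuasiCompactSp U ∧ RepWith @IsOpenImmersion j ∧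
      RepWith @IsClosedImmersion g ∧ g ≫ j = i := by
  haveI := compactSpace_of_qcSp hXqc
  obtain ⟨O, hOqc, hsub, hcl⟩ :=
    exists_qc_open_closed hY (isCompact_range (Points.continuous_map i)) (isEmbedding_map_of_immersion hY hi).2
  obtain ⟨g, hg⟩ := (exists_factor_iff (repWith_openSubι O) i).2 (by rw [range_openSubι]; exact hsub)
  haveI := mono_of_repWith_openImmersion (repWith_openSubι O)
  refine ⟨_, g, _, isAlgSpace_openSub O hY, hOqc, repWith_openSubι O,
    (repWith_isClosedImmersion_iff (repWith_of_comp_mono (m := openSubι O) (hg.symm ▸ hi))).2 ?_, hg⟩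
  convert hcl using 1
  ext z
  constructor
  · rintro ⟨x, rfl⟩
    exact ⟨x, by rw [← Points.map_comp, hg]⟩
  · rintro ⟨x, hx⟩
    exact ⟨x, QFL.map_injective_of_mono (openSubι O) (by rw [← Points.map_comp, hg, hx])⟩

/-- Quasi-compact open immersions into quasi-separated spaces are of finite presentation. -/
theorem fp_open {U : Sp S} (hU : IsAlgSpace U) (hY : IsAlgSpace Y) (hUqc : IsQuasiCompactSp U)
    (hYqs : IsQuasiSeparatedSp Y) {j : U ⟶ Y} (hj : RepWith @IsOpenImmersion j) : IsFinitePresentationMor j :=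
  ⟨locP_of_repWith etLocal_lfp
      (repWith_mono (fun φ (_ : IsOpenImmersion φ) => inferInstanceAs (LocallyOfFinitePresentation φ)) hj),
    qcMor_of_qc_source hU hY hUqc hYqs j,
    repWith_mono (fun φ (_ : IsClosedImmersion φ) => inferInstanceAs (QuasiCompact φ)) ((isSeparatedMor_iff hj.1).2
      (repWith_mono (fun φ (_ : IsOpenImmersion φ) => inferInstanceAs (IsSeparated φ)) hj))⟩

/-- Compositions of morphisms of finite presentation. -/
theorem fp_comp {Z : Sp S} (hX : IsAlgSpace X) (hY : IsAlgSpace Y) (hZ : IsAlgSpace Z) {f : X ⟶ Y} {g : Y ⟶ Z}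
    (hf : IsFinitePresentationMor f) (hg : IsFinitePresentationMor g) : IsFinitePresentationMor (f ≫ g) :=
  ⟨locP_comp etLocal_lfp hX hY hZ hf.1 hg.1, qcMor_comp hY hZ hf.2.1 hg.2.1, qsMor_comp hf.2.2 hg.2.2⟩

/-- A quasi-affine morphism locally of finite type to a quasi-compact quasi-separated space is a closed immersion
followed by a morphism of finite presentation. -/
theorem exists_closed_into_fp {X Y : AlgSp.Space S} (f : X ⟶ Y) (hft : LocP @LocallyOfFiniteType f.hom)
    (hqa : IsQuasiAffineMor f.hom) (hYqc : IsQuasiCompactSp Y.obj) (hYqs : IsQuasiSeparatedSp Y.obj) :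
    ∃ (X' : AlgSp.Space S) (i : X ⟶ X') (f' : X' ⟶ Y), i ≫ f' = f ∧
      RepWith @IsClosedImmersion i.hom ∧ IsFinitePresentationMor f'.hom := by
  have hrep := representable_of_isQuasiAffineMor hqa
  obtain ⟨U, p, hU, hp, hps⟩ := Qs.exists_affine_atlas Y.property hYqc
  have hWqa := Hull.isQuasiAffine_pullback hqa hU (hrep.isPullback p)
  haveI := hWqa
  have hXqc : IsQuasiCompactSp X.obj := qcSp_of_surjective X.property (hrep.fst p) (fun x => by
      obtain ⟨e, he⟩ := surjective_ofPt (repWith_of_isPullback (hrep.isPullback p).flip hps) x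
      exact ⟨_, (Points.ofPt_eq_map_ofScheme _ e).symm.trans he⟩)
    isQuasiCompactSp_of_compactSpace
  obtain ⟨A, k, q, hA, hq, hk, hkq⟩ := Hull.exists_hull hrep hqa X.property Y.property hYqc
  obtain ⟨I, _, _, _, D, t, c, hc, e, hD, hDa, ht, hfac⟩ := RelSpec.exists_limit_affine (X := A) hq hYqc hYqs
  obtain ⟨i₁⟩ : Nonempty Iᵒᵖ := inferInstance
  let y : X.obj ⟶ c.pt := k ≫ e.inv
  have hy : RepWith @IsImmersion y :=
    repWith_comp (repWith_mono (fun φ (_ : IsOpenImmersion φ) => inferInstanceAs (IsImmersion φ)) hk)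
      (repWith_of_isIso e.inv)
  have hyt : ∀ i, y ≫ c.π.app i ≫ t.app i = f.hom := fun i => by
    rw [Category.assoc, hfac i, hkq]
  have hlft := Groth.L09.SpLimit.lft_proj hD X.property Y.property t y i₁ (by rw [hyt]; exact hft)
  have hDqs : ∀ i, IsQuasiSeparatedSp (D.obj i) := fun i =>
    Groth.L09.SpLimit.qsSp_of_affine hYqs (isAffineMor_iff.1 (ht i).1)
  obtain ⟨i₀, hi₀⟩ := Groth.L09.SpLimit.eventually_immersion hD hDa hc X.property hXqc hDqs hy hlft
  obtain ⟨U', g, j, hU', hU'qc, hj, hg, hgj⟩ := exists_closed_into_open (hD i₀) hXqc (hi₀ i₀ (𝟙 _))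
  refine ⟨⟨U', hU'⟩, ⟨g⟩, ⟨j ≫ t.app i₀⟩, ?_, hg, fp_comp hU' (hD _) Y.property
    (fp_open hU' (hD _) hU'qc (hDqs _) hj) (ht i₀).2⟩
  refine InducedCategory.hom_ext ?_
  show g ≫ j ≫ t.app i₀ = f.hom
  rw [reassoc_of% hgj, Category.assoc, hfac i₀, hkq]

end Groth.L23.QAffineFp
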