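import Groth.Agent.L23.LqfChart
import Groth.Agent.L23.OpenCharts
import Groth.Agent.L23.LocP
import Mathlib.AlgebraicGeometry.QuasiAffine

/-!
# A separated locally quasi-finite space over an affine scheme with an affine chart is quasi-affine
-/

universe u

open CategoryTheory CategoryTheory.Limits AlgebraicGeometry Opposite AlgSp TopologicalSpace

set_option backward.isDefEq.respectTransparency.types false
set_option linter.style.haveILetI false

namespace Groth.L23.Lqf

variable {S : Scheme.{u}}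

/-- A morphism which is an isomorphism over opens of the target containing the image. -/
theorem isOpenImmersion_of_local {G Y : Scheme.{u}} (g : G ⟶ Y)
    (h : ∀ x : G, ∃ (O : Scheme.{u}) (l : O ⟶ G), IsOpenImmersion l ∧ IsOpenImmersion (l ≫ g) ∧
      x ∈ Set.range l ∧ g ⁻¹' Set.range (l ≫ g) ⊆ Set.range l) : IsOpenImmersion g := by
  choose O l hl hlg hx hpre using h
  have hinj : Function.Injective g := fun x y hxy => by
    obtain ⟨a, ha⟩ := hx x
    obtain ⟨b, hb⟩ : y ∈ Set.range (l x) := hpre x ⟨a, by rw [Scheme.Hom.comp_apply, ha, hxy]⟩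
    have := hlg x
    rw [← ha, ← hb] at hxy ⊢
    rw [← Scheme.Hom.comp_apply, ← Scheme.Hom.comp_apply] at hxy
    rw [(l x ≫ g).isOpenEmbedding.injective hxy]
  have hopen : IsOpenMap g := fun U hU => by
    have e : g '' U = ⋃ x, (l x ≫ g) '' (l x ⁻¹' U) := by
      ext y
      simp only [Set.mem_image, Set.mem_iUnion, Set.mem_preimage]
      constructor
      · rintro ⟨z, hz, rfl⟩
        obtain ⟨a, ha⟩ := hx z
        exact ⟨z, a, by rw [ha]; exact hz, by rw [Scheme.Hom.comp_apply, ha]⟩
      · rintro ⟨z, a, ha, rfl⟩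
        exact ⟨_, ha, (Scheme.Hom.comp_apply _ _ _).symm⟩
    rw [e]
    refine isOpen_iUnion fun x => ?_
    have := hlg x
    exact (l x ≫ g).isOpenEmbedding.isOpenMap _ (hU.preimage (l x).continuous)
  have : ∀ x, IsIso (g.stalkMap x) := fun x => by
    obtain ⟨a, ha⟩ := hx x
    have := hl x; have := hlg x
    have h1 : IsIso ((l x ≫ g).stalkMap a) := inferInstance
    rw [Scheme.Hom.stalkMap_comp] at h1
    have h2 : IsIso (g.stalkMap (l x a)) :=
      @IsIso.of_isIso_comp_right _ _ _ _ _ (g.stalkMap (l x a)) ((l x).stalkMap a) inferInstance h1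
    rwa [ha] at h2
  exact IsOpenImmersion.of_isIso_stalkMap g
    (.of_continuous_injective_isOpenMap g.continuous hinj hopen)

variable {X : Sp S} {U R W : Over S}

set_option maxHeartbeats 800000 in
/-- The quasi-affine case. -/
theorem exists_quasiAffine_of_lqf [IsAffine W.left] [IsAffine U.left] (hX : IsAlgSpace X)
    (q : X ⟶ (yon S).obj W) (hd : RepWith @IsClosedImmersion (pullback.diagonal q))
    (hq : LocP (@LocallyQuasiFinite ⊓ @LocallyOfFiniteType) q)
    (p : (yon S).obj U ⟶ X) (hp : RepWith @Etale p) (hps : RepWith @Surjective p) :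
    ∃ (G : Over S) (θ : (yon S).obj G ⟶ X), IsIso θ ∧ G.left.IsQuasiAffine := by
  obtain ⟨h, hh⟩ := (yon S).map_surjective (p ≫ q)
  obtain ⟨hh₁, hh₂⟩ := hq p (𝟙 _) h hp (AlgSp.repWith_id _ _) (by rw [hh, Category.comp_id])
  -- the spectra
  let A : CommRingCat.{u} := Γ(W.left, ⊤)
  let C : CommRingCat.{u} := Γ(U.left, ⊤)
  let σ : Spec A ⟶ S := W.left.isoSpec.inv ≫ W.hom
  let φ : A ⟶ C := h.left.appTop
  have hnat : Spec.map φ ≫ W.left.isoSpec.inv = U.left.isoSpec.inv ≫ h.left := by
    rw [Iso.comp_inv_eq, Category.assoc, ← Scheme.isoSpec_hom_naturality, Iso.inv_hom_id_assoc]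
  let eU : spA σ φ ≅ U := Over.isoMk U.left.isoSpec.symm (by
    show U.left.isoSpec.inv ≫ U.hom = Spec.map φ ≫ W.left.isoSpec.inv ≫ W.hom
    rw [reassoc_of% hnat, Over.w h])
  let eW : spO A σ ≅ W := Over.isoMk W.left.isoSpec.symm (by show W.left.isoSpec.inv ≫ W.hom = σ; rfl)
  obtain ⟨p', hp'def⟩ : ∃ p', p' = (yon S).map eU.hom ≫ p := ⟨_, rfl⟩
  obtain ⟨q', hq'def⟩ : ∃ q', q' = q ≫ (yon S).map eW.inv := ⟨_, rfl⟩
  have hsp : spHom σ φ = eU.hom ≫ h ≫ eW.inv := by
    ext1
    show Spec.map φ = U.left.isoSpec.inv ≫ h.left ≫ W.left.isoSpec.hom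
    rw [← reassoc_of% hnat, Iso.inv_hom_id, Category.comp_id]
  have hpq : (yon S).map (spHom σ φ) = p' ≫ q' := by
    rw [hsp, hp'def, hq'def, Functor.map_comp, Functor.map_comp, Category.assoc, hh, Category.assoc]
  have hp'e : RepWith @Etale p' := by
    rw [hp'def]; exact MorphismProperty.RespectsIso.precomp (RepWith @Etale) _ _ hp
  have hp's : RepWith @Surjective p' := by
    rw [hp'def]; exact MorphismProperty.RespectsIso.precomp (RepWith @Surjective) _ _ hps
  have hd' : RepWith @IsClosedImmersion (pullback.diagonal q') := by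
    have : pullback.diagonal q' = pullback.diagonal q ≫ pullback.map q q q' q' (𝟙 _) (𝟙 _) ((yon S).map eW.inv)
        (by rw [hq'def, Category.id_comp]) (by rw [hq'def, Category.id_comp]) := by
      refine pullback.hom_ext ?_ ?_ <;>
        simp only [pullback.map, Category.assoc, pullback.diagonal_fst, pullback.diagonal_snd, pullback.lift_fst,
          pullback.lift_snd, pullback.diagonal_fst_assoc, pullback.diagonal_snd_assoc, Category.comp_id]
    rw [this]
    exact MorphismProperty.RespectsIso.postcomp (RepWith @IsClosedImmersion) _ _ hd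
  obtain ⟨R₀, r₁, r₂, sR₀⟩ : ∃ (R₀ : Over S) (r₁ r₂ : R₀ ⟶ spA σ φ),
      IsPullback ((yon S).map r₁) ((yon S).map r₂) p' p' := by
    obtain ⟨R₀, a, b, sq⟩ := exists_isPullback_of_representable hp'e.1 p'
    exact ⟨R₀, _, _, sq⟩
  have hr : r₁ ≫ spHom σ φ = r₂ ≫ spHom σ φ := (yon S).map_injective (by
    rw [Functor.map_comp, Functor.map_comp, hpq, ← Category.assoc, sR₀.w, Category.assoc])
  have : IsAffine (spA σ φ).left := inferInstanceAs (IsAffine (Spec C))
  have : CompactSpace (spA σ φ).left := inferInstanceAs (CompactSpace (Spec C))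
  have : IsAffine R₀.left := by
    have : IsAffine ((Over.forget S).obj (spA σ φ)) := inferInstanceAs (IsAffine (Spec C))
    have : IsAffine ((Over.forget S).obj (spO A σ)) := inferInstanceAs (IsAffine (Spec A))
    obtain ⟨N, n₁, n₂, sN⟩ : ∃ (N : Over S) (n₁ n₂ : N ⟶ spA σ φ), IsPullback n₁ n₂ (spHom σ φ) (spHom σ φ) :=
      ⟨_, _, _, IsPullback.of_hasPullback (spHom σ φ) (spHom σ φ)⟩
    have hN : (yon S).map n₁ ≫ p' ≫ q' = (yon S).map n₂ ≫ p' ≫ q' := by
      rw [← hpq, ← Functor.map_comp, ← Functor.map_comp, sN.w]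
    obtain ⟨r, hr₁, hr₂⟩ := sN.exists_lift r₁ r₂ hr
    have sd : IsPullback ((yon S).map r₁ ≫ p') ((yon S).map r) (pullback.diagonal q')
        (pullback.lift ((yon S).map n₁ ≫ p') ((yon S).map n₂ ≫ p')
          (by rw [Category.assoc, Category.assoc]; exact hN)) := by
      have hnr₁ : (yon S).map r ≫ (yon S).map n₁ = (yon S).map r₁ := by rw [← Functor.map_comp, hr₁]
      have hnr₂ : (yon S).map r ≫ (yon S).map n₂ = (yon S).map r₂ := by rw [← Functor.map_comp, hr₂]
      refine IsPullback.mk' ?_ (fun Z k k' h₁ h₂ => ?_) fun Z x y hxy => ?_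
      · refine pullback.hom_ext ?_ ?_
        · simp only [Category.assoc, pullback.diagonal_fst, Category.comp_id, pullback.lift_fst]
          rw [reassoc_of% hnr₁]
        · simp only [Category.assoc, pullback.diagonal_snd, Category.comp_id, pullback.lift_snd]
          rw [reassoc_of% hnr₂, sR₀.w]
      · refine sR₀.hom_ext ?_ ?_
        · rw [← hnr₁, reassoc_of% h₂]
        · rw [← hnr₂, reassoc_of% h₂]
      · have e₁ := hxy =≫ pullback.fst q' q'
        have e₂ := hxy =≫ pullback.snd q' q'
        simp only [Category.assoc, pullback.diagonal_fst, pullback.diagonal_snd, Category.comp_id,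
          pullback.lift_fst, pullback.lift_snd] at e₁ e₂
        let l := sR₀.lift (y ≫ (yon S).map n₁) (y ≫ (yon S).map n₂)
          (by rw [Category.assoc, Category.assoc, ← e₁, ← e₂])
        refine ⟨l, by rw [sR₀.lift_fst_assoc, Category.assoc, ← e₁], (sN.map (yon S)).hom_ext ?_ ?_⟩
        · rw [Category.assoc, hnr₁, sR₀.lift_fst]
        · rw [Category.assoc, hnr₂, sR₀.lift_snd]
    have : IsClosedImmersion r.left := repWith_prop hd' sd
    have : IsAffine N.left := IsAffine.of_isIso (sN.map (Over.forget S)).isoPullback.hom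
    exact isAffine_of_isAffineHom r.left
  let D : CommRingCat.{u} := Γ(R₀.left, ⊤)
  let π₁ : C ⟶ D := Spec.preimage (R₀.left.isoSpec.inv ≫ r₁.left)
  let π₂ : C ⟶ D := Spec.preimage (R₀.left.isoSpec.inv ≫ r₂.left)
  have hπ₁ : Spec.map π₁ = R₀.left.isoSpec.inv ≫ r₁.left := Spec.map_preimage _
  have hπ₂ : Spec.map π₂ = R₀.left.isoSpec.inv ≫ r₂.left := Spec.map_preimage _
  have hπ : φ ≫ π₁ = φ ≫ π₂ := Spec.map_injective (by
    rw [Spec.map_comp, Spec.map_comp, hπ₁, hπ₂, Category.assoc, Category.assoc]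
    congr 1
    exact congr_arg CommaMorphism.left hr)
  let eR : spA σ (φ ≫ π₁) ≅ R₀ := Over.isoMk R₀.left.isoSpec.symm (by
    show R₀.left.isoSpec.inv ≫ R₀.hom = Spec.map (φ ≫ π₁) ≫ σ
    rw [Spec.map_comp, Category.assoc, hπ₁, Category.assoc]
    congr 1
    exact (Over.w r₁).symm)
  have sR : IsPullback ((yon S).map (spMap σ (χ := φ ≫ π₁) π₁ rfl))
      ((yon S).map (spMap σ (χ := φ ≫ π₁) π₂ hπ.symm)) p' p' :=
    sR₀.of_iso ((yon S).mapIso eR).symm (Iso.refl _) (Iso.refl _) (Iso.refl _)
      (by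
        simp only [Iso.refl_hom, Category.comp_id, Iso.symm_hom, Functor.mapIso_inv, ← Functor.map_comp]
        congr 1; ext1
        show r₁.left = R₀.left.isoSpec.hom ≫ Spec.map π₁
        rw [hπ₁, Iso.hom_inv_id_assoc])
      (by
        simp only [Iso.refl_hom, Category.comp_id, Iso.symm_hom, Functor.mapIso_inv, ← Functor.map_comp]
        congr 1; ext1
        show r₂.left = R₀.left.isoSpec.hom ≫ Spec.map π₂
        rw [hπ₂, Iso.hom_inv_id_assoc])
      (by simp) (by simp)
  -- the equalised integral closure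
  letI := φ.hom.toAlgebra
  letI : Algebra (A : Type u) (D : Type u) := (φ ≫ π₁).hom.toAlgebra
  let pA : (C : Type u) →ₐ[(A : Type u)] (D : Type u) := { π₁.hom with commutes' := fun _ => rfl }
  let qA : (C : Type u) →ₐ[(A : Type u)] (D : Type u) :=
    { π₂.hom with commutes' := fun a => (congr($(hπ).hom a)).symm }
  let B : CommRingCat.{u} := CommRingCat.of (eqInt pA qA)
  let β : A ⟶ B := CommRingCat.ofHom (algebraMap (A : Type u) (eqInt pA qA))
  let val : B ⟶ C := CommRingCat.ofHom (eqInt pA qA).val.toRingHom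
  have hval : β ≫ val = φ := by ext a; rfl
  have hvv : val ≫ π₁ = val ≫ π₂ := by ext b; exact b.2.2
  have := epi_of_repWith p' hp'e hp's
  obtain ⟨hc⟩ := nonempty_isColimit_cofork p' sR
  have hw : (yon S).map (spMap σ (χ := φ ≫ π₁) π₁ rfl) ≫ (yon S).map (spMap σ val hval) =
      (yon S).map (spMap σ (χ := φ ≫ π₁) π₂ hπ.symm) ≫ (yon S).map (spMap σ val hval) := by
    rw [← Functor.map_comp, ← Functor.map_comp]
    congr 1
    ext1
    show Spec.map π₁ ≫ Spec.map val = Spec.map π₂ ≫ Spec.map val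
    rw [← Spec.map_comp, ← Spec.map_comp, hvv]
  let j : X ⟶ (yon S).obj (spA σ β) := hc.desc (Cofork.ofπ _ hw)
  have hj : p' ≫ j = (yon S).map (spMap σ val hval) := hc.fac (Cofork.ofπ _ hw) WalkingParallelPair.one
  have : LocallyQuasiFinite (spHom σ φ).left := by
    rw [hsp]; show LocallyQuasiFinite (U.left.isoSpec.inv ≫ h.left ≫ W.left.isoSpec.hom)
    infer_instance
  have : LocallyOfFiniteType (spHom σ φ).left := by
    rw [hsp]; show LocallyOfFiniteType (U.left.isoSpec.inv ≫ h.left ≫ W.left.isoSpec.hom)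
    infer_instance
  have hchart : ∀ u : Spec C, ∃ (O : Over S) (ι : O ⟶ spA σ β) (a : (yon S).obj O ⟶ X) (t : O.left),
      IsOpenImmersion ι.left ∧ IsPullback a (𝟙 _) j ((yon S).map ι) ∧
        Points.ofPt a t = Points.ofPt p' u := by
    intro u
    obtain ⟨T, U₁, v, f, k, w, hT, hU₁, hv, hf, hk, ⟨z, hz⟩, hmono⟩ :=
      haveI : IsAffine (spO A σ).left := inferInstanceAs (IsAffine (Spec A))
      exists_piece_sp q' hd' p' hp'e sR (spHom σ φ) hpq u
    let A' : CommRingCat.{u} := Γ(T.left, ⊤)
    let C₁ : CommRingCat.{u} := Γ(U₁.left, ⊤)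
    let χ : A ⟶ A' := Spec.preimage (T.left.isoSpec.inv ≫ v.left)
    let f' : A' ⟶ C₁ := Spec.preimage (U₁.left.isoSpec.inv ≫ f.left ≫ T.left.isoSpec.hom)
    let k' : C ⟶ C₁ := Spec.preimage (U₁.left.isoSpec.inv ≫ k.left)
    have hχ : Spec.map χ = T.left.isoSpec.inv ≫ v.left := Spec.map_preimage _
    have hf' : Spec.map f' = U₁.left.isoSpec.inv ≫ f.left ≫ T.left.isoSpec.hom := Spec.map_preimage _
    have hk' : Spec.map k' = U₁.left.isoSpec.inv ≫ k.left := Spec.map_preimage _
    have : Etale (Spec.map χ) := by rw [hχ]; infer_instance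
    have : IsFinite (Spec.map f') := by rw [hf']; infer_instance
    have w' : φ ≫ k' = χ ≫ f' := Spec.map_injective (by
      rw [Spec.map_comp, Spec.map_comp, hk', hf', hχ]
      simp only [Category.assoc, Iso.hom_inv_id_assoc]
      congr 1)
    let e₁ : spA σ (χ ≫ f') ≅ U₁ := Over.isoMk U₁.left.isoSpec.symm (by
      show U₁.left.isoSpec.inv ≫ U₁.hom = Spec.map (χ ≫ f') ≫ σ
      rw [← w', Spec.map_comp, Category.assoc, hk', Category.assoc]
      congr 1
      exact (Over.w k).symm)
    have hek : spMap σ k' w' = e₁.hom ≫ k := by ext1; exact hk'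
    obtain ⟨O, ι, hι, a, sq, hra⟩ := exists_chart_open σ φ π₁ π₂ hπ q' hd' p' hp'e hp's hpq sR χ f' k' w'
      (fun {Q} fst snd sqQ => by
        have sq' : IsPullback fst (snd ≫ T.left.isoSpec.inv) (spHom σ φ).left v.left :=
          sqQ.of_iso (Iso.refl _) (Iso.refl _) T.left.isoSpec.symm (Iso.refl _) (by simp) (by simp) (by simp)
            (by simp [hχ])
        have := hk fst _ sq'
        have e : ∀ hw, sqQ.lift (Spec.map k') (Spec.map f') hw =
            U₁.left.isoSpec.inv ≫ sq'.lift k.left f.left w := fun hw => by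
          refine sqQ.hom_ext ?_ ?_
          · rw [sqQ.lift_fst, Category.assoc, sq'.lift_fst, hk']
          · rw [sqQ.lift_snd, Category.assoc, hf']
            congr 1
            rw [← cancel_mono T.left.isoSpec.inv, Category.assoc, Category.assoc, Iso.hom_inv_id,
              Category.comp_id, sq'.lift_snd]
        rw [e]
        infer_instance)
      (fun {Z} a b h₁ h₂ => by
        refine (cancel_mono e₁.hom).1 (hmono _ _ ?_ ?_)
        · have := congr_arg CommaMorphism.left h₁
          ext1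
          simp only [Over.comp_left] at this ⊢
          have h₃ : (spMap σ (φ := χ) f' rfl).left = Spec.map f' := rfl
          rw [h₃, hf'] at this
          rw [← cancel_mono T.left.isoSpec.hom]
          simpa [e₁] using this
        · simpa only [hek, Category.assoc] using h₂)
      B β val hval ⟨RingEquiv.refl _, fun b => rfl⟩ j hj
    let z' : Spec C₁ := U₁.left.isoSpec.hom z
    have hz' : (spMap σ (χ := χ ≫ f') k' w').left z' = u := by
      show Spec.map k' z' = u
      rw [hk', ← Scheme.Hom.comp_apply, ← hz]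
      exact congr($(Iso.hom_inv_id_assoc U₁.left.isoSpec k.left) z)
    let J : spA σ (χ ≫ f') ⟶ spA σ β := spMap σ (χ := χ ≫ f') k' w' ≫ spMap σ val hval
    have hJr : Set.range J.left ⊆ Set.range ι.left := by
      have : J.left = Spec.map (val ≫ k') := (Spec.map_comp _ _).symm
      rw [this]
      exact hra
    let l₀ : spA σ (χ ≫ f') ⟶ O := Over.homMk (IsOpenImmersion.lift ι.left J.left hJr) (by
      show _ ≫ O.hom = _
      rw [← Over.w ι, IsOpenImmersion.lift_fac_assoc, Over.w J])
    have hl₀ : l₀ ≫ ι = J := Over.OverMorphism.ext (IsOpenImmersion.lift_fac _ _ _)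
    have hla : (yon S).map l₀ ≫ a = (yon S).map (spMap σ (χ := χ ≫ f') k' w') ≫ p' := by
      have hm := sq.lift_snd ((yon S).map (spMap σ (χ := χ ≫ f') k' w') ≫ p') ((yon S).map l₀) (by
        rw [Category.assoc, hj, ← Functor.map_comp, ← Functor.map_comp, hl₀])
      rw [Category.comp_id] at hm
      rw [← hm, sq.lift_fst]
    refine ⟨O, ι, a, l₀.left z', hι, sq, ?_⟩
    rw [← hz', ← ofPt_comp, ← ofPt_comp, hla]
  choose O ι a t hι sqO hOt using hchart
  have hao : ∀ u, RepWith @IsOpenImmersion (a u) := fun u =>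
    repWith_of_isPullback (sqO u).flip (repWith_map (hι u))
  obtain ⟨G, θ, hθ⟩ := OpenCharts.exists_scheme_of_open_charts hX fun x => by
    obtain ⟨u, rfl⟩ := surjective_ofPt hp's x
    exact ⟨O u, a u, t u, hao u, hOt u⟩
  refine ⟨G, θ, hθ, ?_⟩
  obtain ⟨g, hg⟩ := (yon S).map_surjective (θ ≫ j)
  obtain ⟨ū, hū⟩ := (yon S).map_surjective (p' ≫ inv θ)
  have : Surjective ū.left := (repWith_yon_map_iff @Surjective ū).1 (by
    rw [hū]; exact MorphismProperty.RespectsIso.postcomp (RepWith @Surjective) _ _ hp's)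
  have : CompactSpace G.left := ū.left.surjective.compactSpace ū.left.continuous
  have : IsOpenImmersion g.left := by
    refine isOpenImmersion_of_local g.left fun x => ?_
    obtain ⟨u, rfl⟩ := ū.left.surjective x
    obtain ⟨l, hl⟩ := (yon S).map_surjective (a u ≫ inv θ)
    have sl : IsPullback l (𝟙 (O u)) g (ι u) := IsPullback.of_map (yon S)
      ((yon S).map_injective (by
        rw [Functor.map_comp, hl, hg, Category.assoc, IsIso.inv_hom_id_assoc, (sqO u).w, Category.id_comp,
          Category.id_comp]))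
      ((sqO u).of_iso (Iso.refl _) (asIso θ).symm (Iso.refl _) (Iso.refl _) (by simp [hl]) (by simp)
        (by simp [hg]) (by simp))
    have sl' : IsPullback l.left (𝟙 _) g.left (ι u).left := sl.map (Over.forget S)
    have := hι u
    have e : l.left ≫ g.left = (ι u).left := by rw [sl'.w, Category.id_comp]
    refine ⟨(O u).left, l.left, MorphismProperty.of_isPullback sl'.flip (hι u), by rw [e]; exact hι u, ?_, ?_⟩
    · have hl' : RepWith @IsOpenImmersion ((yon S).map l) := repWith_map (MorphismProperty.of_isPullback sl'.flip (hι u))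
      have h₁ : Points.ofPt θ (l.left (t u)) = Points.ofPt θ (ū.left u) := by
        rw [← ofPt_comp, ← ofPt_comp, hl, hū, Category.assoc, Category.assoc, IsIso.inv_hom_id, Category.comp_id,
          Category.comp_id]
        exact hOt u
      refine ⟨t u, (Points.schemeEquiv G).injective ?_⟩
      have h₂ := congr_arg (Points.map (inv θ)) h₁
      rw [Points.ofPt_eq_map_ofScheme, Points.ofPt_eq_map_ofScheme, ← Points.map_comp, ← Points.map_comp,
        IsIso.hom_inv_id, Points.map_id, Points.map_id] at h₂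
      exact h₂
    · rw [e]
      intro y hy
      obtain ⟨y', hy'⟩ := hy
      obtain ⟨w₀, hw₀, -⟩ := Scheme.Pullback.exists_preimage_pullback y y' hy'.symm
      refine ⟨sl'.isoPullback.inv w₀, ?_⟩
      rw [← Scheme.Hom.comp_apply, IsPullback.isoPullback_inv_fst, hw₀]
  have : IsAffine (spA σ β).left := inferInstanceAs (IsAffine (Spec B))
  exact Scheme.IsQuasiAffine.of_isImmersion g.left

end Groth.L23.Lqf
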