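import Groth.Agent.L23.NormSheaf
import Groth.Agent.L23.MorCalc

/-!
# Relative normalization of algebraic spaces
-/

universe u

open CategoryTheory CategoryTheory.Limits AlgebraicGeometry Opposite AlgSp

set_option backward.isDefEq.respectTransparency.types false

namespace Groth.L23.Norm

variable {S : Scheme.{u}} {F G : Sp S}

/-- An affine scheme maps etale locally to one affine chart. -/
theorem exists_chart_refine (hG : IsAlgSpace G) {Z : Over S} [IsAffine Z.left] (g : (yon S).obj Z ⟶ G) :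
    ∃ (A : Over S) (e : A ⟶ Z) (c : Chart G) (y : A ⟶ c.V), IsAffine A.left ∧ Etale e.left ∧
      Surjective e.left ∧ (yon S).map e ≫ g = (yon S).map y ≫ c.v := by
  obtain ⟨V, p, hp, hps⟩ := hG.atlas
  obtain ⟨Z', e, m, hZ', he, hes, w⟩ := exists_affine_refine hp hps g
  have hK : IsCompact (Set.range m.left) := isCompact_range m.left.continuous
  obtain ⟨s, hs⟩ := hK.elim_finite_subcover (fun B : V.left.affineOpens => (B.1 : Set V.left))
    (fun B => B.1.isOpen) fun t _ => by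
    obtain ⟨_, ⟨C, hC, rfl⟩, htC, -⟩ := V.left.isBasis_affineOpens.exists_subset_of_mem_open
      (Set.mem_univ t) isOpen_univ
    exact Set.mem_iUnion.2 ⟨⟨C, hC⟩, htC⟩
  let j : (∐ fun B : s => (B.1.1 : Scheme.{u})) ⟶ V.left := Sigma.desc fun B => B.1.1.ι
  have : Etale j := IsZariskiLocalAtSource.sigmaDesc fun B => inferInstance
  have hUa : ∀ B : s, IsAffine (B.1.1 : Scheme.{u}) := fun B => B.1.2
  let U : Over S := Over.mk (j ≫ V.hom)
  let jU : U ⟶ V := Over.homMk j
  have : IsAffine U.left := inferInstanceAs (IsAffine (∐ fun B : s => (B.1.1 : Scheme.{u})))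
  let c : Chart G := ⟨U, (yon S).map jU ≫ p, repWith_comp (repWith_map (inferInstanceAs (Etale j))) hp⟩
  obtain ⟨A₀, a, b, sA⟩ : ∃ (A₀ : Over S) (a : A₀ ⟶ Z') (b : A₀ ⟶ U), IsPullback a b m jU :=
    ⟨_, _, _, IsPullback.of_hasPullback m jU⟩
  have : Etale a.left := MorphismProperty.of_isPullback (sA.map (Over.forget S)).flip (inferInstanceAs (Etale j))
  have : Surjective a.left := ⟨fun t => by
    obtain ⟨B, hB, ht⟩ : ∃ B ∈ s, m.left t ∈ B.1 := by simpa using hs ⟨t, rfl⟩
    obtain ⟨z, hz, -⟩ := Scheme.exists_preimage_of_isPullback (sA.map (Over.forget S)) t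
      (Sigma.ι (fun B : s => (B.1.1 : Scheme.{u})) ⟨B, hB⟩ ⟨m.left t, ht⟩) (by
        show m.left t = (Sigma.ι (fun B : s => (B.1.1 : Scheme.{u})) ⟨B, hB⟩ ≫ j) ⟨m.left t, ht⟩
        rw [Sigma.ι_desc]; rfl)
    exact ⟨z, hz⟩⟩
  obtain ⟨k, W, hW, hWs⟩ := exists_affine_refinement a.left
  have : ∀ i, IsAffine (W i : Scheme.{u}) := hW
  let π := Sigma.desc fun i => (W i).ι
  let A : Over S := Over.mk (π ≫ A₀.hom)
  let jA : A ⟶ A₀ := Over.homMk π
  have hπ : π ≫ a.left = Sigma.desc fun i => (W i).ι ≫ a.left := by ext i; simp [π]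
  have : Etale (π ≫ a.left) := by
    rw [hπ]; exact IsZariskiLocalAtSource.sigmaDesc fun i => inferInstance
  have : Surjective (π ≫ a.left) := by rw [hπ]; exact hWs
  refine ⟨A, jA ≫ a ≫ e, c, jA ≫ b, inferInstanceAs (IsAffine (∐ fun i => (W i : Scheme.{u}))), ?_, ?_, ?_⟩
  · show Etale (π ≫ a.left ≫ e.left)
    rw [← Category.assoc]; infer_instance
  · show Surjective (π ≫ a.left ≫ e.left)
    rw [← Category.assoc]; infer_instance
  · show _ = (yon S).map (jA ≫ b) ≫ (yon S).map jU ≫ p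
    simp only [Functor.map_comp, Category.assoc]
    rw [← w, ← Functor.map_comp_assoc (yon S) a, sA.w, Functor.map_comp_assoc]

/-- Integrality can be tested on affine etale charts. -/
theorem isIntegralMor_of_charts {X' : Sp S} (hG : IsAlgSpace G) {π : X' ⟶ G}
    (h : ∀ c : Chart G, ∃ (N : Over S) (ν : N ⟶ c.V) (n : (yon S).obj N ⟶ X'),
      IsPullback n ((yon S).map ν) π c.v ∧ IsIntegralHom ν.left) : IsIntegralMor π := by
  intro Z hZ g
  obtain ⟨Z', e, c, y, hZ', he, hes, w⟩ := exists_chart_refine hG g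
  obtain ⟨N, ν, n, sN, hν⟩ := h c
  obtain ⟨W, p, i, sW⟩ : ∃ (W : Over S) (p : W ⟶ N) (i : W ⟶ Z'), IsPullback p i ν y :=
    ⟨_, _, _, IsPullback.of_hasPullback ν y⟩
  have hi : IsIntegralHom i.left := MorphismProperty.of_isPullback (sW.map (Over.forget S)) hν
  have : IsAffine W.left := isAffine_of_isAffineHom i.left
  have sqX := (sW.map (yon S)).paste_horiz sN
  rw [← w] at sqX
  have sqg := IsPullback.of_hasPullback π g
  let p' := sqg.lift ((yon S).map p ≫ n) ((yon S).map i ≫ (yon S).map e) (by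
    rw [Category.assoc, Category.assoc]; exact (Category.assoc _ _ _).symm.trans sqX.w)
  have sqp : IsPullback p' ((yon S).map i) (pullback.snd π g) ((yon S).map e) :=
    IsPullback.of_right (by rw [sqg.lift_fst]; exact sqX) (sqg.lift_snd _ _ _) sqg
  obtain ⟨A, k, ā, hA, hk, hkq⟩ := exists_affine_of_etale_cover e sqp
  refine ⟨A, ā, inv k ≫ pullback.fst π g, sqg.of_iso (asIso k) (Iso.refl _) (Iso.refl _) (Iso.refl _)
    (by simp) (by simp [hkq]) (by simp) (by simp), hA, ?_⟩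
  obtain ⟨p₀, hp₀⟩ := (yon S).map_surjective (p' ≫ k)
  have sA : IsPullback ((yon S).map p₀) ((yon S).map i) ((yon S).map ā) ((yon S).map e) := by
    rw [hp₀]
    exact sqp.of_iso (Iso.refl _) (asIso k) (Iso.refl _) (Iso.refl _) (by simp) (by simp) (by simp [hkq]) (by simp)
  have sA' := (IsPullback.of_map (yon S) ((yon S).map_injective (by simpa using sA.w)) sA).map (Over.forget S)
  have : IsAffineHom e.left := isAffineHom_of_isAffine _
  have he' : (@Surjective ⊓ @Flat ⊓ @QuasiCompact : MorphismProperty Scheme.{u}) e.left :=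
    ⟨⟨hes, inferInstanceAs (Flat e.left)⟩, inferInstanceAs (QuasiCompact e.left)⟩
  refine IsIntegralHom.iff_universallyClosed_and_isAffineHom.2 ⟨?_, isAffineHom_of_isAffine _⟩
  exact MorphismProperty.of_isPullback_of_descendsAlong (P := @UniversallyClosed) sA'.flip he'
    (inferInstanceAs (UniversallyClosed i.left))

/-- The fibre product with a chart is quasi-compact and quasi-separated over it. -/
theorem qcqs_chart {f : F ⟶ G} (hqc : IsQuasiCompactMor f) (hqs : IsQuasiSeparatedMor f) (c : Chart G)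
    {P : Sp S} {fP : P ⟶ F} {q : P ⟶ (yon S).obj c.V} (sq : IsPullback fP q f c.v) :
    IsQuasiCompactSp P ∧ RepWith @QuasiCompact (pullback.diagonal q) :=
  ⟨hqc (IsAlgSpace.yon_obj c.V) isQuasiCompactSp_of_compactSpace c.v fP q sq,
    repWith_of_isPullback (isPullback_diagonal sq) hqs⟩

set_option maxHeartbeats 800000 in
/-- The normalization on all charts. -/
theorem exists_isLocNorm (hG : IsAlgSpace G) (f : F ⟶ G) (hqc : IsQuasiCompactMor f) (hqs : IsQuasiSeparatedMor f) :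
    ∃ (X' : Sp S) (ν : X' ⟶ G) (f' : F ⟶ X'), IsAlgSpace X' ∧ IsLocNorm f ν f' := by
  have hPq := fun c : Chart G => qcqs_chart hqc hqs c (IsPullback.of_hasPullback f c.v)
  choose N ν γ hN using fun c : Chart G => exists_norm (pullback.snd f c.v) (hPq c).1 (hPq c).2
  have hw : ∀ {c' c : Chart G} (r : Refine c' c), ∃ w : pullback f c'.v ⟶ pullback f c.v,
      w ≫ pullback.fst f c.v = pullback.fst f c'.v ∧
        IsPullback w (pullback.snd f c'.v) (pullback.snd f c.v) ((yon S).map r.a) := fun {c' c} r => by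
    have sc := IsPullback.of_hasPullback f c.v
    have sc' := IsPullback.of_hasPullback f c'.v
    obtain ⟨w, hw₁, hw₂⟩ := sc.exists_lift (pullback.fst f c'.v) (pullback.snd f c'.v ≫ (yon S).map r.a)
      (by rw [Category.assoc, r.fac]; exact sc'.w)
    exact ⟨w, hw₁, IsPullback.of_right (by rw [hw₁, r.fac]; exact sc') hw₂ sc⟩
  choose w hw₁ hw₂ using @hw
  have hmap : ∀ {c' c : Chart G} (r : Refine c' c), ∃ k : N c' ⟶ N c,
      IsPullback k (ν c') (ν c) r.a ∧ γ c' ≫ (yon S).map k = w r ≫ γ c := by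
    intro c' c r
    obtain ⟨M, m, νM, sM⟩ : ∃ (M : Over S) (m : M ⟶ N c) (νM : M ⟶ c'.V), IsPullback m νM (ν c) r.a :=
      ⟨_, _, _, IsPullback.of_hasPullback (ν c) r.a⟩
    obtain ⟨γM, hγ₁, hγ₂⟩ := (sM.map (yon S)).exists_lift (w r ≫ γ c) (pullback.snd f c'.v)
      (by rw [Category.assoc, (hN c).fac, (hw₂ r).w])
    have hM := (hN c).baseChange (hPq c).1 (hPq c).2 r.a (hw₂ r) sM hγ₁ hγ₂
    obtain ⟨θ, hθ₁, hθ₂⟩ := (hN c').exists_iso hM
    exact ⟨θ.hom ≫ m, sM.of_iso θ.symm (Iso.refl _) (Iso.refl _) (Iso.refl _) (by simp)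
      (by simp [← hθ₁]) (by simp) (by simp), by rw [Functor.map_comp, reassoc_of% hθ₂, hγ₁]⟩
  choose k hk₁ hk₂ using @hmap
  let D : Data G :=
    { N := N
      ν := ν
      map := fun r => k r
      isPullback := fun r => hk₁ r
      map_comp := fun {c'' c' c} r s => by
        obtain ⟨M, m, νM, sM⟩ : ∃ (M : Over S) (m : M ⟶ N c) (νM : M ⟶ c''.V),
            IsPullback m νM (ν c) (r.comp s).a := ⟨_, _, _, IsPullback.of_hasPullback (ν c) (r.comp s).a⟩
        have hν : IsIntegralHom νM.left := MorphismProperty.of_isPullback (sM.map (Over.forget S)) (hN c).integral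
        have e₁ : k (r.comp s) ≫ ν c = ν c'' ≫ (r.comp s).a := (hk₁ _).w
        have e₂ : (k r ≫ k s) ≫ ν c = ν c'' ≫ (r.comp s).a := by
          rw [Category.assoc, (hk₁ s).w, reassoc_of% (hk₁ r).w]; rfl
        obtain ⟨a, ha₁, ha₂⟩ := sM.exists_lift _ _ e₁
        obtain ⟨b, hb₁, hb₂⟩ := sM.exists_lift _ _ e₂
        have hww : w (r.comp s) = w r ≫ w s := by
          refine (IsPullback.of_hasPullback f c.v).hom_ext ?_ ?_
          · rw [hw₁, Category.assoc, hw₁, hw₁]
          · rw [(hw₂ _).w, Category.assoc, (hw₂ s).w, reassoc_of% (hw₂ r).w, ← Functor.map_comp]; rfl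
        rw [← ha₁, ← hb₁, (hN c'').hom_ext hν ha₂ hb₂ ((sM.map (yon S)).hom_ext ?_ ?_)]
        · rw [Category.assoc, Category.assoc, ← Functor.map_comp, ← Functor.map_comp, ha₁, hb₁, hk₂, hww,
            Functor.map_comp, reassoc_of% (hk₂ r), hk₂ s, Category.assoc]
        · rw [Category.assoc, Category.assoc, ← Functor.map_comp, ← Functor.map_comp, ha₂, hb₂] }
  obtain ⟨n, hn, hnc, hnk⟩ := exists_glued D
  have hint : IsIntegralMor (gluedProj D) :=
    isIntegralMor_of_charts hG fun c => ⟨N c, ν c, n c, hn c, (hN c).integral⟩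
  have hX' : IsAlgSpace (glued D) := isAlgSpace_of_representable_to hG (isIntegralMor_iff.1 hint).1
  -- the map from the source
  have hτ : ∀ {T : Over S} (y : (yon S).obj T ⟶ F), ∃ E : Elem D T, E.g = y ≫ f ∧
      ∀ (c : Chart G) {W : Over S} (x : W ⟶ T) (y' : W ⟶ c.V) (e : (yon S).map x ≫ E.g = (yon S).map y' ≫ c.v)
        (l : (yon S).obj W ⟶ pullback f c.v), l ≫ pullback.fst f c.v = (yon S).map x ≫ y →
        l ≫ pullback.snd f c.v = (yon S).map y' → (yon S).map (E.h c x y' e) = l ≫ γ c := by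
    intro T y
    have hl : ∀ (c : Chart G) {W : Over S} (x : W ⟶ T) (y' : W ⟶ c.V),
        (yon S).map x ≫ y ≫ f = (yon S).map y' ≫ c.v → ∃ h : W ⟶ N c,
        ∀ (l : (yon S).obj W ⟶ pullback f c.v), l ≫ pullback.fst f c.v = (yon S).map x ≫ y →
          l ≫ pullback.snd f c.v = (yon S).map y' → (yon S).map h = l ≫ γ c := fun c W x y' e => by
      obtain ⟨l, hl₁, hl₂⟩ := (IsPullback.of_hasPullback f c.v).exists_lift ((yon S).map x ≫ y) ((yon S).map y')
        (by rw [Category.assoc]; exact e)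
      obtain ⟨h, hh⟩ := (yon S).map_surjective (l ≫ γ c)
      exact ⟨h, fun l' h₁ h₂ => by
        rw [hh, (IsPullback.of_hasPullback f c.v).hom_ext (h₁.trans hl₁.symm) (h₂.trans hl₂.symm)]⟩
    choose h hh using hl
    have hlift : ∀ (c : Chart G) {W : Over S} (x : W ⟶ T) (y' : W ⟶ c.V),
        (yon S).map x ≫ y ≫ f = (yon S).map y' ≫ c.v → ∃ l : (yon S).obj W ⟶ pullback f c.v,
        l ≫ pullback.fst f c.v = (yon S).map x ≫ y ∧ l ≫ pullback.snd f c.v = (yon S).map y' :=
      fun c W x y' e => (IsPullback.of_hasPullback f c.v).exists_lift _ _ (by rw [Category.assoc]; exact e)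
    refine ⟨{ g := y ≫ f
              h := fun c W x y' e => h c x y' e
              over := fun c W x y' e => ?_
              nat := fun c W W' a x y' e e' => ?_
              compat := fun {c' c} r W x y' e e' => ?_ }, rfl, fun c W x y' e l h₁ h₂ => hh c x y' e l h₁ h₂⟩
    · obtain ⟨l, h₁, h₂⟩ := hlift c x y' e
      refine (yon S).map_injective ?_
      rw [Functor.map_comp, hh c x y' e l h₁ h₂, Category.assoc]
      exact ((congrArg (l ≫ ·) (hN c).fac)).trans h₂
    · obtain ⟨l, h₁, h₂⟩ := hlift c x y' e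
      refine (yon S).map_injective ?_
      rw [Functor.map_comp _ a, hh c x y' e l h₁ h₂, hh c _ _ e' ((yon S).map a ≫ l)
        (by rw [Category.assoc, h₁, Functor.map_comp_assoc]) (by rw [Category.assoc, h₂, Functor.map_comp]),
        Category.assoc]
    · obtain ⟨l, h₁, h₂⟩ := hlift c' x y' e
      refine (yon S).map_injective ?_
      rw [Functor.map_comp, hh c' x y' e l h₁ h₂, hh c x _ e' (l ≫ w r) (by rw [Category.assoc, hw₁, h₁])
        (by rw [Category.assoc, (hw₂ r).w, reassoc_of% h₂, Functor.map_comp]), Category.assoc, Category.assoc,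
        show γ c' ≫ (yon S).map (D.map r) = w r ≫ γ c from hk₂ r]
  choose E hEg hEh using @hτ
  obtain ⟨f', hf'⟩ := UHPush.exists_hom_of_yon (fun T y => (homEquiv D T).symm (E y)) fun {T T'} a y => by
    refine (homEquiv D T').injective ?_
    rw [homEquiv_comp, Equiv.apply_symm_apply, Equiv.apply_symm_apply]
    refine Elem.ext (by rw [hEg]; show _ = (yon S).map a ≫ (E y).g; rw [hEg, Category.assoc]) fun c W x y' e e' => ?_
    obtain ⟨l, h₁, h₂⟩ := (IsPullback.of_hasPullback f c.v).exists_lift ((yon S).map x ≫ (yon S).map a ≫ y)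
      ((yon S).map y') (by rw [hEg] at e; simpa using e)
    refine (yon S).map_injective ?_
    show _ = (yon S).map ((E y).h c (x ≫ a) y' _)
    rw [hEh _ c x y' e l h₁ h₂, hEh y c (x ≫ a) y' _ l (by rw [h₁, Functor.map_comp_assoc]) h₂]
  have hfac : f' ≫ gluedProj D = f := hom_ext_yon fun T y => by
    rw [← Category.assoc, hf', comp_gluedProj, Equiv.apply_symm_apply, hEg]
  have hγn : ∀ c, γ c ≫ n c = pullback.fst f c.v ≫ f' := fun c => hom_ext_yon fun T l => by
    obtain ⟨y', hy'⟩ := (yon S).map_surjective (l ≫ pullback.snd f c.v)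
    obtain ⟨k₀, hk₀⟩ := (yon S).map_surjective (l ≫ γ c)
    rw [← Category.assoc, ← Category.assoc, hf', ← hk₀]
    obtain ⟨E₀, hE₀⟩ : ∃ E₀, E₀ = E (l ≫ pullback.fst f c.v) := ⟨_, rfl⟩
    have eg : (yon S).map (𝟙 T) ≫ E₀.g = (yon S).map y' ≫ c.v := by
      rw [(yon S).map_id, Category.id_comp, hE₀, hEg, Category.assoc, pullback.condition, ← Category.assoc, hy']
    have hk₀' : E₀.h c (𝟙 T) y' eg = k₀ := (yon S).map_injective (by
      subst hE₀
      rw [hEh _ c _ y' eg l (by rw [(yon S).map_id, Category.id_comp]) hy'.symm, hk₀])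
    have hν₀ : k₀ ≫ ν c = y' := (yon S).map_injective (by
      rw [Functor.map_comp, hk₀, hy', Category.assoc]
      exact congrArg (l ≫ ·) (hN c).fac)
    obtain ⟨k₁, h₁, h₂⟩ := (hn c).exists_lift ((homEquiv D T).symm E₀) ((yon S).map y') (by
      rw [comp_gluedProj, Equiv.apply_symm_apply, ← eg, (yon S).map_id, Category.id_comp])
    obtain ⟨k₁, rfl⟩ := (yon S).map_surjective k₁
    rw [← hE₀, ← h₁]
    congr 2
    rw [← hk₀']
    have := congr_arg (homEquiv D T) h₁
    rw [homEquiv_comp, Equiv.apply_symm_apply] at this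
    subst this
    have hk₁ν : k₁ ≫ ν c = y' := (yon S).map_injective (by rw [Functor.map_comp]; exact h₂)
    exact ((hnk c k₁ (eg.trans (by rw [← hk₁ν]))).symm.trans (Elem.h_congr _ c rfl hk₁ν _ eg)).symm
  refine ⟨glued D, gluedProj D, f', hX', hfac, hint, fun c P fP q sq N' n' νN' sN γ' hγ₁ hγ₂ => ?_⟩
  obtain ⟨θ, hθ⟩ := (yon S).map_surjective ((hn c).isoIsPullback _ _ sN).hom
  have : IsIso θ := by
    have : IsIso ((yon S).map θ) := hθ ▸ inferInstance
    exact isIso_of_fully_faithful (yon S) θ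
  have hθν : θ ≫ νN' = ν c := (yon S).map_injective (by
    rw [Functor.map_comp, hθ, IsPullback.isoIsPullback_hom_snd])
  have hθn : (yon S).map θ ≫ n' = n c := by rw [hθ, IsPullback.isoIsPullback_hom_fst]
  let eP := sq.isoIsPullback _ _ (IsPullback.of_hasPullback f c.v)
  have hP : IsNorm q (ν c) (eP.hom ≫ γ c) := by
    refine ⟨(hN c).integral, ?_, fun M μ hμ g hg => ?_⟩
    · rw [Category.assoc, (hN c).fac, IsPullback.isoIsPullback_hom_snd]
    · obtain ⟨h, ⟨h₁, h₂⟩, hu⟩ := (hN c).desc M μ hμ (eP.inv ≫ g)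
        (by rw [Category.assoc, hg, IsPullback.isoIsPullback_inv_snd])
      exact ⟨h, ⟨h₁, by rw [Category.assoc, h₂, Iso.hom_inv_id_assoc]⟩,
        fun h' hh' => hu h' ⟨hh'.1, by rw [← hh'.2, Category.assoc, Iso.inv_hom_id_assoc]⟩⟩
  refine hP.of_iso (asIso θ) hθν (sN.hom_ext ?_ ?_)
  · rw [Category.assoc, Category.assoc, asIso_hom, hθn, hγn, ← Category.assoc,
      IsPullback.isoIsPullback_hom_fst, hγ₁]
  · rw [Category.assoc, Category.assoc, asIso_hom, ← Functor.map_comp, hθν, (hN c).fac,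
      IsPullback.isoIsPullback_hom_snd, hγ₂]

set_option maxHeartbeats 800000 in
/-- A relative normalization is the normalization on every chart. -/
theorem isLocNorm_of_isRelNormalization (hG : IsAlgSpace G) {X' : Sp S} (hX' : IsAlgSpace X') {f : F ⟶ G}
    (hqc : IsQuasiCompactMor f) (hqs : IsQuasiSeparatedMor f) {ν : X' ⟶ G} {f' : F ⟶ X'}
    (h : IsRelNormalization f ν f') : IsLocNorm f ν f' := by
  obtain ⟨X₀, ν₀, f₀, hX₀, hloc⟩ := exists_isLocNorm hG f hqc hqs
  obtain ⟨hfac₀, hint₀, hu₀⟩ := hloc.isRelNormalization hG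
  obtain ⟨hfac, hint, hu⟩ := h
  obtain ⟨a, ⟨ha₁, ha₂⟩, -⟩ := hu₀ hX' ν f' hint hfac
  obtain ⟨b, ⟨hb₁, hb₂⟩, -⟩ := hu hX₀ ν₀ f₀ hint₀ hfac₀
  have hab : a ≫ b = 𝟙 _ := (hu₀ hX₀ ν₀ f₀ hint₀ hfac₀).unique
    ⟨by rw [← Category.assoc, ha₁, hb₁], by rw [Category.assoc, hb₂, ha₂]⟩ ⟨Category.comp_id _, Category.id_comp _⟩
  have hba : b ≫ a = 𝟙 _ := (hu hX' ν f' hint hfac).unique
    ⟨by rw [← Category.assoc, hb₁, ha₁], by rw [Category.assoc, ha₂, hb₂]⟩ ⟨Category.comp_id _, Category.id_comp _⟩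
  refine ⟨hfac, hint, fun c P fP q sq N n νN sN γ hγ₁ hγ₂ => ?_⟩
  refine hloc.norm c P fP q sq N (n ≫ b) νN ?_ γ (by rw [reassoc_of% hγ₁, hb₁]) hγ₂
  exact sN.of_iso (Iso.refl _) ⟨b, a, hba, hab⟩ (Iso.refl _) (Iso.refl _) (by simp) (by simp)
    (by simp [hb₂]) (by simp)

end Groth.L23.Norm
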