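import Groth.Agent.L23.Gabber
import Groth.Agent.L23.MorCalc
import Groth.Agent.L23.OpenSub

/-!
# Colimits among separated spaces which are colimits among all spaces
-/

universe w v u

open CategoryTheory CategoryTheory.Limits AlgebraicGeometry AlgSp

set_option backward.isDefEq.respectTransparency.types false
set_option linter.style.haveILetI false

namespace Groth.L23.SepColim

variable {S : Scheme.{u}} {B : AlgSp.Space S}

/-- A map from a separated scheme to anything is separated. -/
theorem isSeparatedMor_of_separated {U : Over S} [IsSeparated U.hom] (q : (yon S).obj U ⟶ B.obj) :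
    IsSeparatedMor q := by
  let one : Over S := Over.mk (𝟙 S)
  let t : U ⟶ one := Over.homMk U.hom (Category.comp_id _)
  have hone : IsTerminal ((yon S).obj one) := IsTerminal.isTerminalObj (yon S) _ Over.mkIdTerminal
  have hr : RepWith @IsSeparated ((yon S).map t) := repWith_map (inferInstanceAs (IsSeparated U.hom))
  have key : ∀ m, m = (yon S).map t → RepWith @IsClosedImmersion (pullback.diagonal m) := by
    rintro m rfl
    exact (isSeparatedMor_iff hr.1).2 hr
  exact repWith_diagonal_of_comp (key (q ≫ hone.from B.obj) (hone.hom_ext _ _))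

variable (P : ObjectProperty (Over B))

/-- The sheaf of an object. -/
abbrev sp (x : P.FullSubcategory) : Sp S := x.obj.left.obj

/-- Its structure map. -/
abbrev qB (x : P.FullSubcategory) : sp P x ⟶ B.obj := x.obj.hom.hom

/-- The underlying map of sheaves. -/
abbrev hm {x y : P.FullSubcategory} (f : x ⟶ y) : sp P x ⟶ sp P y := f.hom.left.hom

variable {P}

theorem hm_w {x y : P.FullSubcategory} (f : x ⟶ y) : hm P f ≫ qB P y = qB P x :=
  congrArg InducedCategory.Hom.hom (Over.w f.hom)

theorem hm_ext {x y : P.FullSubcategory} {f g : x ⟶ y} (h : hm P f = hm P g) : f = g :=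
  ObjectProperty.hom_ext _ (Over.OverMorphism.ext (InducedCategory.hom_ext h))

/-- A morphism of objects from a map of sheaves. -/
def mkH {x y : P.FullSubcategory} (f : sp P x ⟶ sp P y) (w : f ≫ qB P y = qB P x) : x ⟶ y :=
  ObjectProperty.homMk (Over.homMk (InducedCategory.homMk f) (InducedCategory.hom_ext w))

theorem hm_mkH {x y : P.FullSubcategory} (f : sp P x ⟶ sp P y) (w : f ≫ qB P y = qB P x) :
    hm P (mkH f w) = f := rfl

variable (hP : ∀ T : Over B, P T ↔ IsSeparatedMor T.hom.hom)

/-- An object from a space separated over the base. -/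
def mkO (X : Sp S) (hX : IsAlgSpace X) (q : X ⟶ B.obj) (hq : IsSeparatedMor q) : P.FullSubcategory :=
  ⟨Over.mk (Y := (⟨X, hX⟩ : AlgSp.Space S)) (InducedCategory.homMk q), (hP _).2 hq⟩

variable {I : Type v} [Category.{w} I] {D : I ⥤ P.FullSubcategory} {c : Cocone D}

include hP in
theorem isSeparatedMor_qB (x : P.FullSubcategory) : IsSeparatedMor (qB P x) := (hP _).1 x.property

section System

variable {F E : Sp S} (hF : IsAlgSpace F) (hE : IsAlgSpace E) (e : E ⟶ F) (he : IsSeparatedMor e)
  (f : ∀ i, sp P (D.obj i) ⟶ F) (hf : ∀ {i j : I} (φ : i ⟶ j), hm P (D.map φ) ≫ f j = f i)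

/-- The base change of a diagram along a separated map. -/
noncomputable def sysObj (i : I) : P.FullSubcategory :=
  mkO hP (pullback e (f i))
    (isAlgSpace_of_isPullback hF.diag hE (D.obj i).obj.left.property (IsPullback.of_hasPullback e (f i)))
    (pullback.snd e (f i) ≫ qB P (D.obj i))
    (separated_comp (separated_of_isPullback (IsPullback.of_hasPullback e (f i)) he) (isSeparatedMor_qB hP _))

/-- The transition maps. -/
noncomputable def sysMap {i j : I} (φ : i ⟶ j) : pullback e (f i) ⟶ pullback e (f j) :=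
  pullback.lift (pullback.fst e (f i)) (pullback.snd e (f i) ≫ hm P (D.map φ))
    (by rw [Category.assoc, hf]; exact pullback.condition)

/-- The base change functor. -/
noncomputable def sys : I ⥤ P.FullSubcategory where
  obj i := sysObj hP hF hE e he f i
  map {i j} φ := mkH (x := sysObj hP hF hE e he f i) (y := sysObj hP hF hE e he f j) (sysMap e f hf φ) (by
    show sysMap e f hf φ ≫ pullback.snd e (f j) ≫ qB P (D.obj j) = pullback.snd e (f i) ≫ qB P (D.obj i)
    rw [← Category.assoc, sysMap, pullback.lift_snd, Category.assoc, hm_w])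
  map_id i := hm_ext (by
    show sysMap e f hf (𝟙 i) = 𝟙 _
    apply pullback.hom_ext
    · rw [sysMap, pullback.lift_fst, Category.id_comp]
    · rw [sysMap, pullback.lift_snd, Category.id_comp, D.map_id]
      exact Category.comp_id _)
  map_comp {i j k} φ ψ := hm_ext (by
    show sysMap e f hf (φ ≫ ψ) = sysMap e f hf φ ≫ sysMap e f hf ψ
    apply pullback.hom_ext
    · rw [sysMap, sysMap, sysMap, Category.assoc, pullback.lift_fst, pullback.lift_fst, pullback.lift_fst]
    · rw [sysMap, sysMap, sysMap, Category.assoc, pullback.lift_snd, pullback.lift_snd, pullback.lift_snd_assoc,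
        D.map_comp, Category.assoc]
      rfl)

/-- The projection to the diagram. -/
noncomputable def sysNat : sys hP hF hE e he f hf ⟶ D where
  app i := mkH (x := sysObj hP hF hE e he f i) (pullback.snd e (f i)) rfl
  naturality i j φ := hm_ext (pullback.lift_snd _ _ _)

theorem sys_isPullback {i j : I} (φ : i ⟶ j) :
    IsPullback (sysMap e f hf φ) (pullback.snd e (f i)) (pullback.snd e (f j)) (hm P (D.map φ)) := by
  refine IsPullback.of_right ?_ (pullback.lift_snd _ _ _) (IsPullback.of_hasPullback e (f j))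
  rw [sysMap, pullback.lift_fst, hf]
  exact IsPullback.of_hasPullback e (f i)

include hF hE in
theorem isEtaleMor_sys (hee : IsEtaleMor e) (i : I) : IsEtaleMor (pullback.snd e (f i)) :=
  (isEtaleMor_iff_locP (isAlgSpace_of_isPullback hF.diag hE (D.obj i).obj.left.property
    (IsPullback.of_hasPullback e (f i))) (D.obj i).obj.left.property _).2
    (locP_of_isPullback etLocal_etale hE hF (D.obj i).obj.left.property (IsPullback.of_hasPullback e (f i))
      ((isEtaleMor_iff_locP hE hF _).1 hee))

end System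

variable (h₄ : ∀ (D' : I ⥤ P.FullSubcategory) (α : D' ⟶ D) (c' : Cocone D') (a : c'.pt ⟶ c.pt),
      IsEtaleMor a.hom.left.hom → IsSeparatedMor a.hom.left.hom →
      (∀ i, IsPullback (c'.ι.app i).hom.left.hom (α.app i).hom.left.hom a.hom.left.hom (c.ι.app i).hom.left.hom) →
        Nonempty (IsColimit c'))

include hP h₄ in
/-- Maps from a separated etale space over the colimit are glued from maps on the members. -/
theorem existsUnique_desc {E : Sp S} (hE : IsAlgSpace E) (e : E ⟶ sp P c.pt) (hee : IsEtaleMor e)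
    (he : IsSeparatedMor e) (W : P.FullSubcategory)
    (k : ∀ i, pullback e (hm P (c.ι.app i)) ⟶ sp P W)
    (hkB : ∀ i, k i ≫ qB P W = pullback.snd e (hm P (c.ι.app i)) ≫ qB P (D.obj i))
    (hk : ∀ {i j : I} (φ : i ⟶ j), sysMap e (fun i => hm P (c.ι.app i))
      (fun {i j} φ => congrArg (hm P) (c.w φ)) φ ≫ k j = k i) :
    ∃! g : E ⟶ sp P W, g ≫ qB P W = e ≫ qB P c.pt ∧ ∀ i, pullback.fst e (hm P (c.ι.app i)) ≫ g = k i := by
  let f := fun i => hm P (c.ι.app i)
  have hf : ∀ {i j : I} (φ : i ⟶ j), hm P (D.map φ) ≫ f j = f i := fun φ => congrArg (hm P) (c.w φ)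
  let D' := sys hP c.pt.obj.left.property hE e he f hf
  let V : P.FullSubcategory :=
    mkO hP E hE (e ≫ qB P c.pt) (separated_comp he (isSeparatedMor_qB hP _))
  let a : V ⟶ c.pt := mkH (x := V) e rfl
  let c' : Cocone D' := Cocone.mk V
    { app := fun i => mkH (x := D'.obj i) (y := V) (pullback.fst e (f i)) (by
        show pullback.fst e (f i) ≫ e ≫ qB P c.pt = pullback.snd e (f i) ≫ qB P (D.obj i)
        rw [pullback.condition_assoc]
        exact congrArg (_ ≫ ·) (hm_w (c.ι.app i)))
      naturality := fun i j φ => hm_ext (by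
        show sysMap e f hf φ ≫ pullback.fst e (f j) = pullback.fst e (f i) ≫ 𝟙 _
        rw [sysMap, pullback.lift_fst, Category.comp_id]) }
  obtain ⟨hc'⟩ := h₄ D' (sysNat hP c.pt.obj.left.property hE e he f hf) c' a hee he
    (fun i => IsPullback.of_hasPullback _ _)
  let cW : Cocone D' := Cocone.mk W
    { app := fun i => mkH (x := D'.obj i) (k i) (hkB i)
      naturality := fun i j φ => hm_ext (by
        show sysMap e f hf φ ≫ k j = k i ≫ 𝟙 _
        rw [Category.comp_id]; exact hk φ) }
  refine ⟨hm P (hc'.desc cW), ⟨hm_w (hc'.desc cW), fun i => congrArg (hm P) (hc'.fac cW i)⟩, fun g hg => ?_⟩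
  have : mkH (x := V) g hg.1 = hc'.desc cW := hc'.hom_ext fun i => by
    rw [hc'.fac]
    exact hm_ext (hg.2 i)
  exact congrArg (hm P) this

include hP h₄ in
/-- Two maps into a separated atlas agreeing in the space on all members agree in the space. -/
theorem eq_of_members {T : Over B} {U : Over S} [IsSeparated U.hom] {p : (yon S).obj U ⟶ T.left.obj}
    (hp : RepWith @Etale p) {E : Sp S} (hE : IsAlgSpace E) (e : E ⟶ sp P c.pt) (hee : IsEtaleMor e)
    (he : IsSeparatedMor e) (g₁ g₂ : E ⟶ (yon S).obj U)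
    (hg₁ : g₁ ≫ p ≫ T.hom.hom = e ≫ qB P c.pt) (hg₂ : g₂ ≫ p ≫ T.hom.hom = e ≫ qB P c.pt)
    (h : ∀ i, pullback.fst e (hm P (c.ι.app i)) ≫ g₁ ≫ p = pullback.fst e (hm P (c.ι.app i)) ≫ g₂ ≫ p) :
    g₁ ≫ p = g₂ ≫ p := by
  have hT := T.left.property
  have hsU : IsSeparatedMor (p ≫ T.hom.hom) := isSeparatedMor_of_separated _
  have hsp : IsSeparatedMor p := repWith_diagonal_of_comp hsU
  let W : P.FullSubcategory := mkO hP (pullback p p)
    (isAlgSpace_of_isPullback hT.diag (IsAlgSpace.yon_obj U) (IsAlgSpace.yon_obj U) (IsPullback.of_hasPullback p p))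
    (pullback.fst p p ≫ p ≫ T.hom.hom)
    (separated_comp (separated_of_isPullback (IsPullback.of_hasPullback p p).flip hsp) hsU)
  let WU : P.FullSubcategory := mkO hP ((yon S).obj U) (IsAlgSpace.yon_obj U) (p ≫ T.hom.hom) hsU
  have hB : ∀ i, pullback.fst e (hm P (c.ι.app i)) ≫ e ≫ qB P c.pt =
      pullback.snd e (hm P (c.ι.app i)) ≫ qB P (D.obj i) := fun i => by
    rw [pullback.condition_assoc]
    exact congrArg (_ ≫ ·) (hm_w (c.ι.app i))
  have uniq : ∀ u₁ u₂ : E ⟶ (yon S).obj U, u₁ ≫ p ≫ T.hom.hom = e ≫ qB P c.pt →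
      u₂ ≫ p ≫ T.hom.hom = e ≫ qB P c.pt →
      (∀ i, pullback.fst e (hm P (c.ι.app i)) ≫ u₁ = pullback.fst e (hm P (c.ι.app i)) ≫ u₂) → u₁ = u₂ := by
    intro u₁ u₂ h₁ h₂ hu
    exact (existsUnique_desc hP h₄ hE e hee he WU (fun i => pullback.fst e (hm P (c.ι.app i)) ≫ u₂)
      (fun i => (Category.assoc _ _ _).trans ((congrArg (_ ≫ ·) h₂).trans (hB i)))
      (fun φ => (Category.assoc _ _ _).symm.trans (congrArg (· ≫ u₂) (pullback.lift_fst _ _ _)))).unique ⟨h₁, hu⟩
      ⟨h₂, fun i => rfl⟩
  let k : ∀ i, pullback e (hm P (c.ι.app i)) ⟶ pullback p p := fun i =>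
    pullback.lift (pullback.fst _ _ ≫ g₁) (pullback.fst _ _ ≫ g₂) (by rw [Category.assoc, Category.assoc]; exact h i)
  have hkB : ∀ i, k i ≫ pullback.fst p p ≫ p ≫ T.hom.hom =
      pullback.snd e (hm P (c.ι.app i)) ≫ qB P (D.obj i) := fun i => by
    rw [pullback.lift_fst_assoc, Category.assoc, hg₁, hB]
  have hkn : ∀ {i j : I} (φ : i ⟶ j), sysMap e (fun i => hm P (c.ι.app i))
      (fun {i j} φ => congrArg (hm P) (c.w φ)) φ ≫ k j = k i := fun φ => by
    apply pullback.hom_ext
    · rw [Category.assoc, pullback.lift_fst, pullback.lift_fst, sysMap, pullback.lift_fst_assoc]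
    · rw [Category.assoc, pullback.lift_snd, pullback.lift_snd, sysMap, pullback.lift_fst_assoc]
  obtain ⟨g, hgB, hg⟩ : ∃ g : E ⟶ pullback p p, g ≫ pullback.fst p p ≫ p ≫ T.hom.hom = e ≫ qB P c.pt ∧
      ∀ i, pullback.fst e (hm P (c.ι.app i)) ≫ g = k i :=
    (existsUnique_desc hP h₄ hE e hee he W k hkB hkn).exists
  have hg' : g ≫ pullback.fst p p = g₁ := uniq _ _ (by rw [Category.assoc, hgB]) hg₁
    (fun i => by rw [← Category.assoc, hg i, pullback.lift_fst])
  have hg'' : g ≫ pullback.snd p p = g₂ := uniq _ _ (by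
      rw [Category.assoc, ← pullback.condition_assoc, hgB]) hg₂
    (fun i => by rw [← Category.assoc, hg i, pullback.lift_snd])
  rw [← hg', ← hg'', Category.assoc, Category.assoc, pullback.condition]

include hP h₄ in
/-- The cocone stays a colimit among all spaces. -/
theorem nonempty_isColimit_mapCocone
    (h₃ : ∀ x : Points (sp P c.pt), ∃ (i : I) (y : Points (sp P (D.obj i))), Points.map (hm P (c.ι.app i)) y = x)
    (h₅ : ∀ (D' : I ⥤ P.FullSubcategory) (α : D' ⟶ D),
      (∀ ⦃i j : I⦄ (g : i ⟶ j), IsPullback (D'.map g).hom.left.hom (α.app i).hom.left.hom (α.app j).hom.left.hom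
        (D.map g).hom.left.hom) →
      (∀ i, IsEtaleMor (α.app i).hom.left.hom) → (∀ i, IsSeparatedMor (α.app i).hom.left.hom) →
        ∃ (c' : Cocone D') (a : c'.pt ⟶ c.pt), IsEtaleMor a.hom.left.hom ∧ IsSeparatedMor a.hom.left.hom ∧
          ∀ i, IsPullback (c'.ι.app i).hom.left.hom (α.app i).hom.left.hom a.hom.left.hom (c.ι.app i).hom.left.hom) :
    Nonempty (IsColimit (P.ι.mapCocone c)) := by
  have hC : IsAlgSpace (sp P c.pt) := c.pt.obj.left.property
  have surj : ∀ {E : Sp S} (e : E ⟶ sp P c.pt),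
      (∀ i, Function.Surjective (Points.map (pullback.snd e (hm P (c.ι.app i))))) →
      Function.Surjective (Points.map e) := by
    intro E e he x
    obtain ⟨i, y, rfl⟩ := h₃ x
    obtain ⟨z, rfl⟩ := he i y
    exact ⟨Points.map (pullback.fst _ _) z, by rw [← Points.map_comp, ← Points.map_comp, pullback.condition]⟩
  have epi : ∀ {E : Sp S} (_ : IsAlgSpace E) (e : E ⟶ sp P c.pt), IsEtaleMor e → Function.Surjective (Points.map e) →
      Epi e := by
    intro E hE e he hs
    obtain ⟨V, b, hb, hbs⟩ := hE.atlas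
    have hr : RepWith @Etale (b ≫ e) := he b hb
    have : Epi (b ≫ e) := epi_of_repWith _ hr
      (repWith_surjective_of_map hr.1 (fun x => by
        obtain ⟨z, rfl⟩ := hs x
        obtain ⟨w, rfl⟩ := surjective_map_of_repWith hbs z
        exact ⟨w, Points.map_comp b e w⟩))
    exact epi_of_epi b e
  have surj_bc : ∀ {U : Over S} {T : Sp S} {p : (yon S).obj U ⟶ T} (_ : RepWith @Surjective p) {X : Sp S} (f : X ⟶ T),
      Function.Surjective (Points.map (pullback.snd p f)) := fun {U T p} hps {X} f =>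
    surjective_map_of_repWith (repWith_of_isPullback (IsPullback.of_hasPullback _ f) hps)
  refine ⟨IsColimit.ofExistsUnique fun s => ?_⟩
  obtain ⟨U, p, hU, hp, hps⟩ := Gabber.exists_separated_atlas s.pt.left.property
  have hT := s.pt.left.property
  have hsU : IsSeparatedMor (p ≫ s.pt.hom.hom) := isSeparatedMor_of_separated _
  have hsp : IsSeparatedMor p := repWith_diagonal_of_comp hsU
  have hep : IsEtaleMor p := (isEtaleMor_iff_locP (IsAlgSpace.yon_obj U) hT _).2 (locP_of_repWith etLocal_etale hp)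
  let f : ∀ i, sp P (D.obj i) ⟶ s.pt.left.obj := fun i => (s.ι.app i).left.hom
  have hfB : ∀ i, f i ≫ s.pt.hom.hom = qB P (D.obj i) := fun i =>
    congrArg InducedCategory.Hom.hom (Over.w (s.ι.app i))
  have hf : ∀ {i j : I} (φ : i ⟶ j), hm P (D.map φ) ≫ f j = f i := fun {i j} φ =>
    congrArg (fun n => InducedCategory.Hom.hom (CommaMorphism.left n)) (s.w φ)
  let D' := sys hP hT (IsAlgSpace.yon_obj U) p hsp f hf
  obtain ⟨c', a, hae, has, hsq⟩ := h₅ D' (sysNat hP hT (IsAlgSpace.yon_obj U) p hsp f hf)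
    (fun i j φ => sys_isPullback p f hf φ) (isEtaleMor_sys hT (IsAlgSpace.yon_obj U) p f hep)
    (fun i => separated_of_isPullback (IsPullback.of_hasPullback p (f i)) hsp)
  obtain ⟨hc'⟩ := h₄ D' _ c' a hae has hsq
  let WU : P.FullSubcategory := mkO hP ((yon S).obj U) (IsAlgSpace.yon_obj U) (p ≫ s.pt.hom.hom) hsU
  let cU : Cocone D' := Cocone.mk WU
    { app := fun i => mkH (x := D'.obj i) (y := WU) (pullback.fst p (f i)) (by
        show pullback.fst p (f i) ≫ p ≫ s.pt.hom.hom = pullback.snd p (f i) ≫ qB P (D.obj i)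
        rw [pullback.condition_assoc, hfB])
      naturality := fun i j φ => hm_ext (by
        show sysMap p f hf φ ≫ pullback.fst p (f j) = pullback.fst p (f i) ≫ 𝟙 _
        rw [sysMap, pullback.lift_fst, Category.comp_id]) }
  let g : sp P c'.pt ⟶ (yon S).obj U := hm P (hc'.desc cU)
  have hg : ∀ i, hm P (c'.ι.app i) ≫ g = pullback.fst p (f i) := fun i => congrArg (hm P) (hc'.fac cU i)
  have hgB : g ≫ p ≫ s.pt.hom.hom = hm P a ≫ qB P c.pt := (hm_w (hc'.desc cU)).trans (hm_w a).symm
  have hE : IsAlgSpace (sp P c'.pt) := c'.pt.obj.left.property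
  have hsurj : Function.Surjective (Points.map (hm P a)) := fun x => by
    obtain ⟨i, y, rfl⟩ := h₃ x
    obtain ⟨z, rfl⟩ := surj_bc hps (f i) y
    exact ⟨Points.map (hm P (c'.ι.app i)) z, by
      rw [← Points.map_comp, (hsq i).w, Points.map_comp]; rfl⟩
  have := epi hE (hm P a) hae hsurj
  let r₁ := pullback.fst (hm P a) (hm P a)
  let r₂ := pullback.snd (hm P a) (hm P a)
  have sqR := IsPullback.of_hasPullback (hm P a) (hm P a)
  have hR : IsAlgSpace (pullback (hm P a) (hm P a)) := isAlgSpace_of_isPullback hC.diag hE hE sqR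
  have hkp : r₁ ≫ g ≫ p = r₂ ≫ g ≫ p := by
    have h1 := eq_of_members hP h₄ (T := s.pt) hp hR (r₁ ≫ hm P a)
      ((isEtaleMor_iff_locP hR hC _).2 (locP_comp etLocal_etale hR hE hC
        (locP_of_isPullback etLocal_etale hE hC hE sqR.flip ((isEtaleMor_iff_locP hE hC _).1 hae))
        ((isEtaleMor_iff_locP hE hC _).1 hae)))
      (separated_comp (separated_of_isPullback sqR.flip has) has) (r₁ ≫ g) (r₂ ≫ g)
      (by rw [Category.assoc, Category.assoc, hgB])
      (by rw [Category.assoc, hgB, ← Category.assoc r₂, ← pullback.condition])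
      (fun i => by
        have key : ∀ (r : pullback (hm P a) (hm P a) ⟶ sp P c'.pt), r ≫ hm P a = r₁ ≫ hm P a →
            pullback.fst (r₁ ≫ hm P a) (hm P (c.ι.app i)) ≫ r ≫ g ≫ p =
              pullback.snd (r₁ ≫ hm P a) (hm P (c.ι.app i)) ≫ f i := by
          intro r hr
          obtain ⟨l, hl₁, hl₂⟩ := (hsq i).exists_lift (pullback.fst _ _ ≫ r)
            (pullback.snd (r₁ ≫ hm P a) (hm P (c.ι.app i))) (by
              rw [Category.assoc, hr]; exact pullback.condition)
          rw [← Category.assoc (pullback.fst _ _) r, ← hl₁, Category.assoc, ← Category.assoc (hm P (c'.ι.app i)), hg]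
          exact (congrArg (l ≫ ·) pullback.condition).trans ((Category.assoc _ _ _).symm.trans (congrArg (· ≫ f i) hl₂))
        simp only [Category.assoc]
        exact (key r₁ rfl).trans (key r₂ pullback.condition.symm).symm)
    simpa only [Category.assoc] using h1
  obtain ⟨hcol⟩ := nonempty_isColimit_cofork (hm P a) sqR
  let x : sp P c.pt ⟶ s.pt.left.obj := hcol.desc (Cofork.ofπ (g ≫ p) hkp)
  have hx : hm P a ≫ x = g ≫ p := hcol.fac (Cofork.ofπ (g ≫ p) hkp) WalkingParallelPair.one
  have hxB : x ≫ s.pt.hom.hom = qB P c.pt := by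
    rw [← cancel_epi (hm P a), ← Category.assoc, hx, Category.assoc, hgB]
  have hxi : ∀ i, hm P (c.ι.app i) ≫ x = f i := by
    intro i
    have : Epi (pullback.snd p (f i)) := epi_of_repWith _ (repWith_of_isPullback (IsPullback.of_hasPullback p (f i)) hp)
      (repWith_of_isPullback (IsPullback.of_hasPullback p (f i)) hps)
    rw [← cancel_epi (pullback.snd p (f i)), ← pullback.condition, ← Category.assoc]
    erw [← (hsq i).w]
    exact (Category.assoc _ _ _).trans
      ((congrArg (_ ≫ ·) hx).trans ((Category.assoc _ _ _).symm.trans (congrArg (· ≫ p) (hg i))))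
  refine ⟨Over.homMk (InducedCategory.homMk x) (InducedCategory.hom_ext hxB), fun i => ?_, fun y hy => ?_⟩
  · exact Over.OverMorphism.ext (InducedCategory.hom_ext (hxi i))
  refine Over.OverMorphism.ext (InducedCategory.hom_ext ?_)
  show y.left.hom = x
  have hyB : y.left.hom ≫ s.pt.hom.hom = qB P c.pt := congrArg InducedCategory.Hom.hom (Over.w y)
  have hyi : ∀ i, hm P (c.ι.app i) ≫ y.left.hom = f i := fun i =>
    congrArg (fun n => InducedCategory.Hom.hom (CommaMorphism.left n)) (hy i)
  let e₁ := pullback.snd p y.left.hom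
  let e₂ := pullback.snd p x
  let E := pullback e₁ e₂
  let e : E ⟶ sp P c.pt := pullback.fst e₁ e₂ ≫ e₁
  have hE₁ : IsAlgSpace (pullback p y.left.hom) :=
    isAlgSpace_of_isPullback hT.diag (IsAlgSpace.yon_obj U) hC (IsPullback.of_hasPullback _ _)
  have hE₂ : IsAlgSpace (pullback p x) :=
    isAlgSpace_of_isPullback hT.diag (IsAlgSpace.yon_obj U) hC (IsPullback.of_hasPullback _ _)
  have hE' : IsAlgSpace E := isAlgSpace_of_isPullback hC.diag hE₁ hE₂ (IsPullback.of_hasPullback e₁ e₂)
  have hl₁ : RepWith @Etale e₁ := repWith_of_isPullback (IsPullback.of_hasPullback p y.left.hom) hp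
  have hl₂ : RepWith @Etale e₂ := repWith_of_isPullback (IsPullback.of_hasPullback p x) hp
  have hle : RepWith @Etale e := repWith_comp (repWith_of_isPullback (IsPullback.of_hasPullback e₁ e₂).flip hl₂) hl₁
  have hls : RepWith @Surjective e := repWith_comp
    (repWith_of_isPullback (IsPullback.of_hasPullback e₁ e₂).flip
      (repWith_of_isPullback (IsPullback.of_hasPullback p x) hps))
    (repWith_of_isPullback (IsPullback.of_hasPullback p y.left.hom) hps)
  have := epi_of_repWith e hle hls
  have h₁ : (pullback.fst e₁ e₂ ≫ pullback.fst p y.left.hom) ≫ p = e ≫ y.left.hom := by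
    rw [Category.assoc, pullback.condition]; exact (Category.assoc _ _ _).symm
  have h₂ : (pullback.snd e₁ e₂ ≫ pullback.fst p x) ≫ p = e ≫ x := by
    rw [Category.assoc, pullback.condition, ← Category.assoc, ← pullback.condition]
  rw [← cancel_epi e, ← h₁, ← h₂]
  refine eq_of_members hP h₄ (T := s.pt) hp hE' e
    ((isEtaleMor_iff_locP hE' hC _).2 (locP_of_repWith etLocal_etale hle))
    (separated_comp (separated_of_isPullback (IsPullback.of_hasPullback e₁ e₂).flip
      (separated_of_isPullback (IsPullback.of_hasPullback p x) hsp))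
      (separated_of_isPullback (IsPullback.of_hasPullback p y.left.hom) hsp))
    _ _ ?_ ?_ (fun i => ?_)
  · rw [← Category.assoc, h₁, Category.assoc, hyB]
  · rw [← Category.assoc, h₂, Category.assoc, hxB]
  · rw [h₁, h₂, pullback.condition_assoc, pullback.condition_assoc, hyi, hxi]

end Groth.L23.SepColim
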