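import Groth.Agent.L23.OpenCharts
import Groth.Agent.L23.Cover
import Groth.Agent.L23.AffineMor
import Groth.Agent.L23.Points
import Groth.Agent.L23.AlgSpace
import Groth.Prelude.Def_AlgSpCov

/-!
# Zariski local properties of representable morphisms
-/

universe u

open CategoryTheory CategoryTheory.Limits AlgebraicGeometry Opposite AlgSp Topology

set_option backward.isDefEq.respectTransparency.types false
set_option linter.style.haveILetI false

namespace Groth.L23.TZar

variable {S : Scheme.{u}} {X Y : Sp S}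

/-- Representability is Zariski local on the target. -/
theorem representable_of_zarCover (hX : IsAlgSpace X) (hY : IsAlgSpace Y) {f : X ⟶ Y} {ι : Type u} {Yi : ι → Sp S}
    {j : ∀ i, Yi i ⟶ Y} (hj : IsZarCover Yi j) {Xi : ι → Sp S} {p : ∀ i, Xi i ⟶ X} {q : ∀ i, Xi i ⟶ Yi i}
    (sq : ∀ i, IsPullback (p i) (q i) f (j i)) (hq : ∀ i, Representable (q i)) : Representable f := by
  intro T g
  have sqT := IsPullback.of_hasPullback f g
  have hP : IsAlgSpace (pullback f g) := isAlgSpace_of_isPullback hY.diag hX (IsAlgSpace.yon_obj T) sqT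
  obtain ⟨G, θ, hθ⟩ := OpenCharts.exists_scheme_of_open_charts hP fun x => by
    obtain ⟨t, ht⟩ := (Points.schemeEquiv T).surjective (Points.map (pullback.snd f g) x)
    obtain ⟨i, hi⟩ := hj.2 (Points.ofPt g t)
    obtain ⟨y, hy⟩ := hi
    obtain ⟨Ti, snd, fst, sqi⟩ := (hj.1 i).1 g
    obtain ⟨v, hv, hvt⟩ := exists_point_of_isPullback sqi hy
    obtain ⟨Wi, c, d, sqW⟩ := (hq i) fst
    have big := sqW.paste_horiz (sq i)
    rw [sqi.w] at big
    let l := sqT.lift (d ≫ p i) ((yon S).map c ≫ (yon S).map snd) (by rw [Category.assoc]; exact big.w.trans (by rw [Category.assoc]))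
    have sql : IsPullback l ((yon S).map c) (pullback.snd f g) ((yon S).map snd) :=
      IsPullback.of_right (by rw [sqT.lift_fst]; exact big) (sqT.lift_snd _ _ _) sqT
    have ho : RepWith @IsOpenImmersion ((yon S).map snd) := repWith_map ((hj.1 i).2 g fst snd sqi)
    obtain ⟨w, hw, -⟩ := exists_point_of_isPullback (u := v) sql (by
      rw [ofPt_map, hvt, ← ht]
      rfl)
    exact ⟨Wi, l, w, repWith_of_isPullback sql.flip ho, hw⟩
  obtain ⟨h, hh⟩ := (yon S).map_surjective (θ ≫ pullback.snd f g)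
  exact ⟨G, h, θ ≫ pullback.fst f g, sqT.of_iso (asIso θ).symm (Iso.refl _) (Iso.refl _) (Iso.refl _)
    (by simp) (by simp [hh]) (by simp) (by simp)⟩

/-- Zariski local properties of representable morphisms are local on the target. -/
theorem repWith_of_zarCover {Q : MorphismProperty Scheme.{u}} [Q.IsStableUnderBaseChange] [IsZariskiLocalAtTarget Q]
    (hX : IsAlgSpace X) (hY : IsAlgSpace Y) {f : X ⟶ Y} {ι : Type u} {Yi : ι → Sp S} {j : ∀ i, Yi i ⟶ Y}
    (hj : IsZarCover Yi j) {Xi : ι → Sp S} {p : ∀ i, Xi i ⟶ X} {q : ∀ i, Xi i ⟶ Yi i}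
    (sq : ∀ i, IsPullback (p i) (q i) f (j i)) (hq : ∀ i, RepWith Q (q i)) : RepWith Q f := by
  have hf := representable_of_zarCover hX hY hj sq fun i => (hq i).1
  refine repWith_of_snd hf fun T g => ?_
  choose Ti snd fst sqi using fun i => (hj.1 i).1 g
  have ho : ∀ i, IsOpenImmersion (snd i).left := fun i => (hj.1 i).2 g (fst i) (snd i) (sqi i)
  have hcov : ∀ t : T.left, ∃ i w, (snd i).left w = t := fun t => by
    obtain ⟨i, y, hy⟩ := hj.2 (Points.ofPt g t)
    obtain ⟨v, -, hvt⟩ := exists_point_of_isPullback (sqi i) hy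
    exact ⟨i, v, hvt⟩
  let 𝒰 : T.left.OpenCover := Scheme.Cover.mkOfCovers ι (fun i => (Ti i).left) (fun i => (snd i).left) hcov ho
  rw [IsZariskiLocalAtTarget.iff_of_openCover (P := Q) 𝒰]
  intro i
  obtain ⟨Wi, c, d, sqW⟩ := (hq i).1 (fst i)
  have hc : Q c.left := (hq i).2 (fst i) d c sqW
  have big := sqW.paste_horiz (sq i)
  rw [(sqi i).w] at big
  have sqg := hf.isPullback g
  obtain ⟨m, hm⟩ := (yon S).map_surjective (sqg.lift (d ≫ p i) ((yon S).map c ≫ (yon S).map (snd i))
    (by rw [Category.assoc]; exact big.w.trans (by rw [Category.assoc])))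
  have hm' : IsPullback ((yon S).map m) ((yon S).map c) ((yon S).map (hf.snd g)) ((yon S).map (snd i)) :=
    IsPullback.of_right (by rw [hm, sqg.lift_fst]; exact big) (by rw [hm, sqg.lift_snd]) sqg
  have hm'' : IsPullback m.left c.left (hf.snd g).left (snd i).left :=
    (IsPullback.of_map (yon S) ((yon S).map_injective (by simp only [Functor.map_comp]; exact hm'.w)) hm').map (Over.forget S)
  show Q (pullback.snd (hf.snd g).left (snd i).left)
  rw [← Q.cancel_left_of_respectsIso hm''.isoPullback.hom]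
  rw [IsPullback.isoPullback_hom_snd]
  exact hc

end Groth.L23.TZar
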