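import Mathlib.Algebra.MvPolynomial.Funext
import Mathlib.Algebra.MvPolynomial.Nilpotent
import Mathlib.FieldTheory.IsAlgClosed.AlgebraicClosure
import Mathlib.RingTheory.IntegralClosure.IsIntegralClosure.Basic
import Mathlib.RingTheory.Algebraic.Integral
import Mathlib.RingTheory.TensorProduct.MvPolynomial
import Mathlib.FieldTheory.AlgebraicClosure
import Mathlib.LinearAlgebra.Dual.Lemmas

/-!
# Algebraic points avoiding a hypersurface over an extension field
-/

universe u

open MvPolynomial

set_option autoImplicit false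
set_option linter.style.haveILetI false

namespace Groth.L23.Avoid

variable {k : Type u} [Field k]

/-- A nonzero polynomial over an extension `L` of `k` is nonzero at all conjugates of a suitable algebraic point. -/
theorem exists_avoiding {ι : Type u} {L : Type u} [Field L] [Algebra k L] (kbar : Type u) [Field kbar]
    [Algebra k kbar] [IsAlgClosure k kbar] {f : MvPolynomial ι k} (hf : f ≠ 0) {g : MvPolynomial ι L} (hg : g ≠ 0) :
    ∃ s : ι → kbar, aeval s f ≠ 0 ∧ ∀ (Ω : Type u) [Field Ω] [Algebra k Ω] (α : L →ₐ[k] Ω) (β : kbar →ₐ[k] Ω),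
      eval₂ α.toRingHom (fun i => β (s i)) g ≠ 0 := by
  classical
  haveI : IsAlgClosed kbar := IsAlgClosure.isAlgClosed k
  haveI : Algebra.IsAlgebraic k kbar := IsAlgClosure.isAlgebraic
  let M := AlgebraicClosure L
  let E : IntermediateField k M := algebraicClosure k M
  obtain ⟨m, hm⟩ := MvPolynomial.ne_zero_iff.1 hg
  have hc : algebraMap L M (g.coeff m) ≠ 0 := (map_ne_zero _).2 hm
  obtain ⟨φ, hφ⟩ : ∃ φ : M →ₗ[E] E, φ (algebraMap L M (g.coeff m)) ≠ 0 := by
    by_contra! h
    exact hc ((Module.forall_dual_apply_eq_zero_iff E _).1 h)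
  let g₁ : MvPolynomial ι E := ∑ d ∈ g.support, monomial d (φ (algebraMap L M (g.coeff d)))
  have hg₁ : g₁ ≠ 0 := by
    refine MvPolynomial.ne_zero_iff.2 ⟨m, ?_⟩
    simp only [g₁, coeff_sum, coeff_monomial, Finset.sum_ite_eq']
    rw [if_pos (MvPolynomial.mem_support_iff.2 hm)]
    exact hφ
  letI := MvPolynomial.algebraMvPolynomial (σ := ι) (R := k) (S := E)
  obtain ⟨G, hG, hdvd⟩ := (Algebra.IsIntegral.isIntegral (R := MvPolynomial ι k) g₁).isAlgebraic.exists_nonzero_dvd
    (mem_nonZeroDivisors_of_ne_zero hg₁)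
  obtain ⟨s, hs⟩ : ∃ s : ι → kbar, aeval s (f * G) ≠ 0 := by
    by_contra! h
    have h0 : MvPolynomial.map (algebraMap k kbar) (f * G) = 0 := MvPolynomial.funext fun x => by
      rw [eval_map, map_zero, ← aeval_def]
      exact h x
    exact mul_ne_zero hf hG (map_injective _ (algebraMap k kbar).injective (h0.trans (map_zero _).symm))
  rw [map_mul] at hs
  refine ⟨s, left_ne_zero_of_mul hs, fun Ω _ _ α β h0 => right_ne_zero_of_mul hs ?_⟩
  letI : Algebra L Ω := α.toRingHom.toAlgebra
  haveI : IsScalarTower k L Ω := IsScalarTower.of_algebraMap_eq fun x => (α.commutes x).symm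
  let Ω' := AlgebraicClosure Ω
  let j : M →ₐ[L] Ω' := IsAlgClosed.lift
  let jk : M →ₐ[k] Ω' := j.restrictScalars k
  let γ : kbar →ₐ[k] Ω' := (IsScalarTower.toAlgHom k Ω Ω').comp β
  have hex : ∀ i, ∃ e : E, jk e = γ (s i) := by
    intro i
    have hint : IsIntegral k (s i) := Algebra.IsIntegral.isIntegral _
    obtain ⟨e, he⟩ := (IsAlgClosed.splits ((minpoly k (s i)).map (algebraMap k M))).mem_range_of_isRoot
      ((Polynomial.map_ne_zero_iff (algebraMap k M).injective).2 (minpoly.ne_zero hint))
      (i := jk.toRingHom) (x := γ (s i)) (by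
        rw [Polynomial.map_map, show jk.toRingHom.comp (algebraMap k M) = algebraMap k Ω' from jk.comp_algebraMap, Polynomial.IsRoot.def, Polynomial.eval_map,
          ← Polynomial.aeval_def, Polynomial.aeval_algHom_apply, minpoly.aeval, map_zero])
    refine ⟨⟨e, mem_algebraicClosure_iff.2 ?_⟩, he⟩
    refine IsIntegral.isAlgebraic ((isIntegral_algHom_iff jk jk.injective).1 ?_)
    rw [show jk e = γ (s i) from he]
    exact hint.map γ
  choose e he using hex
  have hgM : eval₂ (algebraMap L M) (fun i => (e i : M)) g = 0 := by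
    refine j.toRingHom.injective ?_
    rw [map_zero, eval₂_comp_left]
    have h1 : (j.toRingHom : M →+* Ω').comp (algebraMap L M) =
        (algebraMap Ω Ω').comp α.toRingHom := j.comp_algebraMap.trans rfl
    rw [h1, show (j.toRingHom ∘ fun i => (e i : M)) = algebraMap Ω Ω' ∘ fun i => β (s i) from
      funext fun i => he i, ← eval₂_comp_left, h0, map_zero]
  have hg₁0 : aeval e g₁ = 0 := by
    simp only [g₁, map_sum, aeval_monomial]
    rw [eval₂_eq] at hgM
    have h2 := congrArg φ hgM
    rw [map_sum, map_zero] at h2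
    refine Eq.trans (Finset.sum_congr rfl fun d _ => ?_) h2
    have h3 : ∀ (c : M) (t : E), φ (c * (t : M)) = φ c * t := fun c t => by
      rw [mul_comm c, mul_comm (φ c)]
      exact φ.map_smul t c
    show (φ (algebraMap L M (g.coeff d))) * d.prod (fun i n => e i ^ n) =
      φ (algebraMap L M (g.coeff d) * ∏ i ∈ d.support, (e i : M) ^ d i)
    rw [← h3]
    simp [Finsupp.prod]
  obtain ⟨q, hq⟩ := hdvd
  have hG0 : aeval e G = 0 := by
    have h4 : aeval (R := E) e (algebraMap (MvPolynomial ι k) (MvPolynomial ι E) G) = aeval e G := by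
      rw [MvPolynomial.algebraMap_def, MvPolynomial.aeval_map_algebraMap]
    rw [← h4, hq, map_mul, hg₁0, zero_mul]
  refine γ.toRingHom.injective ?_
  show γ (aeval s G) = γ 0
  rw [map_zero, MvPolynomial.comp_aeval_apply, show (fun i => γ (s i)) = fun i => (jk.comp E.val) (e i) from
    funext fun i => (he i).symm, ← MvPolynomial.comp_aeval_apply, hG0, map_zero]

end Groth.L23.Avoid
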