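import Groth.Agent.L23.EffCartierSub
import Groth.Agent.L23.MorCalc
import Groth.Agent.L23.Epi
import Groth.Agent.L13.BlowUp.Exists
import Groth.Agent.L13.BlowUp.Proper
import Groth.Prelude.Def_W4stk3spdivBlowUp

/-!
# Blowing up of algebraic spaces: comparison with blowing up of schemes on charts, properness
-/

universe u

open CategoryTheory CategoryTheory.Limits AlgebraicGeometry AlgSp

set_option autoImplicit false
set_option linter.style.haveILetI false
set_option backward.isDefEq.respectTransparency false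
set_option backward.isDefEq.respectTransparency.types false

noncomputable section

namespace Groth.L23.BlowUpSp

open Groth.L23.EffCart

variable {S : Scheme.{u}} {X Z : Sp S} {i : Z ⟶ X}

/-- The centre pulled back to an etale chart of a test space is an effective Cartier divisor. -/
theorem isEffCartier_of_invImage (hi : RepWith @IsClosedImmersion i) {Y : Sp S} {g : Y ⟶ X}
    (h : InvImageIsEffCartier i g) {T : Over S} {φ : (yon S).obj T ⟶ Y} (hφ : RepWith @Etale φ) :
    BlowUp.IsEffCartierIdeal (hi.1.snd (φ ≫ g)).left.ker := by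
  obtain ⟨P, fst, snd, sq, hsnd⟩ := h
  rw [CutOut.ker_snd_eq hi.1 ((hsnd.1.1.isPullback φ).paste_horiz sq)]
  exact isEffCartier_ker hsnd hφ

/-- The converse, for an atlas. -/
theorem invImage_of_chart (hi : RepWith @IsClosedImmersion i) {Y : Sp S} {g : Y ⟶ X} {T : Over S}
    {φ : (yon S).obj T ⟶ Y} (hφ : RepWith @Etale φ) (hs : RepWith @Surjective φ)
    (h : BlowUp.IsEffCartierIdeal (hi.1.snd (φ ≫ g)).left.ker) : InvImageIsEffCartier i g := by
  have hc : RepWith @IsClosedImmersion (pullback.snd i g) :=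
    repWith_of_isPullback (IsPullback.of_hasPullback i g) hi
  refine ⟨_, _, _, IsPullback.of_hasPullback i g, isEffCartierSub_of_ker hc hφ hs ?_⟩
  rwa [← CutOut.ker_snd_eq hi.1 ((hc.1.isPullback φ).paste_horiz (IsPullback.of_hasPullback i g))]

theorem isFiniteTypeIdeal_ker {A T : Scheme.{u}} (f : A ⟶ T) [IsClosedImmersion f]
    [LocallyOfFinitePresentation f] : BlowUp.IsFiniteTypeIdeal f.ker := by
  intro U
  have hA : IsAffineOpen (f ⁻¹ᵁ U.1) := U.2.preimage f
  have h : (f.appLE U.1 (f ⁻¹ᵁ U.1) le_rfl).hom.FinitePresentation :=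
    HasRingHomProperty.appLE @LocallyOfFinitePresentation f inferInstance U ⟨_, hA⟩ le_rfl
  rw [← Scheme.Hom.app_eq_appLE] at h
  have hs := f.app_surjective U.1 U.2
  rw [Scheme.Hom.ker_apply]
  letI := (f.app U.1).hom.toAlgebra
  haveI : Algebra.FinitePresentation Γ(T, U.1) Γ(A, f ⁻¹ᵁ U.1) := h
  exact Algebra.FinitePresentation.ker_fG_of_surjective (Algebra.ofId _ _) hs

variable {U : Over S} {p : (yon S).obj U ⟶ X}

/-- The scheme blowing up satisfies the universal property among spaces. -/
theorem existsUnique_lift (hi : RepWith @IsClosedImmersion i) {B : Over S} {β : B ⟶ U}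
    (hβ : BlowUp.IsBlowUp β.left (hi.1.snd p).left.ker) {Y : Sp S} (hY : IsAlgSpace Y) (g : Y ⟶ (yon S).obj U)
    (hg : InvImageIsEffCartier i (g ≫ p)) : ∃! h : Y ⟶ (yon S).obj B, h ≫ (yon S).map β = g := by
  have key : ∀ (T : Over S) (φ : (yon S).obj T ⟶ Y), RepWith @Etale φ →
      ∃! h : (yon S).obj T ⟶ (yon S).obj B, h ≫ (yon S).map β = φ ≫ g := by
    intro T φ hφ
    obtain ⟨m, hm⟩ := (yon S).map_surjective (φ ≫ g)
    have he : BlowUp.IsEffCartierIdeal ((hi.1.snd p).left.ker.comap m.left) := by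
      rw [comap_ker_snd hi m (g := φ ≫ g ≫ p) (by rw [hm, Category.assoc])]
      exact isEffCartier_of_invImage hi hg hφ
    obtain ⟨l, hl, hlu⟩ := hβ.2 T.left m.left he
    let l' : T ⟶ B := Over.homMk l (by rw [← Over.w β, ← Category.assoc, hl, Over.w])
    refine ⟨(yon S).map l', by
      show _ ≫ _ = _
      rw [← Functor.map_comp, ← hm]; exact congrArg _ (Over.OverMorphism.ext hl), fun h hh => ?_⟩
    obtain ⟨h₀, rfl⟩ := (yon S).map_surjective h
    rw [← hm] at hh
    have h₁ : h₀ ≫ β = m := (yon S).map_injective (by rw [Functor.map_comp]; exact hh)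
    exact congrArg _ (Over.OverMorphism.ext (hlu h₀.left (congrArg (fun k => k.left) h₁)))
  obtain ⟨V, φ, hφ, hφs⟩ := hY.atlas
  haveI := epi_of_repWith φ hφ hφs
  obtain ⟨R, r₁, r₂, sR⟩ := exists_isPullback_of_representable (hY.representable_from_yon φ) φ
  obtain ⟨hV, hV', hVu⟩ := key V φ hφ
  obtain ⟨hc⟩ := nonempty_isColimit_cofork φ sR
  have hw : (yon S).map r₁ ≫ hV = (yon S).map r₂ ≫ hV := by
    have hR : RepWith @Etale ((yon S).map r₁ ≫ φ) := repWith_comp (repWith_of_isPullback sR.flip hφ) hφ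
    refine (key R _ hR).unique (by rw [Category.assoc, hV', Category.assoc]) ?_
    rw [Category.assoc, hV', ← Category.assoc, sR.w, Category.assoc]
  refine ⟨hc.desc (Cofork.ofπ hV hw), ?_, fun h hh => ?_⟩
  · show _ ≫ _ = _
    rw [← cancel_epi φ, ← Category.assoc]
    exact (congrArg (· ≫ _) (Cofork.IsColimit.π_desc hc)).trans hV'
  · rw [← cancel_epi φ]
    exact (hVu _ (show (φ ≫ h) ≫ _ = _ by rw [Category.assoc, hh])).trans
      (Cofork.IsColimit.π_desc (t := Cofork.ofπ hV hw) hc).symm

/-- The blowing up in a finitely presented centre is proper. -/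
theorem isProperMor_blowUp {X' : Sp S} (hX : IsAlgSpace X) (hX' : IsAlgSpace X')
    (hi : RepWith (@IsClosedImmersion ⊓ @LocallyOfFinitePresentation) i) {b : X' ⟶ X} (hb : IsBlowUpSp b i) :
    IsProperMor b := by
  have hc : RepWith @IsClosedImmersion i := repWith_mono (fun _ h => h.1) hi
  obtain ⟨U, p, hp, hps⟩ := hX.atlas
  haveI : IsClosedImmersion (hc.1.snd p).left := repWith_snd hc p
  haveI : LocallyOfFinitePresentation (hc.1.snd p).left :=
    repWith_prop (repWith_mono (fun _ h => h.2) hi) (hc.1.isPullback p)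
  obtain ⟨B₀, β₀, hβ⟩ := Groth.L13.BU.exists_isBlowUp (hc.1.snd p).left.ker
  haveI hβp : IsProper β₀ := Groth.L13.BU.isProper_blowUp hβ (isFiniteTypeIdeal_ker _)
  let B : Over S := Over.mk (β₀ ≫ U.hom)
  let β : B ⟶ U := Over.homMk β₀ rfl
  have hβ' : BlowUp.IsBlowUp β.left (hc.1.snd p).left.ker := hβ
  have sq := IsPullback.of_hasPullback b p
  have hP : IsAlgSpace (pullback b p) := isAlgSpace_of_isPullback hX.diag hX' (IsAlgSpace.yon_obj U) sq
  -- the pullback satisfies the condition
  have hPinv : InvImageIsEffCartier i (pullback.snd b p ≫ p) := by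
    obtain ⟨V, φ, hφ, hφs⟩ := hP.atlas
    refine invImage_of_chart hc hφ hφs ?_
    rw [← pullback.condition, ← Category.assoc]
    exact isEffCartier_of_invImage hc hb.1 (repWith_comp hφ (repWith_of_isPullback sq.flip hp))
  have hBinv : InvImageIsEffCartier i ((yon S).map β ≫ p) := by
    refine invImage_of_chart hc (repWith_id _ B) (repWith_id _ B) ?_
    rw [← comap_ker_snd hc β (g := 𝟙 _ ≫ (yon S).map β ≫ p) (Category.id_comp _).symm]
    exact hβ.1
  obtain ⟨k, hk, -⟩ := existsUnique_lift hc hβ' hP _ hPinv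
  obtain ⟨l₀, hl₀, -⟩ := hb.2 (IsAlgSpace.yon_obj B) _ hBinv
  let l : (yon S).obj B ⟶ pullback b p := pullback.lift l₀ ((yon S).map β) hl₀
  have hlk : l ≫ k = 𝟙 _ := (existsUnique_lift hc hβ' (IsAlgSpace.yon_obj B) _ hBinv).unique
    (by rw [Category.assoc, hk, pullback.lift_snd]) (Category.id_comp _)
  have hkl : k ≫ l = 𝟙 _ := by
    apply pullback.hom_ext
    · refine (hb.2 hP _ hPinv).unique ?_ (by rw [Category.id_comp, pullback.condition])
      rw [Category.assoc, Category.assoc, pullback.lift_fst_assoc, hl₀, ← Category.assoc, hk]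
    · rw [Category.assoc, pullback.lift_snd, hk, Category.id_comp]
  haveI : IsIso k := ⟨l, hkl, hlk⟩
  refine isProperMor_of_cover hX' hX hp hps sq (isProperMor_of_repWith ?_)
  rw [← hk]
  exact repWith_comp (repWith_of_isIso _) (repWith_map hβp)

end Groth.L23.BlowUpSp
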