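import Groth.Agent.L23.BranchHens
import Mathlib.AlgebraicGeometry.Morphisms.Etale

/-!
# Branches of schemes on elementary étale neighbourhoods
-/

universe u

open CategoryTheory AlgebraicGeometry IsLocalRing Opposite

set_option linter.style.haveILetI false
set_option backward.isDefEq.respectTransparency.types false

namespace Groth.L23.Branch

section algebra

variable {R E : Type u} [CommRing R] [CommRing E] [Algebra R E] (p : Ideal R) [p.IsPrime]

theorem exists_fraction_residueField (x : p.ResidueField) :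
    ∃ r s : R, s ∉ p ∧ x * algebraMap R p.ResidueField s = algebraMap R p.ResidueField r := by
  obtain ⟨⟨a, b, hb⟩, h⟩ := IsLocalization.surj (nonZeroDivisors (R ⧸ p)) x
  obtain ⟨r, rfl⟩ := Ideal.Quotient.mk_surjective a
  obtain ⟨s, rfl⟩ := Ideal.Quotient.mk_surjective b
  refine ⟨r, s, fun hs => nonZeroDivisors.ne_zero hb (Ideal.Quotient.eq_zero_iff_mem.2 hs), ?_⟩
  rw [IsScalarTower.algebraMap_apply R (R ⧸ p) p.ResidueField, IsScalarTower.algebraMap_apply R (R ⧸ p) p.ResidueField]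
  exact h

theorem exists_point_of_fractions (q : Ideal E) [q.IsPrime] (hqp : p = q.comap (algebraMap R E))
    (h : ∀ a : E, ∃ r s : R, s ∉ p ∧ a * algebraMap R E s - algebraMap R E r ∈ q) :
    ∃ φ : E →ₐ[R] p.ResidueField, RingHom.ker φ = q := by
  refine Groth.L05.Henselization.exists_point p q hqp ⟨RingHom.injective _, fun y => ?_⟩
  set ι := Ideal.ResidueField.map p q (algebraMap R E) hqp
  have hA : ∀ a : E, algebraMap E q.ResidueField a ∈ ι.fieldRange := by
    intro a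
    obtain ⟨r, s, hs, hm⟩ := h a
    have hs' : algebraMap R p.ResidueField s ≠ 0 := by
      rwa [Ne, Ideal.algebraMap_residueField_eq_zero]
    refine ⟨algebraMap R _ r / algebraMap R _ s, ?_⟩
    rw [map_div₀, div_eq_iff (by rwa [ne_eq, map_eq_zero_iff _ ι.injective]),
      Ideal.ResidueField.map_algebraMap, Ideal.ResidueField.map_algebraMap, eq_comm, ← sub_eq_zero,
      ← map_mul, ← map_sub, Ideal.algebraMap_residueField_eq_zero]
    exact hm
  obtain ⟨a, b, hb, hy⟩ := exists_fraction_residueField (R := E) q y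
  have hb' : algebraMap E q.ResidueField b ≠ 0 := by
    rwa [Ne, Ideal.algebraMap_residueField_eq_zero]
  rw [eq_div_of_mul_eq hb' hy]
  exact ι.fieldRange.div_mem (hA a) (hA b)

theorem fractions_of_point (φ : E →ₐ[R] p.ResidueField) (a : E) :
    ∃ r s : R, s ∉ p ∧ a * algebraMap R E s - algebraMap R E r ∈ RingHom.ker φ := by
  obtain ⟨r, s, hs, h⟩ := exists_fraction_residueField p (φ a)
  refine ⟨r, s, hs, ?_⟩
  rw [RingHom.mem_ker, map_sub, map_mul, AlgHom.commutes, AlgHom.commutes, h, sub_self]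

end algebra

variable {X U : Scheme.{u}} (g : U ⟶ X) {V : X.Opens} {W : U.Opens} (e : W ≤ g ⁻¹ᵁ V) (u : U) (hu : u ∈ W)

theorem germ_stalkMap_appLE (r : Γ(X, V)) :
    g.stalkMap u (X.presheaf.germ V (g u) (e hu) r) = U.presheaf.germ W u hu (g.appLE V W e r) := by
  rw [Scheme.Hom.germ_stalkMap_apply, Scheme.Hom.appLE, CommRingCat.comp_apply,
    TopCat.Presheaf.germ_res_apply]

variable (hV : IsAffineOpen V) (hW : IsAffineOpen W)

omit g e in
theorem mem_primeIdealOf_iff (a : Γ(U, W)) :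
    a ∈ (hW.primeIdealOf ⟨u, hu⟩).asIdeal ↔
      U.presheaf.germ W u hu a ∈ maximalIdeal (U.presheaf.stalk u) := by
  haveI := hW.isLocalization_stalk ⟨u, hu⟩
  letI := U.presheaf.algebra_section_stalk (⟨u, hu⟩ : W)
  exact (IsLocalization.AtPrime.to_map_mem_maximal_iff (U.presheaf.stalk u)
    (hW.primeIdealOf ⟨u, hu⟩).asIdeal a).symm

theorem comap_primeIdealOf :
    (hV.primeIdealOf ⟨g u, e hu⟩).asIdeal =
      (hW.primeIdealOf ⟨u, hu⟩).asIdeal.comap (g.appLE V W e).hom := by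
  ext r
  rw [Ideal.mem_comap, mem_primeIdealOf_iff (U := X) (g u) (e hu) hV r, mem_primeIdealOf_iff u hu hW]
  show _ ↔ U.presheaf.germ W u hu (g.appLE V W e r) ∈ _
  rw [← germ_stalkMap_appLE g e u hu r, mem_maximalIdeal, mem_maximalIdeal, mem_nonunits_iff,
    mem_nonunits_iff]
  exact not_congr (isUnit_map_iff (g.stalkMap u).hom _).symm

omit g e in
theorem residue_germ_eq_zero_iff (a : Γ(U, W)) :
    U.residue u (U.presheaf.germ W u hu a) = 0 ↔ a ∈ (hW.primeIdealOf ⟨u, hu⟩).asIdeal := by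
  rw [mem_primeIdealOf_iff u hu hW]
  exact IsLocalRing.residue_eq_zero_iff _

omit g e in
theorem exists_fraction_residue (y : U.residueField u) : ∃ a b : Γ(U, W),
    b ∉ (hW.primeIdealOf ⟨u, hu⟩).asIdeal ∧
      y * U.residue u (U.presheaf.germ W u hu b) = U.residue u (U.presheaf.germ W u hu a) := by
  haveI := hW.isLocalization_stalk ⟨u, hu⟩
  letI := U.presheaf.algebra_section_stalk (⟨u, hu⟩ : W)
  obtain ⟨t, rfl⟩ := U.residue_surjective u y
  obtain ⟨⟨a, b, hb⟩, h⟩ := IsLocalization.surj (hW.primeIdealOf ⟨u, hu⟩).asIdeal.primeCompl t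
  refine ⟨a, b, hb, ?_⟩
  rw [← map_mul]
  exact congrArg _ h

/-- Trivial residue field extension in terms of sections. -/
theorem residueFieldMap_bijective_iff :
    Function.Bijective (g.residueFieldMap u) ↔ ∀ a : Γ(U, W), ∃ r s : Γ(X, V),
      s ∉ (hV.primeIdealOf ⟨g u, e hu⟩).asIdeal ∧
      a * g.appLE V W e s - g.appLE V W e r ∈ (hW.primeIdealOf ⟨u, hu⟩).asIdeal := by
  let rX := fun r : Γ(X, V) => X.residue (g u) (X.presheaf.germ V (g u) (e hu) r)
  let rU := fun a : Γ(U, W) => U.residue u (U.presheaf.germ W u hu a)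
  have hnat : ∀ r, g.residueFieldMap u (rX r) = rU (g.appLE V W e r) := fun r => by
    show (X.residue (g u) ≫ g.residueFieldMap u) _ = _
    rw [Scheme.residue_residueFieldMap, CommRingCat.comp_apply, germ_stalkMap_appLE g e u hu r]
  have hzero : ∀ a r s, (a * g.appLE V W e s - g.appLE V W e r ∈ (hW.primeIdealOf ⟨u, hu⟩).asIdeal) ↔
      rU a * g.residueFieldMap u (rX s) = g.residueFieldMap u (rX r) := fun a r s => by
    rw [hnat, hnat, ← sub_eq_zero, ← residue_germ_eq_zero_iff u hu hW]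
    simp only [rU, map_sub, map_mul]
  constructor
  · intro h a
    obtain ⟨z, hz⟩ := h.2 (rU a)
    obtain ⟨r, s, hs, hz'⟩ := exists_fraction_residue (U := X) (g u) (e hu) hV z
    refine ⟨r, s, hs, (hzero a r s).2 ?_⟩
    rw [← hz, ← map_mul]
    exact congrArg _ hz'
  · intro h
    refine ⟨(g.residueFieldMap u).hom.injective, fun y => ?_⟩
    have hA : ∀ a, ∃ z, g.residueFieldMap u z = rU a := fun a => by
      obtain ⟨r, s, hs, hm⟩ := h a
      have hs' : g.residueFieldMap u (rX s) ≠ 0 := by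
        rw [map_ne_zero_iff _ (g.residueFieldMap u).hom.injective]
        exact fun h0 => hs ((residue_germ_eq_zero_iff (U := X) (g u) (e hu) hV s).1 h0)
      refine ⟨rX r / rX s, ?_⟩
      rw [map_div₀, div_eq_iff hs']
      exact ((hzero a r s).1 hm).symm
    obtain ⟨a, b, hb, hy⟩ := exists_fraction_residue u hu hW y
    obtain ⟨za, hza⟩ := hA a
    obtain ⟨zb, hzb⟩ := hA b
    refine ⟨za / zb, ?_⟩
    have hb' : rU b ≠ 0 := fun h0 => hb ((residue_germ_eq_zero_iff u hu hW b).1 h0)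
    rw [map_div₀, hza, hzb, div_eq_iff hb']
    exact hy.symm

/-- Components through a residually trivial étale neighbourhood are bounded by the branches. -/
theorem components_le_numBranchesAt {X U : Scheme.{u}} {g : U ⟶ X} {u : U} {x : X}
    (h : Hens2.IsEtaleNbhd g u x) :
    {Z : Set U | Z ∈ irreducibleComponents U ∧ u ∈ Z}.encard ≤ Brnch.numBranchesAt X x := by
  obtain ⟨hg, rfl, hres⟩ := h
  obtain ⟨_, ⟨V, hV, rfl⟩, hxV, -⟩ :=
    X.isBasis_affineOpens.exists_subset_of_mem_open (Set.mem_univ (g u)) isOpen_univ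
  obtain ⟨_, ⟨W, hW, rfl⟩, hu, hWV⟩ :=
    U.isBasis_affineOpens.exists_subset_of_mem_open (show u ∈ g ⁻¹ᵁ V from hxV) (g ⁻¹ᵁ V).isOpen
  have e : W ≤ g ⁻¹ᵁ V := hWV
  letI : Algebra Γ(X, V) Γ(U, W) := (g.appLE V W e).hom.toAlgebra
  haveI : Algebra.Etale Γ(X, V) Γ(U, W) :=
    HasRingHomProperty.appLE @Etale g hg ⟨V, hV⟩ ⟨W, hW⟩ e
  obtain ⟨φ, hφ⟩ := exists_point_of_fractions (hV.primeIdealOf ⟨g u, e hu⟩).asIdeal
    (hW.primeIdealOf ⟨u, hu⟩).asIdeal (comap_primeIdealOf g e u hu hV hW)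
    ((residueFieldMap_bijective_iff g e u hu hV hW).1 hres)
  haveI := hW.isLocalization_stalk ⟨u, hu⟩
  haveI := hV.isLocalization_stalk ⟨g u, e hu⟩
  letI := U.presheaf.algebra_section_stalk (⟨u, hu⟩ : W)
  letI := X.presheaf.algebra_section_stalk (⟨g u, e hu⟩ : V)
  rw [encard_components]
  refine (encard_point_le (L := U.presheaf.stalk u) _ φ (hW.primeIdealOf ⟨u, hu⟩).asIdeal hφ).trans_eq ?_
  exact numBranches_ringEquiv (IsLocalization.algEquiv (hV.primeIdealOf ⟨g u, e hu⟩).asIdeal.primeCompl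
    (Localization.AtPrime (hV.primeIdealOf ⟨g u, e hu⟩).asIdeal) (X.presheaf.stalk (g u))).toRingEquiv

/-- The branches are attained on residually trivial étale neighbourhoods. -/
theorem exists_nbhd_components_ge (X : Scheme.{u}) (x : X) (m : ℕ) (hm : (m : ℕ∞) ≤ Brnch.numBranchesAt X x) :
    ∃ (U : Scheme.{u}) (g : U ⟶ X) (u : U), Hens2.IsEtaleNbhd g u x ∧
      (m : ℕ∞) ≤ {Z : Set U | Z ∈ irreducibleComponents U ∧ u ∈ Z}.encard := by
  obtain ⟨_, ⟨V, hV, rfl⟩, hxV, -⟩ :=
    X.isBasis_affineOpens.exists_subset_of_mem_open (Set.mem_univ x) isOpen_univ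
  haveI := hV.isLocalization_stalk ⟨x, hxV⟩
  letI := X.presheaf.algebra_section_stalk (⟨x, hxV⟩ : V)
  set p := (hV.primeIdealOf ⟨x, hxV⟩).asIdeal with hp
  obtain ⟨Y, hY⟩ := exists_point_ge p m (hm.trans_eq (numBranches_ringEquiv
    (IsLocalization.algEquiv p.primeCompl (X.presheaf.stalk x) (Localization.AtPrime p)).toRingEquiv))
  haveI : (RingHom.ker Y.φ).IsPrime := RingHom.ker_isPrime _
  let f : Γ(X, V) ⟶ CommRingCat.of Y.R := CommRingCat.ofHom (algebraMap Γ(X, V) Y.R)
  let u : ↥(Spec (CommRingCat.of Y.R)) := ⟨RingHom.ker Y.φ, inferInstance⟩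
  let g := Spec.map f ≫ hV.fromSpec
  have hgu : g u = x := by
    have h1 : Spec.map f u = hV.primeIdealOf ⟨x, hxV⟩ :=
      PrimeSpectrum.ext (Groth.L05.Henselization.comap_ker_point p Y.φ).symm
    show hV.fromSpec (Spec.map f u) = x
    rw [h1]
    exact hV.fromSpec_primeIdealOf ⟨x, hxV⟩
  haveI : Etale (Spec.map f) := (HasRingHomProperty.Spec_iff (P := @Etale)).2
    (RingHom.etale_algebraMap.2 inferInstance)
  have hg : Etale g := inferInstanceAs (Etale (Spec.map f ≫ hV.fromSpec))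
  have e : (⊤ : (Spec (CommRingCat.of Y.R)).Opens) ≤ g ⁻¹ᵁ V := by
    rintro z -
    show hV.fromSpec (Spec.map f z) ∈ V
    exact hV.range_fromSpec.le ⟨_, rfl⟩
  have happ : g.appLE V ⊤ e = f ≫ (Scheme.ΓSpecIso (CommRingCat.of Y.R)).inv := by
    rw [← Scheme.Hom.appLE_comp_appLE (Spec.map f) hV.fromSpec V ⊤ ⊤ hV.fromSpec_preimage_self.ge
      le_top]
    have h1 : hV.fromSpec.appLE V ⊤ hV.fromSpec_preimage_self.ge = (Scheme.ΓSpecIso Γ(X, V)).inv := by
      rw [Scheme.Hom.appLE, hV.fromSpec_app_self, Category.assoc, ← Functor.map_comp]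
      exact (congrArg (_ ≫ ·) ((Spec Γ(X, V)).presheaf.map_id _)).trans (Category.comp_id _)
    have h2 : (Spec.map f).appLE ⊤ ⊤ le_top = (Spec.map f).appTop := Scheme.Hom.appLE_eq_app _
    rw [h1, h2, ← Scheme.ΓSpecIso_inv_naturality]
  let q := ((isAffineOpen_top _).primeIdealOf ⟨u, trivial⟩).asIdeal
  have hq : ∀ a, a ∈ q ↔ Y.φ ((Scheme.ΓSpecIso (CommRingCat.of Y.R)).hom a) = 0 := by
    intro a
    rw [mem_primeIdealOf_iff (W := ⊤) u trivial (isAffineOpen_top _) a, mem_maximalIdeal, mem_nonunits_iff,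
      ← Scheme.mem_basicOpen _ a u trivial, basicOpen_eq_of_affine']
    exact not_not
  refine ⟨_, g, u, ⟨hg, hgu, ?_⟩, ?_⟩
  · rw [residueFieldMap_bijective_iff g e u trivial hV (isAffineOpen_top _)]
    intro a
    obtain ⟨r, s, hs, hrs⟩ := fractions_of_point p Y.φ ((Scheme.ΓSpecIso (CommRingCat.of Y.R)).hom a)
    refine ⟨r, s, ?_, (hq _).2 ?_⟩
    · have : (⟨g u, e trivial⟩ : V) = ⟨x, hxV⟩ := Subtype.ext hgu
      rw [this]
      exact hs
    · rw [RingHom.mem_ker] at hrs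
      rw [happ, map_sub, map_mul, CommRingCat.comp_apply, CommRingCat.comp_apply,
        CategoryTheory.Iso.inv_hom_id_apply (C := CommRingCat), CategoryTheory.Iso.inv_hom_id_apply (C := CommRingCat)]
      exact hrs
  · rw [encard_components]
    exact hY.trans_eq (SH.encard_minimalPrimes_ringEquiv (StructureSheaf.stalkIso Y.R u).toRingEquiv)

end Groth.L23.Branch
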