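import Groth.Agent.L23.SchImageChar
import Groth.Agent.L23.Compact
import Mathlib.Topology.Spectral.Prespectral
import Mathlib.AlgebraicGeometry.Morphisms.QuasiCompact

/-!
# Good charts for quasi-compact morphisms
-/

universe u

open CategoryTheory CategoryTheory.Limits AlgebraicGeometry Opposite AlgSp TopologicalSpace

set_option autoImplicit false
set_option linter.style.haveILetI false
set_option backward.isDefEq.respectTransparency.types false

namespace Groth.L23.Img

variable {S : Scheme.{u}} {X F Z : Sp S}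

theorem quasiCompact_sigmaDesc {σ : Type u} {A B : σ → Scheme.{u}} [∀ i, CompactSpace (A i)]
    [∀ i, IsAffine (B i)] (k : ∀ i, A i ⟶ B i) :
    QuasiCompact (Sigma.desc fun i => k i ≫ Sigma.ι B i) := by
  let m := Sigma.desc fun i => k i ≫ Sigma.ι B i
  have hpre : ∀ i, m ⁻¹' Set.range (Sigma.ι B i) = Set.range (Sigma.ι A i) := by
    intro i
    refine Set.Subset.antisymm (fun x hx => ?_) ?_
    · obtain ⟨j, y, rfl⟩ := (sigmaOpenCover A).exists_eq x
      have hj : m (Sigma.ι A j y) ∈ (Sigma.ι B j).opensRange := by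
        rw [← Scheme.Hom.comp_apply, Sigma.ι_desc]
        exact ⟨k j y, rfl⟩
      by_cases h : j = i
      · subst h; exact ⟨y, rfl⟩
      · exact ((disjoint_opensRange_sigmaι B j i h).le_bot ⟨hj, hx⟩).elim
    · rintro _ ⟨y, rfl⟩
      refine ⟨k i y, ?_⟩
      rw [← Scheme.Hom.comp_apply, ← Scheme.Hom.comp_apply, Sigma.ι_desc]
  haveI : ∀ i, IsAffine ((sigmaOpenCover B).X i) := fun i => inferInstanceAs (IsAffine (B i))
  rw [HasAffineProperty.iff_of_openCover (P := @QuasiCompact) (sigmaOpenCover B)]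
  intro i
  show CompactSpace ↥(pullback m (Sigma.ι B i))
  rw [← isCompact_univ_iff, (pullback.fst m (Sigma.ι B i)).isOpenEmbedding.isInducing.isCompact_iff,
    Set.image_univ, Scheme.Pullback.range_fst, hpre i]
  exact isCompact_range (Sigma.ι A i).continuous

theorem exists_isGood_of_isQuasiCompactMor (hF : IsAlgSpace F) (hX : IsAlgSpace X) (f : F ⟶ X)
    (h : IsQuasiCompactMor f) :
    ∃ (U W : Over S) (p : (yon S).obj U ⟶ X) (w : W ⟶ U), QuasiCompact w.left ∧ IsGood f p w := by
  obtain ⟨U₀, p₀, hp₀, hps₀⟩ := hX.atlas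
  let O := U₀.left.affineCover.X
  haveI : ∀ i, IsAffine (O i) := fun i => inferInstanceAs (IsAffine (U₀.left.affineCover.X i))
  let d : (∐ O) ⟶ U₀.left := Sigma.desc U₀.left.affineCover.f
  haveI : Etale d := IsZariskiLocalAtSource.of_openCover (sigmaOpenCover O) fun i => by
    show Etale (Sigma.ι O i ≫ d)
    rw [Sigma.ι_desc]; infer_instance
  haveI : Surjective d := ⟨fun x => by
    obtain ⟨i, y, rfl⟩ := U₀.left.affineCover.exists_eq x
    exact ⟨Sigma.ι O i y, by rw [← Scheme.Hom.comp_apply, Sigma.ι_desc]⟩⟩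
  let U : Over S := Over.mk (d ≫ U₀.hom)
  let d' : U ⟶ U₀ := Over.homMk d rfl
  let p := (yon S).map d' ≫ p₀
  have hp : RepWith @Etale p := repWith_comp (repWith_map ‹Etale d›) hp₀
  have hps : RepWith @Surjective p := repWith_comp (repWith_map ‹Surjective d›) hps₀
  have sqP := IsPullback.of_hasPullback f p
  have hP : IsAlgSpace (pullback f p) := isAlgSpace_of_isPullback hX.diag hF (IsAlgSpace.yon_obj U) sqP
  have hsnd : IsQuasiCompactMor (pullback.snd f p) := qcMor_of_isPullback sqP h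
  obtain ⟨W₀, c, hc, hcs⟩ := hP.atlas
  obtain ⟨w₀, hw₀⟩ := (yon S).map_surjective (c ≫ pullback.snd f p)
  have hB : ∀ i, ∃ B : W₀.left.Opens, IsCompact (B : Set W₀.left) ∧
      (∀ x ∈ B, w₀.left x ∈ Set.range (Sigma.ι O i)) ∧
      ∀ z, Points.map (pullback.snd f p) z ∈ Points.ofScheme U '' Set.range (Sigma.ι O i) →
        z ∈ Points.ofPt c '' B := by
    intro i
    let V : Over S := Over.mk (Sigma.ι O i ≫ U.hom)
    let κ : V ⟶ U := Over.homMk (Sigma.ι O i) rfl
    haveI : CompactSpace V.left := inferInstanceAs (CompactSpace (O i))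
    let K := Points.map (pullback.snd f p) ⁻¹' (Points.ofScheme U '' Set.range (Sigma.ι O i))
    have hK : K = Set.range (Points.map (pullback.fst (pullback.snd f p) ((yon S).map κ))) := by
      rw [range_fst_of_isPullback (IsPullback.of_hasPullback _ _), range_map_yon]
      show _ ⁻¹' _ = _ ⁻¹' _
      congr 1
      rw [← Set.range_comp]
      exact congrArg Set.range (funext fun x => (ofPt_map κ x).symm)
    have hKc : IsCompact K := by
      rw [hK]
      haveI := compactSpace_of_qcSp (isQuasiCompactMor_of_pullback hsnd ((yon S).map κ))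
      exact isCompact_range (Points.continuous_map _)
    have hKo : IsOpen K := ((Points.schemeHomeo U).isOpenMap _
      (Sigma.ι O i).isOpenEmbedding.isOpen_range).preimage (Points.continuous_map _)
    obtain ⟨B, hBc, hBe⟩ := (isOpenMap_ofPt hc).exists_opens_image_eq_of_prespectralSpace
      (Points.continuous_ofPt c) (U := K) (fun z _ => surjective_ofPt hcs z) hKo hKc
    refine ⟨B, hBc, fun x hx => ?_, fun z hz => hBe.ge hz⟩
    obtain ⟨o, ho, hoe⟩ : Points.map (pullback.snd f p) (Points.ofPt c x) ∈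
        Points.ofScheme U '' Set.range (Sigma.ι O i) := hBe.le ⟨x, hx, rfl⟩
    rw [Points.map_ofPt, ← hw₀, ofPt_map] at hoe
    rwa [← (Points.schemeEquiv U).injective hoe]
  choose B hBc hBr hBs using hB
  haveI : ∀ i, CompactSpace (B i : Scheme.{u}) := fun i => isCompact_iff_compactSpace.mp (hBc i)
  have hlift : ∀ i, ∃ k : (B i : Scheme.{u}) ⟶ O i, k ≫ Sigma.ι O i = (B i).ι ≫ w₀.left := fun i =>
    ⟨IsOpenImmersion.lift (Sigma.ι O i) ((B i).ι ≫ w₀.left) (by
      rintro _ ⟨x, rfl⟩
      exact hBr i x.1 x.2), IsOpenImmersion.lift_fac _ _ _⟩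
  choose k hk using hlift
  let δ : (∐ fun i => (B i : Scheme.{u})) ⟶ W₀.left := Sigma.desc fun i => (B i).ι
  haveI : Etale δ := IsZariskiLocalAtSource.of_openCover (sigmaOpenCover fun i => (B i : Scheme.{u})) fun i => by
    show Etale (Sigma.ι (fun i => (B i : Scheme.{u})) i ≫ δ)
    rw [Sigma.ι_desc]; infer_instance
  let W : Over S := Over.mk (δ ≫ W₀.hom)
  let δ' : W ⟶ W₀ := Over.homMk δ rfl
  have hw : (δ' ≫ w₀).left = Sigma.desc fun i => k i ≫ Sigma.ι O i := by
    apply Sigma.hom_ext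
    intro i
    rw [Over.comp_left, Sigma.ι_desc, hk]
    exact (Sigma.ι_desc_assoc _ _ _)
  haveI : QuasiCompact (δ' ≫ w₀).left := hw ▸ quasiCompact_sigmaDesc k
  refine ⟨U, W, p, δ' ≫ w₀, inferInstance, hp, hps, ⟨(yon S).map δ' ≫ c, repWith_comp (repWith_map ‹Etale δ›) hc, ?_, ?_⟩,
    fun T a _ => SchKer.comap_ker_of_quasiCompact (δ' ≫ w₀).left a.left⟩
  · refine repWith_surjective_of_map (hP.representable_from_yon _) fun z => ?_
    obtain ⟨u, hu⟩ := (Points.schemeEquiv U).surjective (Points.map (pullback.snd f p) z)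
    obtain ⟨i, v, rfl⟩ := (sigmaOpenCover O).exists_eq u
    obtain ⟨x, hx, rfl⟩ := hBs i z ⟨_, ⟨v, rfl⟩, hu⟩
    refine ⟨Points.ofScheme W (Sigma.ι (fun i => (B i : Scheme.{u})) i ⟨x, hx⟩), ?_⟩
    rw [← Points.ofPt_eq_map_ofScheme, ofPt_comp]
    congr 1
    show δ (Sigma.ι (fun i => (B i : Scheme.{u})) i ⟨x, hx⟩) = x
    rw [← Scheme.Hom.comp_apply, Sigma.ι_desc]
    rfl
  · rw [Functor.map_comp, hw₀, Category.assoc]

end Groth.L23.Img
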