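import Groth.Agent.L23.IdealEtGlobal
import Groth.Agent.L23.SchImageQc

/-!
# Closed subspaces cut out by quasi-coherent ideal families
-/

universe u

open CategoryTheory CategoryTheory.Limits AlgebraicGeometry Opposite AlgSp TopologicalSpace

set_option autoImplicit false
set_option linter.style.haveILetI false
set_option backward.isDefEq.respectTransparency.types false

namespace Groth.L23.CutOut

variable {S : Scheme.{u}} {X Z : Sp S}

theorem comap_ker_qc {i : Z ⟶ X} (hi : RepWith @QuasiCompact i) {T T' : Over S} (g : T' ⟶ T) [Flat g.left]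
    {φ : (yon S).obj T ⟶ X} {φ' : (yon S).obj T' ⟶ X} (hg : (yon S).map g ≫ φ = φ') :
    (hi.1.snd φ).left.ker.comap g.left = (hi.1.snd φ').left.ker := by
  haveI : QuasiCompact (hi.1.snd φ).left := repWith_snd hi φ
  rw [SchKer.comap_ker_of_quasiCompact, comap_ker_snd_rep hi.1 g hg]

theorem idealOfRep_isQCoh {i : Z ⟶ X} (hi : RepWith @QuasiCompact i) : (idealOfRep hi.1).IsQCoh := by
  intro E E' g hE hE'
  haveI : QuasiCompact (hi.1.snd E.obj.hom).left := repWith_snd hi _
  haveI : QuasiCompact (hi.1.snd E'.obj.hom).left := repWith_snd hi _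
  haveI hge : Etale g.hom.left.left := prop_of_repWith_of_eq etLocal_etale E'.property E.property (EtOver.w g).symm
  haveI := hE
  haveI := hE'
  show RingHom.ker (hi.1.snd E'.obj.hom).left.appTop.hom ≤
    (RingHom.ker (hi.1.snd E.obj.hom).left.appTop.hom).map g.hom.left.left.appTop.hom
  rw [← top_ker, ← top_ker, ← top_comap, comap_ker_qc hi g.hom.left (EtOver.w g)]

theorem repWith_quasiCompact_of_closedImmersion {i : Z ⟶ X} (hi : RepWith @IsClosedImmersion i) :
    RepWith @QuasiCompact i :=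
  repWith_mono (Q := (@QuasiCompact : MorphismProperty Scheme.{u}))
    (fun f (_ : IsClosedImmersion f) => inferInstanceAs (QuasiCompact f)) hi

theorem exists_isCutOutBy (hX : IsAlgSpace X) {I : IdealEt X} (hI : I.IsQCoh) :
    ∃ (Z : Sp S) (_ : IsAlgSpace Z) (i : Z ⟶ X), IsCutOutBy I i := by
  obtain ⟨U, R, s, t, p, hp⟩ := exists_presentation hX
  have hpe := hp.etale
  let J := sheafData hpe I hI
  haveI : Etale s.left := hp.eqvRel.etale_left
  haveI : Etale t.left := hp.eqvRel.etale_right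
  have hinv : J.comap s.left = J.comap t.left := by
    let ι := {W : R.left.affineOpens // ∃ V₁ V₂ : U.left.affineOpens, W.1 ≤ s.left ⁻¹ᵁ V₁.1 ∧ W.1 ≤ t.left ⁻¹ᵁ V₂.1}
    haveI : ∀ W : ι, IsAffine (W.1.1 : Scheme.{u}) := fun W => W.1.2
    refine ext_of_comap (fun W : ι => W.1.1.ι) (fun r => ?_) fun W => ?_
    · obtain ⟨V₁, h₁, hr₁, -⟩ := exists_isAffineOpen_mem_and_subset (x := s.left r) (U := ⊤) trivial
      obtain ⟨V₂, h₂, hr₂, -⟩ := exists_isAffineOpen_mem_and_subset (x := t.left r) (U := ⊤) trivial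
      obtain ⟨W, hW, hrW, hsub⟩ := exists_isAffineOpen_mem_and_subset (x := r)
        (U := s.left ⁻¹ᵁ V₁ ⊓ t.left ⁻¹ᵁ V₂) ⟨hr₁, hr₂⟩
      exact ⟨⟨⟨W, hW⟩, ⟨V₁, h₁⟩, ⟨V₂, h₂⟩, fun x hx => (hsub hx).1, fun x hx => (hsub hx).2⟩, ⟨r, hrW⟩, rfl⟩
    · obtain ⟨⟨W, hW⟩, V₁, V₂, h₁, h₂⟩ := W
      let T : Over S := openPiece R W
      haveI : IsAffine T.left := hW
      have hφ : RepWith @Etale ((yon S).map (openPieceι W ≫ t) ≫ p) :=
        repWith_comp (repWith_map (show Etale (W.ι ≫ t.left) from inferInstance)) hpe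
      rw [← Scheme.IdealSheafData.comap_comp, ← Scheme.IdealSheafData.comap_comp]
      have e₁ := top_comap_sheafData hpe I hI (openPieceι W ≫ s) V₁
        (by rintro _ ⟨x, rfl⟩; exact h₁ x.2) hφ
        (by rw [Functor.map_comp, Functor.map_comp, Category.assoc, Category.assoc, hp.isPullback.w])
      have e₂ := top_comap_sheafData hpe I hI (openPieceι W ≫ t) V₂
        (by rintro _ ⟨x, rfl⟩; exact h₂ x.2) hφ rfl
      exact e₁.trans e₂.symm
  obtain ⟨Z, hZ, i, q, hi, sq⟩ := exists_subspace_of_ideal hX hp J hinv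
  refine ⟨Z, hZ, i, hi, ?_⟩
  have hiq := repWith_quasiCompact_of_closedImmersion hi
  have hK : (hi.1.snd p).left.ker = J := (ker_snd_eq hi.1 sq).trans (Scheme.IdealSheafData.ker_subschemeι J)
  apply IdealEt.ext
  funext E hE
  haveI := hE
  let T := E.obj.left
  let φ := E.obj.hom
  haveI : QuasiCompact (hi.1.snd φ).left := repWith_snd hiq φ
  show RingHom.ker (hi.1.snd φ).left.appTop.hom = I.ideal E hE
  rw [← top_ker]
  let JT := Scheme.IdealSheafData.ofIdealTop (I.ideal E hE)
  have hJT : top JT = I.ideal E hE := by simp [top, JT]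
  rw [← hJT]
  obtain ⟨P, a, b, sR⟩ := exists_isPullback_of_representable hpe.1 φ
  haveI : Etale a.left := repWith_prop E.property sR.flip
  haveI : Etale b.left := repWith_prop hpe sR
  haveI : Surjective b.left := repWith_prop hp.surjective sR
  congr 1
  rw [← map_comap_of_flat_surjective b.left (hi.1.snd φ).left.ker, ← map_comap_of_flat_surjective b.left JT]
  congr 1
  let ι := {W : P.left.affineOpens // ∃ V : U.left.affineOpens, W.1 ≤ a.left ⁻¹ᵁ V.1}
  haveI : ∀ W : ι, IsAffine (W.1.1 : Scheme.{u}) := fun W => W.1.2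
  refine ext_of_comap (fun W : ι => W.1.1.ι) (fun r => ?_) fun W => ?_
  · obtain ⟨V₁, h₁, hr₁, -⟩ := exists_isAffineOpen_mem_and_subset (x := a.left r) (U := ⊤) trivial
    obtain ⟨W, hW, hrW, hsub⟩ := exists_isAffineOpen_mem_and_subset (x := r) (U := a.left ⁻¹ᵁ V₁) hr₁
    exact ⟨⟨⟨W, hW⟩, ⟨V₁, h₁⟩, hsub⟩, ⟨r, hrW⟩, rfl⟩
  · obtain ⟨⟨W, hW⟩, V, hV⟩ := W
    let Q : Over S := openPiece P W
    haveI hQ : IsAffine Q.left := hW
    have hψ : RepWith @Etale ((yon S).map (openPieceι W ≫ b) ≫ φ) :=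
      repWith_comp (repWith_map (show Etale (W.ι ≫ b.left) from inferInstance)) E.property
    have hw : (yon S).map (openPieceι W ≫ a) ≫ p = (yon S).map (openPieceι W ≫ b) ≫ φ := by
      rw [Functor.map_comp, Functor.map_comp, Category.assoc, Category.assoc, sR.w]
    have e₁ := top_comap_sheafData hpe I hI (openPieceι W ≫ a) V (by rintro _ ⟨x, rfl⟩; exact hV x.2) hψ hw
    rw [← Scheme.IdealSheafData.comap_comp, ← Scheme.IdealSheafData.comap_comp]
    have k₁ : (hi.1.snd φ).left.ker.comap (openPieceι W ≫ b).left = J.comap (openPieceι W ≫ a).left := by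
      rw [comap_ker_snd hi (openPieceι W ≫ b) rfl, ← hK, comap_ker_snd hi (openPieceι W ≫ a) hw]
    change top ((hi.1.snd φ).left.ker.comap (openPieceι W ≫ b).left) = top (JT.comap (openPieceι W ≫ b).left)
    rw [k₁]
    refine e₁.trans ?_
    rw [top_comap, hJT]
    exact map_eq hI (EtOver.homMk (openPieceι W ≫ b) rfl : EtOver.mk _ hψ ⟶ E) hE hQ

/-- Comparison of closed subspaces through their ideals on an atlas. -/
theorem exists_factor_of_ker_le {Z' : Sp S} {i : Z ⟶ X} {i' : Z' ⟶ X} (hi : RepWith @IsClosedImmersion i)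
    (hi' : RepWith @IsClosedImmersion i') {U : Over S} {p : (yon S).obj U ⟶ X} (hp : RepWith @Etale p)
    (hps : RepWith @Surjective p) (h : (hi'.1.snd p).left.ker ≤ (hi.1.snd p).left.ker) :
    ∃ k : Z ⟶ Z', k ≫ i' = i := by
  haveI : IsClosedImmersion (hi'.1.snd p).left := repWith_snd hi' p
  let l : hi.1.pullback p ⟶ hi'.1.pullback p := Over.homMk
    (IsClosedImmersion.lift (hi'.1.snd p).left (hi.1.snd p).left h) (by
      rw [← Over.w (hi'.1.snd p), IsClosedImmersion.lift_fac_assoc, Over.w (hi.1.snd p)])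
  have hl : l ≫ hi'.1.snd p = hi.1.snd p := Over.OverMorphism.ext (IsClosedImmersion.lift_fac _ _ _)
  have sq := hi.1.isPullback p
  haveI := mono_of_closedImmersion hi'
  haveI := epi_of_repWith (hi.1.fst p) (repWith_of_isPullback sq.flip hp) (repWith_of_isPullback sq.flip hps)
  refine exists_factor_of_epi_of_mono (hi.1.fst p) i' i ((yon S).map l ≫ hi'.1.fst p) ?_
  rw [Category.assoc, (hi'.1.isPullback p).w, ← Functor.map_comp_assoc, hl, sq.w]

/-- For a quasi-compact representable morphism the image is the subspace cut out by the kernel family. -/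
theorem isSchImage_iff_isCutOutBy {F : Sp S} (hF : IsAlgSpace F) (hX : IsAlgSpace X) {f : F ⟶ X}
    (hf : Representable f) (hq : IsQuasiCompactMor f) (i : Z ⟶ X) :
    IsSchImage f i ↔ IsCutOutBy (idealOfRep hf) i := by
  obtain ⟨U, W, p, w, -, hG⟩ := Img.exists_isGood_of_isQuasiCompactMor hF hX f hq
  have hfq := repWith_quasiCompact_of_isQuasiCompactMor hf hq
  have hch : ∀ {T : Over S} (φ : (yon S).obj T ⟶ X), Img.IsChart f φ (hf.snd φ) := fun φ =>
    ⟨(hf.isPullback φ).isoPullback.hom, repWith_of_isIso _, repWith_of_isIso _,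
      (hf.isPullback φ).isoPullback_hom_snd.symm⟩
  constructor
  · intro h
    refine ⟨h.1, IdealEt.ext (funext fun E => funext fun hE => ?_)⟩
    haveI := hE
    haveI : QuasiCompact (h.1.1.snd E.obj.hom).left := repWith_snd (repWith_quasiCompact_of_closedImmersion h.1) _
    haveI : QuasiCompact (hf.snd E.obj.hom).left := repWith_snd hfq _
    show RingHom.ker (h.1.1.snd E.obj.hom).left.appTop.hom = RingHom.ker (hf.snd E.obj.hom).left.appTop.hom
    rw [← top_ker, ← top_ker, Img.ker_eq_of_isChart_of_isGood hX hG h E.property (hch E.obj.hom)]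
  · rintro ⟨hi, hI⟩
    obtain ⟨Z₀, -, i₀, h₀⟩ := exists_isSchImage hF hX f
    have hk₀ := Img.ker_eq_of_isChart_of_isGood hX hG h₀ hG.1 (hch p)
    have hk : (hi.1.snd p).left.ker = (hf.snd p).left.ker := by
      haveI : ∀ V : U.left.affineOpens, IsAffine (V.1 : Scheme.{u}) := fun V => V.2
      refine ext_of_comap (fun V : U.left.affineOpens => V.1.ι) (fun x => ?_) fun V => ?_
      · obtain ⟨V₁, h₁, hx₁, -⟩ := exists_isAffineOpen_mem_and_subset (x := x) (U := ⊤) trivial
        exact ⟨⟨V₁, h₁⟩, ⟨x, hx₁⟩, rfl⟩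
      · haveI : Etale (openPieceι V.1).left := inferInstanceAs (Etale V.1.ι)
        haveI := repWith_snd (repWith_quasiCompact_of_closedImmersion hi) ((yon S).map (openPieceι V.1) ≫ p)
        haveI := repWith_snd hfq ((yon S).map (openPieceι V.1) ≫ p)
        change top ((hi.1.snd p).left.ker.comap (openPieceι V.1).left) =
          top ((hf.snd p).left.ker.comap (openPieceι V.1).left)
        rw [comap_ker_snd hi (openPieceι V.1) rfl, comap_ker_qc hfq (openPieceι V.1) rfl, top_ker, top_ker]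
        exact congrArg (fun J : IdealEt X => J.ideal (pieceE hG.1 V.1) V.2) hI
    obtain ⟨l, hl⟩ := exists_factor_of_ker_le h₀.1 hi hG.1 hG.2.1 (by rw [hk, hk₀])
    obtain ⟨l', hl'⟩ := exists_factor_of_ker_le hi h₀.1 hG.1 hG.2.1 (by rw [hk, hk₀])
    obtain ⟨f', hf'⟩ := h₀.2.1
    refine ⟨hi, ⟨f' ≫ l, by rw [Category.assoc, hl, hf']⟩, fun Z' i' hZ' hi' hh => ?_⟩
    obtain ⟨k, hk'⟩ := h₀.2.2 i' hZ' hi' hh
    exact ⟨l' ≫ k, by rw [Category.assoc, hk', hl']⟩

/-- Factorisation through the closed subspace cut out by a family. -/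
theorem exists_factor_iff_le (hX : IsAlgSpace X) {i : Z ⟶ X} {I : IdealEt X} (hZ : IsCutOutBy I i) {T : Over S}
    (h : (yon S).obj T ⟶ X) (hh : Representable h) :
    (∃ k : (yon S).obj T ⟶ Z, k ≫ i = h) ↔ I ≤ idealOfRep hh := by
  obtain ⟨hi, rfl⟩ := hZ
  constructor
  · rintro ⟨k, hk⟩ E hE x hx
    let φ := E.obj.hom
    have hc : (hh.fst φ ≫ k) ≫ i = (yon S).map (hh.snd φ) ≫ φ := by rw [Category.assoc, hk, (hh.isPullback φ).w]
    have e := hi.1.lift_snd (hh.fst φ ≫ k) (hh.snd φ) hc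
    show (hh.snd φ).left.appTop.hom x = 0
    rw [← e, Over.comp_left, Scheme.Hom.comp_appTop, CommRingCat.hom_comp, RingHom.comp_apply,
      show (hi.1.snd φ).left.appTop.hom x = 0 from hx, map_zero]
  · intro hle
    obtain ⟨U, p, hp, hps⟩ := hX.atlas
    haveI : IsClosedImmersion (hi.1.snd p).left := repWith_snd hi p
    let w := hh.snd p
    have hker : (hi.1.snd p).left.ker ≤ w.left.ker := by
      refine Scheme.IdealSheafData.le_ofIdeals_iff.mpr fun V x hx => RingHom.mem_ker.2 ?_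
      haveI : IsAffine (V.1 : Scheme.{u}) := V.2
      let φ := (yon S).map (openPieceι V.1) ≫ p
      haveI := repWith_snd (repWith_quasiCompact_of_closedImmersion hi) φ
      have hle' : V.1.ι ''ᵁ ⊤ ≤ V.1 := by simp
      let y : Γ((V.1 : Scheme.{u}), ⊤) := U.left.presheaf.map (homOfLE hle').op x
      have hy : y ∈ (idealOfRep hi.1).ideal (pieceE hp V.1) V.2 := by
        show y ∈ RingHom.ker (hi.1.snd φ).left.appTop.hom
        rw [← top_ker, ← comap_ker_snd hi (openPieceι V.1) rfl]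
        show y ∈ top ((hi.1.snd p).left.ker.comap V.1.ι)
        simp only [top, Scheme.IdealSheafData.ideal_comap_of_isOpenImmersion]
        rw [Ideal.mem_comap, Scheme.Opens.ι_appIso]
        exact ((hi.1.snd p).left.ker.map_ideal (U := ⟨_, (isAffineOpen_top (V.1 : Scheme.{u})).image_of_isOpenImmersion V.1.ι⟩)
          (V := V) hle').le (Ideal.mem_map_of_mem _ hx)
      have hy' : (hh.snd φ).left.appTop.hom y = 0 := hle (pieceE hp V.1) V.2 hy
      let O := w.left ⁻¹ᵁ V.1
      let Q : Over S := openPiece (hh.pullback p) O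
      let r : Q ⟶ openPiece U V.1 := Over.homMk (w.left ∣_ V.1) (by
        show (w.left ∣_ V.1) ≫ V.1.ι ≫ U.hom = O.ι ≫ (hh.pullback p).hom
        rw [morphismRestrict_ι_assoc, Over.w w])
      have hc : ((yon S).map (openPieceι O) ≫ hh.fst p) ≫ h = (yon S).map r ≫ φ := by
        rw [Category.assoc, (hh.isPullback p).w, ← Functor.map_comp_assoc, ← Functor.map_comp_assoc]
        congr 2
        exact Over.OverMorphism.ext (morphismRestrict_ι w.left V.1).symm
      have e := hh.lift_snd ((yon S).map (openPieceι O) ≫ hh.fst p) r hc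
      have h0 : (w.left ∣_ V.1).appTop.hom y = 0 := by
        show r.left.appTop.hom y = 0
        rw [← e, Over.comp_left, Scheme.Hom.comp_appTop, CommRingCat.hom_comp, RingHom.comp_apply, hy', map_zero]
      have hO : O ≤ O.ι ''ᵁ ⊤ := by simp
      have key : (w.left.app V.1) ≫ (hh.pullback p).left.presheaf.map (homOfLE (show O.ι ''ᵁ ⊤ ≤ O by simp)).op =
          U.left.presheaf.map (homOfLE hle').op ≫ (w.left ∣_ V.1).appTop := by
        rw [← V.1.ι_appLE V.1 ⊤ (fun z _ => z.2), ← O.ι_appLE O ⊤ (fun z _ => z.2), Scheme.Hom.appTop,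
          Scheme.Hom.app_eq_appLE, Scheme.Hom.app_eq_appLE]
        refine (Scheme.Hom.appLE_comp_appLE _ _ _ _ _ _ _).trans
          (Eq.trans ?_ (Scheme.Hom.appLE_comp_appLE _ _ _ _ _ _ _).symm)
        have e2 : ∀ (f g : (O : Scheme.{u}) ⟶ U.left) (_ : f = g) (h₁ : ⊤ ≤ f ⁻¹ᵁ V.1) (h₂ : ⊤ ≤ g ⁻¹ᵁ V.1),
            f.appLE V.1 ⊤ h₁ = g.appLE V.1 ⊤ h₂ := by
          rintro f g rfl h₁ h₂; rfl
        exact e2 _ _ (morphismRestrict_ι w.left V.1).symm _ _
      have := congrArg (fun g => g.hom x) key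
      simp only [CommRingCat.hom_comp, RingHom.comp_apply] at this
      apply (ConcreteCategory.bijective_of_isIso
        ((hh.pullback p).left.presheaf.map (eqToHom (show O.ι ''ᵁ ⊤ = O by simp)).op)).1
      rw [map_zero]
      exact this.trans h0
    let l : hh.pullback p ⟶ hi.1.pullback p := Over.homMk
      (IsClosedImmersion.lift (hi.1.snd p).left w.left hker) (by
        rw [← Over.w (hi.1.snd p), IsClosedImmersion.lift_fac_assoc, Over.w w])
    have hl : l ≫ hi.1.snd p = w := Over.OverMorphism.ext (IsClosedImmersion.lift_fac _ _ _)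
    haveI := mono_of_closedImmersion hi
    have sqh := hh.isPullback p
    haveI := epi_of_repWith (hh.fst p) (repWith_of_isPullback sqh.flip hp) (repWith_of_isPullback sqh.flip hps)
    refine exists_factor_of_epi_of_mono (hh.fst p) i h ((yon S).map l ≫ hi.1.fst p) ?_
    rw [Category.assoc, (hi.1.isPullback p).w, ← Functor.map_comp_assoc, hl, sqh.w]

end Groth.L23.CutOut
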