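import Groth.Agent.L23.EffCartierBC
import Groth.Agent.L23.CutOutApps
import Groth.Agent.L22.BlowUp

/-!
# Effective Cartier divisors on algebraic spaces
-/

universe u

open CategoryTheory CategoryTheory.Limits AlgebraicGeometry Opposite AlgSp TopologicalSpace

set_option autoImplicit false
set_option linter.style.haveILetI false
set_option backward.isDefEq.respectTransparency.types false

namespace Groth.L23.EffCart

variable {S : Scheme.{u}} {X Y D : Sp S}

/-- The pullback of a closed immersion to a chart as a subscheme. -/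
theorem exists_isPullback_subscheme {i : D ⟶ X} (hi : RepWith @IsClosedImmersion i) {T : Over S}
    (φ : (yon S).obj T ⟶ X) : ∃ fst, IsPullback fst ((yon S).map
      (Over.homMk (hi.1.snd φ).left.ker.subschemeι rfl :
        Over.mk ((hi.1.snd φ).left.ker.subschemeι ≫ T.hom) ⟶ T)) i φ := by
  haveI : IsClosedImmersion (hi.1.snd φ).left := repWith_snd hi φ
  let e : hi.1.pullback φ ≅ Over.mk ((hi.1.snd φ).left.ker.subschemeι ≫ T.hom) :=
    Over.isoMk (asIso (hi.1.snd φ).left.toImage) (by
      show (hi.1.snd φ).left.toImage ≫ (hi.1.snd φ).left.ker.subschemeι ≫ T.hom = _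
      rw [← Over.w (hi.1.snd φ)]
      exact Scheme.Hom.toImage_imageι_assoc _ _)
  have he : e.hom ≫ (Over.homMk (hi.1.snd φ).left.ker.subschemeι rfl :
      Over.mk ((hi.1.snd φ).left.ker.subschemeι ≫ T.hom) ⟶ T) = hi.1.snd φ :=
    Over.OverMorphism.ext (hi.1.snd φ).left.toImage_imageι
  refine ⟨(yon S).map e.inv ≫ hi.1.fst φ, (hi.1.isPullback φ).of_iso ((yon S).mapIso e) (Iso.refl _) (Iso.refl _)
    (Iso.refl _) (by rw [Iso.refl_hom, Category.comp_id, Functor.mapIso_hom, ← Functor.map_comp_assoc, e.hom_inv_id,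
      CategoryTheory.Functor.map_id, Category.id_comp])
    (by rw [Iso.refl_hom, Category.comp_id, Functor.mapIso_hom, ← Functor.map_comp, he]) (by simp) (by simp)⟩

theorem isEffCartierSub_of_ker {i : D ⟶ X} (hi : RepWith @IsClosedImmersion i) {V : Over S}
    {φ : (yon S).obj V ⟶ X} (hφ : RepWith @Etale φ) (hs : RepWith @Surjective φ)
    (h : BlowUp.IsEffCartierIdeal (hi.1.snd φ).left.ker) : IsEffCartierSub i := by
  obtain ⟨fst, sq⟩ := exists_isPullback_subscheme hi φ
  exact ⟨hi, V, φ, _, fst, hφ, hs, sq, h⟩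

theorem ker_eq_of_subscheme {i : D ⟶ X} (hi : RepWith @IsClosedImmersion i) {V : Over S}
    {φ : (yon S).obj V ⟶ X} {I : V.left.IdealSheafData} {fst : (yon S).obj (Over.mk (I.subschemeι ≫ V.hom)) ⟶ D}
    (sq : IsPullback fst ((yon S).map (Over.homMk I.subschemeι rfl : Over.mk (I.subschemeι ≫ V.hom) ⟶ V)) i φ) :
    (hi.1.snd φ).left.ker = I :=
  (CutOut.ker_snd_eq hi.1 sq).trans (Scheme.IdealSheafData.ker_subschemeι I)

theorem isEffCartier_ker {i : D ⟶ X} (h : IsEffCartierSub i) {T : Over S} {φ : (yon S).obj T ⟶ X}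
    (hφ : RepWith @Etale φ) : BlowUp.IsEffCartierIdeal (h.1.1.snd φ).left.ker := by
  obtain ⟨hi, V, φ₀, I, fst, h₀, h₀s, sq, hI⟩ := h
  obtain ⟨R, a, b, sR⟩ := exists_isPullback_of_representable h₀.1 φ
  haveI : Etale a.left := repWith_prop hφ sR.flip
  haveI : Etale b.left := repWith_prop h₀ sR
  haveI : Surjective b.left := repWith_prop h₀s sR
  refine isEffCartier_of_comap b.left ?_
  rw [comap_ker_snd hi b rfl, ← comap_ker_snd hi a sR.w, ker_eq_of_subscheme hi sq]
  exact Groth.L22.Ideals.isEffCartier_comap_of_flat a.left hI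

theorem isEffCartierSub_iff_forall {i : D ⟶ X} (hX : IsAlgSpace X) (hi : RepWith @IsClosedImmersion i) :
    IsEffCartierSub i ↔ ∀ (U : Over S) (φ : (yon S).obj U ⟶ X), RepWith @Etale φ →
      ∀ (I : U.left.IdealSheafData) (fst : (yon S).obj (Over.mk (I.subschemeι ≫ U.hom)) ⟶ D),
        IsPullback fst ((yon S).map (Over.homMk I.subschemeι rfl : Over.mk (I.subschemeι ≫ U.hom) ⟶ U)) i φ →
          BlowUp.IsEffCartierIdeal I := by
  constructor
  · intro h U φ hφ I fst sq
    rw [← ker_eq_of_subscheme hi sq]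
    exact isEffCartier_ker h hφ
  · intro h
    obtain ⟨V, φ, hφ, hs⟩ := hX.atlas
    obtain ⟨fst, sq⟩ := exists_isPullback_subscheme hi φ
    exact ⟨hi, V, φ, _, fst, hφ, hs, sq, h V φ hφ _ fst sq⟩

theorem isEffCartierSub_preimage_of_flat (hY : IsAlgSpace Y) (hX : IsAlgSpace X) {f : X ⟶ Y} (hf : LocP @Flat f)
    {i : D ⟶ Y} (hD : IsEffCartierSub i) {P : Sp S} {fst : P ⟶ D} {snd : P ⟶ X} (sq : IsPullback fst snd i f) :
    IsEffCartierSub snd := by
  obtain ⟨U, p, hp, hps⟩ := hY.atlas
  obtain ⟨T, a, k, ha, hw, has⟩ := exists_chart_over hX hY f hp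
  haveI : Flat k.left := hf a p k ha hp hw
  have hsnd : RepWith @IsClosedImmersion snd := repWith_of_isPullback sq hD.1
  refine isEffCartierSub_of_ker hsnd ha (has hps) ?_
  rw [← CutOut.ker_snd_eq hD.1.1 ((hsnd.1.isPullback a).paste_horiz sq), ← comap_ker_snd hD.1 k hw.symm]
  exact Groth.L22.Ideals.isEffCartier_comap_of_flat k.left (isEffCartier_ker hD hp)

theorem isEffCartierSub_baseChange {Y' X' D' : Sp S} (hY : IsAlgSpace Y) (hX : IsAlgSpace X) (hY' : IsAlgSpace Y')
    (hD₀ : IsAlgSpace D)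
    {f : X ⟶ Y} {i : D ⟶ X} (hD : IsEffCartierSub i) (hflat : LocP @Flat (i ≫ f))
    {g : Y' ⟶ Y} {g' : X' ⟶ X} {f' : X' ⟶ Y'} (hX' : IsPullback g' f' f g)
    {k : D' ⟶ D} {i' : D' ⟶ X'} (hD' : IsPullback k i' i g') : IsEffCartierSub i' := by
  obtain ⟨V, b, hb, hbs⟩ := hY.atlas
  obtain ⟨T, a, q, ha, hw, has⟩ := exists_chart_over hX hY f hb
  have sE := IsPullback.of_hasPullback g' a
  have sQ := IsPullback.of_hasPullback g b
  have hE : RepWith @Etale (pullback.fst g' a) := repWith_of_isPullback sE.flip ha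
  have hEs : RepWith @Surjective (pullback.fst g' a) := repWith_of_isPullback sE.flip (has hbs)
  have hQ : IsAlgSpace (pullback g b) := isAlgSpace_of_isPullback hY.diag hY' (IsAlgSpace.yon_obj V) sQ
  obtain ⟨V', c, hc, hcs⟩ := hQ.atlas
  let l : pullback g' a ⟶ pullback g b := pullback.lift (pullback.fst g' a ≫ f') (pullback.snd g' a ≫ (yon S).map q)
    (by rw [Category.assoc, ← hX'.w, reassoc_of% pullback.condition, hw, Category.assoc])
  have sl : IsPullback l (pullback.snd g' a) (pullback.snd g b) ((yon S).map q) := by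
    refine IsPullback.of_right ?_ (pullback.lift_snd _ _ _) sQ
    rw [pullback.lift_fst, ← hw]
    exact (sE.flip.paste_vert hX').flip
  obtain ⟨m, hm⟩ := (yon S).map_surjective (c ≫ pullback.snd g b)
  let P : Over S := Over.mk (pullback.fst q.left m.left ≫ T.hom)
  let u : P ⟶ T := Over.homMk (pullback.fst q.left m.left) rfl
  let v : P ⟶ V' := Over.homMk (pullback.snd q.left m.left) (by
    show pullback.snd q.left m.left ≫ V'.hom = pullback.fst q.left m.left ≫ T.hom
    rw [← Over.w m, ← Over.w q, reassoc_of% pullback.condition])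
  have hP : IsPullback u v q m := isPullback_over (IsPullback.of_hasPullback _ _)
  have sP := (hP.map (yon S)).flip
  let d := sl.lift ((yon S).map v ≫ c) ((yon S).map u) (by rw [Category.assoc, ← hm, sP.w])
  have sd : IsPullback ((yon S).map v) d c l := by
    refine IsPullback.of_bot ?_ (sl.lift_fst _ _ _).symm sl
    rw [sl.lift_snd, ← hm]
    exact sP
  let ψ := d ≫ pullback.fst g' a
  have hψ : RepWith @Etale ψ := repWith_comp (repWith_of_isPullback sd hc) hE
  have hψs : RepWith @Surjective ψ := repWith_comp (repWith_of_isPullback sd hcs) hEs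
  have hψg : (yon S).map u ≫ a = ψ ≫ g' := by
    show _ = (d ≫ _) ≫ g'
    rw [Category.assoc, pullback.condition, ← Category.assoc]
    exact congrArg (· ≫ a) (sl.lift_snd _ _ _).symm
  have hi' : RepWith @IsClosedImmersion i' := repWith_of_isPullback hD' hD.1
  refine isEffCartierSub_of_ker hi' hψ hψs ?_
  rw [← CutOut.ker_snd_eq hD.1.1 ((hi'.1.isPullback ψ).paste_horiz hD'), ← comap_ker_snd hD.1 u hψg]
  haveI : IsClosedImmersion (hD.1.1.snd a).left := repWith_snd hD.1 a
  have hflat' : Flat ((hD.1.1.snd a).left ≫ q.left) := by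
    rw [← Over.comp_left]
    refine hflat (hD.1.1.fst a) b (hD.1.1.snd a ≫ q)
      (repWith_of_isPullback (hD.1.1.isPullback a).flip ha) hb ?_
    rw [← Category.assoc, (hD.1.1.isPullback a).w, Category.assoc, hw, Functor.map_comp, Category.assoc]
  haveI : Flat ((hD.1.1.snd a).left.ker.subschemeι ≫ q.left) := by
    have e : (hD.1.1.snd a).left.ker.subschemeι = inv (hD.1.1.snd a).left.toImage ≫ (hD.1.1.snd a).left := by
      rw [IsIso.eq_inv_comp]; exact (hD.1.1.snd a).left.toImage_imageι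
    rw [e, Category.assoc]
    infer_instance
  exact isEffCartier_comap_pullback (IsPullback.of_hasPullback q.left m.left) (isEffCartier_ker hD ha)

/-- The pointwise affine criterion. -/
theorem isEffCartierSub_iff_pointwise {i : D ⟶ X} (hX : IsAlgSpace X) (hi : RepWith @IsClosedImmersion i) :
    IsEffCartierSub i ↔ ∀ x : Points D,
      ∃ (U : Over S) (_ : IsAffine U.left) (a : (yon S).obj U ⟶ X) (u : ↥U.left) (f : Γ(U.left, ⊤))
        (I : U.left.IdealSheafData) (fst : (yon S).obj (Over.mk (I.subschemeι ≫ U.hom)) ⟶ D),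
        RepWith @Etale a ∧ Points.ofPt a u = Points.map i x ∧ f ∈ nonZeroDivisors Γ(U.left, ⊤) ∧
          I.ideal ⟨⊤, isAffineOpen_top U.left⟩ = Ideal.span {f} ∧
          IsPullback fst ((yon S).map (Over.homMk I.subschemeι rfl : Over.mk (I.subschemeι ≫ U.hom) ⟶ U)) i a := by
  constructor
  · intro h x
    obtain ⟨V, p, hp, hps⟩ := hX.atlas
    obtain ⟨v, hv⟩ := surjective_ofPt hps (Points.map i x)
    obtain ⟨W, hvW, f, hf, hW⟩ := isEffCartier_ker h hp v
    let U : Over S := CutOut.openPiece V W.1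
    haveI hU : IsAffine U.left := W.2
    let a := (yon S).map (CutOut.openPieceι W.1) ≫ p
    obtain ⟨fst, sq⟩ := exists_isPullback_subscheme h.1 a
    refine ⟨U, hU, a, ⟨v, hvW⟩, W.1.topIso.inv.hom f, _, fst,
      repWith_comp (repWith_etale_openMk W.1) hp, (ofPt_openMk W.1 p ⟨v, hvW⟩).trans hv, ?_, ?_, sq⟩
    · rw [mem_nonZeroDivisors_iff_right]
      intro y hy
      let e := W.1.topIso.commRingCatIsoToRingEquiv
      refine e.map_eq_zero_iff.1 ((mem_nonZeroDivisors_iff_right.1 hf) _ ?_)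
      have h1 := congrArg e hy
      rwa [map_mul, map_zero, show e (W.1.topIso.inv.hom f) = f from e.apply_symm_apply f] at h1
    · show CutOut.top (h.1.1.snd a).left.ker = _
      rw [← comap_ker_snd h.1 (CutOut.openPieceι W.1) rfl]
      show ((h.1.1.snd p).left.ker.comap W.1.ι).ideal ⟨⊤, _⟩ = _
      rw [Groth.L22.Ideals.comap_ideal_ι, hW, Ideal.map_span, Set.image_singleton]
      rfl
  · intro h
    obtain ⟨V, p, hp, hps⟩ := hX.atlas
    refine isEffCartierSub_of_ker hi hp hps (Groth.L13.BU.isEffCartier_of_cover fun v => ?_)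
    let K := (hi.1.snd p).left.ker
    haveI : IsClosedImmersion (hi.1.snd p).left := repWith_snd hi p
    by_cases hv : v ∈ K.support
    · obtain ⟨z, hz⟩ : v ∈ Set.range (hi.1.snd p).left := by
        rw [← (hi.1.snd p).left.isClosedEmbedding.isClosed_range.closure_eq, ← Scheme.Hom.support_ker]
        exact hv
      obtain ⟨U, hU, a, u, f, I, fst, ha, hu, hf, hI, sq⟩ := h (Points.ofPt (hi.1.fst p) z)
      obtain ⟨R, c, d, sR⟩ := exists_isPullback_of_representable ha.1 p
      haveI : Etale c.left := repWith_prop hp sR.flip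
      haveI : Etale d.left := repWith_prop ha sR
      let O : V.left.Opens := ⟨_, d.left.isOpenMap.isOpen_range⟩
      have hvO : v ∈ O := by
        rw [map_ofPt_of_isPullback (hi.1.isPullback p), hz] at hu
        obtain ⟨r, -, hr⟩ := (ofPt_eq_ofPt_iff sR u v).1 hu
        exact ⟨r, hr⟩
      refine ⟨O, O.ι, inferInstance, ⟨⟨v, hvO⟩, rfl⟩, ?_⟩
      let d' := IsOpenImmersion.lift O.ι d.left (by rw [Scheme.Opens.range_ι]; rfl)
      have hd' : d' ≫ O.ι = d.left := IsOpenImmersion.lift_fac _ _ _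
      haveI : Surjective d' := ⟨fun o => by
        obtain ⟨r, hr⟩ := o.2
        exact ⟨r, O.ι.isOpenEmbedding.injective (by rw [← Scheme.Hom.comp_apply, hd']; exact hr)⟩⟩
      haveI : Etale d' := by
        have : Etale (d' ≫ O.ι) := by rw [hd']; infer_instance
        exact Etale.of_comp d' O.ι
      refine isEffCartier_of_comap d' ?_
      rw [← Scheme.IdealSheafData.comap_comp, hd', comap_ker_snd hi d rfl, ← comap_ker_snd hi c sR.w,
        ker_eq_of_subscheme hi sq]
      refine Groth.L22.Ideals.isEffCartier_comap_of_flat c.left fun w => ?_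
      exact ⟨⟨⊤, isAffineOpen_top U.left⟩, trivial, f, hf, hI⟩
    · let C : V.left.Opens := K.support.compl
      refine ⟨_, C.ι, inferInstance, ⟨⟨v, hv⟩, rfl⟩, ?_⟩
      rw [Groth.L22.Ideals.comap_eq_top _ C.ι fun y => y.2]
      exact Groth.L22.Ideals.isEffCartier_top

end Groth.L23.EffCart
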