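import Groth.Prelude.Def_AlgSpCov
import Groth.Prelude.Def_AlgSpEt
import Groth.Agent.L23.Points
import Groth.Agent.L23.AlgSpace
import Mathlib.CategoryTheory.Limits.Shapes.WidePullbacks
import Mathlib.AlgebraicGeometry.Morphisms.Separated

/-!
# Descending properties along fppf coverings by iterated fibre products
-/

universe u w v

open CategoryTheory CategoryTheory.Limits AlgebraicGeometry AlgSp Opposite

set_option autoImplicit false
set_option linter.style.haveILetI false
set_option backward.isDefEq.respectTransparency false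
set_option backward.isDefEq.respectTransparency.types false

noncomputable section

namespace Groth.L23.CechDesc

section Wide

variable {C : Type w} [Category.{v} C] [HasPullbacks C] [∀ n : ℕ, HasLimitsOfShape (WidePullbackShape (Fin n)) C]
  {U : C} (Q : ∀ ⦃W : C⦄, (W ⟶ U) → Prop)

/-- A class of maps stable by binary fibre products contains the iterated fibre products of its members. -/
theorem prop_base (hiso : ∀ ⦃W W' : C⦄ (e : W ≅ W') (b : W' ⟶ U), Q b → Q (e.hom ≫ b))
    (hmul : ∀ ⦃W W' : C⦄ (b : W ⟶ U) (b' : W' ⟶ U), Q b → Q b' → Q (pullback.fst b b' ≫ b)) :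
    ∀ (n : ℕ) (Y : Fin (n + 1) → C) (f : ∀ k, Y k ⟶ U), (∀ k, Q (f k)) → Q (WidePullback.base f) := by
  intro n
  induction n with
  | zero =>
    intro Y f hf
    have hk : ∀ k : Fin 1, k = 0 := fun k => Subsingleton.elim k 0
    have w : ∀ k : Fin 1, eqToHom (congrArg Y (hk k).symm) ≫ f k = f 0 := fun k => by
      obtain rfl := hk k
      simp
    let e : widePullback U Y f ≅ Y 0 :=
      { hom := WidePullback.π f 0
        inv := WidePullback.lift (f 0) (fun k => eqToHom (congrArg Y (hk k).symm)) w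
        hom_inv_id := by
          refine WidePullback.hom_ext _ _ _ (fun k => ?_) ?_
          · obtain rfl := hk k
            simp
          · simp
        inv_hom_id := by simp }
    rw [← WidePullback.π_arrow f 0]
    exact hiso e (f 0) (hf 0)
  | succ n ih =>
    intro Y f hf
    let f' : ∀ k : Fin (n + 1), Y k.succ ⟶ U := fun k => f k.succ
    let b := WidePullback.base f'
    let a : widePullback U Y f ⟶ pullback (f 0) b :=
      pullback.lift (WidePullback.π f 0)
        (WidePullback.lift (WidePullback.base f) (fun k => WidePullback.π f k.succ) fun k => WidePullback.π_arrow f k.succ)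
        (by rw [WidePullback.lift_base, WidePullback.π_arrow])
    let a' : pullback (f 0) b ⟶ widePullback U Y f :=
      WidePullback.lift (pullback.fst (f 0) b ≫ f 0)
        (Fin.cases (pullback.fst (f 0) b) fun k => pullback.snd (f 0) b ≫ WidePullback.π f' k)
        (Fin.cases (by simp) fun k => by
          simp only [Fin.cases_succ, Category.assoc]
          rw [show WidePullback.π f' k ≫ f k.succ = b from WidePullback.π_arrow f' k, pullback.condition])
    let e : widePullback U Y f ≅ pullback (f 0) b :=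
      { hom := a
        inv := a'
        hom_inv_id := by
          refine WidePullback.hom_ext _ _ _ (fun k => ?_) ?_
          · refine Fin.cases ?_ (fun k => ?_) k
            · simp [a, a']
            · simp [a, a']
          · simp [a, a']
        inv_hom_id := by
          refine pullback.hom_ext ?_ (WidePullback.hom_ext _ _ _ (fun k => ?_) ?_)
          · simp [a, a']
          · simp [a, a']
          · simp [a, a', b]
            exact pullback.condition }
    have h : WidePullback.base f = e.hom ≫ pullback.fst (f 0) b ≫ f 0 := by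
      show _ = a ≫ _
      simp [a]
    rw [h]
    exact hiso e _ (hmul _ _ (hf 0) (ih _ f' fun k => hf k.succ))

end Wide

variable {S : Scheme.{u}} {X : Sp S}

theorem locP_of_repWith {Q : MorphismProperty Scheme.{u}} (hQ : ∀ {A B : Scheme.{u}} (g : A ⟶ B), Etale g → Q g)
    {F G : Sp S} (g : F ⟶ G) (hg : RepWith @Etale g) : LocP Q g := by
  intro A B a b h ha hb e
  let E : EtOver G := EtOver.mk (a ≫ g) ((repWith_isMultiplicative (S := S) @Etale).comp_mem _ _ ha hg)
  let E' : EtOver G := EtOver.mk b hb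
  exact hQ _ (EtOver.etale_left (EtOver.homMk (E := E) (E' := E') h e.symm))

theorem locP_comp {Q : MorphismProperty Scheme.{u}} {F G H : Sp S} (g : F ⟶ G) (hg : RepWith @Etale g)
    (a : G ⟶ H) (ha : LocP Q a) : LocP Q (g ≫ a) := fun A B a' b h ha' hb e =>
  ha (a' ≫ g) b h ((repWith_isMultiplicative (S := S) @Etale).comp_mem _ _ ha' hg) hb
    ((Category.assoc _ _ _).trans e)

theorem repWith_iso_comp {F F' G : Sp S} (e : F ≅ F') (g : F' ⟶ G) (hg : RepWith @Etale g) :
    RepWith @Etale (e.hom ≫ g) :=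
  (MorphismProperty.cancel_left_of_respectsIso (RepWith (S := S) @Etale) e.hom g).2 hg

variable (P : ∀ ⦃U : Sp S⦄, (U ⟶ X) → Prop)
  (hP : ∀ ⦃U : Sp S⦄ (a : U ⟶ X), IsAlgSpace U →
      ∀ ⦃ι : Type u⦄ (Ui : ι → Sp S) (g : ∀ i, Ui i ⟶ U), (∀ i, IsAlgSpace (Ui i)) →
      IsFppfCover Ui g →
      (∀ (n : ℕ) (c : Fin (n + 1) → ι),
        P (WidePullback.base (fun k : Fin (n + 1) => g (c k)) ≫ a)) → P a)

/-- The class of etale maps from schemes with a property. -/
def Cls (U : Sp S) (Q : ∀ T : Over S, ((yon S).obj T ⟶ U) → Prop) : ∀ ⦃W : Sp S⦄, (W ⟶ U) → Prop :=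
  fun W b => ∃ (T : Over S) (e : W ≅ (yon S).obj T), Q T (e.inv ≫ b)

include hP in
/-- The general step. -/
theorem of_cover {U : Sp S} (hU : IsAlgSpace U) (a : U ⟶ X) {ι : Type u} (T : ι → Over S)
    (g : ∀ i, (yon S).obj (T i) ⟶ U) (hsurj : ∀ x : Points U, ∃ i, x ∈ Set.range (Points.map (g i)))
    (Q : ∀ T : Over S, ((yon S).obj T ⟶ U) → Prop) (hg : ∀ i, Q (T i) (g i))
    (hQE : ∀ T b, Q T b → RepWith @Etale b)
    (hmul : ∀ T₁ T₂ b₁ b₂, Q T₁ b₁ → Q T₂ b₂ → ∃ (T₃ : Over S) (k₁ : (yon S).obj T₃ ⟶ (yon S).obj T₁)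
      (k₂ : (yon S).obj T₃ ⟶ (yon S).obj T₂), IsPullback k₁ k₂ b₁ b₂ ∧ Q T₃ (k₁ ≫ b₁))
    (hQP : ∀ (T' : Over S) (W : Sp S) (e : W ≅ (yon S).obj T') (b : (yon S).obj T' ⟶ U), Q T' b →
      P ((e.hom ≫ b) ≫ a)) : P a := by
  refine hP a hU (fun i => (yon S).obj (T i)) g (fun i => IsAlgSpace.yon_obj _)
    ⟨fun i => ⟨locP_of_repWith (fun g h => inferInstanceAs (Flat g)) _ (hQE _ _ (hg i)),
      locP_of_repWith (fun g h => inferInstanceAs (LocallyOfFinitePresentation g)) _ (hQE _ _ (hg i))⟩, hsurj⟩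
    fun n c => ?_
  have key := prop_base (Cls U Q)
    (fun W W' e b => by
      rintro ⟨T', e', h⟩
      exact ⟨T', e ≪≫ e', by simpa using h⟩)
    (fun W W' b b' => by
      rintro ⟨T₁, e₁, h₁⟩ ⟨T₂, e₂, h₂⟩
      obtain ⟨T₃, k₁, k₂, hk, h₃⟩ := hmul _ _ _ _ h₁ h₂
      have sq : IsPullback (k₁ ≫ e₁.inv) (k₂ ≫ e₂.inv) b b' :=
        hk.of_iso (Iso.refl _) e₁.symm e₂.symm (Iso.refl _) (by simp) (by simp) (by simp) (by simp)
      refine ⟨T₃, sq.isoPullback.symm, ?_⟩
      show Q T₃ (sq.isoPullback.hom ≫ pullback.fst b b' ≫ b)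
      rw [IsPullback.isoPullback_hom_fst_assoc, Category.assoc]
      exact h₃)
    n (fun k => (yon S).obj (T (c k))) (fun k => g (c k))
    (fun k => ⟨T (c k), Iso.refl _, by simpa using hg (c k)⟩)
  obtain ⟨T', e, h⟩ := key
  have := hQP T' _ e _ h
  rwa [Iso.hom_inv_id_assoc] at this

theorem range_open {U : Sp S} {T : Over S} (e : U ≅ (yon S).obj T) (x : Points U) :
    ∃ V : T.left.Opens, IsAffineOpen V ∧
      x ∈ Set.range (Points.map ((yon S).map (Over.homMk V.ι rfl : Over.mk (V.ι ≫ T.hom) ⟶ T) ≫ e.inv)) := by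
  obtain ⟨t, ht⟩ := (Points.schemeHomeo T).surjective (Points.map e.hom x)
  obtain ⟨_, ⟨(V : T.left.Opens), hV, rfl⟩, htV, -⟩ :=
    T.left.isBasis_affineOpens.exists_subset_of_mem_open (Set.mem_univ t) isOpen_univ
  refine ⟨V, hV, Points.ofPt (𝟙 _) (⟨t, htV⟩ : V), ?_⟩
  have h1 : Points.ofPt ((yon S).map (Over.homMk V.ι rfl : Over.mk (V.ι ≫ T.hom) ⟶ T)) (⟨t, htV⟩ : V) =
      Points.schemeHomeo T t := by
    exact (Points.ofScheme_toScheme T _).symm.trans (congrArg (Points.ofScheme T)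
      (Points.toScheme_ofPt (Over.homMk V.ι rfl : Over.mk (V.ι ≫ T.hom) ⟶ T) (⟨t, htV⟩ : V)))
  rw [Points.map_ofPt, Category.id_comp, ← Points.map_ofPt _ e.inv, h1, ht, ← Points.map_comp, e.hom_inv_id]
  induction x using Points.ind
  rfl

/-- The class of open subschemes. -/
def OpenCls {U : Sp S} {T : Over S} (e : U ≅ (yon S).obj T) (R : Scheme.{u} → Prop) (T' : Over S)
    (b : (yon S).obj T' ⟶ U) : Prop :=
  ∃ k : T' ⟶ T, IsOpenImmersion k.left ∧ R T'.left ∧ b = (yon S).map k ≫ e.inv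

include hP in
theorem of_scheme_step {U : Sp S} {T : Over S} (e : U ≅ (yon S).obj T) (a : U ⟶ X)
    (ha : LocP @Flat a ∧ LocP @LocallyOfFinitePresentation a) (R : Scheme.{u} → Prop) (haff : ∀ A, IsAffine A → R A)
    (hR : ∀ {T₁ T₂ : Over S} (k₁ : T₁ ⟶ T) (k₂ : T₂ ⟶ T), IsOpenImmersion k₁.left → IsOpenImmersion k₂.left →
      R T₁.left → R T₂.left → R (pullback k₁ k₂).left)
    (hstep : ∀ {W : Sp S} {T' : Over S} (_ : W ≅ (yon S).obj T') (a' : W ⟶ X), R T'.left →
      LocP @Flat a' → LocP @LocallyOfFinitePresentation a' → P a') : P a := by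
  have hE : ∀ T' b, OpenCls e R T' b → RepWith @Etale b := by
    rintro T' b ⟨k, hk, -, rfl⟩
    haveI := hk
    refine (repWith_isMultiplicative (S := S) @Etale).comp_mem _ _
      ((repWith_yon_map_iff _ _).2 inferInstance) ?_
    rw [← Category.comp_id e.inv]
    exact repWith_iso_comp e.symm (𝟙 U) ((repWith_isMultiplicative (S := S) @Etale).id_mem U)
  refine of_cover P hP ((IsAlgSpace.yon_obj T).of_iso e.symm) a
    (ι := {V : T.left.Opens // IsAffineOpen V}) (fun V => Over.mk (V.1.ι ≫ T.hom))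
    (fun V => (yon S).map (Over.homMk V.1.ι rfl : Over.mk (V.1.ι ≫ T.hom) ⟶ T) ≫ e.inv)
    (fun x => ?_) (OpenCls e R) (fun V => ⟨Over.homMk V.1.ι rfl, inferInstanceAs (IsOpenImmersion V.1.ι), haff _ V.2, rfl⟩)
    hE ?_ ?_
  · obtain ⟨V, hV, h⟩ := range_open e x
    exact ⟨⟨V, hV⟩, h⟩
  · rintro T₁ T₂ b₁ b₂ ⟨k₁, hk₁, hR₁, rfl⟩ ⟨k₂, hk₂, hR₂, rfl⟩
    have sq := ((IsPullback.of_hasPullback k₁ k₂).map (Over.forget S))
    refine ⟨pullback k₁ k₂, (yon S).map (pullback.fst k₁ k₂), (yon S).map (pullback.snd k₁ k₂),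
      ((IsPullback.of_hasPullback k₁ k₂).map (yon S)).of_iso (Iso.refl _) (Iso.refl _) (Iso.refl _) e.symm
        (by simp) (by simp) (by simp) (by simp), pullback.fst k₁ k₂ ≫ k₁, ?_, hR k₁ k₂ hk₁ hk₂ hR₁ hR₂, ?_⟩
    · haveI := hk₁
      haveI : IsOpenImmersion (pullback.fst k₁ k₂).left := MorphismProperty.of_isPullback sq.flip hk₂
      rw [Over.comp_left]
      infer_instance
    · rw [Functor.map_comp, Category.assoc]
  · intro T' W e' b hb
    have hb' := repWith_iso_comp e' b (hE _ _ hb)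
    obtain ⟨k, hk, hR', rfl⟩ := hb
    exact hstep e' _ hR' (locP_comp _ hb' a ha.1) (locP_comp _ hb' a ha.2)

include hP in
/-- The descending property holds for the space once it holds for affine schemes flat and locally of
finite presentation over it. -/
theorem descend (hX : IsAlgSpace X)
    (haff : ∀ ⦃U : Sp S⦄ (a : U ⟶ X) (T : Over S) (_ : U ≅ (yon S).obj T), IsAffine T.left →
      LocP @Flat a → LocP @LocallyOfFinitePresentation a → P a) : P (𝟙 X) := by
  have hB : ∀ {U : Sp S} {T : Over S} (_ : U ≅ (yon S).obj T) (a : U ⟶ X), T.left.IsSeparated →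
      LocP @Flat a → LocP @LocallyOfFinitePresentation a → P a := fun {U T} e a hT h₁ h₂ =>
    of_scheme_step P hP e a ⟨h₁, h₂⟩ IsAffine (fun A h => h) (fun {T₁ T₂} k₁ k₂ hk₁ hk₂ hR₁ hR₂ => by
      haveI := hT
      haveI := hR₁
      haveI := hR₂
      haveI : IsAffineHom k₂.left := by
        haveI : IsAffineHom (k₂.left ≫ terminal.from T.left) := by
          rw [terminal.hom_ext (k₂.left ≫ terminal.from T.left) (terminal.from T₂.left)]
          infer_instance
        exact IsAffineHom.of_comp k₂.left (terminal.from T.left)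
      haveI : IsAffine (pullback ((Over.forget S).map k₁) ((Over.forget S).map k₂)) :=
        (inferInstance : IsAffine (pullback k₁.left k₂.left))
      exact IsAffine.of_isIso ((IsPullback.of_hasPullback k₁ k₂).map (Over.forget S)).isoPullback.hom)
      fun {W T'} e' a' hR h₁ h₂ => haff a' T' e' hR h₁ h₂
  have hC : ∀ {U : Sp S} {T : Over S} (_ : U ≅ (yon S).obj T) (a : U ⟶ X),
      LocP @Flat a → LocP @LocallyOfFinitePresentation a → P a := fun {U T} e a h₁ h₂ =>
    of_scheme_step P hP e a ⟨h₁, h₂⟩ (fun A => A.IsSeparated) (fun A h => inferInstance)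
      (fun {T₁ T₂} k₁ k₂ hk₁ hk₂ hR₁ hR₂ => by
        haveI := hR₁
        have sq := ((IsPullback.of_hasPullback k₁ k₂).map (Over.forget S))
        haveI : IsOpenImmersion (pullback.fst k₁ k₂).left := MorphismProperty.of_isPullback sq.flip hk₂
        refine ⟨?_⟩
        rw [terminal.hom_ext (terminal.from _) ((pullback.fst k₁ k₂).left ≫ terminal.from T₁.left)]
        infer_instance)
      fun {W T'} e' a' hR h₁ h₂ => hB e' a' hR h₁ h₂
  obtain ⟨A, p, hp, hps⟩ := hX.atlas
  refine of_cover P hP hX (𝟙 X) (ι := PUnit.{u + 1}) (fun _ => A) (fun _ => p)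
    (fun x => ?_) (fun _ b => RepWith @Etale b) (fun _ => hp) (fun _ _ h => h) ?_ ?_
  · obtain ⟨t, ht⟩ := surjective_ofPt hps x
    exact ⟨PUnit.unit, Points.ofPt (𝟙 _) t, by rw [Points.map_ofPt, Category.id_comp]; exact ht⟩
  · intro T₁ T₂ b₁ b₂ h₁ h₂
    have sq := h₁.1.isPullback b₂
    refine ⟨h₁.1.pullback b₂, h₁.1.fst b₂, (yon S).map (h₁.1.snd b₂), sq, ?_⟩
    rw [sq.w]
    exact (repWith_isMultiplicative (S := S) @Etale).comp_mem _ _
      ((repWith_yon_map_iff _ _).2 (h₁.2 b₂ (h₁.1.fst b₂) (h₁.1.snd b₂) sq)) h₂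
  · intro T' W e' b hb
    rw [Category.comp_id]
    have hb' := repWith_iso_comp e' b hb
    exact hC e' _ (locP_of_repWith (fun g h => inferInstanceAs (Flat g)) _ hb')
      (locP_of_repWith (fun g h => inferInstanceAs (LocallyOfFinitePresentation g)) _ hb')

end Groth.L23.CechDesc
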