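import Groth.Prelude.Def_AlgSpOX
import Mathlib.Algebra.Category.ModuleCat.Sheaf.Abelian
import Mathlib.Algebra.Category.ModuleCat.Sheaf.Colimits
import Mathlib.Algebra.Category.ModuleCat.Presheaf.Generator
import Mathlib.Algebra.Category.Grp.AB
import Mathlib.Algebra.Category.Grp.FilteredColimits
import Mathlib.CategoryTheory.Abelian.GrothendieckAxioms.FunctorCategory
import Mathlib.CategoryTheory.Abelian.GrothendieckCategory.EnoughInjectives
import Mathlib.CategoryTheory.Generator.Basic
import Mathlib.CategoryTheory.Limits.Preserves.FunctorCategory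

/-!
# Modules on the small étale site form a Grothendieck abelian category
-/

universe u

open CategoryTheory CategoryTheory.Limits AlgebraicGeometry Opposite AlgSp

set_option autoImplicit false
set_option linter.style.haveILetI false
set_option backward.isDefEq.respectTransparency false
set_option backward.isDefEq.respectTransparency.types false

noncomputable section

namespace Groth.L23.ModEtGroth

variable {S : Scheme.{u}} {X : Sp S}

/-- The free sheaf of modules on a representable presheaf. -/
def gen (E : EtOver X) : ModEt X :=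
  (PresheafOfModules.sheafification (𝟙 (OEtRing X).obj)).obj
    ((PresheafOfModules.free (OEtRing X).obj).obj (uliftYoneda.{u + 1}.obj E))

theorem isSeparating : ObjectProperty.IsSeparating (ObjectProperty.ofObj (gen (X := X))) := by
  intro M N f g h
  apply (SheafOfModules.forget (OEtRing X)).map_injective
  refine PresheafOfModules.hom_ext fun Z => ModuleCat.hom_ext (LinearMap.ext fun s => ?_)
  let adj := PresheafOfModules.sheafificationAdjunction (R := OEtRing X) (𝟙 (OEtRing X).obj)
  let φ₀ := PresheafOfModules.freeObjDesc (R := (OEtRing X).obj) (G := M.val)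
    (uliftYonedaEquiv.{u + 1}.symm (show (M.val.presheaf ⋙ CategoryTheory.forget Ab).obj (op Z.unop) from s))
  have := congrArg (adj.homEquiv _ _) (h _ (ObjectProperty.ofObj_apply _ Z.unop) ((adj.homEquiv _ M).symm φ₀))
  rw [Adjunction.homEquiv_naturality_right, Adjunction.homEquiv_naturality_right, Equiv.apply_symm_apply] at this
  have h2 := ConcreteCategory.congr_hom ((PresheafOfModules.evaluation (OEtRing X).obj Z).congr_map this)
    (ModuleCat.freeMk (ULift.up (𝟙 Z.unop)))
  have h3 : (φ₀.app Z) (ModuleCat.freeMk (ULift.up (𝟙 Z.unop))) = s := by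
    show (ModuleCat.freeDesc _) (ModuleCat.freeMk _) = s
    rw [ModuleCat.freeDesc_apply]
    exact ConcreteCategory.congr_hom (M.val.presheaf.map_id Z) s
  calc (f.val.app Z) s = (f.val.app Z) ((φ₀.app Z) (ModuleCat.freeMk (ULift.up (𝟙 Z.unop)))) := by rw [h3]
    _ = (g.val.app Z) ((φ₀.app Z) (ModuleCat.freeMk (ULift.up (𝟙 Z.unop)))) := h2
    _ = (g.val.app Z) s := by rw [h3]

theorem isGrothendieckAbelian : IsGrothendieckAbelian.{u + 1} (ModEt X) := by
  have : AB5OfSize.{u + 1, u + 1} (ModEt X) := ⟨fun K _ _ => by
    have : AB5OfSize.{u + 1, u + 1} (PresheafOfModules.{u + 1} (OEtRing X).obj) := ⟨fun K _ _ => by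
      have : ReflectsFiniteLimits (PresheafOfModules.toPresheaf.{u + 1} (OEtRing X).obj) :=
        ⟨fun _ _ _ => reflectsLimitsOfShape_of_reflectsIsomorphisms⟩
      exact HasExactColimitsOfShape.domain_of_functor K (PresheafOfModules.toPresheaf (OEtRing X).obj)⟩
    exact (PresheafOfModules.sheafificationAdjunction (𝟙 (OEtRing X).obj)).hasExactColimitsOfShape K⟩
  have : HasSeparator (ModEt X) := ⟨⟨∐ (gen (X := X)), (isSeparator_sigma _).2 isSeparating⟩⟩
  exact {}

end Groth.L23.ModEtGroth
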