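import Groth.Agent.L23.GenSub
import Groth.Agent.L23.QcohClosure
import Groth.Agent.L23.AffPushReflect
import Groth.Agent.L23.ModEtGroth

/-!
# A quasi-coherent module on a Noetherian space is the union of its coherent submodules
-/

universe u

open CategoryTheory CategoryTheory.Limits AlgebraicGeometry Opposite AlgSp

set_option autoImplicit false
set_option linter.style.haveILetI false
set_option backward.isDefEq.respectTransparency false
set_option backward.isDefEq.respectTransparency.types false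

noncomputable section

namespace Groth.L23.CohUnion

open Groth.L09.ModEt

variable {S : Scheme.{u}} [QuasiSeparatedSpace S] (X : AlgSp.Space S) (hqc : IsQuasiCompactSp X.obj)
  (hqs : IsQuasiSeparatedSp X.obj) (hN : IsLocNoethSp X.obj)

include hqc hqs hN in
/-- A map vanishing on all coherent submodules vanishes. -/
theorem eq_zero_of_coherent (M : ModEt X.obj) [M.IsQuasicoherent] {Q : ModEt X.obj} (q : M ⟶ Q)
    (h : ∀ (N : ModEt X.obj) (a : N ⟶ M), Mono a → N.IsFinitePresentation → a ≫ q = 0) : q = 0 := by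
  refine SheafOfModules.hom_ext (PresheafOfModules.hom_ext fun E => ModuleCat.hom_ext (LinearMap.ext fun x => ?_))
  show CohNbhd.app₀ q E.unop x = 0
  refine eq_of_cover Q (ι := E.unop.obj.left.left.affineOpens) (V := fun B => openObj E.unop B.1)
    (c := fun B => openι E.unop B.1) (fun e => ?_) fun B => ?_
  · obtain ⟨_, ⟨(B : E.unop.obj.left.left.Opens), hB, rfl⟩, heB, -⟩ :=
      E.unop.obj.left.left.isBasis_affineOpens.exists_subset_of_mem_open (Set.mem_univ e) isOpen_univ
    exact ⟨⟨B, hB⟩, ⟨e, heB⟩, rfl⟩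
  · haveI : IsAffine (openObj E.unop B.1).obj.left.left := B.2
    rw [map_zero, ← CohNbhd.app₀_res]
    obtain ⟨N, a, ha, hN', t, ht⟩ :=
      GenSub.exists_coherent_mem X hqc hqs hN M (openObj E.unop B.1) (res M (openι E.unop B.1) x)
    rw [← ht]
    show CohNbhd.app₀ q _ (CohNbhd.app₀ a _ t) = 0
    rw [← QcClosure.app₀_comp, QcClosure.app₀_of_eq_zero _ (h N a ha hN')]

include hN in
/-- The zero submodule is coherent. -/
theorem exists_coherent (M : ModEt X.obj) [M.IsQuasicoherent] :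
    ∃ (N : ModEt X.obj) (a : N ⟶ M), Mono a ∧ N.IsFinitePresentation := by
  haveI := QcClosure.isQuasicoherent_kernel (𝟙 M)
  refine ⟨kernel (𝟙 M), kernel.ι _, inferInstance, FP.isFinitePresentation_of_finite hN _ fun E _ => ?_⟩
  have : Subsingleton (sectModEt (kernel (𝟙 M)) E) := ⟨fun a b => FP.injective_app₀ (kernel.ι (𝟙 M)) E (by
    have h0 : kernel.ι (𝟙 M) = 0 := by simpa using kernel.condition (𝟙 M)
    rw [QcClosure.app₀_of_eq_zero _ h0, QcClosure.app₀_of_eq_zero _ h0])⟩
  exact Module.Finite.of_finite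

set_option maxHeartbeats 1600000 in
include hN in
/-- Two coherent submodules lie in a third. -/
theorem exists_coherent_sup {M : ModEt X.obj} [M.IsQuasicoherent] {N₁ N₂ : ModEt X.obj}
    [N₁.IsFinitePresentation] [N₂.IsFinitePresentation] (a₁ : N₁ ⟶ M) (a₂ : N₂ ⟶ M) :
    ∃ (N : ModEt X.obj) (a : N ⟶ M) (f₁ : N₁ ⟶ N) (f₂ : N₂ ⟶ N),
      Mono a ∧ N.IsFinitePresentation ∧ f₁ ≫ a = a₁ ∧ f₂ ≫ a = a₂ := by
  haveI hb : (N₁ ⊞ N₂).IsQuasicoherent :=
    Groth.L09.ModEt.isQuasicoherent_middle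
      (ShortComplex.Splitting.ofHasBinaryBiproduct N₁ N₂).shortExact inferInstance inferInstance
  haveI : (N₁ ⊞ N₂).IsFinitePresentation := by
    refine FP.isFinitePresentation_of_finite hN _ fun E _ => ?_
    haveI := FP.isNoetherianRing_Γ₀ hN E
    haveI := finite_sectModEt N₁ E
    haveI := finite_sectModEt N₂ E
    refine Module.Finite.of_injective
      ((CohNbhd.app₀ (biprod.fst : N₁ ⊞ N₂ ⟶ N₁) E).prod (CohNbhd.app₀ (biprod.snd : N₁ ⊞ N₂ ⟶ N₂) E)) fun x y hxy => ?_
    have h1 := congrArg Prod.fst hxy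
    have h2 := congrArg Prod.snd hxy
    simp only [LinearMap.prod_apply, Function.prod_apply] at h1 h2
    have e : ∀ z, z = CohNbhd.app₀ (biprod.inl : N₁ ⟶ N₁ ⊞ N₂) E (CohNbhd.app₀ biprod.fst E z) +
        CohNbhd.app₀ (biprod.inr : N₂ ⟶ N₁ ⊞ N₂) E (CohNbhd.app₀ biprod.snd E z) := fun z => by
      rw [← QcClosure.app₀_comp, ← QcClosure.app₀_comp]
      show z = ((biprod.fst ≫ biprod.inl + biprod.snd ≫ biprod.inr : N₁ ⊞ N₂ ⟶ _).val.app (op E)).hom z
      rw [biprod.total]
      rfl
    rw [e x, e y, h1, h2]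
  let φ : N₁ ⊞ N₂ ⟶ M := biprod.desc a₁ a₂
  haveI := QcClosure.isQuasicoherent_cokernel φ
  haveI : (Abelian.image φ).IsQuasicoherent := QcClosure.isQuasicoherent_kernel (cokernel.π φ)
  haveI := FP.isFiniteType_of_epi (Abelian.factorThruImage φ)
  haveI : (Abelian.image φ).IsFinitePresentation :=
    FP.isFinitePresentation_of_finite hN _ fun E _ => finite_sectModEt _ E
  refine ⟨Abelian.image φ, Abelian.image.ι φ, biprod.inl ≫ Abelian.factorThruImage φ,
    biprod.inr ≫ Abelian.factorThruImage φ, inferInstance, inferInstance, ?_, ?_⟩ <;>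
  simp [φ]

end Groth.L23.CohUnion
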