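import Groth.Agent.L23.CohNbhd
import Mathlib.Algebra.Category.ModuleCat.Presheaf.Colimits
import Mathlib.Algebra.Category.ModuleCat.Presheaf.Sheafification

/-!
# Epimorphisms of modules are locally surjective
-/

universe u

open CategoryTheory CategoryTheory.Limits AlgebraicGeometry Opposite AlgSp

set_option autoImplicit false
set_option linter.style.haveILetI false
set_option backward.isDefEq.respectTransparency false
set_option backward.isDefEq.respectTransparency.types false

noncomputable section

namespace Groth.L23.EpiLoc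

open Groth.L09.ModEt Groth.L23.CohNbhd

variable {S : Scheme.{u}} {X : Sp S}

/-- A functor out of a reflective subcategory preserves the colimits it preserves upstairs. -/
theorem preservesColimit_of_reflective {A D E : Type*} [Category A] [Category D] [Category E] {L : A ⥤ D} {R : D ⥤ A}
    (adj : L ⊣ R) [IsIso adj.counit] (F : D ⥤ E)
    {K₀ : Type*} [Category K₀] (K : K₀ ⥤ D) [HasColimit (K ⋙ R)] [PreservesColimit (K ⋙ R) (L ⋙ F)] :
    PreservesColimit K F := by
  haveI : PreservesColimit (K ⋙ R) L := adj.leftAdjoint_preservesColimits.preservesColimitsOfShape.preservesColimit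
  let i : (K ⋙ R) ⋙ L ≅ K :=
    Functor.associator _ _ _ ≪≫ Functor.isoWhiskerLeft K (asIso adj.counit) ≪≫ Functor.rightUnitor K
  let c := colimit.cocone (K ⋙ R)
  have hc : IsColimit ((Cocone.precompose i.inv).obj (L.mapCocone c)) :=
    (IsColimit.precomposeInvEquiv i _).symm (isColimitOfPreserves L (colimit.isColimit _))
  refine preservesColimit_of_preserves_colimit_cocone hc ?_
  have h2 : IsColimit (F.mapCocone (L.mapCocone c)) :=
    isColimitOfPreserves (L ⋙ F) (colimit.isColimit (K ⋙ R))
  refine IsColimit.ofIsoColimit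
    ((IsColimit.precomposeInvEquiv (Functor.isoWhiskerRight i F) _).symm h2)
    (Cocone.ext (Iso.refl _) (fun j => ?_))
  simp [i]

variable (X) in
theorem preservesEpimorphisms_toAbEt : (toAbEt X).PreservesEpimorphisms := by
  haveI : PreservesFiniteColimits (SheafOfModules.toSheaf.{u + 1} (OEtRing X)) :=
    ⟨fun K₀ _ _ => ⟨fun {K} => by
      haveI : PreservesFiniteColimits (presheafToSheaf (etTop X) AddCommGrpCat.{u + 1}) :=
        haveI := (sheafificationAdjunction (etTop X) AddCommGrpCat.{u + 1}).isLeftAdjoint
        inferInstance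
      haveI : PreservesFiniteColimits
          (PresheafOfModules.sheafification.{u + 1} (𝟙 (OEtRing X).obj) ⋙ SheafOfModules.toSheaf (OEtRing X)) :=
        @preservesFiniteColimits_of_natIso _ _ _ _ _ _
          (PresheafOfModules.sheafificationCompToSheaf (𝟙 (OEtRing X).obj)).symm
          (@comp_preservesFiniteColimits _ _ _ _ _ _ _ _
            (PresheafOfModules.Finite.toPresheaf_preservesFiniteColimits _) inferInstance)
      exact preservesColimit_of_reflective (PresheafOfModules.sheafificationAdjunction (𝟙 (OEtRing X).obj)) _ K⟩⟩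
  exact inferInstanceAs (SheafOfModules.toSheaf.{u + 1} (OEtRing X)).PreservesEpimorphisms

/-- Sections lift along an epimorphism near every point. -/
theorem exists_local_lift {G F : ModEt X} (φ : G ⟶ F) [Epi φ] {E : EtOver X} (z : sectModEt F E)
    (e : ↥E.obj.left.left) :
    ∃ (W : EtOver X) (_ : IsAffine W.obj.left.left) (g : W ⟶ E),
      e ∈ Set.range g.hom.left.left ∧ res F g z ∈ LinearMap.range (app₀ φ W) := by
  haveI := preservesEpimorphisms_toAbEt X
  haveI : Epi ((toAbEt X).map φ) := inferInstance
  haveI h : Sheaf.IsLocallySurjective ((toAbEt X).map φ) :=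
    (Sheaf.isLocallySurjective_iff_epi' _ ((toAbEt X).map φ)).2 inferInstance
  haveI h' : Presheaf.IsLocallySurjective (etTop X) ((toAbEt X).map φ).hom := h
  let z' : ToType (((toAbEt X).obj F).obj.obj (op E)) := z
  have hR : Presheaf.imageSieve ((toAbEt X).map φ).hom (U := E) z' ∈ etTop X E :=
    Presheaf.IsLocallySurjective.imageSieve_mem (J := etTop X) (f := ((toAbEt X).map φ).hom) (U := E) z'
  obtain ⟨W, hW, g, hg, he⟩ := exists_refinement hR e
  obtain ⟨y, hy⟩ := hg
  exact ⟨W, hW, g, he, ⟨y, hy⟩⟩

end Groth.L23.EpiLoc
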