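import Groth.Agent.L23.ModCok
import Groth.Agent.L23.ModEtGroth
import Groth.Agent.L23.EpiLocSurj
import Groth.Agent.L09.EtCoh.Qcoh
import Groth.Agent.L10.TowerStab
import Groth.Prelude.Def_AlgSpD
import Mathlib.Algebra.Homology.DerivedCategory.Ext.ExactSequences
import Mathlib.Algebra.Homology.DerivedCategory.Ext.EnoughInjectives

/-!
# Quasi-coherent modules have no higher extensions by free modules on affine objects
-/

universe u

open CategoryTheory CategoryTheory.Limits AlgebraicGeometry Opposite AlgSp CategoryTheory.Abelian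

set_option autoImplicit false
set_option linter.style.haveILetI false
set_option backward.isDefEq.respectTransparency false
set_option backward.isDefEq.respectTransparency.types false

attribute [local instance] HasDerivedCategory.standard

noncomputable section

namespace Groth.L23.ModVanish

open Groth.L09.ModEt Groth.L09.EtCoh

variable {S : Scheme.{u}} {X : Sp S}

/-- Maps out of the free module on an object are its sections. -/
def sec (E : EtOver X) (M : ModEt X) : (ModEtGroth.gen E ⟶ M) ≃ sectModEt M E :=
  ((PresheafOfModules.sheafificationAdjunction (R := OEtRing X) (𝟙 (OEtRing X).obj)).homEquiv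
    (ModCok.fm (OEtRing X).obj E) M).trans
    { toFun := fun k => k.app (op E) (ModCok.gm (OEtRing X).obj (𝟙 E))
      invFun := fun s => ModCok.fromGm (P := M.val) s
      left_inv := fun k => ModCok.fm_hom_ext ((ModCok.fromGm_gm (P := M.val) _ _).trans
        (ConcreteCategory.congr_hom (M.val.presheaf.map_id _) _))
      right_inv := fun s => (ModCok.fromGm_gm (P := M.val) s _).trans
        (ConcreteCategory.congr_hom (M.val.presheaf.map_id _) _) }

theorem sec_comp {E : EtOver X} {M N : ModEt X} (k : ModEtGroth.gen E ⟶ M) (φ : M ⟶ N) :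
    sec E N (k ≫ φ) = φ.val.app (op E) (sec E M k) :=
  congrArg (fun m => m.app (op E) (ModCok.gm (OEtRing X).obj (𝟙 E)))
    ((PresheafOfModules.sheafificationAdjunction (R := OEtRing X) (𝟙 (OEtRing X).obj)).homEquiv_naturality_right k φ)

/-- The Cech complexes of an injective module are exact. -/
theorem cok_of_injective (M : ModEt X) [Injective M] : Cok ((toAbEt X).obj M) := fun E V _ _ d hd => by
  haveI : Injective M.val :=
    Injective.injective_of_adjoint (PresheafOfModules.sheafificationAdjunction (R := OEtRing X) (𝟙 (OEtRing X).obj)) M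
  refine ModCok.cechExact_of_injective (E := E) d M fun W e => ?_
  have hc : IsCover (fun _ : PUnit.{u + 1} => d) := fun x =>
    (hd x).elim fun v hv => ⟨PUnit.unit, v, hv⟩
  refine ⟨_, ofArrows_mem_etTop _ _ (hc.pullback e), fun W' a ha => ?_⟩
  obtain ⟨i, k, rfl⟩ := (Sieve.mem_ofArrows_iff _ _ _).1 ha
  exact ⟨k ≫ EtOver.pullbackSnd e d, by rw [Category.assoc, Category.assoc, EtOver.pullback_condition]⟩

theorem shortExact_toAb {C : ShortComplex (ModEt X)} (hC : C.ShortExact) : (C.map (toAbEt X)).ShortExact := by
  haveI := Groth.L23.EpiLoc.preservesEpimorphisms_toAbEt X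
  haveI : PreservesFiniteLimits (toAbEt X) :=
    inferInstanceAs (PreservesFiniteLimits (SheafOfModules.toSheaf.{u + 1} (OEtRing X)))
  haveI := hC.mono_f
  haveI := hC.epi_g
  exact { exact := hC.exact.map_of_mono_of_preservesKernel (toAbEt X) hC.mono_f inferInstance
          mono_f := inferInstanceAs (Mono ((toAbEt X).map C.f))
          epi_g := inferInstanceAs (Epi ((toAbEt X).map C.g)) }

theorem hull [EnoughInjectives (ModEt X)] (G : ModEt X) :
    ∃ C : ShortComplex (ModEt X), C.X₁ = G ∧ C.ShortExact ∧ Injective C.X₂ :=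
  ⟨ShortComplex.mk (Injective.ι G) (cokernel.π (Injective.ι G)) (cokernel.condition _), rfl,
    { exact := ShortComplex.cokernelSequence_exact _, mono_f := inferInstance, epi_g := inferInstance },
    Injective.injective_under G⟩

theorem subsingleton_ext [HasExt.{u + 2} (ModEt X)] [EnoughInjectives (ModEt X)] (E : EtOver X)
    [IsAffine E.obj.left.left] : ∀ (n : ℕ) (G : ModEt X), Cok ((toAbEt X).obj G) →
      Subsingleton (Ext.{u + 2} (ModEtGroth.gen E) G (n + 1)) := by
  intro n
  induction n with
  | zero =>
    intro G hG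
    obtain ⟨C, rfl, hC, hI⟩ := hull G
    refine subsingleton_of_forall_eq 0 fun x => ?_
    obtain ⟨y, rfl⟩ := Ext.covariant_sequence_exact₁ (ModEtGroth.gen E) hC x
      (by haveI := hI; exact Ext.eq_zero_of_injective _) (zero_add 1)
    obtain ⟨s, hs⟩ := surjective_app (shortExact_toAb hC) hG E (sec E C.X₃ (Ext.addEquiv₀ y))
    have hy : y = (Ext.mk₀ ((sec E C.X₂).symm s)).comp (Ext.mk₀ C.g) (add_zero 0) := by
      rw [Ext.mk₀_comp_mk₀]
      apply Ext.addEquiv₀.injective
      show _ = Ext.addEquiv₀ (Ext.addEquiv₀.symm _)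
      rw [AddEquiv.apply_symm_apply]
      apply (sec E C.X₃).injective
      rw [sec_comp, Equiv.apply_symm_apply]
      exact hs.symm
    rw [hy, Ext.comp_assoc_of_second_deg_zero, hC.comp_extClass, Ext.comp_zero]
  | succ n ih =>
    intro G hG
    obtain ⟨C, rfl, hC, hI⟩ := hull G
    refine subsingleton_of_forall_eq 0 fun x => ?_
    obtain ⟨y, rfl⟩ := Ext.covariant_sequence_exact₁ (ModEtGroth.gen E) hC x
      (by haveI := hI; exact Ext.eq_zero_of_injective _) (n₀ := n + 1) rfl
    haveI := hI
    have := ih C.X₃ (cok_quotient (shortExact_toAb hC) hG (cok_of_injective C.X₂))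
    rw [Subsingleton.elim y 0, Ext.zero_comp]

/-- Free modules on affine objects see no higher cohomology of quasi-coherent modules. -/
theorem small_gen (E : EtOver X) [IsAffine E.obj.left.left] (M : ModEt X) [M.IsQuasicoherent] :
    Groth.L10.TowerStab.Small 0 (ModEtGroth.gen E) M := fun m hm g => by
  haveI := ModEtGroth.isGrothendieckAbelian (X := X)
  letI : HasExt.{u + 2} (ModEt X) := HasExt.standard _
  obtain ⟨q, rfl⟩ : ∃ q : ℕ, ((q + 1 : ℕ) : ℤ) = m := ⟨m.toNat - 1, by omega⟩
  haveI := subsingleton_ext E q M (cok_of_isQuasicoherent M)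
  have h2 := (Ext.homEquiv.{u + 2} (X := ModEtGroth.gen E) (Y := M) (n := q + 1)).symm.subsingleton
  exact h2.elim g 0

end Groth.L23.ModVanish
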