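import Groth.Agent.L23.GenSub
import Groth.Agent.L23.ModVanish
import Groth.Agent.L23.QcohClosure
import Groth.Agent.L09.EtCoh.Compare

/-!
# Global sections of modules, relative to an affine atlas
-/

universe u

open CategoryTheory CategoryTheory.Limits AlgebraicGeometry Opposite AlgSp CategoryTheory.Abelian

set_option autoImplicit false
set_option linter.style.haveILetI false
set_option backward.isDefEq.respectTransparency false
set_option backward.isDefEq.respectTransparency.types false

noncomputable section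

namespace Groth.L23.GlobSec

open Groth.L09.ModEt Groth.L23.GenSub

variable {S : Scheme.{u}} {X : Sp S}

/-- An affine atlas of the small étale site, with covers of all the products with affine objects. -/
structure Atlas (X : Sp S) : Type (u + 1) where
  /-- the object -/
  U : EtOver X
  aff : IsAffine U.obj.left.left
  surj : Function.Surjective (Points.ofPt U.obj.hom)
  cover : ∀ (E : EtOver X) [IsAffine E.obj.left.left], Nonempty (PairCover E U)

theorem nonempty_atlas [QuasiSeparatedSpace S] (X : AlgSp.Space S) (hqc : IsQuasiCompactSp X.obj)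
    (hqs : IsQuasiSeparatedSp X.obj) : Nonempty (Atlas X.obj) := by
  obtain ⟨U, p, hU, hp, hps⟩ := Qs.exists_affine_atlas X.property hqc
  let U₀ : EtOver X.obj := EtOver.mk p hp
  haveI : IsAffine U₀.obj.left.left := hU
  exact ⟨⟨U₀, hU, surjective_ofPt hps, fun E _ => nonempty_pairCover hqs E U₀⟩⟩

variable (a : Atlas X)

instance : IsAffine a.U.obj.left.left := a.aff

/-- The functions on the atlas descending to the space. -/
def A₀ : Subring (Γ₀ a.U) where
  carrier := {r | ∀ (W : EtOver X) [IsAffine W.obj.left.left] (g h : W ⟶ a.U), pb g r = pb h r}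
  one_mem' := fun W _ g h => by rw [map_one, map_one]
  zero_mem' := fun W _ g h => by rw [map_zero, map_zero]
  mul_mem' := fun hx hy W _ g h => by rw [map_mul, map_mul, hx W g h, hy W g h]
  add_mem' := fun hx hy W _ g h => by rw [map_add, map_add, hx W g h, hy W g h]
  neg_mem' := fun hx W _ g h => by rw [map_neg, map_neg, hx W g h]

/-- Global sections, as sections over the atlas. -/
def GS (M : ModEt X) : Submodule (A₀ a) (sectModEt M a.U) where
  carrier := {m | ∀ (W : EtOver X) [IsAffine W.obj.left.left] (g h : W ⟶ a.U), res M g m = res M h m}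
  zero_mem' := fun W _ g h => by rw [map_zero, map_zero]
  add_mem' := fun hx hy W _ g h => by rw [map_add, map_add, hx W g h, hy W g h]
  smul_mem' := fun r m hm W _ g h => by
    show res M g ((r : Γ₀ a.U) • m) = res M h ((r : Γ₀ a.U) • m)
    rw [res_smul, res_smul, hm W g h, r.2 W g h]

variable {a} {M N : ModEt X}

/-- The value of a global section on an object. -/
def IsVal (m : sectModEt M a.U) {E : EtOver X} (t : sectModEt M E) : Prop :=
  ∀ (W : EtOver X) [IsAffine W.obj.left.left] (g : W ⟶ E) (h : W ⟶ a.U), res M g t = res M h m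

theorem IsVal.self {m : sectModEt M a.U} (hm : m ∈ GS a M) : IsVal m m := hm

theorem IsVal.res {m : sectModEt M a.U} {E E' : EtOver X} {t : sectModEt M E} (ht : IsVal m t) (g : E' ⟶ E) :
    IsVal m (res M g t) := fun W _ g' h => by rw [← res_comp]; exact ht W _ h

theorem exists_nhd (E : EtOver X) (e : E.obj.left.left) :
    ∃ (W : EtOver X) (_ : IsAffine W.obj.left.left) (g : W ⟶ E) (_ : W ⟶ a.U), e ∈ Set.range g.hom.left.left := by
  obtain ⟨_, ⟨(B : E.obj.left.left.Opens), hB, rfl⟩, heB, -⟩ :=
    E.obj.left.left.isBasis_affineOpens.exists_subset_of_mem_open (Set.mem_univ e) isOpen_univ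
  haveI : IsAffine (openObj E B).obj.left.left := hB
  let C := (a.cover (openObj E B)).some
  haveI := C.aff
  obtain ⟨w, hw⟩ := C.surj a.surj ⟨e, heB⟩
  refine ⟨C.W, C.aff, C.g ≫ openι E B, C.h, w, ?_⟩
  show (C.g.hom.left.left ≫ (openι E B).hom.left.left) w = e
  rw [Scheme.Hom.comp_apply, hw]
  rfl

theorem IsVal.unique {m : sectModEt M a.U} {E : EtOver X} {t t' : sectModEt M E} (ht : IsVal m t)
    (ht' : IsVal m t') : t = t' := by
  choose W hW g h hg using exists_nhd (a := a) E
  exact eq_of_cover M (c := g) (fun e => ⟨e, hg e⟩) fun e =>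
    (@ht (W e) (hW e) (g e) (h e)).trans (@ht' (W e) (hW e) (g e) (h e)).symm

theorem exists_val {m : sectModEt M a.U} (hm : m ∈ GS a M) (E : EtOver X) : ∃ t, IsVal m (E := E) t := by
  choose W hW g h hg using exists_nhd (a := a) E
  haveI := hW
  have hc : IsCover g := fun e => ⟨e, hg e⟩
  obtain ⟨t, ht⟩ := exists_glue M hc (fun e => res M (h e) m) fun i j => by
    choose W' hW' g' h' hg' using exists_nhd (a := a) (EtOver.pullbackObj (g i) (g j))
    refine eq_of_cover M (c := g') (fun e => ⟨e, hg' e⟩) fun e => ?_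
    rw [← res_comp, ← res_comp, ← res_comp, ← res_comp]
    exact @hm (W' e) (hW' e) _ _
  refine ⟨t, fun W' _ g' h' => ?_⟩
  choose W'' hW'' p q hp using fun w => exists_nhd (a := a) (EtOver.pullbackObj g' (g w))
  refine eq_of_cover M (c := fun i : Σ e, (EtOver.pullbackObj g' (g e)).obj.left.left =>
    p i.1 i.2 ≫ EtOver.pullbackFst g' (g i.1)) (fun w => ?_) fun i => ?_
  · obtain ⟨e, x, hx⟩ := hc.pullback g' w
    obtain ⟨y, hy⟩ := hp e x
    refine ⟨⟨e, x⟩, y, ?_⟩
    show ((p e x).hom.left.left ≫ (EtOver.pullbackFst g' (g e)).hom.left.left) y = w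
    rw [Scheme.Hom.comp_apply, hy, hx]
  · rw [← res_comp, Category.assoc, EtOver.pullback_condition, ← Category.assoc, res_comp _ _ (g i.1), ht,
      ← res_comp, ← res_comp]
    exact @hm (W'' i.1 i.2) (hW'' i.1 i.2) _ _

/-- The value of a global section. -/
def val {m : sectModEt M a.U} (hm : m ∈ GS a M) (E : EtOver X) : sectModEt M E := (exists_val hm E).choose

theorem isVal_val {m : sectModEt M a.U} (hm : m ∈ GS a M) (E : EtOver X) : IsVal m (val hm E) :=
  (exists_val hm E).choose_spec

theorem res_val {m : sectModEt M a.U} (hm : m ∈ GS a M) {E E' : EtOver X} (g : E' ⟶ E) :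
    res M g (val hm E) = val hm E' :=
  ((isVal_val hm E).res g).unique (isVal_val hm E')

theorem val_self {m : sectModEt M a.U} (hm : m ∈ GS a M) : val hm a.U = m :=
  (isVal_val hm a.U).unique (IsVal.self hm)

/-- Images of global sections. -/
theorem app_mem_GS (φ : M ⟶ N) {m : sectModEt M a.U} (hm : m ∈ GS a M) : CohNbhd.app₀ φ a.U m ∈ GS a N :=
  fun W _ g h => by rw [← CohNbhd.app₀_res, ← CohNbhd.app₀_res, hm W g h]

theorem IsVal.app (φ : M ⟶ N) {m : sectModEt M a.U} {E : EtOver X} {t : sectModEt M E} (ht : IsVal m t) :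
    IsVal (CohNbhd.app₀ φ a.U m) (CohNbhd.app₀ φ E t) :=
  fun W _ g h => by rw [← CohNbhd.app₀_res, ← CohNbhd.app₀_res, ht W g h]

/-- A global section as a family. -/
def toSections {m : sectModEt M a.U} (hm : m ∈ GS a M) : M.sections :=
  ⟨fun E => val hm E.unop, fun {E E'} f => res_val hm f.unop⟩

theorem sections_mem_GS (s : M.sections) : s.1 (op a.U) ∈ GS a M := fun W _ g h =>
  (s.2 g.op).trans (s.2 h.op).symm

/-- Lifting global sections along a surjection with acyclic kernel. -/
theorem exists_lift {C : ShortComplex (ModEt X)} (hC : C.ShortExact)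
    [Subsingleton (HModEt X C.X₁ 1)] {m : sectModEt C.X₃ a.U} (hm : m ∈ GS a C.X₃) :
    ∃ l ∈ GS a C.X₂, CohNbhd.app₀ C.g a.U l = m := by
  have hD : (C.map (toAbEt X)).ShortExact := ModVanish.shortExact_toAb hC
  let adj := sheafificationAdjunction (etTop X) AddCommGrpCat.{u + 1}
  let G₃ : AbEt X := (toAbEt X).obj C.X₃
  let φ : Groth.L09.EtCoh.zP X ⟶ G₃.obj :=
    { app := fun E => AddCommGrpCat.ofHom
        ((zmultiplesHom (G₃.obj.obj E) (val hm E.unop)).comp AddEquiv.ulift.toAddMonoidHom)
      naturality := fun E E' f => by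
        refine AddCommGrpCat.hom_ext (AddMonoidHom.ext fun n => ?_)
        show n.down • val hm E'.unop = res C.X₃ f.unop (n.down • val hm E.unop)
        rw [map_zsmul, res_val] }
  let x : Groth.L09.EtCoh.zSh X ⟶ G₃ := (adj.homEquiv _ _).symm φ
  have h0 : (Ext.mk₀ x).comp hD.extClass (zero_add 1) = 0 := by
    haveI : Subsingleton (Ext (Groth.L09.EtCoh.zSh X) (C.map (toAbEt X)).X₁ 1) :=
      inferInstanceAs (Subsingleton (HModEt X C.X₁ 1))
    exact Subsingleton.elim _ _
  obtain ⟨y, hy⟩ := Ext.covariant_sequence_exact₃ _ hD (Ext.mk₀ x) (zero_add 1) h0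
  obtain ⟨y', rfl⟩ := (Ext.mk₀_bijective _ _).2 y
  rw [Ext.mk₀_comp_mk₀] at hy
  have hxy : y' ≫ (toAbEt X).map C.g = x := (Ext.mk₀_bijective _ _).1 hy
  let ψ : Groth.L09.EtCoh.zP X ⟶ ((toAbEt X).obj C.X₂).obj := adj.homEquiv _ _ y'
  have hψ : ψ ≫ ((toAbEt X).map C.g).hom = φ := by
    show (adj.homEquiv _ _ y') ≫ (sheafToPresheaf (etTop X) AddCommGrpCat.{u + 1}).map ((toAbEt X).map C.g) = φ
    rw [← Adjunction.homEquiv_naturality_right, hxy]
    exact (adj.homEquiv (Groth.L09.EtCoh.zP X) G₃).apply_symm_apply φ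
  refine ⟨(ψ.app (op a.U)).hom (ULift.up (1 : ℤ)), fun W _ g h => ?_, ?_⟩
  · have h1 := ConcreteCategory.congr_hom (ψ.naturality g.op) (ULift.up (1 : ℤ))
    have h2 := ConcreteCategory.congr_hom (ψ.naturality h.op) (ULift.up (1 : ℤ))
    exact h1.symm.trans h2
  · have h1 := ConcreteCategory.congr_hom (NatTrans.congr_app hψ (op a.U)) (ULift.up (1 : ℤ))
    refine h1.trans ?_
    show ((1 : ℤ)) • val hm a.U = m
    rw [one_smul, val_self]

/-- Global sections lift along surjections of quasi-coherent modules. -/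
def Lifting (a : Atlas X) : Prop :=
  ∀ C : ShortComplex (ModEt X), C.ShortExact → C.X₁.IsQuasicoherent → C.X₂.IsQuasicoherent →
    ∀ m ∈ GS a C.X₃, ∃ l ∈ GS a C.X₂, CohNbhd.app₀ C.g a.U l = m

theorem lifting_of_h1 (h1 : ∀ M : ModEt X, M.IsQuasicoherent → Subsingleton (HModEt X M 1)) : Lifting a :=
  fun C hC h₁ _ _ hm => by
    haveI := h1 _ h₁
    exact exists_lift hC hm

variable (a) in
/-- The submodule spanned by global sections. -/
def genP (M : ModEt X) (E : EtOver X) : Submodule (Γ₀ E) (sectModEt M E) :=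
  Submodule.span _ {t | ∃ m ∈ GS a M, IsVal m t}

variable (a) in
/-- The submodule generated by global sections. -/
def genSub (M : ModEt X) [M.IsQuasicoherent] : SubQcoh.AffSub M where
  P E _ := genP a M E
  res_mem {E E'} _ _ g {s} hs := by
    refine Submodule.span_mono ?_ (GenSub.res_mem_span g hs)
    rintro _ ⟨t, ⟨m, hm, ht⟩, rfl⟩
    exact ⟨m, hm, ht.res g⟩
  mem_span {E E'} _ _ g {z} hz := by
    refine Submodule.span_le.2 ?_ hz
    rintro t ⟨m, hm, ht⟩
    refine Submodule.subset_span ⟨val hm E, Submodule.subset_span ⟨m, hm, isVal_val hm E⟩, ?_⟩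
    exact ((isVal_val hm E).res g).unique ht

/-- Quasi-coherent modules with no global sections vanish. -/
def Generates (a : Atlas X) : Prop :=
  ∀ Q : ModEt X, Q.IsQuasicoherent → GS a Q = ⊥ → IsZero Q

/-- Quasi-coherent modules are generated by their global sections. -/
theorem span_GS_eq_top (h1 : Lifting a)
    (hgen : Generates a) (M : ModEt X) [M.IsQuasicoherent] :
    Submodule.span (Γ₀ a.U) (GS a M : Set (sectModEt M a.U)) = ⊤ := by
  let A := genSub a M
  haveI := A.isQuasicoherent
  haveI := QcClosure.isQuasicoherent_cokernel A.ι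
  let C := ShortComplex.mk A.ι (cokernel.π A.ι) (cokernel.condition A.ι)
  have hC : C.ShortExact :=
    { exact := ShortComplex.cokernelSequence_exact _
      mono_f := inferInstanceAs (Mono A.ι)
      epi_g := inferInstanceAs (Epi (cokernel.π A.ι)) }
  have h0 : GS a (cokernel A.ι) = ⊥ := by
    refine (Submodule.eq_bot_iff _).2 fun q hq => ?_
    obtain ⟨l, hl, rfl⟩ := h1 C hC (inferInstanceAs A.mod.IsQuasicoherent) (inferInstanceAs M.IsQuasicoherent) _ hq
    obtain ⟨x, hx⟩ : l ∈ Set.range (A.ι.val.app (op a.U)).hom := by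
      rw [SubQcoh.AffSub.range_ι A a.U]
      exact Submodule.subset_span ⟨l, hl, IsVal.self hl⟩
    rw [← hx]
    exact QcClosure.app₀_of_eq_zero _ (cokernel.condition A.ι) a.U x |> fun h =>
      (QcClosure.app₀_comp A.ι (cokernel.π A.ι) a.U x).symm.trans h
  have hz := hgen _ inferInstance h0
  refine eq_top_iff.2 fun m _ => ?_
  haveI : Mono C.f := inferInstanceAs (Mono A.ι)
  obtain ⟨x, hx⟩ := QcClosure.exists_preimage C hC.exact (E := a.U) (y := m)
    (QcClosure.app₀_of_eq_zero _ (hz.eq_of_tgt _ _) a.U m)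
  have hm : m ∈ A.P a.U := by
    rw [← SetLike.mem_coe, ← SubQcoh.AffSub.range_ι A a.U]
    exact ⟨x, hx⟩
  refine Submodule.span_le.2 ?_ hm
  rintro t ⟨n, hn, ht⟩
  rw [ht.unique (IsVal.self hn)]
  exact Submodule.subset_span hn

end Groth.L23.GlobSec
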