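import Groth.Agent.S10350
import Groth.Agent.S10359
import Groth.Agent.S10756
import Groth.Agent.S10240
import Groth.Agent.S10744
import Groth.Agent.L23.CutOutApps
import Groth.Agent.L23.CohSupport
import Groth.Agent.L23.CohUnion
import Groth.Agent.L23.GlobSec
import Groth.Agent.L23.Compact
import Groth.Agent.L23.Decent3
import Groth.Agent.L23.Points

/-!
# On a Noetherian space without first cohomology, coherent modules have global sections
-/

universe u

open CategoryTheory CategoryTheory.Limits AlgebraicGeometry Opposite AlgSp TensorProduct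

set_option autoImplicit false
set_option linter.style.haveILetI false
set_option backward.isDefEq.respectTransparency false
set_option backward.isDefEq.respectTransparency.types false

noncomputable section

namespace Groth.L23.NoethGen

open Groth.L09.ModEt Groth.L23.GlobSec

theorem eq_zero_of_isUnit_smul {R M : Type*} [Semiring R] [AddCommMonoid M] [Module R M] {x : R} (h : IsUnit x)
    {m : M} (e : x • m = 0) : m = 0 := h.smul_eq_zero.1 e

set_option maxHeartbeats 1600000 in
/-- A non-zero direct image from an affine scheme has a non-zero global section. -/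
theorem exists_GS_push {S : Scheme.{u}} {X : Sp S} (a : Atlas X) {D : Over S} [IsAffine D.left]
    {i : (yon S).obj D ⟶ X} (hi : Representable i) (G : ModEt ((yon S).obj D)) [G.IsQuasicoherent]
    (hG : ∃ s : sectModEt ((pushModEt hi).obj G) a.U, s ≠ 0) :
    ∃ m ∈ GS a ((pushModEt hi).obj G), m ≠ 0 := by
  obtain ⟨E, hE, hED⟩ := Groth.L09.EtCoh.exists_terminal (Iso.refl ((yon S).obj D))
  haveI : IsAffine E.obj.left.left := by rw [hED]; infer_instance
  obtain ⟨s, hs⟩ := hG
  have hex : ∃ e : sectModEt G E, e ≠ 0 := by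
    by_contra hno
    push Not at hno
    refine hs (eq_of_cover G (E := EtOver.bcObj hi a.U)
      (c := fun B : (EtOver.bcObj hi a.U).obj.left.left.affineOpens => openι _ B.1) (fun w => ?_) fun B => ?_)
    · obtain ⟨_, ⟨(B : (EtOver.bcObj hi a.U).obj.left.left.Opens), hB, rfl⟩, hwB, -⟩ :=
        (EtOver.bcObj hi a.U).obj.left.left.isBasis_affineOpens.exists_subset_of_mem_open (Set.mem_univ w) isOpen_univ
      exact ⟨⟨B, hB⟩, ⟨w, hwB⟩, rfl⟩
    · haveI : IsAffine (openObj (EtOver.bcObj hi a.U) B.1).obj.left.left := B.2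
      let g : openObj (EtOver.bcObj hi a.U) B.1 ⟶ E := hE.from _
      letI := (pb g).toAlgebra
      obtain ⟨y, hy⟩ := (bc_of_isQuasicoherent G g).2 (res G (openι _ B.1) s)
      have hy0 : y = 0 := by
        clear hy
        induction y using TensorProduct.induction_on with
        | zero => rfl
        | tmul b m => rw [hno m, TensorProduct.tmul_zero]
        | add x y hx hy => rw [hx, hy, add_zero]
      show res G (openι _ B.1) s = res G (openι _ B.1) 0
      rw [← hy, hy0, map_zero, map_zero]
  obtain ⟨e, he⟩ := hex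
  let m : sectModEt ((pushModEt hi).obj G) a.U := res G (hE.from (EtOver.bcObj hi a.U)) e
  refine ⟨m, fun W _ g h => ?_, fun hm => he ?_⟩
  · show res G (EtOver.bcMap hi g) (res G _ e) = res G (EtOver.bcMap hi h) (res G _ e)
    rw [← res_comp, ← res_comp, hE.hom_ext (EtOver.bcMap hi g ≫ hE.from _) (EtOver.bcMap hi h ≫ hE.from _)]
  · refine eq_of_cover G (c := fun _ : PUnit.{u + 1} => hE.from (EtOver.bcObj hi a.U)) (fun e' => ?_) fun _ => ?_
    · have hsur : RepWith @Surjective a.U.obj.hom :=
        repWith_surjective_of_map a.U.property.1 (fun x => by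
          obtain ⟨u, hu⟩ := a.surj x
          exact ⟨Points.ofScheme _ u, by rw [← hu, Points.ofPt_eq_map_ofScheme]⟩)
      let p₀ : EtOver.bcObj hi a.U ⟶ EtOver.mk (𝟙 ((yon S).obj D)) (MorphismProperty.id_mem _ _) :=
        EtOver.homMk ((yon S).preimage (hi.fst a.U.obj.hom)) (by rw [Functor.map_preimage]; exact Category.comp_id _)
      haveI : Surjective p₀.hom.left.left := repWith_prop hsur
        (show IsPullback ((yon S).map (EtOver.bcπ hi a.U)) ((yon S).map p₀.hom.left) a.U.obj.hom i by
          show IsPullback _ ((yon S).map ((yon S).preimage (hi.fst a.U.obj.hom))) _ _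
          rw [Functor.map_preimage]
          exact (hi.isPullback a.U.obj.hom).flip)
      let inv : EtOver.mk (𝟙 ((yon S).obj D)) (MorphismProperty.id_mem _ _) ⟶ E := hE.from _
      let fw : E ⟶ EtOver.mk (𝟙 ((yon S).obj D)) (MorphismProperty.id_mem _ _) :=
        EtOver.homMk ((yon S).preimage E.obj.hom) (by rw [Functor.map_preimage]; exact Category.comp_id _)
      obtain ⟨w, hw⟩ := p₀.hom.left.left.surjective (fw.hom.left.left e')
      refine ⟨PUnit.unit, w, ?_⟩
      show (hE.from (EtOver.bcObj hi a.U)).hom.left.left w = e'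
      rw [hE.hom_ext (hE.from (EtOver.bcObj hi a.U)) (p₀ ≫ inv)]
      show (p₀.hom.left.left ≫ inv.hom.left.left) w = e'
      rw [Scheme.Hom.comp_apply, hw, ← Scheme.Hom.comp_apply]
      exact congrArg (fun k => k.hom.left.left e') (hE.hom_ext (fw ≫ inv) (𝟙 E))
    · rw [map_zero]
      exact hm

variable {S : Scheme.{u}} [QuasiSeparatedSpace S] (X : AlgSp.Space S) (hqc : IsQuasiCompactSp X.obj)
  (hqs : IsQuasiSeparatedSp X.obj) (hN : IsLocNoethSp X.obj) (a : Atlas X.obj)

/-- The submodule `I M`. -/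
def smulSub {I : IdealEt X.obj} (hI : I.IsQCoh) (M : ModEt X.obj) [M.IsQuasicoherent] : SubQcoh.AffSub M where
  P E hE := I.ideal E hE • (⊤ : Submodule (Γ₀ E) (sectModEt M E))
  res_mem {E E'} hE hE' g {s} hs := by
    haveI := hE
    haveI := hE'
    refine Submodule.smul_induction_on hs (fun r hr n _ => ?_) (fun x y hx hy => ?_)
    · rw [res_smul]
      exact Submodule.smul_mem_smul (I.map_le g hE hE' (Ideal.mem_map_of_mem _ hr)) Submodule.mem_top
    · rw [map_add]; exact add_mem hx hy
  mem_span {E E'} hE hE' g {z} hz := by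
    haveI := hE
    haveI := hE'
    letI := (pb g).toAlgebra
    let J : Submodule (Γ₀ E') (sectModEt M E') := Submodule.span (Γ₀ E')
      (res M g '' ((I.ideal E hE • (⊤ : Submodule (Γ₀ E) (sectModEt M E)) : Submodule (Γ₀ E) (sectModEt M E)) :
        Set (sectModEt M E)))
    show z ∈ J
    refine Submodule.smul_induction_on hz (fun r hr n hn => ?_) (fun x y hx hy => add_mem hx hy)
    · clear hn
      obtain ⟨y, rfl⟩ := (bc_of_isQuasicoherent M g).2 n
      have hr' : r ∈ (I.ideal E hE).map (pb g) := hI g hE hE' hr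
      clear hr
      have key : ∀ b : Γ₀ E', ∀ m : sectModEt M E, (r * b) • res M g m ∈ J := by
        intro b m
        rw [Ideal.map] at hr'
        induction hr' using Submodule.span_induction generalizing b with
        | mem x hx =>
          obtain ⟨i, hi, rfl⟩ := hx
          rw [mul_comm, mul_smul, ← res_smul]
          exact Submodule.smul_mem _ b (Submodule.subset_span ⟨_, Submodule.smul_mem_smul hi Submodule.mem_top, rfl⟩)
        | zero => rw [zero_mul, zero_smul]; exact zero_mem _
        | add x y _ _ hx hy => rw [add_mul, add_smul]; exact add_mem (hx b) (hy b)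
        | smul c x _ hx => rw [smul_eq_mul, mul_comm c x, mul_assoc]; exact hx (c * b)
      clear hr'
      induction y using TensorProduct.induction_on with
      | zero => rw [map_zero, smul_zero]; exact zero_mem _
      | tmul b m => rw [θ_tmul, smul_smul]; exact key b m
      | add x y hx hy => rw [map_add, smul_add]; exact add_mem hx hy

include hqs in
set_option maxHeartbeats 1600000 in
/-- A non-zero coherent module has a point of its support which is closed. -/
theorem exists_closed_supp (hqc : IsQuasiCompactSp X.obj) (N : ModEt X.obj) [N.IsFinitePresentation]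
    (hne : ∃ s : sectModEt N a.U, s ≠ 0) :
    ∃ u : a.U.obj.left.left, IsClosed ({Points.ofPt a.U.obj.hom u} : Set (Points X.obj)) ∧
      Module.annihilator (Γ₀ a.U) (sectModEt N a.U) ≤ primeAtPt a.U.obj.left.left u := by
  let T : Set (Points X.obj) := Points.ofPt a.U.obj.hom ''
    {u | Module.annihilator (Γ₀ a.U) (sectModEt N a.U) ≤ primeAtPt a.U.obj.left.left u}
  haveI := finite_sectModEt N a.U
  have hsat : ∀ u v, Points.ofPt a.U.obj.hom u = Points.ofPt a.U.obj.hom v →
      Module.annihilator (Γ₀ a.U) (sectModEt N a.U) ≤ primeAtPt a.U.obj.left.left u →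
      Module.annihilator (Γ₀ a.U) (sectModEt N a.U) ≤ primeAtPt a.U.obj.left.left v := by
    classical
    intro u v huv hu r hr
    by_contra hrv
    obtain ⟨W, hW, g₁, g₂, w, hw₁, hw₂⟩ := Groth.L09.ModEt.exists_common u v huv
    haveI := hW
    obtain ⟨gens, hgens⟩ := Module.Finite.fg_top (R := Γ₀ a.U) (M := sectModEt N a.U)
    letI := (pb g₂).toAlgebra
    have hkill : ∀ m : sectModEt N W, pb g₂ r • m = 0 := fun m => by
      obtain ⟨y, rfl⟩ := (bc_of_isQuasicoherent N g₂).2 m
      induction y using TensorProduct.induction_on with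
      | zero => rw [map_zero, smul_zero]
      | tmul b n =>
        rw [θ_tmul, smul_comm, ← res_smul, Module.mem_annihilator.1 hr n, map_zero, smul_zero]
      | add x y hx hy => rw [map_add, smul_add, hx, hy, add_zero]
    obtain ⟨_, ⟨(B : W.obj.left.left.Opens), hB, rfl⟩, hwB, hBr⟩ :=
      W.obj.left.left.isBasis_affineOpens.exists_subset_of_mem_open
        (show w ∈ (W.obj.left.left.basicOpen (pb g₂ r) : Set W.obj.left.left) from
          Groth.L23.CohSupp.mem_basicOpen (fun h => hrv (by
            rw [← hw₂, ← comap_primeAtPt g₂.hom.left.left w]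
            exact Ideal.mem_comap.2 h)))
        (W.obj.left.left.basicOpen (pb g₂ r)).isOpen
    let V := openObj W B
    haveI : IsAffine V.obj.left.left := hB
    have hres : ∀ m : sectModEt N a.U, res N (openι W B ≫ g₁) m = 0 := fun m => by
      have hu' : IsUnit (pb (openι W B) (pb g₂ r)) := by
        have h1 := Groth.L23.CohSupp.isUnit_appTop_basicOpen (pb g₂ r)
        have hle : B ≤ W.obj.left.left.basicOpen (pb g₂ r) := hBr
        have h2 := RingHom.isUnit_map ((W.obj.left.left.homOfLE hle).appTop).hom h1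
        rw [← RingHom.comp_apply, ← CommRingCat.hom_comp, ← Scheme.Hom.comp_appTop, Scheme.homOfLE_ι] at h2
        exact h2
      have := congrArg (res N (openι W B)) (hkill (res N g₁ m))
      rw [map_zero, res_smul, ← res_comp] at this
      exact @eq_zero_of_isUnit_smul _ _ _ _ (secModule N (openObj W B)) _ hu' _ this
    have hnot : ∀ m : sectModEt N a.U, ∃ c ∈ annSect m, c ∉ primeAtPt a.U.obj.left.left u := fun m => by
      have h := Groth.L23.CohSupp.not_annSect_le N (openι W B ≫ g₁) (hres m) ⟨w, hwB⟩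
      rw [show (openι W B ≫ g₁).hom.left.left ⟨w, hwB⟩ = u from hw₁] at h
      exact Set.not_subset.1 h
    choose c hc hcu using hnot
    have hprod : (∏ m ∈ gens, c m) ∈ Module.annihilator (Γ₀ a.U) (sectModEt N a.U) := by
      rw [← Submodule.annihilator_top, ← hgens, Submodule.mem_annihilator_span]
      rintro ⟨m, hm⟩
      rw [← Finset.mul_prod_erase gens c hm, mul_comm, mul_smul, show c m • m = 0 from hc m, smul_zero]
    have hup := hu hprod
    haveI := isPrime_primeAtPt a.U.obj.left.left u
    obtain ⟨m, -, hm⟩ := (Ideal.IsPrime.prod_mem_iff).1 hup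
    exact hcu m hm
  have hpre : Points.ofPt a.U.obj.hom ⁻¹' T =
      {u | Module.annihilator (Γ₀ a.U) (sectModEt N a.U) ≤ primeAtPt a.U.obj.left.left u} :=
    Set.ext fun v => ⟨fun ⟨u, hu, he⟩ => hsat u v he hu, fun hv => ⟨v, hv, rfl⟩⟩
  have hTc : IsClosed T := by
    have hq : Topology.IsQuotientMap (Points.ofPt a.U.obj.hom) :=
      (isOpenMap_ofPt a.U.property).isQuotientMap (Points.continuous_ofPt _) a.surj
    rw [← hq.isClosed_preimage, hpre]
    have : {u | Module.annihilator (Γ₀ a.U) (sectModEt N a.U) ≤ primeAtPt a.U.obj.left.left u} =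
        a.U.obj.left.left.toSpecΓ ⁻¹' PrimeSpectrum.zeroLocus
          (Module.annihilator (Γ₀ a.U) (sectModEt N a.U) : Set (Γ₀ a.U)) :=
      Set.ext fun v => by
        rw [Set.mem_preimage, PrimeSpectrum.mem_zeroLocus, Set.mem_setOf_eq, primeAtPt_eq]
        rfl
    rw [this]
    exact (PrimeSpectrum.isClosed_zeroLocus _).preimage a.U.obj.left.left.toSpecΓ.continuous
  have hTn : T.Nonempty := by
    obtain ⟨s, hs⟩ := hne
    have hann : Module.annihilator (Γ₀ a.U) (sectModEt N a.U) ≠ ⊤ := fun h => hs (by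
      have := Module.mem_annihilator.1 ((Ideal.eq_top_iff_one _).1 h) s
      rwa [one_smul] at this)
    obtain ⟨m, hm, hle⟩ := Ideal.exists_le_maximal _ hann
    haveI := hm.isPrime
    obtain ⟨u, hu⟩ := exists_primeAtPt a.U.obj.left.left m
    exact ⟨_, u, hle.trans hu.ge, rfl⟩
  haveI := compactSpace_of_qcSp hqc
  haveI := Pt.t0Space_of_isDecent X.property (Groth.Agent.S10350.result X hqs)
  obtain ⟨x, ⟨u, hu, rfl⟩, hx⟩ := IsClosed.exists_closed_singleton hTc hTn
  exact ⟨u, hx, hu⟩

include hN in
set_option maxHeartbeats 1600000 in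
/-- The quotient of a coherent module by an ideal through a point of its support. -/
theorem exists_quot {I : IdealEt X.obj} (hI : I.IsQCoh) (N : ModEt X.obj) [N.IsFinitePresentation]
    {u : a.U.obj.left.left} (hIu : I.ideal a.U a.aff ≤ primeAtPt a.U.obj.left.left u)
    (hann : Module.annihilator (Γ₀ a.U) (sectModEt N a.U) ≤ primeAtPt a.U.obj.left.left u) :
    ∃ C : ShortComplex (ModEt X.obj), C.ShortExact ∧ C.X₂ = N ∧ C.X₁.IsQuasicoherent ∧ C.X₃.IsFinitePresentation ∧
      (∀ (E : EtOver X.obj) (hE : IsAffine E.obj.left.left) (t : sectModEt C.X₃ E),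
        I.ideal E hE ≤ annSect t) ∧
      ∃ t : sectModEt C.X₃ a.U, t ≠ 0 := by
  let A := smulSub X hI N
  haveI := A.isQuasicoherent
  haveI := QcClosure.isQuasicoherent_cokernel A.ι
  haveI := FP.isFiniteType_of_epi (cokernel.π A.ι)
  haveI hQ : (cokernel A.ι).IsFinitePresentation :=
    FP.isFinitePresentation_of_finite hN _ fun E _ => finite_sectModEt _ E
  let C := ShortComplex.mk A.ι (cokernel.π A.ι) (cokernel.condition A.ι)
  have hC : C.ShortExact :=
    { exact := ShortComplex.cokernelSequence_exact _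
      mono_f := inferInstanceAs (Mono A.ι)
      epi_g := inferInstanceAs (Epi (cokernel.π A.ι)) }
  have hsurj : ∀ (E : EtOver X.obj) [IsAffine E.obj.left.left],
      Function.Surjective (CohNbhd.app₀ (cokernel.π A.ι) E) := fun E _ =>
    Groth.L09.EtCoh.surjective_app (ModVanish.shortExact_toAb hC) (Groth.L09.EtCoh.cok_of_isQuasicoherent A.mod) E
  have hkill : ∀ (E : EtOver X.obj) (hE : IsAffine E.obj.left.left) (t : sectModEt (cokernel A.ι) E),
      I.ideal E hE ≤ annSect t := fun E hE t r hr => by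
    haveI := hE
    obtain ⟨n, rfl⟩ := hsurj E t
    show r • CohNbhd.app₀ (cokernel.π A.ι) E n = 0
    rw [← map_smul]
    obtain ⟨x, hx⟩ : r • n ∈ Set.range (A.ι.val.app (op E)).hom := by
      rw [SubQcoh.AffSub.range_ι A E]
      exact Submodule.smul_mem_smul hr Submodule.mem_top
    rw [← hx]
    exact (QcClosure.app₀_comp A.ι (cokernel.π A.ι) E x).symm.trans
      (QcClosure.app₀_of_eq_zero _ (cokernel.condition A.ι) E x)
  refine ⟨C, hC, rfl, inferInstanceAs A.mod.IsQuasicoherent, hQ, hkill, ?_⟩
  by_contra hno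
  push Not at hno
  have hle : (⊤ : Submodule (Γ₀ a.U) (sectModEt N a.U)) ≤ I.ideal a.U a.aff • ⊤ := fun n _ => by
    haveI : Mono C.f := inferInstanceAs (Mono A.ι)
    obtain ⟨x, hx⟩ := QcClosure.exists_preimage C hC.exact (E := a.U) (y := n) (hno _)
    have hn : n ∈ A.P a.U := by
      rw [← SetLike.mem_coe, ← SubQcoh.AffSub.range_ι A a.U]
      exact ⟨x, hx⟩
    exact hn
  haveI := finite_sectModEt N a.U
  obtain ⟨r, hr1, hr⟩ := Submodule.exists_sub_one_mem_and_smul_eq_zero_of_fg_of_le_smul (I.ideal a.U a.aff) ⊤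
    Module.Finite.fg_top hle
  have hru : r ∈ primeAtPt a.U.obj.left.left u :=
    hann (Module.mem_annihilator.2 fun n => hr n Submodule.mem_top)
  refine (isPrime_primeAtPt a.U.obj.left.left u).one_notMem ?_
  have := sub_mem hru (hIu hr1)
  rwa [sub_sub_cancel] at this

include hqc hqs hN in
set_option maxHeartbeats 1600000 in
/-- A coherent module without global sections vanishes on the atlas. -/
theorem eq_zero_of_GS_eq_bot (h1 : Lifting a)
    (N : ModEt X.obj) [N.IsFinitePresentation] (hGS : GS a N = ⊥) (s : sectModEt N a.U) : s = 0 := by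
  by_contra hs
  obtain ⟨u, hu, hann⟩ := exists_closed_supp X hqs a hqc N ⟨s, hs⟩
  obtain ⟨p, hp, hi⟩ := Groth.Agent.S10359.result X (Groth.Agent.S10350.result X hqs) _ hu
  let Z : AlgSp.Space S := ⟨(yon S).obj p.pt, IsAlgSpace.yon_obj _⟩
  let i : Z ⟶ X := ObjectProperty.homMk p.toHom
  haveI : IsAffine p.pt.left := inferInstanceAs (IsAffine (Spec _))
  haveI : IsLocallyNoetherian p.pt.left := inferInstanceAs (IsLocallyNoetherian (Spec (CommRingCat.of p.K)))
  have hZN : IsLocNoethSp Z.obj :=
    ⟨p.pt, 𝟙 _, repWith_of_isIso _, repWith_of_isIso _, inferInstance⟩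
  let I : IdealEt X.obj := idealOfRep hi.1
  have hI : I.IsQCoh := CutOut.idealOfRep_isQCoh (CutOut.repWith_quasiCompact_of_closedImmersion hi)
  have hZ : IsCutOutBy I i.hom := ⟨hi, rfl⟩
  have hIu : I.ideal a.U a.aff ≤ primeAtPt a.U.obj.left.left u :=
    (Groth.L23.CohSupp.ofPt_mem_range_iff hZ a.U u).1
      ⟨Points.ofScheme _ (IsLocalRing.closedPoint p.K), by
        show Points.map p.toHom _ = _
        rw [← hp]
        exact (Points.ofPt_eq_map_ofScheme _ _).symm.trans (Points.ofPt_toHom p _)⟩
  obtain ⟨C, hC, hC₂, hC₁, hQ, hkill, hne⟩ := exists_quot X hN a hI N hIu hann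
  subst hC₂
  obtain ⟨G, hG, ⟨e⟩⟩ := (Groth.Agent.S10756.result i hi hN hZN I hI hZ).2 _ hQ hkill
  haveI := hG
  obtain ⟨t, ht⟩ := hne
  have hG' : ∃ t' : sectModEt ((pushModEt hi.1).obj G) a.U, t' ≠ 0 := by
    refine ⟨CohNbhd.app₀ e.inv a.U t, fun h => ht ?_⟩
    have h2 := congrArg (CohNbhd.app₀ e.hom a.U) h
    rw [map_zero, ← QcClosure.app₀_comp] at h2
    exact (QcClosure.app₀_comp e.inv e.hom a.U t).trans (h2) |> fun h => by
      rw [← h2, Iso.inv_hom_id]; rfl
  obtain ⟨m, hm, hm0⟩ := exists_GS_push a hi.1 G hG'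
  obtain ⟨l, hl, hl'⟩ := h1 C hC hC₁ inferInstance (CohNbhd.app₀ e.hom a.U m) (app_mem_GS e.hom hm)
  have hl0 : l = 0 := (Submodule.eq_bot_iff _).1 hGS l hl
  rw [hl0, map_zero] at hl'
  refine hm0 ?_
  have h3 := congrArg (CohNbhd.app₀ e.inv a.U) hl'.symm
  rw [map_zero, ← QcClosure.app₀_comp, Iso.hom_inv_id] at h3
  exact h3

include hqc hqs hN in
set_option maxHeartbeats 1600000 in
/-- On a Noetherian space without first cohomology, quasi-coherent modules are generated by global sections. -/
theorem generates (h1 : Lifting a) :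
    Generates a := by
  intro Q hQ hGS
  haveI := hQ
  refine (IsZero.iff_id_eq_zero Q).2 (CohUnion.eq_zero_of_coherent X hqc hqs hN Q (𝟙 Q) fun N j hj hN' => ?_)
  rw [Category.comp_id]
  haveI := hN'
  haveI := hj
  have hGS' : GS a N = ⊥ := (Submodule.eq_bot_iff _).2 fun m hm => by
    apply FP.injective_app₀ j a.U
    rw [map_zero]
    exact (Submodule.eq_bot_iff _).1 hGS _ (app_mem_GS j hm)
  have h0 := eq_zero_of_GS_eq_bot X hqc hqs hN a h1 N hGS'
  refine SheafOfModules.hom_ext (PresheafOfModules.hom_ext fun E => ModuleCat.hom_ext (LinearMap.ext fun x => ?_))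
  show CohNbhd.app₀ j E.unop x = 0
  have hx : x = 0 := by
    choose W hW g h hg using exists_nhd (a := a) E.unop
    refine eq_of_cover N (c := g) (fun e => ⟨e, hg e⟩) fun e => ?_
    haveI := hW e
    letI := (pb (h e)).toAlgebra
    obtain ⟨y, hy⟩ := (bc_of_isQuasicoherent N (h e)).2 (res N (g e) x)
    rw [map_zero, ← hy]
    clear hy
    induction y using TensorProduct.induction_on with
    | zero => rw [map_zero]
    | tmul b m => rw [θ_tmul, h0 m, map_zero, smul_zero]
    | add y y' hy hy' => rw [map_add, hy, hy', add_zero]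
  rw [hx, map_zero]

omit [QuasiSeparatedSpace S] in
theorem app₀_factor {T : Sp S} {A B D I : ModEt T} (j : A ⟶ B) (g : B ⟶ D) (p : A ⟶ I) (i : I ⟶ D)
    (e : p ≫ i = j ≫ g) {E : EtOver T} {t : sectModEt A E} {x : sectModEt B E} {m : sectModEt D E}
    (h : CohNbhd.app₀ j E t = x) (h' : CohNbhd.app₀ g E x = m) :
    CohNbhd.app₀ i E (CohNbhd.app₀ p E t) = m := by
  rw [← QcClosure.app₀_comp, e, QcClosure.app₀_comp, h, h']

omit [QuasiSeparatedSpace S] in
theorem mem_GS_of_mono {I D : ModEt X.obj} (i : I ⟶ D) [Mono i] {y : sectModEt I a.U}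
    (h : CohNbhd.app₀ i a.U y ∈ GS a D) : y ∈ GS a I := fun W _ g g' => by
  apply FP.injective_app₀ i W
  rw [CohNbhd.app₀_res, CohNbhd.app₀_res]
  exact h W g g'

include hqc hqs hN in
set_option maxHeartbeats 1600000 in
/-- Without first cohomology of coherent modules, global sections lift along surjections. -/
theorem lifting_of_coh (h1 : ∀ M : ModEt X.obj, M.IsFinitePresentation → Subsingleton (HModEt X.obj M 1)) :
    Lifting a := by
  intro C hC h₁ h₂ m hm
  haveI := h₁
  haveI := h₂
  obtain ⟨x, hx⟩ := Groth.L09.EtCoh.surjective_app (ModVanish.shortExact_toAb hC)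
    (Groth.L09.EtCoh.cok_of_isQuasicoherent C.X₁) a.U m
  obtain ⟨N, j, hj, hN', t, ht⟩ := GenSub.exists_coherent_mem X hqc hqs hN C.X₂ a.U x
  haveI := hN'
  let φ : N ⟶ C.X₃ := j ≫ C.g
  let C' := ShortComplex.mk (kernel.ι (Abelian.factorThruImage φ)) (Abelian.factorThruImage φ) (kernel.condition _)
  have hC' : C'.ShortExact :=
    { exact := ShortComplex.kernelSequence_exact _
      mono_f := inferInstanceAs (Mono (kernel.ι _))
      epi_g := inferInstanceAs (Epi (Abelian.factorThruImage φ)) }
  haveI : C.X₃.IsQuasicoherent :=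
    (Groth.Agent.S10240.result X).2.2 C hC |>.1 h₁ h₂
  haveI := QcClosure.isQuasicoherent_cokernel φ
  haveI : (Abelian.image φ).IsQuasicoherent := QcClosure.isQuasicoherent_kernel (cokernel.π φ)
  haveI := QcClosure.isQuasicoherent_kernel (Abelian.factorThruImage φ)
  haveI hK : C'.X₁.IsFinitePresentation := Groth.Agent.S10744.result X hN (kernel.ι (Abelian.factorThruImage φ))
  haveI := h1 _ hK
  have ht' : CohNbhd.app₀ j a.U t = x := ht
  have hx' : CohNbhd.app₀ C.g a.U x = m := hx
  have himg : CohNbhd.app₀ (Abelian.image.ι φ) a.U (CohNbhd.app₀ (Abelian.factorThruImage φ) a.U t) = m :=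
    app₀_factor j C.g (Abelian.factorThruImage φ) (Abelian.image.ι φ) (Abelian.image.fac φ) ht' hx'
  have hmem : CohNbhd.app₀ (Abelian.factorThruImage φ) a.U t ∈ GS a (Abelian.image φ) :=
    mem_GS_of_mono X a (Abelian.image.ι φ) (by rw [himg]; exact hm)
  obtain ⟨l, hl, hl'⟩ := exists_lift hC' hmem
  refine ⟨CohNbhd.app₀ j a.U l, app_mem_GS j hl, ?_⟩
  exact (app₀_factor j C.g (Abelian.factorThruImage φ) (Abelian.image.ι φ) (Abelian.image.fac φ) rfl rfl).symm.trans
    ((congrArg _ hl').trans himg)

end Groth.L23.NoethGen
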