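import Groth.Agent.L23.HomDesc
import Groth.Agent.L23.NoethGen
import Groth.Agent.L23.Univ
import Groth.Agent.L09.EtColim.EtSite
import Groth.Agent.S10735
import Groth.Agent.S10744
import Groth.Agent.S10751
import Groth.Agent.S10754
import Groth.Agent.S12196

/-!
# A Noetherian space with a finite surjective map from an affine scheme is affine
-/

universe u

open CategoryTheory CategoryTheory.Limits AlgebraicGeometry Opposite AlgSp TensorProduct

set_option autoImplicit false
set_option linter.style.haveILetI false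
set_option backward.isDefEq.respectTransparency false
set_option backward.isDefEq.respectTransparency.types false

noncomputable section

namespace Groth.L23.ChevNoeth

open Groth.L09.ModEt Groth.L23.GlobSec
open scoped Groth.L23.HomDesc

variable {S : Scheme.{u}} {X : Sp S}

/-- A map out of a quasi-coherent module vanishing on the atlas vanishes. -/
theorem eq_zero_of_atlas (a : Atlas X) {A B : ModEt X} [A.IsQuasicoherent] (φ : A ⟶ B)
    (h : ∀ s : sectModEt A a.U, CohNbhd.app₀ φ a.U s = 0) : φ = 0 := by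
  refine SheafOfModules.hom_ext (PresheafOfModules.hom_ext fun E => ModuleCat.hom_ext (LinearMap.ext fun x => ?_))
  show CohNbhd.app₀ φ E.unop x = 0
  choose W hW g k hg using exists_nhd (a := a) E.unop
  refine eq_of_cover B (c := g) (fun e => ⟨e, hg e⟩) fun e => ?_
  haveI := hW e
  letI := (pb (k e)).toAlgebra
  obtain ⟨y, hy⟩ := (bc_of_isQuasicoherent A (k e)).2 (res A (g e) x)
  rw [map_zero, ← CohNbhd.app₀_res, ← hy]
  clear hy
  induction y using TensorProduct.induction_on with
  | zero => rw [map_zero, map_zero]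
  | tmul b m => rw [θ_tmul, map_smul, CohNbhd.app₀_res, h m, map_zero, smul_zero]
  | add y y' hy hy' => rw [map_add, map_add, hy, hy', add_zero]

theorem subsingleton_h_of_isZero {Q : ModEt X} (h : 𝟙 Q = 0) (n : ℕ) : Subsingleton (HModEt X Q n) := by
  have h0 : ∀ x : HModEt X Q n, x = 0 := fun x => by
    have hx : x.comp (Abelian.Ext.mk₀ ((toAbEt X).map (𝟙 Q))) (add_zero n) = x := by
      rw [CategoryTheory.Functor.map_id, Abelian.Ext.comp_mk₀_id]
    rw [← hx, h, CategoryTheory.Functor.map_zero, Abelian.Ext.mk₀_zero, Abelian.Ext.comp_zero]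
  exact ⟨fun x y => (h0 x).trans (h0 y).symm⟩

theorem subsingleton_h₂ {C : ShortComplex (ModEt X)} (hC : C.ShortExact) (n : ℕ)
    [Subsingleton (HModEt X C.X₁ n)] [Subsingleton (HModEt X C.X₃ n)] : Subsingleton (HModEt X C.X₂ n) := by
  have h0 : ∀ x : HModEt X C.X₂ n, x = 0 := fun x => by
    haveI : Subsingleton (Abelian.Ext (Groth.L09.EtCoh.zSh X) (C.map (toAbEt X)).X₁ n) :=
      inferInstanceAs (Subsingleton (HModEt X C.X₁ n))
    haveI : Subsingleton (Abelian.Ext (Groth.L09.EtCoh.zSh X) (C.map (toAbEt X)).X₃ n) :=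
      inferInstanceAs (Subsingleton (HModEt X C.X₃ n))
    obtain ⟨y, hy⟩ := Abelian.Ext.covariant_sequence_exact₂ _ (ModVanish.shortExact_toAb hC)
      (x : Abelian.Ext (Groth.L09.EtCoh.zSh X) (C.map (toAbEt X)).X₂ n) (Subsingleton.elim _ _)
    rw [← hy, Subsingleton.elim y 0, Abelian.Ext.zero_comp]
  exact ⟨fun x y => (h0 x).trans (h0 y).symm⟩

theorem subsingleton_h₃ {C : ShortComplex (ModEt X)} (hC : C.ShortExact) (n : ℕ)
    [Subsingleton (HModEt X C.X₂ n)] [Subsingleton (HModEt X C.X₁ (n + 1))] : Subsingleton (HModEt X C.X₃ n) := by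
  have h0 : ∀ x : HModEt X C.X₃ n, x = 0 := fun x => by
    haveI : Subsingleton (Abelian.Ext (Groth.L09.EtCoh.zSh X) (C.map (toAbEt X)).X₂ n) :=
      inferInstanceAs (Subsingleton (HModEt X C.X₂ n))
    haveI : Subsingleton (Abelian.Ext (Groth.L09.EtCoh.zSh X) (C.map (toAbEt X)).X₁ (n + 1)) :=
      inferInstanceAs (Subsingleton (HModEt X C.X₁ (n + 1)))
    obtain ⟨y, hy⟩ := Abelian.Ext.covariant_sequence_exact₃ _ (ModVanish.shortExact_toAb hC)
      (x : Abelian.Ext (Groth.L09.EtCoh.zSh X) (C.map (toAbEt X)).X₃ n) rfl (Subsingleton.elim _ _)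
    rw [← hy, Subsingleton.elim y 0, Abelian.Ext.zero_comp]
  exact ⟨fun x y => (h0 x).trans (h0 y).symm⟩

theorem shortExact_kernel_of_epi {A B : ModEt X} (π : A ⟶ B) [Epi π] :
    (ShortComplex.mk (kernel.ι π) π (kernel.condition π)).ShortExact :=
  { exact := ShortComplex.kernelSequence_exact _
    mono_f := inferInstanceAs (Mono (kernel.ι π))
    epi_g := inferInstanceAs (Epi π) }

section Vanish

variable [QuasiSeparatedSpace S] (X : AlgSp.Space S) (hqc : IsQuasiCompactSp X.obj)
  (hqs : IsQuasiSeparatedSp X.obj) (hN : IsLocNoethSp X.obj) (D : Over S) [IsAffine D.left]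
  (q : (yon S).obj D ⟶ X.obj) (hfin : IsFiniteMor q) (hsurj : IsSurjectiveMor q)
  (hP : ∀ (E E' : EtOver X.obj), IsAffine E.obj.left.left → IsAffine E'.obj.left.left →
    IsAffine (EtOver.prodObj E E').obj.left.left)

include hqc hqs hN hfin hsurj hP

set_option maxHeartbeats 1600000 in
/-- Coherent modules have no higher cohomology. -/
theorem subsingleton_h (n : ℕ) (hn : 1 ≤ n) :
    ∀ M : ModEt X.obj, M.IsFinitePresentation → Subsingleton (HModEt X.obj M n) := by
  obtain ⟨N, hNb⟩ := Groth.Agent.S12196.result X hqc hqs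
  suffices H : ∀ k m, 1 ≤ m → N ≤ m + k →
      ∀ M : ModEt X.obj, M.IsFinitePresentation → Subsingleton (HModEt X.obj M m) from H N n hn (by omega)
  intro k
  induction k with
  | zero => exact fun m _ hm M hM => hNb M (haveI := hM; inferInstance) m hm
  | succ k ih =>
  intro m hm hmk F hF
  haveI := hF
  have hnext : ∀ M : ModEt X.obj, M.IsFinitePresentation → Subsingleton (HModEt X.obj M (m + 1)) :=
    ih (m + 1) (by omega) (by omega)
  obtain ⟨a⟩ := nonempty_atlas X hqc hqs
  have hq : Representable q := X.property.representable_from_yon q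
  have hfa : RepWith @IsFinite q := Groth.L23.isFiniteMor_iff.1 hfin
  have haff : RepWith @IsAffineHom q :=
    repWith_mono (fun φ (_ : IsFinite φ) => inferInstanceAs (IsAffineHom φ)) hfa
  have hs : RepWith @Surjective q := repWith_surjective_of_map hq hsurj
  have hnoeth : ∀ (E : EtOver X.obj) [IsAffine E.obj.left.left], IsNoetherianRing (Γ₀ E) :=
    fun E _ => FP.isNoetherianRing_Γ₀ hN E
  haveI := Groth.L23.FLF.isQuasicoherent_unit ((yon S).obj D)
  haveI hMDq : (MD q hq).IsQuasicoherent := PushAff.isQuasicoherent_push hq _ haff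
  haveI hMD : (MD q hq).IsFinitePresentation := FP.isFinitePresentation_of_finite hN _ fun E _ => by
    haveI := hnoeth E
    haveI := HomDesc.finite_bc hq hfa E
    exact Module.Finite.of_injective (HomDesc.fnE hq E) fun x y h => ULift.ext _ _ h
  haveI hMD0 : Subsingleton (HModEt X.obj (MD q hq) m) := by
    let Z : AlgSp.Space S := ⟨(yon S).obj D, IsAlgSpace.yon_obj _⟩
    obtain ⟨e⟩ := Groth.Agent.S10751.result (X := Z) (Y := X) (ObjectProperty.homMk q) hq
      (Groth.L23.isAffineMor_iff.2 haff) (unitModEt ((yon S).obj D)) m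
    haveI := Groth.Agent.S10754.result Z D inferInstance (Iso.refl _) (unitModEt ((yon S).obj D)) m hm
    exact e.symm.toEquiv.subsingleton
  by_contra hFm
  haveI := hnoeth a.U
  haveI := finite_sectModEt F a.U
  let 𝒩 : Set (Submodule (Γ₀ a.U) (sectModEt F a.U)) :=
    {P | ∃ (Q : ModEt X.obj) (π : F ⟶ Q), Epi π ∧ Q.IsFinitePresentation ∧
      LinearMap.ker (CohNbhd.app₀ π a.U) = P ∧ ¬ Subsingleton (HModEt X.obj Q m)}
  obtain ⟨P, ⟨Q, π, hπ, hQ, rfl, hQm⟩, hmax⟩ := wellFounded_gt.has_min 𝒩
    ⟨_, F, 𝟙 F, inferInstance, hF, rfl, hFm⟩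
  haveI := hπ
  haveI := hQ
  have hne : ∃ s : sectModEt Q a.U, s ≠ 0 := by
    by_contra h0
    push Not at h0
    exact hQm (subsingleton_h_of_isZero (eq_zero_of_atlas a (𝟙 Q) fun s => h0 s) m)
  obtain ⟨ψ, hψ⟩ := HomDesc.exists_hom_ne_zero hq Q hfa hnoeth hs hP hne
  obtain ⟨x, hx⟩ : ∃ x, CohNbhd.app₀ ψ a.U x ≠ 0 := by
    by_contra h0
    push Not at h0
    exact hψ (eq_zero_of_atlas a ψ h0)
  haveI := QcClosure.isQuasicoherent_cokernel ψ
  haveI := FP.isFiniteType_of_epi (cokernel.π ψ)
  haveI hQ' : (cokernel ψ).IsFinitePresentation :=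
    FP.isFinitePresentation_of_finite hN _ fun E _ => finite_sectModEt _ E
  haveI := QcClosure.isQuasicoherent_kernel (cokernel.π ψ)
  haveI hI : (Abelian.image ψ).IsFinitePresentation := Groth.Agent.S10744.result X hN (kernel.ι (cokernel.π ψ))
  haveI := QcClosure.isQuasicoherent_kernel (Abelian.factorThruImage ψ)
  haveI hK : (kernel (Abelian.factorThruImage ψ)).IsFinitePresentation :=
    Groth.Agent.S10744.result X hN (kernel.ι (Abelian.factorThruImage ψ))
  haveI : Subsingleton (HModEt X.obj (Abelian.image ψ) m) := by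
    haveI : Subsingleton (HModEt X.obj
        (ShortComplex.mk (kernel.ι (Abelian.factorThruImage ψ)) (Abelian.factorThruImage ψ)
          (kernel.condition _)).X₁ (m + 1)) := hnext _ hK
    exact subsingleton_h₃ (shortExact_kernel_of_epi (Abelian.factorThruImage ψ)) m
  refine hQm ?_
  haveI : Subsingleton (HModEt X.obj (cokernel ψ) m) := by
    by_contra hQ'm
    refine hmax _ ⟨cokernel ψ, π ≫ cokernel.π ψ, inferInstance, hQ', rfl, hQ'm⟩
      (lt_of_le_of_ne (fun y hy => ?_) fun heq => ?_)
    · show CohNbhd.app₀ (π ≫ cokernel.π ψ) a.U y = 0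
      rw [QcClosure.app₀_comp, LinearMap.mem_ker.1 hy, map_zero]
    · haveI := QcClosure.isQuasicoherent_kernel π
      obtain ⟨y, hy⟩ := Groth.L09.EtCoh.surjective_app (ModVanish.shortExact_toAb (shortExact_kernel_of_epi π))
        (Groth.L09.EtCoh.cok_of_isQuasicoherent (kernel π)) a.U (CohNbhd.app₀ ψ a.U x)
      have hy' : CohNbhd.app₀ π a.U y = CohNbhd.app₀ ψ a.U x := hy
      have hy0 : y ∈ LinearMap.ker (CohNbhd.app₀ π a.U) := by
        rw [heq]
        show CohNbhd.app₀ (π ≫ cokernel.π ψ) a.U y = 0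
        rw [QcClosure.app₀_comp, hy', ← QcClosure.app₀_comp, QcClosure.app₀_of_eq_zero _ (cokernel.condition ψ)]
      exact hx (hy'.symm.trans (LinearMap.mem_ker.1 hy0))
  haveI : Subsingleton (HModEt X.obj
      (ShortComplex.mk (kernel.ι (cokernel.π ψ)) (cokernel.π ψ) (kernel.condition _)).X₁ m) := ‹_›
  exact subsingleton_h₂ (shortExact_kernel_of_epi (cokernel.π ψ)) m

theorem exists_iso_of_pairs : ∃ T : Over S, IsAffine T.left ∧ Nonempty ((yon S).obj T ≅ X.obj) :=
  Groth.Agent.S10735.result X hqc hqs hN fun M hM => subsingleton_h X hqc hqs hN D q hfin hsurj hP 1 le_rfl M hM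

end Vanish

section General

variable [QuasiSeparatedSpace S] (X : AlgSp.Space S) (hqs : IsQuasiSeparatedSp X.obj) (hN : IsLocNoethSp X.obj)
  (D : Over S) [IsAffine D.left] (q : (yon S).obj D ⟶ X.obj) (hfin : IsFiniteMor q) (hsurj : IsSurjectiveMor q)

omit [QuasiSeparatedSpace S] in
include hfin in
theorem isAffine_bc_prod (E E' : EtOver X.obj) [IsAffine E.obj.left.left] [IsAffine E'.obj.left.left] :
    IsAffine (EtOver.bcObj (X.property.representable_from_yon q) (EtOver.prodObj E E')).obj.left.left := by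
  let hq := X.property.representable_from_yon q
  haveI := HomDesc.isAffine_bc hq (Groth.L23.isFiniteMor_iff.1 hfin) E
  haveI := HomDesc.isAffine_bc hq (Groth.L23.isFiniteMor_iff.1 hfin) E'
  let f₁ := EtOver.prodFst E E'
  let f₂ := EtOver.prodSnd E E'
  have hprod : IsPullback ((yon S).map f₁.hom.left) ((yon S).map f₂.hom.left) E.obj.hom E'.obj.hom := by
    show IsPullback ((yon S).map (E'.property.1.snd E.obj.hom)) ((yon S).map (E'.property.1.fst' E.obj.hom)) _ _
    rw [Functor.relativelyRepresentable.map_fst']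
    exact (E'.property.1.isPullback E.obj.hom).flip
  have τ := ((EtOver.isPullback_map_bcMap hq f₁).paste_vert hprod).flip
  rw [← Functor.map_comp, ← EtOver.bcMap_snd hq f₂, Functor.map_comp, ← (hq.isPullback E.obj.hom).w] at τ
  have hc : (EtOver.bcMap hq f₂).hom.left ≫ HomDesc.tD hq E' = (EtOver.bcMap hq f₁).hom.left ≫ HomDesc.tD hq E := by
    rw [HomDesc.bcMap_tD, HomDesc.bcMap_tD]
  have T : IsPullback ((yon S).map (EtOver.bcMap hq f₂).hom.left) ((yon S).map (EtOver.bcMap hq f₁).hom.left)
      ((yon S).map (HomDesc.tD hq E')) ((yon S).map (HomDesc.tD hq E)) := by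
    refine IsPullback.of_right (h₁₂ := (yon S).map (EtOver.bcπ hq E')) (h₂₂ := q) (v₁₃ := E'.obj.hom) ?_ ?_ ?_
    · simp only [HomDesc.tD, Functor.map_preimage]
      exact τ
    · rw [← Functor.map_comp, ← Functor.map_comp, hc]
    · simp only [HomDesc.tD, Functor.map_preimage]
      exact (hq.isPullback E'.obj.hom).flip
  haveI : IsAffine (pullback ((Over.forget S).map (HomDesc.tD hq E')) ((Over.forget S).map (HomDesc.tD hq E))) :=
    inferInstanceAs (IsAffine (pullback (HomDesc.tD hq E').left (HomDesc.tD hq E).left))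
  exact IsAffine.of_isIso ((IsPullback.of_map (yon S) hc T).map (Over.forget S)).isoPullback.hom

include hqs hN hfin hsurj in
set_option maxHeartbeats 1600000 in
theorem isAffine_prod (E E' : EtOver X.obj) [IsAffine E.obj.left.left] [IsAffine E'.obj.left.left] :
    IsAffine (EtOver.prodObj E E').obj.left.left := by
  let P := EtOver.prodObj E E'
  let hq := X.property.representable_from_yon q
  have hprod : IsPullback ((yon S).map (EtOver.prodFst E E').hom.left) ((yon S).map (EtOver.prodSnd E E').hom.left)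
      E.obj.hom E'.obj.hom := by
    show IsPullback ((yon S).map (E'.property.1.snd E.obj.hom)) ((yon S).map (E'.property.1.fst' E.obj.hom)) _ _
    rw [Functor.relativelyRepresentable.map_fst']
    exact (E'.property.1.isPullback E.obj.hom).flip
  haveI : CompactSpace P.obj.left.left := compactSpace_of_qs hqs hprod
  haveI hsep : P.obj.left.left.IsSeparated := by
    haveI := mono_prodLift hprod
    haveI : Mono (prod.lift (EtOver.prodFst E E').hom.left (EtOver.prodSnd E E').hom.left).left :=
      inferInstanceAs (Mono ((Over.forget S).map _))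
    haveI : IsSeparated E'.obj.left.hom := inferInstance
    haveI : (Limits.pullback E.obj.left.hom E'.obj.left.hom : Scheme.{u}).IsSeparated := by
      refine Scheme.IsSeparated.mk ?_
      rw [show terminal.from _ = pullback.fst E.obj.left.hom E'.obj.left.hom ≫ terminal.from E.obj.left.left from
        terminal.hom_ext _ _]
      infer_instance
    refine Scheme.IsSeparated.mk ?_
    rw [show terminal.from _ = ((prod.lift (EtOver.prodFst E E').hom.left (EtOver.prodSnd E E').hom.left).left ≫
      (Over.prodLeftIsoPullback E.obj.left E'.obj.left).hom) ≫ terminal.from _ from terminal.hom_ext _ _]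
    infer_instance
  haveI := isAffine_bc_prod X D q hfin E E'
  let Y : AlgSp.Space S := ⟨(yon S).obj P.obj.left, IsAlgSpace.yon_obj _⟩
  haveI : IsLocallyNoetherian P.obj.left.left := Pt.isLocallyNoetherian_of_chart X.property hN P.property
  let D' : Over S := (EtOver.bcObj hq P).obj.left
  haveI : IsAffine D'.left := inferInstanceAs (IsAffine (EtOver.bcObj hq P).obj.left.left)
  have hfin' : IsFiniteMor ((yon S).map (EtOver.bcπ hq P) : (yon S).obj D' ⟶ Y.obj) := by
    refine Groth.L23.isFiniteMor_iff.2 ((repWith_yon_map_iff _ _).2 ?_)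
    exact Groth.L23.repWith_snd (Groth.L23.isFiniteMor_iff.1 hfin) P.obj.hom
  have hsurj' : IsSurjectiveMor ((yon S).map (EtOver.bcπ hq P) : (yon S).obj D' ⟶ Y.obj) :=
    surjective_map_of_repWith ((repWith_yon_map_iff _ _).2
      (Groth.L23.repWith_snd (repWith_surjective_of_map hq hsurj) P.obj.hom))
  have hPY : ∀ (A B : EtOver Y.obj), IsAffine A.obj.left.left → IsAffine B.obj.left.left →
      IsAffine (EtOver.prodObj A B).obj.left.left := fun A B hA hB => by
    obtain ⟨α, hα⟩ := (yon S).map_surjective A.obj.hom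
    obtain ⟨β, hβ⟩ := (yon S).map_surjective B.obj.hom
    have h1 : IsPullback ((yon S).map (EtOver.prodFst A B).hom.left) ((yon S).map (EtOver.prodSnd A B).hom.left)
        ((yon S).map α) ((yon S).map β) := by
      rw [hα, hβ]
      show IsPullback ((yon S).map (B.property.1.snd A.obj.hom)) ((yon S).map (B.property.1.fst' A.obj.hom)) _ _
      rw [Functor.relativelyRepresentable.map_fst']
      exact (B.property.1.isPullback A.obj.hom).flip
    have h2 := (IsPullback.of_map (yon S) ((yon S).map_injective (by simpa using h1.w)) h1).map (Over.forget S)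
    haveI : IsAffineHom β.left := by
      haveI : IsSeparated (terminal.from P.obj.left.left) := (Scheme.isSeparated_iff _).1 hsep
      exact IsAffineHom.of_comp β.left (terminal.from P.obj.left.left)
    haveI : IsAffineHom (EtOver.prodFst A B).hom.left.left :=
      MorphismProperty.of_isPullback (P := @IsAffineHom) h2.flip ‹_›
    exact isAffine_of_isAffineHom (EtOver.prodFst A B).hom.left.left
  obtain ⟨T, hT, ⟨e⟩⟩ := exists_iso_of_pairs Y Groth.L23.isQuasiCompactSp_of_compactSpace
    (Groth.L09.EtColim.isQuasiSeparatedSp_yon _)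
    ⟨P.obj.left, 𝟙 _, repWith_of_isIso _, repWith_of_isIso _, inferInstance⟩ D' _ hfin' hsurj' hPY
  haveI := hT
  haveI : IsIso ((yon S).preimageIso e).inv.left := inferInstanceAs (IsIso ((Over.forget S).map _))
  exact IsAffine.of_isIso ((yon S).preimageIso e).inv.left

include hqs hN hfin hsurj in
/-- A Noetherian space with a finite surjective map from an affine scheme is affine. -/
theorem exists_iso (hqc : IsQuasiCompactSp X.obj) :
    ∃ T : Over S, IsAffine T.left ∧ Nonempty ((yon S).obj T ≅ X.obj) :=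
  exists_iso_of_pairs X hqc hqs hN D q hfin hsurj fun E E' hE hE' => by
    haveI := hE
    haveI := hE'
    exact isAffine_prod X hqs hN D q hfin hsurj E E'

end General

end Groth.L23.ChevNoeth
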