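import Groth.Prelude.Def_ModSite
import Groth.Agent.L23.Support
import Groth.Agent.L23.SourceReduced

/-!
# The structure sheaf and subobjects of the final object of the small étale site
-/

universe u

open CategoryTheory CategoryTheory.Limits AlgebraicGeometry Opposite AlgSp TopologicalSpace

set_option backward.isDefEq.respectTransparency.types false
set_option linter.style.haveILetI false

namespace Groth.L23.Supp

open Groth.L23.PC

variable {S : Scheme.{u}} {X : AlgSp.Space S}

theorem isReduced_obj (hX : IsReducedSp X.obj) (E : EtOver X.obj) : IsReduced E.obj.left.left := by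
  obtain ⟨U, a, ha, has, hU⟩ := hX
  obtain ⟨R, p, q, sq⟩ := exists_isPullback_of_representable ha.1 E.obj.hom
  haveI : Etale q.left := repWith_prop ha sq
  haveI : Surjective q.left := repWith_prop has sq
  haveI : Etale p.left := repWith_prop E.property sq.flip
  haveI : IsReduced U.left := hU
  haveI : IsReduced R.left := isReduced_of_etale p.left
  exact Groth.L20.isReduced_of_surjective_of_flat q.left

theorem isUnit_appTop {T U : Scheme.{u}} (g : T ⟶ U) (f : Γ(U, ⊤)) (h : ∀ x, g x ∈ U.basicOpen f) :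
    IsUnit (g.appTop.hom f) := by
  apply T.toLocallyRingedSpace.toRingedSpace.isUnit_of_isUnit_germ
  intro x hx
  have e : x ∈ T.basicOpen (g.appTop.hom f) := by
    rw [← Scheme.preimage_basicOpen_top]; exact h x
  exact (T.mem_basicOpen _ x hx).1 e

theorem isLocallyRinged (X : AlgSp.Space S) : ModSite.IsLocallyRinged (etTop X.obj) (OEt X.obj) := by
  refine ⟨fun E f => ?_, fun E h => ?_⟩
  · let B₁ := E.obj.left.left.basicOpen f.down
    let B₂ := E.obj.left.left.basicOpen (1 - f.down)
    refine ⟨⟨fun W g => (∀ x, g.hom.left.left x ∈ B₁) ∨ ∀ x, g.hom.left.left x ∈ B₂, fun {W W'} g hg k => ?_⟩,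
      cover_of_points _ fun z => ?_, fun W g hg => ?_⟩
    · exact hg.imp (fun H x => H (k.hom.left.left x)) fun H x => H (k.hom.left.left x)
    · by_cases hz : z ∈ B₁
      · exact ⟨_, openEι E B₁, Or.inl fun x => openEι_mem x, ⟨z, hz⟩, rfl⟩
      · refine ⟨_, openEι E B₂, Or.inr fun x => openEι_mem x, ⟨z, ?_⟩, rfl⟩
        refine (Scheme.mem_basicOpen _ _ _ (Set.mem_univ z)).2 ?_
        refine (IsLocalRing.isUnit_or_isUnit_of_add_one ?_).resolve_left
          fun hu => hz ((Scheme.mem_basicOpen _ _ _ (Set.mem_univ z)).2 hu)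
        exact ((E.obj.left.left.presheaf.germ ⊤ z trivial).hom.map_add _ _).symm.trans
          ((congrArg _ (add_sub_cancel _ _)).trans (map_one _))
    · rcases hg with hg | hg
      · exact Or.inl ((isUnit_appTop g.hom.left.left _ hg).map ULift.ringEquiv.symm)
      · exact Or.inr ((isUnit_appTop g.hom.left.left _ hg).map ULift.ringEquiv.symm)
  · refine cover_of_points _ fun z => False.elim ?_
    have h01 : (0 : Γ(E.obj.left.left, ⊤)) = 1 := congrArg ULift.down h
    have := congrArg (fun s => E.obj.left.left.basicOpen s) h01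
    rw [Scheme.basicOpen_zero, Scheme.basicOpen_of_isUnit _ isUnit_one] at this
    exact (this ▸ (trivial : z ∈ (⊤ : E.obj.left.left.Opens)) : z ∈ (⊥ : E.obj.left.left.Opens))

variable (F : EtSh X.obj (Type (u + 1))) [∀ E : EtOver X.obj, Subsingleton (F.obj.obj (op E))]

/-- The open set of points covered by objects having a section. -/
def sectionLocus : Set (Points X.obj) :=
  ⋃ E : {E : EtOver X.obj // Nonempty (F.obj.obj (op E))}, Set.range (Points.ofPt E.1.obj.hom)

theorem isOpen_sectionLocus : IsOpen (sectionLocus F) := isOpen_iUnion fun _ => isOpen_range_ofPt _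

theorem nonempty_iff (E : EtOver X.obj) :
    Nonempty (F.obj.obj (op E)) ↔ Set.range (Points.ofPt E.obj.hom) ⊆ sectionLocus F := by
  refine ⟨fun h => Set.subset_iUnion_of_subset ⟨E, h⟩ le_rfl, fun h => ?_⟩
  let R : Sieve E := ⟨fun W f => Nonempty (F.obj.obj (op W)), fun {Y Z} f ⟨s⟩ g => ⟨F.obj.map g.op s⟩⟩
  have hR : R ∈ etTop X.obj E := cover_of_points _ fun z => by
    obtain ⟨⟨E', ⟨s⟩⟩, z', hz'⟩ := Set.mem_iUnion.1 (h ⟨z, rfl⟩)
    obtain ⟨T, p, q, sq⟩ := exists_isPullback_of_representable E.property.1 E'.obj.hom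
    haveI : Etale p.left := repWith_prop E'.property sq.flip
    obtain ⟨r, hr, -⟩ := (ofPt_eq_ofPt_iff sq z z').1 hz'.symm
    let To : EtOver X.obj := EtOver.mk ((yon S).map p ≫ E.obj.hom)
      (repWith_comp (repWith_map ‹Etale p.left›) E.property)
    exact ⟨To, EtOver.homMk p rfl, ⟨F.obj.map (EtOver.homMk q sq.w.symm : To ⟶ E').op s⟩, r, hr⟩
  have hs := (isSheaf_iff_isSheaf_of_type _ _).1 F.2 R hR
  exact ⟨hs.amalgamate (fun W f hf => Classical.choice hf) fun _ _ _ _ _ _ _ _ _ _ => Subsingleton.elim _ _⟩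

theorem eq_sectionLocus {W : Set (Points X.obj)} (hW : IsOpen W)
    (h : ∀ E : EtOver X.obj, Nonempty (F.obj.obj (op E)) ↔ Set.range (Points.ofPt E.obj.hom) ⊆ W) :
    W = sectionLocus F := by
  refine le_antisymm (fun x hx => ?_) (Set.iUnion_subset fun E => (h E.1).1 E.2)
  obtain ⟨U, a, ha, has⟩ := X.property.atlas
  obtain ⟨u, rfl⟩ := surjective_ofPt has x
  let E : EtOver X.obj := EtOver.mk a ha
  have hc : Continuous (Points.ofPt a) := Points.continuous_ofPt a
  let V : E.obj.left.left.Opens := ⟨Points.ofPt a ⁻¹' W, hW.preimage hc⟩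
  have hV : Set.range (Points.ofPt (openE E V).obj.hom) ⊆ W := by
    rintro _ ⟨v, rfl⟩
    rw [ofPt_openE]
    exact openEι_mem (E := E) v
  exact (nonempty_iff F _).1 ((h _).2 hV) ⟨⟨u, hx⟩, ofPt_openE E V _⟩

end Groth.L23.Supp
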