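import Groth.Agent.L23.IdealFt
import Groth.Agent.L23.ChevNoeth
import Groth.Agent.L23.QsTop
import Groth.Agent.L23.SiteFacts
import Groth.Agent.L23.ThickScheme
import Groth.Agent.L23.QcohClosure
import Groth.Agent.S9991
import Groth.Agent.S10732
import Groth.Agent.S10751
import Groth.Agent.S10754

/-!
# A reduced space covered by two affine closed subspaces
-/

universe u

open CategoryTheory CategoryTheory.Limits AlgebraicGeometry Opposite AlgSp TopologicalSpace TensorProduct

set_option autoImplicit false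
set_option linter.style.haveILetI false
set_option backward.isDefEq.respectTransparency false
set_option backward.isDefEq.respectTransparency.types false

noncomputable section

namespace Groth.L23.UnionAffine

open Groth.L09.ModEt Groth.L23.SubQcoh

variable {S : Scheme.{u}} {X : AlgSp.Space S}

theorem subsingleton_h_of_iso {X : Sp S} {A B : ModEt X} (e : A ≅ B) (n : ℕ) [Subsingleton (HModEt X A n)] :
    Subsingleton (HModEt X B n) := by
  have h0 : ∀ x : HModEt X B n, x = 0 := fun x => by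
    have hx : (x.comp (Abelian.Ext.mk₀ ((toAbEt X).map e.inv)) (add_zero n)).comp
        (Abelian.Ext.mk₀ ((toAbEt X).map e.hom)) (add_zero n) = x := by
      rw [Abelian.Ext.comp_assoc_of_second_deg_zero, Abelian.Ext.mk₀_comp_mk₀, ← Functor.map_comp,
        e.inv_hom_id, CategoryTheory.Functor.map_id, Abelian.Ext.comp_mk₀_id]
    rw [← hx]
    haveI : Subsingleton (Abelian.Ext (Groth.L09.EtCoh.zSh X) ((toAbEt X).obj A) n) :=
      inferInstanceAs (Subsingleton (HModEt X A n))
    rw [Subsingleton.elim (Abelian.Ext.comp _ _ (add_zero n) : Abelian.Ext (Groth.L09.EtCoh.zSh X) ((toAbEt X).obj A) n) 0,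
      Abelian.Ext.zero_comp]
  exact ⟨fun x y => (h0 x).trans (h0 y).symm⟩

/-- A module killed by the ideal of an affine closed subspace has no cohomology. -/
theorem subsingleton_h_of_killed {T : Over S} [IsAffine T.left] (c : (yon S).obj T ⟶ X.obj)
    (hc : RepWith @IsClosedImmersion c) (F : ModEt X.obj) [F.IsQuasicoherent]
    (hF : ∀ (E : EtOver X.obj) (hE : IsAffine E.obj.left.left) (s : sectModEt F E),
      (idealOfRep hc.1).ideal E hE ≤ annSect s) (n : ℕ) (hn : 0 < n) :
    Subsingleton (HModEt X.obj F n) := by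
  let Z : AlgSp.Space S := ⟨(yon S).obj T, IsAlgSpace.yon_obj _⟩
  let i : Z ⟶ X := ObjectProperty.homMk c
  obtain ⟨G, hG, ⟨e⟩⟩ := (Groth.Agent.S9991.result i hc (idealOfRep hc.1) ⟨hc, rfl⟩).2 F inferInstance hF
  haveI := hG
  obtain ⟨e'⟩ := Groth.Agent.S10751.result (X := Z) (Y := X) i hc.1 (Groth.L23.isAffineMor_iff.2
    (repWith_mono (fun φ (_ : IsClosedImmersion φ) => inferInstanceAs (IsAffineHom φ)) hc)) G n
  haveI := Groth.Agent.S10754.result Z T inferInstance (Iso.refl _) G n hn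
  haveI : Subsingleton (HModEt X.obj ((pushModEt hc.1).obj G) n) := e'.symm.toEquiv.subsingleton
  exact subsingleton_h_of_iso e n

theorem eq_zero_of_basicOpen_eq_bot {T : Scheme.{u}} [IsReduced T] (f : Γ(T, ⊤))
    (h : ∀ x, x ∉ T.basicOpen f) : f = 0 :=
  (basicOpen_eq_bot_iff f).1 (Opens.ext (Set.eq_empty_of_forall_notMem h))

/-- The ideals of two closed subspaces covering a reduced space multiply to zero. -/
theorem mul_eq_zero_of_cover (hred : IsReducedSp X.obj) {T₁ T₂ : Over S} {c₁ : (yon S).obj T₁ ⟶ X.obj}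
    {c₂ : (yon S).obj T₂ ⟶ X.obj} (hc₁ : RepWith @IsClosedImmersion c₁) (hc₂ : RepWith @IsClosedImmersion c₂)
    (hcov : Set.range (Points.map c₁) ∪ Set.range (Points.map c₂) = Set.univ) (E : EtOver X.obj)
    [hE : IsAffine E.obj.left.left] {a b : Γ₀ E} (ha : a ∈ (idealOfRep hc₁.1).ideal E hE)
    (hb : b ∈ (idealOfRep hc₂.1).ideal E hE) : a * b = 0 := by
  haveI := Groth.L23.Supp.isReduced_obj hred E
  refine eq_zero_of_basicOpen_eq_bot _ fun x hx => ?_
  rw [Scheme.basicOpen_mul] at hx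
  rcases (Set.ext_iff.1 hcov (Points.ofPt E.obj.hom x)).2 trivial with h | h
  · have := (IdealFt.preimage_range (i := c₁) ⟨hc₁, rfl⟩ E).le h
    exact (Scheme.mem_zeroLocus_iff _ _ _).1 this a ha hx.1
  · have := (IdealFt.preimage_range (i := c₂) ⟨hc₂, rfl⟩ E).le h
    exact (Scheme.mem_zeroLocus_iff _ _ _).1 this b hb hx.2

/-- The submodule generated by an ideal sheaf. -/
def idealMul (I : IdealEt X.obj) (hI : I.IsQCoh) (M : ModEt X.obj) [M.IsQuasicoherent] : AffSub M where
  P E hE := (I.ideal E hE : Ideal (Γ₀ E)) • (⊤ : Submodule (Γ₀ E) (sectModEt M E))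
  res_mem {E E'} hE hE' g {s} hs := by
    refine Submodule.smul_induction_on hs (fun a ha m _ => ?_) fun x y hx hy => ?_
    · rw [res_smul]
      exact Submodule.smul_mem_smul (I.map_le g hE hE' (Ideal.mem_map_of_mem _ ha)) trivial
    · rw [map_add]
      exact add_mem hx hy
  mem_span {E E'} hE hE' g {z} hz := by
    refine Submodule.smul_induction_on hz (fun a ha m hm => ?_) fun x y hx hy => add_mem hx hy
    · clear hm
      letI := (pb g).toAlgebra
      obtain ⟨y, rfl⟩ := (bc_of_isQuasicoherent M g).2 m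
      have ha' := hI g hE hE' ha
      induction y using TensorProduct.induction_on with
      | zero => rw [map_zero, smul_zero]; exact zero_mem _
      | add y y' hy hy' => rw [map_add, smul_add]; exact add_mem hy hy'
      | tmul b m =>
        rw [θ_tmul, smul_comm]
        refine Submodule.smul_mem _ b ?_
        clear ha
        induction ha' using Submodule.span_induction with
        | mem x hx =>
          obtain ⟨a', ha', rfl⟩ := hx
          exact Submodule.subset_span ⟨a' • m, Submodule.smul_mem_smul ha' trivial, res_smul _ _ _ _⟩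
        | zero => rw [zero_smul]; exact zero_mem _
        | add x x' _ _ hx hx' => rw [add_smul]; exact add_mem hx hx'
        | smul r x _ hx => rw [smul_eq_mul, mul_smul]; exact Submodule.smul_mem _ r hx

/-- No first cohomology on a reduced space covered by two affine closed subspaces. -/
theorem subsingleton_h1 (hred : IsReducedSp X.obj) {T₁ T₂ : Over S} [IsAffine T₁.left] [IsAffine T₂.left]
    {c₁ : (yon S).obj T₁ ⟶ X.obj} {c₂ : (yon S).obj T₂ ⟶ X.obj}
    (hc₁ : RepWith @IsClosedImmersion c₁) (hc₂ : RepWith @IsClosedImmersion c₂)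
    (hcov : Set.range (Points.map c₁) ∪ Set.range (Points.map c₂) = Set.univ)
    (M : ModEt X.obj) (hM : M.IsQuasicoherent) : Subsingleton (HModEt X.obj M 1) := by
  haveI := hM
  have hI := CutOut.idealOfRep_isQCoh (CutOut.repWith_quasiCompact_of_closedImmersion hc₁)
  let A := idealMul (idealOfRep hc₁.1) hI M
  haveI := A.isQuasicoherent
  let C : ShortComplex (ModEt X.obj) := ShortComplex.mk A.ι (cokernel.π A.ι) (cokernel.condition _)
  have hC : C.ShortExact :=
    { exact := ShortComplex.cokernelSequence_exact _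
      mono_f := inferInstanceAs (Mono A.ι)
      epi_g := inferInstanceAs (Epi (cokernel.π A.ι)) }
  haveI : C.X₁.IsQuasicoherent := A.isQuasicoherent
  haveI : C.X₃.IsQuasicoherent := QcClosure.isQuasicoherent_cokernel A.ι
  haveI : Subsingleton (HModEt X.obj C.X₁ 1) := by
    refine subsingleton_h_of_killed c₂ hc₂ C.X₁ (fun E hE s b hb => ?_) 1 Nat.one_pos
    haveI := hE
    show b • s = 0
    refine (exact_sapp hC.exact hC.mono_f E).1 ?_
    rw [map_smul, map_zero]
    have hs : sapp A.ι E s ∈ A.P E := (A.range_ι E).le ⟨s, rfl⟩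
    show b • sapp A.ι E s = 0
    refine Submodule.smul_induction_on hs (fun a ha m _ => ?_) fun x y hx hy => ?_
    · rw [smul_smul, mul_comm, mul_eq_zero_of_cover hred hc₁ hc₂ hcov E ha hb, zero_smul]
    · rw [smul_add, hx, hy, add_zero]
  haveI : Subsingleton (HModEt X.obj C.X₃ 1) := by
    refine subsingleton_h_of_killed c₁ hc₁ C.X₃ (fun E hE t a ha => ?_) 1 Nat.one_pos
    haveI := hE
    show a • t = 0
    obtain ⟨s, rfl⟩ := surjective_sapp hC E t
    rw [← map_smul]
    obtain ⟨w, hw⟩ := (A.range_ι E).ge (show a • s ∈ A.P E from Submodule.smul_mem_smul ha trivial)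
    rw [← hw]
    exact sapp_g_f (C := C) E w
  exact ChevNoeth.subsingleton_h₂ hC 1

/-- Quasi-separatedness descends to a subspace. -/
theorem isQuasiSeparatedSp_of_mono [QuasiSeparatedSpace ↥S] {Y : AlgSp.Space S} (hqs : IsQuasiSeparatedSp X.obj)
    (j : Y.obj ⟶ X.obj) [Mono j] : IsQuasiSeparatedSp Y.obj := by
  refine Qs.isQuasiSeparatedSp_of_compact Y.property fun U V P a b fst snd hU hV sq => ?_
  haveI := hU
  haveI := hV
  refine Groth.L23.compactSpace_of_qs hqs (a := a ≫ j) (b := b ≫ j) (fst := fst) (snd := snd) ?_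
  exact IsPullback.mk' (by rw [reassoc_of% sq.w]) (fun T φ φ' h h' => sq.hom_ext h h')
    fun T p q e => ⟨sq.lift p q ((cancel_mono j).1 (by simpa using e)), sq.lift_fst _ _ _, sq.lift_snd _ _ _⟩

/-- A reduced space covered by two affine closed subspaces is affine. -/
theorem exists_iso_affine [QuasiSeparatedSpace ↥S] (hred : IsReducedSp X.obj) (hqs : IsQuasiSeparatedSp X.obj)
    {T₁ T₂ : Over S} [IsAffine T₁.left] [IsAffine T₂.left]
    {c₁ : (yon S).obj T₁ ⟶ X.obj} {c₂ : (yon S).obj T₂ ⟶ X.obj}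
    (hc₁ : RepWith @IsClosedImmersion c₁) (hc₂ : RepWith @IsClosedImmersion c₂)
    (hcov : Set.range (Points.map c₁) ∪ Set.range (Points.map c₂) = Set.univ) :
    ∃ T : Over S, IsAffine T.left ∧ Nonempty ((yon S).obj T ≅ X.obj) := by
  have hcomp : ∀ {T : Over S} [IsAffine T.left] (c : (yon S).obj T ⟶ X.obj), IsCompact (Set.range (Points.map c)) :=
    fun {T} _ c => by
      rw [range_map_yon]
      exact isCompact_range (Points.continuous_ofPt c)
  haveI : CompactSpace (Points X.obj) := ⟨hcov ▸ (hcomp c₁).union (hcomp c₂)⟩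
  exact Groth.Agent.S10732.result X (Groth.L23.qcSp_of_compactSpace X.property inferInstance) hqs
    (subsingleton_h1 hred hc₁ hc₂ hcov)

/-- Affine neighbourhoods on two closed subschemes agreeing on their intersection. -/
theorem exists_affine_pair {P T₁ T₂ : Scheme.{u}} (p₁ : P ⟶ T₁) (p₂ : P ⟶ T₂) [IsClosedImmersion p₁]
    [IsClosedImmersion p₂] (x : P) :
    ∃ (B₁ : T₁.Opens) (B₂ : T₂.Opens), IsAffineOpen B₁ ∧ IsAffineOpen B₂ ∧ p₁ ⁻¹ᵁ B₁ = p₂ ⁻¹ᵁ B₂ ∧
      p₁ x ∈ B₁ ∧ p₂ x ∈ B₂ := by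
  obtain ⟨W₁, hW₁, hx₁, -⟩ := exists_isAffineOpen_mem_and_subset (x := p₁ x) (U := ⊤) trivial
  obtain ⟨W₂, hW₂, hx₂, -⟩ := exists_isAffineOpen_mem_and_subset (x := p₂ x) (U := ⊤) trivial
  obtain ⟨f, g, hfg, hxf⟩ := exists_basicOpen_le_affine_inter (hW₁.preimage p₁) (hW₂.preimage p₂) x ⟨hx₁, hx₂⟩
  obtain ⟨f', rfl⟩ := p₁.app_surjective W₁ hW₁ f
  obtain ⟨g', rfl⟩ := p₂.app_surjective W₂ hW₂ g
  rw [← Scheme.preimage_basicOpen, ← Scheme.preimage_basicOpen] at hfg
  rw [← Scheme.preimage_basicOpen] at hxf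
  exact ⟨T₁.basicOpen f', T₂.basicOpen g', hW₁.basicOpen f', hW₂.basicOpen g', hfg, hxf, hfg.le hxf⟩

/-- The open subspace of a reduced space is reduced. -/
theorem isReducedSp_openSub {X : Sp S} (h : IsReducedSp X) (W : Opens (Points X)) : IsReducedSp (openSub W) := by
  obtain ⟨U, a, ha, has, hU⟩ := h
  obtain ⟨fst, sq⟩ := isPullback_openSub W a
  haveI : IsReduced U.left := hU
  exact ⟨_, fst, repWith_of_isPullback sq.flip ha, repWith_of_isPullback sq.flip has,
    inferInstanceAs (IsReduced (openPre W a : Scheme.{u}))⟩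

theorem isClosedMap_ofPt {T : Over S} {c : (yon S).obj T ⟶ X.obj} (hc : RepWith @IsClosedImmersion c)
    {A : Set T.left} (hA : IsClosed A) : IsClosed (Points.ofPt c '' A) := by
  have hm := isClosedMap_map_of_representable hc.1 fun _ g => by
    haveI : IsClosedImmersion (hc.1.snd g).left := repWith_snd hc g
    exact (hc.1.snd g).left.isClosedEmbedding.isClosedMap
  rw [show Points.ofPt c '' A = Points.map c '' (Points.schemeHomeo T '' A) by
    rw [Set.image_image]
    exact Set.image_congr fun t _ => Points.ofPt_eq_map_ofScheme c t]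
  exact hm _ ((Points.schemeHomeo T).isClosedMap _ hA)

theorem injective_ofPt {T : Over S} {c : (yon S).obj T ⟶ X.obj} (hc : RepWith @IsClosedImmersion c) :
    Function.Injective (Points.ofPt c) := by
  intro a b e
  rw [Points.ofPt_eq_map_ofScheme, Points.ofPt_eq_map_ofScheme] at e
  exact (Points.schemeEquiv T).injective (injective_map_of_repWith (repWith_mono
    (fun φ (_ : IsClosedImmersion φ) => inferInstanceAs (UniversallyInjective φ)) hc) e)

/-- A closed immersion restricted to an open subspace. -/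
theorem exists_restrict {T : Over S} {c : (yon S).obj T ⟶ X.obj} (hc : RepWith @IsClosedImmersion c)
    (W : Opens (Points X.obj)) (B : T.left.Opens) (hB : IsAffineOpen B)
    (h : ∀ t, Points.ofPt c t ∈ W ↔ t ∈ B) :
    ∃ (T' : Over S) (c' : (yon S).obj T' ⟶ openSub W), IsAffine T'.left ∧ RepWith @IsClosedImmersion c' ∧
      Set.range (Points.map c') = Points.map (openSubι W) ⁻¹' Set.range (Points.map c) := by
  obtain ⟨fst, sq⟩ := isPullback_openSub W c
  have e : openPre W c = B := SetLike.ext h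
  refine ⟨_, fst, ?_, repWith_of_isPullback sq.flip hc, Set.ext fun y => ⟨?_, ?_⟩⟩
  · show IsAffine (openPre W c : Scheme.{u})
    rw [e]
    exact hB
  · rintro ⟨z, rfl⟩
    exact ⟨Points.map ((yon S).map _) z, by rw [← Points.map_comp, ← sq.w, Points.map_comp]⟩
  · rintro ⟨z, hz⟩
    obtain ⟨p, hp, -⟩ := exists_of_isPullback sq y z hz.symm
    exact ⟨p, hp⟩

/-- An affine open subspace cut out by compatible affine opens on two covering closed subspaces. -/
theorem exists_chart [QuasiSeparatedSpace ↥S] (hred : IsReducedSp X.obj) (hqs : IsQuasiSeparatedSp X.obj)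
    {T₁ T₂ P : Over S} {c₁ : (yon S).obj T₁ ⟶ X.obj} {c₂ : (yon S).obj T₂ ⟶ X.obj}
    (hc₁ : RepWith @IsClosedImmersion c₁) (hc₂ : RepWith @IsClosedImmersion c₂)
    (hcov : Set.range (Points.map c₁) ∪ Set.range (Points.map c₂) = Set.univ) {p₁ : P ⟶ T₁} {p₂ : P ⟶ T₂}
    (sq : IsPullback ((yon S).map p₁) ((yon S).map p₂) c₁ c₂) {B₁ : T₁.left.Opens} {B₂ : T₂.left.Opens}
    (h₁ : IsAffineOpen B₁) (h₂ : IsAffineOpen B₂) (h : p₁.left ⁻¹ᵁ B₁ = p₂.left ⁻¹ᵁ B₂) (x : Points X.obj)
    (hx₁ : ∀ t, Points.ofPt c₁ t = x → t ∈ B₁) (hx₂ : ∀ t, Points.ofPt c₂ t = x → t ∈ B₂) :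
    ∃ (A : Over S) (a : (yon S).obj A ⟶ X.obj) (t : ↥A.left),
      RepWith @IsOpenImmersion a ∧ Points.ofPt a t = x := by
  let W : Opens (Points X.obj) := ⟨(Points.ofPt c₁ '' (B₁ : Set T₁.left)ᶜ ∪ Points.ofPt c₂ '' (B₂ : Set T₂.left)ᶜ)ᶜ,
    ((isClosedMap_ofPt hc₁ B₁.isOpen.isClosed_compl).union
      (isClosedMap_ofPt hc₂ B₂.isOpen.isClosed_compl)).isOpen_compl⟩
  have hW : ∀ y, y ∈ W ↔ (∀ t, Points.ofPt c₁ t = y → t ∈ B₁) ∧ ∀ t, Points.ofPt c₂ t = y → t ∈ B₂ := fun y => by
    show y ∈ (Points.ofPt c₁ '' (B₁ : Set T₁.left)ᶜ ∪ Points.ofPt c₂ '' (B₂ : Set T₂.left)ᶜ)ᶜ ↔ _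
    simp only [Set.mem_compl_iff, Set.mem_union, Set.mem_image, SetLike.mem_coe, not_or, not_exists, not_and]
    exact ⟨fun ⟨a, b⟩ => ⟨fun t e => by_contra fun n => a t n e, fun t e => by_contra fun n => b t n e⟩,
      fun ⟨a, b⟩ => ⟨fun t n e => n (a t e), fun t n e => n (b t e)⟩⟩
  have key₁ : ∀ t, Points.ofPt c₁ t ∈ W ↔ t ∈ B₁ := fun t => by
    rw [hW]
    refine ⟨fun ⟨a, _⟩ => a t rfl, fun ht => ⟨fun t' e => injective_ofPt hc₁ e ▸ ht, fun t' e => ?_⟩⟩
    obtain ⟨r, hr₁, hr₂⟩ := (ofPt_eq_ofPt_iff sq t t').1 e.symm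
    rw [← hr₂]
    exact h.le (show p₁.left r ∈ B₁ from hr₁ ▸ ht)
  have key₂ : ∀ t, Points.ofPt c₂ t ∈ W ↔ t ∈ B₂ := fun t => by
    rw [hW]
    refine ⟨fun ⟨_, a⟩ => a t rfl, fun ht => ⟨fun t' e => ?_, fun t' e => injective_ofPt hc₂ e ▸ ht⟩⟩
    obtain ⟨r, hr₁, hr₂⟩ := (ofPt_eq_ofPt_iff sq t' t).1 e
    rw [← hr₁]
    exact h.ge (show p₂.left r ∈ B₂ from hr₂ ▸ ht)
  obtain ⟨A₁, a₁, hA₁, ha₁, hr₁⟩ := exists_restrict hc₁ W B₁ h₁ key₁
  obtain ⟨A₂, a₂, hA₂, ha₂, hr₂⟩ := exists_restrict hc₂ W B₂ h₂ key₂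
  haveI := hA₁
  haveI := hA₂
  let Y : AlgSp.Space S := ⟨openSub W, isAlgSpace_openSub W X.property⟩
  haveI : Mono (openSubι W : Y.obj ⟶ X.obj) := mono_openSubι W
  obtain ⟨T, hT, ⟨e⟩⟩ := exists_iso_affine (X := Y) (isReducedSp_openSub hred W)
    (isQuasiSeparatedSp_of_mono hqs (openSubι W)) (c₁ := a₁) (c₂ := a₂) ha₁ ha₂ (by
      rw [hr₁, hr₂, ← Set.preimage_union, hcov, Set.preimage_univ])
  have hxW : x ∈ Set.range (Points.map (openSubι W)) := by
    rw [range_openSubι]
    exact (hW x).2 ⟨hx₁, hx₂⟩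
  obtain ⟨w, hw⟩ := hxW
  obtain ⟨t, ht⟩ := (Points.schemeEquiv T).surjective (Points.map e.inv w)
  refine ⟨T, e.hom ≫ openSubι W, t, MorphismProperty.RespectsIso.precomp _ _ _ (repWith_openSubι W), ?_⟩
  rw [Points.ofPt_eq_map_ofScheme, ← hw, Points.map_comp]
  refine congrArg _ ?_
  rw [show Points.ofScheme T t = Points.map e.inv w from ht, ← Points.map_comp, e.inv_hom_id, Points.map_id]

end Groth.L23.UnionAffine
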