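import Groth.Agent.L09.SpLimit.SchemeStage
import Groth.Agent.L09.SpLimit.PbSys
import Groth.Agent.L09.OverMapSp.Space
import Groth.Agent.L05.NbhdLimit.Basic
import Groth.Agent.L23.OpenCharts

/-!
# A space which is a scheme over every local ring of the base is a scheme
-/

universe u

open CategoryTheory CategoryTheory.Limits AlgebraicGeometry Opposite AlgSp

set_option autoImplicit false
set_option linter.style.haveILetI false
set_option backward.isDefEq.respectTransparency false
set_option backward.isDefEq.respectTransparency.types false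

noncomputable section

namespace Groth.L23.StalkRep

open Groth.L09.OverMapSp

variable {S : Scheme.{u}}

/-- The base is a terminal sheaf. -/
theorem hom_ext_base {F : Sp S} (a b : F ⟶ (yon S).obj (Over.mk (𝟙 S))) : a = b :=
  hom_ext_yon fun T x => by
    obtain ⟨c, hc⟩ := (yon S).map_surjective (x ≫ a)
    obtain ⟨d, hd⟩ := (yon S).map_surjective (x ≫ b)
    rw [← hc, ← hd]
    refine congrArg (yon S).map (Over.OverMorphism.ext ?_)
    have e₁ : c.left ≫ 𝟙 S = T.hom := Over.w c
    have e₂ : d.left ≫ 𝟙 S = T.hom := Over.w d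
    exact ((Category.comp_id _).symm.trans (e₁.trans e₂.symm)).trans (Category.comp_id _)

/-- The base as a terminal object. -/
def isTerminalBase (S : Scheme.{u}) {U : Over S} [IsIso U.hom] : IsTerminal ((yon S).obj U) :=
  IsTerminal.ofUniqueHom (fun F => (show F ⟶ (yon S).obj (Over.mk (𝟙 S)) from ObjectProperty.homMk
    { app := fun T => ↾fun _ => (AlgSp.J S).uliftYonedaEquiv ((yon S).map (Over.homMk T.unop.hom (Category.comp_id _)))
      naturality := fun T T' φ => by
        ext z
        refine Eq.trans ?_ ((AlgSp.J S).uliftYonedaEquiv_naturality _ φ.unop).symm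
        rw [← Functor.map_comp]
        refine congrArg (fun m => (AlgSp.J S).uliftYonedaEquiv ((yon S).map m)) (Over.OverMorphism.ext ?_)
        exact (Over.w φ.unop).symm }) ≫
      (yon S).map (Over.homMk (inv U.hom) (by simp)))
    fun F m => by
      haveI : Mono ((yon S).map (Over.homMk U.hom (Category.comp_id _) : U ⟶ Over.mk (𝟙 S))) := by
        haveI : IsIso (Over.homMk U.hom (Category.comp_id _) : U ⟶ Over.mk (𝟙 S)) := by
          haveI : IsIso ((Over.forget S).map (Over.homMk U.hom (Category.comp_id _) : U ⟶ Over.mk (𝟙 S))) :=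
            inferInstanceAs (IsIso U.hom)
          exact isIso_of_reflects_iso _ (Over.forget S)
        infer_instance
      exact (cancel_mono ((yon S).map (Over.homMk U.hom (Category.comp_id _) : U ⟶ Over.mk (𝟙 S)))).1
        (hom_ext_base _ _)

/-- A square over a terminal corner may be replaced by any other. -/
theorem isPullback_terminal {C : Type*} [Category C] {P A B T P' A' B' T' : C} {f : P ⟶ A} {g : P ⟶ B}
    {a : A ⟶ T} {b : B ⟶ T} (sq : IsPullback f g a b) (hT : IsTerminal T) (hT' : IsTerminal T') (eP : P ≅ P')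
    (eA : A ≅ A') (eB : B ≅ B') (a' : A' ⟶ T') (b' : B' ⟶ T') :
    IsPullback (eP.inv ≫ f ≫ eA.hom) (eP.inv ≫ g ≫ eB.hom) a' b' :=
  sq.of_iso eP eA eB (hT.uniqueUpToIso hT') (by simp) (by simp) (hT'.hom_ext _ _) (hT'.hom_ext _ _)

section

variable {S' : Scheme.{u}} (ι : S' ⟶ S) [IsOpenImmersion ι]

/-- Schemes over the open subscheme, restricted. -/
def bcIso (W : Over S') : bcObj ι ((Over.map ι).obj W) ≅ W := by
  have sq : IsPullback (𝟙 W.left) W.hom (W.hom ≫ ι) ι :=
    IsPullback.mk' (Category.id_comp _) (fun T a b h₁ _ => by simpa using h₁)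
      fun T a b e => ⟨a, Category.comp_id _, by rw [← cancel_mono ι, Category.assoc]; exact e⟩
  exact Over.isoMk sq.isoPullback.symm (by simp [bcObj])

/-- The restriction of a scheme over the open subscheme. -/
def resYonIso (W : Over S') : (res ι).obj ((yon S).obj ((Over.map ι).obj W)) ≅ (yon S').obj W :=
  (asIso (yonComparison ι ((Over.map ι).obj W))).symm ≪≫ (yon S').mapIso (bcIso ι W)

/-- The restriction of the base. -/
def isTerminalResBase : IsTerminal ((res ι).obj ((yon S).obj (Over.mk (𝟙 S)))) := by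
  haveI : IsIso (bcObj ι (Over.mk (𝟙 S))).hom := inferInstanceAs (IsIso (pullback.snd (𝟙 S) ι))
  exact IsTerminal.ofIso (isTerminalBase S' (U := bcObj ι (Over.mk (𝟙 S)))) (asIso (yonComparison ι (Over.mk (𝟙 S))))

variable {X : Sp S} (q : X ⟶ (yon S).obj (Over.mk (𝟙 S)))

/-- The restriction is quasi-compact. -/
theorem qc_res [CompactSpace S'] (hX : IsAlgSpace X) (hqc : IsQuasiCompactMor q) :
    IsQuasiCompactSp ((res ι).obj X) := by
  let U : Over S := (Over.map ι).obj (Over.mk (𝟙 S'))
  haveI : CompactSpace U.left := ‹CompactSpace S'›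
  let b : U ⟶ Over.mk (𝟙 S) := Over.homMk U.hom (Category.comp_id _)
  have sq := IsPullback.of_hasPullback q ((yon S).map b)
  obtain ⟨W, p, hp, hps, hW⟩ := hqc (IsAlgSpace.yon_obj U) isQuasiCompactSp_of_compactSpace _ _ _ sq
  haveI := hW
  obtain ⟨l, hl⟩ := (yon S).map_surjective (p ≫ pullback.snd q ((yon S).map b))
  let W₀ : Over S' := Over.mk l.left
  let e : (Over.map ι).obj W₀ ≅ W := Over.isoMk (Iso.refl _) (by
    show 𝟙 _ ≫ W.hom = l.left ≫ ι
    rw [Category.id_comp, ← Over.w l]
    exact congrArg (l.left ≫ ·) (Category.id_comp ι))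
  haveI : IsIso ((res ι).map (pullback.fst q ((yon S).map b))) := by
    haveI : IsIso (Over.mk (𝟙 S')).hom := inferInstanceAs (IsIso (𝟙 S'))
    haveI : IsIso ((res ι).map ((yon S).map b)) :=
      isIso_of_isTerminal (IsTerminal.ofIso (isTerminalBase S' (U := Over.mk (𝟙 S'))) (resYonIso ι _).symm)
        (isTerminalResBase ι) _
    exact (sq.map (res ι)).isIso_fst_of_isIso
  refine ⟨W₀, (resYonIso ι W₀).inv ≫ (res ι).map ((yon S).map e.hom ≫ p ≫ pullback.fst q ((yon S).map b)), ?_, ?_,
    show CompactSpace W.left from hW⟩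
  · rw [Functor.map_comp, Functor.map_comp]
    exact repWith_comp (repWith_of_isIso _) (repWith_comp (repWith_of_isIso _)
      (repWith_comp (repWith_res _ hp) (repWith_of_isIso _)))
  · rw [Functor.map_comp, Functor.map_comp]
    exact repWith_comp (repWith_of_isIso _) (repWith_comp (repWith_of_isIso _)
      (repWith_comp (repWith_res _ hps) (repWith_of_isIso _)))

/-- The restriction is quasi-separated. -/
theorem qs_res (hqs : IsQuasiSeparatedMor q) : IsQuasiSeparatedSp ((res ι).obj X) := by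
  have h0 : IsQuasiSeparatedSp ((yon S).obj (Over.mk (𝟙 S))) := by
    show RepWith _ _
    rw [repWith_diag_yon_iff]
    show QuasiCompact (pullback.diagonal (𝟙 S))
    infer_instance
  have h := Groth.L09.SpLimit.qsSp_of_qsMor h0 hqs
  show RepWith _ (Limits.diag ((res ι).obj X))
  rw [show Limits.diag ((res ι).obj X) = (res ι).map (Limits.diag X) ≫ prodComparison (res ι) X X by
    ext <;> simp [← Functor.map_comp]]
  exact repWith_comp (repWith_res _ h) (repWith_of_isIso _)

/-- A representable restriction gives a representable open piece. -/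
theorem exists_iso_pullback (V : Over S') (t : (yon S').obj V ⟶ (yon S').obj (Over.mk (𝟙 S')))
    (h : (res ι).obj X ⟶ (yon S').obj (Over.mk (𝟙 S'))) {T : Over S'}
    (e : (yon S').obj T ≅ pullback h t) (b : (yon S).obj ((Over.map ι).obj V) ⟶ (yon S).obj (Over.mk (𝟙 S))) :
    ∃ θ : (yon S).obj ((Over.map ι).obj T) ⟶ pullback q b, IsIso θ := by
  haveI : Mono ι := inferInstance
  obtain ⟨l, hl⟩ := (yon S').map_surjective (e.hom ≫ pullback.snd h t)
  let a : (yon S).obj ((Over.map ι).obj T) ⟶ X := homEquiv T (e.hom ≫ pullback.fst h t)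
  let θ : (yon S).obj ((Over.map ι).obj T) ⟶ pullback q b :=
    pullback.lift a ((yon S).map ((Over.map ι).map l)) (hom_ext_base _ _)
  have hθ₁ : θ ≫ pullback.fst q b = a := pullback.lift_fst _ _ _
  have hθ₂ : θ ≫ pullback.snd q b = (yon S).map ((Over.map ι).map l) := pullback.lift_snd _ _ _
  have key : ∀ {Z : Over S} (r : Z ⟶ (Over.map ι).obj V), ∃ (Z₀ : Over S') (η : (Over.map ι).obj Z₀ ≅ Z)
      (r₀ : Z₀ ⟶ V), (Over.map ι).map r₀ = η.hom ≫ r := fun {Z} r => by
    refine ⟨Over.mk (r.left ≫ V.hom), Over.isoMk (Iso.refl _) (by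
      show 𝟙 _ ≫ Z.hom = (r.left ≫ V.hom) ≫ ι
      rw [Category.id_comp, Category.assoc, ← Over.w r]
      rfl), Over.homMk r.left, Over.OverMorphism.ext ?_⟩
    exact (Category.id_comp r.left).symm
  refine ⟨θ, UHPush.isIso_of_yon θ (fun Z k k' hk => ?_) fun Z y => ?_⟩
  · obtain ⟨k, rfl⟩ := (yon S).map_surjective k
    obtain ⟨k', rfl⟩ := (yon S).map_surjective k'
    have hV : k ≫ (Over.map ι).map l = k' ≫ (Over.map ι).map l := (yon S).map_injective (by
      rw [Functor.map_comp, Functor.map_comp, ← hθ₂, reassoc_of% hk])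
    obtain ⟨Z₀, η, r₀, hr₀⟩ := key (k ≫ (Over.map ι).map l)
    have hw : ∀ k₁ : Z ⟶ (Over.map ι).obj T, (η.hom ≫ k₁).left ≫ T.hom = Z₀.hom := fun k₁ => by
      rw [← cancel_mono ι, Category.assoc]
      exact Over.w (η.hom ≫ k₁)
    obtain ⟨m, hm⟩ := exists_over_hom (η.hom ≫ k) (hw k)
    obtain ⟨m', hm'⟩ := exists_over_hom (η.hom ≫ k') (hw k')
    have hmm : m = m' := by
      refine (yon S').map_injective ((cancel_mono e.hom).1 (pullback.hom_ext ?_ ?_))
      · apply (homEquiv Z₀).injective
        rw [Category.assoc, Category.assoc, homEquiv_naturality, homEquiv_naturality, hm, hm', Functor.map_comp,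
          Functor.map_comp, Category.assoc, Category.assoc]
        show _ ≫ _ ≫ a = _ ≫ _ ≫ a
        rw [← hθ₁, reassoc_of% hk]
      · rw [Category.assoc, Category.assoc, ← hl, ← Functor.map_comp, ← Functor.map_comp]
        refine congrArg _ (map_injective (g := ι) ?_)
        rw [Functor.map_comp, Functor.map_comp, hm, hm', Category.assoc, Category.assoc, hV]
    have : η.hom ≫ k = η.hom ≫ k' := by rw [← hm, ← hm', hmm]
    rw [(cancel_epi η.hom).1 this]
  · obtain ⟨r, hr⟩ := (yon S).map_surjective (y ≫ pullback.snd q b)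
    obtain ⟨Z₀, η, r₀, hr₀⟩ := key r
    let x₀ : (yon S').obj Z₀ ⟶ (res ι).obj X := (homEquiv Z₀).symm ((yon S).map η.hom ≫ y ≫ pullback.fst q b)
    obtain ⟨m, hm⟩ := (yon S').map_surjective (pullback.lift x₀ ((yon S').map r₀) (hom_ext_base _ _) ≫ e.inv)
    refine ⟨(yon S).map (η.inv ≫ (Over.map ι).map m), pullback.hom_ext ?_ ?_⟩
    · rw [Category.assoc, hθ₁, Functor.map_comp, Category.assoc, ← homEquiv_naturality, hm]
      simp only [Category.assoc, Iso.inv_hom_id_assoc, pullback.lift_fst]
      rw [Equiv.apply_symm_apply, ← Functor.map_comp_assoc, η.inv_hom_id, CategoryTheory.Functor.map_id,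
        Category.id_comp]
    · rw [Category.assoc, hθ₂, ← Functor.map_comp, ← hr]
      refine congrArg _ ?_
      have hml : m ≫ l = r₀ := (yon S').map_injective (by
        rw [Functor.map_comp, hm, hl, Category.assoc, Iso.inv_hom_id_assoc, pullback.lift_snd])
      rw [Category.assoc, ← Functor.map_comp, hml, hr₀, Iso.inv_hom_id_assoc]

end

/-- An open neighbourhood which is a scheme. -/
theorem exists_open_chart (X : Space S) (q : X.obj ⟶ (yon S).obj (Over.mk (𝟙 S))) (hqc : IsQuasiCompactMor q)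
    (hqs : IsQuasiSeparatedMor q) (x : Points X.obj) (s : S)
    (hxs : Points.map q x = Points.ofScheme (Over.mk (𝟙 S)) s)
    (h : ∀ (P : Sp S) (fst : P ⟶ X.obj) (snd : P ⟶ (yon S).obj (Over.mk (S.fromSpecStalk s))),
      IsPullback fst snd q ((yon S).map (Over.homMk (S.fromSpecStalk _))) → P.obj.IsRepresentable) :
    ∃ (A : Over S) (a : (yon S).obj A ⟶ X.obj) (t : ↥A.left), RepWith @IsOpenImmersion a ∧ Points.ofPt a t = x := by
  obtain ⟨_, ⟨U, hU, rfl⟩, hsU, -⟩ :=
    S.isBasis_affineOpens.exists_subset_of_mem_open (Set.mem_univ s) isOpen_univ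
  let ι : Spec Γ(S, U) ⟶ S := hU.fromSpec
  let R := Γ(S, U)
  let p := (hU.primeIdealOf ⟨s, hsU⟩).asIdeal
  letI : Algebra R (S.presheaf.stalk s) := TopCat.Presheaf.algebra_section_stalk S.presheaf ⟨s, hsU⟩
  haveI : IsLocalization.AtPrime (S.presheaf.stalk s) p := hU.isLocalization_stalk ⟨s, hsU⟩
  let st : Spec (S.presheaf.stalk s) ⟶ Spec Γ(S, U) :=
    Spec.map (CommRingCat.ofHom (algebraMap R (S.presheaf.stalk s)))
  have hst : st ≫ ι = S.fromSpecStalk s := hU.fromSpecStalk_eq_fromSpecStalk hsU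
  let P := Spec Γ(S, U)
  -- the basic neighbourhoods over the affine open
  let J := L05.NbhdLimit.Idx (A := R) p
  let tb := L05.NbhdLimit.toBase (A := R) p
  let D : J ⥤ Over P :=
    { obj := fun j => Over.mk (tb.app j)
      map := fun f => Over.homMk ((L05.NbhdLimit.D (A := R) p).map f) (by
        simpa using tb.naturality f)
      map_id := fun j => Over.OverMorphism.ext ((L05.NbhdLimit.D (A := R) p).map_id j)
      map_comp := fun f g => Over.OverMorphism.ext ((L05.NbhdLimit.D (A := R) p).map_comp f g) }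
  let c : Cone D :=
    { pt := Over.mk st
      π :=
        { app := fun j => Over.homMk ((L05.NbhdLimit.cone (A := R) p (S.presheaf.stalk s)).π.app j)
            (L05.NbhdLimit.cone_π_toBase (A := R) p (S.presheaf.stalk s) j)
          naturality := fun i j f => Over.OverMorphism.ext
            ((L05.NbhdLimit.cone (A := R) p (S.presheaf.stalk s)).π.naturality f) } }
  haveI : IsConnected J := IsCofiltered.isConnected J
  have hc : IsLimit c := isLimitOfReflects (Over.forget P)
    (IsLimit.ofIsoLimit (L05.NbhdLimit.isLimitCone (A := R) p (S.presheaf.stalk s)) (Cone.ext (Iso.refl _) fun j => by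
      simp [c, Functor.mapCone]))
  have hyc : IsLimit ((yon P).mapCone c) := isLimitOfPreserves (yon P) hc
  let one : (yon P).obj (Over.mk (𝟙 P)) ⟶ (yon P).obj (Over.mk (𝟙 P)) := 𝟙 _
  haveI : IsIso (Over.mk (𝟙 P)).hom := inferInstanceAs (IsIso (𝟙 P))
  let term := isTerminalBase P (U := Over.mk (𝟙 P))
  let tD : D ⋙ yon P ⟶ (Functor.const J).obj ((yon P).obj (Over.mk (𝟙 P))) :=
    { app := fun j => term.from _
      naturality := fun i j f => term.hom_ext _ _ }
  let hX : (res ι).obj X.obj ⟶ (yon P).obj (Over.mk (𝟙 P)) := term.from _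
  let gc : ((yon P).mapCone c).pt ⟶ (yon P).obj (Over.mk (𝟙 P)) := term.from _
  have hlim := Groth.L09.SpLimit.isLimitPbCone tD hX hyc gc fun j => term.hom_ext _ _
  let E := Groth.L09.SpLimit.pbSys tD hX
  have hAlgX : IsAlgSpace ((res ι).obj X.obj) := isAlgSpace_res X.property
  have hE : ∀ j, IsAlgSpace (E.obj j) := fun j =>
    isAlgSpace_of_isPullback (IsAlgSpace.yon_obj _).diag hAlgX (IsAlgSpace.yon_obj (D.obj j))
      (IsPullback.of_hasPullback hX (tD.app j))
  have haff : ∀ (i j : J) (f : i ⟶ j), IsAffineMor (E.map f) := fun i j f =>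
    isAffineMor_iff.2 (repWith_of_isPullback (Groth.L09.SpLimit.isPullback_pbSys tD hX f).flip
      (repWith_map (show IsAffineHom (D.map f).left from
        inferInstanceAs (IsAffineHom ((L05.NbhdLimit.D (A := R) p).map f)))))
  have hfst : ∀ j, RepWith @IsAffineHom (pullback.fst hX (tD.app j)) := fun j => by
    refine repWith_of_isPullback (IsPullback.of_hasPullback hX (tD.app j)).flip ?_
    obtain ⟨d, hd⟩ := (yon P).map_surjective (tD.app j)
    haveI : IsAffine (D.obj j).left := inferInstanceAs (IsAffine ((L05.NbhdLimit.D (A := R) p).obj j))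
    haveI : IsAffine (Over.mk (𝟙 P)).left := inferInstanceAs (IsAffine P)
    exact hd ▸ repWith_map (isAffineHom_of_isAffine d.left)
  have hXqc : IsQuasiCompactSp ((res ι).obj X.obj) := qc_res ι q X.property hqc
  have hXqs : IsQuasiSeparatedSp ((res ι).obj X.obj) := qs_res ι q hqs
  -- the limit is a scheme
  let sS : Over S := Over.mk (S.fromSpecStalk s)
  let b₀ : sS ⟶ Over.mk (𝟙 S) := Over.homMk (S.fromSpecStalk s)
  obtain ⟨T₀, ⟨e₀⟩⟩ := isRepresentable_iff_exists_iso.1
    (h _ _ _ (IsPullback.of_hasPullback q ((yon S).map b₀)))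
  have sqR := (IsPullback.of_hasPullback q ((yon S).map b₀)).map (res ι)
  let eS : (res ι).obj ((yon S).obj sS) ≅ (yon P).obj c.pt :=
    (res ι).mapIso ((yon S).mapIso (Over.isoMk (Iso.refl _) (by simpa [sS, c] using hst) : sS ≅ (Over.map ι).obj c.pt)) ≪≫ resYonIso ι c.pt
  have sqL := isPullback_terminal sqR (isTerminalResBase ι) term (Iso.refl _) (Iso.refl _) eS hX gc
  have hrep : ∃ (T : Over P), Nonempty ((yon P).obj T ≅ pullback hX gc) :=
    ⟨bcObj ι T₀, ⟨asIso (yonComparison ι T₀) ≪≫ (res ι).mapIso e₀ ≪≫ sqL.isoPullback⟩⟩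
  obtain ⟨T, ⟨e⟩⟩ := hrep
  obtain ⟨j, hj⟩ := Groth.L09.SpLimit.exists_isRepresentable hE haff
    (fun j => Groth.L09.SpLimit.qcSp_of_affine hAlgX hXqc (hfst j))
    (fun j => Groth.L09.SpLimit.qsSp_of_affine hXqs (hfst j)) hlim e
  obtain ⟨Tj, ⟨ej⟩⟩ := isRepresentable_iff_exists_iso.1 hj
  let b : (Over.map ι).obj (D.obj j) ⟶ Over.mk (𝟙 S) :=
    Over.homMk ((Over.map ι).obj (D.obj j)).hom (Category.comp_id _)
  obtain ⟨θ, hθ⟩ := exists_iso_pullback ι q (D.obj j) (tD.app j) hX ej ((yon S).map b)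
  haveI : IsOpenImmersion b.left := by
    show IsOpenImmersion (tb.app j ≫ ι)
    haveI := L05.NbhdLimit.toBase_isOpenImmersion (A := R) p j
    infer_instance
  have hopen : RepWith @IsOpenImmersion (θ ≫ pullback.fst q ((yon S).map b)) :=
    repWith_comp (repWith_of_isIso θ)
      (repWith_of_isPullback (IsPullback.of_hasPullback q ((yon S).map b)).flip (repWith_map ‹_›))
  obtain ⟨v, hv⟩ : ∃ v : ((Over.map ι).obj (D.obj j)).left, b.left v = s := by
    refine ⟨(L05.NbhdLimit.cone (A := R) p (S.presheaf.stalk s)).π.app j (IsLocalRing.closedPoint (S.presheaf.stalk s)), ?_⟩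
    show (tb.app j ≫ ι) _ = s
    rw [← Scheme.Hom.comp_apply, ← Category.assoc, L05.NbhdLimit.cone_π_toBase]
    show (st ≫ ι) _ = s
    rw [hst, Scheme.fromSpecStalk_closedPoint]
  obtain ⟨w, hw, -⟩ := exists_of_isPullback (IsPullback.of_hasPullback q ((yon S).map b)) x
    (Points.ofScheme _ v) (by
      rw [hxs, ← hv, ← Points.ofPt_eq_map_ofScheme, ← Points.ofScheme_toScheme _ (Points.ofPt ((yon S).map b) v),
        Points.toScheme_ofPt])
  obtain ⟨t, ht⟩ := (Points.schemeEquiv ((Over.map ι).obj Tj)).surjective (Points.map (inv θ) w)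
  refine ⟨_, _, t, hopen, ?_⟩
  rw [Points.ofPt_eq_map_ofScheme, show Points.ofScheme _ t = Points.map (inv θ) w from ht, ← Points.map_comp,
    IsIso.inv_hom_id_assoc, hw]

theorem isRepresentable_of_stalks (X : Space S) (q : X.obj ⟶ (yon S).obj (Over.mk (𝟙 S)))
    (hqc : IsQuasiCompactMor q) (hqs : IsQuasiSeparatedMor q)
    (h : ∀ x : Points X.obj, ∀ (P : Sp S) (fst : P ⟶ X.obj)
      (snd : P ⟶ (yon S).obj (Over.mk (S.fromSpecStalk ((Points.schemeHomeo (Over.mk (𝟙 S))).symm (Points.map q x))))),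
      IsPullback fst snd q ((yon S).map (Over.homMk (S.fromSpecStalk _))) → P.obj.IsRepresentable) :
    X.obj.obj.IsRepresentable := by
  obtain ⟨G, θ, hθ⟩ := OpenCharts.exists_scheme_of_open_charts X.property fun x =>
    exists_open_chart X q hqc hqs x _
      ((Points.schemeHomeo (Over.mk (𝟙 S))).apply_symm_apply (Points.map q x)).symm (h x)
  exact isRepresentable_iff_exists_iso.2 ⟨G, ⟨asIso θ⟩⟩

end Groth.L23.StalkRep
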