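import Groth.Agent.L23.DimZero
import Groth.Agent.L23.Decent3
import Mathlib.AlgebraicGeometry.Morphisms.QuasiFinite

/-!
# Algebraic spaces of dimension zero
-/

universe u

open CategoryTheory CategoryTheory.Limits AlgebraicGeometry Opposite AlgSp Topology

set_option backward.isDefEq.respectTransparency.types false
set_option linter.style.haveILetI false

namespace Groth.L23.DimZero

variable {S : Scheme.{u}} {X : Sp S}

/-- Charts of a zero-dimensional space have no specializations. -/
theorem eq_of_specializes_chart (hd : AlgSp.dim X ≤ 0) {U : Over S} {a : (yon S).obj U ⟶ X}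
    (ha : RepWith @Etale a) (x y : U.left) (h : y ⤳ x) : y = x := by
  let := specializationOrder U.left
  have h0 : topologicalKrullDim U.left ≤ 0 := le_trans
    (le_iSup_of_le U (le_iSup₂_of_le (f := fun (a : (yon S).obj U ⟶ X) (_ : RepWith @Etale a) => topologicalKrullDim U.left) a ha le_rfl)) hd
  unfold topologicalKrullDim at h0
  rw [Order.krullDim_eq_of_orderIso (irreducibleSetEquivPoints (α := U.left)),
    Order.krullDim_nonpos_iff_forall_isMax] at h0
  have hxy : y ≤ x ∨ x ≤ y := Or.inr (show y ⤳ x from h)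
  exact (h.antisymm (h0 x (show y ⤳ x from h))).eq

/-- A space covered by schematic points with quasi-separated charts is a separated scheme with affine compact opens. -/
theorem exists_separated_scheme (hX : IsAlgSpace X) (hd : AlgSp.dim X ≤ 0) (hpts : ∀ x : Points X, SL.SchemePt x)
    (hqs : ∀ (G : Over S) (θ : (yon S).obj G ⟶ X), IsIso θ → QuasiSeparatedSpace G.left) :
    ∃ (U : Over S) (_ : (yon S).obj U ≅ X), U.left.IsSeparated ∧
      ∀ V : U.left.Opens, IsCompact (V : Set U.left) → IsAffineOpen V := by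
  obtain ⟨G, θ, hθ⟩ := OpenCharts.exists_scheme_of_open_charts hX hpts
  have := hqs G θ hθ
  have h := eq_of_specializes_chart hd
    (repWith_of_isIso (P := (@Etale : MorphismProperty Scheme.{u})) θ)
  exact ⟨G, asIso θ, isSeparated h, isAffineOpen_of_isCompact h⟩

/-- Quasi-separatedness passes to the representing scheme. -/
theorem quasiSeparatedSpace_of_iso [QuasiSeparatedSpace S] (hd : RepWith @QuasiCompact (Limits.diag X))
    (hX : IsAlgSpace X) (G : Over S) (θ : (yon S).obj G ⟶ X) [IsIso θ] : QuasiSeparatedSpace G.left := by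
  rw [quasiSeparatedSpace_iff_forall_affineOpens]
  intro A B
  let WA : Over S := Over.mk (A.1.ι ≫ G.hom)
  let WB : Over S := Over.mk (B.1.ι ≫ G.hom)
  let a : (yon S).obj WA ⟶ X := (yon S).map (Over.homMk A.1.ι rfl : WA ⟶ G) ≫ θ
  let b : (yon S).obj WB ⟶ X := (yon S).map (Over.homMk B.1.ι rfl : WB ⟶ G) ≫ θ
  obtain ⟨P, p, q, sq⟩ := exists_isPullback_of_representable (hX.representable_from_yon a) b
  have : IsAffine WA.left := A.2
  have : IsAffine WB.left := B.2
  have := compactSpace_of_qs hd sq
  convert (isCompact_univ (X := P.left)).image (p.left ≫ A.1.ι).continuous using 1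
  ext z
  constructor
  · rintro ⟨hzA, hzB⟩
    obtain ⟨r, hr, -⟩ := (ofPt_eq_ofPt_iff sq ⟨z, hzA⟩ ⟨z, hzB⟩).1
      ((ofPt_openMk A.1 θ ⟨z, hzA⟩).trans (ofPt_openMk B.1 θ ⟨z, hzB⟩).symm)
    exact ⟨r, trivial, by rw [Scheme.Hom.comp_apply, hr]; rfl⟩
  · rintro ⟨r, -, rfl⟩
    refine ⟨(p.left r).2, ?_⟩
    have e : Points.ofPt a (p.left r) = Points.ofPt b (q.left r) := (ofPt_eq_ofPt_iff sq _ _).2 ⟨r, rfl, rfl⟩
    rw [ofPt_openMk A.1 θ (p.left r), ofPt_openMk B.1 θ (q.left r), Points.ofPt_eq_map_ofScheme,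
      Points.ofPt_eq_map_ofScheme] at e
    have e2 : A.1.ι (p.left r) = B.1.ι (q.left r) := (Points.schemeEquiv G).injective
      (show Points.ofScheme G _ = Points.ofScheme G _ from QFL.map_injective_of_mono θ e)
    show A.1.ι (p.left r) ∈ B.1
    rw [e2]
    exact (q.left r).2

/-- Generic points of zero-dimensional qs spaces. -/
theorem hasAt_stalkDim_zero (hX : IsAlgSpace X) (hd : AlgSp.dim X ≤ 0) (x : Points X) :
    HasAt (fun U u => ringKrullDim (U.presheaf.stalk u) = 0) X x := by
  obtain ⟨U, a, ha, has⟩ := hX.atlas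
  obtain ⟨u, rfl⟩ := surjective_ofPt has x
  refine ⟨U, a, u, ha, rfl, ?_⟩
  show ringKrullDim _ = 0
  rw [ringKrullDim_stalk_eq_coheight, WithBot.coe_eq_zero, Order.coheight_eq_zero]
  intro w hw
  have : w = u := eq_of_specializes_chart hd ha u w hw
  exact this ▸ le_rfl

/-- Points of zero-dimensional spaces locally of finite type over a field are schematic. -/
theorem schemePt_of_field {k : Type u} [Field k] {X : Sp (Spec (CommRingCat.of k))} (hX : IsAlgSpace X)
    (hd : AlgSp.dim X ≤ 0)
    (hlft : ∀ (U : Over (Spec (CommRingCat.of k))) (a : (yon _).obj U ⟶ X), RepWith @Etale a → LocallyOfFiniteType U.hom)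
    (x : Points X) : SL.SchemePt x := by
  classical
  obtain ⟨U, a, ha, has⟩ := hX.atlas
  obtain ⟨u, rfl⟩ := surjective_ofPt has x
  have disc : ∀ (V : Over (Spec (CommRingCat.of k))) (b : (yon _).obj V ⟶ X), RepWith @Etale b →
      DiscreteTopology V.left := by
    intro V b hb
    rw [discreteTopology_iff_isOpen_singleton]
    intro v
    have := hlft V b hb
    have := LocallyOfFiniteType.isLocallyNoetherian V.hom
    obtain ⟨_, ⟨B, hB, rfl⟩, hvB, -⟩ :=
      V.left.isBasis_affineOpens.exists_subset_of_mem_open (Set.mem_univ v) isOpen_univ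
    change V.left.Opens at B
    have := t2Space_affine (eq_of_specializes_chart hd hb) hB
    have : IsLocallyNoetherian (B : Scheme.{u}) := isLocallyNoetherian_of_isOpenImmersion B.ι
    have : IsAffine (B : Scheme.{u}) := hB
    have : CompactSpace (B : Scheme.{u}) := inferInstance
    have : IsNoetherian (B : Scheme.{u}) := {}
    have := TopologicalSpace.NoetherianSpace.finite (α := ↥(B : Scheme.{u}))
    convert B.ι.isOpenEmbedding.isOpenMap _ (isOpen_discrete (α := ↥(B : Scheme.{u})) {(⟨v, hvB⟩ : ↥(B : Scheme.{u}))}) using 1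
    exact (Set.image_singleton (f := B.ι) (a := (⟨v, hvB⟩ : ↥(B : Scheme.{u})))).symm
  have := disc U a ha
  let G : U.left.Opens := ⟨{u}, isOpen_discrete _⟩
  let W : Over (Spec (CommRingCat.of k)) := Over.mk (G.ι ≫ U.hom)
  let b₀ : (yon _).obj W ⟶ X := (yon _).map (Over.homMk G.ι rfl : W ⟶ U) ≫ a
  have hb₀ : RepWith @Etale b₀ := repWith_comp (repWith_etale_openMk G) ha
  obtain ⟨Z, j, b, hZ, hj, hbe, hbs, hbj, hr⟩ := Qs.exists_openSub_chart hX hb₀
  have := disc W b₀ hb₀
  have : Subsingleton W.left := ⟨fun p q => Subtype.ext (p.2.trans q.2.symm)⟩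
  have : IsAffine W.left := inferInstance
  obtain ⟨R, t, s, sR⟩ := exists_isPullback_of_representable (hZ.representable_from_yon b) b
  have : Etale t.left := repWith_prop hbe sR.flip
  have hRj : RepWith @Etale ((yon _).map t ≫ b₀) := repWith_comp (repWith_map ‹Etale t.left›) hb₀
  have := disc R _ hRj
  have : LocallyOfFiniteType W.hom := hlft W b₀ hb₀
  have : QuasiCompact W.hom := (HasAffineProperty.iff_of_isAffine (P := @QuasiCompact)).2 inferInstance
  have : LocallyQuasiFinite W.hom := .of_injective fun p q _ => Subsingleton.elim p q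
  have hfin : Finite ↥(Limits.pullback W.hom W.hom : Scheme.{u}) := by
    have hsub : ∀ w : W.left, ((pullback.fst W.hom W.hom) ⁻¹' {w}).Finite :=
      (pullback.fst W.hom W.hom).finite_preimage_singleton
    refine Set.finite_univ_iff.1 (((Set.toFinite (Set.univ : Set W.left)).biUnion fun w _ => hsub w).subset
      fun z _ => Set.mem_biUnion trivial rfl)
  let δ : R.left ⟶ Limits.pullback W.hom W.hom :=
    pullback.lift t.left s.left (by rw [Over.w t, Over.w s])
  have : Mono δ := ⟨fun {T} φ ψ e => by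
    let T' : Over (Spec (CommRingCat.of k)) := Over.mk (φ ≫ R.hom)
    have e1 : φ ≫ t.left = ψ ≫ t.left := by
      simpa [δ, pullback.lift_fst] using congrArg (· ≫ pullback.fst _ _) e
    have e2 : φ ≫ s.left = ψ ≫ s.left := by
      simpa [δ, pullback.lift_snd] using congrArg (· ≫ pullback.snd _ _) e
    let φ' : T' ⟶ R := Over.homMk φ
    let ψ' : T' ⟶ R := Over.homMk ψ (by
      show ψ ≫ R.hom = φ ≫ R.hom
      rw [← Over.w t, ← Category.assoc, ← e1, Category.assoc])
    have : φ' = ψ' := (yon _).map_injective (sR.hom_ext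
      (by rw [← Functor.map_comp, ← Functor.map_comp]; exact congrArg _ (Over.OverMorphism.ext e1))
      (by rw [← Functor.map_comp, ← Functor.map_comp]; exact congrArg _ (Over.OverMorphism.ext e2)))
    exact congrArg (fun m : T' ⟶ R => m.left) this⟩
  have : Finite R.left := Finite.of_injective _ δ.injective
  have : QuasiCompact t.left := (HasAffineProperty.iff_of_isAffine (P := @QuasiCompact)).2 inferInstance
  have hqsZ := Qs.isQuasiSeparatedSp_of_compact hZ fun A B P α β fst snd hA hB sq =>
    Qs.compact_of_chart hZ hbe hbs sR A B P α β fst snd sq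
  have hux : Points.ofPt a u ∈ Set.range (Points.map j) :=
    hr.ge ⟨(⟨u, rfl⟩ : ↥(G : Scheme.{u})), ofPt_openMk G a ⟨u, rfl⟩⟩
  obtain ⟨z, hz⟩ := hux
  rw [← hz]
  obtain ⟨w, rfl⟩ := surjective_ofPt hbs z
  refine (SL.schemePt_qs hZ hqsZ ((Pt.hasAt_stalkDim_iff hZ hbe w (fun d => d = 0)).2 ?_)).map hj
  show ringKrullDim _ = 0
  rw [ringKrullDim_stalk_eq_coheight, WithBot.coe_eq_zero, Order.coheight_eq_zero]
  intro v hv
  exact (Subsingleton.elim v w) ▸ le_rfl

end Groth.L23.DimZero
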