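import Groth.Agent.L23.NormGlobal
import Groth.Agent.L23.LqfRep
import Groth.Agent.L23.EtaleMono
import Mathlib.AlgebraicGeometry.Limits
import Mathlib.AlgebraicGeometry.Morphisms.Finite

/-!
# The main theorem of Zariski for the normalization of a space
-/

universe u

open CategoryTheory CategoryTheory.Limits AlgebraicGeometry Opposite AlgSp

set_option backward.isDefEq.respectTransparency.types false
set_option linter.style.haveILetI false

namespace Groth.L23.Norm

variable {S : Scheme.{u}}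

lemma hom_eq_of_isEmpty {W M : Over S} [IsEmpty W.left] (a b : W ⟶ M) : a = b :=
  hom_ext_cover' (ι := PEmpty.{1}) (U := fun i => i.elim) (fun i => i.elim) (fun t => isEmptyElim t)
    fun i => i.elim

/-- Maps out of a scheme split in two open pieces. -/
theorem existsUnique_desc₂ {E E' U M : Over S} (e : E ⟶ U) (e' : E' ⟶ U) [IsOpenImmersion e.left]
    [IsOpenImmersion e'.left] (hc : ∀ u, u ∈ Set.range e.left ∨ u ∈ Set.range e'.left)
    (hd : ∀ x y, e.left x ≠ e'.left y) (a : E ⟶ M) (a' : E' ⟶ M) :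
    ∃! m : U ⟶ M, e ≫ m = a ∧ e' ≫ m = a' := by
  let V : Bool → Over S := fun b => match b with | true => E | false => E'
  let g : ∀ b, V b ⟶ U := fun b => match b with | true => e | false => e'
  let x : ∀ b, V b ⟶ M := fun b => match b with | true => a | false => a'
  have hg : ∀ b, IsOpenImmersion (g b).left := fun b => match b with
    | true => ‹IsOpenImmersion e.left›
    | false => ‹IsOpenImmersion e'.left›
  have hs : ∀ t, ∃ b v, (g b).left v = t := fun t => (hc t).elim (fun ⟨v, hv⟩ => ⟨true, v, hv⟩)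
    fun ⟨v, hv⟩ => ⟨false, v, hv⟩
  obtain ⟨m', hm', hu'⟩ := existsUnique_glue g hs (fun b => (yon S).map (x b)) fun W b b' k k' w => by
    rw [← Functor.map_comp, ← Functor.map_comp]
    congr 1
    match b, b' with
    | true, true =>
      have : Mono e := (Over.forget S).mono_of_mono_map (inferInstanceAs (Mono e.left))
      rw [show k = k' from (cancel_mono e).1 w]
    | false, false =>
      have : Mono e' := (Over.forget S).mono_of_mono_map (inferInstanceAs (Mono e'.left))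
      rw [show k = k' from (cancel_mono e').1 w]
    | true, false =>
      have : IsEmpty W.left := ⟨fun z => hd (k.left z) (k'.left z) (congr_arg (fun φ : W ⟶ U => φ.left z) w)⟩
      exact hom_eq_of_isEmpty _ _
    | false, true =>
      have : IsEmpty W.left := ⟨fun z => hd (k'.left z) (k.left z) (congr_arg (fun φ : W ⟶ U => φ.left z) w).symm⟩
      exact hom_eq_of_isEmpty _ _
  obtain ⟨m, rfl⟩ := (yon S).map_surjective m'
  refine ⟨m, ⟨(yon S).map_injective (by rw [Functor.map_comp]; exact hm' true),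
    (yon S).map_injective (by rw [Functor.map_comp]; exact hm' false)⟩,
    fun m₁ hm₁ => (yon S).map_injective (hu' _ fun b => ?_)⟩
  match b with
  | true => rw [← Functor.map_comp]; exact congr_arg _ hm₁.1
  | false => rw [← Functor.map_comp]; exact congr_arg _ hm₁.2

lemma exists_lift_open {W E U : Over S} (e : E ⟶ U) [IsOpenImmersion e.left] (x : W ⟶ U)
    (h : ∀ w, x.left w ∈ Set.range e.left) : ∃ l : W ⟶ E, l ≫ e = x :=
  ⟨Over.homMk (IsOpenImmersion.lift e.left x.left (by rintro _ ⟨w, rfl⟩; exact h w)) (by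
    show _ ≫ E.hom = W.hom
    rw [← Over.w e, IsOpenImmersion.lift_fac_assoc, Over.w x]), Over.OverMorphism.ext (IsOpenImmersion.lift_fac _ _ _)⟩

/-- The sum of an integral scheme with the base. -/
theorem exists_sum {T U₁ : Over S} [IsAffine T.left] [IsAffine U₁.left] (fT : U₁ ⟶ T) [IsIntegralHom fT.left] :
    ∃ (M : Over S) (μ : M ⟶ T) (il : U₁ ⟶ M) (ir : T ⟶ M), IsIntegralHom μ.left ∧ IsOpenImmersion il.left ∧
      IsOpenImmersion ir.left ∧ il ≫ μ = fT ∧ ir ≫ μ = 𝟙 _ ∧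
      (∀ x, x ∈ Set.range il.left ∨ x ∈ Set.range ir.left) ∧ ∀ a b, il.left a ≠ ir.left b := by
  let A := Γ(T.left, ⊤)
  let C := Γ(U₁.left, ⊤)
  let φ : A ⟶ C := fT.left.appTop
  let ρ : A ⟶ CommRingCat.of (C × A) := CommRingCat.ofHom (φ.hom.prod (RingHom.id A))
  let pC : CommRingCat.of (C × A) ⟶ C := CommRingCat.ofHom (RingHom.fst C A)
  let pA : CommRingCat.of (C × A) ⟶ A := CommRingCat.ofHom (RingHom.snd C A)
  let μ' : Spec (.of (C × A)) ⟶ T.left := Spec.map ρ ≫ T.left.isoSpec.inv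
  let M : Over S := Over.mk (μ' ≫ T.hom)
  have eC : ρ ≫ pC = φ := rfl
  have eA : ρ ≫ pA = 𝟙 A := rfl
  have hl : (U₁.left.isoSpec.hom ≫ Spec.map pC) ≫ μ' = fT.left := by
    simp only [μ', Category.assoc]
    rw [← Spec.map_comp_assoc, eC, ← Category.assoc, Iso.comp_inv_eq]
    exact Scheme.isoSpec_hom_naturality fT.left
  have hr : (T.left.isoSpec.hom ≫ Spec.map pA) ≫ μ' = 𝟙 T.left := by
    simp only [μ', Category.assoc]
    rw [← Spec.map_comp_assoc, eA, Spec.map_id, Category.id_comp, Iso.hom_inv_id]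
  let il : U₁ ⟶ M := Over.homMk (U₁.left.isoSpec.hom ≫ Spec.map pC) (by
    show (U₁.left.isoSpec.hom ≫ Spec.map pC) ≫ μ' ≫ T.hom = U₁.hom
    rw [← Category.assoc, hl]; exact Over.w fT)
  let ir : T ⟶ M := Over.homMk (T.left.isoSpec.hom ≫ Spec.map pA) (by
    show (T.left.isoSpec.hom ≫ Spec.map pA) ≫ μ' ≫ T.hom = T.hom
    rw [← Category.assoc, hr, Category.id_comp])
  have hpC : IsOpenImmersion (Spec.map pC) := by
    have := coprodSpec_inl (R := (C : Type u)) (S := (A : Type u))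
    show IsOpenImmersion (Spec.map (CommRingCat.ofHom (RingHom.fst C A)))
    rw [← this]; infer_instance
  have hpA : IsOpenImmersion (Spec.map pA) := by
    have := coprodSpec_inr (R := (C : Type u)) (S := (A : Type u))
    show IsOpenImmersion (Spec.map (CommRingCat.ofHom (RingHom.snd C A)))
    rw [← this]; infer_instance
  refine ⟨M, Over.homMk μ', il, ir, ?_, inferInstanceAs (IsOpenImmersion (_ ≫ _)),
    inferInstanceAs (IsOpenImmersion (_ ≫ _)), Over.OverMorphism.ext hl, Over.OverMorphism.ext hr, ?_, ?_⟩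
  · have hφ : φ.hom.IsIntegral := ((HasAffineProperty.iff_of_isAffine (P := @IsIntegralHom)).1 ‹IsIntegralHom fT.left›).2
    have : IsIntegralHom (Spec.map ρ) := by
      rw [IsIntegralHom.SpecMap_iff]
      letI := φ.hom.toAlgebra
      intro x
      exact IsIntegral.pair (R := (A : Type u)) (hφ x.1) (isIntegral_algebraMap (R := (A : Type u)) (A := (A : Type u)) (x := x.2))
    exact inferInstanceAs (IsIntegralHom (Spec.map ρ ≫ T.left.isoSpec.inv))
  · intro x
    obtain ⟨y, hy⟩ := (asIso (coprodSpec (C : Type u) (A : Type u))).hom.homeomorph.surjective x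
    obtain ⟨(q | q), rfl⟩ := (coprodMk _ _).surjective y
    · refine Or.inl ⟨U₁.left.isoSpec.inv q, ?_⟩
      rw [coprodMk_inl] at hy
      show (U₁.left.isoSpec.hom ≫ Spec.map pC) _ = _
      rw [← Scheme.Hom.comp_apply, Iso.inv_hom_id_assoc, show pC = CommRingCat.ofHom (RingHom.fst C A) from rfl,
        ← coprodSpec_inl, Scheme.Hom.comp_apply]
      exact hy
    · refine Or.inr ⟨T.left.isoSpec.inv q, ?_⟩
      rw [coprodMk_inr] at hy
      show (T.left.isoSpec.hom ≫ Spec.map pA) _ = _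
      rw [← Scheme.Hom.comp_apply, Iso.inv_hom_id_assoc, show pA = CommRingCat.ofHom (RingHom.snd C A) from rfl,
        ← coprodSpec_inr, Scheme.Hom.comp_apply]
      exact hy
  · intro a b h
    change (Spec.map pC) (U₁.left.isoSpec.hom a) = (Spec.map pA) (T.left.isoSpec.hom b) at h
    rw [show pC = CommRingCat.ofHom (RingHom.fst C A) from rfl, show pA = CommRingCat.ofHom (RingHom.snd C A) from rfl,
      ← coprodSpec_inl, ← coprodSpec_inr] at h
    have h' := (coprodSpec (C : Type u) (A : Type u)).isOpenEmbedding.injective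
      (show coprodSpec _ _ (coprod.inl (C := Scheme.{u}) (U₁.left.isoSpec.hom a)) =
        coprodSpec _ _ (coprod.inr (C := Scheme.{u}) (T.left.isoSpec.hom b)) from h)
    have := isCompl_range_inl_inr (Spec (CommRingCat.of (C : Type u))) (Spec (CommRingCat.of (A : Type u)))
    exact Set.disjoint_left.1 this.disjoint ⟨_, rfl⟩ ⟨_, h'.symm⟩

set_option maxHeartbeats 800000 in
/-- A finite open and closed piece splits off the normalization. -/
theorem IsNorm.exists_split {P : Sp S} {T N U₁ : Over S} [IsAffine T.left] [IsAffine U₁.left]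
    {q : P ⟶ (yon S).obj T} {ν : N ⟶ T} {γ : P ⟶ (yon S).obj N} (hN : IsNorm q ν γ) (hP : IsQuasiCompactSp P)
    (hqs : RepWith @QuasiCompact (pullback.diagonal q)) (fT : U₁ ⟶ T) [IsIntegralHom fT.left]
    (j : (yon S).obj U₁ ⟶ P) (hjo : RepWith @IsOpenImmersion j) (hjc : RepWith @IsClosedImmersion j)
    (hjq : j ≫ q = (yon S).map fT) :
    ∃ s : U₁ ⟶ N, IsOpenImmersion s.left ∧ IsPullback j (𝟙 _) γ ((yon S).map s) := by
  obtain ⟨U, R, p, r₁, r₂, hU, hR, hp⟩ := exists_isPres q hP hqs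
  have := hp.epi
  obtain ⟨h₀, hh₀⟩ := (yon S).map_surjective (p ≫ q)
  obtain ⟨M, μ, il, ir, hμ, hil, hir, hilμ, hirμ, hMc, hMd⟩ := exists_sum fT
  have : Mono il := (Over.forget S).mono_of_mono_map (inferInstanceAs (Mono il.left))
  obtain ⟨E, e₁, ε, sE⟩ : ∃ (E : Over S) (e₁ : E ⟶ U₁) (ε : E ⟶ U),
      IsPullback ((yon S).map e₁) ((yon S).map ε) j p := exists_isPullback_of_representable hjo.1 p
  have : IsOpenImmersion ε.left := repWith_prop hjo sE
  have : IsClosedImmersion ε.left := repWith_prop hjc sE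
  let E₀ : U.left.Opens := ⟨(Set.range ε.left)ᶜ, ε.left.isClosedMap.isClosed_range.isOpen_compl⟩
  let ε' : openOver U E₀ ⟶ U := openOverι U E₀
  have hUc : ∀ u, u ∈ Set.range ε.left ∨ u ∈ Set.range ε'.left := fun u => by
    by_cases hu : u ∈ Set.range ε.left
    · exact Or.inl hu
    · exact Or.inr ⟨⟨u, hu⟩, rfl⟩
  have hUd : ∀ x y, ε.left x ≠ ε'.left y := fun x y hxy => y.2 ⟨x, hxy⟩
  obtain ⟨m, ⟨hm₁, hm₂⟩, -⟩ := existsUnique_desc₂ ε ε' hUc hUd (e₁ ≫ il) (ε' ≫ h₀ ≫ ir)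
  have hh₀ε : e₁ ≫ fT = ε ≫ h₀ := (yon S).map_injective (by
    rw [Functor.map_comp, Functor.map_comp, hh₀, ← hjq, ← Category.assoc, sE.w, Category.assoc])
  have hmμ : m ≫ μ = h₀ := (existsUnique_desc₂ ε ε' hUc hUd (e₁ ≫ fT) (ε' ≫ h₀)).unique
    ⟨by rw [reassoc_of% hm₁, hilμ], by rw [reassoc_of% hm₂, hirμ, Category.comp_id]⟩ ⟨hh₀ε.symm, rfl⟩
  have hr : r₁ ≫ h₀ = r₂ ≫ h₀ := (yon S).map_injective (by
    rw [Functor.map_comp, Functor.map_comp, hh₀, ← Category.assoc, hp.w, Category.assoc])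
  have hrm : r₁ ≫ m = r₂ ≫ m := by
    have key : ∀ (a b : R ⟶ U), (yon S).map a ≫ p = (yon S).map b ≫ p → ∀ {W : Over S} (w : W ⟶ R) (l : W ⟶ E),
        w ≫ a = l ≫ ε → ∃ l' : W ⟶ E, w ≫ b = l' ≫ ε ∧ l' ≫ e₁ = l ≫ e₁ := by
      intro a b hab W w l hl
      obtain ⟨l', h₁, h₂⟩ := sE.exists_lift ((yon S).map (l ≫ e₁)) ((yon S).map (w ≫ b)) (by
        rw [Functor.map_comp_assoc, sE.w, ← Functor.map_comp_assoc, ← hl, Functor.map_comp_assoc, hab,
          Functor.map_comp_assoc])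
      obtain ⟨l', rfl⟩ := (yon S).map_surjective l'
      exact ⟨l', ((yon S).map_injective (by rw [Functor.map_comp]; exact h₂)).symm,
        (yon S).map_injective (by rw [Functor.map_comp, h₁])⟩
    refine hom_ext_cover' (fun b : Bool => openOverι R (bif b then r₁.left ⁻¹ᵁ ε.left.opensRange else r₁.left ⁻¹ᵁ E₀))
      (fun t => ?_) fun b => ?_
    · by_cases ht : r₁.left t ∈ Set.range ε.left
      · exact ⟨true, ⟨t, ht⟩, rfl⟩
      · exact ⟨false, ⟨t, ht⟩, rfl⟩
    cases b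
    · let w := openOverι R (r₁.left ⁻¹ᵁ E₀)
      show w ≫ r₁ ≫ m = w ≫ r₂ ≫ m
      obtain ⟨l₁, hl₁⟩ := exists_lift_open ε' (w ≫ r₁) fun x => ⟨⟨r₁.left x.1, x.2⟩, rfl⟩
      obtain ⟨l₂, hl₂⟩ := exists_lift_open ε' (w ≫ r₂) fun x => ⟨⟨r₂.left x.1, fun ⟨z, hz⟩ => by
        let O := r₂.left ⁻¹ᵁ ε.left.opensRange ⊓ r₁.left ⁻¹ᵁ E₀
        obtain ⟨l, hl⟩ := exists_lift_open ε (openOverι R O ≫ r₂) fun y => y.2.1
        obtain ⟨l', hl', -⟩ := key r₂ r₁ hp.w.symm (openOverι R O) l hl.symm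
        exact (x.2 : r₁.left x.1 ∈ E₀) ⟨l'.left ⟨x.1, ⟨z, hz⟩, x.2⟩,
          (congr_arg (fun φ : openOver R O ⟶ U => φ.left ⟨x.1, ⟨z, hz⟩, x.2⟩) hl').symm⟩⟩, rfl⟩
      rw [← Category.assoc, ← hl₁, ← Category.assoc, ← hl₂, Category.assoc, Category.assoc, hm₂, reassoc_of% hl₁,
        reassoc_of% hl₂, reassoc_of% hr]
    · let w := openOverι R (r₁.left ⁻¹ᵁ ε.left.opensRange)
      show w ≫ r₁ ≫ m = w ≫ r₂ ≫ m
      obtain ⟨l, hl⟩ := exists_lift_open ε (w ≫ r₁) fun x => x.2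
      obtain ⟨l', hl', he'⟩ := key r₁ r₂ hp.w w l hl.symm
      rw [← Category.assoc, ← hl, ← Category.assoc, hl', Category.assoc, Category.assoc, hm₁, reassoc_of% he']
  obtain ⟨g, hg⟩ := hp.exists_desc ((yon S).map m) (by rw [← Functor.map_comp, ← Functor.map_comp, hrm])
  obtain ⟨h, ⟨hhμ, hγh⟩, -⟩ := hN.desc M μ hμ g (by
    rw [← cancel_epi p, ← Category.assoc, hg, ← Functor.map_comp, hmμ, hh₀])
  obtain ⟨s, hs⟩ := (yon S).map_surjective (j ≫ γ)
  have hsν : s ≫ ν = fT := (yon S).map_injective (by rw [Functor.map_comp, hs, Category.assoc, hN.fac, hjq])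
  have : Epi ((yon S).map e₁) := epi_of_repWith _ (repWith_map (repWith_prop hp.etale sE.flip))
    (repWith_map (repWith_prop hp.surj sE.flip))
  have hsh : s ≫ h = il := (yon S).map_injective (by
    rw [← cancel_epi ((yon S).map e₁), Functor.map_comp, hs, Category.assoc, hγh, reassoc_of% sE.w, hg,
      ← Functor.map_comp, hm₁, Functor.map_comp])
  -- the piece of the normalization
  let O : N.left.Opens := h.left ⁻¹ᵁ il.left.opensRange
  let O' : N.left.Opens := h.left ⁻¹ᵁ ir.left.opensRange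
  let ι := openOverι N O
  let ι' := openOverι N O'
  have hNc : ∀ z, z ∈ Set.range ι.left ∨ z ∈ Set.range ι'.left := fun z =>
    (hMc (h.left z)).imp (fun hz => ⟨⟨z, hz⟩, rfl⟩) fun hz => ⟨⟨z, hz⟩, rfl⟩
  have hNd : ∀ x y, ι.left x ≠ ι'.left y := fun x y hxy => by
    obtain ⟨a, ha⟩ := x.2
    obtain ⟨b, hb⟩ := y.2
    exact hMd a b (ha.trans ((congr_arg h.left hxy).trans hb.symm))
  obtain ⟨h', hh'⟩ := exists_lift_open il (ι ≫ h) fun x => x.2
  obtain ⟨s', hs'⟩ := exists_lift_open ι s fun x =>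
    ⟨⟨s.left x, ⟨x, (congr_arg (fun φ : U₁ ⟶ M => φ.left x) hsh).symm⟩⟩, rfl⟩
  have hsh' : s' ≫ h' = 𝟙 _ := (cancel_mono il).1 (by rw [Category.assoc, hh', reassoc_of% hs', hsh, Category.id_comp])
  obtain ⟨k, ⟨hk₁, hk₂⟩, -⟩ := existsUnique_desc₂ ι ι' hNc hNd (h' ≫ s) ι'
  have hkν : k ≫ ν = ν := (existsUnique_desc₂ ι ι' hNc hNd (ι ≫ ν) (ι' ≫ ν)).unique
    ⟨by rw [reassoc_of% hk₁, hsν, ← hilμ, reassoc_of% hh', hhμ], by rw [reassoc_of% hk₂]⟩ ⟨rfl, rfl⟩
  obtain ⟨nU, hnU⟩ := (yon S).map_surjective (p ≫ γ)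
  have hnh : nU ≫ h = m := (yon S).map_injective (by rw [Functor.map_comp, hnU, Category.assoc, hγh, hg])
  have hεn : ε ≫ nU = e₁ ≫ s := (yon S).map_injective (by
    rw [Functor.map_comp, Functor.map_comp, hnU, hs, reassoc_of% sE.w])
  have hsk : s ≫ k = s := by rw [← hs', Category.assoc, hk₁, reassoc_of% hsh', hs']
  have hnk : nU ≫ k = nU := (existsUnique_desc₂ ε ε' hUc hUd (ε ≫ nU) (ε' ≫ nU)).unique
    ⟨by rw [reassoc_of% hεn, hsk, hεn], by
      obtain ⟨l, hl⟩ := exists_lift_open ι' (ε' ≫ nU) fun x => ⟨⟨(ε' ≫ nU).left x, ⟨(ε' ≫ h₀).left x, by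
        show (ε' ≫ h₀ ≫ ir).left x = ((ε' ≫ nU) ≫ h).left x
        rw [Category.assoc, hnh, hm₂]⟩⟩, rfl⟩
      rw [← Category.assoc, ← hl, Category.assoc, hk₂]⟩ ⟨rfl, rfl⟩
  have hk : k = 𝟙 N := hN.hom_ext hN.integral hkν (Category.id_comp _) (by
    rw [← cancel_epi p, ← Category.assoc, ← hnU, ← Functor.map_comp, hnk, (yon S).map_id, Category.comp_id, hnU])
  rw [hk, Category.comp_id] at hk₁
  have : Mono ι := (Over.forget S).mono_of_mono_map (inferInstanceAs (Mono O.ι))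
  have hh's' : h' ≫ s' = 𝟙 _ := (cancel_mono ι).1 (by rw [Category.assoc, hs', ← hk₁, Category.id_comp])
  have : IsIso s' := ⟨h', hsh', hh's'⟩
  have : IsIso s'.left := inferInstanceAs (IsIso ((Over.forget S).map s'))
  have hso : IsOpenImmersion s.left := by
    rw [← hs']; exact inferInstanceAs (IsOpenImmersion (s'.left ≫ O.ι))
  refine ⟨s, hso, UHPush.isPullback_of_yon (by rw [hs, Category.id_comp]) (fun Z a b _ h₂ => by simpa using h₂)
    fun Z x y hxy => ?_⟩
  obtain ⟨c, rfl⟩ := (yon S).map_surjective y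
  refine ⟨(yon S).map c, ?_, Category.comp_id _⟩
  obtain ⟨Z', u, gZ, sZ⟩ := exists_isPullback_of_representable hp.etale.1 x
  have : Epi ((yon S).map gZ) := epi_of_repWith _ (repWith_map (repWith_prop hp.etale sZ))
    (repWith_map (repWith_prop hp.surj sZ))
  have hum : u ≫ m = gZ ≫ c ≫ il := (yon S).map_injective (by
    rw [Functor.map_comp, ← hg, reassoc_of% sZ.w, ← hγh, reassoc_of% hxy, ← Functor.map_comp, hsh,
      Functor.map_comp, Functor.map_comp])
  obtain ⟨l, hl⟩ := exists_lift_open ε u fun z => by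
    refine (hUc (u.left z)).resolve_right fun ⟨y, hy⟩ => hMd ((gZ ≫ c).left z) (h₀.left (ε'.left y)) ?_
    have h₁ : m.left (u.left z) = il.left ((gZ ≫ c).left z) := congr_arg (fun φ : Z' ⟶ M => φ.left z) hum
    rw [← h₁, ← hy]
    exact congr_arg (fun φ : openOver U E₀ ⟶ M => φ.left y) hm₂
  have hle : l ≫ e₁ = gZ ≫ c := (cancel_mono il).1 (by
    rw [Category.assoc, ← hm₁, reassoc_of% hl, hum, Category.assoc])
  rw [← cancel_epi ((yon S).map gZ), ← sZ.w, ← hl, Functor.map_comp_assoc, ← sE.w, ← Functor.map_comp_assoc (yon S) l,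
    hle, Functor.map_comp_assoc]

/-- A quasi-finite point of a morphism of schemes. -/
abbrev qfAt (U V : Scheme.{u}) (h : U ⟶ V) (u : U) : Prop :=
  ∃ W : U.Opens, u ∈ W ∧ LocallyQuasiFinite (W.ι ≫ h) ∧ LocallyOfFiniteType (W.ι ≫ h)

set_option maxHeartbeats 800000 in
/-- Near a quasi-finite point the space is etale locally an open piece of the normalization. -/
theorem exists_qf_chart {X G X' : Sp S} (hX : IsAlgSpace X) (hG : IsAlgSpace G)
    {f : X ⟶ G} {ν : X' ⟶ G} {f' : X ⟶ X'} (hloc : IsLocNorm f ν f') (hqc : IsQuasiCompactMor f)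
    (hsep : IsSeparatedMor f) {x : Points X} (hx : HasAtMor qfAt f x) :
    ∃ (D : Over S) (a : (yon S).obj D ⟶ X) (d : (yon S).obj D ⟶ X'), RepWith @Etale a ∧ RepWith @Etale d ∧
      IsPullback a (𝟙 _) f' d ∧ (∃ z, Points.ofPt a z = x) ∧ ∀ z, HasAtMor qfAt f (Points.ofPt a z) := by
  have hqs : IsQuasiSeparatedMor f := repWith_mono (Q := (@QuasiCompact : MorphismProperty Scheme.{u}))
    (fun φ (_ : IsClosedImmersion φ) => inferInstanceAs (QuasiCompact φ)) hsep
  obtain ⟨U, V, a₀, b₀, h, u, ha₀, hb₀, w, hau, W₀, huW, hq₁, hq₂⟩ := hx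
  obtain ⟨_, ⟨B, hB, rfl⟩, huB, -⟩ :=
    V.left.isBasis_affineOpens.exists_subset_of_mem_open (Set.mem_univ (h.left u)) isOpen_univ
  obtain ⟨_, ⟨U', hU', rfl⟩, huU, hsub⟩ := U.left.isBasis_affineOpens.exists_subset_of_mem_open
    (show u ∈ W₀ ⊓ h.left ⁻¹ᵁ B from ⟨huW, huB⟩) (W₀ ⊓ h.left ⁻¹ᵁ B).isOpen
  change V.left.Opens at B
  change U.left.Opens at U'
  have : IsAffine (openOver V B).left := hB
  have : IsAffine (openOver U U').left := hU'
  let c : Chart G := ⟨openOver V B, (yon S).map (openOverι V B) ≫ b₀,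
    repWith_comp (repWith_map (inferInstanceAs (Etale B.ι))) hb₀⟩
  obtain ⟨h₀, hh₀⟩ := exists_lift_open (openOverι V B) (openOverι U U' ≫ h) fun z => ⟨⟨_, (hsub z.2).2⟩, rfl⟩
  have hh₀' : h₀.left ≫ B.ι = U'.ι ≫ h.left := congr_arg CommaMorphism.left hh₀
  have hW : U'.ι = U.left.homOfLE (fun z hz => (hsub hz).1 : U' ≤ W₀) ≫ W₀.ι := by simp
  have hl₁ : LocallyQuasiFinite h₀.left := by
    have : LocallyQuasiFinite (h₀.left ≫ B.ι) := by rw [hh₀', hW, Category.assoc]; infer_instance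
    exact LocallyQuasiFinite.of_comp h₀.left B.ι
  have hl₂ : LocallyOfFiniteType h₀.left := by
    have : LocallyOfFiniteType (h₀.left ≫ B.ι) := by rw [hh₀', hW, Category.assoc]; infer_instance
    exact locallyOfFiniteType_of_comp h₀.left B.ι
  have sc := IsPullback.of_hasPullback f c.v
  obtain ⟨p₀, hp₁, hp₂⟩ := sc.exists_lift ((yon S).map (openOverι U U') ≫ a₀) ((yon S).map h₀) (by
    show _ = _ ≫ (yon S).map (openOverι V B) ≫ b₀
    rw [Category.assoc, w, ← Functor.map_comp_assoc, ← Functor.map_comp_assoc, hh₀])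
  have hP : IsAlgSpace (pullback f c.v) := isAlgSpace_of_isPullback hG.diag hX (IsAlgSpace.yon_obj _) sc
  have hfc : RepWith @Etale (pullback.fst f c.v) := repWith_of_isPullback sc.flip c.etale
  have cancel : ∀ {A B' C : Sp S} {φ : A ⟶ B'} {ψ : B' ⟶ C}, IsAlgSpace A → IsAlgSpace B' → IsAlgSpace C →
      RepWith @Etale (φ ≫ ψ) → RepWith @Etale ψ → LocP @Etale φ := fun {A B' C φ ψ} hA hB' hC h₁ h₂ =>
    locP_of_comp_of_locP etLocal_etale (Q := @Etale) (fun φ ψ h₁ h₂ => by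
      have := h₁; have := h₂; exact Etale.of_comp φ ψ) hA hB' hC (locP_of_repWith etLocal_etale h₁)
      (locP_of_repWith etLocal_etale h₂)
  have hp₀ : RepWith @Etale p₀ := repWith_of_locP etLocal_etale hP (hP.representable_from_yon _)
    (cancel (IsAlgSpace.yon_obj _) hP hX (by
      rw [hp₁]; exact repWith_comp (repWith_map (inferInstanceAs (Etale U'.ι))) ha₀) hfc)
  obtain ⟨R, p₁, p₂, sR⟩ := exists_isPullback_of_representable hp₀.1 p₀
  obtain ⟨T, U₁, v, fT, k, wk, hTa, hU₁a, hv, hfT, hopen, ⟨z₀, hz₀⟩, hmono⟩ :=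
    Lqf.exists_piece_sp (W := c.V) (pullback.snd f c.v) (separated_of_isPullback sc hsep) p₀ hp₀ sR h₀ hp₂.symm
      ⟨u, huU⟩
  have wk' : k ≫ h₀ = fT ≫ v := Over.OverMorphism.ext wk
  obtain ⟨PT, fA, qT, sA⟩ : ∃ (PT : Sp S) (fA : PT ⟶ pullback f c.v) (qT : PT ⟶ (yon S).obj T),
      IsPullback fA qT (pullback.snd f c.v) ((yon S).map v) := ⟨_, _, _, IsPullback.of_hasPullback _ _⟩
  have hPT : IsAlgSpace PT := isAlgSpace_of_isPullback (IsAlgSpace.yon_obj c.V).diag hP (IsAlgSpace.yon_obj T) sA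
  have hfA : RepWith @Etale fA := repWith_of_isPullback sA.flip (repWith_map hv)
  obtain ⟨j, hj₁, hj₂⟩ := sA.exists_lift ((yon S).map k ≫ p₀) ((yon S).map fT)
    (by rw [Category.assoc, hp₂, ← Functor.map_comp, ← Functor.map_comp, wk'])
  have hk : Etale k.left := by
    obtain ⟨Q, fq, sq, sQ⟩ : ∃ (Q : Scheme.{u}) (fq : Q ⟶ (openOver U U').left) (sq : Q ⟶ T.left),
        IsPullback fq sq h₀.left v.left := ⟨_, _, _, IsPullback.of_hasPullback h₀.left v.left⟩
    have := hopen fq sq sQ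
    have : Etale fq := MorphismProperty.of_isPullback sQ.flip hv
    rw [← sQ.lift_fst k.left fT.left wk]
    infer_instance
  have : Mono j := mono_of_yon fun Z y y' e => by
    obtain ⟨y, rfl⟩ := (yon S).map_surjective y
    obtain ⟨y', rfl⟩ := (yon S).map_surjective y'
    refine congr_arg _ (hmono y y' ((yon S).map_injective ?_) ?_)
    · rw [Functor.map_comp, Functor.map_comp, ← hj₂, reassoc_of% e]
    · rw [Functor.map_comp_assoc, Functor.map_comp_assoc, ← hj₁, reassoc_of% e]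
  have hje : LocP @Etale j := cancel (IsAlgSpace.yon_obj _) hPT hP
    (by rw [hj₁]; exact repWith_comp (repWith_map hk) hp₀) hfA
  have hjo : RepWith @IsOpenImmersion j := repWith_isOpenImmersion_of_etale_mono (IsAlgSpace.yon_obj _) hPT j hje
  have hjc : RepWith @IsClosedImmersion j := by
    have hd : RepWith @IsProper (pullback.diagonal qT) :=
      repWith_mono (Q := (@IsProper : MorphismProperty Scheme.{u}))
        (fun φ (_ : IsClosedImmersion φ) => inferInstanceAs (IsProper φ))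
        (separated_of_isPullback sA (separated_of_isPullback sc hsep))
    have hjp : RepWith @IsProper j := repWith_of_comp_diagonal
      (by rw [hj₂]; exact repWith_map (inferInstanceAs (IsProper fT.left))) hd
    exact repWith_mono (fun φ ⟨(_ : IsProper φ), (_ : IsOpenImmersion φ)⟩ =>
      (IsClosedImmersion.iff_isProper_and_mono _).2 ⟨‹_›, inferInstance⟩) (repWith_inf_iff.2 ⟨hjp, hjo⟩)
  obtain ⟨N, νN, n, sN, hNa, -⟩ := hloc.integral (Z := c.V) c.aff c.v
  obtain ⟨γ, hγ₁, hγ₂⟩ := sN.exists_lift (pullback.fst f c.v ≫ f') (pullback.snd f c.v)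
    (by rw [Category.assoc, hloc.fac]; exact sc.w)
  have hN := hloc.norm c _ _ _ sc N _ νN sN γ hγ₁ hγ₂
  obtain ⟨NT, fn, νT, sNT⟩ : ∃ (NT : Over S) (fn : NT ⟶ N) (νT : NT ⟶ T), IsPullback fn νT νN v :=
    ⟨_, _, _, IsPullback.of_hasPullback νN v⟩
  obtain ⟨γT, hT₁, hT₂⟩ := (sNT.map (yon S)).exists_lift (fA ≫ γ) qT (by rw [Category.assoc, hγ₂, sA.w])
  have hPq := qcqs_chart hqc hqs c sc
  have hNT := hN.baseChange hPq.1 hPq.2 v sA sNT hT₁ hT₂
  have hPTq : IsQuasiCompactSp PT ∧ RepWith @QuasiCompact (pullback.diagonal qT) :=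
    ⟨hqc (IsAlgSpace.yon_obj T) isQuasiCompactSp_of_compactSpace _ _ qT (sA.paste_horiz sc),
      repWith_of_isPullback (isPullback_diagonal (sA.paste_horiz sc)) hqs⟩
  obtain ⟨s, hs, sj⟩ := hNT.exists_split hPTq.1 hPTq.2 fT j hjo hjc hj₂
  have sγT : IsPullback fA γT γ ((yon S).map fn) :=
    IsPullback.of_bot (by rw [hT₂, hγ₂]; exact sA) hT₁.symm (sNT.map (yon S))
  have sγ : IsPullback (pullback.fst f c.v) γ f' n :=
    IsPullback.of_bot (by rw [hγ₂, hloc.fac]; exact sc) hγ₁.symm sN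
  have hfn : Etale fn.left := MorphismProperty.of_isPullback (sNT.map (Over.forget S)).flip hv
  have hn : RepWith @Etale n := repWith_of_isPullback sN.flip c.etale
  have hje' : RepWith @Etale j :=
    repWith_mono (fun φ (_ : IsOpenImmersion φ) => inferInstanceAs (Etale φ)) hjo
  refine ⟨U₁, j ≫ fA ≫ pullback.fst f c.v, (yon S).map s ≫ (yon S).map fn ≫ n,
    repWith_comp hje' (repWith_comp hfA hfc),
    repWith_comp (repWith_map (inferInstanceAs (Etale s.left))) (repWith_comp (repWith_map hfn) hn),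
    sj.paste_horiz (sγT.paste_horiz sγ), ⟨z₀, ?_⟩, fun z => ?_⟩
  · rw [reassoc_of% hj₁, hp₁, ← Functor.map_comp_assoc, ofPt_comp, ← hau]
    exact congr_arg (Points.ofPt a₀) (congr_arg Subtype.val hz₀)
  · refine ⟨U₁, c.V, j ≫ fA ≫ pullback.fst f c.v, c.v, fT ≫ v, z, repWith_comp hje' (repWith_comp hfA hfc),
      c.etale, ?_, rfl, ⊤, trivial, ?_, ?_⟩
    · rw [Category.assoc, Category.assoc, sc.w, ← Category.assoc fA, sA.w, Category.assoc, reassoc_of% hj₂,
        Functor.map_comp_assoc]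
    · show LocallyQuasiFinite ((⊤ : U₁.left.Opens).ι ≫ fT.left ≫ v.left)
      infer_instance
    · show LocallyOfFiniteType ((⊤ : U₁.left.Opens).ι ≫ fT.left ≫ v.left)
      infer_instance

end Groth.L23.Norm
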