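import Groth.Agent.L23.StalkPoint
import Groth.Agent.L23.StalkProps
import Groth.Agent.L23.NormZMT
import Mathlib.CategoryTheory.Sites.Point.Category
import Mathlib.AlgebraicGeometry.AlgClosed.Basic
import Mathlib.CategoryTheory.CofilteredSystem
import Mathlib.FieldTheory.IsAlgClosed.AlgebraicClosure

/-!
# Every point of the small étale site of an algebraic space is a geometric point
-/

universe u

open CategoryTheory CategoryTheory.Limits AlgebraicGeometry Opposite AlgSp Topology TopologicalSpace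

set_option backward.isDefEq.respectTransparency.types false
set_option linter.style.haveILetI false

namespace Groth.L23.PC

variable {S : Scheme.{u}} {X : AlgSp.Space S}

noncomputable def openE (E : EtOver X.obj) (V : E.obj.left.left.Opens) : EtOver X.obj :=
  EtOver.mk ((yon S).map (openOverι E.obj.left V) ≫ E.obj.hom)
    (repWith_comp (repWith_map (inferInstanceAs (Etale V.ι))) E.property)

noncomputable def openEι (E : EtOver X.obj) (V : E.obj.left.left.Opens) : openE E V ⟶ E :=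
  EtOver.homMk (openOverι E.obj.left V) rfl

theorem openEι_mem {E : EtOver X.obj} {V : E.obj.left.left.Opens} (x) :
    (openEι E V).hom.left.left x ∈ V := x.2

theorem exists_openE_factor {W E : EtOver X.obj} {V : E.obj.left.left.Opens} (g : W ⟶ E)
    (h : ∀ x, g.hom.left.left x ∈ V) : ∃ g' : W ⟶ openE E V, g' ≫ openEι E V = g := by
  obtain ⟨l, hl⟩ := Norm.exists_lift_open (openOverι E.obj.left V) g.hom.left fun x => ⟨⟨_, h x⟩, rfl⟩
  refine ⟨EtOver.homMk l ?_, EtOver.hom_ext _ _ hl⟩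
  show (yon S).map l ≫ (yon S).map (openOverι E.obj.left V) ≫ E.obj.hom = W.obj.hom
  rw [← Functor.map_comp_assoc, hl]
  exact EtOver.w g

variable (P : GrothendieckTopology.Point.{u} (etTop X.obj))

/-- The element `e` of the fibre lies in the open `V`. -/
def Mem {E : EtOver X.obj} (e : P.fiber.obj E) (V : E.obj.left.left.Opens) : Prop :=
  ∃ v : P.fiber.obj (openE E V), P.fiber.map (openEι E V) v = e

variable {P}

theorem mem_of_hom {W E : EtOver X.obj} (g : W ⟶ E) (w : P.fiber.obj W) {V : E.obj.left.left.Opens}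
    (h : ∀ x, g.hom.left.left x ∈ V) : Mem P (P.fiber.map g w) V := by
  obtain ⟨g', hg'⟩ := exists_openE_factor g h
  exact ⟨P.fiber.map g' w, by rw [← Functor.map_comp_apply, hg']⟩

theorem mem_mono {E : EtOver X.obj} {e : P.fiber.obj E} {V W : E.obj.left.left.Opens} (h : V ≤ W)
    (he : Mem P e V) : Mem P e W := by
  obtain ⟨v, rfl⟩ := he
  exact mem_of_hom _ v fun x => h (openEι_mem x)

theorem mem_top {E : EtOver X.obj} (e : P.fiber.obj E) : Mem P e ⊤ := by
  simpa using mem_of_hom (𝟙 E) e (V := ⊤) fun _ => trivial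

theorem exists_of_family {E : EtOver X.obj} {ι : Type*} (Y : ι → EtOver X.obj) (g : ∀ i, Y i ⟶ E)
    (h : ∀ x : ↥E.obj.left.left, ∃ i, x ∈ Set.range (g i).hom.left.left) (e : P.fiber.obj E) :
    ∃ i y, P.fiber.map (g i) y = e := by
  obtain ⟨W, f, hf, w, rfl⟩ := P.jointly_surjective _ (ofArrows_mem_etTop Y g h) e
  obtain ⟨i, a, rfl⟩ := (Sieve.mem_ofArrows_iff _ _ _).1 hf
  exact ⟨i, P.fiber.map a w, by rw [Functor.map_comp_apply]⟩

theorem exists_mem_of_iSup {E : EtOver X.obj} {e : P.fiber.obj E} {ι : Type*} (V : ι → E.obj.left.left.Opens)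
    (he : Mem P e (iSup V)) : ∃ i, Mem P e (V i) := by
  obtain ⟨v, rfl⟩ := he
  have h : ∀ i, ∃ g : openE E (V i) ⟶ openE E (iSup V), g ≫ openEι E (iSup V) = openEι E (V i) :=
    fun i => exists_openE_factor _ fun x => le_iSup V i (openEι_mem x)
  choose g hg using h
  obtain ⟨i, w, rfl⟩ := exists_of_family _ g (fun x => by
    obtain ⟨i, hi⟩ := Opens.mem_iSup.1 x.2
    refine ⟨i, ⟨x.1, hi⟩, Subtype.ext ?_⟩
    exact congrArg (fun k => k.hom.left.left (⟨x.1, hi⟩ : ↥(V i).toScheme)) (hg i)) v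
  exact ⟨i, w, by rw [← Functor.map_comp_apply, hg]⟩

theorem exists_lift_of_le_range {W E : EtOver X.obj} (g : W ⟶ E) {e : P.fiber.obj E} {V : E.obj.left.left.Opens}
    (hV : ∀ x ∈ V, x ∈ Set.range g.hom.left.left) (he : Mem P e V) : ∃ w, P.fiber.map g w = e := by
  obtain ⟨v, rfl⟩ := he
  obtain ⟨g', hg'⟩ := exists_openE_factor (openEι W (g.hom.left.left ⁻¹ᵁ V) ≫ g) fun x => x.2
  obtain ⟨-, w, rfl⟩ := exists_of_family (fun _ : Unit => _) (fun _ => g') (fun x => by
    obtain ⟨y, hy⟩ := hV x.1 x.2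
    refine ⟨(), ⟨y, by show g.hom.left.left y ∈ V; rw [hy]; exact x.2⟩, Subtype.ext ?_⟩
    exact (congrArg (fun k => k.hom.left.left (⟨y, show g.hom.left.left y ∈ V by rw [hy]; exact x.2⟩ :
      ↥(g.hom.left.left ⁻¹ᵁ V).toScheme)) hg').trans hy) v
  exact ⟨P.fiber.map (openEι W _) w, by rw [← Functor.map_comp_apply, ← Functor.map_comp_apply, hg']⟩

theorem mem_map_iff {E E' : EtOver X.obj} (f : E ⟶ E') (e : P.fiber.obj E) (V : E'.obj.left.left.Opens) :
    Mem P (P.fiber.map f e) V ↔ Mem P e (f.hom.left.left ⁻¹ᵁ V) := by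
  refine ⟨fun ⟨v, hv⟩ => ?_, fun ⟨v, hv⟩ => ?_⟩
  · obtain ⟨⟨W, w⟩, g₁, g₂, -⟩ := IsCofilteredOrEmpty.cone_objs (C := P.fiber.Elements) ⟨E, e⟩ ⟨_, v⟩
    obtain ⟨g₁, hg₁⟩ := g₁
    obtain ⟨g₂, hg₂⟩ := g₂
    change W ⟶ E at g₁
    change W ⟶ openE E' V at g₂
    replace hg₁ : P.fiber.map g₁ w = e := hg₁
    replace hg₂ : P.fiber.map g₂ w = v := hg₂
    let a : P.fiber.elementsMk W w ⟶ P.fiber.elementsMk E' (P.fiber.map f e) :=
      ⟨g₁ ≫ f, by rw [Functor.map_comp_apply, hg₁]⟩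
    let b : P.fiber.elementsMk W w ⟶ P.fiber.elementsMk E' (P.fiber.map f e) :=
      ⟨g₂ ≫ openEι E' V, by rw [Functor.map_comp_apply, hg₂, hv]⟩
    obtain ⟨⟨W', w'⟩, h, he⟩ := IsCofilteredOrEmpty.cone_maps a b
    have he' : h.1 ≫ g₁ ≫ f = h.1 ≫ g₂ ≫ openEι E' V := congrArg Subtype.val he
    have hw : P.fiber.map h.1 w' = w := h.2
    have := mem_of_hom (h.1 ≫ g₁) w' (V := f.hom.left.left ⁻¹ᵁ V) fun x => by
      have hx := congrArg (fun k => k.hom.left.left x) he'
      exact (congrArg (· ∈ V) hx).mpr (openEι_mem _)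
    rwa [Functor.map_comp_apply, hw, hg₁] at this
  · subst hv
    rw [← Functor.map_comp_apply]
    exact mem_of_hom _ v fun x => openEι_mem (E := E) x

theorem mem_inf {E : EtOver X.obj} {e : P.fiber.obj E} {V W : E.obj.left.left.Opens}
    (hV : Mem P e V) (hW : Mem P e W) : Mem P e (V ⊓ W) := by
  obtain ⟨v, rfl⟩ := hV
  obtain ⟨v', rfl⟩ := (mem_map_iff _ v W).1 hW
  rw [← Functor.map_comp_apply]
  exact mem_of_hom _ v' fun x => ⟨openEι_mem _, openEι_mem (V := (openEι E V).hom.left.left ⁻¹ᵁ W) x⟩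

/-- An element of the fibre determines a point of the scheme. -/
theorem exists_pt {E : EtOver X.obj} (e : P.fiber.obj E) :
    ∃ z : E.obj.left.left, ∀ V, Mem P e V ↔ z ∈ V := by
  let O : E.obj.left.left.Opens := ⨆ V : {V // ¬ Mem P e V}, V.1
  have hO : ¬ Mem P e O := fun h => by
    obtain ⟨V, hV⟩ := exists_mem_of_iSup _ h
    exact V.2 hV
  have key : ∀ V : E.obj.left.left.Opens, Mem P e V ↔ ((O : Set E.obj.left.left)ᶜ ∩ V).Nonempty := by
    intro V
    rw [Set.inter_comm, ← Set.diff_eq, Set.sdiff_nonempty]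
    exact ⟨fun h hle => hO (mem_mono hle h), fun h => by_contra fun h' => h (le_iSup (fun V : {V // ¬ Mem P e V} => V.1) ⟨V, h'⟩)⟩
  have hirr : IsIrreducible (O : Set E.obj.left.left)ᶜ := by
    refine ⟨((key ⊤).1 (mem_top e)).mono Set.inter_subset_left, fun a b ha hb hA hB => ?_⟩
    exact (key (⟨a, ha⟩ ⊓ ⟨b, hb⟩)).1 (mem_inf ((key ⟨a, ha⟩).2 hA) ((key ⟨b, hb⟩).2 hB))
  refine ⟨hirr.genericPoint, fun V => ?_⟩
  refine (key V).trans (Iff.trans ?_ (hirr.isGenericPoint_genericPoint_closure.mem_open_set_iff V.2).symm)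
  have hc : closure (O : Set E.obj.left.left)ᶜ = (O : Set E.obj.left.left)ᶜ := O.2.isClosed_compl.closure_eq
  rw [hc]
  rfl

noncomputable def pt {E : EtOver X.obj} (e : P.fiber.obj E) : E.obj.left.left := (exists_pt e).choose

theorem mem_iff {E : EtOver X.obj} (e : P.fiber.obj E) (V) : Mem P e V ↔ pt e ∈ V :=
  (exists_pt e).choose_spec V

theorem pt_map {E E' : EtOver X.obj} (f : E ⟶ E') (e : P.fiber.obj E) :
    pt (P.fiber.map f e) = f.hom.left.left (pt e) := by
  refine (inseparable_iff_forall_isOpen.2 fun s hs => ?_).eq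
  exact ((mem_iff _ ⟨s, hs⟩).symm.trans ((mem_map_iff f e ⟨s, hs⟩).trans (mem_iff _ _)))

/-- Finitely many rational lifts along an étale morphism of affine schemes. -/
theorem finite_lifts {W U : Over S} (g : W ⟶ U) [Etale g.left] [IsAffine W.left] [IsAffine U.left]
    {Ω : Type u} [Field Ω] [IsAlgClosed Ω] {w : Spec (CommRingCat.of Ω) ⟶ S} (γ : Over.mk w ⟶ U) :
    Finite {x : Over.mk w ⟶ W // x ≫ g = γ} := by
  let γ' : Spec (CommRingCat.of Ω) ⟶ U.left := γ.left
  let R := pullback g.left γ'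
  let q : R ⟶ Spec (CommRingCat.of Ω) := pullback.snd g.left γ'
  haveI : Etale q := inferInstanceAs (Etale (pullback.snd g.left γ'))
  haveI : QuasiCompact q := inferInstanceAs (QuasiCompact (pullback.snd g.left γ'))
  haveI : Finite R := by
    have := q.finite_preimage (Set.toFinite (Set.univ : Set (Spec (CommRingCat.of Ω))))
    simpa [Set.finite_univ_iff] using this
  refine Finite.of_injective (fun x => (pointEquivClosedPoint q ⟨pullback.lift x.1.left (𝟙 _) (by
    rw [Category.id_comp]; exact congrArg (fun k => k.left) x.2), pullback.lift_snd _ _ _⟩)) fun x y h => ?_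
  have h' := congrArg Subtype.val ((pointEquivClosedPoint q).injective h)
  exact Subtype.ext (Over.OverMorphism.ext ((pullback.lift_fst _ _ _).symm.trans
    ((congrArg (fun k => k ≫ pullback.fst g.left γ') h').trans (pullback.lift_fst _ _ _))))

theorem exists_affine_element (P : GrothendieckTopology.Point.{u} (etTop X.obj)) :
    ∃ η : P.fiber.Elements, IsAffine η.1.obj.left.left := by
  obtain ⟨⟨E, e⟩⟩ : Nonempty P.fiber.Elements := IsCofiltered.nonempty
  obtain ⟨_, ⟨B, hB, rfl⟩, hzB, -⟩ := E.obj.left.left.isBasis_affineOpens.exists_subset_of_mem_open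
    (Set.mem_univ (pt e)) isOpen_univ
  obtain ⟨v, -⟩ := (mem_iff e B).2 hzB
  exact ⟨P.fiber.elementsMk (openE E B) v, hB⟩

variable (η : P.fiber.Elements)

theorem exists_geom : ∃ (Ω : Type u) (_ : Field Ω) (_ : IsAlgClosed Ω) (w : Spec (CommRingCat.of Ω) ⟶ S)
    (γ : Over.mk w ⟶ η.1.obj.left), γ.left (IsLocalRing.closedPoint Ω) = pt η.2 := by
  let K := η.1.obj.left.left.residueField (pt η.2)
  let g : Spec (CommRingCat.of (AlgebraicClosure K)) ⟶ η.1.obj.left.left :=
    Spec.map (CommRingCat.ofHom (algebraMap K (AlgebraicClosure K))) ≫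
      η.1.obj.left.left.fromSpecResidueField (pt η.2)
  refine ⟨AlgebraicClosure K, inferInstance, inferInstance, g ≫ η.1.obj.left.hom, Over.homMk g rfl, ?_⟩
  show (Spec.map (CommRingCat.ofHom (algebraMap K (AlgebraicClosure K))) ≫
      η.1.obj.left.left.fromSpecResidueField (pt η.2)) _ = _
  rw [Scheme.Hom.comp_apply]
  exact Scheme.fromSpecResidueField_apply _ _

variable {Ω : Type u} [Field Ω] {w : Spec (CommRingCat.of Ω) ⟶ S} (γ : Over.mk w ⟶ η.1.obj.left)

/-- The geometric point attached to `η`. -/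
noncomputable abbrev fieldPt : FieldPt X.obj :=
  ⟨Ω, w, (J S).uliftYonedaEquiv ((yon S).map γ ≫ η.1.obj.hom)⟩

theorem fieldPt_toHom : (fieldPt η γ).toHom = (yon S).map γ ≫ η.1.obj.hom :=
  (J S).uliftYonedaEquiv.symm_apply_apply _

/-- Lifts of the geometric point to the neighbourhoods over `η` with the prescribed image. -/
noncomputable def liftsOver : Over η ⥤ Type u where
  obj M := {x : Over.mk (w) ⟶ M.left.1.obj.left //
    x ≫ M.hom.1.hom.left = γ ∧ x.left (IsLocalRing.closedPoint (Ω)) = pt M.left.2}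
  map {M N} f := ↾fun x => ⟨x.1 ≫ f.left.1.hom.left, by
    have hw : f.left.1 ≫ N.hom.1 = M.hom.1 := congrArg Subtype.val (Over.w f)
    rw [Category.assoc]
    exact (congrArg (fun k => x.1 ≫ k.hom.left) hw).trans x.2.1, by
    have hf : P.fiber.map f.left.1 M.left.2 = N.left.2 := f.left.2
    exact (congrArg f.left.1.hom.left.left x.2.2).trans ((pt_map f.left.1 M.left.2).symm.trans (congrArg pt hf))⟩
  map_id M := by
    ext x
    exact congrArg (fun k => k.left) (Category.comp_id x.1)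
  map_comp f g := by
    ext x
    exact congrArg (fun k => k.left) (Category.assoc x.1 _ _).symm

instance finite_liftsOver [IsAlgClosed Ω] [IsAffine η.1.obj.left.left] (M : Over η) : Finite ((liftsOver η γ).obj M) := by
  obtain ⟨_, ⟨B, hB, rfl⟩, hzB, -⟩ := M.left.1.obj.left.left.isBasis_affineOpens.exists_subset_of_mem_open
    (Set.mem_univ (pt M.left.2)) isOpen_univ
  change M.left.1.obj.left.left.Opens at B
  haveI : IsAffine B.toScheme := hB
  haveI : Etale M.hom.1.hom.left.left := EtOver.etale_left M.hom.1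
  let g := openOverι M.left.1.obj.left B ≫ M.hom.1.hom.left
  haveI : Etale g.left := inferInstanceAs (Etale (B.ι ≫ M.hom.1.hom.left.left))
  haveI : IsAffine (openOver M.left.1.obj.left B).left := hB
  have := finite_lifts g (γ)
  have h : ∀ x : (liftsOver η γ).obj M, ∃ l, l ≫ openOverι M.left.1.obj.left B = x.1 := fun x =>
    Norm.exists_lift_open _ _ fun t => ⟨⟨_, by
      have h2 : x.1.left (IsLocalRing.closedPoint Ω) = pt M.left.2 := x.2.2
      rw [show t = IsLocalRing.closedPoint Ω from Subsingleton.elim (α := PrimeSpectrum Ω) _ _]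
      exact (congrArg (· ∈ B) h2).mpr hzB⟩, rfl⟩
  choose l hl using h
  exact Finite.of_injective (fun x => (⟨l x, by
    show l x ≫ openOverι M.left.1.obj.left B ≫ M.hom.1.hom.left = γ
    rw [reassoc_of% (hl x)]; exact x.2.1⟩ : {y // y ≫ g = γ})) fun x y e => Subtype.ext
      ((hl x).symm.trans ((congrArg (fun z => z.1 ≫ openOverι M.left.1.obj.left B) e).trans (hl y)))

variable [IsAlgClosed Ω] in
theorem nonempty_liftsOver (hγ : γ.left (IsLocalRing.closedPoint Ω) = pt η.2) (M : Over η) : Nonempty ((liftsOver η γ).obj M) := by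
  haveI := EtOver.etale_left M.hom.1
  obtain ⟨x, h₁, h₂⟩ := Groth.L23.QFL.exists_lift_algClosed (a := (yon S).map M.hom.1.hom.left)
    (Groth.L23.repWith_map ‹_›) ((yon S).map (γ)) (pt M.left.2) (IsLocalRing.closedPoint (Ω))
    (by rw [Groth.L23.ofPt_map, Groth.L23.ofPt_map, hγ, ← pt_map M.hom.1, show P.fiber.map M.hom.1 M.left.2 = η.2 from M.hom.2])
  rw [← Functor.map_comp] at h₁
  exact ⟨⟨x, (yon S).map_injective h₁, h₂⟩⟩

theorem exists_sections [IsAlgClosed Ω] [IsAffine η.1.obj.left.left]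
    (hγ : γ.left (IsLocalRing.closedPoint Ω) = pt η.2) :
    ∃ s : ∀ M, (liftsOver η γ).obj M, ∀ {M N} (f : M ⟶ N), (liftsOver η γ).map f (s M) = s N := by
  haveI := fun M => nonempty_liftsOver η γ hγ M
  obtain ⟨s, hs⟩ := nonempty_sections_of_finite_cofiltered_system (liftsOver η γ)
  exact ⟨s, fun f => hs f⟩

variable {η} {γ}

theorem exists_common (E : EtOver X.obj) (e : P.fiber.obj E) :
    ∃ M : Over η, Nonempty (M.left ⟶ P.fiber.elementsMk E e) := by
  obtain ⟨W, f, g, -⟩ := IsCofilteredOrEmpty.cone_objs η (P.fiber.elementsMk E e)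
  exact ⟨Over.mk f, ⟨g⟩⟩

section

variable {s : ∀ M, (liftsOver η γ).obj M} (hs : ∀ {M N} (f : M ⟶ N), (liftsOver η γ).map f (s M) = s N)

omit hs in
theorem lift_cond {W E : EtOver X.obj} (g : W ⟶ E) (m : W ⟶ η.1) (x : Over.mk w ⟶ W.obj.left)
    (hx : x ≫ m.hom.left = γ) :
    (yon S).map (x ≫ g.hom.left) ≫ E.obj.hom = (fieldPt η γ).toHom := by
  rw [fieldPt_toHom, ← hx, Functor.map_comp, Category.assoc, Functor.map_comp, Category.assoc,
    EtOver.w g, EtOver.w m]

include hs in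
theorem s_comp {M N : Over η} (f : M ⟶ N) : (s N).1 = (s M).1 ≫ f.left.1.hom.left :=
  (congrArg Subtype.val (hs f)).symm

include hs in
theorem exists_phi {E : EtOver X.obj} (e : P.fiber.obj E) :
    ∃ x : (FieldPt.liftsTo (fieldPt η γ)).obj E, ∀ (M : Over η) (h : M.left ⟶ P.fiber.elementsMk E e),
      x.1 = (s M).1 ≫ h.1.hom.left := by
  obtain ⟨M, ⟨h⟩⟩ := exists_common (η := η) E e
  refine ⟨⟨(s M).1 ≫ h.1.hom.left, ?_⟩, fun M' h' => ?_⟩
  · exact lift_cond h.1 M.hom.1 (s M).1 (s M).2.1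
  obtain ⟨N, a, b, -⟩ := IsCofilteredOrEmpty.cone_objs M M'
  obtain ⟨W, k, hk⟩ := IsCofilteredOrEmpty.cone_maps (a.left ≫ h) (b.left ≫ h')
  let k' : Over.mk (k ≫ N.hom) ⟶ N := Over.homMk k rfl
  show (s M).1 ≫ h.1.hom.left = (s M').1 ≫ h'.1.hom.left
  rw [s_comp hs a, s_comp hs b, s_comp hs k', Category.assoc, Category.assoc, Category.assoc, Category.assoc]
  exact congrArg (fun m => (s (Over.mk (k ≫ N.hom))).1 ≫ m) (congrArg (fun m => m.1.hom.left) hk)

/-- The comparison of the fibre with the lifts of the geometric point. -/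
noncomputable def phi {E : EtOver X.obj} (e : P.fiber.obj E) : (FieldPt.liftsTo (fieldPt η γ)).obj E :=
  (exists_phi hs e).choose

theorem phi_spec {E : EtOver X.obj} (e : P.fiber.obj E) (M : Over η) (h : M.left ⟶ P.fiber.elementsMk E e) :
    (phi hs e).1 = (s M).1 ≫ h.1.hom.left :=
  (exists_phi hs e).choose_spec M h

theorem phi_map {E E' : EtOver X.obj} (f : E ⟶ E') (e : P.fiber.obj E) :
    phi hs (P.fiber.map f e) = (FieldPt.liftsTo (fieldPt η γ)).map f (phi hs e) := by
  obtain ⟨M, ⟨h⟩⟩ := exists_common (η := η) E e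
  refine Subtype.ext ?_
  rw [FieldPt.liftsTo_map_coe, phi_spec hs e M h, Category.assoc]
  exact phi_spec hs _ M (h ≫ (⟨f, rfl⟩ : P.fiber.elementsMk E e ⟶ P.fiber.elementsMk E' (P.fiber.map f e)))

theorem phi_pt {E : EtOver X.obj} (e : P.fiber.obj E) :
    (phi hs e).1.left (IsLocalRing.closedPoint (Ω)) = pt e := by
  obtain ⟨M, ⟨h⟩⟩ := exists_common (η := η) E e
  have he : P.fiber.map h.1 M.left.2 = e := h.2
  have h22 : (s M).1.left (IsLocalRing.closedPoint Ω) = pt M.left.2 := (s M).2.2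
  rw [phi_spec hs e M h]
  exact (congrArg h.1.hom.left.left h22).trans ((pt_map h.1 M.left.2).symm.trans (congrArg pt he))

theorem phi_spec' {M : Over η} {ζ : P.fiber.Elements} (h : M.left ⟶ ζ) :
    (phi hs M.left.2).1 ≫ h.1.hom.left = (phi hs ζ.2).1 := by
  rw [← FieldPt.liftsTo_map_coe, ← phi_map hs h.1 M.left.2, show P.fiber.map h.1 M.left.2 = ζ.2 from h.2]

theorem phi_self : (phi hs η.2).1 = γ := by
  rw [phi_spec hs η.2 (Over.mk (𝟙 η)) (𝟙 η)]
  exact (s (Over.mk (𝟙 η))).2.1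

end

omit [Field Ω] in
theorem exists_eq_locus {W E : EtOver X.obj} (f g : W ⟶ E) {T : Over S} (t : T ⟶ W.obj.left)
    (ht : t ≫ f.hom.left = t ≫ g.hom.left) :
    ∃ V : W.obj.left.left.Opens, (∀ y, t.left y ∈ V) ∧ openEι W V ≫ f = openEι W V ≫ g := by
  obtain ⟨R, p, q, sq⟩ := exists_isPullback_of_representable E.property.1 E.obj.hom
  obtain ⟨ρ, hρ₁, hρ₂⟩ := exists_lift_yon sq f.hom.left g.hom.left ((EtOver.w f).trans (EtOver.w g).symm)
  obtain ⟨Δ, hΔ₁, hΔ₂⟩ := exists_lift_yon sq (𝟙 _) (𝟙 _) rfl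
  haveI : Etale q.left := repWith_prop E.property sq
  haveI : Etale Δ.left := by
    have : Etale (Δ.left ≫ q.left) := by rw [← Over.comp_left, hΔ₂, Over.id_left]; infer_instance
    exact Etale.of_comp Δ.left q.left
  haveI : Mono Δ.left :=
    mono_of_mono_fac (h := 𝟙 E.obj.left.left) (show Δ.left ≫ q.left = _ by rw [← Over.comp_left, hΔ₂]; rfl)
  haveI : IsOpenImmersion Δ.left := IsOpenImmersion.of_flat_of_mono Δ.left
  have ext' : ∀ {T : Over S} (a b : T ⟶ R), a ≫ p = b ≫ p → a ≫ q = b ≫ q → a = b := fun a b h₁ h₂ =>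
    (yon S).map_injective (sq.hom_ext (by rw [← Functor.map_comp, ← Functor.map_comp, h₁])
      (by rw [← Functor.map_comp, ← Functor.map_comp, h₂]))
  have htρ : t ≫ ρ = (t ≫ f.hom.left) ≫ Δ := ext' _ _
    (by rw [Category.assoc, hρ₁, Category.assoc, hΔ₁, Category.comp_id])
    (by rw [Category.assoc, hρ₂, Category.assoc, hΔ₂, Category.comp_id, ht])
  refine ⟨ρ.left ⁻¹ᵁ Δ.left.opensRange, fun y => ?_, ?_⟩
  · show ρ.left (t.left y) ∈ Set.range Δ.left
    exact ⟨_, (congrArg (fun k => k.left y) htρ).symm⟩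
  obtain ⟨l, hl⟩ := Norm.exists_lift_open Δ (openOverι W.obj.left (ρ.left ⁻¹ᵁ Δ.left.opensRange) ≫ ρ) fun x => x.2
  refine EtOver.hom_ext _ _ ?_
  show openOverι W.obj.left _ ≫ f.hom.left = openOverι W.obj.left _ ≫ g.hom.left
  rw [← hρ₁, ← hρ₂, ← Category.assoc, ← Category.assoc, ← hl, Category.assoc, Category.assoc, hΔ₁, hΔ₂]

section

variable {s : ∀ M, (liftsOver η γ).obj M} (hs : ∀ {M N} (f : M ⟶ N), (liftsOver η γ).map f (s M) = s N)

theorem phi_injective (E : EtOver X.obj) : Function.Injective (phi hs (E := E)) := by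
  intro e e' h
  obtain ⟨⟨W, w'⟩, f, g, -⟩ := IsCofilteredOrEmpty.cone_objs (P.fiber.elementsMk E e) (P.fiber.elementsMk E e')
  obtain ⟨f, hf⟩ := f
  obtain ⟨g, hg⟩ := g
  change W ⟶ E at f
  change W ⟶ E at g
  replace hf : P.fiber.map f w' = e := hf
  replace hg : P.fiber.map g w' = e' := hg
  subst hf hg
  rw [phi_map, phi_map] at h
  obtain ⟨V, hV, hfg⟩ := exists_eq_locus f g (phi hs w').1 (congrArg Subtype.val h)
  obtain ⟨v, rfl⟩ := (mem_iff w' V).2 (phi_pt hs w' ▸ hV _)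
  rw [← Functor.map_comp_apply, ← Functor.map_comp_apply, hfg]

include hs in
theorem exists_phi_eq_affine [IsAlgClosed Ω] [IsAffine η.1.obj.left.left] {W : EtOver X.obj}
    [IsAffine W.obj.left.left] (g : W ⟶ η.1) (x : Over.mk w ⟶ W.obj.left) (hx : x ≫ g.hom.left = γ) :
    ∃ e : P.fiber.obj W, (phi hs e).1 = x := by
  classical
  by_contra hc
  push_neg at hc
  let Sig := {e : P.fiber.obj W // P.fiber.map g e = η.2}
  have hlift : ∀ e : Sig, (phi hs e.1).1 ≫ g.hom.left = γ := fun e => by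
    rw [← FieldPt.liftsTo_map_coe, ← phi_map hs g e.1, e.2, phi_self hs]
  haveI : Etale g.hom.left.left := EtOver.etale_left g
  haveI := finite_lifts g.hom.left γ
  haveI : Finite Sig := Finite.of_injective
    (fun e => (⟨(phi hs e.1).1, hlift e⟩ : {y : Over.mk w ⟶ W.obj.left // y ≫ g.hom.left = γ}))
    fun a b h => Subtype.ext (phi_injective hs W (Subtype.ext (congrArg (·.1) h)))
  haveI := Fintype.ofFinite Sig
  let obj : Sig → Over η := fun e => Over.mk (⟨g, e.2⟩ : P.fiber.elementsMk W e.1 ⟶ η)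
  obtain ⟨M, hM⟩ := IsCofiltered.inf_objs_exists (Finset.univ.image obj)
  let σ : ∀ e, M ⟶ obj e := fun e => (hM (Finset.mem_image_of_mem obj (Finset.mem_univ e))).some
  let mw : M.left.1.obj.left ⟶ η.1.obj.left := M.hom.1.hom.left
  let sec : Sig → (M.left.1.obj.left ⟶ W.obj.left) := fun e => (σ e).left.1.hom.left
  have hσ : ∀ e, sec e ≫ g.hom.left = mw := fun e =>
    congrArg (fun k => k.1.hom.left) (Over.w (σ e))
  obtain ⟨Q, a, b, sQ⟩ : ∃ (Q : Over S) (a : Q ⟶ W.obj.left) (b : Q ⟶ M.left.1.obj.left),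
      IsPullback a b g.hom.left mw := ⟨_, _, _, IsPullback.of_hasPullback _ _⟩
  have sQl := sQ.map (Over.forget S)
  haveI : Etale b.left := MorphismProperty.of_isPullback sQl ‹Etale g.hom.left.left›
  haveI : IsSeparated g.hom.left.left := inferInstance
  haveI : IsSeparated b.left := MorphismProperty.of_isPullback sQl ‹IsSeparated g.hom.left.left›
  choose t ht₁ ht₂ using fun e => sQ.exists_lift (sec e) (𝟙 _) (by rw [hσ e, Category.id_comp])
  have htb : ∀ e, (t e).left ≫ b.left = 𝟙 _ := fun e => by rw [← Over.comp_left, ht₂]; rfl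
  have htc : ∀ e, IsClosedImmersion (t e).left := fun e => by
    have : IsClosedImmersion ((t e).left ≫ b.left) := by rw [htb]; infer_instance
    exact IsClosedImmersion.of_comp (t e).left b.left
  have hto : ∀ e, IsOpenImmersion (t e).left := fun e => by
    have : Etale ((t e).left ≫ b.left) := by rw [htb]; infer_instance
    have := Etale.of_comp (t e).left b.left
    have : Mono (t e).left := mono_of_mono_fac (htb e)
    exact IsOpenImmersion.of_flat_of_mono (t e).left
  let O : Q.left.Opens := ⟨(⋃ e, Set.range (t e).left)ᶜ,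
    (isClosed_iUnion_of_finite fun e => (htc e).base_closed.isClosed_range).isOpen_compl⟩
  let m : Over.mk w ⟶ M.left.1.obj.left := (phi hs M.left.2).1
  have hm : m ≫ mw = γ := by
    show (phi hs M.left.2).1 ≫ M.hom.1.hom.left = γ
    rw [← FieldPt.liftsTo_map_coe, ← phi_map hs M.hom.1 M.left.2,
      show P.fiber.map M.hom.1 M.left.2 = η.2 from M.hom.2, phi_self hs]
  obtain ⟨ρ, hρ₁, hρ₂⟩ := sQ.exists_lift x m (hx.trans hm.symm)
  let c := IsLocalRing.closedPoint Ω
  have hρO : ρ.left c ∈ O := fun h => by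
    obtain ⟨e, y, hy⟩ := Set.mem_iUnion.1 h
    haveI := hto e
    obtain ⟨l, hl⟩ := Norm.exists_lift_open (t e) ρ fun z =>
      ⟨y, hy.trans (congrArg ρ.left (Subsingleton.elim (α := PrimeSpectrum Ω) c z))⟩
    have hlm : l = m := by rw [← hρ₂, ← hl, Category.assoc, ht₂, Category.comp_id]
    refine hc e.1 ?_
    rw [← hρ₁, ← hl, Category.assoc, ht₁, hlm]
    exact (phi_spec' hs (σ e).left).symm
  let Qo : EtOver X.obj := EtOver.mk ((yon S).map b ≫ M.left.1.obj.hom)
    (repWith_comp (repWith_map ‹Etale b.left›) M.left.1.property)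
  let ga : Qo ⟶ W := EtOver.homMk a (by
    show (yon S).map a ≫ W.obj.hom = (yon S).map b ≫ M.left.1.obj.hom
    rw [← EtOver.w g, ← EtOver.w M.hom.1, ← Functor.map_comp_assoc, sQ.w, Functor.map_comp_assoc])
  let gb : Qo ⟶ M.left.1 := EtOver.homMk b rfl
  haveI : Etale (openEι Qo O ≫ gb).hom.left.left := EtOver.etale_left _
  let V : M.left.1.obj.left.left.Opens :=
    ⟨Set.range (openEι Qo O ≫ gb).hom.left.left, (openEι Qo O ≫ gb).hom.left.left.isOpenMap.isOpen_range⟩
  have hmem : Mem P M.left.2 V := (mem_iff _ _).2 ⟨⟨_, hρO⟩, by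
    rw [← phi_pt hs M.left.2]
    exact (congrArg (fun k => k.left c) hρ₂)⟩
  obtain ⟨v, hv⟩ := exists_lift_of_le_range (openEι Qo O ≫ gb) (fun z hz => hz) hmem
  let e₀ : P.fiber.obj W := P.fiber.map (openEι Qo O ≫ ga) v
  have he₀ : P.fiber.map g e₀ = η.2 := by
    rw [← Functor.map_comp_apply, show (openEι Qo O ≫ ga) ≫ g = (openEι Qo O ≫ gb) ≫ M.hom.1 from
      EtOver.hom_ext _ _ (by
        show (openOverι Q O ≫ a) ≫ g.hom.left = (openOverι Q O ≫ b) ≫ mw
        rw [Category.assoc, Category.assoc, sQ.w]), Functor.map_comp_apply, hv]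
    exact M.hom.2
  have key : (phi hs v).1 ≫ openOverι Q O = m ≫ t ⟨e₀, he₀⟩ := sQ.hom_ext
    (by
      rw [Category.assoc, Category.assoc, ht₁]
      exact ((congrArg Subtype.val (phi_map hs (openEι Qo O ≫ ga) v)).symm.trans
        (phi_spec' hs (σ ⟨e₀, he₀⟩).left).symm))
    (by
      rw [Category.assoc, Category.assoc, ht₂, Category.comp_id]
      exact (congrArg Subtype.val (phi_map hs (openEι Qo O ≫ gb) v)).symm.trans
        (congrArg (fun z => (phi hs z).1) hv))
  exact (((phi hs v).1.left c).2 : _) (Set.mem_iUnion.2 ⟨⟨e₀, he₀⟩, m.left c,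
    (congrArg (fun k => k.left c) key).symm⟩)

theorem phi_surjective [IsAlgClosed Ω] [IsAffine η.1.obj.left.left] (E : EtOver X.obj) :
    Function.Surjective (phi hs (E := E)) := by
  intro x
  obtain ⟨R, p, q, sq⟩ := exists_isPullback_of_representable E.property.1 η.1.obj.hom
  haveI : Etale p.left := repWith_prop η.1.property sq.flip
  let Ro : EtOver X.obj := EtOver.mk ((yon S).map p ≫ E.obj.hom)
    (repWith_comp (repWith_map ‹Etale p.left›) E.property)
  obtain ⟨ρ, hρ₁, hρ₂⟩ := exists_lift_yon sq x.1 γ (x.2.trans (fieldPt_toHom η γ))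
  obtain ⟨_, ⟨B, hB, rfl⟩, hρB, -⟩ := R.left.isBasis_affineOpens.exists_subset_of_mem_open
    (Set.mem_univ (ρ.left (IsLocalRing.closedPoint Ω))) isOpen_univ
  change R.left.Opens at B
  obtain ⟨ρ', hρ'⟩ := Norm.exists_lift_open (openOverι R B) ρ fun y =>
    ⟨⟨_, hρB⟩, congrArg ρ.left (Subsingleton.elim (α := PrimeSpectrum Ω) _ y)⟩
  haveI : IsAffine (openE Ro B).obj.left.left := hB
  obtain ⟨e, he⟩ := exists_phi_eq_affine hs
    (openEι Ro B ≫ (EtOver.homMk q sq.w.symm : Ro ⟶ η.1)) ρ' (by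
      show ρ' ≫ openOverι R B ≫ q = γ
      rw [reassoc_of% hρ', hρ₂])
  refine ⟨P.fiber.map (openEι Ro B ≫ (EtOver.homMk p rfl : Ro ⟶ E)) e, Subtype.ext ?_⟩
  rw [phi_map, FieldPt.liftsTo_map_coe, he]
  show ρ' ≫ openOverι R B ≫ p = x.1
  rw [reassoc_of% hρ', hρ₁]

end

/-- Every point of the site is isomorphic to the point of a geometric point. -/
theorem exists_iso_sitePoint (P : GrothendieckTopology.Point.{u} (etTop X.obj)) :
    ∃ (p : FieldPt X.obj) (hp : p.IsGeometric), Nonempty (P ≅ SH.sitePoint p hp) := by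
  obtain ⟨η, hη⟩ := exists_affine_element P
  obtain ⟨Ω, _, hΩ, w, γ, hγ⟩ := exists_geom η
  haveI := hΩ
  haveI := hη
  obtain ⟨s, hs⟩ := exists_sections η γ hγ
  let i : P.fiber ≅ FieldPt.liftsTo (fieldPt η γ) := NatIso.ofComponents
    (fun E => (Equiv.ofBijective _ ⟨phi_injective hs E, phi_surjective hs E⟩).toIso)
    fun f => by ext e; exact phi_map hs f e
  exact ⟨fieldPt η γ, hΩ, ⟨⟨⟨i.inv⟩, ⟨i.hom⟩, GrothendieckTopology.Point.hom_ext i.hom_inv_id,
    GrothendieckTopology.Point.hom_ext i.inv_hom_id⟩⟩⟩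

end Groth.L23.PC
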