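import Groth.Prelude.Def_AlgSpOX2
import Groth.Agent.L23.PointClassify
import Groth.Agent.L23.Support

/-!
# The comparison map of a closed immersion is locally surjective
-/

universe u

open CategoryTheory CategoryTheory.Limits AlgebraicGeometry Opposite AlgSp TopologicalSpace

set_option autoImplicit false
set_option linter.style.haveILetI false
set_option backward.isDefEq.respectTransparency.types false

namespace Groth.L23.ClosedPush

open Groth.L23.PC

theorem isLocallySurjective_bcRingHom {S : Scheme.{u}} {Z X : AlgSp.Space S} {i : Z.obj ⟶ X.obj}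
    (hi : RepWith @IsClosedImmersion i) :
    Presheaf.IsLocallySurjective (etTop X.obj) (bcRingHom hi.1).hom := by
  refine ⟨fun {E} s => Supp.cover_of_points _ fun z => ?_⟩
  obtain ⟨W, hW, hz, -⟩ := exists_isAffineOpen_mem_and_subset (x := z) (U := ⊤) trivial
  refine ⟨openE E W, openEι E W, ?_, ⟨z, hz⟩, rfl⟩
  haveI : IsAffine (openE E W).obj.left.left := hW
  haveI : IsClosedImmersion (hi.1.snd (openE E W).obj.hom).left := repWith_snd hi _
  let s' : ULift.{u + 1} Γ((hi.1.pullback (openE E W).obj.hom).left, ⊤) :=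
    ((EtOver.bc hi.1).op ⋙ (OEtRing Z.obj).obj).map (openEι E W).op s
  obtain ⟨t, ht⟩ := (hi.1.snd (openE E W).obj.hom).left.app_surjective ⊤ (isAffineOpen_top _) s'.down
  exact ⟨⟨t⟩, ULift.ext _ _ ht⟩

end Groth.L23.ClosedPush
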