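import Groth.Agent.L23.EffCartierMul
import Groth.Agent.L22.Ideal

/-!
# Inclusions of closed subspaces and of their ideals
-/

universe u

open CategoryTheory CategoryTheory.Limits AlgebraicGeometry Opposite AlgSp TopologicalSpace

set_option autoImplicit false
set_option linter.style.haveILetI false
set_option backward.isDefEq.respectTransparency.types false

namespace Groth.L23.CutOut

variable {S : Scheme.{u}} {X Z Z' : Sp S}

theorem le_iff_exists_factor (hX : IsAlgSpace X) {i : Z ⟶ X} {i' : Z' ⟶ X} {I I' : IdealEt X}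
    (h : IsCutOutBy I i) (h' : IsCutOutBy I' i') : I ≤ I' ↔ ∃ k : Z' ⟶ Z, k ≫ i = i' := by
  constructor
  · intro hle
    obtain ⟨V, p, hp, hps⟩ := hX.atlas
    refine exists_factor_of_ker_le h'.choose h.choose hp hps ?_
    intro W
    haveI : IsAffine (W.1 : Scheme.{u}) := W.2
    have e := EffCart.top_comap_ker_snd h hp W
    have e' := EffCart.top_comap_ker_snd h' hp W
    have hm := (e ▸ e' ▸ hle (pieceE hp W.1) W.2 :
      top ((h.choose.1.snd p).left.ker.comap W.1.ι) ≤ top ((h'.choose.1.snd p).left.ker.comap W.1.ι))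
    simp only [top, Groth.L22.Ideals.comap_ideal_ι] at hm
    have h2 := Ideal.map_mono (f := W.1.topIso.hom.hom) hm
    simp only [Ideal.map_map, ← CommRingCat.hom_comp, W.1.topIso.inv_hom_id, CommRingCat.hom_id, Ideal.map_id] at h2
    exact h2
  · rintro ⟨k, rfl⟩ E hE
    obtain ⟨hi, rfl⟩ := h
    obtain ⟨hi', rfl⟩ := h'
    obtain ⟨l, hl⟩ := (yon S).map_surjective ((hi.1.isPullback E.obj.hom).lift (hi'.1.fst E.obj.hom ≫ k)
      ((yon S).map (hi'.1.snd E.obj.hom)) (by rw [Category.assoc, (hi'.1.isPullback E.obj.hom).w]))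
    have e : l ≫ hi.1.snd E.obj.hom = hi'.1.snd E.obj.hom :=
      (yon S).map_injective (by rw [Functor.map_comp, hl, IsPullback.lift_snd])
    intro a ha
    show (hi'.1.snd E.obj.hom).left.appTop.hom a = 0
    rw [← e, Over.comp_left, Scheme.Hom.comp_appTop, CommRingCat.hom_comp, RingHom.comp_apply,
      show (hi.1.snd E.obj.hom).left.appTop.hom a = 0 from ha, map_zero]

end Groth.L23.CutOut
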