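import Groth.Agent.L23.EffCartierSub

/-!
# Products of ideals cutting out effective Cartier divisors
-/

universe u

open CategoryTheory CategoryTheory.Limits AlgebraicGeometry Opposite AlgSp TopologicalSpace

set_option autoImplicit false
set_option linter.style.haveILetI false
set_option backward.isDefEq.respectTransparency.types false

namespace Groth.L23.EffCart

variable {S : Scheme.{u}} {X Z Y D : Sp S}

theorem top_mul {T : Scheme.{u}} [IsAffine T] (K K' : T.IdealSheafData) :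
    CutOut.top (K * K') = CutOut.top K * CutOut.top K' := by
  simp only [CutOut.top, Scheme.IdealSheafData.ideal_mul, Pi.mul_apply]

theorem top_comap_ker_snd {i : Z ⟶ X} {I : IdealEt X} (hi : IsCutOutBy I i) {V : Over S}
    {p : (yon S).obj V ⟶ X} (hp : RepWith @Etale p) (W : V.left.affineOpens) :
    haveI : IsAffine (W.1 : Scheme.{u}) := W.2
    CutOut.top ((hi.choose.1.snd p).left.ker.comap W.1.ι) = I.ideal (CutOut.pieceE hp W.1) W.2 := by
  obtain ⟨hc, rfl⟩ := hi
  haveI : IsAffine (W.1 : Scheme.{u}) := W.2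
  let φ := (yon S).map (CutOut.openPieceι W.1) ≫ p
  haveI : QuasiCompact (hc.1.snd φ).left :=
    repWith_snd (CutOut.repWith_quasiCompact_of_closedImmersion hc) φ
  exact (congrArg CutOut.top (comap_ker_snd hc (CutOut.openPieceι W.1) (g := φ) rfl)).trans
    (CutOut.idealOfRep_eq_top (T := CutOut.openPiece V W.1) (hT := W.2) hc.1 (repWith_comp (repWith_etale_openMk W.1) hp)).symm

theorem ker_snd_mul {iZ : Z ⟶ X} {iY : Y ⟶ X} {iD : D ⟶ X} {I J : IdealEt X} (hZ : IsCutOutBy I iZ)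
    (hY : IsCutOutBy J iY) (hD : IsCutOutBy (I * J) iD) {V : Over S} {p : (yon S).obj V ⟶ X}
    (hp : RepWith @Etale p) :
    (hD.choose.1.snd p).left.ker = (hZ.choose.1.snd p).left.ker * (hY.choose.1.snd p).left.ker := by
  haveI : ∀ W : V.left.affineOpens, IsAffine (W.1 : Scheme.{u}) := fun W => W.2
  refine CutOut.ext_of_comap (T := fun W : V.left.affineOpens => (W.1 : Scheme.{u})) (fun W => W.1.ι)
    (fun v => ?_) fun W => ?_
  · obtain ⟨W, hW, hv, -⟩ := exists_isAffineOpen_mem_and_subset (x := v) (U := ⊤) trivial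
    exact ⟨⟨W, hW⟩, ⟨v, hv⟩, rfl⟩
  · rw [Groth.L22.Ideals.comap_mul, top_mul, top_comap_ker_snd hZ hp W, top_comap_ker_snd hY hp W,
      top_comap_ker_snd hD hp W]
    rfl

theorem isEffCartierSub_mul (hX : IsAlgSpace X) {iZ : Z ⟶ X} {iY : Y ⟶ X} {iD : D ⟶ X} {I J : IdealEt X}
    (hZ : IsCutOutBy I iZ) (hY : IsCutOutBy J iY) (hD : IsCutOutBy (I * J) iD) (eZ : IsEffCartierSub iZ)
    (eY : IsEffCartierSub iY) : IsEffCartierSub iD := by
  obtain ⟨V, p, hp, hps⟩ := hX.atlas
  refine isEffCartierSub_of_ker hD.choose hp hps ?_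
  rw [ker_snd_mul hZ hY hD hp]
  exact Groth.L22.Ideals.isEffCartier_mul (isEffCartier_ker eZ hp) (isEffCartier_ker eY hp)

theorem isEffCartierSub_of_mul (hX : IsAlgSpace X) {iZ : Z ⟶ X} {iY : Y ⟶ X} {iD : D ⟶ X} {I J : IdealEt X}
    (hZ : IsCutOutBy I iZ) (hY : IsCutOutBy J iY) (hD : IsCutOutBy (I * J) iD) (eD : IsEffCartierSub iD) :
    IsEffCartierSub iZ ∧ IsEffCartierSub iY := by
  obtain ⟨V, p, hp, hps⟩ := hX.atlas
  have h := isEffCartier_ker eD hp
  have e := ker_snd_mul hZ hY hD hp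
  have h' : BlowUp.IsEffCartierIdeal ((hZ.choose.1.snd p).left.ker * (hY.choose.1.snd p).left.ker) := e ▸ h
  refine ⟨isEffCartierSub_of_ker hZ.choose hp hps (Groth.L22.Ideals.isEffCartier_left_of_mul h'),
    isEffCartierSub_of_ker hY.choose hp hps ?_⟩
  exact Groth.L22.Ideals.isEffCartier_left_of_mul (mul_comm (hZ.choose.1.snd p).left.ker _ ▸ h')

end Groth.L23.EffCart
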