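import Groth.Agent.L23.SpacePushout
import Groth.Agent.L20.Pinch.Rel
import Groth.Agent.L20.Pinch.Nhd
import Groth.Agent.L20.QuasiAffine
import Groth.Agent.L20.Pinch.Lqf
import Mathlib.AlgebraicGeometry.Morphisms.QuasiFinite
import Mathlib.AlgebraicGeometry.Morphisms.Etale

/-!
# Étale glueing along a closed immersion and an integral morphism
-/

universe u

open CategoryTheory CategoryTheory.Limits AlgebraicGeometry AlgSp

set_option linter.style.haveILetI false
set_option backward.isDefEq.respectTransparency.types false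

namespace Groth.L23.SpacePushout

open Groth.L20.Pinch in
/-- Étale glueing along a pinched square. -/
theorem etaleGlues_of_isIntegralHom {Z X Y P : Scheme.{u}} {i : Z ⟶ X} {j : Z ⟶ Y} [IsClosedImmersion i]
    [IsIntegralHom j] {a : X ⟶ P} {b : Y ⟶ P} (hW : IsPinch i j a b)
    (haff : ∀ y : Y, ∃ U : X.Opens, IsAffineOpen U ∧ j ⁻¹' {y} ⊆ i ⁻¹' (U : Set X)) :
    EtaleGlues i j a b := by
  intro E0 E2 E1 e0 e2 e1 f2 f1 he2 hs2 he1 hs1 hf2 hf1
  have hX := hf2.flip
  have hY := hf1.flip
  have : IsClosedImmersion f2 := MorphismProperty.of_isPullback hX inferInstance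
  have : IsIntegralHom f1 := MorphismProperty.of_isPullback hY inferInstance
  have hs' : Std f2 f1 := by
    refine std_of_isIntegralHom fun y => ?_
    obtain ⟨U, hU, hy⟩ := haff (e1 y)
    let T : Set E2 := f2 '' (f1 ⁻¹' {y})
    have hT : IsCompact T := (f1.isCompact_preimage_singleton y).image f2.continuous
    have hTU : T ⊆ (e2 ⁻¹ᵁ U : Set E2) := by
      rintro _ ⟨z, hz, rfl⟩
      have h1 : e0 z ∈ j ⁻¹' {e1 y} := by
        show j (e0 z) = e1 y
        rw [← Scheme.Hom.comp_apply, hY.w, Scheme.Hom.comp_apply, show f1 z = y from hz]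
      have h2 : i (e0 z) ∈ U := hy h1
      show e2 (f2 z) ∈ U
      rw [← Scheme.Hom.comp_apply, ← hX.w, Scheme.Hom.comp_apply]
      exact h2
    obtain ⟨O, hOc, hTO, hOU⟩ := Groth.L20.exists_isCompact_open_between hT hTU
    have : CompactSpace O.toScheme := isCompact_iff_compactSpace.mp hOc
    have : IsAffine U.toScheme := hU
    let σ : O.toScheme ⟶ U.toScheme := e2.resLE U O hOU
    have : Etale (σ ≫ U.ι) := by rw [Scheme.Hom.resLE_comp_ι]; infer_instance
    have : Etale σ := Etale.of_comp σ U.ι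
    have : IsSeparated (σ ≫ U.ι) := by rw [Scheme.Hom.resLE_comp_ι]; infer_instance
    have : IsSeparated σ := IsSeparated.of_comp σ U.ι
    have : QuasiCompact σ := (quasiCompact_iff_compactSpace σ).mpr inferInstance
    exact exists_affine_of_lqf O σ y fun z hz => hTO ⟨z, hz, rfl⟩
  obtain ⟨W', b', a', hW'⟩ := hs'.exists_isPinch
  obtain ⟨k, hkb, hka⟩ := hW'.exists_desc (e2 ≫ a) (e1 ≫ b) (by
    rw [← Category.assoc, ← hX.w, Category.assoc, hW.comm, ← Category.assoc, hY.w, Category.assoc])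
  have hk : Etale k := hW.property_k hW' hX hY hkb hka (Q := @Etale) (fun o _ => inferInstance)
    fun k0 k1 ho => (ho.isRelFib hX hY).conclusion.2.2.2.2.2
      (HasRingHomProperty.appLE @Etale e1 he1 ⟨_, k0.hV⟩ ⟨_, k1.hV⟩ ho.leV)
      (HasRingHomProperty.appLE @Etale e2 he2 ⟨_, k0.hU⟩ ⟨_, k1.hU⟩ ho.leU)
  exact ⟨W', k, b', a', hk, (hW.isPullback_relX hW' hX hY hkb hka).flip,
    (hW.isPullback_relY hW' hX hY hkb hka).flip, hW'.comm⟩

end Groth.L23.SpacePushout
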