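import Groth.Agent.L23.PushoutSpace
import Groth.Agent.L23.EffCartierMul
import Groth.Agent.L23.CutOutApps
import Groth.Agent.L23.CutOutLe
import Groth.Agent.S10700
import Groth.Agent.S9383

/-!
# The scheme-theoretic union of closed subspaces is a pushout
-/

universe u

open CategoryTheory CategoryTheory.Limits AlgebraicGeometry AlgSp

set_option linter.style.haveILetI false
set_option backward.isDefEq.respectTransparency.types false

namespace Groth.L23.ClosedUnion

open Groth.L23.PushoutSpace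

variable {S : Scheme.{u}}

/-- Scheme charts of a square of closed immersions of algebraic spaces. -/
structure ClosedChart {X X' Y Y' : Sp S} (t : X ⟶ X') (f : X ⟶ Y) (f' : X' ⟶ Y') (t' : Y ⟶ Y') where
  (W W' V V' : Over S)
  (τ : W ⟶ W') (j : W ⟶ V) (a : W' ⟶ V') (b : V ⟶ V')
  (qW : (yon S).obj W ⟶ X) (qW' : (yon S).obj W' ⟶ X') (qV : (yon S).obj V ⟶ Y) (qV' : (yon S).obj V' ⟶ Y')
  closed : IsClosedImmersion τ.left
  jclosed : IsClosedImmersion j.left
  pinch : @Groth.L20.Pinch.IsPinch _ _ _ τ.left j.left closed _ a.left b.left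
  isPushout : IsPushout τ j a b
  etW' : RepWith @Etale qW'
  surW' : RepWith @Surjective qW'
  etV : RepWith @Etale qV
  surV : RepWith @Surjective qV
  etV' : RepWith @Etale qV'
  surV' : RepWith @Surjective qV'
  sqT : IsPullback ((yon S).map τ) qW qW' t
  sqF : IsPullback ((yon S).map j) qW qV f
  sqA : IsPullback ((yon S).map a) qW' qV' f'
  sqB : IsPullback ((yon S).map b) qV qV' t'

/-- A commutative square of algebraic spaces with compatible charts along two closed immersions is a pushout. -/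
theorem ClosedChart.isPushout_space {X X' Y Y' : Space S} {t : X ⟶ X'} {f : X ⟶ Y} {f' : X' ⟶ Y'} {t' : Y ⟶ Y'}
    (c : ClosedChart t.hom f.hom f'.hom t'.hom) (hw : t ≫ f' = f ≫ t') : IsPushout t f f' t' := by
  have := c.closed; have := c.jclosed
  obtain ⟨RP, tP, sP, sqP⟩ := exists_isPullback_of_representable c.etV'.1 c.qV'
  obtain ⟨RX, tX, sX, sqX⟩ := exists_isPullback_of_representable c.etW'.1 c.qW'
  obtain ⟨RY, tY, sY, sqY⟩ := exists_isPullback_of_representable c.etV.1 c.qV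
  have hW : RepWith @Etale c.qW := repWith_of_isPullback c.sqF c.etV
  obtain ⟨RZ, tZ, sZ, sqZ⟩ := exists_isPullback_of_representable hW.1 c.qW
  obtain ⟨a', hsA, htA⟩ := exists_kernelPair_map c.sqA sqX sqP
  obtain ⟨b', hsB, htB⟩ := exists_kernelPair_map c.sqB sqY sqP
  obtain ⟨i', hs2, ht2⟩ := exists_kernelPair_map c.sqT sqZ sqX
  obtain ⟨j', hs1, ht1⟩ := exists_kernelPair_map c.sqF sqZ sqY
  have htE : Etale tP.left := (repWith_yon_map_iff _ tP).1 (repWith_of_isPullback sqP.flip c.etV')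
  have hl : i' ≫ a' = j' ≫ b' := (yon S).map_injective (sqP.hom_ext
    (by rw [← Functor.map_comp, ← Functor.map_comp, Category.assoc, Category.assoc, htA.w, htB.w, reassoc_of% ht2.w,
      reassoc_of% ht1.w, c.isPushout.w])
    (by rw [← Functor.map_comp, ← Functor.map_comp, Category.assoc, Category.assoc, hsA.w, hsB.w, reassoc_of% hs2.w,
      reassoc_of% hs1.w, c.isPushout.w]))
  have hpo' := PinchOver.isPushout_flat c.pinch htB htA ht2 ht1.w hl
  have : IsClosedImmersion i'.left := MorphismProperty.of_isPullback (hs2.map (Over.forget S)).flip c.closed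
  have : IsClosedImmersion j'.left := MorphismProperty.of_isPullback (hs1.map (Over.forget S)).flip c.jclosed
  have key := Groth.Agent.S10700.result c.τ c.j Groth.L20.Pinch.exists_affine_of_isClosedImmersion c.a c.b c.isPushout
  have key' := Groth.Agent.S10700.result i' j' Groth.L20.Pinch.exists_affine_of_isClosedImmersion a' b' hpo'
  have := epi_of_repWith _ c.etW' c.surW'
  have := epi_of_repWith _ c.etV c.surV
  have := epi_of_repWith _ c.etV' c.surV'
  obtain ⟨cP⟩ := nonempty_isColimit_cofork c.qV' sqP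
  have hfh : c.qW' ≫ f'.hom = (yon S).map c.a ≫ c.qV' := c.sqA.w.symm
  have hth : c.qV ≫ t'.hom = (yon S).map c.b ≫ c.qV' := c.sqB.w.symm
  have hext : ∀ {Z : Space S} (m m' : Y' ⟶ Z), f' ≫ m = f' ≫ m' → t' ≫ m = t' ≫ m' → m = m' := by
    intro Z m m' h₁ h₂
    refine ObjectProperty.hom_ext _ ((cancel_epi c.qV').1 ?_)
    have := key.hom_ext (k := (⟨c.qV' ≫ m.hom⟩ : (AlgSp.ofScheme S).obj c.V' ⟶ Z)) (l := ⟨c.qV' ≫ m'.hom⟩)
      (ObjectProperty.hom_ext _ (by
        show (yon S).map c.a ≫ c.qV' ≫ m.hom = (yon S).map c.a ≫ c.qV' ≫ m'.hom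
        rw [← reassoc_of% hfh, ← reassoc_of% hfh]
        exact congrArg (fun k => c.qW' ≫ k.hom) h₁))
      (ObjectProperty.hom_ext _ (by
        show (yon S).map c.b ≫ c.qV' ≫ m.hom = (yon S).map c.b ≫ c.qV' ≫ m'.hom
        rw [← reassoc_of% hth, ← reassoc_of% hth]
        exact congrArg (fun k => c.qV ≫ k.hom) h₂))
    exact congrArg (fun k => k.hom) this
  have hdesc : ∀ {Z : Space S} (g : X' ⟶ Z) (h : Y ⟶ Z), t ≫ g = f ≫ h → ∃ m : Y' ⟶ Z, f' ≫ m = g ∧ t' ≫ m = h := by
    intro Z g h w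
    let g₁ : (AlgSp.ofScheme S).obj c.W' ⟶ Z := ⟨c.qW' ≫ g.hom⟩
    let h₁ : (AlgSp.ofScheme S).obj c.V ⟶ Z := ⟨c.qV ≫ h.hom⟩
    have hw₁ : (AlgSp.ofScheme S).map c.τ ≫ g₁ = (AlgSp.ofScheme S).map c.j ≫ h₁ := ObjectProperty.hom_ext _ (by
      show (yon S).map c.τ ≫ c.qW' ≫ g.hom = (yon S).map c.j ≫ c.qV ≫ h.hom
      rw [reassoc_of% c.sqT.w, reassoc_of% c.sqF.w]
      exact congrArg (fun k => c.qW ≫ k.hom) w)
    let x := key.desc g₁ h₁ hw₁
    have hxa : (yon S).map c.a ≫ x.hom = c.qW' ≫ g.hom := congrArg (fun k => k.hom) (key.inl_desc g₁ h₁ hw₁)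
    have hxb : (yon S).map c.b ≫ x.hom = c.qV ≫ h.hom := congrArg (fun k => k.hom) (key.inr_desc g₁ h₁ hw₁)
    have ea : (yon S).map a' ≫ (yon S).map tP ≫ x.hom = (yon S).map a' ≫ (yon S).map sP ≫ x.hom := by
      rw [← Functor.map_comp_assoc, ← Functor.map_comp_assoc, htA.w, hsA.w, Functor.map_comp_assoc,
        Functor.map_comp_assoc, hxa, reassoc_of% sqX.w]
    have eb : (yon S).map b' ≫ (yon S).map tP ≫ x.hom = (yon S).map b' ≫ (yon S).map sP ≫ x.hom := by
      rw [← Functor.map_comp_assoc, ← Functor.map_comp_assoc, htB.w, hsB.w, Functor.map_comp_assoc,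
        Functor.map_comp_assoc, hxb, reassoc_of% sqY.w]
    have hR' : (yon S).map tP ≫ x.hom = (yon S).map sP ≫ x.hom := by
      have := key'.hom_ext (k := (⟨(yon S).map tP ≫ x.hom⟩ : (AlgSp.ofScheme S).obj RP ⟶ Z))
        (l := ⟨(yon S).map sP ≫ x.hom⟩) (ObjectProperty.hom_ext _ ea) (ObjectProperty.hom_ext _ eb)
      exact congrArg (fun k => k.hom) this
    have hm : c.qV' ≫ cP.desc (Cofork.ofπ x.hom hR') = x.hom := cP.fac _ WalkingParallelPair.one
    exact ⟨⟨cP.desc (Cofork.ofπ x.hom hR')⟩,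
      ObjectProperty.hom_ext _ ((cancel_epi c.qW').1 (by
        show c.qW' ≫ f'.hom ≫ _ = c.qW' ≫ g.hom
        rw [reassoc_of% hfh, hm, hxa])),
      ObjectProperty.hom_ext _ ((cancel_epi c.qV).1 (by
        show c.qV ≫ t'.hom ≫ _ = c.qV ≫ h.hom
        rw [reassoc_of% hth, hm, hxb]))⟩
  choose m hm₁ hm₂ using @hdesc
  exact ⟨⟨hw⟩, ⟨PushoutCocone.IsColimit.mk _ (fun s => m s.inl s.inr s.condition)
    (fun s => hm₁ _ _ _) (fun s => hm₂ _ _ _)
    (fun s k h₁ h₂ => hext _ _ (h₁.trans (hm₁ _ _ _).symm) (h₂.trans (hm₂ _ _ _).symm))⟩⟩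


/-- Closed subschemes with ideals `I`, `J`, `I ⊓ J`, `I ⊔ J` form a pushout square. -/
theorem isPushout_of_kers {E EV EY EZ EW : Scheme.{u}} {ιV : EV ⟶ E} {ιY : EY ⟶ E} {ιZ : EZ ⟶ E} {ιW : EW ⟶ E}
    [IsClosedImmersion ιV] [IsClosedImmersion ιY] [IsClosedImmersion ιZ] [IsClosedImmersion ιW]
    (hW : ιW.ker = ιY.ker ⊓ ιZ.ker) (hV : ιV.ker = ιY.ker ⊔ ιZ.ker) {c : EV ⟶ EY} {d : EV ⟶ EZ} {a : EY ⟶ EW}
    {b : EZ ⟶ EW} (hc : c ≫ ιY = ιV) (hd : d ≫ ιZ = ιV) (ha : a ≫ ιW = ιY) (hb : b ≫ ιW = ιZ) :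
    IsPushout c d a b := by
  have key : ∀ {T : Scheme.{u}} (f : T ⟶ E) [IsClosedImmersion f] (K : E.IdealSheafData) (h : f.ker = K),
      ∃ e : K.subscheme ≅ T, e.hom ≫ f = K.subschemeι := by
    intro T f _ K h
    subst h
    exact ⟨⟨IsClosedImmersion.lift f f.ker.subschemeι (by rw [Scheme.IdealSheafData.ker_subschemeι]),
      IsClosedImmersion.lift f.ker.subschemeι f (by rw [Scheme.IdealSheafData.ker_subschemeι]),
      by rw [← cancel_mono f.ker.subschemeι, Category.assoc, IsClosedImmersion.lift_fac,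
        IsClosedImmersion.lift_fac, Category.id_comp],
      by rw [← cancel_mono f, Category.assoc, IsClosedImmersion.lift_fac, IsClosedImmersion.lift_fac, Category.id_comp]⟩,
      IsClosedImmersion.lift_fac _ _ _⟩
  obtain ⟨eV, heV⟩ := key ιV _ hV
  obtain ⟨eY, heY⟩ := key ιY _ rfl
  obtain ⟨eZ, heZ⟩ := key ιZ _ rfl
  obtain ⟨eW, heW⟩ := key ιW _ hW
  refine (Groth.Agent.S9383.result E ιY.ker ιZ.ker).of_iso eV eY eZ eW ?_ ?_ ?_ ?_
  · rw [← cancel_mono ιY, Category.assoc, Category.assoc, hc, heV, heY, Scheme.IdealSheafData.inclusion_subschemeι]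
  · rw [← cancel_mono ιZ, Category.assoc, Category.assoc, hd, heV, heZ, Scheme.IdealSheafData.inclusion_subschemeι]
  · rw [← cancel_mono ιW, Category.assoc, Category.assoc, ha, heY, heW, Scheme.IdealSheafData.inclusion_subschemeι]
  · rw [← cancel_mono ιW, Category.assoc, Category.assoc, hb, heZ, heW, Scheme.IdealSheafData.inclusion_subschemeι]

/-- The kernels on a chart of the union and the intersection. -/
theorem ker_snd_lattice {X Y Z W V : Sp S} {iY : Y ⟶ X} {iZ : Z ⟶ X} {w : W ⟶ X} {v : V ⟶ X} {I J K : IdealEt X}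
    (hY : IsCutOutBy I iY) (hZ : IsCutOutBy J iZ) (hW : IsCutOutBy K w) (hV : IsCutOutBy (I ⊔ J) v)
    (hK : ∀ (E : EtOver X) (hE : IsAffine E.obj.left.left), K.ideal E hE = I.ideal E hE ⊓ J.ideal E hE)
    {E : Over S} {p : (yon S).obj E ⟶ X} (hp : RepWith @Etale p) :
    (hW.choose.1.snd p).left.ker = (hY.choose.1.snd p).left.ker ⊓ (hZ.choose.1.snd p).left.ker ∧
    (hV.choose.1.snd p).left.ker = (hY.choose.1.snd p).left.ker ⊔ (hZ.choose.1.snd p).left.ker := by
  have : ∀ O : E.left.affineOpens, IsAffine (O.1 : Scheme.{u}) := fun O => O.2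
  have hcov : ∀ x : E.left, ∃ O : E.left.affineOpens, x ∈ Set.range O.1.ι := fun x => by
    obtain ⟨O, hO, hx, -⟩ := exists_isAffineOpen_mem_and_subset (x := x) (U := ⊤) trivial
    exact ⟨⟨O, hO⟩, ⟨x, hx⟩, rfl⟩
  refine ⟨CutOut.ext_of_comap (T := fun O : E.left.affineOpens => (O.1 : Scheme.{u})) (fun O => O.1.ι) hcov fun O => ?_,
    CutOut.ext_of_comap (T := fun O : E.left.affineOpens => (O.1 : Scheme.{u})) (fun O => O.1.ι) hcov fun O => ?_⟩
  · rw [EffCart.top_comap_ker_snd hW hp O, hK, ← EffCart.top_comap_ker_snd hY hp O, ← EffCart.top_comap_ker_snd hZ hp O]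
    simp only [CutOut.top, Scheme.IdealSheafData.ideal_comap_of_isOpenImmersion, Scheme.IdealSheafData.ideal_inf,
      Pi.inf_apply, Ideal.comap_inf]
    rfl
  · rw [EffCart.top_comap_ker_snd hV hp O, IdealEt.sup_ideal, ← EffCart.top_comap_ker_snd hY hp O,
      ← EffCart.top_comap_ker_snd hZ hp O]
    simp only [CutOut.top, Scheme.IdealSheafData.ideal_comap_of_isOpenImmersion, Scheme.IdealSheafData.ideal_sup,
      Pi.sup_apply, ← CutOut.map_hom_eq_comap_inv, Ideal.map_sup]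
    rfl

/-- The union of two closed subspaces is their pushout. -/
theorem main {X Y Z W V : Space S} {iY : Y ⟶ X} {iZ : Z ⟶ X} {w : W ⟶ X} {v : V ⟶ X} {I J K : IdealEt X.obj}
    (hK : ∀ (E : EtOver X.obj) (hE : IsAffine E.obj.left.left), K.ideal E hE = I.ideal E hE ⊓ J.ideal E hE)
    (hY : IsCutOutBy I iY.hom) (hZ : IsCutOutBy J iZ.hom) (hW : IsCutOutBy K w.hom)
    (hV : IsCutOutBy (I ⊔ J) v.hom) {a : Y ⟶ W} {b : Z ⟶ W} {c : V ⟶ Y} {d : V ⟶ Z}
    (ha : a ≫ w = iY) (hb : b ≫ w = iZ) (hc : c ≫ iY = v) (hd : d ≫ iZ = v) :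
    RepWith @IsClosedImmersion a.hom ∧ RepWith @IsClosedImmersion b.hom ∧ IsPushout c d a b := by
  obtain ⟨E, p, hp, hps⟩ := X.property.atlas
  obtain ⟨kW, kV⟩ := ker_snd_lattice hY hZ hW hV hK hp
  have cY : RepWith @IsClosedImmersion iY.hom := hY.choose
  have cZ : RepWith @IsClosedImmersion iZ.hom := hZ.choose
  have cW : RepWith @IsClosedImmersion w.hom := hW.choose
  have cV : RepWith @IsClosedImmersion v.hom := hV.choose
  have := repWith_snd cY p; have := repWith_snd cZ p; have := repWith_snd cW p; have := repWith_snd cV p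
  have := mono_of_closedImmersion cW
  have := mono_of_closedImmersion cY
  have := mono_of_closedImmersion cZ
  have sY := cY.1.isPullback p
  have sZ := cZ.1.isPullback p
  have sW := cW.1.isPullback p
  have sV := cV.1.isPullback p
  have eha : a.hom ≫ w.hom = iY.hom := congrArg (fun k => k.hom) ha
  have ehb : b.hom ≫ w.hom = iZ.hom := congrArg (fun k => k.hom) hb
  have ehc : c.hom ≫ iY.hom = v.hom := congrArg (fun k => k.hom) hc
  have ehd : d.hom ≫ iZ.hom = v.hom := congrArg (fun k => k.hom) hd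
  have lift : ∀ {A B : Sp S} {iA : A ⟶ X.obj} {iB : B ⟶ X.obj} (hA : Representable iA) (hB : Representable iB)
      (m : A ⟶ B), m ≫ iB = iA → ∃ l : hA.pullback p ⟶ hB.pullback p, l ≫ hB.snd p = hA.snd p ∧
        IsPullback ((yon S).map l) (hA.fst p) (hB.fst p) m := by
    intro A B iA iB hA hB m hm
    have sA := hA.isPullback p
    have sB := hB.isPullback p
    obtain ⟨l, hl₁, hl₂⟩ := sB.exists_lift (hA.fst p ≫ m) ((yon S).map (hA.snd p)) (by rw [Category.assoc, hm, sA.w])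
    obtain ⟨l, rfl⟩ := (yon S).map_surjective l
    refine ⟨l, (yon S).map_injective (by rw [Functor.map_comp, hl₂]), ?_⟩
    refine IsPullback.of_right (h₁₂ := (yon S).map (hB.snd p)) ?_ hl₁ sB.flip
    rw [hl₂, hm]
    exact sA.flip
  obtain ⟨lc, hlc, sc⟩ := lift cV.1 cY.1 c.hom ehc
  obtain ⟨ld, hld, sd⟩ := lift cV.1 cZ.1 d.hom ehd
  obtain ⟨la, hla, sa⟩ := lift cY.1 cW.1 a.hom eha
  obtain ⟨lb, hlb, sb⟩ := lift cZ.1 cW.1 b.hom ehb
  have hpo : IsPushout lc.left ld.left la.left lb.left := isPushout_of_kers kW kV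
    (congrArg CommaMorphism.left hlc) (congrArg CommaMorphism.left hld) (congrArg CommaMorphism.left hla)
    (congrArg CommaMorphism.left hlb)
  have closed : ∀ {A B T : Over S} (l : A ⟶ B) (g : B ⟶ T) (h : A ⟶ T), IsClosedImmersion g.left →
      IsClosedImmersion h.left → l ≫ g = h → IsClosedImmersion l.left := by
    intro A B T l g h hg hh e
    have : IsClosedImmersion (l.left ≫ g.left) := by rw [← Over.comp_left, e]; exact hh
    exact IsClosedImmersion.of_comp_isClosedImmersion l.left g.left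
  have hc' := closed _ _ _ ‹_› ‹_› hlc
  have hd' := closed _ _ _ ‹_› ‹_› hld
  have ha' := closed _ _ _ ‹_› ‹_› hla
  have hb' := closed _ _ _ ‹_› ‹_› hlb
  have hpoO : IsPushout lc ld la lb := IsPushout.of_map (Over.forget S) (Over.OverMorphism.ext hpo.w) hpo
  let ch : ClosedChart c.hom d.hom a.hom b.hom :=
    ⟨_, _, _, _, lc, ld, la, lb, cV.1.fst p, cY.1.fst p, cZ.1.fst p, cW.1.fst p, hc', hd',
      Groth.L20.Pinch.IsPinch.of_isPushout
        (Groth.L20.Pinch.std_of_isIntegralHom Groth.L20.Pinch.exists_affine_of_isClosedImmersion) hpo,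
      hpoO, repWith_of_isPullback sY.flip hp, repWith_of_isPullback sY.flip hps,
      repWith_of_isPullback sZ.flip hp, repWith_of_isPullback sZ.flip hps,
      repWith_of_isPullback sW.flip hp, repWith_of_isPullback sW.flip hps, sc, sd, sa, sb⟩
  have := mono_of_closedImmersion cV
  refine ⟨?_, ?_, ch.isPushout_space (ObjectProperty.hom_ext _ ?_)⟩
  · refine repWith_of_comp_diagonal (q := w.hom) (by rw [eha]; exact cY) ?_
    exact repWith_of_isIso _
  · refine repWith_of_comp_diagonal (q := w.hom) (by rw [ehb]; exact cZ) ?_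
    exact repWith_of_isIso _
  · show c.hom ≫ a.hom = d.hom ≫ b.hom
    rw [← cancel_mono w.hom, Category.assoc, Category.assoc, eha, ehb, ehc, ehd]

end Groth.L23.ClosedUnion
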