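import Groth.Agent.L10.TowerConst
import Mathlib.Algebra.Homology.DerivedCategory.FullyFaithful

/-! Acyclic test objects see only `H⁰` (copy of the general part of the scheme development, without its heavy imports). -/

set_option autoImplicit false
set_option backward.defeqAttrib.useBackward true
set_option backward.isDefEq.respectTransparency false
set_option backward.isDefEq.respectTransparency.types false

universe t w v u

open CategoryTheory CategoryTheory.Limits CategoryTheory.Pretriangulated DerivedCategory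

namespace Groth.L23.ClsBij

open Groth.L10 Groth.L10.TowerStab

section General

variable {C : Type u} [Category.{v} C] [Abelian C] [HasDerivedCategory.{w} C] [KInjDerived.EnoughKInjectives C]

local notation "tt" => DerivedCategory.TStructure.t
local notation "S0" => singleFunctor C 0
local notation "H0" => homologyFunctor C 0

/-- `cls` on the bottom cohomology of a single object -/
theorem bijective_cls_single (Q N : C) :
    Function.Bijective (LocalDetect.cls : ((S0).obj Q ⟶ (S0).obj N) → _) := by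
  have h : IsIso (LocalDetect.cls (𝟙 ((S0).obj N))) := by
    unfold LocalDetect.cls
    exact IsIso.comp_isIso' inferInstance (IsIso.comp_isIso' inferInstance (Functor.map_isIso (H0) (𝟙 _)))
  have hg : ∀ g : Q ⟶ N, LocalDetect.cls ((S0).map g) = g ≫ LocalDetect.cls (𝟙 ((S0).obj N)) := fun g => by
    rw [← LocalDetect.cls_map, Category.comp_id]
  constructor
  · intro ξ ξ' e
    obtain ⟨g, rfl⟩ := (S0).map_surjective ξ
    obtain ⟨g', rfl⟩ := (S0).map_surjective ξ'
    rw [hg, hg, cancel_mono] at e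
    rw [e]
  · intro y
    exact ⟨(S0).map (y ≫ inv (LocalDetect.cls (𝟙 ((S0).obj N)))), by rw [hg, Category.assoc, IsIso.inv_hom_id, Category.comp_id]⟩

theorem bijective_cls_of_comp {Q : C} {X Y : DerivedCategory C} (f : X ⟶ Y) [IsIso ((H0).map f)]
    (hf : Function.Bijective (fun ξ : (S0).obj Q ⟶ X => ξ ≫ f)) :
    Function.Bijective (LocalDetect.cls : ((S0).obj Q ⟶ X) → _) ↔
      Function.Bijective (LocalDetect.cls : ((S0).obj Q ⟶ Y) → _) := by
  have e : (LocalDetect.cls : ((S0).obj Q ⟶ Y) → _) ∘ (fun ξ : (S0).obj Q ⟶ X => ξ ≫ f) =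
      (fun y : Q ⟶ (H0).obj X => y ≫ (H0).map f) ∘ LocalDetect.cls := funext fun ξ => LocalDetect.cls_comp ξ f
  have hi : Function.Bijective (fun y : Q ⟶ (H0).obj X => y ≫ (H0).map f) :=
    ⟨fun a b h => (cancel_mono _).1 h, fun b => ⟨b ≫ inv ((H0).map f), by simp⟩⟩
  rw [← Function.Bijective.of_comp_iff _ hf, e, Function.Bijective.of_comp_iff' hi]

/-- composition with the middle map of a triangle -/
theorem bijective_comp_mor₂ {Q : C} (T : Triangle (DerivedCategory C)) (hT : T ∈ distTriang _)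
    (h0 : ∀ g : (S0).obj Q ⟶ T.obj₁, g = 0) (h1 : ∀ g : (S0).obj Q ⟶ T.obj₁⟦(1 : ℤ)⟧, g = 0) :
    Function.Bijective (fun ξ : (S0).obj Q ⟶ T.obj₂ => ξ ≫ T.mor₂) := by
  refine ⟨fun ξ ξ' e => sub_eq_zero.1 ?_, fun η => ?_⟩
  · obtain ⟨g, hg⟩ := Triangle.coyoneda_exact₂ T hT (ξ - ξ') ((Preadditive.sub_comp _ _ _).trans (sub_eq_zero.2 e))
    rw [hg, h0 g, zero_comp]
  · obtain ⟨ξ, hξ⟩ := Triangle.coyoneda_exact₃ T hT η (h1 _)
    exact ⟨ξ, hξ.symm⟩

/-- composition with the first map of a triangle -/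
theorem bijective_comp_mor₁ {Q : C} (T : Triangle (DerivedCategory C)) (hT : T ∈ distTriang _)
    (h0 : ∀ g : (S0).obj Q ⟶ T.obj₃, g = 0) (h1 : ∀ g : (S0).obj Q ⟶ T.invRotate.obj₁, g = 0) :
    Function.Bijective (fun ξ : (S0).obj Q ⟶ T.obj₁ => ξ ≫ T.mor₁) := by
  refine ⟨fun ξ ξ' e => sub_eq_zero.1 ?_, fun η => ?_⟩
  · obtain ⟨g, hg⟩ := Triangle.coyoneda_exact₂ T.invRotate (inv_rot_of_distTriang _ hT) (ξ - ξ')
      ((Preadditive.sub_comp _ _ _).trans (sub_eq_zero.2 e))
    rw [hg, h1 g, zero_comp]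
  · obtain ⟨ξ, hξ⟩ := Triangle.coyoneda_exact₂ T hT η (h0 _)
    exact ⟨ξ, hξ.symm⟩

/-- an object acyclic for the cohomology of `Z ≥ 0` sees only `H⁰` -/
theorem bijective_cls_of_isGE_zero (Q : C) (Z : DerivedCategory C) [Z.IsGE 0] :
    Function.Bijective (LocalDetect.cls : ((S0).obj Q ⟶ Z) → _) := by
  have hQ : (tt).IsLE ((S0).obj Q) 0 := (inferInstance : DerivedCategory.IsLE ((S0).obj Q) 0)
  have hB : DerivedCategory.IsGE (((tt).truncGE 1).obj Z) 1 := by
    rw [DerivedCategory.isGE_iff]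
    exact fun i hi => isZero_H_GE 1 i hi Z
  have hB' : (tt).IsGE (((tt).truncGE 1).obj Z) 1 := hB
  have hL : DerivedCategory.IsGE (((tt).truncLT 1).obj Z) 0 := by
    rw [DerivedCategory.isGE_iff]
    intro i hi
    have := isIso_H_ι 1 i (by omega) Z
    exact (DerivedCategory.isZero_of_isGE Z 0 i hi).of_iso
      (asIso ((homologyFunctor C i).map (((tt).truncLTι 1).app Z)))
  have hL' : DerivedCategory.IsLE (((tt).truncLT 1).obj Z) 0 := (tt).isLE_truncLT_obj _ _ _ (by omega)
  obtain ⟨e⟩ := exists_iso_single_H (((tt).truncLT 1).obj Z) 0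
  have := isIso_H_ι 1 0 (by omega) Z
  refine (bijective_cls_of_comp (((tt).truncLTι 1).app Z) ?_).1 ?_
  · refine bijective_comp_mor₁ _ ((tt).triangleLTGE_distinguished 1 Z) (fun g => (tt).zero g 0 1 (by omega)) fun g => ?_
    change ((S0).obj Q ⟶ (((tt).truncGE 1).obj Z)⟦(-1 : ℤ)⟧) at g
    have : (tt).IsGE ((((tt).truncGE 1).obj Z)⟦(-1 : ℤ)⟧) 2 := (tt).isGE_shift _ 1 (-1) 2 (by omega)
    exact (tt).zero g 0 2 (by omega)
  · refine (bijective_cls_of_comp e.hom ?_).2 (bijective_cls_single Q _)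
    exact ⟨fun a b h => (cancel_mono _).1 h, fun b => ⟨b ≫ e.inv, by simp⟩⟩

/-- an acyclic test object sees only `H⁰` of a bounded below object -/
theorem bijective_cls_of_isGE (Q : C) (Z : DerivedCategory C) (a : ℤ) [Z.IsGE a]
    (hS : ∀ i, Small 0 Q ((homologyFunctor C i).obj Z)) :
    Function.Bijective (LocalDetect.cls : ((S0).obj Q ⟶ Z) → _) := by
  have hB : DerivedCategory.IsGE (((tt).truncGE 0).obj Z) 0 := by
    rw [DerivedCategory.isGE_iff]
    exact fun i hi => isZero_H_GE 0 i hi Z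
  have := isIso_H_π 0 0 le_rfl Z
  refine (bijective_cls_of_comp (((tt).truncGEπ 0).app Z) ?_).2 (bijective_cls_of_isGE_zero Q _)
  let L := ((tt).truncLT 0).obj Z
  have hLz : ∀ i : ℤ, 0 ≤ i → IsZero ((homologyFunctor C i).obj L) := fun i hi => isZero_H_LT 0 i hi Z
  have hLge : L.IsGE (min a 0) := by
    rw [DerivedCategory.isGE_iff]
    intro i hi
    have := isIso_H_ι 0 i (by omega) Z
    exact (DerivedCategory.isZero_of_isGE Z a i (by omega)).of_iso
      (asIso ((homologyFunctor C i).map (((tt).truncLTι 0).app Z)))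
  have hLS : ∀ i, Small 0 Q ((homologyFunctor C i).obj L) := fun i m hm g => by
    by_cases hi : i < 0
    · have := isIso_H_ι 0 i hi Z
      let s := (shiftFunctor (DerivedCategory C) m).mapIso ((S0).mapIso
        (asIso ((homologyFunctor C i).map (((tt).truncLTι 0).app Z))))
      exact (cancel_mono s.hom).1 ((hS i m hm (g ≫ s.hom)).trans zero_comp.symm)
    · exact ((shiftFunctor (DerivedCategory C) m).map_isZero ((S0).map_isZero (hLz i (by omega)))).eq_of_tgt _ _
  refine bijective_comp_mor₂ _ ((tt).triangleLTGE_distinguished 0 Z) (fun g => ?_) (fun g => ?_)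
  · let e := (shiftFunctorZero (DerivedCategory C) ℤ).app ((S0).obj Q)
    have h := hom_window_eq_zero L (min a 0) 0 hLS (fun i h1 h2 => hLz i (by omega)) (e.hom ≫ g)
    rwa [← cancel_epi e.hom, comp_zero]
  · let e := (shiftEquiv (DerivedCategory C) (-1 : ℤ)).symm.toAdjunction
    refine (shiftFunctor (DerivedCategory C) (-1 : ℤ)).map_injective ?_
    rw [Functor.map_zero]
    let u := (shiftEquiv (DerivedCategory C) (1 : ℤ)).unitIso.symm.app L
    have h := hom_window_eq_zero L (min a 0) (-1) hLS (fun i h1 h2 => hLz i (by omega)) (g⟦(-1 : ℤ)⟧' ≫ u.hom)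
    rw [← cancel_mono u.hom, zero_comp]
    exact h

/-- an acyclic test object sees only `H⁰` of a derived limit of truncations -/
theorem bijective_cls {X : DerivedCategory C} [HasProduct fun n : ℕ => ((tt).truncGE (-(n : ℤ))).obj X]
    (hR : CohCx.IsRlimVia _ (tr X) X (fun n => ((tt).truncGEπ (-(n : ℤ))).app X))
    (Q : C) (hS : ∀ i, Small 0 Q ((homologyFunctor C i).obj X)) :
    Function.Bijective (LocalDetect.cls : ((S0).obj Q ⟶ X) → _) := by
  let e := (shiftFunctorZero (DerivedCategory C) ℤ).app ((S0).obj Q)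
  have hb := bijective_rlim hR ((S0).obj Q) 2 (fun n hn => by
      have h := bijective_tr X hS 0 n (by omega)
      refine ⟨fun a b hab => (cancel_epi e.hom).1 (h.injective ?_), fun b => ?_⟩
      · simpa only [Category.assoc] using congrArg (e.hom ≫ ·) hab
      · obtain ⟨c, hc⟩ := h.surjective (e.hom ≫ b)
        exact ⟨e.inv ≫ c, by simp only [Category.assoc] at hc ⊢; rw [hc, Iso.inv_hom_id_assoc]⟩)
    (fun n hn => (bijective_tr X hS 1 n (by omega)).surjective)
  let c : ℤ := -((2 : ℕ) : ℤ)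
  have := isIso_H_π c 0 (by simp only [c]; omega) X
  have : DerivedCategory.IsGE (((tt).truncGE c).obj X) c := by
    rw [DerivedCategory.isGE_iff]
    exact fun i hi => isZero_H_GE c i hi X
  refine (bijective_cls_of_comp (((tt).truncGEπ c).app X) hb).2 (bijective_cls_of_isGE Q _ c fun i m hm g => ?_)
  by_cases hi : c ≤ i
  · have := isIso_H_π c i hi X
    let s := (shiftFunctor (DerivedCategory C) m).mapIso ((S0).mapIso
      (asIso ((homologyFunctor C i).map (((tt).truncGEπ c).app X))))
    exact (cancel_mono s.inv).1 ((hS i m hm (g ≫ s.inv)).trans zero_comp.symm)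
  · exact ((shiftFunctor (DerivedCategory C) m).map_isZero ((S0).map_isZero
      (isZero_H_GE c i (by omega) X))).eq_of_tgt _ _

end General

end Groth.L23.ClsBij
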