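import Groth.Agent.L23.HomDescent
import Groth.Agent.L23.FppfImmersion
import Groth.Agent.L24.St.DiagSpace

/-!
# Being a colimit of algebraic spaces is fpqc local
-/

universe w v u

open CategoryTheory CategoryTheory.Limits AlgebraicGeometry AlgSp

set_option backward.isDefEq.respectTransparency.types false
set_option linter.style.haveILetI false

namespace Groth.L23.ColimitFpqc

variable {S : Scheme.{u}} {B : AlgSp.Space S}

noncomputable section

/-- The fibre product of two spaces over `B` above a third, as a space over `B`. -/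
def pbObj {V D C : Over B} (m : V ⟶ C) (k : D ⟶ C) : Over B :=
  Over.mk (Y := (⟨pullback m.left.hom k.left.hom,
      Groth.L24.St.isAlgSpace_pullback V.left.property D.left.property C.left.property _ _⟩ : AlgSp.Space S))
    (⟨pullback.fst m.left.hom k.left.hom ≫ V.hom.hom⟩)

def pbFst {V D C : Over B} (m : V ⟶ C) (k : D ⟶ C) : pbObj m k ⟶ V :=
  Over.homMk ⟨pullback.fst m.left.hom k.left.hom⟩ rfl

def pbSnd {V D C : Over B} (m : V ⟶ C) (k : D ⟶ C) : pbObj m k ⟶ D :=
  Over.homMk ⟨pullback.snd m.left.hom k.left.hom⟩ (ObjectProperty.hom_ext _ (by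
    show pullback.snd m.left.hom k.left.hom ≫ D.hom.hom = pullback.fst _ _ ≫ V.hom.hom
    have hm : m.left.hom ≫ C.hom.hom = V.hom.hom := congrArg (fun k => k.hom) (Over.w m)
    have hk : k.left.hom ≫ C.hom.hom = D.hom.hom := congrArg (fun k => k.hom) (Over.w k)
    rw [← hm, ← hk, ← Category.assoc, ← Category.assoc, pullback.condition]))

theorem pb_hom_ext {Z V D C : Over B} {m : V ⟶ C} {k : D ⟶ C} {a b : Z ⟶ pbObj m k}
    (h₁ : a ≫ pbFst m k = b ≫ pbFst m k) (h₂ : a ≫ pbSnd m k = b ≫ pbSnd m k) : a = b :=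
  Over.OverMorphism.ext (ObjectProperty.hom_ext _ (pullback.hom_ext
    (congrArg (fun q => q.left.hom) h₁) (congrArg (fun q => q.left.hom) h₂)))

theorem pb_cond {V D C : Over B} (m : V ⟶ C) (k : D ⟶ C) : pbFst m k ≫ m = pbSnd m k ≫ k :=
  Over.OverMorphism.ext (ObjectProperty.hom_ext _ pullback.condition)

def pbLift {Z V D C : Over B} (m : V ⟶ C) (k : D ⟶ C) (a : Z ⟶ V) (b : Z ⟶ D) (e : a ≫ m = b ≫ k) :
    Z ⟶ pbObj m k :=
  Over.homMk ⟨pullback.lift a.left.hom b.left.hom (congrArg (fun q => q.left.hom) e)⟩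
    (ObjectProperty.hom_ext _ (by
      show pullback.lift a.left.hom b.left.hom _ ≫ pullback.fst _ _ ≫ V.hom.hom = Z.hom.hom
      rw [pullback.lift_fst_assoc]
      exact congrArg (fun q => q.hom) (Over.w a)))

theorem pbLift_fst {Z V D C : Over B} (m : V ⟶ C) (k : D ⟶ C) (a : Z ⟶ V) (b : Z ⟶ D) (e : a ≫ m = b ≫ k) :
    pbLift m k a b e ≫ pbFst m k = a :=
  Over.OverMorphism.ext (ObjectProperty.hom_ext _ (pullback.lift_fst _ _ _))

theorem pbLift_snd {Z V D C : Over B} (m : V ⟶ C) (k : D ⟶ C) (a : Z ⟶ V) (b : Z ⟶ D) (e : a ≫ m = b ≫ k) :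
    pbLift m k a b e ≫ pbSnd m k = b :=
  Over.OverMorphism.ext (ObjectProperty.hom_ext _ (pullback.lift_snd _ _ _))

variable {I : Type v} [Category.{w} I] {D : I ⥤ Over B} (c : Cocone D) {V : Over B} (m : V ⟶ c.pt)

/-- The pulled back diagram. -/
def pbDiag : I ⥤ Over B where
  obj i := pbObj m (c.ι.app i)
  map {i j} φ := pbLift m (c.ι.app j) (pbFst _ _) (pbSnd _ _ ≫ D.map φ) (by
    rw [Category.assoc, c.w φ, pb_cond])
  map_id i := pb_hom_ext (by rw [pbLift_fst, Category.id_comp])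
    (by rw [pbLift_snd, Category.id_comp, CategoryTheory.Functor.map_id, Category.comp_id])
  map_comp φ ψ := pb_hom_ext (by rw [pbLift_fst, Category.assoc, pbLift_fst, pbLift_fst])
    (by rw [pbLift_snd, Category.assoc, pbLift_snd, ← Category.assoc (pbLift _ _ _ _ _), pbLift_snd,
      Category.assoc, Functor.map_comp])

def pbNat : pbDiag c m ⟶ D where
  app i := pbSnd m (c.ι.app i)
  naturality {i j} φ := pbLift_snd m (c.ι.app j) (pbFst m (c.ι.app i)) (pbSnd m (c.ι.app i) ≫ D.map φ)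
    (by rw [Category.assoc, c.w φ, pb_cond])

def pbCocone : pbDiag c m ⟶ (Functor.const I).obj V where
  app i := pbFst m (c.ι.app i)
  naturality {i j} φ := (pbLift_fst m (c.ι.app j) (pbFst m (c.ι.app i)) (pbSnd m (c.ι.app i) ≫ D.map φ)
    (by rw [Category.assoc, c.w φ, pb_cond])).trans (Category.comp_id _).symm

theorem pb_isPullback (i : I) :
    IsPullback ((pbCocone c m).app i).left.hom ((pbNat c m).app i).left.hom m.left.hom (c.ι.app i).left.hom :=
  IsPullback.of_hasPullback m.left.hom (c.ι.app i).left.hom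

theorem nonempty_isColimit {κ : Type u} (Ua : κ → Over B) (ua : ∀ a, Ua a ⟶ c.pt)
    (hcov : AlgSp.IsFpqcCover (fun a => (Ua a).left.obj) (fun a => (ua a).left.hom))
    (h₁ : ∀ a, Nonempty (IsColimit (Cocone.mk (Ua a) (pbCocone c (ua a)))))
    (h₂ : ∀ a b, Nonempty (IsColimit (Cocone.mk (pbObj (ua a) (ua b))
      (pbCocone c (pbFst (ua a) (ua b) ≫ ua a))))) :
    Nonempty (IsColimit c) := by
  have hex : ∀ (s : Cocone D), ∃! f : c.pt ⟶ s.pt, ∀ i, c.ι.app i ≫ f = s.ι.app i := by
    intro s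
    let sa : ∀ a, Cocone (pbDiag c (ua a)) := fun a => Cocone.mk s.pt (pbNat c (ua a) ≫ s.ι)
    let fa : ∀ a, Ua a ⟶ s.pt := fun a => (h₁ a).some.desc (sa a)
    have hfa : ∀ a i, pbFst (ua a) (c.ι.app i) ≫ fa a = pbSnd (ua a) (c.ι.app i) ≫ s.ι.app i :=
      fun a i => (h₁ a).some.fac (sa a) i
    have hov : ∀ a b, pbFst (ua a) (ua b) ≫ fa a = pbSnd (ua a) (ua b) ≫ fa b := fun a b => by
      refine (h₂ a b).some.hom_ext fun i => ?_
      change pbFst (pbFst (ua a) (ua b) ≫ ua a) (c.ι.app i) ≫ pbFst (ua a) (ua b) ≫ fa a =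
        pbFst (pbFst (ua a) (ua b) ≫ ua a) (c.ι.app i) ≫ pbSnd (ua a) (ua b) ≫ fa b
      have e := pb_cond (pbFst (ua a) (ua b) ≫ ua a) (c.ι.app i)
      have ea : (pbFst (pbFst (ua a) (ua b) ≫ ua a) (c.ι.app i) ≫ pbFst (ua a) (ua b)) ≫ ua a =
          pbSnd _ _ ≫ c.ι.app i := by rw [Category.assoc]; exact e
      have eb : (pbFst (pbFst (ua a) (ua b) ≫ ua a) (c.ι.app i) ≫ pbSnd (ua a) (ua b)) ≫ ua b =
          pbSnd _ _ ≫ c.ι.app i := by rw [Category.assoc, ← pb_cond]; exact e
      rw [← Category.assoc, ← Category.assoc, ← pbLift_fst _ _ _ _ ea, ← pbLift_fst _ _ _ _ eb,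
        Category.assoc, Category.assoc, hfa, hfa, ← Category.assoc, ← Category.assoc, pbLift_snd, pbLift_snd]
    obtain ⟨f, hf⟩ := Groth.L23.HomDescent.exists_desc s.pt.left.property hcov (fun a => (fa a).left.hom)
      (fun a b => congrArg (fun q => q.left.hom) (hov a b))
    let f' : c.pt ⟶ s.pt := Over.homMk ⟨f⟩ (ObjectProperty.hom_ext _
      (Groth.L23.HomDescent.hom_ext' B.property hcov fun a => by
        show (ua a).left.hom ≫ f ≫ s.pt.hom.hom = (ua a).left.hom ≫ c.pt.hom.hom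
        rw [← Category.assoc, hf]
        exact (congrArg (fun q => q.hom) (Over.w (fa a))).trans
          (congrArg (fun q => q.hom) (Over.w (ua a))).symm))
    have hf' : ∀ a, ua a ≫ f' = fa a := fun a => Over.OverMorphism.ext (ObjectProperty.hom_ext _ (hf a))
    refine ⟨f', fun i => ?_, fun f'' hf'' => ?_⟩
    · refine Over.OverMorphism.ext (ObjectProperty.hom_ext _ ?_)
      have hc' := Groth.L23.isFpqcCover_of_isPullback c.pt.left.property (D.obj i).left.property
        (Yi := fun a => (Ua a).left.obj) (Yi' := fun a => (pbObj (ua a) (c.ι.app i)).left.obj)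
        (g := fun a => (ua a).left.hom) (a := (c.ι.app i).left.hom)
        (g' := fun a => (pbSnd (ua a) (c.ι.app i)).left.hom) (fun a => (Ua a).left.property)
        (fun a => (pb_isPullback c (ua a) i).flip) hcov
      refine Groth.L23.HomDescent.hom_ext' s.pt.left.property hc' fun a => ?_
      have : pbSnd (ua a) (c.ι.app i) ≫ c.ι.app i ≫ f' = pbSnd (ua a) (c.ι.app i) ≫ s.ι.app i := by
        rw [← Category.assoc, ← pb_cond, Category.assoc, hf', hfa]
      exact congrArg (fun q => q.left.hom) this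
    · refine Over.OverMorphism.ext (ObjectProperty.hom_ext _
        (Groth.L23.HomDescent.hom_ext' s.pt.left.property hcov fun a => ?_))
      have : ua a ≫ f'' = ua a ≫ f' := by
        rw [hf']
        refine (h₁ a).some.hom_ext fun i => ?_
        change pbFst (ua a) (c.ι.app i) ≫ ua a ≫ f'' = pbFst (ua a) (c.ι.app i) ≫ fa a
        rw [hfa, ← Category.assoc, pb_cond, Category.assoc, hf'']
      exact congrArg (fun q => q.left.hom) this
  choose f hf hfu using hex
  exact ⟨{ desc := f, fac := hf, uniq := hfu }⟩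

end

end Groth.L23.ColimitFpqc
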