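import Groth.Agent.L23.QsTop2
import Groth.Agent.L23.OpenSub
import Groth.Agent.S10350
import Groth.Agent.L06.Spectral
import Groth.Agent.L06.Sierpinski
import Groth.Agent.L19.Limit.CC

/-!
# Constructible subsets of quasi-separated algebraic spaces
-/

universe u

open CategoryTheory CategoryTheory.Limits AlgebraicGeometry AlgSp Topology TopologicalSpace

set_option backward.isDefEq.respectTransparency.types false
set_option linter.style.haveILetI false

namespace Groth.L23.ConsLocal

variable {S : Scheme.{u}} [QuasiSeparatedSpace ↥S]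

/-- An affine atlas of a quasi-separated space is a spectral map. -/
theorem isSpectralMap_atlas {Z : Sp S} (hZ : IsAlgSpace Z) (hd : IsQuasiSeparatedSp Z) {U : Over S}
    [IsAffine U.left] {b : (yon S).obj U ⟶ Z} (hb : RepWith @Etale b) (hbs : RepWith @Surjective b) :
    IsSpectralMap (Points.ofPt b) := by
  refine ⟨Points.continuous_ofPt b, fun K hK hKc => ?_⟩
  obtain ⟨R, p, q, sq⟩ := exists_isPullback_of_representable (hZ.representable_from_yon b) b
  have : CompactSpace R.left := compactSpace_of_qs hd sq
  have : QuasiCompact p.left := (HasAffineProperty.iff_of_isAffine (P := @QuasiCompact)).2 inferInstance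
  obtain ⟨L, hL, hLe⟩ := (isOpenMap_ofPt hb).exists_opens_image_eq_of_prespectralSpace
    (Points.continuous_ofPt b) (U := K) (fun x _ => surjective_ofPt hbs x) hK hKc
  have hc : IsCompact (q.left '' (p.left ⁻¹' (L : Set U.left))) :=
    (p.left.isCompact_preimage (U := L) hL).image q.left.continuous
  convert hc using 1
  ext w
  constructor
  · intro hw
    obtain ⟨l, hl, hlw⟩ := hLe.ge hw
    obtain ⟨r, hr, hr'⟩ := (ofPt_eq_ofPt_iff sq l w).1 hlw
    exact ⟨r, show p.left r ∈ L by rw [hr]; exact hl, hr'⟩
  · rintro ⟨r, hr, rfl⟩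
    rw [Set.mem_preimage, ← ((ofPt_eq_ofPt_iff sq (p.left r) (q.left r)).2 ⟨r, rfl, rfl⟩)]
    exact hLe.le ⟨_, hr, rfl⟩

/-- The image of an affine etale chart: a spectral open subspace onto which the chart is spectral. -/
theorem spectral_range (X : AlgSp.Space S) (hX : IsQuasiSeparatedSp X.obj) {U : Over S} [IsAffine U.left]
    {a : (yon S).obj U ⟶ X.obj} (ha : RepWith @Etale a) :
    SpectralSpace (Set.range (Points.ofPt a)) ∧ IsSpectralMap (Set.rangeFactorization (Points.ofPt a)) := by
  obtain ⟨Z, j, b, hZ, hj, hb, hbs, hba, hr⟩ := Qs.exists_openSub_chart X.property ha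
  have := mono_of_repWith_openImmersion hj
  have hqs : IsQuasiSeparatedSp Z := Qs.isQuasiSeparatedSp_of_mono hX j
  have hdec : IsDecent Z := Groth.Agent.S10350.result ⟨Z, hZ⟩ hqs
  have hqc : IsQuasiCompactSp Z :=
    ⟨U, b, hb, hbs, inferInstanceAs (CompactSpace U.left)⟩
  haveI := Qs.spectralSpace_points hZ hqc hqs hdec
  let e : Points Z ≃ₜ Set.range (Points.ofPt a) :=
    ((isEmbedding_map_of_immersion X.property
      (repWith_mono (fun φ (_ : IsOpenImmersion φ) => inferInstanceAs (IsImmersion φ)) hj)).1.toHomeomorph).trans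
      (Homeomorph.setCongr hr)
  haveI := e.compactSpace
  haveI : SpectralSpace (Set.range (Points.ofPt a)) := e.symm.isOpenEmbedding.spectralSpace
  refine ⟨inferInstance, ?_⟩
  have he : Set.rangeFactorization (Points.ofPt a) = e ∘ Points.ofPt b :=
    funext fun u => Subtype.ext (by
      show Points.ofPt a u = Points.map j (Points.ofPt b u)
      rw [Points.map_ofPt, hba])
  rw [he]
  refine ⟨e.continuous.comp (Points.continuous_ofPt b), fun K hK hKc => ?_⟩
  rw [Set.preimage_comp]
  exact (isSpectralMap_atlas hZ hqs hb hbs).2 (hK.preimage e.continuous) (e.isCompact_preimage.2 hKc)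

theorem result (X : AlgSp.Space S) (hX : IsQuasiSeparatedSp X.obj) (E : Set (Points X.obj)) :
    (∀ (U : Over S) (a : (yon S).obj U ⟶ X.obj), RepWith @Etale a →
        IsLocallyConstructible (Points.ofPt a ⁻¹' E)) ↔ IsLocallyConstructible E := by
  constructor
  · intro H x
    obtain ⟨U, a, hU, ha, hx⟩ := exists_affine_etale_nhd X.property x
    haveI := hU
    haveI := Groth.L19.Limit.spectralSpace_of_isAffine U.left
    obtain ⟨hsp, hf⟩ := spectral_range X hX ha
    haveI := hsp
    have hc : IsConstructible (Points.ofPt a ⁻¹' E) := (H U a ha).isConstructible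
    have hd := Groth.L06.Spectral.isClopen_cons_of_isConstructible hc
    refine ⟨_, (isOpenMap_ofPt ha).isOpen_range.mem_nhds hx, (isOpenMap_ofPt ha).isOpen_range,
      Groth.L06.Spectral.isConstructible_of_isClopen_cons ?_⟩
    let O : Set (Points X.obj) := Set.range (Points.ofPt a)
    let f : U.left → O := Set.rangeFactorization (Points.ofPt a)
    have hsurj : Function.Surjective f := Set.rangeFactorization_surjective
    have hpre : f ⁻¹' ((↑) ⁻¹' E : Set O) = Points.ofPt a ⁻¹' E := rfl
    have key : ∀ T : Set O, IsClosed[constructibleTopology U.left] (f ⁻¹' T) →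
        IsClosed[constructibleTopology O] T := fun T hT => by
      rw [← Set.image_preimage_eq T hsurj]
      exact Groth.L06.Spectral.isClosed_cons_image hf hT
    refine ⟨key _ (hpre ▸ hd.1), ?_⟩
    rw [← @isClosed_compl_iff _ (constructibleTopology O)]
    refine key _ ?_
    rw [Set.preimage_compl, hpre]
    exact @IsOpen.isClosed_compl _ (constructibleTopology U.left) _ hd.2
  · intro H U a ha u
    obtain ⟨V, hxV, hV, hVE⟩ := H (Points.ofPt a u)
    obtain ⟨B, hB, huB, hBV⟩ := exists_isAffineOpen_mem_and_subset (x := u)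
      (U := ⟨Points.ofPt a ⁻¹' V, hV.preimage (Points.continuous_ofPt a)⟩) ((mem_of_mem_nhds hxV : Points.ofPt a u ∈ V))
    let W : Over S := Over.mk (B.ι ≫ U.hom)
    haveI : IsAffine W.left := hB
    let b : (yon S).obj W ⟶ X.obj := (yon S).map (Over.homMk B.ι rfl : W ⟶ U) ≫ a
    have hb : RepWith @Etale b := repWith_comp (repWith_etale_openMk B) ha
    have hbpt : ∀ w : W.left, Points.ofPt b w = Points.ofPt a w.1 := fun w => ofPt_openMk B a w
    haveI := Groth.L19.Limit.spectralSpace_of_isAffine W.left
    obtain ⟨hsp, hf⟩ := spectral_range X hX hb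
    haveI := hsp
    have hsub : Set.range (Points.ofPt b) ⊆ V := by
      rintro _ ⟨w, rfl⟩
      rw [hbpt]
      exact hBV w.2
    have hincl : IsOpenEmbedding (Set.inclusion hsub) :=
      .inclusion hsub ((isOpenMap_ofPt hb).isOpen_range.preimage continuous_subtype_val)
    have hc := Groth.L06.Spectral.isClopen_cons_of_isConstructible (hVE.preimage_of_isOpenEmbedding hincl)
    have hpre := Groth.L06.Spectral.isConstructible_of_isClopen_cons
      (@IsClopen.preimage _ _ (constructibleTopology W.left) (constructibleTopology _) _ hc _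
        (Groth.L06.Spectral.continuous_cons hf))
    refine ⟨(B : Set U.left), B.2.mem_nhds huB, B.2, ?_⟩
    show IsConstructible (X := W.left) ((fun w => w.1 : W.left → U.left) ⁻¹' (Points.ofPt a ⁻¹' E))
    refine Eq.mp (congrArg _ ?_) hpre
    exact Set.ext fun (w : W.left) => iff_of_eq (congrArg (fun x => x ∈ E) (hbpt w))

end Groth.L23.ConsLocal
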