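import Groth.Agent.L23.FpqcAffine
import Groth.Agent.L23.AlgSpace
import Groth.Agent.L23.Glue
import Mathlib.CategoryTheory.Extensive
import Mathlib.CategoryTheory.Sites.LeftExact

/-!
# Coproducts of fppf sheaves
-/

universe u

open CategoryTheory CategoryTheory.Limits AlgebraicGeometry AlgSp Opposite Topology

set_option backward.isDefEq.respectTransparency.types false
set_option linter.style.haveILetI false

namespace Groth.L23.Coprod

variable {S : Scheme.{u}}

/-- The empty scheme gives the initial sheaf. -/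
theorem nonempty_isInitial_yon (E : Over S) [IsEmpty E.left] : Nonempty (IsInitial ((yon S).obj E)) := by
  have h : ∀ H : Sp S, ∃ m : (yon S).obj E ⟶ H, ∀ m', m' = m := fun H => by
    let g : ∀ e : PEmpty.{u+1}, (PEmpty.elim e : Over S) ⟶ E := fun e => e.elim
    have : ∀ e, IsOpenImmersion (g e).left := fun e => e.elim
    obtain ⟨l, -, -⟩ := existsUnique_glue g (fun t => isEmptyElim t) (F := H) (fun e => e.elim)
      fun W i => i.elim
    exact ⟨l, fun m' => hom_ext_of_isEmpty _ _⟩
  choose m hm using h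
  exact ⟨IsInitial.ofUniqueHom m hm⟩

variable {F G : Sp S}

/-- Pullback of the left summand to a scheme. -/
theorem exists_clopen_pullback (c : BinaryCofan F G) (hc : IsColimit c) {T : Over S} (g : (yon S).obj T ⟶ c.pt) :
    ∃ (T₁ : Over S) (t₁ : T₁ ⟶ T) (fst : (yon S).obj T₁ ⟶ F),
      IsPullback fst ((yon S).map t₁) c.inl g ∧ (IsOpenImmersion t₁.left ∧ IsClosedImmersion t₁.left) := by
  let K : Over S := Over.mk (𝟙 S)
  let D : Over S := Over.mk (coprod.desc (𝟙 S) (𝟙 S))
  let eL : K ⟶ D := Over.homMk coprod.inl (coprod.inl_desc _ _)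
  let eR : K ⟶ D := Over.homMk coprod.inr (coprod.inr_desc _ _)
  let τ : T ⟶ K := Over.homMk T.hom (Category.comp_id _)
  have sp := IsPullback.of_hasPullback c.inl g
  have sq := IsPullback.of_hasPullback c.inr g
  have hvk := FinitaryExtensive.vanKampen c hc
  obtain ⟨hcol⟩ := ((BinaryCofan.isVanKampen_iff c).1 hvk (BinaryCofan.mk (pullback.snd c.inl g) (pullback.snd c.inr g))
    (pullback.fst c.inl g) (pullback.fst c.inr g) g sp.w sq.w).2 ⟨sp.flip, sq.flip⟩
  obtain ⟨χ, hχL, hχR⟩ := BinaryCofan.IsColimit.desc' hcol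
    (pullback.snd c.inl g ≫ (yon S).map (τ ≫ eL)) (pullback.snd c.inr g ≫ (yon S).map (τ ≫ eR))
  obtain ⟨χ, rfl⟩ := (yon S).map_surjective χ
  let T₁ : Over S := pullback χ eL
  let t₁ : T₁ ⟶ T := pullback.fst χ eL
  have s₁ : IsPullback ((yon S).map t₁) ((yon S).map (pullback.snd χ eL)) ((yon S).map χ) ((yon S).map eL) :=
    (IsPullback.of_hasPullback χ eL).map (yon S)
  have hcl : IsClosedImmersion (coprod.inl : S ⟶ S ⨿ S) := IsClosedImmersion.of_isPreimmersion _ (by
    rw [← (isCompl_range_inl_inr S S).symm.compl_eq]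
    exact (coprod.inr : S ⟶ S ⨿ S).isOpenEmbedding.isOpen_range.isClosed_compl)
  have ho : IsOpenImmersion (coprod.inl : S ⟶ S ⨿ S) := inferInstance
  have sT := (IsPullback.of_hasPullback χ eL).map (Over.forget S)
  have ho₁ : IsOpenImmersion t₁.left := MorphismProperty.of_isPullback sT.flip ho
  have hc₁ : IsClosedImmersion t₁.left := MorphismProperty.of_isPullback sT.flip hcl
  have : Mono ((yon S).map t₁) := by
    have : Mono ((Over.forget S).map t₁) := inferInstanceAs (Mono t₁.left)
    have : Mono t₁ := (Over.forget S).mono_of_mono_map this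
    exact (yon S).map_mono t₁
  obtain ⟨l, hl, -⟩ := s₁.exists_lift (pullback.snd c.inl g) (pullback.snd c.inl g ≫ (yon S).map τ) (by
    rw [Category.assoc, ← Functor.map_comp]
    exact hχL)
  -- the right summand misses the piece
  let E : Over S := pullback eR eL
  have : IsEmpty E.left := ⟨fun e => by
    have h := congrArg (fun φ : E ⟶ D => φ.left e) (pullback.condition (f := eR) (g := eL))
    simp only [Over.comp_left, Scheme.Hom.comp_apply] at h
    exact Set.disjoint_iff_forall_ne.mp (isCompl_range_inl_inr S S).disjoint ⟨_, rfl⟩ ⟨_, rfl⟩ h.symm⟩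
  obtain ⟨hE⟩ := nonempty_isInitial_yon E
  let j' := pullback.snd (pullback.snd c.inr g) ((yon S).map t₁)
  have sE : IsPullback ((yon S).map (pullback.fst eR eL)) ((yon S).map (pullback.snd eR eL)) ((yon S).map eR)
      ((yon S).map eL) := (IsPullback.of_hasPullback eR eL).map (yon S)
  obtain ⟨r, -, -⟩ := sE.exists_lift
    (pullback.fst (pullback.snd c.inr g) ((yon S).map t₁) ≫ pullback.snd c.inr g ≫ (yon S).map τ)
    (j' ≫ (yon S).map (pullback.snd χ eL)) (by
      simp only [j', Category.assoc, ← Functor.map_comp]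
      rw [← hχR]
      simp only [BinaryCofan.mk_inr, pullback.condition_assoc, ← Functor.map_comp, t₁]
      rw [← pullback.condition, Functor.map_comp]
      have h := congrArg (· ≫ (yon S).map χ)
        (pullback.condition (f := pullback.snd c.inr g) (g := (yon S).map (pullback.fst χ eL)))
      simp only [Category.assoc] at h
      exact h)
  have : IsIso r := IsInitial.isIso_to hE r
  have hQ : IsInitial (pullback (pullback.snd c.inr g) ((yon S).map t₁)) := hE.ofIso (asIso r).symm
  have sp' : IsPullback (pullback.fst c.inl g) l c.inl ((yon S).map t₁ ≫ g) := by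
    have h0 : IsPullback (𝟙 _) l (pullback.snd c.inl g) ((yon S).map t₁) := by
      refine IsPullback.mk' (by rw [Category.id_comp, hl]) (fun Z φ φ' h₁ _ => by simpa using h₁)
        fun Z x y e => ⟨x, Category.comp_id _, ?_⟩
      rw [← cancel_mono ((yon S).map t₁), Category.assoc, hl, e]
    simpa using h0.paste_horiz sp
  have sq' := (IsPullback.of_hasPullback (pullback.snd c.inr g) ((yon S).map t₁)).paste_horiz sq
  have hcol' := ((BinaryCofan.isVanKampen_iff c).1 hvk (BinaryCofan.mk l j') (pullback.fst c.inl g)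
    (pullback.fst (pullback.snd c.inr g) ((yon S).map t₁) ≫ pullback.fst c.inr g)
    ((yon S).map t₁ ≫ g) sp'.w sq'.w).2 ⟨sp'.flip, sq'.flip⟩
  have : IsIso l := (BinaryCofan.isColimit_iff_isIso_inl hQ _).1 hcol'
  refine ⟨T₁, t₁, inv l ≫ pullback.fst c.inl g, ?_, ho₁, hc₁⟩
  exact sp.of_iso (asIso l) (Iso.refl _) (Iso.refl _) (Iso.refl _) (by simp) (by simpa [t₁] using hl.symm) (by simp) (by simp)

/-- Coprojections are representable open and closed immersions. -/
theorem repWith_inl (c : BinaryCofan F G) (hc : IsColimit c) :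
    RepWith (@IsOpenImmersion ⊓ @IsClosedImmersion) c.inl :=
  repWith_of_exists fun _ g => by
    obtain ⟨T₁, t₁, fst, sq, h⟩ := exists_clopen_pullback c hc g
    exact ⟨T₁, fst, t₁, sq, h⟩

/-- A summand of a family coproduct as a binary summand. -/
theorem exists_binary {ι : Type u} {F : ι → Sp S} {c : Cofan F} (hc : IsColimit c) (i : ι) :
    ∃ (G : Sp S) (b : BinaryCofan (F i) G) (_ : IsColimit b) (e : b.pt ≅ c.pt), b.inl ≫ e.hom = c.inj i ∧
      ∀ j ≠ i, ∃ m : F j ⟶ G, m ≫ b.inr ≫ e.hom = c.inj j := by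
  classical
  let G : Sp S := ∐ fun j : {j // j ≠ i} => F j.1
  let b : BinaryCofan (F i) G := BinaryCofan.mk (c.inj i) (Sigma.desc fun j : {j // j ≠ i} => c.inj j.1)
  let d : ∀ {T : Sp S}, (F i ⟶ T) → (G ⟶ T) → ∀ j, F j ⟶ T := fun {T} f g j =>
    if h : j = i then eqToHom (by rw [h]) ≫ f else Sigma.ι (fun j : {j // j ≠ i} => F j.1) ⟨j, h⟩ ≫ g
  refine ⟨G, b, BinaryCofan.IsColimit.mk b (fun f g => Cofan.IsColimit.desc hc (d f g)) ?_ ?_ ?_,
    Iso.refl _, Category.comp_id _, fun j hj => ⟨Sigma.ι (fun j : {j // j ≠ i} => F j.1) ⟨j, hj⟩,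
      (congrArg _ (Category.comp_id _)).trans (Sigma.ι_desc _ _)⟩⟩
  · intro T f g
    show c.inj i ≫ Cofan.IsColimit.desc hc (d f g) = f
    rw [Cofan.IsColimit.fac]
    simp [d]
  · intro T f g
    refine Sigma.hom_ext _ _ fun j => ?_
    show Sigma.ι (fun j : {j // j ≠ i} => F j.1) j ≫ Sigma.desc (fun j : {j // j ≠ i} => c.inj j.1) ≫
      Cofan.IsColimit.desc hc (d f g) = _
    rw [Sigma.ι_desc_assoc, Cofan.IsColimit.fac]
    simp [d, j.2]
  · intro T f g m hf hg
    refine Cofan.IsColimit.hom_ext hc _ _ fun j => ?_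
    rw [Cofan.IsColimit.fac]
    by_cases h : j = i
    · subst h
      simp only [d, dite_true, eqToHom_refl, Category.id_comp]
      exact hf
    · have hg' := congrArg (fun φ => Sigma.ι (fun j : {j // j ≠ i} => F j.1) ⟨j, h⟩ ≫ φ) hg
      simp only [d, h, dite_false]
      exact (Sigma.ι_desc_assoc (fun j : {j // j ≠ i} => c.inj j.1) ⟨j, h⟩ m).symm.trans hg'

/-- Coprojections of family coproducts. -/
theorem repWith_inj {ι : Type u} {F : ι → Sp S} {c : Cofan F} (hc : IsColimit c) (i : ι) :
    RepWith (@IsOpenImmersion ⊓ @IsClosedImmersion) (c.inj i) := by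
  obtain ⟨G, b, hb, e, he, -⟩ := exists_binary hc i
  rw [← he]
  exact repWith_comp (repWith_inl b hb) (repWith_of_isIso e.hom)

end Groth.L23.Coprod
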