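import Groth.Agent.L23.Coprod
import Groth.Agent.L23.OpenSub
import Groth.Agent.L23.Points

/-!
# Points of coproducts of fppf sheaves
-/

universe u

open CategoryTheory CategoryTheory.Limits AlgebraicGeometry AlgSp Opposite Topology

set_option backward.isDefEq.respectTransparency.types false
set_option linter.style.haveILetI false

namespace Groth.L23.Coprod

variable {S : Scheme.{u}} {ι : Type u} {F : ι → Sp S} {c : Cofan F}

theorem repWith_inj_open (hc : IsColimit c) (i : ι) : RepWith @IsOpenImmersion (c.inj i) :=
  repWith_mono (fun _ h => h.1) (repWith_inj hc i)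

/-- Every point comes from a summand. -/
theorem exists_mem (hc : IsColimit c) (x : Points c.pt) : ∃ i y, Points.map (c.inj i) y = x := by
  let O : TopologicalSpace.Opens (Points c.pt) :=
    ⟨⋃ i, Set.range (Points.map (c.inj i)), isOpen_iUnion fun i =>
      (isOpenMap_map_of_universallyOpen (repWith_mono (P := (@IsOpenImmersion : MorphismProperty Scheme.{u})) (fun φ hφ => have : IsOpenImmersion φ := hφ; (inferInstance : UniversallyOpen φ))
        (repWith_inj_open hc i))).isOpen_range⟩
  have hr := range_openSubι O
  have hj := repWith_openSubι O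
  choose g hg using fun i => (exists_factor_iff hj (c.inj i)).2 (by
    rw [hr]
    exact fun y hy => Set.mem_iUnion.2 ⟨i, hy⟩)
  have hs : Cofan.IsColimit.desc hc g ≫ openSubι O = 𝟙 c.pt := Cofan.IsColimit.hom_ext hc _ _ fun i => by
    rw [Cofan.IsColimit.fac_assoc, hg, Category.comp_id]
  have hx : x ∈ Set.range (Points.map (openSubι O)) :=
    ⟨Points.map (Cofan.IsColimit.desc hc g) x, by rw [← Points.map_comp, hs, Points.map_id]⟩
  rw [hr] at hx
  obtain ⟨i, y, hy⟩ := Set.mem_iUnion.1 hx
  exact ⟨i, y, hy⟩

/-- Summands are disjoint on points. -/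
theorem eq_of_map_eq (hc : IsColimit c) {i j : ι} {y : Points (F i)} {z : Points (F j)}
    (h : Points.map (c.inj i) y = Points.map (c.inj j) z) : i = j := by
  by_contra hne
  obtain ⟨G, b, hb, e, he, hm⟩ := exists_binary hc i
  obtain ⟨h₁, hh₁⟩ := hm j (Ne.symm hne)
  have hw : Points.map b.inl y = Points.map b.inr (Points.map h₁ z) := by
    have : Function.Injective (Points.map e.hom) := Function.LeftInverse.injective (g := Points.map e.inv) fun w => by
      rw [← Points.map_comp, e.hom_inv_id, Points.map_id]
    apply this
    rw [← Points.map_comp, ← Points.map_comp, ← Points.map_comp, he]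
    exact h.trans (congrArg (fun m => Points.map m z) hh₁.symm)
  obtain ⟨w, -, -⟩ := exists_of_isPullback (FinitaryExtensive.isPullback_initial_to_binaryCofan hb) _ _ hw
  obtain ⟨T, g, t, -⟩ := exists_eq_ofPt w
  let E : Over S := Over.mk (Scheme.emptyTo S)
  have : IsEmpty E.left := inferInstanceAs (IsEmpty (∅ : Scheme))
  obtain ⟨m, -⟩ := (yon S).map_surjective (g ≫ initial.to ((yon S).obj E))
  exact isEmptyElim (α := E.left) (m.left t)

end Groth.L23.Coprod
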