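import Groth.Agent.L09.ModEt.Colim
import Groth.Agent.L23.ModEtGroth
import Groth.Agent.L10.HomotopyProd
import Groth.Prelude.Def_AlgSpD
import Mathlib.CategoryTheory.Abelian.GrothendieckAxioms.Basic
import Mathlib.Algebra.Homology.ShortComplex.PreservesHomology
import Mathlib.Algebra.Homology.HomologicalComplexLimits

/-!
# Quasi-coherent cohomology and direct sums
-/

universe u

open CategoryTheory CategoryTheory.Limits AlgebraicGeometry Opposite AlgSp

set_option autoImplicit false
set_option linter.style.haveILetI false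
set_option backward.isDefEq.respectTransparency false
set_option backward.isDefEq.respectTransparency.types false

noncomputable section

attribute [local instance] HasDerivedCategory.standard

namespace Groth.L23.Coprod

section Gen

universe t v w

variable {A : Type w} [Category.{v} A] [Abelian A] {ι : Type t} [HasColimitsOfShape (Discrete ι) A]
  [HasExactColimitsOfShape (Discrete ι) A]

/-- Homology of a direct sum of complexes, as a colimit of homologies. -/
theorem exists_homology_iso (K : ι → CochainComplex A ℤ) (n : ℤ) :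
    ∃ D : Discrete ι ⥤ A, (∀ i : ι, Nonempty (D.obj ⟨i⟩ ≅ (K i).homology n)) ∧
      Nonempty (colimit D ≅ (∐ K).homology n) := by
  haveI : PreservesFiniteLimits (colim (J := Discrete ι) (C := A)) := HasExactColimitsOfShape.preservesFiniteLimits
  haveI : (colim (J := Discrete ι) (C := A)).Additive :=
    haveI : (Functor.const (Discrete ι) : A ⥤ Discrete ι ⥤ A).Additive := { }
    haveI := (colimConstAdj (J := Discrete ι) (C := A)).left_adjoint_additive
    inferInstance
  haveI : (colim (J := Discrete ι) (C := A)).PreservesHomology := inferInstance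
  let F : ℤ → (Discrete ι ⥤ A) := fun m => Discrete.functor fun i => (K i).X m
  let m₀ := (ComplexShape.up ℤ).prev n
  let m₂ := (ComplexShape.up ℤ).next n
  let T : ShortComplex (Discrete ι ⥤ A) := ShortComplex.mk
    (Discrete.natTrans fun i => (K i.as).d m₀ n : F m₀ ⟶ F n)
    (Discrete.natTrans fun i => (K i.as).d n m₂ : F n ⟶ F m₂)
    (by ext ⟨i⟩; exact (K i).d_comp_d _ _ _)
  refine ⟨T.homology, fun i => ⟨(T.mapHomologyIso ((evaluation (Discrete ι) A).obj ⟨i⟩)).symm⟩, ?_⟩
  let c : ∀ m : ℤ, Cocone (F m) := fun m =>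
    Cofan.mk ((∐ K).X m) fun i => (Sigma.ι K i).f m
  have hc : ∀ m, IsColimit (c m) := fun m =>
    isColimitOfHasCoproductOfPreservesColimit (HomologicalComplex.eval A (ComplexShape.up ℤ) m) K
  let e : ∀ m, colimit (F m) ≅ (∐ K).X m := fun m =>
    (colimit.isColimit (F m)).coconePointUniqueUpToIso (hc m)
  have he : ∀ m i, colimit.ι (F m) ⟨i⟩ ≫ (e m).hom = (Sigma.ι K i).f m := fun m i =>
    IsColimit.comp_coconePointUniqueUpToIso_hom (colimit.isColimit (F m)) (hc m) ⟨i⟩
  refine ⟨(T.mapHomologyIso colim).symm ≪≫ ShortComplex.homologyMapIso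
    (ShortComplex.isoMk (S₂ := (∐ K).sc n) (e m₀) (e n) (e m₂) ?_ ?_)⟩
  all_goals
    refine colimit.hom_ext fun ⟨i⟩ => ?_
    simp only [T, ShortComplex.map_f, ShortComplex.map_g, HomologicalComplex.shortComplexFunctor_obj_f,
      HomologicalComplex.shortComplexFunctor_obj_g, ι_colimMap_assoc, colim_map, Discrete.natTrans_app,
      he, reassoc_of% he]
    exact (Sigma.ι K i).comm _ _

end Gen

variable {S : Scheme.{u}} {X : Sp S}

/-- Direct sums keep quasi-coherent cohomology sheaves. -/
theorem isQCohDMod_sigmaObj {ι : Type (u + 1)} (E : ι → DModEt X) [HasCoproduct E]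
    (hE : ∀ i, DCoh.IsQCohDMod (OEtRing X) (E i)) : DCoh.IsQCohDMod (OEtRing X) (∐ E) := by
  haveI : IsGrothendieckAbelian.{u + 1} (ModEt X) := Groth.L23.ModEtGroth.isGrothendieckAbelian
  haveI : HasFiniteBiproducts (ModEt X) := HasFiniteBiproducts.of_hasFiniteProducts
  haveI : AB4OfSize.{u + 1} (ModEt X) := AB4.of_AB5 (ModEt X)
  let qK := HomotopyCategory.quotient (ModEt X) (ComplexShape.up ℤ)
  let K : ι → CochainComplex (ModEt X) ℤ := fun i => (DerivedCategory.Qh.objPreimage (E i)).as
  let e : ∀ i, DerivedCategory.Qh.obj (qK.obj (K i)) ≅ E i := fun i => DerivedCategory.Qh.objObjPreimageIso (E i)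
  have hb := fun Y => Groth.L10.DerivedProd.hom_from_coproduct_bijective K Y
  let c : Cofan E := Cofan.mk (DerivedCategory.Qh.obj (qK.obj (∐ K)))
    fun i => (e i).inv ≫ DerivedCategory.Qh.map (qK.map (Sigma.ι K i))
  have hc : IsColimit c := Cofan.IsColimit.mk _
    (fun t => ((hb t.pt).surjective fun i => (e i).hom ≫ t.inj i).choose)
    (fun t i => by
      have := congrFun ((hb t.pt).surjective fun i => (e i).hom ≫ t.inj i).choose_spec i
      simp only [c, cofan_mk_inj, Category.assoc]
      exact (congrArg ((e i).inv ≫ ·) this).trans ((e i).inv_hom_id_assoc _))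
    (fun t m hm => (hb t.pt).injective (funext fun i => by
      refine Eq.trans ?_ (congrFun ((hb t.pt).surjective fun i => (e i).hom ≫ t.inj i).choose_spec i).symm
      rw [← hm i]
      simp [c, qK]))
  let eS : (∐ E) ≅ DerivedCategory.Qh.obj (qK.obj (∐ K)) := (colimit.isColimit _).coconePointUniqueUpToIso hc
  intro n
  let H := DerivedCategory.homologyFunctor (ModEt X) n
  have hH : ∀ L : CochainComplex (ModEt X) ℤ, Nonempty (H.obj (DerivedCategory.Qh.obj (qK.obj L)) ≅ L.homology n) :=
    fun L => ⟨(DerivedCategory.homologyFunctorFactorsh (ModEt X) n).app (qK.obj L) ≪≫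
      (HomotopyCategory.homologyFunctorFactors (ModEt X) (ComplexShape.up ℤ) n).app L⟩
  obtain ⟨D, hD, ⟨eD⟩⟩ := exists_homology_iso K n
  obtain ⟨eK⟩ := hH (∐ K)
  refine ObjectProperty.prop_of_iso (SheafOfModules.isQuasicoherent (OEtRing X))
    (eD ≪≫ eK.symm ≪≫ H.mapIso eS.symm) (Groth.L09.ModEt.isQuasicoherent_colimit D ?_)
  rintro ⟨i⟩
  obtain ⟨a⟩ := hD i
  obtain ⟨b⟩ := hH (K i)
  exact ObjectProperty.prop_of_iso (SheafOfModules.isQuasicoherent (OEtRing X))
    (H.mapIso (e i).symm ≪≫ b ≪≫ a.symm) (hE i n)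

end Groth.L23.Coprod
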