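import Groth.Agent.L23.GlobFlat
import Groth.Agent.L23.QcCalc
import Groth.Agent.L23.MonoIso
import Groth.Agent.L09.ModEt.PushQcoh

/-!
# Functions on the base change of an affine atlas to an affine scheme

Without first cohomology and with generation by global sections, the functions on `D ×_X U`, for `q : h_D ⟶ X`
with `D` affine and `U` an affine atlas, are spanned by products of functions on `D` and on `U`, and all relations
between them come from the global functions of `X`.
-/

universe u

open CategoryTheory CategoryTheory.Limits AlgebraicGeometry Opposite AlgSp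

set_option autoImplicit false
set_option linter.style.haveILetI false
set_option backward.isDefEq.respectTransparency false
set_option backward.isDefEq.respectTransparency.types false

noncomputable section

namespace Groth.L23.GlobSec

open Groth.L09.ModEt

variable {S : Scheme.{u}}

section BC

variable [QuasiSeparatedSpace S] {X : Sp S} (hqs : IsQuasiSeparatedSp X) {D U P : Over S}
  [IsAffine D.left] [IsAffine U.left] {q : (yon S).obj D ⟶ X} {p : (yon S).obj U ⟶ X}
  {pD : P ⟶ D} {pU : P ⟶ U} (sq : IsPullback ((yon S).map pD) ((yon S).map pU) q p)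

include hqs sq in
theorem compactSpace_bc : CompactSpace P.left := compactSpace_of_qs hqs sq

include sq in
theorem mono_prodLift : Mono (prod.lift pD pU) := by
  refine ⟨fun m m' h => (yon S).map_injective (sq.hom_ext ?_ ?_)⟩
  · rw [← Functor.map_comp, ← Functor.map_comp]
    refine congrArg _ ?_
    simpa using h =≫ prod.fst
  · rw [← Functor.map_comp, ← Functor.map_comp]
    refine congrArg _ ?_
    simpa using h =≫ prod.snd

include sq in
theorem quasiSeparatedSpace_bc : QuasiSeparatedSpace P.left := by
  haveI := mono_prodLift sq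
  haveI : Mono (prod.lift pD pU).left := inferInstanceAs (Mono ((Over.forget S).map (prod.lift pD pU)))
  haveI : QuasiSeparated U.hom := inferInstance
  haveI : QuasiSeparatedSpace (Limits.pullback D.hom U.hom : Scheme.{u}) :=
    quasiSeparatedSpace_of_quasiSeparated (pullback.fst D.hom U.hom)
  haveI : QuasiSeparatedSpace (D ⨯ U : Over S).left :=
    quasiSeparatedSpace_of_quasiSeparated (Over.prodLeftIsoPullback D U).hom
  exact quasiSeparatedSpace_of_quasiSeparated (prod.lift pD pU).left

end BC

variable [QuasiSeparatedSpace S] {X : Sp S} (hX : IsAlgSpace X) (hqs : IsQuasiSeparatedSp X) (a : Atlas X)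
  {D : Over S} [hD : IsAffine D.left] (q : (yon S).obj D ⟶ X) (hq : Representable q)

/-- The base change of the atlas. -/
abbrev Pb : EtOver ((yon S).obj D) := EtOver.bcObj hq a.U

/-- The projection to the affine scheme. -/
def pD : (Pb a q hq).obj.left ⟶ D := (yon S).preimage (hq.fst a.U.obj.hom)

/-- The projection to the atlas. -/
def pU : (Pb a q hq).obj.left ⟶ a.U.obj.left := EtOver.bcπ hq a.U

theorem sq_bc : IsPullback ((yon S).map (pD a q hq)) ((yon S).map (pU a q hq)) q a.U.obj.hom := by
  rw [pD, Functor.map_preimage]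
  exact hq.isPullback a.U.obj.hom

theorem etale_pD : Etale (pD a q hq).left := repWith_prop a.U.property (sq_bc a q hq).flip

theorem repWith_surjective_atlas : RepWith @Surjective a.U.obj.hom :=
  repWith_surjective_of_map a.U.property.1 (fun x => by
    obtain ⟨u, hu⟩ := a.surj x
    exact ⟨Points.ofScheme _ u, by rw [← hu, Points.ofPt_eq_map_ofScheme]⟩)

theorem surjective_pD : Surjective (pD a q hq).left :=
  repWith_prop (repWith_surjective_atlas a) (sq_bc a q hq).flip

theorem appTop_injective_pD : Function.Injective (pD a q hq).left.appTop := by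
  haveI := etale_pD a q hq
  haveI := surjective_pD a q hq
  haveI : Flat (pD a q hq).left := inferInstance
  exact appTop_injective_of_flat_surjective _

/-- The direct image of the structure sheaf. -/
abbrev MD : ModEt X := (pushModEt hq).obj (unitModEt ((yon S).obj D))

/-- Sections of the direct image at the atlas as functions. -/
def fn (x : sectModEt (MD q hq) a.U) : Γ((Pb a q hq).obj.left.left, ⊤) := x.down

/-- Functions as sections of the direct image. -/
def sec₀ (x : Γ((Pb a q hq).obj.left.left, ⊤)) : sectModEt (MD q hq) a.U := ULift.up x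

theorem fn_smul (c : Γ₀ a.U) (x : sectModEt (MD q hq) a.U) :
    fn a q hq (c • x) = (pU a q hq).left.appTop c * fn a q hq x := rfl

theorem fn_inj {x y : sectModEt (MD q hq) a.U} (h : fn a q hq x = fn a q hq y) : x = y := ULift.ext _ _ h

/-- Functions on the affine scheme give global sections of the direct image. -/
theorem mem_GS_of (d : Γ(D.left, ⊤)) : sec₀ a q hq ((pD a q hq).left.appTop d) ∈ GS a (MD q hq) := by
  intro W _ g h
  refine ULift.ext _ _ ?_
  show (EtOver.bcMap hq g).hom.left.left.appTop ((pD a q hq).left.appTop d) =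
    (EtOver.bcMap hq h).hom.left.left.appTop ((pD a q hq).left.appTop d)
  have key : ∀ g : W ⟶ a.U, (EtOver.bcMap hq g).hom.left ≫ pD a q hq = (yon S).preimage (hq.fst W.obj.hom) :=
    fun g => (yon S).map_injective (by
      rw [Functor.map_comp, pD, Functor.map_preimage, Functor.map_preimage, EtOver.map_bcMap_fst])
  rw [← CommRingCat.comp_apply, ← CommRingCat.comp_apply, ← Scheme.Hom.comp_appTop, ← Scheme.Hom.comp_appTop,
    ← Over.comp_left, ← Over.comp_left, key g, key h]

include hqs in
/-- Global sections of the direct image are functions on the affine scheme. -/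
theorem exists_of_mem_GS {x : sectModEt (MD q hq) a.U} (hx : x ∈ GS a (MD q hq)) :
    ∃ d : Γ(D.left, ⊤), (pD a q hq).left.appTop d = fn a q hq x := by
  obtain ⟨E, hE, hED⟩ := Groth.L09.EtCoh.exists_terminal (Iso.refl ((yon S).obj D))
  haveI : IsAffine E.obj.left.left := by rw [hED]; exact hD
  let c : ∀ _ : PUnit.{u + 1}, Pb a q hq ⟶ E := fun _ => hE.from _
  have hEhom : ∀ {Z : EtOver ((yon S).obj D)} (k : Z ⟶ E), (yon S).map k.hom.left ≫ E.obj.hom = Z.obj.hom :=
    fun k => EtOver.w k
  have hc : IsCover c := fun e => by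
    haveI := surjective_pD a q hq
    obtain ⟨w, hw⟩ := (pD a q hq).left.surjective (((yon S).preimage E.obj.hom).left e)
    refine ⟨PUnit.unit, w, ?_⟩
    have h1 : (c PUnit.unit).hom.left ≫ (yon S).preimage E.obj.hom = pD a q hq := (yon S).map_injective (by
      rw [Functor.map_comp, Functor.map_preimage, hEhom, pD, Functor.map_preimage]
      rfl)
    have hinj : Function.Injective ((yon S).preimage E.obj.hom).left := by
      obtain ⟨inv, hinv⟩ : ∃ k : EtOver.mk (𝟙 ((yon S).obj D)) (MorphismProperty.id_mem _ _) ⟶ E, True :=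
        ⟨hE.from _, trivial⟩
      have e2 : (yon S).preimage E.obj.hom ≫ inv.hom.left = 𝟙 _ := by
        let m : E ⟶ EtOver.mk (𝟙 ((yon S).obj D)) (MorphismProperty.id_mem _ _) :=
          EtOver.homMk ((yon S).preimage E.obj.hom) (by rw [Functor.map_preimage]; exact Category.comp_id _)
        exact congrArg (fun k => k.hom.left) (hE.hom_ext (m ≫ inv) (𝟙 E))
      intro x y hxy
      have hx := congrArg (fun k => k.left x) e2
      have hy := congrArg (fun k => k.left y) e2
      simp only [Over.comp_left, Scheme.Hom.comp_apply, hxy] at hx hy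
      exact (hx.symm.trans hy : _)
    apply hinj
    rw [← hw, ← h1]
    rfl
  obtain ⟨s, hs⟩ := exists_glue (unitModEt ((yon S).obj D)) hc (fun _ => ULift.up (fn a q hq x)) fun _ _ => by
    let Z := EtOver.pullbackObj (c PUnit.unit) (c PUnit.unit)
    let f₁ : Z ⟶ Pb a q hq := EtOver.pullbackFst _ _
    let f₂ : Z ⟶ Pb a q hq := EtOver.pullbackSnd _ _
    let E₂ := EtOver.prodObj a.U a.U
    let za : ∀ f : Z ⟶ Pb a q hq, (yon S).map (f.hom.left ≫ pU a q hq) ≫ a.U.obj.hom = Z.obj.hom ≫ q := fun f => by
      rw [Functor.map_comp, Category.assoc, ← (sq_bc a q hq).w, ← Category.assoc, pD, Functor.map_preimage]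
      exact congrArg (· ≫ q) (EtOver.w f)
    let l : Z.obj.left ⟶ E₂.obj.left := a.U.property.1.lift' (f₂.hom.left ≫ pU a q hq) (f₁.hom.left ≫ pU a q hq)
      ((za f₂).trans (za f₁).symm)
    have hl₁ : l ≫ (EtOver.prodFst a.U a.U).hom.left = f₁.hom.left ≫ pU a q hq :=
      Functor.relativelyRepresentable.lift'_snd _ _ _ _
    have hl₂ : l ≫ (EtOver.prodSnd a.U a.U).hom.left = f₂.hom.left ≫ pU a q hq :=
      Functor.relativelyRepresentable.lift'_fst _ _ _ _
    have hlw : Z.obj.hom ≫ q = (yon S).map l ≫ E₂.obj.hom := by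
      rw [← EtOver.w (EtOver.prodFst a.U a.U), ← Category.assoc, ← Functor.map_comp, hl₁, za f₁]
    let k : Z ⟶ EtOver.bcObj hq E₂ := EtOver.homMk (hq.lift Z.obj.hom l hlw) (hq.lift_fst _ _ _)
    have hk : ∀ (pr : E₂ ⟶ a.U) (f : Z ⟶ Pb a q hq), l ≫ pr.hom.left = f.hom.left ≫ pU a q hq →
        k ≫ EtOver.bcMap hq pr = f := fun pr f he => EtOver.hom_ext _ _ (hq.hom_ext
      (by
        show (yon S).map (k.hom.left ≫ (EtOver.bcMap hq pr).hom.left) ≫ _ = _
        rw [Functor.map_comp, Category.assoc, EtOver.map_bcMap_fst]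
        exact (EtOver.w k).trans (EtOver.w f).symm)
      (by
        show (k.hom.left ≫ (EtOver.bcMap hq pr).hom.left) ≫ _ = _
        rw [Category.assoc, EtOver.bcMap_snd, ← Category.assoc]
        exact (congrArg (· ≫ pr.hom.left) (hq.lift_snd _ _ _)).trans he))
    have hxeq : res (MD q hq) (EtOver.prodFst a.U a.U) x = res (MD q hq) (EtOver.prodSnd a.U a.U) x :=
      ((IsVal.self hx).res (EtOver.prodFst a.U a.U)).unique ((IsVal.self hx).res (EtOver.prodSnd a.U a.U))
    show res (unitModEt _) f₁ _ = res (unitModEt _) f₂ _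
    rw [← hk (EtOver.prodFst a.U a.U) f₁ hl₁, ← hk (EtOver.prodSnd a.U a.U) f₂ hl₂, res_comp, res_comp]
    exact congrArg (res (unitModEt _) k) hxeq
  let inv : EtOver.mk (𝟙 ((yon S).obj D)) (MorphismProperty.id_mem _ _) ⟶ E := hE.from _
  refine ⟨inv.hom.left.left.appTop (dn₀ s), ?_⟩
  have h1 : pD a q hq ≫ inv.hom.left = (c PUnit.unit).hom.left := by
    let m : Pb a q hq ⟶ EtOver.mk (𝟙 ((yon S).obj D)) (MorphismProperty.id_mem _ _) :=
      EtOver.homMk (pD a q hq) (by rw [pD, Functor.map_preimage]; exact Category.comp_id _)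
    exact congrArg (fun k => k.hom.left) (hE.hom_ext (m ≫ inv) (c PUnit.unit))
  show ((inv.hom.left).left.appTop ≫ (pD a q hq).left.appTop) (dn₀ s) = _
  rw [← Scheme.Hom.comp_appTop, ← Over.comp_left, h1]
  exact congrArg dn₀ (hs PUnit.unit)

variable (h1 : Lifting a) (hgen : Generates a)

include hqs in
theorem isQuasicoherent_MD : (MD q hq).IsQuasicoherent := by
  haveI : (unitModEt ((yon S).obj D)).IsQuasicoherent := Groth.L23.FLF.isQuasicoherent_unit _
  refine isQuasicoherent_of_bc_affine _ fun E₀ E₁ _ _ g₀ => ?_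
  have sq₀ : IsPullback ((yon S).map ((yon S).preimage (hq.fst E₀.obj.hom)))
      ((yon S).map (EtOver.bcπ hq E₀)) q E₀.obj.hom := by
    rw [Functor.map_preimage]
    exact hq.isPullback E₀.obj.hom
  haveI : CompactSpace (EtOver.bcObj hq E₀).obj.left.left := compactSpace_bc hqs sq₀
  haveI : QuasiSeparatedSpace (EtOver.bcObj hq E₀).obj.left.left := quasiSeparatedSpace_bc sq₀
  exact bc_push hq _ g₀

include hqs h1 hgen

set_option maxHeartbeats 1600000 in
/-- Functions on the base change are spanned by products. -/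
theorem mem_span_bc (z : Γ((Pb a q hq).obj.left.left, ⊤)) :
    z ∈ AddSubgroup.closure {w | ∃ (c : Γ₀ a.U) (d : Γ(D.left, ⊤)),
      w = (pU a q hq).left.appTop c * (pD a q hq).left.appTop d} := by
  haveI := isQuasicoherent_MD hqs q hq
  have htop := span_GS_eq_top h1 hgen (MD q hq)
  have hz : sec₀ a q hq z ∈ Submodule.span (Γ₀ a.U) (GS a (MD q hq) : Set (sectModEt (MD q hq) a.U)) :=
    htop ▸ Submodule.mem_top
  suffices ∀ w ∈ Submodule.span (Γ₀ a.U) (GS a (MD q hq) : Set (sectModEt (MD q hq) a.U)), ∀ c : Γ₀ a.U,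
      fn a q hq (c • w) ∈ AddSubgroup.closure {w | ∃ (c : Γ₀ a.U) (d : Γ(D.left, ⊤)),
        w = (pU a q hq).left.appTop c * (pD a q hq).left.appTop d} by
    have := this _ hz 1
    rw [one_smul] at this
    exact this
  intro w hw
  induction hw using Submodule.span_induction with
  | mem x hx =>
    intro c
    obtain ⟨d, hd⟩ := exists_of_mem_GS hqs a q hq hx
    exact AddSubgroup.subset_closure ⟨c, d, by rw [fn_smul, hd]⟩
  | zero => intro c; rw [smul_zero]; exact zero_mem _
  | add x y _ _ hx hy => intro c; rw [smul_add]; exact add_mem (hx c) (hy c)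
  | smul r x _ hx => intro c; rw [smul_smul]; exact hx _

set_option maxHeartbeats 1600000 in
/-- Relations between products come from global functions. -/
theorem relation_bc {n : ℕ} (c : Fin n → Γ₀ a.U) (d : Fin n → Γ(D.left, ⊤))
    (h : ∑ i, (pU a q hq).left.appTop (c i) * (pD a q hq).left.appTop (d i) = 0) :
    c ∈ Submodule.span (Γ₀ a.U) {κ : Fin n → Γ₀ a.U | (∀ i, κ i ∈ A₀ a) ∧
      ∑ i, (pU a q hq).left.appTop (κ i) * (pD a q hq).left.appTop (d i) = 0} := by
  haveI := isQuasicoherent_MD hqs q hq
  let Dn : sectModEt (MD q hq) a.U →+ Γ((Pb a q hq).obj.left.left, ⊤) :=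
    AddMonoidHom.mk' (fn a q hq) fun _ _ => rfl
  have key : ∀ κ : Fin n → Γ₀ a.U, fn a q hq (∑ i, κ i • sec₀ a q hq ((pD a q hq).left.appTop (d i))) =
      ∑ i, (pU a q hq).left.appTop (κ i) * (pD a q hq).left.appTop (d i) := fun κ => by
    show Dn (∑ i, _) = _
    rw [map_sum]
    exact Finset.sum_congr rfl fun i _ => rfl
  have hrel := relation_span h1 hgen (MD q hq) (fun i => sec₀ a q hq ((pD a q hq).left.appTop (d i)))
    (fun i => mem_GS_of a q hq (d i)) c (fn_inj a q hq (by rw [key, h]; rfl))
  refine Submodule.span_mono ?_ hrel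
  rintro κ ⟨hκ, hs⟩
  exact ⟨hκ, by rw [← key, hs]; rfl⟩

end Groth.L23.GlobSec
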