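import Groth.Agent.L23.CritPush

/-!
# Functions on `U ×_X D` are the tensor product over the global functions
-/

universe u

open CategoryTheory CategoryTheory.Limits AlgebraicGeometry Opposite AlgSp TensorProduct

set_option autoImplicit false
set_option linter.style.haveILetI false
set_option backward.isDefEq.respectTransparency false
set_option backward.isDefEq.respectTransparency.types false

noncomputable section

namespace Groth.L23.GlobSec

open Groth.L09.ModEt

variable {S : Scheme.{u}} {X : Sp S} (a : Atlas X)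

/-- Global functions have the same pullback along two maps to the atlas over the space. -/
theorem pb_eq {P : Over S} (k₁ k₂ : P ⟶ a.U.obj.left)
    (h : (yon S).map k₁ ≫ a.U.obj.hom = (yon S).map k₂ ≫ a.U.obj.hom) {r : Γ₀ a.U} (hr : r ∈ A₀ a) :
    k₁.left.appTop r = k₂.left.appTop r := by
  let E₂ := EtOver.prodObj a.U a.U
  let l : P ⟶ E₂.obj.left := a.U.property.1.lift' k₂ k₁ h.symm
  have hl₁ : l ≫ (EtOver.prodFst a.U a.U).hom.left = k₁ :=
    Functor.relativelyRepresentable.lift'_snd _ _ _ _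
  have hl₂ : l ≫ (EtOver.prodSnd a.U a.U).hom.left = k₂ :=
    Functor.relativelyRepresentable.lift'_fst _ _ _ _
  have he : res (unitModEt X) (EtOver.prodFst a.U a.U) (up₀ r) =
      res (unitModEt X) (EtOver.prodSnd a.U a.U) (up₀ r) :=
    ((IsVal.self (up_mem hr)).res (EtOver.prodFst a.U a.U)).unique ((IsVal.self (up_mem hr)).res _)
  rw [← hl₁, ← hl₂, Over.comp_left, Over.comp_left, Scheme.Hom.comp_appTop, Scheme.Hom.comp_appTop]
  exact congrArg (fun t => l.left.appTop (dn₀ t)) he

variable [QuasiSeparatedSpace S] (hX : IsAlgSpace X) (hqs : IsQuasiSeparatedSp X) {D : Over S} [IsAffine D.left]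
  (v : D ⟶ a.U.obj.left)

/-- The test map to the space. -/
abbrev qv : (yon S).obj D ⟶ X := (yon S).map v ≫ a.U.obj.hom

include hX in
theorem rep_qv : Representable (qv a v) := hX.representable_from_yon _

/-- Functions on the affine test scheme, as an algebra over the global functions. -/
abbrev algD : Algebra (A₀ a) Γ(D.left, ⊤) := (v.left.appTop.hom.comp (A₀ a).subtype).toAlgebra

/-- The product of functions. -/
def tensorMap :
    letI := algD a v
    Γ₀ a.U ⊗[A₀ a] Γ(D.left, ⊤) →+* Γ((Pb a (qv a v) (rep_qv a hX v)).obj.left.left, ⊤) :=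
  letI := algD a v
  letI : Algebra (A₀ a) Γ((Pb a (qv a v) (rep_qv a hX v)).obj.left.left, ⊤) :=
    ((pU a (qv a v) (rep_qv a hX v)).left.appTop.hom.comp (A₀ a).subtype).toAlgebra
  (Algebra.TensorProduct.lift
    ({ (pU a (qv a v) (rep_qv a hX v)).left.appTop.hom with commutes' := fun _ => rfl } :
      Γ₀ a.U →ₐ[A₀ a] Γ((Pb a (qv a v) (rep_qv a hX v)).obj.left.left, ⊤))
    ({ (pD a (qv a v) (rep_qv a hX v)).left.appTop.hom with
        commutes' := fun r => by
          show (v.left.appTop ≫ (pD a (qv a v) (rep_qv a hX v)).left.appTop) r.1 = _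
          rw [← Scheme.Hom.comp_appTop, ← Over.comp_left]
          exact pb_eq a _ _ (by
            rw [Functor.map_comp, Category.assoc]
            exact (sq_bc a (qv a v) (rep_qv a hX v)).w) r.2 } :
      Γ(D.left, ⊤) →ₐ[A₀ a] Γ((Pb a (qv a v) (rep_qv a hX v)).obj.left.left, ⊤))
    fun _ _ => Commute.all _ _).toRingHom

theorem tensorMap_tmul (c : Γ₀ a.U) (d : Γ(D.left, ⊤)) :
    letI := algD a v
    tensorMap a hX v (c ⊗ₜ d) = (pU a (qv a v) (rep_qv a hX v)).left.appTop c *
      (pD a (qv a v) (rep_qv a hX v)).left.appTop d := rfl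

variable (h1 : Lifting a) (hgen : Generates a)

include hqs h1 hgen

theorem surjective_tensorMap : Function.Surjective (tensorMap a hX v) := fun z => by
  letI := algD a v
  have h := mem_span_bc hqs a (qv a v) (rep_qv a hX v) h1 hgen z
  have hle : AddSubgroup.closure {w | ∃ (c : Γ₀ a.U) (d : Γ(D.left, ⊤)),
      w = (pU a (qv a v) (rep_qv a hX v)).left.appTop c * (pD a (qv a v) (rep_qv a hX v)).left.appTop d} ≤
      (tensorMap a hX v).toAddMonoidHom.range :=
    (AddSubgroup.closure_le _).2 fun w ⟨c, d, hw⟩ => ⟨c ⊗ₜ d, hw.symm ▸ tensorMap_tmul a hX v c d⟩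
  exact hle h

set_option maxHeartbeats 800000 in
theorem injective_tensorMap : Function.Injective (tensorMap a hX v) := by
  letI := algD a v
  rw [injective_iff_map_eq_zero]
  intro x hx
  obtain ⟨n, c, d, rfl⟩ : ∃ (n : ℕ) (c : Fin n → Γ₀ a.U) (d : Fin n → Γ(D.left, ⊤)),
      x = ∑ i, c i ⊗ₜ[A₀ a] d i := by
    obtain ⟨s, hs⟩ := TensorProduct.exists_finset x
    refine ⟨s.card, fun i => (s.equivFin.symm i).1.1, fun i => (s.equivFin.symm i).1.2, ?_⟩
    rw [hs, ← Finset.sum_coe_sort s]
    exact (s.equivFin.symm.sum_comp (fun i : s => i.1.1 ⊗ₜ[A₀ a] i.1.2)).symm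
  rw [map_sum] at hx
  simp only [tensorMap_tmul] at hx
  have hrel := relation_bc hqs a (qv a v) (rep_qv a hX v) h1 hgen c d hx
  have key : ∀ κ ∈ Submodule.span (Γ₀ a.U) {κ : Fin n → Γ₀ a.U | (∀ i, κ i ∈ A₀ a) ∧
      ∑ i, (pU a (qv a v) (rep_qv a hX v)).left.appTop (κ i) *
        (pD a (qv a v) (rep_qv a hX v)).left.appTop (d i) = 0}, ∀ y : Γ₀ a.U, ∑ i, (y * κ i) ⊗ₜ[A₀ a] d i = 0 := by
    intro κ hκ
    induction hκ using Submodule.span_induction with
    | mem κ hκ =>
      intro y
      have hd : ∑ i, (⟨κ i, hκ.1 i⟩ : A₀ a) • d i = 0 := by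
        apply appTop_injective_pD a (qv a v) (rep_qv a hX v)
        rw [map_sum, map_zero]
        refine Eq.trans ?_ hκ.2
        refine Finset.sum_congr rfl fun i _ => ?_
        show (pD a (qv a v) (rep_qv a hX v)).left.appTop (v.left.appTop (κ i) * d i) = _
        rw [map_mul]
        refine congrArg (· * _) ?_
        show (v.left.appTop ≫ (pD a (qv a v) (rep_qv a hX v)).left.appTop) (κ i) = _
        rw [← Scheme.Hom.comp_appTop, ← Over.comp_left]
        exact pb_eq a _ _ (by
          rw [Functor.map_comp, Category.assoc]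
          exact (sq_bc a (qv a v) (rep_qv a hX v)).w) (hκ.1 i)
      calc ∑ i, (y * κ i) ⊗ₜ[A₀ a] d i = ∑ i, y ⊗ₜ[A₀ a] ((⟨κ i, hκ.1 i⟩ : A₀ a) • d i) :=
            Finset.sum_congr rfl fun i _ => by rw [← TensorProduct.smul_tmul]; exact congrArg (· ⊗ₜ[A₀ a] d i) (mul_comm _ _)
        _ = 0 := by rw [← TensorProduct.tmul_sum, hd, TensorProduct.tmul_zero]
    | zero => intro y; simp
    | add κ κ' _ _ h h' =>
      intro y
      simp only [Pi.add_apply, mul_add, TensorProduct.add_tmul, Finset.sum_add_distrib, h y, h' y, add_zero]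
    | smul r κ _ h =>
      intro y
      simp only [Pi.smul_apply, smul_eq_mul, ← mul_assoc, h (y * r)]
  simpa using key c hrel 1

theorem bijective_tensorMap : Function.Bijective (tensorMap a hX v) :=
  ⟨injective_tensorMap a hX hqs v h1 hgen, surjective_tensorMap a hX hqs v h1 hgen⟩

end Groth.L23.GlobSec
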