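import Groth.Agent.L23.MorCalc
import Groth.Agent.L23.RedInd

/-!
# Properness of images: finite unions of closed subsets proper over the base
-/

universe u

open CategoryTheory CategoryTheory.Limits AlgebraicGeometry Opposite AlgSp TopologicalSpace

set_option autoImplicit false
set_option linter.style.haveILetI false
set_option backward.isDefEq.respectTransparency.types false

namespace Groth.L23.ProperImage

variable {S : Scheme.{u}} {X Y B : Sp S}

attribute [local simp] pullback.lift_fst pullback.lift_snd pullback.lift_fst_assoc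
  pullback.lift_snd_assoc

theorem exists_mem_of_isPullback {ι : Type*} {W : ι → Sp S} (f : ∀ k, W k ⟶ Y)
    (hs : ∀ y, ∃ k x, Points.map (f k) x = y) {T T' : Sp S} {fst : T' ⟶ Y} {snd : T' ⟶ T}
    (p : Points T') : ∃ k, p ∈ Set.range (Points.map (pullback.snd (f k) fst)) := by
  obtain ⟨k, x, hx⟩ := hs (Points.map fst p)
  obtain ⟨r, -, hr⟩ := exists_of_isPullback (IsPullback.of_hasPullback (f k) fst) x p hx
  exact ⟨k, r, hr⟩

theorem univClosed_of_jointly_surjective {ι : Type*} [Finite ι] {W : ι → Sp S} (f : ∀ k, W k ⟶ Y)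
    (hs : ∀ y, ∃ k x, Points.map (f k) x = y) {g : Y ⟶ B} (h : ∀ k, IsUnivClosedMor (f k ≫ g)) :
    IsUnivClosedMor g := by
  intro T T' hT t fst snd sq A hA
  have hc : ∀ k, IsClosed (Points.map snd ''
      (Points.map (pullback.snd (f k) fst) '' (Points.map (pullback.snd (f k) fst) ⁻¹' A))) := fun k => by
    have := h k hT t _ _ ((IsPullback.of_hasPullback (f k) fst).paste_vert sq) _
      (hA.preimage (Points.continuous_map (pullback.snd (f k) fst)))
    rwa [show Points.map (pullback.snd (f k) fst ≫ snd) = Points.map snd ∘ Points.map (pullback.snd (f k) fst)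
      from funext (Points.map_comp _ _), Set.image_comp] at this
  convert isClosed_iUnion_of_finite hc using 1
  rw [← Set.image_iUnion]
  congr 1
  ext p
  refine ⟨fun hp => ?_, fun hp => ?_⟩
  · obtain ⟨k, r, rfl⟩ := exists_mem_of_isPullback (T := T) (snd := snd) f hs (fst := fst) p
    exact Set.mem_iUnion.2 ⟨k, r, hp, rfl⟩
  · obtain ⟨k, r, hr, rfl⟩ := Set.mem_iUnion.1 hp
    exact hr

theorem qcMor_of_jointly_surjective (hY : IsAlgSpace Y) (hB : IsAlgSpace B) {ι : Type*} [Finite ι] {W : ι → Sp S}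
    (f : ∀ k, W k ⟶ Y) (hs : ∀ y, ∃ k x, Points.map (f k) x = y) {g : Y ⟶ B}
    (h : ∀ k, IsQuasiCompactMor (f k ≫ g)) : IsQuasiCompactMor g := by
  intro T T' hT hqc t fst snd sq
  refine qcSp_of_compactSpace (isAlgSpace_of_isPullback hB.diag hY hT sq) (isCompact_univ_iff.1 ?_)
  have hk : ∀ k, IsCompact (Set.range (Points.map (pullback.snd (f k) fst))) := fun k => by
    haveI := compactSpace_of_qcSp (h k hT hqc t _ _ ((IsPullback.of_hasPullback (f k) fst).paste_vert sq))
    exact isCompact_range (Points.continuous_map _)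
  convert isCompact_iUnion hk using 1
  refine (Set.eq_univ_of_forall fun p => Set.mem_iUnion.2 ?_).symm
  exact exists_mem_of_isPullback (T := T) (snd := snd) f hs p

theorem univClosed_comp_diagonal (hX : IsAlgSpace X) (hY : IsAlgSpace Y) (hB : IsAlgSpace B) {f : X ⟶ Y}
    {q : Y ⟶ B} (hc : IsUnivClosedMor f) (hp : IsSeparatedMor (f ≫ q)) :
    IsUnivClosedMor (f ≫ pullback.diagonal q) := by
  have hD : IsAlgSpace (pullback.diagonalObj q) :=
    isAlgSpace_of_isPullback hB.diag hY hY (IsPullback.of_hasPullback q q)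
  have hM : IsAlgSpace (pullback (f ≫ q) q) :=
    isAlgSpace_of_isPullback hB.diag hX hY (IsPullback.of_hasPullback _ _)
  let m₁ : pullback.diagonalObj (f ≫ q) ⟶ pullback (f ≫ q) q :=
    pullback.map _ _ _ _ (𝟙 X) f (𝟙 B) (by simp) (by simp)
  let m₂ : pullback (f ≫ q) q ⟶ pullback.diagonalObj q :=
    pullback.map _ _ _ _ f (𝟙 Y) (𝟙 B) (by simp) (by simp)
  have sq₁ : IsPullback (pullback.snd (f ≫ q) (f ≫ q)) m₁ f (pullback.snd (f ≫ q) q) := by
    refine IsPullback.of_bot ?_ (by simp [m₁]) (IsPullback.of_hasPullback (f ≫ q) q).flip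
    have : m₁ ≫ pullback.fst (f ≫ q) q = pullback.fst (f ≫ q) (f ≫ q) := by simp [m₁]
    rw [this]
    exact (IsPullback.of_hasPullback (f ≫ q) (f ≫ q)).flip
  have sq₂ : IsPullback (pullback.fst (f ≫ q) q) m₂ f (pullback.fst q q) := by
    refine IsPullback.of_bot ?_ (by simp [m₂]) (IsPullback.of_hasPullback q q)
    have : m₂ ≫ pullback.snd q q = pullback.snd (f ≫ q) q := by simp [m₂]
    rw [this]
    exact IsPullback.of_hasPullback (f ≫ q) q
  have hm : IsUnivClosedMor (m₁ ≫ m₂) :=
    univClosed_comp hM hD (univSp_of_isPullback sq₁ hc) (univSp_of_isPullback sq₂ hc)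
  have hD' : IsAlgSpace (pullback.diagonalObj (f ≫ q)) :=
    isAlgSpace_of_isPullback hB.diag hX hX (IsPullback.of_hasPullback _ _)
  have e : pullback.diagonal (f ≫ q) ≫ m₁ ≫ m₂ = f ≫ pullback.diagonal q := by
    apply pullback.hom_ext <;> simp [m₁, m₂]
  rw [← e]
  exact univClosed_comp hD' hD ((isSeparatedMor_iff_univClosed hX (f ≫ q)).1 hp) hm

theorem isProperMor_of_jointly_surjective (hY : IsAlgSpace Y) (hB : IsAlgSpace B) {ι : Type*} [Finite ι]
    {W : ι → Sp S} (hW : ∀ k, IsAlgSpace (W k)) (f : ∀ k, W k ⟶ Y)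
    (hs : ∀ y, ∃ k x, Points.map (f k) x = y) (hc : ∀ k, IsUnivClosedMor (f k)) {g : Y ⟶ B}
    (hg : LocP @LocallyOfFiniteType g) (h : ∀ k, IsProperMor (f k ≫ g)) : IsProperMor g :=
  ⟨(isSeparatedMor_iff_univClosed hY g).2 (univClosed_of_jointly_surjective f hs fun k =>
      univClosed_comp_diagonal (hW k) hY hB (hc k) (h k).1),
    ⟨hg, qcMor_of_jointly_surjective hY hB f hs fun k => (h k).2.1.2⟩,
    univClosed_of_jointly_surjective f hs fun k => (h k).2.2⟩

theorem isProperMor_of_closedImmersion {i : X ⟶ Y} (hi : RepWith @IsClosedImmersion i) : IsProperMor i :=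
  isProperMor_of_repWith (repWith_mono (Q := (@IsProper : MorphismProperty Scheme.{u}))
    (fun φ (hφ : IsClosedImmersion φ) => (inferInstance : IsProper φ)) hi)

theorem exists_reduced_surjection (hX : IsAlgSpace X) :
    ∃ (R : Sp S) (_ : IsAlgSpace R) (r : R ⟶ X), IsReducedSp R ∧ RepWith @IsClosedImmersion r ∧
      Function.Surjective (Points.map r) := by
  obtain ⟨R, hR, r, hr, hrange, hred⟩ := exists_isRedInduced hX (isClosed_univ (X := Points X))
  exact ⟨R, hR, r, hred, hr, Set.range_eq_univ.1 hrange⟩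

/-- A finite union of images of spaces proper over the base underlies a closed subspace proper over the base. -/
theorem exists_subspace_union (hY : IsAlgSpace Y) (hB : IsAlgSpace B) {q : Y ⟶ B}
    (hq : LocP @LocallyOfFiniteType q) {ι : Type*} [Finite ι] {W : ι → Sp S} (hW : ∀ k, IsAlgSpace (W k))
    (h : ∀ k, W k ⟶ Y) (hc : ∀ k, IsUnivClosedMor (h k)) (hp : ∀ k, IsProperMor (h k ≫ q)) :
    IsClosed (⋃ k, Set.range (Points.map (h k))) ∧
      ∃ (Z : Sp S) (_ : IsAlgSpace Z) (i : Z ⟶ Y), RepWith @IsClosedImmersion i ∧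
        Set.range (Points.map i) = ⋃ k, Set.range (Points.map (h k)) ∧ IsProperMor (i ≫ q) := by
  have hT : IsClosed (⋃ k, Set.range (Points.map (h k))) :=
    isClosed_iUnion_of_finite fun k => by
      rw [← Set.image_univ]
      have := hc k hY (𝟙 Y) (𝟙 (W k)) (h k) (IsPullback.of_horiz_isIso ⟨by simp⟩)
      exact this _ isClosed_univ
  obtain ⟨Z, hZ, i, hi, hrange, -⟩ := exists_isRedInduced hY hT
  refine ⟨hT, Z, hZ, i, hi, hrange, ?_⟩
  choose R hR r hred hr hrs using fun k => exists_reduced_surjection (hW k)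
  have hl : ∀ k, ∃ l : R k ⟶ Z, l ≫ i = r k ≫ h k := fun k =>
    exists_factor_of_range_subset hi (hred k) _ (by
      rintro _ ⟨x, rfl⟩
      rw [hrange, Points.map_comp]
      exact Set.mem_iUnion.2 ⟨k, _, rfl⟩)
  choose l hl using hl
  refine isProperMor_of_jointly_surjective hZ hB hR l (fun z => ?_) (fun k => ?_)
    (locP_comp etLocal_lft hZ hY hB (isProperMor_of_closedImmersion hi).2.1.1 hq) fun k => ?_
  · obtain ⟨k, w, hw⟩ := Set.mem_iUnion.1
      (hrange ▸ ⟨z, rfl⟩ : Points.map i z ∈ ⋃ k, Set.range (Points.map (h k)))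
    obtain ⟨x, rfl⟩ := hrs k w
    refine ⟨k, x, injective_map_of_repWith (repWith_mono (Q := (@UniversallyInjective : MorphismProperty Scheme.{u}))
      (fun φ (hφ : IsClosedImmersion φ) => (inferInstance : UniversallyInjective φ)) hi) ?_⟩
    rw [← Points.map_comp, hl k, Points.map_comp]
    exact hw
  · refine univClosed_of_comp_separated (hR k) hZ hY ?_ (isProperMor_of_closedImmersion hi).1
    rw [hl k]
    exact univClosed_comp (hW k) hY (isProperMor_of_closedImmersion (hr k)).2.2 (hc k)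
  · rw [← Category.assoc, hl k, Category.assoc]
    exact isProperMor_comp (hR k) (hW k) hB (isProperMor_of_closedImmersion (hr k)) (hp k)

theorem isProperMor_of_range_eq (hX : IsAlgSpace X) (hB : IsAlgSpace B) {q : X ⟶ B}
    (hq : LocP @LocallyOfFiniteType q) {Z Z' : Sp S} (hZ : IsAlgSpace Z) (hZ' : IsAlgSpace Z') {i : Z ⟶ X}
    {i' : Z' ⟶ X} (hi : RepWith @IsClosedImmersion i) (hi' : RepWith @IsClosedImmersion i')
    (heq : Set.range (Points.map i) = Set.range (Points.map i')) (hp : IsProperMor (i ≫ q)) :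
    IsProperMor (i' ≫ q) := by
  obtain ⟨R, hR, r, hred, hr, hrs⟩ := exists_reduced_surjection hZ
  obtain ⟨l, hl⟩ := exists_factor_of_range_subset hi' hred (r ≫ i) (by
    rintro _ ⟨x, rfl⟩
    rw [← heq, Points.map_comp]
    exact ⟨_, rfl⟩)
  refine isProperMor_of_jointly_surjective hZ' hB (ι := PUnit.{1}) (fun _ => hR) (fun _ => l) (fun z => ?_)
    (fun _ => ?_) (locP_comp etLocal_lft hZ' hX hB (isProperMor_of_closedImmersion hi').2.1.1 hq) fun _ => ?_
  · obtain ⟨w, hw⟩ := (heq.symm ▸ ⟨z, rfl⟩ : Points.map i' z ∈ Set.range (Points.map i))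
    obtain ⟨x, rfl⟩ := hrs w
    refine ⟨⟨⟩, x, injective_map_of_repWith (repWith_mono (Q := (@UniversallyInjective : MorphismProperty Scheme.{u}))
      (fun φ (hφ : IsClosedImmersion φ) => (inferInstance : UniversallyInjective φ)) hi') ?_⟩
    rw [← Points.map_comp, hl, Points.map_comp]
    exact hw
  · refine univClosed_of_comp_separated hR hZ' hX ?_ (isProperMor_of_closedImmersion hi').1
    rw [hl]
    exact univClosed_comp hZ hX (isProperMor_of_closedImmersion hr).2.2 (isProperMor_of_closedImmersion hi).2.2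
  · rw [← Category.assoc, hl, Category.assoc]
    exact isProperMor_comp hR hZ hB (isProperMor_of_closedImmersion hr) hp

end Groth.L23.ProperImage
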