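import Groth.Agent.L23.EtaleMono
import Groth.Agent.L23.MorCalc
import Groth.Agent.L23.ProperImage
import Groth.Agent.L23.OpenSub

/-!
# Sections of etale morphisms glue along modifications
-/

universe u

open CategoryTheory CategoryTheory.Limits AlgebraicGeometry AlgSp

set_option backward.isDefEq.respectTransparency.types false
set_option linter.style.haveILetI false

namespace Groth.L23.EtaleGlue

variable {S : Scheme.{u}}

attribute [local simp] pullback.lift_fst pullback.lift_snd pullback.lift_fst_assoc pullback.lift_snd_assoc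

theorem isClosedMap_of_univClosed {X Y : Sp S} (hY : IsAlgSpace Y) {f : X ⟶ Y} (h : IsUnivClosedMor f) :
    IsClosedMap (Points.map f) :=
  h hY (𝟙 Y) (𝟙 X) f (IsPullback.of_horiz_isIso ⟨by simp⟩)

theorem section_openImmersion {X Y : Sp S} (hX : IsAlgSpace X) (hY : IsAlgSpace Y) {π : X ⟶ Y}
    (hπ : LocP @Etale π) {s : Y ⟶ X} (hs : s ≫ π = 𝟙 Y) : RepWith @IsOpenImmersion s := by
  have : Mono s := mono_of_mono_fac hs
  refine repWith_isOpenImmersion_of_etale_mono hY hX s ?_
  refine locP_of_comp_of_locP etLocal_etale (Q := @Etale) ?_ hY hX hY ?_ hπ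
  · intro A B C φ ψ h₁ h₂
    have := h₁; have := h₂
    exact Etale.of_comp φ ψ
  · rw [hs]
    exact locP_of_repWith etLocal_etale (repWith_of_isIso _)

theorem isOpen_range {X Y : Sp S} {s : Y ⟶ X} (h : RepWith @IsOpenImmersion s) :
    IsOpen (Set.range (Points.map s)) :=
  (isOpenMap_map_of_universallyOpen (repWith_universallyOpen_of_etale
    (repWith_mono (fun φ (_ : IsOpenImmersion φ) => inferInstanceAs (Etale φ)) h))).isOpen_range

theorem mem_range_of_pullback {P F H G : Sp S} {fst : P ⟶ F} {snd : P ⟶ H} {f : F ⟶ G} {g : H ⟶ G}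
    (sq : IsPullback fst snd f g) {x : Points F} (hx : Points.map f x ∈ Set.range (Points.map g)) :
    x ∈ Set.range (Points.map fst) := by
  obtain ⟨y, hy⟩ := hx
  obtain ⟨p, hp, -⟩ := exists_of_isPullback sq x y hy.symm
  exact ⟨p, hp⟩

variable {P V V' W P₁ U₀ : Sp S}

/-- Sections of an etale morphism glue along a modification. -/
theorem existsUnique_section (hP : IsAlgSpace P) (hV : IsAlgSpace V) (hV' : IsAlgSpace V') (hW : IsAlgSpace W)
    {π : P ⟶ V} (hπ : LocP @Etale π) {a : V' ⟶ V} (ha : IsProperMor a) {b : W ⟶ V}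
    (hb : RepWith @IsClosedImmersion b) {r : P₁ ⟶ V'} {s : P₁ ⟶ W} (sq : IsPullback r s a b) {jV : U₀ ⟶ V}
    (hj : RepWith @IsOpenImmersion jV) [IsIso (pullback.snd a jV)]
    (hcov : ∀ v : Points V, v ∈ Set.range (Points.map b) ∨ v ∈ Set.range (Points.map jV))
    (σ' : V' ⟶ P) (τ : W ⟶ P) (hσ' : σ' ≫ π = a) (hτ : τ ≫ π = b) (hc : r ≫ σ' = s ≫ τ) :
    ∃! σ : V ⟶ P, σ ≫ π = 𝟙 V ∧ a ≫ σ = σ' ∧ b ≫ σ = τ := by
  have hcov' : ∀ v : Points V, v ∈ Set.range (Points.map b) ∨ v ∈ Set.range (Points.map a) := fun v =>
    (hcov v).imp id fun ⟨u, hu⟩ => ⟨Points.map (inv (pullback.snd a jV) ≫ pullback.fst a jV) u, by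
      rw [← Points.map_comp, Category.assoc, pullback.condition, IsIso.inv_hom_id_assoc, hu]⟩
  -- the two base changes
  let sqA := IsPullback.of_hasPullback π a
  let sqB := IsPullback.of_hasPullback π b
  have hPA : IsAlgSpace (pullback π a) := isAlgSpace_of_isPullback hV.diag hP hV' sqA
  have hPB : IsAlgSpace (pullback π b) := isAlgSpace_of_isPullback hV.diag hP hW sqB
  let sA : V' ⟶ pullback π a := pullback.lift σ' (𝟙 V') (by rw [hσ', Category.id_comp])
  let sB : W ⟶ pullback π b := pullback.lift τ (𝟙 W) (by rw [hτ, Category.id_comp])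
  have hsA : RepWith @IsOpenImmersion sA :=
    section_openImmersion hPA hV' (locP_of_isPullback etLocal_etale hP hV hV' sqA hπ) (pullback.lift_snd _ _ _)
  have hsB : RepWith @IsOpenImmersion sB :=
    section_openImmersion hPB hW (locP_of_isPullback etLocal_etale hP hV hW sqB hπ) (pullback.lift_snd _ _ _)
  have hpA : IsClosedMap (Points.map (pullback.fst π a)) :=
    isClosedMap_of_univClosed hP (isProperMor_of_isPullback hV' hV hP sqA.flip ha).2.2
  have hpB : RepWith @IsClosedImmersion (pullback.fst π b) := repWith_of_isPullback sqB.flip hb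
  have hpBc : IsClosedMap (Points.map (pullback.fst π b)) :=
    isClosedMap_of_univClosed hP (Groth.L23.ProperImage.isProperMor_of_closedImmersion hpB).2.2
  have hpBi : Function.Injective (Points.map (pullback.fst π b)) :=
    injective_map_of_repWith (repWith_mono (Q := @UniversallyInjective) (fun φ (_ : IsClosedImmersion φ) => inferInstance) hpB)
  let Γ : Set (Points P) := Set.range (Points.map σ') ∪ Set.range (Points.map τ)
  -- a point over the image of the closed piece lies in the range of the second section
  have hτmem : ∀ x ∈ Γ, Points.map π x ∈ Set.range (Points.map b) → x ∈ Set.range (Points.map τ) := by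
    rintro x (⟨v, rfl⟩ | hx) hxb
    · rw [← Points.map_comp, hσ'] at hxb
      obtain ⟨p, rfl⟩ := mem_range_of_pullback sq hxb
      exact ⟨Points.map s p, by rw [← Points.map_comp, ← Points.map_comp, hc]⟩
    · exact hx
  -- preimages of the glued graph
  have hA : ∀ z : Points (pullback π a), Points.map (pullback.fst π a) z ∈ Γ → z ∈ Set.range (Points.map sA) := by
    intro z hz
    have hπz : Points.map π (Points.map (pullback.fst π a) z) = Points.map a (Points.map (pullback.snd π a) z) := by
      rw [← Points.map_comp, pullback.condition, Points.map_comp]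
    by_cases hzb : Points.map a (Points.map (pullback.snd π a) z) ∈ Set.range (Points.map b)
    · obtain ⟨w, hw⟩ := hτmem _ hz (hπz ▸ hzb)
      let sqP := IsPullback.of_hasPullback (pullback.snd π a) r
      obtain ⟨q, rfl⟩ : z ∈ Set.range (Points.map (pullback.fst (pullback.snd π a) r)) :=
        mem_range_of_pullback sqP (mem_range_of_pullback sq hzb)
      let k : pullback (pullback.snd π a) r ⟶ pullback π b :=
        pullback.lift (pullback.fst _ _ ≫ pullback.fst π a) (pullback.snd _ _ ≫ s) (by
          rw [Category.assoc, pullback.condition, pullback.condition_assoc, Category.assoc, sq.w])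
      have hk : Points.map k q = Points.map sB w := hpBi (by
        rw [← Points.map_comp, ← Points.map_comp, pullback.lift_fst, pullback.lift_fst, hw, Points.map_comp])
      let t : P₁ ⟶ pullback (pullback.snd π a) r := pullback.lift (r ≫ sA) (𝟙 P₁) (by
        rw [Category.assoc, pullback.lift_snd, Category.comp_id, Category.id_comp])
      have sqt : IsPullback t s k sB := by
        refine ⟨⟨?_⟩, ⟨PullbackCone.IsLimit.mk _ (fun c => c.fst ≫ pullback.snd _ _) (fun c => ?_) (fun c => ?_)
          (fun c l h₁ h₂ => ?_)⟩⟩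
        · apply pullback.hom_ext <;> simp [t, k, sA, sB, hc]
        · have e₁ := c.condition =≫ pullback.fst π b
          have e₂ := c.condition =≫ pullback.snd π b
          simp [k, sB] at e₁ e₂
          apply pullback.hom_ext
          · apply pullback.hom_ext
            · simp only [Category.assoc, t, sA, pullback.lift_fst, pullback.lift_fst_assoc]
              rw [hc, reassoc_of% e₂, ← e₁]
            · simp [t, sA, pullback.condition]
          · simp [t]
        · have e₂ := c.condition =≫ pullback.snd π b
          simp [k, sB] at e₂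
          simpa using e₂
        · rw [← h₁]; simp [t]
      obtain ⟨p, hp, -⟩ := exists_of_isPullback sqt q w hk
      exact ⟨Points.map r p, by
        rw [← hp, ← Points.map_comp, ← Points.map_comp, pullback.lift_fst]⟩
    · have hzU : Points.map π (Points.map (pullback.fst π a) z) ∈ Set.range (Points.map jV) := by
        rw [hπz]; exact (hcov _).resolve_left hzb
      rcases hz with ⟨v, hv⟩ | ⟨w, hw⟩
      swap
      · exact absurd ⟨w, by rw [← hπz, ← hw, ← Points.map_comp, hτ]⟩ hzb
      let jA : pullback (pullback.fst π a ≫ π) jV ⟶ pullback π a := pullback.fst _ _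
      let sqJ := IsPullback.of_hasPullback (pullback.fst π a ≫ π) jV
      let sqP := IsPullback.of_hasPullback π jV
      let k : pullback (pullback.fst π a ≫ π) jV ⟶ pullback π jV :=
        pullback.lift (pullback.fst _ _ ≫ pullback.fst π a) (pullback.snd _ _) (by
          rw [Category.assoc]; exact pullback.condition)
      have : IsIso k := by
        let u : pullback π jV ⟶ pullback π a := pullback.lift (pullback.fst _ _)
          (pullback.snd _ _ ≫ inv (pullback.snd a jV) ≫ pullback.fst a jV) (by
            rw [Category.assoc, Category.assoc, pullback.condition, pullback.condition,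
              IsIso.inv_hom_id_assoc])
        refine ⟨pullback.lift u (pullback.snd _ _) (by
          rw [← Category.assoc, pullback.lift_fst, pullback.condition]), ?_, ?_⟩
        · apply pullback.hom_ext
          · apply pullback.hom_ext
            · simp [k, u]
            · simp only [Category.assoc, pullback.lift_fst, pullback.lift_snd, u, Category.id_comp, k,
                pullback.lift_snd_assoc]
              let l : pullback (pullback.fst π a ≫ π) jV ⟶ pullback a jV :=
                pullback.lift (pullback.fst _ _ ≫ pullback.snd π a) (pullback.snd _ _) (by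
                  rw [Category.assoc, ← pullback.condition (f := π) (g := a)]; exact pullback.condition)
              rw [← pullback.lift_snd (f := a) (g := jV) (pullback.fst (pullback.fst π a ≫ π) jV ≫ pullback.snd π a)
                (pullback.snd _ _) (by rw [Category.assoc, ← pullback.condition (f := π) (g := a)]; exact pullback.condition),
                Category.assoc, IsIso.hom_inv_id_assoc, pullback.lift_fst]
          · simp [k]
        · apply pullback.hom_ext <;> simp [k, u]
      have hv' : Points.map (pullback.fst π a) (Points.map sA v) = Points.map (pullback.fst π a) z := by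
        rw [← Points.map_comp, pullback.lift_fst, hv]
      obtain ⟨q₁, hq₁⟩ : z ∈ Set.range (Points.map jA) :=
        mem_range_of_pullback sqJ (by rw [Points.map_comp]; exact hzU)
      obtain ⟨q₂, hq₂⟩ : Points.map sA v ∈ Set.range (Points.map jA) :=
        mem_range_of_pullback sqJ (by rw [Points.map_comp, hv']; exact hzU)
      have hinj : Function.Injective (Points.map (pullback.fst π jV)) :=
        injective_map_of_repWith (repWith_mono (Q := @UniversallyInjective) (fun φ (_ : IsOpenImmersion φ) => inferInstance)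
          (repWith_of_isPullback sqP.flip hj))
      have hq : q₁ = q₂ := by
        have e : Points.map k q₁ = Points.map k q₂ := hinj (by
          rw [← Points.map_comp, ← Points.map_comp, pullback.lift_fst, Points.map_comp, Points.map_comp]
          exact ((congrArg _ hq₁).trans hv'.symm).trans (congrArg _ hq₂).symm)
        have := congrArg (Points.map (inv k)) e
        rwa [← Points.map_comp, ← Points.map_comp, IsIso.hom_inv_id, Points.map_id, Points.map_id] at this
      exact ⟨v, by rw [← hq₁, hq, hq₂]⟩
  have hB : ∀ z : Points (pullback π b), Points.map (pullback.fst π b) z ∈ Γ → z ∈ Set.range (Points.map sB) := by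
    intro z hz
    obtain ⟨w, hw⟩ := hτmem _ hz ⟨Points.map (pullback.snd π b) z, by
      rw [← Points.map_comp, ← Points.map_comp, pullback.condition]⟩
    exact ⟨w, hpBi (by rw [← Points.map_comp, pullback.lift_fst, hw])⟩
  -- the glued graph is open
  have hopen : IsOpen Γ := by
    have e : Γᶜ = Points.map (pullback.fst π a) '' (Set.range (Points.map sA))ᶜ ∪
        Points.map (pullback.fst π b) '' (Set.range (Points.map sB))ᶜ := by
      ext x
      constructor
      · intro hx
        rcases hcov' (Points.map π x) with h | h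
        · obtain ⟨z, rfl⟩ := mem_range_of_pullback sqB h
          exact Or.inr ⟨z, fun ⟨w, hw⟩ => hx (Or.inr ⟨w, by
            rw [← hw, ← Points.map_comp, pullback.lift_fst]⟩), rfl⟩
        · obtain ⟨z, rfl⟩ := mem_range_of_pullback sqA h
          exact Or.inl ⟨z, fun ⟨v, hv⟩ => hx (Or.inl ⟨v, by
            rw [← hv, ← Points.map_comp, pullback.lift_fst]⟩), rfl⟩
      · rintro (⟨z, hz, rfl⟩ | ⟨z, hz, rfl⟩) hx
        · exact hz (hA z hx)
        · exact hz (hB z hx)
    rw [← isClosed_compl_iff, e]
    exact (hpA _ (isOpen_range hsA).isClosed_compl).union (hpBc _ (isOpen_range hsB).isClosed_compl)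
  -- the open subspace maps isomorphically
  let G : TopologicalSpace.Opens (Points P) := ⟨Γ, hopen⟩
  let ι := openSubι G
  have hO : IsAlgSpace (openSub G) := isAlgSpace_openSub G hP
  have hρ : LocP @Etale (ι ≫ π) := locP_comp etLocal_etale hO hP hV
    (locP_of_repWith etLocal_etale (repWith_mono (fun φ (_ : IsOpenImmersion φ) => inferInstanceAs (Etale φ))
      (repWith_openSubι G))) hπ
  have hι : RepWith @IsOpenImmersion ι := repWith_openSubι G
  have hrng : Set.range (Points.map ι) = Γ := range_openSubι G
  obtain ⟨σA, hσA⟩ := (exists_factor_iff hι σ').2 (by rw [hrng]; exact Set.subset_union_left)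
  obtain ⟨σB, hσB⟩ := (exists_factor_iff hι τ).2 (by rw [hrng]; exact Set.subset_union_right)
  have hbc : ∀ {T : Sp S} (m : T ⟶ V) (l : T ⟶ pullback π m) (hl : RepWith @IsOpenImmersion l)
      (l' : T ⟶ openSub G), l' ≫ ι = l ≫ pullback.fst π m → l ≫ pullback.snd π m = 𝟙 T →
      (∀ z, Points.map (pullback.fst π m) z ∈ Γ → z ∈ Set.range (Points.map l)) →
      ∀ {D : Sp S} (n₁ n₂ : D ⟶ openSub G) (d : D ⟶ T), n₁ ≫ ι ≫ π = d ≫ m → n₂ ≫ ι ≫ π = d ≫ m → n₁ = n₂ := by
    intro T m l hl l' hl' hls hz D n₁ n₂ d e₁ e₂
    have key : ∀ (n : D ⟶ openSub G) (e : n ≫ ι ≫ π = d ≫ m), n = d ≫ l' := by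
      intro n e
      let n' : D ⟶ pullback π m := pullback.lift (n ≫ ι) d (by rw [Category.assoc]; exact e)
      obtain ⟨g, hg⟩ := (exists_factor_iff hl n').2 (by
        rintro _ ⟨y, rfl⟩
        refine hz _ ?_
        rw [← Points.map_comp, pullback.lift_fst, Points.map_comp, ← hrng]
        exact ⟨_, rfl⟩)
      have hgd : g = d := by
        have := hg =≫ pullback.snd π m
        rwa [Category.assoc, hls, Category.comp_id, pullback.lift_snd] at this
      have := hg =≫ pullback.fst π m
      rw [Category.assoc, pullback.lift_fst, hgd, ← hl', ← Category.assoc, cancel_mono] at this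
      exact this.symm
    rw [key n₁ e₁, key n₂ e₂]
  have : Mono (ι ≫ π) := by
    have hd := repWith_isOpenImmersion_diagonal_of_unramified hO hV
      (locP_mono (fun φ (_ : Etale φ) => ⟨inferInstance, inferInstance⟩) hρ)
    let Q := pullback (ι ≫ π) (ι ≫ π)
    let f₁ : Q ⟶ openSub G := pullback.fst _ _
    let f₂ : Q ⟶ openSub G := pullback.snd _ _
    have hf : f₁ ≫ ι ≫ π = f₂ ≫ ι ≫ π := pullback.condition
    have main : ∀ {T : Sp S} (m : T ⟶ V) (q : Points Q),
        Points.map (f₁ ≫ ι ≫ π) q ∈ Set.range (Points.map m) →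
        (∀ {D : Sp S} (n₁ n₂ : D ⟶ openSub G) (d : D ⟶ T), n₁ ≫ ι ≫ π = d ≫ m → n₂ ≫ ι ≫ π = d ≫ m → n₁ = n₂) →
        q ∈ Set.range (Points.map (pullback.diagonal (ι ≫ π))) := by
      intro T m q hq h
      let sqT := IsPullback.of_hasPullback (f₁ ≫ ι ≫ π) m
      obtain ⟨p, rfl⟩ := mem_range_of_pullback sqT hq
      let e := pullback.fst (f₁ ≫ ι ≫ π) m
      have he : e ≫ f₁ = e ≫ f₂ := h _ _ (pullback.snd _ _) (by rw [Category.assoc]; exact pullback.condition)
        (by rw [Category.assoc, ← hf]; exact pullback.condition)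
      refine ⟨Points.map (e ≫ f₁) p, ?_⟩
      rw [← Points.map_comp]
      congr 2
      apply pullback.hom_ext
      · simp [e, f₁]
      · rw [Category.assoc, pullback.diagonal_snd, Category.comp_id]; exact he
    have := isIso_of_openImmersion_surjective hd (fun q => by
      rcases hcov' (Points.map (f₁ ≫ ι ≫ π) q) with h | h
      · exact main b q h (hbc b sB hsB σB (by rw [hσB, pullback.lift_fst]) (pullback.lift_snd _ _ _) hB)
      · exact main a q h (hbc a sA hsA σA (by rw [hσA, pullback.lift_fst]) (pullback.lift_snd _ _ _) hA))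
    exact (pullback.isIso_diagonal_iff _).1 this
  have hρo := repWith_isOpenImmersion_of_etale_mono hO hV (ι ≫ π) hρ
  have : IsIso (ι ≫ π) := isIso_of_openImmersion_surjective hρo fun v => by
    rcases hcov' v with ⟨w, rfl⟩ | ⟨w, rfl⟩
    · exact ⟨Points.map σB w, by rw [← Points.map_comp, reassoc_of% hσB, hτ]⟩
    · exact ⟨Points.map σA w, by rw [← Points.map_comp, reassoc_of% hσA, hσ']⟩
  refine ⟨inv (ι ≫ π) ≫ ι, ⟨by rw [Category.assoc, IsIso.inv_hom_id], ?_, ?_⟩, fun σ ⟨h₁, h₂, h₃⟩ => ?_⟩
  · calc a ≫ inv (ι ≫ π) ≫ ι = σA ≫ (ι ≫ π) ≫ inv (ι ≫ π) ≫ ι := by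
          rw [← Category.assoc σA (ι ≫ π), ← Category.assoc σA ι π, hσA, hσ']
      _ = σA ≫ ι := by rw [IsIso.hom_inv_id_assoc]
      _ = σ' := hσA
  · calc b ≫ inv (ι ≫ π) ≫ ι = σB ≫ (ι ≫ π) ≫ inv (ι ≫ π) ≫ ι := by
          rw [← Category.assoc σB (ι ≫ π), ← Category.assoc σB ι π, hσB, hτ]
      _ = σB ≫ ι := by rw [IsIso.hom_inv_id_assoc]
      _ = τ := hσB
  · obtain ⟨g, hg⟩ := (exists_factor_iff hι σ).2 (by
      rintro _ ⟨v, rfl⟩
      rw [hrng]
      rcases hcov' v with ⟨w, rfl⟩ | ⟨w, rfl⟩
      · exact Or.inr ⟨w, by rw [← Points.map_comp, h₃]⟩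
      · exact Or.inl ⟨w, by rw [← Points.map_comp, h₂]⟩)
    have : g = inv (ι ≫ π) := by
      rw [← cancel_mono (ι ≫ π), reassoc_of% hg, h₁, IsIso.inv_hom_id]
    rw [← hg, this]

end Groth.L23.EtaleGlue
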