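import Groth.Agent.L23.ReducedStalk
import Groth.Agent.L23.EtaleGlue
import Groth.Agent.L07.FlatReducedScheme
import Groth.Agent.L07.DVRConnected
import Mathlib.RingTheory.Filtration
import Mathlib.AlgebraicGeometry.FunctionField

/-!
# Reducedness of flat schemes over a discrete valuation ring near the special fibre
-/

universe u

open CategoryTheory CategoryTheory.Limits AlgebraicGeometry AlgSp

set_option backward.isDefEq.respectTransparency.types false
set_option linter.style.haveILetI false

namespace Groth.L23.DVRRed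

variable {R : Type u} [CommRing R] [IsDomain R] [IsDiscreteValuationRing R]

theorem isReduced_stalk_special {X : Scheme.{u}} (f : X ⟶ Spec (CommRingCat.of R)) [LocallyOfFiniteType f] [Flat f]
    (hred : IsReduced (f.fiber (IsLocalRing.closedPoint R))) (x : X) (hxa : f x = IsLocalRing.closedPoint R) :
    _root_.IsReduced (X.presheaf.stalk x) := by
  haveI : IsLocallyNoetherian X := LocallyOfFiniteType.isLocallyNoetherian f
  let a : ↥(Spec (CommRingCat.of R)) := IsLocalRing.closedPoint R
  obtain ⟨hd, hdvr⟩ := Groth.L07.DVRFlat.stalk_dvr (f.base x) hxa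
  let S0 := (Spec (CommRingCat.of R)).presheaf.stalk (f.base x)
  haveI : AlgebraicGeometry.IsReduced (f.fiber (f.base x)) := by rw [show f.base x = a from hxa]; exact hred
  let T := X.presheaf.stalk x
  letI : Algebra S0 T := (f.stalkMap x).hom.toAlgebra
  haveI : Module.Flat S0 T := Flat.stalkMap f x
  haveI : IsNoetherianRing T := inferInstance
  obtain ⟨π, hπ⟩ := IsDiscreteValuationRing.exists_irreducible S0
  let t : T := (f.stalkMap x).hom π
  have ht : IsSMulRegular T t := IsSMulRegular.of_flat (S := T) (IsRegular.of_ne_zero hπ.ne_zero).left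
  have hrad : (Ideal.span {t}).IsRadical := by
    obtain ⟨e⟩ := Groth.L07.CIScheme.exists_fiberStalkEquiv f (f.base x) (f.asFiber x) x (f.fiberι_asFiber x)
    have h1 := isReduced_of_injective e.toRingHom e.injective
    rw [← Ideal.isRadical_iff_quotient_reduced, EGA4.mB, hπ.maximalIdeal_eq, Ideal.map_span, Set.image_singleton] at h1
    exact h1
  have htm : t ∈ IsLocalRing.maximalIdeal T := by
    rw [IsLocalRing.mem_maximalIdeal]
    intro hu
    exact hπ.not_isUnit (IsUnit.of_map (f.stalkMap x).hom π hu)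
  refine ⟨fun y hy => ?_⟩
  obtain ⟨n, hn⟩ := hy
  have key : ∀ m : ℕ, ∀ z : T, z ^ n = 0 → z ∈ (Ideal.span {t}) ^ m := by
    intro m
    induction m with
    | zero => intro z _; simp
    | succ m ih =>
      intro z hz
      obtain ⟨c, rfl⟩ := Ideal.mem_span_singleton.mp (hrad ⟨n, hz.symm ▸ Submodule.zero_mem _⟩ : z ∈ Ideal.span {t})
      have hc : c ^ n = 0 := by
        refine (ht.pow n) (?_ : t ^ n • c ^ n = t ^ n • 0)
        rw [smul_zero, smul_eq_mul, ← mul_pow]; exact hz
      rw [pow_succ']
      exact Ideal.mul_mem_mul (Ideal.subset_span rfl) (ih c hc)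
  have hbot := Ideal.iInf_pow_eq_bot_of_isLocalRing (Ideal.span {t})
    (fun h => (IsLocalRing.maximalIdeal.isMaximal T).ne_top (top_le_iff.mp (h.ge.trans ((Ideal.span_singleton_le_iff_mem _).mpr htm))))
  exact (Submodule.mem_bot _).mp (hbot ▸ Ideal.mem_iInf.mpr fun m => key m y hn)

theorem exists_iso_residue : ∃ j : Spec ((Spec (CommRingCat.of R)).residueField (IsLocalRing.closedPoint R)) ⟶
    Spec (CommRingCat.of (IsLocalRing.ResidueField R)), IsIso j ∧
      j ≫ Spec.map (CommRingCat.ofHom (IsLocalRing.residue R)) =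
        (Spec (CommRingCat.of R)).fromSpecResidueField (IsLocalRing.closedPoint R) := by
  let x : PrimeSpectrum R := IsLocalRing.closedPoint R
  let m := x.asIdeal
  have : m.IsMaximal := IsLocalRing.maximalIdeal.isMaximal R
  let e : (R ⧸ m) ≃+* m.ResidueField := RingEquiv.ofBijective _ m.bijective_algebraMap_quotient_residueField
  have he : CommRingCat.ofHom (IsLocalRing.residue R) ≫ e.toCommRingCatIso.hom =
      CommRingCat.ofHom (algebraMap R m.ResidueField) := by
    ext r
    exact m.algebraMap_quotient_residueField_mk r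
  refine ⟨Spec.map (Scheme.Spec.residueFieldIso (CommRingCat.of R) x).inv ≫ Spec.map e.toCommRingCatIso.hom,
    inferInstance, ?_⟩
  rw [Category.assoc, ← Spec.map_comp]
  erw [he]
  exact Scheme.Spec.map_residueFieldIso_inv_eq_fromSpecResidueField (CommRingCat.of R) x

theorem isReduced_fiber_closed {X : Scheme.{u}} (f : X ⟶ Spec (CommRingCat.of R))
    (h : IsReduced (pullback f (Spec.map (CommRingCat.ofHom (IsLocalRing.residue R))))) :
    IsReduced (f.fiber (IsLocalRing.closedPoint R)) := by
  obtain ⟨j, hj, e⟩ := exists_iso_residue (R := R)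
  have : IsIso j := hj
  let g := pullback.map f ((Spec (CommRingCat.of R)).fromSpecResidueField (IsLocalRing.closedPoint R)) f
    (Spec.map (CommRingCat.ofHom (IsLocalRing.residue R))) (𝟙 X) j (𝟙 _) (by simp) (by simp [e])
  have : IsIso g := pullback.map_isIso _ _ _ _ _ _ _ _ _
  have : IsOpenImmersion g := IsOpenImmersion.of_isIso g
  exact @isReduced_of_isOpenImmersion _ _ g this h

theorem isOpenImmersion_generic :
    IsOpenImmersion (Spec.map (CommRingCat.ofHom (algebraMap R (FractionRing R)))) := by
  obtain ⟨ϖ, hϖ⟩ := IsDiscreteValuationRing.exists_irreducible R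
  have : IsLocalization.Away ϖ (FractionRing R) := by
    refine { map_units := ?_, surj := fun z => ?_, exists_of_eq := fun {a b} hab => ⟨1, ?_⟩ }
    · rintro ⟨_, n, rfl⟩
      exact isUnit_iff_ne_zero.2 fun h0 => pow_ne_zero n hϖ.ne_zero
        (IsFractionRing.injective R (FractionRing R) (h0.trans (map_zero _).symm))
    · obtain ⟨⟨a, b, hb⟩, h⟩ := IsLocalization.surj (nonZeroDivisors R) z
      obtain ⟨n, v, rfl⟩ := IsDiscreteValuationRing.eq_unit_mul_pow_irreducible (nonZeroDivisors.ne_zero hb) hϖ
      refine ⟨(a * (↑v⁻¹ : R), ⟨ϖ ^ n, n, rfl⟩), ?_⟩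
      simp only [map_mul] at h ⊢
      rw [← h, mul_assoc, mul_comm (algebraMap R (FractionRing R) (v : R)), mul_assoc, ← map_mul, Units.mul_inv,
        map_one, mul_one]
    · rw [IsFractionRing.injective R (FractionRing R) hab]
  exact IsOpenImmersion.of_isLocalization ϖ

/-- Proper flat spaces over a discrete valuation ring with reduced special fibre. -/
theorem reduced_of_special {X : Sp (Spec (CommRingCat.of R))} (hX : IsAlgSpace X)
    (s : X ⟶ (yon (Spec (CommRingCat.of R))).obj (Over.mk (𝟙 _))) (hp : IsProperMor s) (hfl : LocP @Flat s)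
    {X0 : Sp (Spec (CommRingCat.of R))} {fst : X0 ⟶ X}
    {snd : X0 ⟶ (yon (Spec (CommRingCat.of R))).obj (Over.mk (Spec.map (CommRingCat.ofHom (IsLocalRing.residue R))))}
    (sq : IsPullback fst snd s ((yon (Spec (CommRingCat.of R))).map
      (Over.homMk (Spec.map (CommRingCat.ofHom (IsLocalRing.residue R))) (Category.comp_id _) :
        Over.mk (Spec.map (CommRingCat.ofHom (IsLocalRing.residue R))) ⟶ Over.mk (𝟙 _))))
    (h0 : EtaleLocally (fun U => IsReduced U) X0) :
    ∃ (U : Over (Spec (CommRingCat.of R))) (a : (yon _).obj U ⟶ X),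
      RepWith @Etale a ∧ RepWith @Surjective a ∧ IsReduced U.left := by
  obtain ⟨U, a, ha, has⟩ := hX.atlas
  let one : Over (Spec (CommRingCat.of R)) := Over.mk (𝟙 _)
  obtain ⟨k, hk⟩ := (yon _).map_surjective (a ≫ s)
  have hkU : k.left = U.hom := (Category.comp_id _).symm.trans (Over.w k)
  have hone : RepWith @Etale (𝟙 ((yon (Spec (CommRingCat.of R))).obj one)) := repWith_id _ _
  have : Flat U.hom := hkU ▸ hfl a (𝟙 _) k ha hone (by rw [Category.comp_id, hk])
  have : LocallyOfFiniteType U.hom := hkU ▸ hp.2.1.1 a (𝟙 _) k ha hone (by rw [Category.comp_id, hk])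
  have : IsLocallyNoetherian U.left := LocallyOfFiniteType.isLocallyNoetherian U.hom
  -- the special fibre of the atlas
  let res : Over.mk (Spec.map (CommRingCat.ofHom (IsLocalRing.residue R))) ⟶ one :=
    Over.homMk (Spec.map (CommRingCat.ofHom (IsLocalRing.residue R))) (Category.comp_id _)
  let t : U ⟶ one := Over.homMk U.hom (Category.comp_id _)
  let U0 : Over (Spec (CommRingCat.of R)) :=
    Over.mk (pullback.fst U.hom (Spec.map (CommRingCat.ofHom (IsLocalRing.residue R))) ≫ U.hom)
  let q₁ : U0 ⟶ U := Over.homMk (pullback.fst _ _) rfl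
  let q₂ : U0 ⟶ Over.mk (Spec.map (CommRingCat.ofHom (IsLocalRing.residue R))) :=
    Over.homMk (pullback.snd _ _) pullback.condition.symm
  have hQ : IsPullback q₁ q₂ t res :=
    IsPullback.of_map (Over.forget _) (Over.OverMorphism.ext pullback.condition) (IsPullback.of_hasPullback _ _)
  have hkt : a ≫ s = (yon _).map t := by
    rw [← hk]; exact congrArg _ (Over.OverMorphism.ext hkU)
  let c : (yon _).obj U0 ⟶ X0 := sq.lift ((yon _).map q₁ ≫ a) ((yon _).map q₂) (by
    rw [Category.assoc, hkt, ← Functor.map_comp, ← Functor.map_comp, hQ.w])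
  have top : IsPullback ((yon _).map q₁) c a fst := by
    refine IsPullback.flip (IsPullback.of_right ?_ (sq.lift_fst _ _ _) sq.flip).flip.flip
    rw [sq.lift_snd, hkt]
    exact (hQ.map (yon _)).flip
  have hc : RepWith @Etale c := repWith_of_isPullback top ha
  have : IsReduced U0.left := by
    obtain ⟨V, b, hb, hbs, hV⟩ := h0
    have : IsReduced V.left := hV
    have hX0 : IsAlgSpace X0 := isAlgSpace_of_isPullback (IsAlgSpace.yon_obj one).diag hX (IsAlgSpace.yon_obj _) sq
    have : ∀ u : U0.left, _root_.IsReduced (U0.left.presheaf.stalk u) := fun u => by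
      obtain ⟨v, hv⟩ := surjective_ofPt hbs (Points.ofPt c u)
      exact hasAt_reduced_stalk hX0 hc u ⟨V, b, v, hb, hv, inferInstance⟩
    exact isReduced_of_isReduced_stalk U0.left
  have hfib : IsReduced (U.hom.fiber (IsLocalRing.closedPoint R)) := isReduced_fiber_closed U.hom this
  -- every point specialises to the special fibre
  refine ⟨U, a, ha, has, ?_⟩
  have hsc : IsClosedMap (Points.map s) := EtaleGlue.isClosedMap_of_univClosed (IsAlgSpace.yon_obj one) hp.2.2
  have hst : ∀ u : U.left, Points.map s (Points.ofPt a u) = Points.schemeHomeo one (U.hom u) := fun u => by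
    rw [Points.map_ofPt, hkt]
    exact ofPt_map t u
  have : ∀ u : U.left, _root_.IsReduced (U.left.presheaf.stalk u) := by
    intro u
    have hcl := (hsc _ (isClosed_closure (s := ({Points.ofPt a u} : Set (Points X))))).preimage
      (Points.schemeHomeo one).continuous
    obtain ⟨x₀, hx₀, hx₀s⟩ : (Points.schemeHomeo one) (IsLocalRing.closedPoint R) ∈
        Points.map s '' closure ({Points.ofPt a u} : Set (Points X)) :=
      (IsLocalRing.specializes_closedPoint (R := R) (U.hom u)).mem_closed hcl
        ⟨_, subset_closure rfl, hst u⟩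
    obtain ⟨u₀, rfl⟩ := surjective_ofPt has x₀
    have hu₀ : U.hom u₀ = IsLocalRing.closedPoint R :=
      (Points.schemeHomeo one).injective ((hst u₀).symm.trans hx₀s)
    obtain ⟨O, hO₀, hO⟩ := Groth.L07.FlatGeomReduced.exists_reduced_nhd u₀ (isReduced_stalk_special U.hom hfib u₀ hu₀)
    obtain ⟨_, ⟨u', hu', rfl⟩, hmem⟩ := mem_closure_iff.1 hx₀ _ (isOpenMap_ofPt ha O.1 O.2) ⟨u₀, hO₀, rfl⟩
    have : _root_.IsReduced (U.left.presheaf.stalk u') := by
      haveI := hO
      exact isReduced_of_injective (O.stalkIso ⟨u', hu'⟩).commRingCatIsoToRingEquiv.symm.toRingHom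
        (O.stalkIso ⟨u', hu'⟩).commRingCatIsoToRingEquiv.symm.injective
    exact hasAt_reduced_stalk hX ha u ⟨U, a, u', ha, hmem, this⟩
  exact isReduced_of_isReduced_stalk U.left

end Groth.L23.DVRRed
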