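import Groth.Agent.L23.DVRVC

/-!
# The refined discrete valuation ring criterion of separatedness
-/

universe u

open CategoryTheory CategoryTheory.Limits AlgebraicGeometry AlgSp

set_option backward.isDefEq.respectTransparency.types false

namespace Groth.L23

variable {S : Scheme.{u}} {U X Y : Sp S}

theorem isSeparatedMor_of_refined_dvr (hU : IsAlgSpace U) (hX : IsAlgSpace X) (hY : IsAlgSpace Y)
    {h : U ⟶ X} {f : X ⟶ Y} (hqs : IsQuasiSeparatedMor f) (hft : LocP @LocallyOfFiniteType f)
    (hN : IsLocNoethSp Y) (hh : IsFiniteTypeMor h) (hd : DenseRange (Points.map h))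
    (hu : ∀ w : ValSq (h ≫ f), IsDiscreteValuationRing w.A → ∀ l l' : (yon S).obj w.ptA ⟶ X,
      (yon S).map w.j ≫ l = w.top ≫ h ∧ l ≫ f = w.bot → (yon S).map w.j ≫ l' = w.top ≫ h ∧ l' ≫ f = w.bot →
      l = l') : IsSeparatedMor f := by
  have sq := IsPullback.of_hasPullback f f
  have hZ : IsAlgSpace (pullback f f) := isAlgSpace_of_isPullback hY.diag hX hX sq
  have hZft : LocP @LocallyOfFiniteType (pullback.fst f f ≫ f) :=
    locP_comp etLocal_lft hZ hX hY (locP_of_isPullback etLocal_lft hX hY hX sq.flip hft) hft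
  have hZN : IsLocNoethSp (pullback f f) := by
    obtain ⟨V, b, hb, hbs, hV⟩ := hN
    obtain ⟨U₀, a, k, ha, w, has⟩ := exists_chart_over hZ hY (pullback.fst f f ≫ f) hb
    have := hZft a b k ha hb w
    have : IsLocallyNoetherian V.left := hV
    exact ⟨U₀, a, ha, has hbs, LocallyOfFiniteType.isLocallyNoetherian k.left⟩
  have hsd : IsSeparatedMor (pullback.diagonal f) := repWith_of_isIso _
  have hfd : IsFiniteTypeMor (pullback.diagonal f) :=
    ⟨locP_of_comp etLocal_lft (fun φ ψ (_ : LocallyOfFiniteType (φ ≫ ψ)) =>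
      locallyOfFiniteType_of_comp φ ψ) hX hZ hX (g := pullback.fst f f) (by
        rw [pullback.diagonal_fst]; exact isFiniteTypeMor_id.1), isQuasiCompactMor_of_repWith hqs⟩
  refine (isSeparatedMor_iff_univClosed hX f).2 (isUnivClosedMor_of_dvr hU hX hZ hZN hsd hfd
    hh hd fun v hv ⟨t, ht⟩ => ?_)
  have hd' : v.top = ((yon S).map v.j ≫ v.bot) ≫ pullback.fst f f := by rw [← v.comm]; simp
  have hd'' : v.top = ((yon S).map v.j ≫ v.bot) ≫ pullback.snd f f := by rw [← v.comm]; simp
  let w : ValSq (h ≫ f) :=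
    { A := v.A, K := v.K, str := v.str, top := t, bot := v.bot ≫ pullback.fst f f ≫ f,
      comm := by rw [reassoc_of% ht, hd']; simp only [Category.assoc] }
  have h' : v.bot ≫ pullback.fst f f = v.bot ≫ pullback.snd f f :=
    hu w hv _ _ ⟨by rw [← Category.assoc]; exact hd'.symm.trans ht.symm, Category.assoc _ _ _⟩
      ⟨by rw [← Category.assoc]; exact hd''.symm.trans ht.symm,
        (Category.assoc _ _ _).trans (congrArg (v.bot ≫ ·) pullback.condition.symm)⟩
  refine hasLiftExt_of_hasLift v ⟨v.bot ≫ pullback.fst f f, by rw [← Category.assoc]; exact hd'.symm, ?_⟩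
  rw [Category.assoc]
  apply pullback.hom_ext <;> simp [h']

end Groth.L23
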