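import Groth.Agent.L23.Valuative2
import Groth.Agent.L23.DVRVC
import Groth.Agent.L23.Decent3
import Groth.Agent.L23.Good
import Groth.Agent.L18.DominatingDVR
import Groth.Agent.S4450
import Mathlib.RingTheory.DedekindDomain.IntegralClosure
import Mathlib.AlgebraicGeometry.Morphisms.FormallyUnramified
import Mathlib.RingTheory.Unramified.Field

/-!
# Valuative criteria for universally closed decent morphisms
-/

universe u

open CategoryTheory CategoryTheory.Limits AlgebraicGeometry AlgSp Opposite IsLocalRing

set_option backward.isDefEq.respectTransparency.types false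
set_option linter.style.haveILetI false

namespace Groth.L23.DecVC

/-- Residue fields of etale schemes over fields are finite separable. -/
theorem finite_separable_residue {W : Scheme.{u}} {K : Type u} [Field K] (h : W ⟶ Spec (CommRingCat.of K))
    [Etale h] (w : W) (ψ : CommRingCat.of K ⟶ W.residueField w)
    (hψ : Spec.map ψ = W.fromSpecResidueField w ≫ h) :
    letI := ψ.hom.toAlgebra
    Module.Finite K (W.residueField w) ∧ Algebra.IsSeparable K (W.residueField w) := by
  haveI := lqf_of_etale h
  haveI : IsClosedImmersion (W.fromSpecResidueField w) := .of_isPreimmersion _ (by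
    rw [Scheme.range_fromSpecResidueField]
    haveI : DiscreteTopology W := discreteTopology_iff_isOpen_singleton.2 (Pt.isOpen_singleton_of_qf h)
    exact isClosed_discrete _)
  haveI : LocallyOfFiniteType (Spec.map ψ) := by rw [hψ]; infer_instance
  haveI : FormallyUnramified (Spec.map ψ) := by
    rw [hψ]
    exact MorphismProperty.comp_mem @FormallyUnramified _ _ (inferInstanceAs (FormallyUnramified (W.fromSpecResidueField w))) inferInstance
  letI := ψ.hom.toAlgebra
  haveI : Algebra.FiniteType K (W.residueField w) :=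
    (HasRingHomProperty.Spec_iff (P := @LocallyOfFiniteType)).1 ‹LocallyOfFiniteType (Spec.map ψ)›
  haveI : Algebra.FormallyUnramified K (W.residueField w) :=
    (HasRingHomProperty.Spec_iff (P := @FormallyUnramified)).1 ‹FormallyUnramified (Spec.map ψ)›
  exact ⟨finite_of_finite_type_of_isJacobsonRing K (W.residueField w),
    (Algebra.FormallyUnramified.iff_isSeparable K _).1 inferInstance⟩

/-- A valuation ring dominating a discrete one in a finite separable extension is discrete. -/
theorem isDiscreteValuationRing_of_finite {A K L : Type u} [CommRing A] [IsDomain A] [Field K] [Algebra A K]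
    [IsFractionRing A K] [Field L] (hA : IsDiscreteValuationRing A) (B : ValuationSubring L) (ψ : K →+* L)
    (hfs : letI := ψ.toAlgebra; Module.Finite K L ∧ Algebra.IsSeparable K L) (φ : A →+* B) [IsLocalHom φ]
    (hc : (algebraMap B L).comp φ = ψ.comp (algebraMap A K)) : IsDiscreteValuationRing B := by
  letI := ψ.toAlgebra
  letI : Algebra A L := (ψ.comp (algebraMap A K)).toAlgebra
  haveI : IsScalarTower A K L := IsScalarTower.of_algebraMap_eq fun _ => rfl
  obtain ⟨_, _⟩ := hfs
  let C := integralClosure A L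
  haveI : IsDedekindDomain C := integralClosure.isDedekindDomain A K L
  haveI : IsFractionRing C L := integralClosure.isFractionRing_of_finite_extension K L
  haveI : IsNoetherianRing C.toSubring := inferInstanceAs (IsNoetherianRing C)
  haveI : Ring.KrullDimLE 1 C.toSubring := inferInstanceAs (Ring.KrullDimLE 1 C)
  have hAB : ∀ a : A, algebraMap A L a = (φ a : L) := fun a => (RingHom.congr_fun hc a).symm
  refine Groth.L18.isDiscreteValuationRing_of_krullDimLE_one C.toSubring (fun z => ?_) B ?_ ?_
  · obtain ⟨a, b, hb, e⟩ := IsFractionRing.div_surjective (A := C) z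
    exact ⟨a, b, fun h => nonZeroDivisors.ne_zero hb (Subtype.ext h), e.symm⟩
  · intro z hz
    letI : Algebra A B := φ.toAlgebra
    haveI : IsScalarTower A B L := IsScalarTower.of_algebraMap_eq hAB
    obtain ⟨y, hy⟩ := IsIntegrallyClosed.isIntegral_iff.1 ((IsIntegral.tower_top (A := B) hz) : IsIntegral B z)
    exact hy ▸ y.2
  · intro htop
    obtain ⟨π, hπ⟩ := IsDiscreteValuationRing.exists_irreducible A
    have h0 : (φ π : L) ≠ 0 := by
      rw [← hAB]
      exact (map_ne_zero_iff _ (show Function.Injective (algebraMap A L) from ψ.injective.comp (IsFractionRing.injective A K))).2 hπ.ne_zero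
    have hm : ∀ z : L, z ∈ B := fun z => by rw [htop]; exact ValuationSubring.mem_top z
    have hu : IsUnit (φ π) := by
      refine isUnit_iff_exists_inv.2 ⟨⟨(φ π : L)⁻¹, hm _⟩, Subtype.ext ?_⟩
      exact mul_inv_cancel₀ h0
    exact hπ.not_isUnit (IsUnit.of_map φ π hu)

variable {S : Scheme.{u}} {X Y P : Sp S}

/-- A generization in a chart over the closed point gives dotted arrows. -/
theorem exists_lift_of_chart (hY : IsAlgSpace Y) (hX : IsAlgSpace X) {f : X ⟶ Y} (v : ValSq f) {U : Over S}
    [IsAffine U.left] (a : (yon S).obj U ⟶ pullback f v.bot) (ha : RepWith @Etale a) (u n : U.left)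
    (hq : Points.map (pullback.snd f v.bot) (Points.ofPt a u) = Points.ofScheme v.ptA (closedPoint v.A))
    (hn : n ⤳ u)
    (hne : Points.ofPt a n =
      Points.ofPt ((IsPullback.of_hasPullback f v.bot).lift v.top ((yon S).map v.j) v.comm) (closedPoint v.K)) :
    ∃ e : v.DomExt, (letI := e.ψ.toAlgebra; Module.Finite v.K e.K' ∧ Algebra.IsSeparable v.K e.K') ∧
      (IsDiscreteValuationRing v.A → IsDiscreteValuationRing e.A') ∧ e.HasLift := by
  have sq := IsPullback.of_hasPullback f v.bot
  let s := pullback.snd f v.bot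
  have hP : IsAlgSpace (pullback f v.bot) := isAlgSpace_of_isPullback hY.diag hX (IsAlgSpace.yon_obj _) sq
  let t : (yon S).obj v.ptK ⟶ pullback f v.bot := sq.lift v.top ((yon S).map v.j) v.comm
  have hts : t ≫ s = (yon S).map v.j := sq.lift_snd _ _ _
  have sqW := ha.1.isPullback t
  let W := ha.1.pullback t
  have : Etale (ha.1.snd t).left := repWith_snd ha t
  obtain ⟨mfst, hmfst⟩ := (yon S).map_surjective (ha.1.fst t)
  obtain ⟨w, hw₁, -⟩ := exists_point_of_isPullback sqW (x := Points.ofScheme U n)
    (u := (closedPoint v.K : v.ptK.left)) ((Points.ofPt_eq_map_ofScheme a n).symm.trans hne)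
  have hw : mfst.left w ⤳ u := by
    have : mfst.left w = n := (Points.schemeEquiv U).injective (by
      show Points.ofScheme U _ = Points.ofScheme U n
      rw [← ofPt_map, hmfst]
      exact hw₁)
    rwa [this]
  let L := W.left.residueField w
  let gU : Spec L ⟶ U.left := W.left.fromSpecResidueField w ≫ mfst.left
  have hgU : gU (closedPoint L) ⤳ u := by
    rwa [Scheme.Hom.comp_apply, Scheme.fromSpecResidueField_apply]
  let c : U.left.presheaf.stalk u ⟶ L :=
    U.left.presheaf.stalkSpecializes hgU ≫ Scheme.stalkClosedPointTo gU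
  obtain ⟨B, hB, hB'⟩ := exists_factor_valuationRing c.hom
  let cB : U.left.presheaf.stalk u ⟶ .of B := CommRingCat.ofHom (c.hom.codRestrict _ hB)
  let lU : Spec (CommRingCat.of B) ⟶ U.left := Spec.map cB ≫ U.left.fromSpecStalk u
  have hlU : Spec.map (CommRingCat.ofHom (algebraMap B L)) ≫ lU = gU := by
    rw [← Category.assoc, ← Spec.map_comp]
    change Spec.map c ≫ _ = _
    rw [Spec.map_comp, Category.assoc, Scheme.SpecMap_stalkSpecializes_fromSpecStalk,
      Scheme.Spec_stalkClosedPointTo_fromSpecStalk]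
  obtain ⟨hA, hhA⟩ := (yon S).map_surjective (a ≫ s)
  obtain ⟨φ, hφ⟩ := Spec.homEquiv.symm.surjective (lU ≫ hA.left)
  change Spec.map φ = lU ≫ hA.left at hφ
  obtain ⟨ψ, hψ⟩ := Spec.homEquiv.symm.surjective (W.left.fromSpecResidueField w ≫ (ha.1.snd t).left)
  change Spec.map ψ = _ at hψ
  have hWA : mfst ≫ hA = ha.1.snd t ≫ v.j := (yon S).map_injective (by
    rw [Functor.map_comp, Functor.map_comp, hmfst, hhA, ← hts, ← Category.assoc, sqW.w,
      Category.assoc])
  have hcomm : (algebraMap B L).comp φ.hom = ψ.hom.comp (algebraMap v.A v.K) := by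
    have hh : Spec.map (CommRingCat.ofHom (algebraMap B L)) ≫ Spec.map φ =
        Spec.map ψ ≫ Spec.map (CommRingCat.ofHom (algebraMap v.A v.K)) := by
      rw [hφ, ← Category.assoc, hlU, hψ, Category.assoc, Category.assoc]
      exact congrArg (W.left.fromSpecResidueField w ≫ ·) (congrArg CommaMorphism.left hWA)
    rw [← Spec.map_comp, ← Spec.map_comp] at hh
    exact congrArg CommRingCat.Hom.hom (Spec.map_injective hh)
  have hloc : IsLocalHom φ.hom := by
    rw [isLocalHom_iff_comap_closedPoint]
    change Spec.map φ (closedPoint B) = closedPoint v.A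
    rw [hφ, Scheme.Hom.comp_apply, Scheme.Hom.comp_apply]
    rw [show Spec.map cB (closedPoint B) = closedPoint (U.left.presheaf.stalk u) from
      comap_closedPoint (S := B) (c.hom.codRestrict B.toSubring hB), U.left.fromSpecStalk_closedPoint]
    refine (Points.schemeEquiv v.ptA).injective ?_
    show Points.ofScheme v.ptA _ = Points.ofScheme v.ptA _
    rw [← ofPt_map, hhA, ← Points.map_ofPt, hq]
  let e : v.DomExt :=
    { A' := B, K' := L, φ := φ.hom, ψ := ψ.hom, comm := hcomm, isLocalHom := hloc }
  have hlw : lU ≫ U.hom = Spec.map φ ≫ v.str := by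
    rw [hφ, Category.assoc]
    exact congrArg (lU ≫ ·) (Over.w hA).symm
  let lA : e.ptA' ⟶ U := Over.homMk lU hlw
  have hfs := finite_separable_residue (W := W.left) (K := v.K) (ha.1.snd t).left w ψ hψ
  refine ⟨e, hfs, fun hA' => isDiscreteValuationRing_of_finite hA' B ψ.hom hfs φ.hom hcomm,
    (yon S).map lA ≫ a ≫ pullback.fst f v.bot, ?_, ?_⟩
  · let w' : e.ptK' ⟶ W := Over.homMk (W.left.fromSpecResidueField w) (by
      change W.left.fromSpecResidueField w ≫ W.hom =
        Spec.map (CommRingCat.ofHom (algebraMap B L)) ≫ Spec.map φ ≫ v.str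
      rw [← hlw, ← Category.assoc (Spec.map _), hlU, Category.assoc, Over.w mfst])
    let jK : e.ptK' ⟶ e.ptA' :=
      Over.homMk (Spec.map (CommRingCat.ofHom (algebraMap e.A' e.K'))) rfl
    have hj : jK ≫ lA = w' ≫ mfst := Over.OverMorphism.ext hlU
    refine (Category.assoc _ _ _).symm.trans ?_
    rw [← Functor.map_comp, hj]
    rw [Functor.map_comp, Category.assoc, hmfst, reassoc_of% sqW.w, ← Category.assoc,
      ← Functor.map_comp, show t ≫ pullback.fst f v.bot = v.top from sq.lift_fst _ _ _]
    congr 2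
    exact Over.OverMorphism.ext hψ.symm
  · rw [Category.assoc, Category.assoc, sq.w, show a ≫ pullback.snd f v.bot ≫ v.bot =
      (a ≫ s) ≫ v.bot from (Category.assoc _ _ _).symm, ← hhA, ← Category.assoc, ← Functor.map_comp]
    congr 2
    exact Over.OverMorphism.ext hφ.symm


/-- A universally closed decent morphism has dotted arrows after finite separable extensions. -/
theorem exists_lift_of_univClosed (hX : IsAlgSpace X) (hY : IsAlgSpace Y) {f : X ⟶ Y}
    (hd : IsDecentMor f) (hc : IsUnivClosedMor f) (v : ValSq f) :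
    ∃ e : v.DomExt, (letI := e.ψ.toAlgebra; Module.Finite v.K e.K' ∧ Algebra.IsSeparable v.K e.K') ∧
      (IsDiscreteValuationRing v.A → IsDiscreteValuationRing e.A') ∧ e.HasLift := by
  have sq := IsPullback.of_hasPullback f v.bot
  let P := pullback f v.bot
  let s := pullback.snd f v.bot
  have hP : IsAlgSpace P := isAlgSpace_of_isPullback hY.diag hX (IsAlgSpace.yon_obj _) sq
  let t : (yon S).obj v.ptK ⟶ P := sq.lift v.top ((yon S).map v.j) v.comm
  have hts : t ≫ s = (yon S).map v.j := sq.lift_snd _ _ _
  let x : Points P := Points.ofPt t (closedPoint v.K)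
  have hcl : IsClosedMap (Points.map s) :=
    univSp_of_isPullback sq hc (IsAlgSpace.yon_obj _) (𝟙 _) (𝟙 _) _ IsPullback.of_id_fst
  obtain ⟨q, hxq, hq⟩ : ∃ q : Points P, x ⤳ q ∧
      Points.map s q = Points.ofScheme v.ptA (closedPoint v.A) := by
    refine (hcl.specializingMap (?_ : Points.map s x ⤳ Points.ofScheme v.ptA (closedPoint v.A)))
    rw [show Points.map s x = Points.ofScheme v.ptA (v.j.left (closedPoint v.K)) by
      rw [Points.map_ofPt, hts, ofPt_map]]
    exact (specializes_closedPoint _).map (Points.schemeHomeo v.ptA).continuous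
  obtain ⟨U₀, a₀, ha₀, has₀⟩ := hP.atlas
  obtain ⟨u₀, hu₀⟩ := surjective_ofPt has₀ q
  obtain ⟨_, ⟨(O : U₀.left.Opens), hO, rfl⟩, huO, -⟩ :=
    U₀.left.isBasis_affineOpens.exists_subset_of_mem_open (Set.mem_univ u₀) isOpen_univ
  let U : Over S := Over.mk (O.ι ≫ U₀.hom)
  let a := (yon S).map (Over.homMk O.ι rfl : U ⟶ U₀) ≫ a₀
  have ha : RepWith @Etale a := repWith_comp (repWith_etale_openMk O) ha₀
  have hUa : IsAffine U.left := hO
  let u : U.left := ⟨u₀, huO⟩
  have hu : Points.ofPt a u = q := (ofPt_openMk O a₀ u).trans hu₀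
  obtain ⟨n, hn, hne⟩ := Pt.exists_gen_lift hP hxq (hd v.bot (pullback.fst f v.bot) s sq x) ha u hu
  exact exists_lift_of_chart hY hX v a ha u n (by rw [hu]; exact hq) hn hne

/-- The existence part holds with finite separable extensions. -/
theorem exists_lift_of_existVC (hX : IsAlgSpace X) (hY : IsAlgSpace Y) {f : X ⟶ Y} (hf : ExistVC f) (v : ValSq f) :
    ∃ e : v.DomExt, (letI := e.ψ.toAlgebra; Module.Finite v.K e.K' ∧ Algebra.IsSeparable v.K e.K') ∧
      e.HasLift := by
  obtain ⟨e, l, hl₁, hl₂⟩ := hf v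
  have sq := IsPullback.of_hasPullback f v.bot
  have hP : IsAlgSpace (pullback f v.bot) := isAlgSpace_of_isPullback hY.diag hX (IsAlgSpace.yon_obj _) sq
  let iA : e.ptA' ⟶ v.ptA := Over.homMk (Spec.map (CommRingCat.ofHom e.φ)) rfl
  let iK : e.ptK' ⟶ v.ptK := Over.homMk (Spec.map (CommRingCat.ofHom e.ψ)) (by
    change Spec.map _ ≫ Spec.map _ ≫ _ = Spec.map _ ≫ Spec.map _ ≫ _
    rw [← Spec.map_comp_assoc, ← Spec.map_comp_assoc, ← CommRingCat.ofHom_comp,
      ← CommRingCat.ofHom_comp, e.comm])
  let jK : e.ptK' ⟶ e.ptA' := Over.homMk (Spec.map (CommRingCat.ofHom (algebraMap e.A' e.K'))) rfl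
  have hi : jK ≫ iA = iK ≫ v.j := by
    ext1
    show Spec.map _ ≫ Spec.map _ = Spec.map _ ≫ Spec.map _
    rw [← Spec.map_comp, ← Spec.map_comp, ← CommRingCat.ofHom_comp, ← CommRingCat.ofHom_comp, e.comm]
  let l' := sq.lift l ((yon S).map iA) hl₂
  let t := sq.lift v.top ((yon S).map v.j) v.comm
  have ht : (yon S).map jK ≫ l' = (yon S).map iK ≫ t := by
    apply sq.hom_ext
    · rw [Category.assoc, Category.assoc, sq.lift_fst, sq.lift_fst]; exact hl₁
    · rw [Category.assoc, Category.assoc, sq.lift_snd, sq.lift_snd, ← Functor.map_comp, ← Functor.map_comp, hi]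
  let η : e.ptA'.left := jK.left (closedPoint e.K')
  obtain ⟨U, a, hU, ha, u, hu⟩ := exists_affine_etale_nhd hP (Points.ofPt l' (closedPoint e.A'))
  haveI := hU
  obtain ⟨R, π₁, π₂, sR⟩ := exists_isPullback_of_representable (hP.representable_from_yon l') a
  haveI : Etale π₁.left := repWith_prop ha sR.flip
  obtain ⟨r, hr₁, hr₂⟩ := exists_point_of_isPullback sR
    (x := Points.ofScheme e.ptA' (closedPoint e.A')) (u := u)
    (by rw [← Points.ofPt_eq_map_ofScheme, hu])
  have hr : π₁.left r = closedPoint e.A' := (Points.schemeEquiv e.ptA').injective (by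
    show Points.ofScheme e.ptA' _ = Points.ofScheme e.ptA' _
    rw [← ofPt_map, hr₁])
  obtain ⟨r', hs, hr'⟩ := Flat.generalizingMap π₁.left
    (show η ⤳ π₁.left r from hr ▸ specializes_closedPoint η)
  have h₁ : Points.map (pullback.snd f v.bot) (Points.ofPt a u) = Points.ofScheme v.ptA (closedPoint v.A) := by
    rw [hu, Points.map_ofPt, sq.lift_snd, ofPt_map]
    congr 1
    haveI : IsLocalHom e.φ := e.isLocalHom
    exact comap_closedPoint (S := e.A') e.φ
  have h₃ : Points.ofPt a (π₂.left r') = Points.ofPt t (closedPoint v.K) := by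
    rw [← ofPt_comp, ← sR.w, ofPt_comp, hr', ← ofPt_comp, ht, ofPt_comp]
    exact congrArg _ (Subsingleton.elim (α := PrimeSpectrum v.K) _ _)
  obtain ⟨e', h1, -, h2⟩ :=
    exists_lift_of_chart hY hX v a ha u (π₂.left r') h₁ (hr₂ ▸ hs.map π₂.left.continuous) h₃
  exact ⟨e', h1, h2⟩

/-- Universally closed decent morphisms satisfy the existence part. -/
theorem existVC (hX : IsAlgSpace X) (hY : IsAlgSpace Y) {f : X ⟶ Y}
    (hd : IsDecentMor f) (hc : IsUnivClosedMor f) : ExistVC f := fun v => by
  obtain ⟨e, -, -, h⟩ := exists_lift_of_univClosed hX hY hd hc v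
  exact ⟨e, h⟩

/-- Discrete valuation rings detect closedness over a Noetherian affine scheme. -/
theorem isClosedMap_of_dvr {W : Over S} [IsAffine W.left] [IsLocallyNoetherian W.left]
    {π : P ⟶ (yon S).obj W} (hft : LocP @LocallyOfFiniteType π) (hq : IsQuasiCompactSp P)
    (heP : ∀ v : ValSq π, IsDiscreteValuationRing v.A → v.HasLiftExt) : IsClosedMap (Points.map π) := by
  obtain ⟨U, a, ha, has, hU⟩ := hq
  have : CompactSpace U.left := hU
  obtain ⟨φ, hφ⟩ := (yon S).map_surjective (a ≫ π)
  haveI : LocallyOfFiniteType φ.left := hft a (𝟙 _) φ ha (repWith_id _ _) (by rw [Category.comp_id, hφ])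
  intro A hA
  let C : Set U.left := Points.ofPt a ⁻¹' A
  have hC : IsClosed C := hA.preimage (Points.continuous_ofPt a)
  have hkey : Points.map π '' A = Points.schemeHomeo W '' (φ.left '' C) := by
    rw [show A = Points.ofPt a '' C from (Set.image_preimage_eq _ (surjective_ofPt has)).symm,
      Set.image_image, Set.image_image]
    refine Set.image_congr fun x _ => ?_
    rw [Points.map_ofPt, ← hφ, ofPt_map]
    rfl
  rw [hkey]
  refine (Points.schemeHomeo W).isClosedMap _ ?_
  have hstab : StableUnderSpecialization (φ.left '' C) := by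
    rintro _ y h ⟨x', hx', rfl⟩
    by_cases hne : y = φ.left x'
    · exact ⟨x', hx', hne.symm⟩
    obtain ⟨B, b₀, hBd, hb₀, w'⟩ := Groth.Agent.S4450.result φ.left x' y h hne
    have w : U.left.fromSpecResidueField x' ≫ φ.left =
        Spec.map (CommRingCat.ofHom (algebraMap B (U.left.residueField x'))) ≫ b₀ := w'.symm
    let str : Spec (CommRingCat.of B) ⟶ S := b₀ ≫ W.hom
    let ptK : Over S :=
      Over.mk (Spec.map (CommRingCat.ofHom (algebraMap B (U.left.residueField x'))) ≫ str)
    let t : ptK ⟶ U := Over.homMk (U.left.fromSpecResidueField x') (by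
      change U.left.fromSpecResidueField x' ≫ U.hom = _
      rw [← Over.w φ, ← Category.assoc, w]
      simp [ptK, str])
    let b : Over.mk str ⟶ W := Over.homMk b₀ rfl
    let v : ValSq π :=
      { A := B, K := U.left.residueField x', str := str, top := (yon S).map t ≫ a,
        bot := (yon S).map b,
        comm := by
          rw [Category.assoc, ← hφ, ← Functor.map_comp, ← Functor.map_comp]
          congr 1
          exact Over.OverMorphism.ext w }
    obtain ⟨e, l, hl₁, hl₂⟩ := heP v hBd
    let q := Points.ofPt l (closedPoint e.A')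
    have hgen : Points.ofPt l (Spec.map (CommRingCat.ofHom (algebraMap e.A' e.K')) (closedPoint e.K')) =
        Points.ofPt a x' := by
      refine (ofPt_comp (Over.homMk (Spec.map (CommRingCat.ofHom (algebraMap e.A' e.K'))) rfl :
        e.ptK' ⟶ e.ptA') l _).symm.trans ?_
      rw [hl₁, ofPt_comp, show v.top = (yon S).map t ≫ a from rfl, ofPt_comp]
      exact congrArg (Points.ofPt a) (Scheme.fromSpecResidueField_apply _ _)
    have hsp : Spec.map (CommRingCat.ofHom (algebraMap e.A' e.K')) (closedPoint e.K') ⤳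
        closedPoint e.A' := specializes_closedPoint _
    have hqA : q ∈ A := by
      have := hsp.mem_closed (hA.preimage (Points.continuous_ofPt l))
        (show Points.ofPt l _ ∈ A by rw [hgen]; exact hx')
      exact this
    obtain ⟨x, hx⟩ := surjective_ofPt has q
    refine ⟨x, show Points.ofPt a x ∈ A by rw [hx]; exact hqA, (Points.schemeEquiv W).injective ?_⟩
    show Points.ofScheme W (φ.left x) = Points.ofScheme W y
    rw [← ofPt_map, hφ, ← Points.map_ofPt, hx, Points.map_ofPt, hl₂, ofPt_comp]
    rw [show v.bot = (yon S).map b from rfl, ofPt_map]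
    refine congrArg (Points.ofScheme W) ?_
    change (Spec.map (CommRingCat.ofHom e.φ) ≫ b₀) (closedPoint e.A') = y
    have he' : IsLocalHom e.φ := e.isLocalHom
    have h₁ : Spec.map (CommRingCat.ofHom e.φ) (closedPoint e.A') = closedPoint B :=
      comap_closedPoint (S := e.A') e.φ
    rw [Scheme.Hom.comp_apply, h₁]
    exact hb₀
  obtain ⟨R, r, hr⟩ := compactSpace_iff_exists.mp hU
  rw [show φ.left '' C = (r ≫ φ.left) '' (r ⁻¹' C) by
    rw [Scheme.Hom.comp_base, TopCat.coe_comp, Set.image_comp, Set.image_preimage_eq _ hr]] at hstab ⊢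
  obtain ⟨ψ, hψ⟩ := Spec.homEquiv.symm.surjective (r ≫ φ.left ≫ W.left.isoSpec.hom)
  have h2 := PrimeSpectrum.isClosed_image_of_stableUnderSpecialization ψ.hom _
    (hC.preimage r.continuous)
  have e2 : (Spec.homEquiv.symm ψ : Spec R ⟶ _) '' (r ⁻¹' C) =
      W.left.isoSpec.hom '' ((r ≫ φ.left) '' (r ⁻¹' C)) := by
    rw [hψ, Set.image_image]; rfl
  have hh := W.left.isoSpec.hom.homeomorph
  have h3 : StableUnderSpecialization (W.left.isoSpec.hom '' ((r ≫ φ.left) '' (r ⁻¹' C))) :=
    hstab.image W.left.isoSpec.hom.homeomorph.isClosedMap.specializingMap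
  rw [← e2] at h3
  have h4 := h2 h3
  have h5 : IsClosed (W.left.isoSpec.hom '' ((r ≫ φ.left) '' (r ⁻¹' C))) := e2 ▸ h4
  exact (W.left.isoSpec.hom.homeomorph.isClosed_image).1 h5


/-- The discrete valuation ring criterion of universal closedness. -/
theorem isUnivClosedMor_of_dvr (hX : IsAlgSpace X) (hY : IsAlgSpace Y) {f : X ⟶ Y}
    (hf : IsFiniteTypeMor f) (hN : IsLocNoethSp Y)
    (hval : ∀ v : ValSq f, IsDiscreteValuationRing v.A → v.HasLiftExt) : IsUnivClosedMor f := by
  obtain ⟨V, p, hp, hps, hV⟩ := hN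
  have : IsLocallyNoetherian V.left := hV
  refine isUnivClosedMor_of_affineOpens hX hY hf.2 hp hps fun n C j hj g _ hg Q k π sqX => ?_
  let T : Over S := Over.mk (j ≫ (affOver V (ULift.{u} (Fin n))).hom)
  have : LocallyOfFiniteType (affProj V (ULift.{u} (Fin n))).left := by
    have : LocallyOfFinitePresentation (affProj V (ULift.{u} (Fin n))).left :=
      inferInstanceAs (LocallyOfFinitePresentation (𝔸(ULift.{u} (Fin n); V.left) ↘ V.left))
    infer_instance
  have hT : IsLocallyNoetherian (affOver V (ULift.{u} (Fin n))).left :=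
    LocallyOfFiniteType.isLocallyNoetherian (affProj V (ULift.{u} (Fin n))).left
  have : IsLocallyNoetherian T.left := LocallyOfFiniteType.isLocallyNoetherian j
  have : IsAffine T.left := inferInstanceAs (IsAffine (Spec C))
  have hQ : IsAlgSpace Q := isAlgSpace_of_isPullback hY.diag hX (IsAlgSpace.yon_obj T) sqX
  exact isClosedMap_of_dvr (locP_of_isPullback etLocal_lft hX hY (IsAlgSpace.yon_obj T) sqX hf.1)
    (hf.2 (IsAlgSpace.yon_obj T) isQuasiCompactSp_of_compactSpace _ k π sqX)
    fun w hw => hasLiftExt_of_isPullback sqX w (hval (pushSq sqX w) hw)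

end Groth.L23.DecVC
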