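import Groth.Agent.L23.DeformChart
import Groth.Agent.L23.FlatLocus
import Groth.Agent.L20.ThickeningFibre

/-!
# Flatness of deformed morphisms of algebraic spaces
-/

universe u

open CategoryTheory CategoryTheory.Limits AlgebraicGeometry AlgSp

set_option backward.isDefEq.respectTransparency.types false

namespace Groth.L23

variable {S : Scheme.{u}} {X X' Y Y' B B' : Sp S} {iX : X ⟶ X'} {iY : Y ⟶ Y'} {iB : B ⟶ B'}
    {f : X ⟶ Y} {f' : X' ⟶ Y'} {g : Y ⟶ B} {g' : Y' ⟶ B'}

theorem flat_deform_conclusion (D : DeformChart iX iY iB f f' g g') (hflat : LocP @Flat (f' ≫ g'))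
    (h : Flat D.h'.left) :
    LocP @Flat f' ∧ ∀ x' : Points X', IsFlatAtMor g' (Points.map f' x') := by
  refine ⟨(D.locP_iff' etLocal_flat).2 h, fun x' => ?_⟩
  obtain ⟨u', rfl⟩ := surjective_ofPt D.has' x'
  have : Flat (D.h'.left ≫ D.k'.left) := D.locP_comp_apply hflat
  rw [Points.map_ofPt, D.w₁', ofPt_comp, isFlatAtMor_ofPt_iff D.hb' D.hc' D.w₂']
  exact Groth.L20.flat_stalkMap_of_comp D.h'.left D.k'.left u' (Flat.stalkMap _ u') (Flat.stalkMap _ u')

theorem flat_of_deform_space (D : DeformChart iX iY iB f f' g g') (hB : IsFinThickMor iB)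
    (hflat : LocP @Flat (f' ≫ g')) (hf : LocP @Flat f) :
    LocP @Flat f' ∧ ∀ x' : Points X', IsFlatAtMor g' (Points.map f' x') := by
  have hS := D.isFiniteOrderThickening hB
  have := hS.1.1
  have : Flat (D.h'.left ≫ D.k'.left) := D.locP_comp_apply hflat
  have : Flat D.h.left := (D.locP_iff etLocal_flat).1 hf
  exact flat_deform_conclusion D hflat
    (Groth.L20.Thick.flat_of_deform hS.2 D.sqU D.sqV D.w)

theorem flat_of_deform_space_fp (D : DeformChart iX iY iB f f' g g') (hB : IsThickMor iB)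
    (hg' : LocP @LocallyOfFiniteType g') (hflat : LocP @Flat (f' ≫ g'))
    (hfp : LocP @LocallyOfFinitePresentation (f' ≫ g')) (hf : LocP @Flat f) :
    LocP @Flat f' ∧ ∀ x' : Points X', IsFlatAtMor g' (Points.map f' x') := by
  have : Flat (D.h'.left ≫ D.k'.left) := D.locP_comp_apply hflat
  have : LocallyOfFinitePresentation (D.h'.left ≫ D.k'.left) := D.locP_comp_apply hfp
  have : LocallyOfFiniteType D.k'.left := D.locP_apply_right hg'
  have : Flat D.h.left := (D.locP_iff etLocal_flat).1 hf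
  exact flat_deform_conclusion D hflat
    (Groth.L20.Thick.flat_of_deform_fp (D.isThickening hB) D.sqU D.sqV D.w)

end Groth.L23
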