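import Groth.Agent.L23.ThickSplit
import Groth.Agent.L23.EtaleSplit
import Groth.Agent.L23.AffineMor
import Groth.Agent.L23.Compact
import Groth.Agent.L23.Refined
import Groth.Agent.L23.AlgSpace

/-!
# A thickening of a space integral over an affine scheme is affine
-/

universe u

open CategoryTheory CategoryTheory.Limits AlgebraicGeometry AlgSp

set_option backward.isDefEq.respectTransparency.types false

namespace Groth.L23

variable {S : Scheme.{u}}

/-- An algebraic space over an affine scheme with a thickened subspace integral over it is affine. -/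
theorem exists_affine_of_thickening_integral {P : Sp S} (hP : IsAlgSpace P) {V P₀ : Over S}
    [IsAffine V.left] (q : P ⟶ (yon S).obj V) {i : (yon S).obj P₀ ⟶ P} (hi : IsThickMor i)
    {k : P₀ ⟶ V} [IsIntegralHom k.left] (w : i ≫ q = (yon S).map k) :
    ∃ (A : Over S) (e : P ⟶ (yon S).obj A) (ā : A ⟶ V), IsAffine A.left ∧ IsIso e ∧
      e ≫ (yon S).map ā = q := by
  have : IsAffine P₀.left := isAffine_of_isAffineHom k.left
  have his : Function.Surjective (Points.map i) :=
    surjective_map_of_repWith (repWith_mono (fun φ (h : MoreMor.IsThickening φ) => h.2) hi)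
  obtain ⟨D, sD, a, ha, has⟩ := exists_affine_atlas
    (qcSp_of_surjective hP i his isQuasiCompactSp_of_compactSpace)
  let U : Over S := Over.mk sD
  have : IsAffine U.left := inferInstanceAs (IsAffine (Spec D))
  obtain ⟨U₀, u, π, sq⟩ := exists_isPullback_of_representable ha.1 i
  have hu : MoreMor.IsThickening u.left := repWith_prop hi sq.flip
  obtain ⟨_, _⟩ := hu
  have : IsAffine U₀.left := isAffine_of_isAffineHom u.left
  have : Etale π.left := repWith_prop ha sq
  have : Surjective π.left := repWith_prop has sq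
  obtain ⟨T, v, hT, hv, hvs, τ₀, hτ₀⟩ := exists_etale_section k.left π.left
  let V' : Over S := Over.mk (v ≫ V.hom)
  let ev : V' ⟶ V := Over.homMk v rfl
  have : IsAffine V'.left := hT
  -- base changes along `ev`
  let R : Over S := Over.mk (pullback.fst k.left v ≫ P₀.hom)
  let pr : R ⟶ P₀ := Over.homMk (pullback.fst k.left v) rfl
  let k' : R ⟶ V' := Over.homMk (pullback.snd k.left v) (by
    show _ ≫ v ≫ V.hom = _ ≫ P₀.hom
    rw [← pullback.condition_assoc, Over.w k])
  have sR : IsPullback pr k' k ev :=
    IsPullback.of_map (Over.forget S) (Over.OverMorphism.ext pullback.condition)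
      (IsPullback.of_hasPullback k.left v)
  let τU : R ⟶ U₀ := Over.homMk τ₀ (by
    show _ = pullback.fst k.left v ≫ P₀.hom
    rw [← Over.w π, ← hτ₀, Category.assoc])
  have hτU : τU ≫ π = pr := Over.OverMorphism.ext hτ₀
  have sqP := IsPullback.of_hasPullback q ((yon S).map ev)
  set fstP := pullback.fst q ((yon S).map ev)
  set sndP := pullback.snd q ((yon S).map ev)
  let i' : (yon S).obj R ⟶ pullback q ((yon S).map ev) :=
    sqP.lift ((yon S).map pr ≫ i) ((yon S).map k') (by
      rw [Category.assoc, w, ← Functor.map_comp, ← Functor.map_comp, sR.w])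
  have si : IsPullback ((yon S).map pr) i' i fstP :=
    IsPullback.of_bot (by rw [show i' ≫ sndP = (yon S).map k' from sqP.lift_snd _ _ _, w]; exact sR.map (yon S))
      (sqP.lift_fst _ _ _).symm sqP
  have hi' : IsThickMor i' := repWith_of_isPullback si hi
  obtain ⟨kU, hkU⟩ := (yon S).map_surjective (a ≫ q)
  let U' := pullback kU ev
  let pU : U' ⟶ U := pullback.fst kU ev
  let kU' : U' ⟶ V' := pullback.snd kU ev
  have sU : IsPullback pU kU' kU ev := IsPullback.of_hasPullback _ _
  have : IsAffine U'.left := IsAffine.of_isPullback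
    (show IsPullback pU.left kU'.left kU.left ev.left from sU.map (Over.forget S))
  let a' : (yon S).obj U' ⟶ pullback q ((yon S).map ev) :=
    sqP.lift ((yon S).map pU ≫ a) ((yon S).map kU') (by
      rw [Category.assoc, ← hkU, ← Functor.map_comp, ← Functor.map_comp, sU.w])
  have sa : IsPullback ((yon S).map pU) a' a fstP :=
    IsPullback.of_bot (by rw [show a' ≫ sndP = (yon S).map kU' from sqP.lift_snd _ _ _, ← hkU]
                          exact sU.map (yon S))
      (sqP.lift_fst _ _ _).symm sqP
  have ha' : RepWith @Etale a' := repWith_of_isPullback sa ha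
  let U₀' := pullback π pr
  let π' : U₀' ⟶ R := pullback.snd π pr
  have sπ : IsPullback (pullback.fst π pr) π' π pr := IsPullback.of_hasPullback _ _
  obtain ⟨u', hu'⟩ : ∃ u' : U₀' ⟶ U', (yon S).map u' =
      sa.lift ((yon S).map (pullback.fst π pr ≫ u)) ((yon S).map π' ≫ i') (by
        rw [Category.assoc _ i', ← si.w, ← Category.assoc ((yon S).map π'), ← Functor.map_comp, ← sπ.w,
          Functor.map_comp, Functor.map_comp, Category.assoc, Category.assoc, sq.w]) :=
    (yon S).map_surjective _
  have sq' : IsPullback ((yon S).map u') ((yon S).map π') a' i' := by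
    refine IsPullback.of_right ?_ (by rw [hu', sa.lift_snd]) sa
    rw [hu', sa.lift_fst, ← si.w, Functor.map_comp]
    exact (sπ.map (yon S)).paste_horiz sq
  let τ' : R ⟶ U₀' := sπ.lift τU (𝟙 R) (by rw [hτU, Category.id_comp])
  have : IsAffine R.left := IsAffine.of_isPullback
    (show IsPullback pr.left k'.left k.left ev.left from sR.map (Over.forget S))
  obtain ⟨G, e, hG, he⟩ := exists_affine_of_thickening_split hi' ha' sq' (τ := τ') (sπ.lift_snd _ _ _)
  obtain ⟨g, hg⟩ := (yon S).map_surjective (e ≫ sndP)
  have sG : IsPullback (e ≫ fstP) ((yon S).map g) q ((yon S).map ev) :=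
    sqP.of_iso (asIso e).symm (Iso.refl _) (Iso.refl _) (Iso.refl _) (by simp) (by simp [hg]) (by simp)
      (by simp)
  have : Etale ev.left := hv
  have : Surjective ev.left := hvs
  exact exists_affine_of_etale_cover ev sG

/-- A morphism with a thickening of the source integral over an affine target is affine. -/
theorem isAffineMor_of_thickening_integral {X X' Y' : Sp S} (hX' : IsAlgSpace X') (hY' : IsAlgSpace Y')
    {i : X ⟶ X'} (hi : IsThickMor i) {f' : X' ⟶ Y'} (h : IsIntegralMor (i ≫ f')) : IsAffineMor f' := by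
  intro Z hZ g
  obtain ⟨W, j, fst, sq, hW⟩ : ∃ (W : Over S) (j : W ⟶ Z) (fst : (yon S).obj W ⟶ X),
      IsPullback fst ((yon S).map j) (i ≫ f') g ∧ IsIntegralHom j.left := by
    obtain ⟨W, j, fst, sq⟩ : ∃ (W : Over S) (j : W ⟶ Z) (fst : (yon S).obj W ⟶ X),
        IsPullback fst ((yon S).map j) (i ≫ f') g :=
      ⟨_, _, _, (isIntegralMor_iff.1 h).1.isPullback g⟩
    exact ⟨W, j, fst, sq, repWith_prop (isIntegralMor_iff.1 h) sq⟩
  have sqQ := IsPullback.of_hasPullback f' g
  let iQ : (yon S).obj W ⟶ pullback f' g :=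
    sqQ.lift (fst ≫ i) ((yon S).map j) (by rw [Category.assoc, sq.w])
  have si : IsPullback fst iQ i (pullback.fst f' g) :=
    IsPullback.of_bot (by rw [sqQ.lift_snd]; exact sq) (sqQ.lift_fst _ _ _).symm sqQ
  obtain ⟨A, e, ā, hA, he, hea⟩ := exists_affine_of_thickening_integral
    (isAlgSpace_of_isPullback hY'.diag hX' (IsAlgSpace.yon_obj Z) sqQ) (pullback.snd f' g)
    (repWith_of_isPullback si hi) (k := j) (sqQ.lift_snd _ _ _)
  exact ⟨A, ā, inv e ≫ pullback.fst f' g, sqQ.of_iso (asIso e) (Iso.refl _) (Iso.refl _) (Iso.refl _)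
    (by simp) (by simp [← hea]) (by simp) (by simp), hA⟩

end Groth.L23
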