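import Groth.Agent.L23.DeformFlat
import Groth.Agent.L23.EtaleMono
import Groth.Agent.L23.ThickIntegral
import Groth.Agent.L20.ThickeningTopology
import Groth.Agent.L23.MorCalc
import Groth.Agent.L23.AffineMor
import Groth.Agent.S1320
import Groth.Agent.S1322
import Groth.Agent.S1385

/-!
# Deforming isomorphisms, open immersions, monomorphisms, finite locally free morphisms
-/

universe u

open CategoryTheory CategoryTheory.Limits AlgebraicGeometry AlgSp

set_option backward.isDefEq.respectTransparency.types false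

namespace Groth.L23

variable {S : Scheme.{u}} {X X' Y Y' B B' : Sp S} {iX : X ⟶ X'} {iY : Y ⟶ Y'} {iB : B ⟶ B'}
    {f : X ⟶ Y} {f' : X' ⟶ Y'} {g : Y ⟶ B} {g' : Y' ⟶ B'}

theorem surjective_of_isThickMor {F G : Sp S} {i : F ⟶ G} (h : IsThickMor i) :
    Function.Surjective (Points.map i) :=
  surjective_map_of_repWith (repWith_mono (fun φ (hφ : MoreMor.IsThickening φ) => hφ.2) h)

/-- The fibre squares of the two sides of a cartesian square. -/
theorem isPullback_self_map (hc : IsPullback iX f f' iY) :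
    IsPullback (pullback.map f f f' f' iX iX iY hc.w.symm hc.w.symm) (pullback.fst f f)
      (pullback.fst f' f') iX := by
  have h₁ : IsPullback (pullback.snd f f ≫ iX) (pullback.fst f f) f' (iX ≫ f') :=
    hc.w ▸ (IsPullback.of_hasPullback f f).flip.paste_horiz hc
  exact IsPullback.of_right
    (show IsPullback (pullback.map f f f' f' iX iX iY hc.w.symm hc.w.symm ≫ pullback.snd f' f')
      (pullback.fst f f) f' (iX ≫ f') by rw [pullback.map, pullback.lift_snd]; exact h₁)
    (by rw [pullback.map, pullback.lift_fst])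
    (IsPullback.of_hasPullback f' f').flip

theorem diagonal_comp_map (hc : IsPullback iX f f' iY) :
    iX ≫ pullback.diagonal f' =
      pullback.diagonal f ≫ pullback.map f f f' f' iX iX iY hc.w.symm hc.w.symm := by
  apply pullback.hom_ext <;> simp [pullback.map, pullback.lift_fst, pullback.lift_snd]

theorem surjective_diagonal_deform (hc : IsPullback iX f f' iY) (hiY : IsThickMor iY)
    (h : Function.Surjective (Points.map (pullback.diagonal f))) :
    IsSurjectiveMor (pullback.diagonal f') := by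
  intro z'
  obtain ⟨z, rfl⟩ := surjective_of_isThickMor
    (repWith_of_isPullback ((isPullback_self_map hc).paste_vert hc).flip hiY) z'
  obtain ⟨x, rfl⟩ := h z
  exact ⟨Points.map iX x, by rw [← Points.map_comp, diagonal_comp_map hc, Points.map_comp]⟩

theorem repWith_isOpenImmersion_deform (hX' : IsAlgSpace X') (hY' : IsAlgSpace Y')
    (hc : IsPullback iX f f' iY) (hiY : IsThickMor iY) (het : LocP @Etale f → LocP @Etale f')
    (hf : RepWith @IsOpenImmersion f) : RepWith @IsOpenImmersion f' := by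
  have : Mono f := mono_of_repWith_openImmersion hf
  have hd : Function.Surjective (Points.map (pullback.diagonal f)) := fun z => by
    have := (pullback.isIso_diagonal_iff f).2 ‹Mono f›
    exact ⟨Points.map (inv (pullback.diagonal f)) z,
      by rw [← Points.map_comp, IsIso.inv_hom_id, Points.map_id]⟩
  exact repWith_isOpenImmersion_of_etale_univInjective hX' hY'
    (het (locP_of_repWith etLocal_etale (repWith_mono (fun φ (_ : IsOpenImmersion φ) =>
      show Etale φ from inferInstance) hf)))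
    (isUnivInjectiveMor_of_surjective_diagonal (surjective_diagonal_deform hc hiY hd))

theorem isIso_deform (hX' : IsAlgSpace X') (hY' : IsAlgSpace Y')
    (hc : IsPullback iX f f' iY) (hiY : IsThickMor iY) (het : LocP @Etale f → LocP @Etale f')
    [IsIso f] : IsIso f' := by
  refine isIso_of_openImmersion_surjective
    (repWith_isOpenImmersion_deform hX' hY' hc hiY het (repWith_of_isIso f)) fun y' => ?_
  obtain ⟨y, rfl⟩ := surjective_of_isThickMor hiY y'
  refine ⟨Points.map iX (Points.map (inv f) y), ?_⟩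
  rw [← Points.map_comp, hc.w, ← Points.map_comp, IsIso.inv_hom_id_assoc]

theorem etale_of_deform_space (hX' : IsAlgSpace X') (hY' : IsAlgSpace Y') (hB' : IsAlgSpace B')
    (hcX : IsPullback iX (f ≫ g) (f' ≫ g') iB) (hcY : IsPullback iY g g' iB)
    (w : iX ≫ f' = f ≫ iY) (hB : IsFinThickMor iB) (hflat : LocP @Flat (f' ≫ g'))
    (h : LocP @Etale f) : LocP @Etale f' := by
  obtain ⟨D⟩ := nonempty_deformChart hX' hY' hB' hcX hcY w (by obtain ⟨n, hn, -⟩ := hB; exact hn)
  have : Flat (D.h'.left ≫ D.k'.left) := D.locP_comp_apply hflat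
  exact (D.locP_iff' etLocal_etale).2 ((Groth.Agent.S1322.result _ _ _ _ _ _ _
    (D.isFiniteOrderThickening hB) D.sqU D.sqV D.w).1 ((D.locP_iff etLocal_etale).1 h))

theorem etale_of_deform_space_fp (hX' : IsAlgSpace X') (hY' : IsAlgSpace Y') (hB' : IsAlgSpace B')
    (hcX : IsPullback iX (f ≫ g) (f' ≫ g') iB) (hcY : IsPullback iY g g' iB)
    (w : iX ≫ f' = f ≫ iY) (hB : IsThickMor iB) (hflat : LocP @Flat (f' ≫ g'))
    (hfp : LocP @LocallyOfFinitePresentation (f' ≫ g')) (hg' : LocP @LocallyOfFiniteType g')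
    (h : LocP @Etale f) : LocP @Etale f' := by
  obtain ⟨D⟩ := nonempty_deformChart hX' hY' hB' hcX hcY w hB
  have : Flat (D.h'.left ≫ D.k'.left) := D.locP_comp_apply hflat
  have : LocallyOfFinitePresentation (D.h'.left ≫ D.k'.left) := D.locP_comp_apply hfp
  have : LocallyOfFiniteType D.k'.left := D.locP_apply_right hg'
  exact (D.locP_iff' etLocal_etale).2 ((Groth.Agent.S1385.result _ _ _ _ _ _ _
    (D.isThickening hB) D.sqU D.sqV D.w).1 ((D.locP_iff etLocal_etale).1 h))

theorem lft_of_deform (hX' : IsAlgSpace X') (hY' : IsAlgSpace Y') (hB' : IsAlgSpace B')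
    (hfp : LocP @LocallyOfFinitePresentation (f' ≫ g')) : LocP @LocallyOfFiniteType f' :=
  locP_of_comp etLocal_lft (fun φ ψ (h : LocallyOfFiniteType (φ ≫ ψ)) => locallyOfFiniteType_of_comp φ ψ)
    hX' hY' hB' (locP_mono (fun φ (h : LocallyOfFinitePresentation φ) => show LocallyOfFiniteType φ from inferInstance) hfp)

theorem mono_deform_of_isIso (hX' : IsAlgSpace X') (hY' : IsAlgSpace Y')
    (hc : IsPullback iX f f' iY) (hiY : IsThickMor iY)
    (het : LocP @Etale (pullback.diagonal f) → LocP @Etale (pullback.diagonal f'))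
    [Mono f] : Mono f' := by
  let m := pullback.map f f f' f' iX iX iY hc.w.symm hc.w.symm
  have hm : IsThickMor m := repWith_of_isPullback ((isPullback_self_map hc).paste_vert hc).flip hiY
  have hc₂ : IsPullback iX (pullback.diagonal f) (pullback.diagonal f') m :=
    IsPullback.of_bot (by rw [pullback.diagonal_fst, pullback.diagonal_fst]; exact IsPullback.of_vert_isIso ⟨by simp⟩)
      (diagonal_comp_map hc) (isPullback_self_map hc)
  have := (pullback.isIso_diagonal_iff f).2 ‹Mono f›
  exact (pullback.isIso_diagonal_iff f').1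
    (isIso_deform hX' (isAlgSpace_of_isPullback hY'.diag hX' hX' (IsPullback.of_hasPullback f' f'))
      hc₂ hm het)

theorem mono_of_deform_space (hX' : IsAlgSpace X') (hY' : IsAlgSpace Y') (hB' : IsAlgSpace B')
    (hcX : IsPullback iX (f ≫ g) (f' ≫ g') iB) (hcY : IsPullback iY g g' iB)
    (w : iX ≫ f' = f ≫ iY) (hB : IsFinThickMor iB) (hflat : LocP @Flat (f' ≫ g')) [Mono f] : Mono f' := by
  have hth : IsThickMor iB := by obtain ⟨n, hn, -⟩ := hB; exact hn
  have hc : IsPullback iX f f' iY := IsPullback.of_bot hcX w hcY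
  refine mono_deform_of_isIso hX' hY' hc (repWith_of_isPullback hcY.flip hth) fun h => ?_
  have sq₂ := ((isPullback_self_map hc).paste_vert hc).paste_vert hcY
  have e : pullback.diagonal f ≫ (pullback.fst f f ≫ f) ≫ g = f ≫ g := by simp
  have e' : pullback.diagonal f' ≫ (pullback.fst f' f' ≫ f') ≫ g' = f' ≫ g' := by simp
  exact etale_of_deform_space hX' (isAlgSpace_of_isPullback hY'.diag hX' hX' (IsPullback.of_hasPullback f' f'))
    hB' (by rw [e, e']; exact hcX) sq₂ (diagonal_comp_map hc) hB (by rw [e']; exact hflat) h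

theorem mono_of_deform_space_fp (hX' : IsAlgSpace X') (hY' : IsAlgSpace Y') (hB' : IsAlgSpace B')
    (hcX : IsPullback iX (f ≫ g) (f' ≫ g') iB) (hcY : IsPullback iY g g' iB)
    (w : iX ≫ f' = f ≫ iY) (hB : IsThickMor iB) (hflat : LocP @Flat (f' ≫ g'))
    (hfp : LocP @LocallyOfFinitePresentation (f' ≫ g')) (hg' : LocP @LocallyOfFiniteType g') [Mono f] :
    Mono f' := by
  have hc : IsPullback iX f f' iY := IsPullback.of_bot hcX w hcY
  refine mono_deform_of_isIso hX' hY' hc (repWith_of_isPullback hcY.flip hB) fun h => ?_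
  have sq₂ := ((isPullback_self_map hc).paste_vert hc).paste_vert hcY
  have e : pullback.diagonal f ≫ (pullback.fst f f ≫ f) ≫ g = f ≫ g := by simp
  have e' : pullback.diagonal f' ≫ (pullback.fst f' f' ≫ f') ≫ g' = f' ≫ g' := by simp
  have hP := isAlgSpace_of_isPullback hY'.diag hX' hX' (IsPullback.of_hasPullback f' f')
  have hlft := lft_of_deform hX' hY' hB' hfp
  have hlft₂ : LocP @LocallyOfFiniteType ((pullback.fst f' f' ≫ f') ≫ g') :=
    locP_comp etLocal_lft hP hY' hB'
      (locP_comp etLocal_lft hP hX' hY'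
        (locP_of_isPullback etLocal_lft hX' hY' hX' (IsPullback.of_hasPullback f' f').flip hlft) hlft) hg'
  exact etale_of_deform_space_fp hX' hP hB' (by rw [e, e']; exact hcX) sq₂ (diagonal_comp_map hc) hB
    (by rw [e']; exact hflat) (by rw [e']; exact hfp) hlft₂ h

theorem finLocFree_of_thickening {W T W₀ T₀ : Scheme.{u}} {s : W ⟶ T} {j : T₀ ⟶ T} {j' : W₀ ⟶ W}
    {s₀ : W₀ ⟶ T₀} [IsAffineHom s] [Flat s] [LocallyOfFinitePresentation s] [IsClosedImmersion j]
    [Surjective j] (sq : IsPullback j' s₀ s j) (h : Mor2.IsFinLocFree s₀) : Mor2.IsFinLocFree s := by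
  obtain ⟨h₁, -, -⟩ := h
  have : Surjective j' := MorphismProperty.of_isPullback sq.flip inferInstance
  have : UniversallyClosed (j' ≫ s) := by rw [sq.w]; infer_instance
  have : UniversallyClosed s := UniversallyClosed.of_comp_surjective j' s
  have : IsIntegralHom s := IsIntegralHom.iff_universallyClosed_and_isAffineHom.2 ⟨inferInstance, inferInstance⟩
  exact ⟨(IsFinite.iff_isIntegralHom_and_locallyOfFiniteType s).2 ⟨inferInstance, inferInstance⟩,
    inferInstance, inferInstance⟩

/-- Finite locally free morphisms deform. -/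
theorem finLocFree_deform (hX' : IsAlgSpace X') (hY' : IsAlgSpace Y') (hc : IsPullback iX f f' iY)
    (hiY : IsThickMor iY) (hfl : LocP @Flat f') (hfp : LocP @LocallyOfFinitePresentation f')
    (hf : IsFinLocFreeMor f) :
    IsFinLocFreeMor f' ∧ ∀ d, IsFinLocFreeOfDegMor d f → IsFinLocFreeOfDegMor d f' := by
  have hint : IsIntegralMor (iX ≫ f') := by
    rw [hc.w]
    exact isIntegralMor_iff.2 (repWith_comp
      (repWith_mono (fun φ (h : Mor2.IsFinLocFree φ) => have := h.1; show IsIntegralHom φ from inferInstance) hf)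
      (repWith_mono (fun φ (h : MoreMor.IsThickening φ) => have := h.1; show IsIntegralHom φ from inferInstance) hiY))
  have haff : RepWith @IsAffineHom f' := repWith_isAffineHom_of_isAffineMor
    (isAffineMor_of_thickening_integral hX' hY' (repWith_of_isPullback hc.flip hiY) hint)
  have key : ∀ ⦃T : Over S⦄ (g : (yon S).obj T ⟶ Y') ⦃W : Over S⦄ (fst : (yon S).obj W ⟶ X') (s : W ⟶ T),
      IsPullback fst ((yon S).map s) f' g → ∃ (W₀ T₀ : Over S) (j' : W₀ ⟶ W) (s₀ : W₀ ⟶ T₀) (jT : T₀ ⟶ T)
        (gT : (yon S).obj T₀ ⟶ Y) (l : (yon S).obj W₀ ⟶ X), IsPullback l ((yon S).map s₀) f gT ∧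
        IsPullback j'.left s₀.left s.left jT.left ∧ IsClosedImmersion jT.left ∧ Surjective jT.left ∧
        Mor2.IsFinLocFree s.left := by
    intro T g W fst s sq
    obtain ⟨T₀, jT, gT, sT⟩ : ∃ (T₀ : Over S) (jT : T₀ ⟶ T) (gT : (yon S).obj T₀ ⟶ Y),
        IsPullback ((yon S).map jT) gT g iY := ⟨_, _, _, (hiY.1.isPullback g).flip⟩
    obtain ⟨_, _⟩ := isThickening_of_isThickMor hiY sT
    have s₀ : IsPullback (pullback.fst s jT) (pullback.snd s jT) s jT := IsPullback.of_hasPullback _ _
    have big : IsPullback ((yon S).map (pullback.fst s jT) ≫ fst) ((yon S).map (pullback.snd s jT)) f'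
        (gT ≫ iY) := sT.w ▸ (s₀.map (yon S)).paste_horiz sq
    let l := hc.lift ((yon S).map (pullback.fst s jT) ≫ fst) ((yon S).map (pullback.snd s jT) ≫ gT)
      (by rw [Category.assoc _ gT, ← big.w, Category.assoc])
    have sl : IsPullback l ((yon S).map (pullback.snd s jT)) f gT :=
      IsPullback.of_right (by rw [hc.lift_fst]; exact big) (hc.lift_snd _ _ _) hc
    have : IsAffineHom s.left := repWith_prop haff sq
    have : Flat s.left := locP_of_isPullback etLocal_flat hX' hY' (IsAlgSpace.yon_obj T) sq hfl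
      (𝟙 _) (𝟙 _) s (repWith_id _ _) (repWith_id _ _) (by simp)
    have : LocallyOfFinitePresentation s.left :=
      locP_of_isPullback etLocal_lfp hX' hY' (IsAlgSpace.yon_obj T) sq hfp
        (𝟙 _) (𝟙 _) s (repWith_id _ _) (repWith_id _ _) (by simp)
    exact ⟨_, _, _, _, _, _, l, sl, s₀.map (Over.forget S), ‹_›, ‹_›,
      finLocFree_of_thickening (s₀ := (pullback.snd s jT).left) (j := jT.left)
        (s₀.map (Over.forget S)) (repWith_prop hf sl)⟩
  refine ⟨⟨haff.1, fun T W g fst s sq => ?_⟩, fun d hd => ⟨haff.1, fun T W g fst s sq => ?_⟩⟩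
  · obtain ⟨W₀, T₀, j', s₀, jT, gT, l, -, -, -, -, h⟩ := key g fst s sq
    exact h
  · obtain ⟨W₀, T₀, j', s₀, jT, gT, l, sl, sq', hci, hsurj, h⟩ := key g fst s sq
    refine ⟨h, fun t => ?_⟩
    have := h.1; have := h.2.1
    obtain ⟨t₀, rfl⟩ := jT.left.surjective t
    have hd₀ : Mor2.IsFinLocFreeOfDeg d s₀.left := repWith_prop hd sl
    exact (Scheme.Hom.finrank_of_isPullback j'.left s₀.left s.left jT.left sq' t₀).symm.trans (hd₀.2 t₀)

theorem flat_lfp_of_deform_space (hX' : IsAlgSpace X') (hY' : IsAlgSpace Y') (hB' : IsAlgSpace B')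
    (hcX : IsPullback iX (f ≫ g) (f' ≫ g') iB) (hcY : IsPullback iY g g' iB)
    (w : iX ≫ f' = f ≫ iY) (hB : IsFinThickMor iB) (hflat : LocP @Flat (f' ≫ g'))
    (h : LocP @Flat f) (h' : LocP @LocallyOfFinitePresentation f) :
    LocP @Flat f' ∧ LocP @LocallyOfFinitePresentation f' := by
  obtain ⟨D⟩ := nonempty_deformChart hX' hY' hB' hcX hcY w (by obtain ⟨n, hn, -⟩ := hB; exact hn)
  have : Flat (D.h'.left ≫ D.k'.left) := D.locP_comp_apply hflat
  exact ⟨(flat_of_deform_space D hB hflat h).1, (D.locP_iff' etLocal_lfp).2 ((Groth.Agent.S1320.result _ _ _ _ _ _ _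
    (D.isFiniteOrderThickening hB) D.sqU D.sqV D.w).1 ((D.locP_iff etLocal_lfp).1 h'))⟩

theorem flat_lfp_of_deform_space_fp (hX' : IsAlgSpace X') (hY' : IsAlgSpace Y') (hB' : IsAlgSpace B')
    (hcX : IsPullback iX (f ≫ g) (f' ≫ g') iB) (hcY : IsPullback iY g g' iB)
    (w : iX ≫ f' = f ≫ iY) (hB : IsThickMor iB) (hflat : LocP @Flat (f' ≫ g'))
    (hfp : LocP @LocallyOfFinitePresentation (f' ≫ g')) (hg' : LocP @LocallyOfFiniteType g')
    (h : LocP @Flat f) : LocP @Flat f' ∧ LocP @LocallyOfFinitePresentation f' := by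
  obtain ⟨D⟩ := nonempty_deformChart hX' hY' hB' hcX hcY w hB
  have : LocallyOfFinitePresentation (D.h'.left ≫ D.k'.left) := D.locP_comp_apply hfp
  have : LocallyOfFiniteType D.k'.left := D.locP_apply_right hg'
  exact ⟨(flat_of_deform_space_fp D hB hg' hflat hfp h).1,
    (D.locP_iff' etLocal_lfp).2 (Groth.L20.locallyOfFinitePresentation_of_comp D.h'.left D.k'.left)⟩

theorem deform_converse (hc : IsPullback iX f f' iY) :
    (IsIso f' → IsIso f) ∧ (RepWith @IsOpenImmersion f' → RepWith @IsOpenImmersion f) ∧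
    (Mono f' → Mono f) ∧ (IsFinLocFreeMor f' → IsFinLocFreeMor f) ∧
    ∀ d, IsFinLocFreeOfDegMor d f' → IsFinLocFreeOfDegMor d f :=
  ⟨fun _ => hc.isIso_snd_of_isIso, fun h => repWith_of_isPullback hc h, fun h => MorphismProperty.of_isPullback (P := MorphismProperty.monomorphisms _) hc h,
    fun h => repWith_of_isPullback hc h, fun _ h => repWith_of_isPullback hc h⟩

end Groth.L23
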