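import Groth.Prelude.Def_CInt
import Mathlib.RingTheory.Unramified.LocalStructure
import Mathlib.RingTheory.AdjoinRoot
import Mathlib.RingTheory.Etale.StandardEtale
import Mathlib.RingTheory.RingHom.Etale
import Mathlib.AlgebraicGeometry.Morphisms.Etale

/-!
# Etale preimages of schematically dense opens are schematically dense
-/

universe u

open CategoryTheory AlgebraicGeometry TopologicalSpace Polynomial

set_option autoImplicit false
set_option linter.style.haveILetI false
set_option backward.isDefEq.respectTransparency.types false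

namespace Groth.L23.DenseEt

/-- The key algebraic step: an element of a ring integral over `A` killed on the opens by powers of `h` is killed
by a power of `h`. -/
theorem exists_pow_mul_eq_zero {A C : Type u} [CommRing A] [CommRing C] [Algebra A C] {ι : Type*}
    (K : ι → Ideal C) (hd : ∀ (a : A) (c : C), (∀ i, ∃ m : ℕ, algebraMap A C a ^ m * c ∈ K i) →
      ∃ L : ℕ, algebraMap A C a ^ L * c = 0)
    (h : C) (hh : IsIntegral A h) (c : C) (hc : ∀ i, ∃ m : ℕ, h ^ m * c ∈ K i) :
    ∃ N : ℕ, h ^ N * c = 0 := by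
  obtain ⟨p, hp, hp0⟩ := hh
  replace hp0 : aeval h p = 0 := hp0
  let a : ℕ → C := fun j => algebraMap A C (p.coeff j)
  suffices key : ∀ j, j ≤ p.natDegree → ∃ N : ℕ, a j ^ N * h ^ N * c = 0 by
    obtain ⟨N, hN⟩ := key p.natDegree le_rfl
    refine ⟨N, ?_⟩
    simpa [a, hp.coeff_natDegree] using hN
  intro j
  induction j using Nat.strong_induction_on with
  | _ j IH =>
    intro hj
    have hex : ∀ i : Fin j, ∃ N : ℕ, a i ^ N * h ^ N * c = 0 := fun i => IH i i.2 (i.2.le.trans hj)
    choose N hN using hex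
    let M := Finset.univ.sup N
    let J : Ideal C := Ideal.span (Set.range fun i : Fin j => a i ^ M)
    have hJ : ∀ x ∈ J, x * (h ^ M * c) = 0 := by
      intro x hx
      induction hx using Submodule.span_induction with
      | mem x hx =>
        obtain ⟨i, rfl⟩ := hx
        obtain ⟨k, hk⟩ := Nat.exists_eq_add_of_le (Finset.le_sup (f := N) (Finset.mem_univ i))
        show a i ^ M * (h ^ M * c) = 0
        rw [show M = N i + k from hk, pow_add, pow_add]
        linear_combination (a i ^ k * h ^ k) * hN i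
      | zero => simp
      | add x y _ _ hx hy => rw [add_mul, hx, hy, add_zero]
      | smul r x _ hx => rw [smul_eq_mul, mul_assoc, hx, mul_zero]
    -- the relation `h ^ j * (a j + h * r) ∈ (a i, i < j)`
    obtain ⟨r, hr⟩ : ∃ r : C, h ^ j * (a j + h * r) = -∑ i ∈ Finset.range j, a i * h ^ i := by
      refine ⟨∑ i ∈ Finset.range (p.natDegree - j), a (j + 1 + i) * h ^ i, ?_⟩
      rw [eq_neg_iff_add_eq_zero, add_comm, ← hp0,
        aeval_eq_sum_range' (n := j + 1 + (p.natDegree - j)) (by omega), Finset.sum_range_add,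
        Finset.sum_range_succ]
      simp only [Algebra.smul_def, a, Finset.mul_sum, mul_add, add_assoc]
      congr 1
      congr 1
      · ring
      · refine Finset.sum_congr rfl fun i _ => ?_
        rw [pow_add, show j + (1 + i) = j + (1 + i) from rfl]
        ring
    obtain ⟨E, hE⟩ : ∃ E : ℕ, (h ^ j * (a j + h * r)) ^ E ∈ J := by
      have hmem : h ^ j * (a j + h * r) ∈ J.radical := by
        rw [hr]
        refine neg_mem (sum_mem fun i hi => Ideal.mul_mem_right _ _ ⟨M, ?_⟩)
        exact Ideal.subset_span ⟨⟨i, Finset.mem_range.1 hi⟩, rfl⟩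
      exact hmem
    obtain ⟨g, hg⟩ : ∃ g : C, (a j + h * r) ^ E = a j ^ E + h * g := by
      obtain ⟨g, hg⟩ : h ∣ (a j + h * r) ^ E - a j ^ E :=
        (Dvd.intro r (by ring : h * r = (a j + h * r) - a j)).trans (sub_dvd_pow_sub_pow _ _ E)
      exact ⟨g, by rw [← hg]; ring⟩
    let c' := h ^ (j * E) * (h ^ M * c)
    have hstep : a j ^ E * c' = -g * h * c' := by
      have := hJ _ hE
      rw [mul_pow, ← pow_mul, hg] at this
      simp only [c']
      linear_combination this
    obtain ⟨L, hL⟩ := hd (p.coeff j) c' fun i => by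
      obtain ⟨m, hm⟩ := hc i
      refine ⟨E * m, ?_⟩
      have hrep : ∀ k, a j ^ (E * k) * c' = (-g) ^ k * h ^ k * c' := by
        intro k
        induction k with
        | zero => simp
        | succ k ih =>
          rw [mul_add, mul_one, pow_add, mul_assoc, hstep, pow_succ, pow_succ]
          linear_combination (-g * h) * ih
      show a j ^ (E * m) * c' ∈ K i
      rw [hrep, show (-g) ^ m * h ^ m * c' = ((-g) ^ m * h ^ (j * E) * h ^ M) * (h ^ m * c) by
        simp only [c']; ring]
      exact Ideal.mul_mem_left _ _ hm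
    refine ⟨L + (j * E + M), ?_⟩
    calc a j ^ (L + (j * E + M)) * h ^ (L + (j * E + M)) * c
        = (a j ^ (j * E + M) * h ^ L) * (a j ^ L * c') := by simp only [c']; ring
      _ = 0 := by rw [show a j ^ L * c' = 0 from hL, mul_zero]

/-- A standard etale algebra over a ring with a dense family of basic opens. -/
theorem eq_zero_of_standardEtale {A B : Type u} [CommRing A] [CommRing B] [Algebra A B]
    [Algebra.IsStandardEtale A B] {ι : Type*} (g : ι → A)
    (hA : ∀ a x : A, (∀ i, ∃ m : ℕ, (a * g i) ^ m * x = 0) → ∃ L : ℕ, a ^ L * x = 0)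
    (b : B) (hb : ∀ i, ∃ m : ℕ, algebraMap A B (g i) ^ m * b = 0) : b = 0 := by
  obtain ⟨⟨P⟩⟩ := ‹Algebra.IsStandardEtale A B›
  let C := AdjoinRoot P.P.f
  let h : C := AdjoinRoot.mk P.P.f P.P.g
  let e := P.equivRing.trans P.P.equivAwayAdjoinRoot
  let pb := AdjoinRoot.powerBasis' P.P.monic_f
  haveI : Module.Finite A C := pb.finite
  obtain ⟨⟨c, ⟨_, n, rfl⟩⟩, hcb⟩ := IsLocalization.surj (Submonoid.powers h) (e b)
  let K : ι → Ideal C := fun i =>
    { carrier := {c | ∃ m : ℕ, algebraMap A C (g i) ^ m * c = 0}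
      add_mem' := by
        rintro x y ⟨m, hm⟩ ⟨k, hk⟩
        refine ⟨m + k, ?_⟩
        rw [pow_add]
        linear_combination (algebraMap A C (g i) ^ k) * hm + (algebraMap A C (g i) ^ m) * hk
      zero_mem' := ⟨0, by simp⟩
      smul_mem' := by
        rintro r x ⟨m, hm⟩
        exact ⟨m, by rw [smul_eq_mul]; linear_combination r * hm⟩ }
  have hd : ∀ (a : A) (x : C), (∀ i, ∃ m : ℕ, algebraMap A C a ^ m * x ∈ K i) →
      ∃ L : ℕ, algebraMap A C a ^ L * x = 0 := by
    intro a x hx
    have hcoord : ∀ l, ∃ L : ℕ, a ^ L * pb.basis.repr x l = 0 := fun l => hA a _ fun i => by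
      obtain ⟨m, k, hk⟩ := hx i
      refine ⟨m + k, ?_⟩
      have h1 : (g i ^ k * a ^ m) • x = 0 := by
        rw [Algebra.smul_def, map_mul, map_pow, map_pow, mul_assoc]
        exact hk
      have h2 := congrArg (fun z => pb.basis.repr z l) h1
      simp only [map_smul, Finsupp.smul_apply, smul_eq_mul, map_zero, Finsupp.coe_zero, Pi.zero_apply] at h2
      rw [mul_pow, pow_add, pow_add]
      linear_combination (g i ^ m * a ^ k) * h2
    choose L hL using hcoord
    refine ⟨Finset.univ.sup L, ?_⟩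
    have h3 : (a ^ Finset.univ.sup L) • x = 0 := by
      apply pb.basis.repr.injective
      ext l
      simp only [map_smul, Finsupp.smul_apply, smul_eq_mul, map_zero, Finsupp.coe_zero, Pi.zero_apply]
      obtain ⟨k, hk⟩ := Nat.exists_eq_add_of_le (Finset.le_sup (f := L) (Finset.mem_univ l))
      rw [hk, pow_add]
      linear_combination (a ^ k) * hL l
    rwa [Algebra.smul_def, map_pow] at h3
  obtain ⟨N, hN⟩ := exists_pow_mul_eq_zero K hd h (IsIntegral.of_finite A h) c fun i => by
    obtain ⟨m, hm⟩ := hb i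
    have h1 : algebraMap C (Localization.Away h) (algebraMap A C (g i) ^ m * c) = 0 := by
      rw [map_mul, ← hcb, map_pow, ← IsScalarTower.algebraMap_apply A C (Localization.Away h), ← mul_assoc]
      have := congrArg e hm
      rw [map_mul, map_pow, AlgEquiv.commutes, map_zero] at this
      rw [this, zero_mul]
    obtain ⟨⟨_, k, rfl⟩, hk⟩ := (IsLocalization.map_eq_zero_iff (Submonoid.powers h) (Localization.Away h) _).1 h1
    exact ⟨k, m, by linear_combination hk⟩
  have hc0 : algebraMap C (Localization.Away h) c = 0 :=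
    (IsLocalization.map_eq_zero_iff (Submonoid.powers h) _ _).2 ⟨⟨_, N, rfl⟩, hN⟩
  rw [hc0] at hcb
  apply e.injective
  rw [map_zero]
  exact (IsLocalization.map_units (Localization.Away h) (⟨_, n, rfl⟩ : Submonoid.powers h)).mul_left_eq_zero.1 hcb

variable {X X' : Scheme.{u}}

/-- Restriction of sections killed on a basic open. -/
theorem exists_pow_mul_eq_zero_of_res {A' : X.Opens} (hA : IsAffineOpen A') (a x : Γ(X, A')) {U : X.Opens}
    (e : X.basicOpen a = U) (hle : U ≤ A') (h : X.presheaf.map (homOfLE hle).op x = 0) :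
    ∃ L : ℕ, a ^ L * x = 0 := by
  subst e
  haveI := hA.isLocalization_basicOpen a
  obtain ⟨⟨_, L, rfl⟩, hL⟩ :=
    (IsLocalization.map_eq_zero_iff (Submonoid.powers a) Γ(X, X.basicOpen a) x).1 h
  exact ⟨L, hL⟩

theorem res_eq_zero_of_pow_mul {A' : X.Opens} (hA : IsAffineOpen A') (a x : Γ(X, A')) (L : ℕ) (hL : a ^ L * x = 0)
    {U : X.Opens} (hU : U ≤ X.basicOpen a) :
    X.presheaf.map (homOfLE (hU.trans (X.basicOpen_le a))).op x = 0 := by
  haveI := hA.isLocalization_basicOpen a
  have h : algebraMap Γ(X, A') Γ(X, X.basicOpen a) x = 0 :=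
    (IsLocalization.map_eq_zero_iff (Submonoid.powers a) Γ(X, X.basicOpen a) x).2 ⟨⟨_, L, rfl⟩, hL⟩
  have h2 := congrArg (X.presheaf.map (homOfLE hU).op) h
  rw [map_zero] at h2
  rw [← h2]
  change _ = X.presheaf.map _ (X.presheaf.map _ x)
  rw [← ConcreteCategory.comp_apply, ← Functor.map_comp]
  rfl

theorem isSchematicallyDense_preimage_of_etale (f : X' ⟶ X) [Etale f] (V : X.Opens)
    (hV : CInt.IsSchematicallyDense V) : CInt.IsSchematicallyDense (f ⁻¹ᵁ V) := by
  intro W
  rw [injective_iff_map_eq_zero]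
  intro s hs
  refine TopCat.Presheaf.section_ext X'.sheaf W s 0 fun x hxW => ?_
  obtain ⟨A', hA', hxA, -⟩ := exists_isAffineOpen_mem_and_subset (x := f x) (U := ⊤) trivial
  obtain ⟨B', hB', hxB, hB⟩ := exists_isAffineOpen_mem_and_subset (x := x) (U := W ⊓ f ⁻¹ᵁ A') ⟨hxW, hxA⟩
  have hBW : B' ≤ W := fun y hy => (hB hy).1
  have hBA : B' ≤ f ⁻¹ᵁ A' := fun y hy => (hB hy).2
  have het : (f.appLE A' B' hBA).hom.Etale := HasRingHomProperty.appLE @Etale f ‹_› ⟨A', hA'⟩ ⟨B', hB'⟩ hBA
  letI := (f.appLE A' B' hBA).hom.toAlgebra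
  haveI : Algebra.Etale Γ(X, A') Γ(X', B') := het
  obtain ⟨q, hq⟩ : ∃ q, q = (hB'.primeIdealOf ⟨x, hxB⟩).asIdeal := ⟨_, rfl⟩
  haveI : q.IsPrime := hq ▸ (hB'.primeIdealOf ⟨x, hxB⟩).isPrime
  obtain ⟨h, hh, hstd⟩ := Algebra.IsEtaleAt.exists_isStandardEtale (R := Γ(X, A')) q
  have hxh : x ∈ X'.basicOpen h := by
    have : hB'.primeIdealOf ⟨x, hxB⟩ ∈ hB'.fromSpec ⁻¹ᵁ X'.basicOpen h := by
      rw [hB'.fromSpec_preimage_basicOpen]
      change h ∉ (hB'.primeIdealOf ⟨x, hxB⟩).asIdeal
      rw [← hq]
      exact hh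
    have h2 : hB'.fromSpec (hB'.primeIdealOf ⟨x, hxB⟩) ∈ X'.basicOpen h := this
    rwa [hB'.fromSpec_primeIdealOf] at h2
  let b := X'.presheaf.map (homOfLE hBW).op s
  let ι := {g : Γ(X, A') // X.basicOpen g ≤ V}
  have key : algebraMap Γ(X', B') (Localization.Away h) b = 0 := by
    refine eq_zero_of_standardEtale (A := Γ(X, A')) (fun g : ι => g.1) (fun a y hy => ?_) _ fun i => ?_
    · have h0 : X.presheaf.map (homOfLE (X.basicOpen_le a)).op y = 0 := by
        apply hV (X.basicOpen a)
        rw [map_zero, ← ConcreteCategory.comp_apply, ← Functor.map_comp]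
        refine TopCat.Presheaf.section_ext X.sheaf _ _ 0 fun z hz => ?_
        obtain ⟨g, hgV, hzg⟩ := hA'.exists_basicOpen_le (V := V) ⟨z, hz.2⟩ (X.basicOpen_le a hz.1)
        obtain ⟨m, hm⟩ := hy ⟨g, hgV⟩
        have hr := res_eq_zero_of_pow_mul hA' (a * g) y m hm (U := X.basicOpen (a * g)) le_rfl
        have hzag : z ∈ X.basicOpen (a * g) := by
          rw [Scheme.basicOpen_mul]; exact ⟨hz.1, hzg⟩
        have := congrArg (X.presheaf.germ _ z hzag) hr
        rw [map_zero, TopCat.Presheaf.germ_res_apply] at this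
        change X.presheaf.germ _ z hz (X.presheaf.map _ y) = X.presheaf.germ _ z hz 0
        erw [TopCat.Presheaf.germ_res_apply, this]
        exact (map_zero _).symm
      exact exists_pow_mul_eq_zero_of_res hA' a y rfl _ h0
    · set g' := algebraMap Γ(X, A') Γ(X', B') i.1 with hg'
      have hle : X'.basicOpen g' ≤ W ⊓ f ⁻¹ᵁ V := by
        refine le_inf ((X'.basicOpen_le _).trans hBW) ?_
        rw [hg', RingHom.algebraMap_toAlgebra, Scheme.basicOpen_appLE]
        exact inf_le_right.trans (f.preimage_mono i.2)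
      have h0 : X'.presheaf.map (homOfLE (X'.basicOpen_le g')).op b = 0 := by
        have := congrArg (X'.presheaf.map (homOfLE hle).op) hs
        rw [map_zero, ← ConcreteCategory.comp_apply, ← Functor.map_comp] at this
        change X'.presheaf.map _ (X'.presheaf.map _ s) = 0
        rw [← ConcreteCategory.comp_apply, ← Functor.map_comp]
        exact this
      obtain ⟨n, hn⟩ := exists_pow_mul_eq_zero_of_res hB' g' b rfl _ h0
      refine ⟨n, ?_⟩
      rw [IsScalarTower.algebraMap_apply Γ(X, A') Γ(X', B') (Localization.Away h), ← map_pow, ← map_mul, hn,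
        map_zero]
  obtain ⟨⟨_, n, rfl⟩, hn⟩ := (IsLocalization.map_eq_zero_iff (Submonoid.powers h) (Localization.Away h) b).1 key
  have hr := congrArg (X'.presheaf.germ _ x hxh) (res_eq_zero_of_pow_mul hB' h b n hn (U := X'.basicOpen h) le_rfl)
  rw [map_zero, TopCat.Presheaf.germ_res_apply] at hr
  change X'.presheaf.germ W x hxW s = X'.presheaf.germ W x hxW 0
  rw [map_zero, ← hr]
  exact (TopCat.Presheaf.germ_res_apply X'.presheaf (homOfLE hBW) x hxB s).symm

end Groth.L23.DenseEt
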