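import Groth.Agent.L23.SchDense
import Groth.Agent.L23.SchKer
import Groth.Agent.L23.Univ
import Groth.Agent.S0451

/-!
# Finite presentation from a dense open subspace
-/

universe u

open CategoryTheory CategoryTheory.Limits AlgebraicGeometry AlgSp

set_option backward.isDefEq.respectTransparency.types false
set_option linter.style.haveILetI false

namespace Groth.L23.DenseLfp

variable {S : Scheme.{u}}

theorem locP_lfp_of_dense {X Y V P : Sp S} {f : X ⟶ Y} {j : V ⟶ Y}
    (hlft : LocP @LocallyOfFiniteType f) (hflat : LocP @Flat f) (hjq : IsQuasiCompactMor j) (hj : IsSchDense j)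
    {fst : P ⟶ X} {snd : P ⟶ V} (sq : IsPullback fst snd f j) (hsnd : LocP @LocallyOfFinitePresentation snd) :
    LocP @LocallyOfFinitePresentation f := by
  intro U T a b h ha hb w
  have : LocallyOfFiniteType h.left := hlft a b h ha hb w
  have : Flat h.left := hflat a b h ha hb w
  let W := preOpen hj.1 b
  obtain ⟨fT, sqT⟩ := exists_isPullback_preOpen hj.1 b
  let W' : Over S := Over.mk (W.ι ≫ T.hom)
  let ι : W' ⟶ T := Over.homMk W.ι rfl
  have : QuasiCompact W.ι := repWith_prop (repWith_quasiCompact_of_isQuasiCompactMor hj.1.1 hjq) sqT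
  have : IsSchemeTheoreticallyDominant W.ι :=
    ⟨Groth.L23.SchKer.ker_ι_eq_bot_of_isSchematicallyDense W (isSchematicallyDense_preOpen hj hb)⟩
  let U' : Over S := Over.mk ((h.left ⁻¹ᵁ W).ι ≫ U.hom)
  let ι' : U' ⟶ U := Over.homMk (h.left ⁻¹ᵁ W).ι rfl
  let h' : U' ⟶ W' := Over.homMk (h.left ∣_ W) (by
    show _ ≫ W.ι ≫ T.hom = _ ≫ U.hom
    rw [← Category.assoc, morphismRestrict_ι, Category.assoc, Over.w h])
  have hh : h' ≫ ι = ι' ≫ h := Over.OverMorphism.ext (morphismRestrict_ι h.left W)
  have hU : IsPullback h' ι' ι h := IsPullback.of_map (Over.forget S) hh (isPullback_morphismRestrict h.left W)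
  -- the restricted chart
  have sqU : IsPullback ((yon S).map h' ≫ fT) ((yon S).map ι') j (a ≫ f) := by
    rw [w]
    exact (hU.map (yon S)).paste_horiz sqT
  let a' : (yon S).obj U' ⟶ P := sq.lift ((yon S).map ι' ≫ a) ((yon S).map h' ≫ fT)
    (by rw [Category.assoc, ← sqU.w])
  have top : IsPullback a' ((yon S).map ι') fst a := by
    refine IsPullback.of_right ?_ (sq.lift_fst _ _ _) sq.flip
    rwa [sq.lift_snd]
  have : LocallyOfFinitePresentation (h.left ∣_ W) :=
    hsnd a' fT h' (repWith_of_isPullback top.flip ha) (repWith_of_isPullback sqT.flip hb) (sq.lift_snd _ _ _)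
  exact Groth.Agent.S0451.result h.left W

end Groth.L23.DenseLfp
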