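import Groth.Agent.L22.DimFormula
import Groth.Agent.L18.UnivCatenary
import Groth.Prelude.Def_Found
import Mathlib.RingTheory.Ideal.Height
import Mathlib.RingTheory.Ideal.KrullsHeightTheorem
import Mathlib.RingTheory.Ideal.Over
import Mathlib.RingTheory.LocalRing.ResidueField.Ideal

/-!
# Dimension functions along finite type ring maps
-/

universe u

set_option linter.style.haveILetI false
set_option backward.isDefEq.respectTransparency.types false

namespace Groth.L23.DimFun

/-- A dimension function on a spectrum. -/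
def IsDim {R : Type u} [CommRing R] (D : PrimeSpectrum R → ℤ) : Prop :=
  ∀ p q : PrimeSpectrum R, p < q →
    D q < D p ∧ ((∀ r, p ≤ r → r ≤ q → r = p ∨ r = q) → D p = D q + 1)

theorem exists_lt_height_eq {R : Type u} [CommRing R] {P : PrimeSpectrum R} {m : ℕ}
    (h : Order.height P = ((m + 1 : ℕ) : ℕ∞)) : ∃ Q < P, Order.height Q = (m : ℕ∞) :=
  (Order.coe_lt_height_iff (h ▸ ENat.coe_lt_top _)).1 (by rw [h]; exact_mod_cast Nat.lt_succ_self m)

theorem height_eq_sub {R : Type u} [CommRing R] [IsDomain R] {D : PrimeSpectrum R → ℤ} (hD : IsDim D) :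
    ∀ (m : ℕ) (P : PrimeSpectrum R), Order.height P = (m : ℕ∞) → D P + (m : ℤ) = D ⊥ := by
  intro m
  induction m with
  | zero =>
    intro P h
    rw [Nat.cast_zero, Order.height_eq_zero] at h
    rw [le_antisymm (h bot_le) bot_le]
    simp
  | succ m ih =>
    intro P h
    obtain ⟨Q, hQP, hQ⟩ := exists_lt_height_eq h
    have h1 := ih Q hQ
    have hstep : D Q = D P + 1 := (hD Q P hQP).2 fun r hr1 hr2 => by
      by_contra hc
      push Not at hc
      have a1 : Q < r := lt_of_le_of_ne hr1 (Ne.symm hc.1)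
      have a2 : r < P := lt_of_le_of_ne hr2 hc.2
      have b1 := Order.height_add_one_le a1
      have b2 := Order.height_add_one_le a2
      rw [hQ] at b1
      rw [h] at b2
      have : ((m : ℕ∞) + 1) + 1 ≤ ((m + 1 : ℕ) : ℕ∞) := le_trans (add_le_add_left b1 1) b2
      norm_cast at this
      omega
    push_cast
    omega

/-- Transcendence degree is invariant under isomorphisms of ring maps of domains. -/
theorem trdeg_eq_of_ringEquiv {A A' B B' : Type u} [CommRing A] [CommRing A'] [CommRing B]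
    [CommRing B'] [IsDomain A] [IsDomain A'] [IsDomain B'] [Algebra A B] [Algebra A' B'] [FaithfulSMul A' B']
    (e : A ≃+* A') (e' : B ≃+* B') (h : ∀ a, e' (algebraMap A B a) = algebraMap A' B' (e a)) :
    Algebra.trdeg A B = Algebra.trdeg A' B' := by
  algebraize [e.toRingHom, (algebraMap A' B').comp e.toRingHom]
  haveI : IsScalarTower A A' B' := IsScalarTower.of_algebraMap_eq fun _ => rfl
  haveI : FaithfulSMul A A' := (faithfulSMul_iff_algebraMap_injective A A').2 e.injective
  haveI : Algebra.IsAlgebraic A A' := ⟨fun b => by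
    obtain ⟨a, rfl⟩ := e.surjective b
    exact isAlgebraic_algebraMap a⟩
  rw [(AlgEquiv.ofRingEquiv (f := e') h).trdeg_eq, ← trdeg_add_eq A A' (A := B'), trdeg_eq_zero, zero_add]

/-- Transcendence degree of domains may be computed on fields of fractions. -/
theorem trdeg_eq_of_fractions (A B K L : Type u) [CommRing A] [IsDomain A] [CommRing B] [IsDomain B]
    [Field K] [Field L] [Algebra A B] [Algebra A K] [Algebra B L] [Algebra K L] [Algebra A L]
    [IsScalarTower A B L] [IsScalarTower A K L] [IsFractionRing A K] [IsFractionRing B L]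
    [FaithfulSMul A B] : Algebra.trdeg A B = Algebra.trdeg K L := by
  haveI : FaithfulSMul A K := (faithfulSMul_iff_algebraMap_injective A K).2 (IsFractionRing.injective A K)
  haveI : FaithfulSMul B L := (faithfulSMul_iff_algebraMap_injective B L).2 (IsFractionRing.injective B L)
  haveI : FaithfulSMul K L := (faithfulSMul_iff_algebraMap_injective K L).2 (algebraMap K L).injective
  haveI : Algebra.IsAlgebraic A K := IsLocalization.isAlgebraic K (nonZeroDivisors A)
  haveI : Algebra.IsAlgebraic B L := IsLocalization.isAlgebraic L (nonZeroDivisors B)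
  have h1 := trdeg_add_eq A B (A := L)
  have h2 := trdeg_add_eq A K (A := L)
  rw [trdeg_eq_zero (R := B), add_zero] at h1
  rw [trdeg_eq_zero (R := A) (A := K), zero_add] at h2
  rw [h1, h2]

section Step

variable {R S : Type u} [CommRing R] [CommRing S] [Algebra R S]

theorem trdeg_residueField (p : Ideal R) [p.IsPrime] (q : Ideal S) [q.IsPrime] [q.LiesOver p] :
    Algebra.trdeg (R ⧸ p) (S ⧸ q) =
      letI := (Ideal.ResidueField.map p q (algebraMap R S) (q.over_def p)).toAlgebra
      Algebra.trdeg p.ResidueField q.ResidueField := by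
  letI := (Ideal.ResidueField.map p q (algebraMap R S) (q.over_def p)).toAlgebra
  letI : Algebra (R ⧸ p) q.ResidueField :=
    ((algebraMap (S ⧸ q) q.ResidueField).comp (algebraMap (R ⧸ p) (S ⧸ q))).toAlgebra
  haveI : IsScalarTower (R ⧸ p) (S ⧸ q) q.ResidueField := IsScalarTower.of_algebraMap_eq fun _ => rfl
  haveI : IsScalarTower (R ⧸ p) p.ResidueField q.ResidueField := IsScalarTower.of_algebraMap_eq fun a => by
    obtain ⟨a, rfl⟩ := Ideal.Quotient.mk_surjective a
    show algebraMap (S ⧸ q) q.ResidueField (Ideal.Quotient.mk q (algebraMap R S a)) =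
      Ideal.ResidueField.map p q (algebraMap R S) _ (algebraMap (R ⧸ p) p.ResidueField (Ideal.Quotient.mk p a))
    simp only [Ideal.algebraMap_quotient_residueField_mk, Ideal.ResidueField.map_algebraMap]
  exact trdeg_eq_of_fractions (R ⧸ p) (S ⧸ q) p.ResidueField q.ResidueField

theorem step [Algebra.FiniteType R S] (hR : CAlg.IsUniversallyCatenary R) {D : PrimeSpectrum R → ℤ}
    (hD : IsDim D) {Q Q' : PrimeSpectrum S} (hlt : Q < Q') {t t' : ℕ}
    (ht : Algebra.trdeg (R ⧸ Q.asIdeal.under R) (S ⧸ Q.asIdeal) = t)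
    (ht' : Algebra.trdeg (R ⧸ Q'.asIdeal.under R) (S ⧸ Q'.asIdeal) = t') :
    ∃ n : ℕ, D (PrimeSpectrum.comap (algebraMap R S) Q) + t = D (PrimeSpectrum.comap (algebraMap R S) Q') + t' + n ∧
      1 ≤ n ∧ ((∀ r, Q ≤ r → r ≤ Q' → r = Q ∨ r = Q') → n = 1) := by
  let p := Q.asIdeal.under R
  let p' := Q'.asIdeal.under R
  haveI : p.IsPrime := Q.isPrime.under R
  haveI : p'.IsPrime := Q'.isPrime.under R
  have hle : Q.asIdeal ≤ Q'.asIdeal := hlt.le
  have hpp : p ≤ p' := Ideal.comap_mono hle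
  haveI := hR.1
  let qb := Q'.asIdeal.map (Ideal.Quotient.mk Q.asIdeal)
  let pb := p'.map (Ideal.Quotient.mk p)
  haveI : qb.IsPrime := Ideal.map_isPrime_of_surjective Ideal.Quotient.mk_surjective (by rw [Ideal.mk_ker]; exact hle)
  haveI : pb.IsPrime := Ideal.map_isPrime_of_surjective Ideal.Quotient.mk_surjective (by rw [Ideal.mk_ker]; exact hpp)
  have hqc : qb.comap (Ideal.Quotient.mk Q.asIdeal) = Q'.asIdeal :=
    (Ideal.comap_map_quotientMk _ _).trans (sup_eq_right.2 hle)
  have hpc : pb.comap (Ideal.Quotient.mk p) = p' := (Ideal.comap_map_quotientMk _ _).trans (sup_eq_right.2 hpp)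
  haveI : qb.LiesOver pb := ⟨by
    refine Ideal.comap_injective_of_surjective _ Ideal.Quotient.mk_surjective ?_
    rw [hpc]
    show p' = (qb.comap (algebraMap (R ⧸ p) (S ⧸ Q.asIdeal))).comap (Ideal.Quotient.mk p)
    rw [Ideal.comap_comap]
    show p' = qb.comap ((Ideal.Quotient.mk Q.asIdeal).comp (algebraMap R S))
    rw [← Ideal.comap_comap, hqc]⟩
  haveI : Algebra.FiniteType (R ⧸ p) (S ⧸ Q.asIdeal) := by
    haveI : Algebra.FiniteType R (S ⧸ Q.asIdeal) := Algebra.FiniteType.trans (S := S) inferInstance inferInstance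
    exact Algebra.FiniteType.of_restrictScalars_finiteType R _ _
  have hUC : CAlg.IsUniversallyCatenary (R ⧸ p) := Groth.L18.Cat.isUniversallyCatenary_of_essFiniteType hR _
  have key := (Groth.L22.DimFormula.dim_formula (R := R ⧸ p) (S := S ⧸ Q.asIdeal) pb qb).2 hUC
  have e : Algebra.trdeg ((R ⧸ p) ⧸ pb) ((S ⧸ Q.asIdeal) ⧸ qb) = Algebra.trdeg (R ⧸ p') (S ⧸ Q'.asIdeal) :=
    trdeg_eq_of_ringEquiv (DoubleQuot.quotQuotEquivQuotOfLE hpp) (DoubleQuot.quotQuotEquivQuotOfLE hle) fun a => by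
      obtain ⟨a, rfl⟩ := Ideal.Quotient.mk_surjective a
      obtain ⟨a, rfl⟩ := Ideal.Quotient.mk_surjective a
      rfl
  rw [e, ht', ht] at key
  -- the dimension function on the quotient
  let D' : PrimeSpectrum (R ⧸ p) → ℤ := fun x => D (PrimeSpectrum.comap (Ideal.Quotient.mk p) x)
  have hinj := PrimeSpectrum.comap_injective_of_surjective (Ideal.Quotient.mk p) Ideal.Quotient.mk_surjective
  have hmk : ∀ {x y : PrimeSpectrum (R ⧸ p)},
      PrimeSpectrum.comap (Ideal.Quotient.mk p) x ≤ PrimeSpectrum.comap (Ideal.Quotient.mk p) y → x ≤ y := fun {x y} h => by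
    have h' := Ideal.map_mono (f := Ideal.Quotient.mk p) h
    simp only [PrimeSpectrum.comap_asIdeal, Ideal.map_comap_of_surjective _ Ideal.Quotient.mk_surjective] at h'
    exact h'
  have hD' : IsDim D' := fun x y hxy => by
    have hlt' : PrimeSpectrum.comap (Ideal.Quotient.mk p) x < PrimeSpectrum.comap (Ideal.Quotient.mk p) y :=
      lt_of_le_of_ne (Ideal.comap_mono hxy.le) fun h => hxy.ne (hinj h)
    obtain ⟨h1, h2⟩ := hD _ _ hlt'
    refine ⟨h1, fun himm => h2 fun r hr1 hr2 => ?_⟩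
    have hpr : p ≤ r.asIdeal := le_trans (fun z hz => by
      show Ideal.Quotient.mk p z ∈ x.asIdeal
      rw [Ideal.Quotient.eq_zero_iff_mem.2 hz]; exact zero_mem _) hr1
    haveI : (r.asIdeal.map (Ideal.Quotient.mk p)).IsPrime :=
      Ideal.map_isPrime_of_surjective Ideal.Quotient.mk_surjective (by rw [Ideal.mk_ker]; exact hpr)
    let r' : PrimeSpectrum (R ⧸ p) := ⟨r.asIdeal.map (Ideal.Quotient.mk p), inferInstance⟩
    have hr' : PrimeSpectrum.comap (Ideal.Quotient.mk p) r' = r :=
      PrimeSpectrum.ext ((Ideal.comap_map_quotientMk _ _).trans (sup_eq_right.2 hpr))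
    rcases himm r' (hmk (hr' ▸ hr1)) (hmk (hr' ▸ hr2)) with h | h
    · exact Or.inl (hr' ▸ h ▸ rfl)
    · exact Or.inr (hr' ▸ h ▸ rfl)
  obtain ⟨m, hm⟩ : ∃ m : ℕ, pb.height = m := ⟨_, (ENat.coe_toNat (Ideal.height_ne_top (Ideal.IsPrime.ne_top ‹_›))).symm⟩
  haveI : IsNoetherianRing (S ⧸ Q.asIdeal) := Algebra.FiniteType.isNoetherianRing (R ⧸ p) _
  obtain ⟨n, hn⟩ : ∃ n : ℕ, qb.height = n := ⟨_, (ENat.coe_toNat (Ideal.height_ne_top (Ideal.IsPrime.ne_top ‹_›))).symm⟩
  have hm' : Order.height (⟨pb, inferInstance⟩ : PrimeSpectrum (R ⧸ p)) = (m : ℕ∞) := by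
    rw [← PrimeSpectrum.height_eq_orderHeight]; exact hm
  have hA := height_eq_sub hD' m _ hm'
  have eb : PrimeSpectrum.comap (Ideal.Quotient.mk p) (⊥ : PrimeSpectrum (R ⧸ p)) =
      PrimeSpectrum.comap (algebraMap R S) Q := PrimeSpectrum.ext Ideal.mk_ker
  have ep : PrimeSpectrum.comap (Ideal.Quotient.mk p) (⟨pb, inferInstance⟩ : PrimeSpectrum (R ⧸ p)) =
      PrimeSpectrum.comap (algebraMap R S) Q' := PrimeSpectrum.ext hpc
  simp only [D', eb, ep] at hA
  rw [hm, hn] at key
  have key' : n + t' = m + t := by exact_mod_cast key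
  let qq : PrimeSpectrum (S ⧸ Q.asIdeal) := ⟨qb, inferInstance⟩
  have hn' : Order.height qq = (n : ℕ∞) := by
    rw [← PrimeSpectrum.height_eq_orderHeight]; exact hn
  refine ⟨n, by omega, ?_, fun himm => ?_⟩
  · by_contra hc
    obtain rfl : n = 0 := by omega
    rw [Nat.cast_zero, Order.height_eq_zero] at hn'
    have hbot : qb ≤ ⊥ := hn' (b := (⊥ : PrimeSpectrum (S ⧸ Q.asIdeal))) bot_le
    have hle' : Q'.asIdeal ≤ Q.asIdeal := fun z hz =>
      Ideal.Quotient.eq_zero_iff_mem.1 (Ideal.mem_bot.1 (hbot (Ideal.mem_map_of_mem _ hz)))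
    exact hlt.ne (PrimeSpectrum.ext (le_antisymm hle hle'))
  · by_contra hc
    obtain ⟨k, rfl⟩ : ∃ k, n = k + 2 := ⟨n - 2, by
      have : n ≠ 0 := by
        rintro rfl
        rw [Nat.cast_zero, Order.height_eq_zero] at hn'
        have hbot : qb ≤ ⊥ := hn' (b := (⊥ : PrimeSpectrum (S ⧸ Q.asIdeal))) bot_le
        exact hlt.ne (PrimeSpectrum.ext (le_antisymm hle fun z hz =>
          Ideal.Quotient.eq_zero_iff_mem.1 (Ideal.mem_bot.1 (hbot (Ideal.mem_map_of_mem _ hz)))))
      omega⟩
    obtain ⟨r, hr, hrh⟩ := exists_lt_height_eq (m := k + 1) hn'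
    let r' := PrimeSpectrum.comap (Ideal.Quotient.mk Q.asIdeal) r
    have h1 : Q ≤ r' := fun z hz => by
      show Ideal.Quotient.mk Q.asIdeal z ∈ r.asIdeal
      rw [Ideal.Quotient.eq_zero_iff_mem.2 hz]; exact zero_mem _
    have hQ' : PrimeSpectrum.comap (Ideal.Quotient.mk Q.asIdeal) qq = Q' := PrimeSpectrum.ext hqc
    have h2 : r' ≤ Q' := le_of_le_of_eq (Ideal.comap_mono hr.le) hQ'
    have hi := PrimeSpectrum.comap_injective_of_surjective (Ideal.Quotient.mk Q.asIdeal) Ideal.Quotient.mk_surjective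
    rcases himm r' h1 h2 with h | h
    · have hb : r = ⊥ := hi (h.trans (PrimeSpectrum.ext Ideal.mk_ker.symm))
      rw [hb, Order.height_bot] at hrh
      exact absurd hrh.symm (by simp)
    · exact hr.ne (hi (h.trans hQ'.symm))

end Step

end Groth.L23.DimFun
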