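import Groth.Agent.L23.DimFunSch
import Groth.Agent.L23.DimDecent
import Groth.Agent.S12447
import Groth.Prelude.Def_W4stk3decentspacesp2Birat

/-!
# Dimension functions and catenarity of decent algebraic spaces
-/

universe u v

open CategoryTheory CategoryTheory.Limits AlgebraicGeometry Opposite AlgSp Topology TopologicalSpace

set_option backward.isDefEq.respectTransparency.types false
set_option linter.style.haveILetI false

namespace Groth.L23.DimFun

open Groth.L22.Cyc (rtrdeg)

section Chains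

variable {B : Type v} [TopologicalSpace B] [T0Space B] [QuasiSober B]

/-- Chains above an irreducible closed set are measured by a dimension function near its generic point. -/
theorem chains_of_dimFun (T T' : IrreducibleCloseds B) (δ : B → ℤ)
    (hδ : ∀ x y : B, x ⤳ y → x ≠ y → y ⤳ T.isIrreducible.genericPoint →
      δ y < δ x ∧ ((∀ z : B, x ⤳ z → z ⤳ y → z = x ∨ z = y) → δ x = δ y + 1)) :
    (∃ n : ℕ, ∀ p : LTSeries (IrreducibleCloseds B), p.head = T → p.last = T' → p.length ≤ n) ∧
    ∀ p q : LTSeries (IrreducibleCloseds B), p.head = T → p.last = T' → q.head = T → q.last = T' →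
      (∀ i : Fin p.length, p.toFun i.castSucc ⋖ p.toFun i.succ) →
      (∀ i : Fin q.length, q.toFun i.castSucc ⋖ q.toFun i.succ) → p.length = q.length := by
  let g : IrreducibleCloseds B → B := fun Z => Z.isIrreducible.genericPoint
  let e : IrreducibleCloseds B → ℤ := fun Z => δ (g Z)
  have hgen : ∀ Z : IrreducibleCloseds B, IsGenericPoint (g Z) (Z : Set B) := fun Z => by
    have h := Z.isIrreducible.isGenericPoint_genericPoint_closure
    rwa [Z.isClosed.closure_eq] at h
  have hsp : ∀ Z Z' : IrreducibleCloseds B, Z ≤ Z' ↔ g Z' ⤳ g Z := fun Z Z' =>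
    ⟨fun h => (hgen Z').specializes (h (hgen Z).mem), fun h z hz => by
      rw [← SetLike.mem_coe, ← (hgen Z').def, ← specializes_iff_mem_closure]
      exact h.trans ((hgen Z).specializes hz)⟩
  have hginj : ∀ Z Z' : IrreducibleCloseds B, g Z = g Z' → Z = Z' := fun Z Z' h =>
    le_antisymm ((hsp Z Z').2 (h ▸ specializes_rfl)) ((hsp Z' Z).2 (h ▸ specializes_rfl))
  have hlt : ∀ a b, T ≤ a → a < b → e a < e b := fun a b hT h =>
    (hδ (g b) (g a) ((hsp a b).1 h.le) (fun he => h.ne (hginj _ _ he).symm) ((hsp T a).1 hT)).1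
  have hcov : ∀ a b, T ≤ a → a ⋖ b → e b = e a + 1 := fun a b hT h =>
    (hδ (g b) (g a) ((hsp a b).1 h.le) (fun he => h.ne (hginj _ _ he).symm) ((hsp T a).1 hT)).2 fun z hz1 hz2 => by
      let Z : IrreducibleCloseds B := ⟨closure {z}, isIrreducible_singleton.closure, isClosed_closure⟩
      have hz : g Z = z := (hgen Z).eq isGenericPoint_closure
      rcases h.eq_or_eq ((hsp a Z).2 (by rw [hz]; exact hz2)) ((hsp Z b).2 (by rw [hz]; exact hz1)) with hh | hh
      · exact Or.inr (by rw [← hz, hh])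
      · exact Or.inl (by rw [← hz, hh])
  have hT : ∀ (p : LTSeries (IrreducibleCloseds B)), p.head = T → ∀ j, T ≤ p j := fun p hp j =>
    hp ▸ p.monotone (Fin.zero_le _)
  have grow : ∀ (p : LTSeries (IrreducibleCloseds B)), p.head = T → ∀ (j : ℕ) (hj : j ≤ p.length),
      e T + j ≤ e (p ⟨j, by omega⟩) ∧
        ((∀ i : Fin p.length, p.toFun i.castSucc ⋖ p.toFun i.succ) → e (p ⟨j, by omega⟩) = e T + j) := by
    intro p hp j
    induction j with
    | zero => intro _; simp [← hp, RelSeries.head]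
    | succ j ih =>
      intro hj
      have h1 := hlt _ _ (hT p hp ⟨j, by omega⟩) (p.step ⟨j, by omega⟩)
      obtain ⟨i1, i2⟩ := ih (by omega)
      refine ⟨?_, fun hc => ?_⟩
      · simp only [Fin.castSucc_mk, Fin.succ_mk] at h1
        push_cast
        omega
      · have h2 := hcov _ _ (hT p hp ⟨j, by omega⟩) (hc ⟨j, by omega⟩)
        have h3 := i2 hc
        simp only [Fin.succ_mk] at h2
        push_cast
        omega
  refine ⟨⟨(e T' - e T).toNat, fun p hp hl => ?_⟩, fun p q hp hl hq hl' hcp hcq => ?_⟩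
  · have := (grow p hp p.length le_rfl).1
    have hl2 : p ⟨p.length, by omega⟩ = T' := hl
    rw [hl2] at this
    omega
  · have h1 := (grow p hp p.length le_rfl).2 hcp
    have h2 := (grow q hq q.length le_rfl).2 hcq
    have hl2 : p ⟨p.length, by omega⟩ = T' := hl
    have hl3 : q ⟨q.length, by omega⟩ = T' := hl'
    rw [hl2] at h1
    rw [hl3] at h2
    omega

end Chains

variable {S : Scheme.{u}} {X : Sp S}

/-- Dimension functions descend from charts to decent spaces. -/
theorem isDimFun_points (hX : IsAlgSpace X) (hd : IsDecent X) {U : Over S} {a : (yon S).obj U ⟶ X}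
    (ha : RepWith @Etale a) (δX : Points X → ℤ) {x y : Points X} (h : x ⤳ y) (hne : x ≠ y)
    (v : U.left) (hv : Points.ofPt a v = y) (B : U.left.Opens) (hvB : v ∈ B)
    (hB : Cyc.IsDimFun B.toScheme (fun w => δX (Points.ofPt a w.1))) :
    δX y < δX x ∧ ((∀ z : Points X, x ⤳ z → z ⤳ y → z = x ∨ z = y) → δX x = δX y + 1) := by
  obtain ⟨v', hs, hv'⟩ := Pt.exists_gen_lift hX h (hd x) ha v hv
  have hv'B : v' ∈ B := hs.mem_open B.isOpen hvB
  obtain ⟨h1, h2⟩ := hB ⟨v', hv'B⟩ ⟨v, hvB⟩ ((subtype_specializes_iff _ _).2 hs)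
    fun he => hne (hv'.symm.trans ((congrArg (fun w : B => Points.ofPt a w.1) he).trans hv))
  simp only [hv', hv] at h1 h2
  refine ⟨h1, fun himm => h2 fun z hz1 hz2 => ?_⟩
  have hz1' : v' ⤳ z.1 := (subtype_specializes_iff _ _).1 hz1
  have hz2' : z.1 ⤳ v := (subtype_specializes_iff _ _).1 hz2
  rcases himm (Points.ofPt a z.1) (hv' ▸ hz1'.map (Points.continuous_ofPt a))
    (hv ▸ hz2'.map (Points.continuous_ofPt a)) with hz | hz
  · exact Or.inl (Subtype.ext (Pt.ofPt_strict hX hd ha v' z.1 hz1' (hv'.trans hz.symm)).symm)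
  · exact Or.inr (Subtype.ext (Pt.ofPt_strict hX hd ha z.1 v hz2' (hz.trans hv.symm)))

/-- The space of points of a decent space locally of finite type over a universally catenary scheme is catenary. -/
theorem isCatenarySpace_points [IsLocallyNoetherian S]
    (hS : ∀ s : S, CAlg.IsUniversallyCatenary (S.presheaf.stalk s)) (hX : IsAlgSpace X) (hd : IsDecent X)
    (p : X ⟶ (yon S).obj (Over.mk (𝟙 S))) (hp : LocP @LocallyOfFiniteType p) :
    W4stk3decentspacesp2.IsCatenarySpace (Points X) := by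
  haveI := Pt.t0Space_of_isDecent hX hd
  haveI := Pt.quasiSober_of_isDecent hX hd
  intro T T' _
  obtain ⟨U, a, ha, has⟩ := hX.atlas
  obtain ⟨φ, hφ⟩ := (yon S).map_surjective (a ≫ p)
  haveI : LocallyOfFiniteType φ.left := hp a (𝟙 _) φ ha (repWith_id _ _) (by rw [Category.comp_id, hφ])
  have hw : φ.left = U.hom := by simpa using Over.w φ
  haveI : LocallyOfFiniteType U.hom := hw ▸ ‹LocallyOfFiniteType φ.left›
  obtain ⟨v, hv⟩ := surjective_ofPt has T.isIrreducible.genericPoint
  obtain ⟨S0, hvS0, δ0, hδ0⟩ := (Groth.Agent.S12447.result S).1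
    (Groth.L18.Cat.isCatenarySpace_of_stalks (𝟙 S) hS) (U.hom v)
  classical
  let δU : U.left → ℤ := fun u =>
    if h : U.hom u ∈ S0 then δ0 ⟨U.hom u, h⟩ + (exists_rtrdeg_eq U.hom u).choose else 0
  -- invariance along the fibres
  have hinv : ∀ u u' : U.left, Points.ofPt a u = Points.ofPt a u' → δU u = δU u' := by
    intro u u' e
    obtain ⟨R, s, t, sq⟩ := exists_isPullback_of_representable (hX.representable_from_yon a) a
    obtain ⟨r, hr, hr'⟩ := (ofPt_eq_ofPt_iff sq u u').1 e
    subst hr hr'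
    haveI : Etale t.left := repWith_prop ha sq
    haveI : Etale s.left := repWith_prop ha sq.flip
    have e1 : s.left ≫ U.hom = t.left ≫ U.hom := (Over.w s).trans (Over.w t).symm
    have e2 : U.hom (s.left r) = U.hom (t.left r) := by
      rw [← Scheme.Hom.comp_apply, e1, Scheme.Hom.comp_apply]
    have e3 := Groth.L22.Cyc.rtrdeg_congr _ e1 r
    rw [Groth.L22.Cyc.rtrdeg_comp, Groth.L22.Cyc.rtrdeg_comp, rtrdeg_etale s.left, rtrdeg_etale t.left,
      add_zero, add_zero, (exists_rtrdeg_eq U.hom (s.left r)).choose_spec,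
      (exists_rtrdeg_eq U.hom (t.left r)).choose_spec] at e3
    have e4 : (exists_rtrdeg_eq U.hom (s.left r)).choose = (exists_rtrdeg_eq U.hom (t.left r)).choose := by
      exact_mod_cast e3
    simp only [δU, e4]
    by_cases hc : U.hom (s.left r) ∈ S0
    · have hc' : U.hom (t.left r) ∈ S0 := e2 ▸ hc
      rw [dif_pos hc, dif_pos hc']
      exact congrArg (fun z => δ0 z + _) (Subtype.ext e2)
    · have hc' : U.hom (t.left r) ∉ S0 := e2 ▸ hc
      rw [dif_neg hc, dif_neg hc']
  let δX : Points X → ℤ := fun x => δU (surjective_ofPt has x).choose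
  have hδX : ∀ u, δX (Points.ofPt a u) = δU u := fun u =>
    hinv _ _ (surjective_ofPt has (Points.ofPt a u)).choose_spec
  -- the dimension function on the open piece
  let B : U.left.Opens := U.hom ⁻¹ᵁ S0
  have hN : IsLocallyNoetherian S0.toScheme := LocallyOfFiniteType.isLocallyNoetherian S0.ι
  have hd0 : Cyc.IsDimFun S0.toScheme δ0 := fun x y hxy hne =>
    ⟨hδ0.1 x y hxy hne, fun hi => hδ0.2 x y ⟨hxy, hne, hi⟩⟩
  have hB : Cyc.IsDimFun B.toScheme (fun w => δX (Points.ofPt a w.1)) := by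
    haveI : LocallyOfFiniteType (U.hom ∣_ S0) := IsZariskiLocalAtTarget.restrict ‹_› S0
    refine isDimFun_of_deltaCompat (U.hom ∣_ S0)
      (fun s => isUniversallyCatenary_of_ringEquiv (S0.stalkIso s).symm.commRingCatIsoToRingEquiv (hS s.1)) hd0 fun w => ?_
    refine ⟨(exists_rtrdeg_eq U.hom w.1).choose, ?_, ?_⟩
    · have h1 := Groth.L22.Cyc.rtrdeg_congr _ (morphismRestrict_ι U.hom S0) w
      rw [Groth.L22.Cyc.rtrdeg_comp, Groth.L22.Cyc.rtrdeg_comp, rtrdeg_etale S0.ι, rtrdeg_etale B.ι,
        zero_add, add_zero] at h1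
      exact h1.trans (exists_rtrdeg_eq U.hom w.1).choose_spec
    · have hw0 : U.hom w.1 ∈ S0 := w.2
      rw [hδX]
      simp only [δU, dif_pos hw0]
      refine congrArg (fun z => δ0 z + _) (Subtype.ext ?_)
      exact ((morphismRestrict_ι U.hom S0) ▸ (Scheme.Hom.comp_apply (U.hom ∣_ S0) S0.ι w).symm : _).symm
  refine chains_of_dimFun T T' δX fun x y hxy hne hy => ?_
  obtain ⟨v', hs, hv'⟩ := Pt.exists_gen_lift hX hy (hd y) ha v hv
  exact isDimFun_points hX hd ha δX hxy hne v' hv' B (hs.mem_open B.isOpen hvS0) hB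

end Groth.L23.DimFun
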