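import Groth.Agent.L23.CodimOne
import Groth.Agent.L19.DimTrdeg

/-!
# Bounding the dimension of the source
-/

universe u

open CategoryTheory CategoryTheory.Limits AlgebraicGeometry AlgSp Topology

set_option backward.isDefEq.respectTransparency.types false
set_option linter.style.haveILetI false

namespace Groth.L23.DimLe

open Groth.L07.DimToolkit Groth.L07.Equidim

theorem stalkDim_le_dim {W : Scheme.{u}} (x : W) :
    ringKrullDim (W.presheaf.stalk x) ≤ topologicalKrullDim W := by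
  let := specializationOrder W
  rw [ringKrullDim_stalk_eq_coheight]
  unfold topologicalKrullDim
  rw [Order.krullDim_eq_of_orderIso (irreducibleSetEquivPoints (α := W))]
  exact Order.coheight_le_krullDim x

theorem dim_le_add {U V : Scheme.{u}} [IsLocallyNoetherian V] (h : U ⟶ V) [LocallyOfFiniteType h]
    (d : WithBot ℕ∞) (hd : topologicalKrullDim V ≤ d) (e : ℕ∞)
    (hgen : ∀ ξ : U, (∀ q, q ⤳ ξ → q = ξ) → Cardinal.toENat (Dual3.resTrdeg h ξ) ≤ e) :
    topologicalKrullDim U ≤ d + (e : WithBot ℕ∞) := by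
  haveI : IsLocallyNoetherian U := LocallyOfFiniteType.isLocallyNoetherian h
  refine Groth.L19.DimTrdeg.dim_le_of_stalks fun x => ?_
  obtain ⟨ξ, hξ, D, hmax, hD, -⟩ := exists_dim_locQuot_eq x
  obtain ⟨A, B, n, N, hA, hB, hn, hN, hle, -⟩ := formula h hξ
  obtain ⟨N', hN', hNt⟩ := exists_fdim_rtrdeg h ξ
  have e1 : N = N' := by exact_mod_cast hN.symm.trans hN'
  have hNe : (N : ℕ∞) ≤ e := by
    have h2 := hgen ξ hmax
    rw [show Dual3.resTrdeg h ξ = (N' : Cardinal.{u}) from hNt, Cardinal.toENat_nat] at h2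
    exact e1 ▸ h2
  rw [← hD, hA]
  refine le_trans (show (A : WithBot ℕ∞) ≤ (B : WithBot ℕ∞) + (N : WithBot ℕ∞) by
    exact_mod_cast (show A ≤ B + N by omega)) ?_
  refine add_le_add ?_ (WithBot.coe_le_coe.2 hNe)
  exact hB ▸ ((dim_locQuot_le _ _ _).trans ((stalkDim_le_dim _).trans hd))

theorem dim_le {S : Scheme.{u}} {X Y : AlgSp.Space S} {f : X.obj ⟶ Y.obj} (hY : IsLocNoethSp Y.obj)
    (hf : LocP @LocallyOfFiniteType f) (e : ℕ∞)
    (hgen : ∀ ξ : Points X.obj, HasAt (fun U u => ringKrullDim ↥(U.presheaf.stalk u) = 0) X.obj ξ →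
      ∀ s : Cardinal.{u}, HasAtMor (fun _ _ h u => Dual3.resTrdeg h u = s) f ξ → Cardinal.toENat s ≤ e) :
    AlgSp.dim X.obj ≤ AlgSp.dim Y.obj + (e : WithBot ℕ∞) := by
  obtain ⟨V, b, hb, hbs⟩ := Y.property.atlas
  haveI : IsLocallyNoetherian V.left := Pt.isLocallyNoetherian_of_chart Y.property hY hb
  refine iSup_le fun U => iSup_le fun a => iSup_le fun ha => ?_
  obtain ⟨U', g, q, sq⟩ := exists_isPullback_of_representable hb.1 (a ≫ f)
  haveI : Etale q.left := repWith_prop hb sq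
  haveI : Surjective q.left := repWith_prop hbs sq
  have w : ((yon S).map q ≫ a) ≫ f = (yon S).map g ≫ b := by rw [Category.assoc, sq.w]
  have ha' : RepWith @Etale ((yon S).map q ≫ a) := repWith_comp (repWith_map (P := @Etale) ‹_›) ha
  haveI : LocallyOfFiniteType g.left := hf _ b g ha' hb w
  rw [← Pt.dim_eq_of_etale_surjective q.left]
  refine dim_le_add g.left _ (le_iSup_of_le V (le_iSup_of_le b
    (le_iSup (fun _ : RepWith @Etale b => topologicalKrullDim V.left) hb))) e fun ξ hξ => ?_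
  exact hgen _ ⟨U', _, ξ, ha', rfl, (CodimOne.stalkDim_eq_zero_iff ξ).2 hξ⟩ _
    ⟨U', V, _, b, g, ξ, ha', hb, w, rfl, rfl⟩

end Groth.L23.DimLe
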