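import Groth.Agent.L23.RelDim
import Groth.Agent.L23.SpaceFibreDim
import Groth.Agent.L23.Decent3
import Groth.Agent.L06.LocalDimFlat

/-!
# Local dimensions along flat morphisms of algebraic spaces
-/

universe u

open CategoryTheory CategoryTheory.Limits AlgebraicGeometry AlgSp Topology

set_option backward.isDefEq.respectTransparency.types false
set_option linter.style.haveILetI false

namespace Groth.L23.FlatDim

variable {S : Scheme.{u}} {X Y : Sp S}

theorem hasAt_localDim_iff (hX : IsAlgSpace X) {U : Over S} {a : (yon S).obj U ⟶ X} (ha : RepWith @Etale a)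
    (u : U.left) (d : WithBot ℕ∞) :
    HasAt (fun U u => FlatMor.localDim ↥U u = d) X (Points.ofPt a u) ↔ FlatMor.localDim ↥U.left u = d := by
  refine ⟨?_, fun h => ⟨U, a, u, ha, rfl, h⟩⟩
  rintro ⟨V, b, v, hb, e, h⟩
  obtain ⟨R, p, q, sq⟩ := exists_isPullback_of_representable (hX.representable_from_yon a) b
  obtain ⟨r, hr, hr'⟩ := (ofPt_eq_ofPt_iff sq u v).1 e.symm
  have : Etale p.left := repWith_prop hb sq.flip
  have : Etale q.left := repWith_prop ha sq
  rw [← hr, ← localDim_eq_of_etale, localDim_eq_of_etale q.left r, hr']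
  exact h

/-- Charts reduce the dimension formula to schemes. -/
theorem localDim_eq_add (hX : IsAlgSpace X) (hY : IsAlgSpace Y) {f : X ⟶ Y}
    (hXn : IsLocNoethSp X) (hYn : IsLocNoethSp Y) (hf : LocP @Flat f) (hf' : LocP @LocallyOfFiniteType f)
    (hloc : ∀ {A B : Scheme.{u}} (h : A ⟶ B), (∃ (U V : Over S) (a : (yon S).obj U ⟶ X) (b : (yon S).obj V ⟶ Y)
      (g : U ⟶ V) (_ : A = U.left) (_ : B = V.left), RepWith @Etale a ∧ RepWith @Etale b ∧ a ≫ f = (yon S).map g ≫ b ∧ HEq h g.left) →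
      ∀ x : A, ∃ (O : A.Opens) (n : ℕ), x ∈ O ∧ ∀ u ∈ O, FlatMor.fibreDimAt h u = (n : WithBot ℕ∞))
    (x : Points X) (d dX dY : WithBot ℕ∞)
    (hd : HasAtMor (fun _ _ h u => FlatMor.fibreDimAt h u = d) f x)
    (hx : HasAt (fun U u => FlatMor.localDim ↥U u = dX) X x)
    (hy : HasAt (fun U u => FlatMor.localDim ↥U u = dY) Y (Points.map f x)) : dX = dY + d := by
  obtain ⟨U, V, a, b, h, u, ha, hb, w, rfl, rfl⟩ := hd
  haveI : Flat h.left := hf a b h ha hb w
  haveI : LocallyOfFiniteType h.left := hf' a b h ha hb w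
  haveI : IsLocallyNoetherian U.left := Pt.isLocallyNoetherian_of_chart hX hXn ha
  haveI : IsLocallyNoetherian V.left := Pt.isLocallyNoetherian_of_chart hY hYn hb
  rw [hasAt_localDim_iff hX ha u] at hx
  rw [Points.map_ofPt, w, ofPt_comp, hasAt_localDim_iff hY hb (h.left u)] at hy
  obtain ⟨O, n, huO, hn⟩ := hloc h.left ⟨U, V, a, b, h, rfl, rfl, ha, hb, w, HEq.rfl⟩ u
  rw [← hx, ← hy, hn u huO]
  exact Groth.L06.LocalDimFlat.localDim_eq h.left n O hn u huO

end Groth.L23.FlatDim
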