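import Groth.Agent.L23.DiscreteFibre
import Groth.Agent.L23.SpaceFlatDim
import Groth.Agent.S9798
import Groth.Agent.S5792
import Groth.Agent.S10346
import Groth.Agent.L23.Decent

/-!
# Isolated points of spaces locally of finite type over a field
-/

universe u

open CategoryTheory CategoryTheory.Limits AlgebraicGeometry AlgSp Topology TopologicalSpace

set_option backward.isDefEq.respectTransparency.types false
set_option linter.style.haveILetI false

namespace Groth.L23.DimPt

/-- In a locally Noetherian scheme closed sets stable under generalization are open. -/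
theorem isOpen_of_isClosed_of_generalization {W : Scheme.{u}} [IsLocallyNoetherian W] {F : Set W}
    (hF : IsClosed F) (hg : ∀ {a b : W}, a ⤳ b → b ∈ F → a ∈ F) : IsOpen F := by
  rw [isOpen_iff_forall_mem_open]
  intro w hw
  obtain ⟨_, ⟨B, hB, rfl⟩, hwB, -⟩ :=
    W.isBasis_affineOpens.exists_subset_of_mem_open (Set.mem_univ w) isOpen_univ
  change W.Opens at B
  haveI : IsAffine (B : Scheme.{u}) := hB
  haveI : IsLocallyNoetherian (B : Scheme.{u}) := isLocallyNoetherian_of_isOpenImmersion B.ι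
  haveI : IsNoetherian (B : Scheme.{u}) := {}
  let F' : Set (B : Scheme.{u}) := B.ι ⁻¹' F
  let bad : Set (Set (B : Scheme.{u})) := {Z | Z ∈ irreducibleComponents (B : Scheme.{u}) ∧ Disjoint Z F'}
  have hfin : bad.Finite := NoetherianSpace.finite_irreducibleComponents.subset fun Z hZ => hZ.1
  have hc : IsClosed (⋃₀ bad) :=
    Set.sUnion_eq_biUnion ▸ hfin.isClosed_biUnion fun Z hZ => isClosed_of_mem_irreducibleComponents Z hZ.1
  refine ⟨B.ι '' (⋃₀ bad)ᶜ, ?_, B.ι.isOpenEmbedding.isOpenMap _ hc.isOpen_compl, ⟨w, hwB⟩, ?_, rfl⟩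
  · rintro _ ⟨z, hz, rfl⟩
    by_contra hzF
    refine hz ⟨irreducibleComponent z, ⟨irreducibleComponent_mem_irreducibleComponents z, ?_⟩, mem_irreducibleComponent (x := z)⟩
    rw [Set.disjoint_left]
    intro v hv hvF
    obtain ⟨g, hgen⟩ := QuasiSober.sober (isIrreducible_irreducibleComponent (x := z)) isClosed_irreducibleComponent
    have hgF : B.ι g ∈ F := hg ((hgen.specializes hv).map B.ι.continuous) hvF
    exact hzF ((((hgen.specializes (mem_irreducibleComponent (x := z))).map B.ι.continuous)).mem_closed hF hgF)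
  · rintro ⟨Z, ⟨-, hZ⟩, hwZ⟩
    exact Set.disjoint_left.1 hZ hwZ hw

theorem isClosed_of_isOpen_of_specialization {W : Scheme.{u}} [IsLocallyNoetherian W] {F : Set W}
    (hF : IsOpen F) (hs : ∀ {a b : W}, a ⤳ b → a ∈ F → b ∈ F) : IsClosed F :=
  isOpen_compl_iff.1 (isOpen_of_isClosed_of_generalization hF.isClosed_compl fun h hb ha => hb (hs h ha))

variable {k : Type u} [Field k] {S : Scheme.{u}} {str : Spec (CommRingCat.of k) ⟶ S} {X : Sp S}
  {p : X ⟶ (yon S).obj (Over.mk str)} (hp : LocP @LocallyOfFiniteType p)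
  {U : Over S} {a : (yon S).obj U ⟶ X} (ha : RepWith @Etale a)

include hp ha in
theorem lft_chart : ∃ π : U.left ⟶ Spec (CommRingCat.of k), LocallyOfFiniteType π := by
  obtain ⟨m, hm⟩ := (yon S).map_surjective (a ≫ p)
  exact ⟨m.left, hp a (𝟙 _) m ha (repWith_of_isIso _) (by rw [Category.comp_id, hm])⟩

theorem exists_nat_localDim {W : Scheme.{u}} (π : W ⟶ Spec (CommRingCat.of k)) [LocallyOfFiniteType π] (x : W) :
    ∃ n : ℕ, FlatMor.localDim W x = (n : WithBot ℕ∞) := by
  letI : W.Over (Spec (CommRingCat.of k)) := ⟨π⟩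
  haveI : LocallyOfFiniteType (W ↘ Spec (CommRingCat.of k)) := ‹LocallyOfFiniteType π›
  letI : ∀ b, Algebra k (W.residueField b) := fun b => Curv2.resAlgebra k _ b
  obtain ⟨a, b, -, -, h⟩ := Groth.L22.SchemeDim.exists_localDim k W x
  exact ⟨_, h⟩

include hp ha in
theorem closed_of_isolated {x : Points X} (hx : IsOpen ({x} : Set (Points X))) {u : U.left}
    (hu : Points.ofPt a u = x) : IsClosed ({u} : Set U.left) := by
  obtain ⟨π, _⟩ := lft_chart hp ha
  haveI : JacobsonSpace U.left := LocallyOfFiniteType.jacobsonSpace π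
  obtain ⟨R, r₁, r₂, sR⟩ := exists_isPullback_of_representable ha.1 a
  haveI : Etale r₁.left := repWith_prop ha sR.flip
  haveI : Etale r₂.left := repWith_prop ha sR
  obtain ⟨w₀, hw₀, hcl⟩ := nonempty_inter_closedPoints (Z := Points.ofPt a ⁻¹' {x}) ⟨u, hu⟩
    (hx.preimage (Points.continuous_ofPt a)).isLocallyClosed
  obtain ⟨r, hr₁, hr₂⟩ := (ofPt_eq_ofPt_iff sR u w₀).1 (hu.trans (Set.mem_singleton_iff.1 hw₀).symm)
  haveI : LocallyQuasiFinite r₂.left := lqf_of_etale _
  haveI : DiscreteTopology (r₂.left ⁻¹' {w₀}) := (r₂.left.isDiscrete_preimage_singleton w₀).to_subtype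
  have hclosed : IsClosed ({r} : Set R.left) := by
    have h1 : IsClosed ({(⟨r, hr₂⟩ : r₂.left ⁻¹' {w₀})} : Set (r₂.left ⁻¹' {w₀})) := isClosed_discrete _
    have h2 := (hcl.preimage r₂.left.continuous).isClosedMap_subtype_val _ h1
    rwa [Set.image_singleton] at h2
  rw [← hr₁]
  exact r₁.left.closePoints_subset_preimage_closedPoints hclosed

include hp ha in
theorem isOpen_iff (u : U.left) :
    IsOpen ({Points.ofPt a u} : Set (Points X)) ↔ FlatMor.localDim U.left u = 0 := by
  obtain ⟨π, _⟩ := lft_chart hp ha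
  haveI : IsLocallyNoetherian U.left := LocallyOfFiniteType.isLocallyNoetherian π
  constructor
  · intro hx
    let O : U.left.Opens := ⟨Points.ofPt a ⁻¹' {Points.ofPt a u}, hx.preimage (Points.continuous_ofPt a)⟩
    have hle : topologicalKrullDim (O : Scheme.{u}) ≤ 0 :=
      SpDim.krullDim_le_zero_of_closed_points fun z => by
        have h1 : IsClosed ({z.1} : Set U.left) := closed_of_isolated hp ha hx z.2
        have h2 : ({z} : Set (O : Scheme.{u})) = O.ι ⁻¹' {z.1} := by
          ext w
          exact (O.ι.isOpenEmbedding.injective.eq_iff (a := w) (b := z)).symm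
        rw [h2]
        exact h1.preimage O.ι.continuous
    obtain ⟨n, hn⟩ := exists_nat_localDim π u
    have h0 : FlatMor.localDim U.left u ≤ 0 :=
      le_trans (iInf_le _ (⟨O, rfl⟩ : {V : Opens U.left // u ∈ V})) hle
    rw [hn] at h0 ⊢
    have : n ≤ 0 := by exact_mod_cast h0
    exact_mod_cast (Nat.le_zero.1 this)
  · intro h
    have := isOpenMap_ofPt ha _ ((Groth.Agent.S9798.result U.left u).1 h)
    rwa [Set.image_singleton] at this

include hp in
theorem isOpen_iff_closed (hX : IsAlgSpace X) (x : Points X) :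
    IsOpen ({x} : Set (Points X)) ↔ IsClosed ({x} : Set (Points X)) ∧ ∀ x', x' ⤳ x → x' = x := by
  obtain ⟨U, a, ha, has⟩ := hX.atlas
  obtain ⟨π, _⟩ := lft_chart hp ha
  haveI : IsLocallyNoetherian U.left := LocallyOfFiniteType.isLocallyNoetherian π
  have hq := (isOpenQuotientMap_ofPt ha has).isQuotientMap
  constructor
  · intro hx
    refine ⟨?_, fun x' h => h.mem_open hx rfl⟩
    rw [← hq.isClosed_preimage]
    refine isClosed_of_isOpen_of_specialization (hx.preimage (Points.continuous_ofPt a)) fun {z b} hzb hz => ?_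
    have hz' := closed_of_isolated hp ha hx hz
    exact (show b = z from hzb.mem_closed hz' rfl) ▸ hz
  · rintro ⟨hc, hg⟩
    rw [← hq.isOpen_preimage]
    refine isOpen_of_isClosed_of_generalization (hc.preimage (Points.continuous_ofPt a)) fun {z b} hzb hb => ?_
    exact hg _ ((hzb.map (Points.continuous_ofPt a)).trans (specializes_of_eq hb))

theorem hasAt_iff (hX : IsAlgSpace X)
    {p : X ⟶ (yon S).obj (Over.mk str)} (hp : LocP @LocallyOfFiniteType p)
    (x : Points X) :
    IsOpen ({x} : Set (Points X)) ↔ HasAt (fun U u => FlatMor.localDim ↥U u = 0) X x := by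
  constructor
  · intro h
    obtain ⟨U, a, ha, has⟩ := hX.atlas
    obtain ⟨u, rfl⟩ := surjective_ofPt has x
    exact ⟨U, a, u, ha, rfl, (isOpen_iff hp ha u).1 h⟩
  · rintro ⟨U, a, u, ha, rfl, h⟩
    exact (isOpen_iff hp ha u).2 h

theorem discrete_iff (hX : IsAlgSpace X)
    {p : X ⟶ (yon S).obj (Over.mk str)} (hp : LocP @LocallyOfFiniteType p) :
    DiscreteTopology (Points X) ↔ AlgSp.dim X ≤ 0 := by
  constructor
  · intro h
    exact iSup_le fun W => iSup_le fun q => iSup_le fun hq => SpDim.krullDim_chart_le_zero k hp hq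
  · intro h
    rw [discreteTopology_iff_isOpen_singleton]
    intro x
    obtain ⟨U, a, ha, has⟩ := hX.atlas
    obtain ⟨u, rfl⟩ := surjective_ofPt has x
    obtain ⟨π, _⟩ := lft_chart hp ha
    refine (isOpen_iff hp ha u).2 ?_
    obtain ⟨n, hn⟩ := exists_nat_localDim π u
    have h1 : topologicalKrullDim U.left ≤ 0 := le_trans (le_iSup_of_le U (le_iSup_of_le a (le_iSup (fun _ : RepWith @Etale a => topologicalKrullDim U.left) ha))) h
    rw [Groth.Agent.S5792.result] at h1
    have h2 := (le_iSup (fun z : U.left => FlatMor.localDim U.left z) u).trans h1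
    rw [hn] at h2 ⊢
    have : n ≤ 0 := by exact_mod_cast h2
    exact_mod_cast (Nat.le_zero.1 this)

theorem dim_nonneg (hX : IsAlgSpace X)
    {p : X ⟶ (yon S).obj (Over.mk str)} (hp : LocP @LocallyOfFiniteType p)
    [Nonempty (Points X)] : 0 ≤ AlgSp.dim X := by
  obtain ⟨U, a, ha, has⟩ := hX.atlas
  obtain ⟨u, -⟩ := surjective_ofPt has (Classical.arbitrary (Points X))
  obtain ⟨π, _⟩ := lft_chart hp ha
  obtain ⟨n, hn⟩ := exists_nat_localDim π u
  have h := le_iSup (fun z : U.left => FlatMor.localDim U.left z) u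
  rw [← Groth.Agent.S5792.result, hn] at h
  exact ((Nat.cast_nonneg n).trans h).trans (le_iSup_of_le U (le_iSup_of_le a (le_iSup (fun _ : RepWith @Etale a => topologicalKrullDim U.left) ha)))

theorem localDim_points (X : AlgSp.Space S)
    {p : X.obj ⟶ (yon S).obj (Over.mk str)} (hp : LocP @LocallyOfFiniteType p)
    (hd : IsDecent X.obj) (x : Points X.obj) :
    (FlatMor.localDim (Points X.obj) x = 0 ↔ IsOpen ({x} : Set (Points X.obj))) := by
  obtain ⟨U, a, ha, has⟩ := X.property.atlas
  obtain ⟨u, rfl⟩ := surjective_ofPt has x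
  rw [isOpen_iff hp ha u, Groth.Agent.S10346.result X hd a ha u]

theorem discrete_of_finite (hX : IsAlgSpace X)
    {p : X ⟶ (yon S).obj (Over.mk str)} (hp : LocP @LocallyOfFiniteType p)
    (hd : IsDecent X) [Finite (Points X)] : DiscreteTopology (Points X) := by
  rw [discreteTopology_iff_isOpen_singleton]
  intro x
  obtain ⟨U, a, ha, has⟩ := hX.atlas
  obtain ⟨u, rfl⟩ := surjective_ofPt has x
  obtain ⟨_, ⟨B, hB, rfl⟩, huB, -⟩ :=
    U.left.isBasis_affineOpens.exists_subset_of_mem_open (Set.mem_univ u) isOpen_univ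
  change U.left.Opens at B
  let V : Over S := Over.mk (B.ι ≫ U.hom)
  let b : (yon S).obj V ⟶ X := (yon S).map (Over.homMk B.ι rfl : V ⟶ U) ≫ a
  have hb : RepWith @Etale b := repWith_comp (repWith_etale_openMk B) ha
  haveI : IsAffine V.left := hB
  obtain ⟨π, _⟩ := lft_chart hp hb
  haveI : JacobsonSpace V.left := LocallyOfFiniteType.jacobsonSpace π
  haveI : Finite V.left := by
    refine Set.finite_univ_iff.1 ((Set.finite_univ (α := Points X)).biUnion (t := fun y => Points.ofPt b ⁻¹' {y})
      (fun y _ => ?_) |>.subset fun v _ => Set.mem_biUnion (Set.mem_univ (Points.ofPt b v)) rfl)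
    obtain ⟨q, hq, hm, hqc⟩ := hd y
    subst hq
    haveI := hm
    exact (Groth.L23.Pt.qc_iff_finite_fibres hX q).1 hqc V b ‹_› hb
  let v : V.left := (⟨u, huB⟩ : (B : Scheme.{u}))
  have h := isOpenMap_ofPt hb _ (isOpen_discrete ({v} : Set V.left))
  erw [Set.image_singleton] at h
  have e : Points.ofPt b v = Points.ofPt a u := ofPt_comp _ _ _
  exact e ▸ h

end Groth.L23.DimPt
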