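import Groth.Agent.L23.SchemeDecent
import Mathlib.AlgebraicGeometry.ValuativeCriterion

/-!
# Quasi-separated schemes of dimension zero
-/

universe u

open CategoryTheory CategoryTheory.Limits AlgebraicGeometry Opposite AlgSp Topology

set_option backward.isDefEq.respectTransparency.types false
set_option linter.style.haveILetI false

namespace Groth.L23.DimZero

variable {U : Scheme.{u}}

/-- Affine opens are Hausdorff when there are no specializations. -/
theorem t2Space_affine (h : ∀ x y : U, y ⤳ x → y = x) {A : U.Opens} (hA : IsAffineOpen A) :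
    T2Space (A : Scheme.{u}) := by
  have : IsAffine (A : Scheme.{u}) := hA
  have : SpectralSpace (A : Scheme.{u}) := {}
  have := SoberTop.t2Space (A := (A : Scheme.{u}))
  refine ⟨fun x y hxy => ?_⟩
  let g : ↥(A : Scheme.{u}) → WithConstructibleTopology (A : Scheme.{u}) := fun z => WithTopology.toTopology _ z
  have hg : Continuous g := continuous_def.2 fun s hs => isOpen_iff_forall_mem_open.2 fun z hz => by
    obtain ⟨W, hW, hzW, hWs⟩ := SoberTop.exists_open_of_minPts isClosed_univ
      (show z ∈ SoberTop.minPts (Set.univ : Set (A : Scheme.{u})) from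
        ⟨trivial, fun w _ hw => Subtype.ext (h z.1 w.1 (hw.map A.ι.continuous))⟩)
      (C := g ⁻¹' s) hs hz
    exact ⟨W, fun w hw => hWs ⟨hw, trivial⟩, hW, hzW⟩
  exact separated_by_continuous hg fun e => hxy (WithTopology.toTopology_injective _ e)

/-- Compact opens are closed. -/
theorem isClosed_of_isCompact [QuasiSeparatedSpace U] (h : ∀ x y : U, y ⤳ x → y = x) {V : U.Opens}
    (hV : IsCompact (V : Set U)) : IsClosed (V : Set U) := by
  rw [← isOpen_compl_iff, isOpen_iff_forall_mem_open]
  intro z hz
  obtain ⟨_, ⟨A, hA, rfl⟩, hzA, -⟩ :=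
    U.isBasis_affineOpens.exists_subset_of_mem_open (Set.mem_univ z) isOpen_univ
  change U.Opens at A
  have := t2Space_affine h hA
  have hc : IsCompact ((V : Set U) ∩ (A : Set U)) := hV.inter_of_isOpen hA.isCompact V.2 A.2
  have hc' : IsCompact (A.ι ⁻¹' (V : Set U)) := by
    rw [A.ι.isOpenEmbedding.isInducing.isCompact_iff, Set.image_preimage_eq_inter_range, Scheme.Opens.range_ι]
    exact hc
  refine ⟨(A : Set U) ∩ (V : Set U)ᶜ, Set.inter_subset_right, ?_, hzA, hz⟩
  have h1 := A.ι.isOpenEmbedding.isOpenMap _ hc'.isClosed.isOpen_compl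
  rwa [← Set.preimage_compl, Set.image_preimage_eq_inter_range, Scheme.Opens.range_ι, Set.inter_comm] at h1

/-- Quasi-compact opens are affine. -/
theorem isAffineOpen_of_isCompact [QuasiSeparatedSpace U] (h : ∀ x y : U, y ⤳ x → y = x) (V : U.Opens)
    (hV : IsCompact (V : Set U)) : IsAffineOpen V := by
  have clopen : ∀ {B C : U.Opens}, IsAffineOpen B → C ≤ B → IsClosed (C : Set U) → IsAffineOpen C := by
    intro B C hB hCB hC
    have : IsAffine (B : Scheme.{u}) := hB
    have : IsClosedImmersion (U.homOfLE hCB) := IsClosedImmersion.of_isPreimmersion _ (by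
      have hr : Set.range (U.homOfLE hCB) = B.ι ⁻¹' (C : Set U) := by
        ext b
        constructor
        · rintro ⟨c, rfl⟩
          show B.ι (U.homOfLE hCB c) ∈ C
          rw [← Scheme.Hom.comp_apply, Scheme.homOfLE_ι]
          exact c.2
        · intro hb
          refine ⟨⟨b.1, hb⟩, B.ι.isOpenEmbedding.injective ?_⟩
          rw [← Scheme.Hom.comp_apply, Scheme.homOfLE_ι]
          rfl
      rw [hr]
      exact hC.preimage B.ι.continuous)
    show IsAffine (C : Scheme.{u})
    exact isAffine_of_isAffineHom (U.homOfLE hCB)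
  obtain ⟨s, hs, hVs⟩ := (isCompact_and_isOpen_iff_finite_and_eq_biUnion_affineOpens).1 ⟨hV, V.2⟩
  have : ∀ t : Finset U.affineOpens, IsAffineOpen (t.sup fun A => A.1) := by
    classical
    intro t
    induction t using Finset.induction with
    | empty => simpa using isAffineOpen_bot U
    | @insert A t _ ih =>
      rw [Finset.sup_insert]
      let C : U.Opens := ⟨(A.1 : Set U) \ (t.sup fun A => A.1 : U.Opens), IsOpen.sdiff A.1.2
        (isClosed_of_isCompact h ih.isCompact)⟩
      have hC : IsAffineOpen C := clopen A.2 (fun x hx => hx.1)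
        ((isClosed_of_isCompact h A.2.isCompact).sdiff (t.sup fun A => A.1 : U.Opens).2)
      have e : A.1 ⊔ (t.sup fun A => A.1) = C ⊔ (t.sup fun A => A.1) :=
        TopologicalSpace.Opens.ext Set.sdiff_union_self.symm
      rw [e]
      exact hC.sup_of_disjoint ih (TopologicalSpace.Opens.coe_disjoint.1 Set.disjoint_sdiff_left)
  convert this hs.toFinset using 1
  refine TopologicalSpace.Opens.ext (hVs.trans ?_)
  simp [Finset.sup_eq_iSup]

/-- Separatedness. -/
theorem isSeparated [QuasiSeparatedSpace U] (h : ∀ x y : U, y ⤳ x → y = x) : U.IsSeparated := by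
  constructor
  have : QuasiSeparated (terminal.from U) := (quasiSeparatedSpace_iff_quasiSeparated U).1 inferInstance
  refine IsSeparated.of_valuativeCriterion _ fun Sq => ⟨fun l₁ l₂ => CommSq.LiftStruct.ext ?_⟩
  let η : Spec (CommRingCat.of Sq.R) := Spec.map (CommRingCat.ofHom (algebraMap Sq.R Sq.K)) default
  have hgen : ∀ x, x ⤳ IsLocalRing.closedPoint Sq.R := IsLocalRing.specializes_closedPoint
  have key : ∀ (l : Spec (CommRingCat.of Sq.R) ⟶ U) x, l x = l η := fun l x =>
    (h _ _ ((hgen x).map l.continuous)).trans (h _ _ ((hgen η).map l.continuous)).symm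
  obtain ⟨_, ⟨A, hA, rfl⟩, hηA, -⟩ :=
    U.isBasis_affineOpens.exists_subset_of_mem_open (Set.mem_univ (l₁.l η)) isOpen_univ
  change U.Opens at A
  have hη : l₂.l η = l₁.l η := by
    show l₂.l (Spec.map _ default) = l₁.l (Spec.map _ default)
    rw [← Scheme.Hom.comp_apply, ← Scheme.Hom.comp_apply, l₁.fac_left, l₂.fac_left]
  have hr : ∀ l : Spec (CommRingCat.of Sq.R) ⟶ U, l η ∈ A → Set.range l ⊆ Set.range A.ι := fun l hl => by
    rintro _ ⟨x, rfl⟩
    rw [key l x, Scheme.Opens.range_ι]
    exact hl
  have : IsAffine (A : Scheme.{u}) := hA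
  have : IsDominant (Spec.map (CommRingCat.ofHom (algebraMap Sq.R Sq.K))) := by
    constructor
    exact (PrimeSpectrum.denseRange_comap_iff_ker_le_nilRadical _).2
      (by rw [show RingHom.ker (CommRingCat.ofHom (algebraMap Sq.R Sq.K)).hom = ⊥ from
        (RingHom.injective_iff_ker_eq_bot _).1 (IsFractionRing.injective Sq.R Sq.K)]; exact bot_le)
  have e := ext_of_isDominant (Spec.map (CommRingCat.ofHom (algebraMap Sq.R Sq.K)))
    (f := IsOpenImmersion.lift A.ι l₁.l (hr _ hηA))
    (g := IsOpenImmersion.lift A.ι l₂.l (hr _ (hη ▸ hηA))) (by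
      rw [← cancel_mono A.ι, Category.assoc, Category.assoc, IsOpenImmersion.lift_fac, IsOpenImmersion.lift_fac,
        l₁.fac_left, l₂.fac_left])
  have := congrArg (· ≫ A.ι) e
  simpa only [IsOpenImmersion.lift_fac] using this

end Groth.L23.DimZero
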