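import Groth.Agent.L23.EffCartierSub
import Groth.Agent.L23.SchKer
import Groth.Agent.L23.AffineMor
import Groth.Agent.S8853
import Groth.Agent.S1571
import Groth.Prelude.Def_W4stk3spdivLocPr

/-!
# The complement of a locally principal closed subspace
-/

universe u

open CategoryTheory CategoryTheory.Limits AlgebraicGeometry Opposite AlgSp TopologicalSpace

set_option autoImplicit false
set_option linter.style.haveILetI false
set_option backward.isDefEq.respectTransparency.types false

namespace Groth.L23.EffCart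

variable {S : Scheme.{u}} {X Z U : Sp S}

/-- The complementary open on a chart. -/
theorem exists_isPullback_compl {i : Z ⟶ X} {j : U ⟶ X} (hj : RepWith @IsOpenImmersion j)
    (hU : Set.range (Points.map j) = (Set.range (Points.map i))ᶜ) {V : Over S} {φ : (yon S).obj V ⟶ X}
    {I : V.left.IdealSheafData} {fst : (yon S).obj (Over.mk (I.subschemeι ≫ V.hom)) ⟶ Z}
    (sq : IsPullback fst ((yon S).map (Over.homMk I.subschemeι rfl : Over.mk (I.subschemeι ≫ V.hom) ⟶ V)) i φ) :
    ∃ fst', IsPullback fst' ((yon S).map (Over.homMk (Scheme.Opens.ι (X := V.left) I.support.compl) rfl :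
      Over.mk (Scheme.Opens.ι (X := V.left) I.support.compl ≫ V.hom) ⟶ V)) j φ := by
  haveI : IsOpenImmersion (hj.1.snd φ).left := repWith_snd hj φ
  let C : V.left.Opens := I.support.compl
  have h1 := preimage_image_map sq Set.univ
  have h2 := preimage_image_map (hj.1.isPullback φ) Set.univ
  rw [Set.image_univ, Set.preimage_univ, Set.image_univ] at h1 h2
  have hr : Set.range (hj.1.snd φ).left = Set.range C.ι := by
    rw [Scheme.Opens.range_ι, ← h2, hU, Set.preimage_compl, h1]
    show (Set.range I.subschemeι)ᶜ = _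
    rw [Scheme.IdealSheafData.range_subschemeι]
    rfl
  let e₀ := IsOpenImmersion.isoOfRangeEq (hj.1.snd φ).left C.ι hr
  let e : hj.1.pullback φ ≅ Over.mk (C.ι ≫ V.hom) := Over.isoMk e₀ (by
    show e₀.hom ≫ C.ι ≫ V.hom = _
    rw [IsOpenImmersion.isoOfRangeEq_hom_fac_assoc]
    exact Over.w _)
  have he : e.hom ≫ (Over.homMk C.ι rfl : Over.mk (C.ι ≫ V.hom) ⟶ V) = hj.1.snd φ :=
    Over.OverMorphism.ext (IsOpenImmersion.isoOfRangeEq_hom_fac _ _ hr)
  exact ⟨(yon S).map e.inv ≫ hj.1.fst φ, (hj.1.isPullback φ).of_iso ((yon S).mapIso e) (Iso.refl _) (Iso.refl _)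
    (Iso.refl _) (by rw [Iso.refl_hom, Category.comp_id, Functor.mapIso_hom, ← Functor.map_comp_assoc, e.hom_inv_id,
      CategoryTheory.Functor.map_id, Category.id_comp])
    (by rw [Iso.refl_hom, Category.comp_id, Functor.mapIso_hom, ← Functor.map_comp, he]) (by simp) (by simp)⟩

theorem isAffineMor_compl {i : Z ⟶ X} (hZ : IsLocPrincipalSub i) {j : U ⟶ X} (hj : RepWith @IsOpenImmersion j)
    (hU : Set.range (Points.map j) = (Set.range (Points.map i))ᶜ) : IsAffineMor j := by
  obtain ⟨-, V, φ, I, fst, hφ, hs, sq, hI⟩ := hZ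
  obtain ⟨fst', sq'⟩ := exists_isPullback_compl hj hU sq
  exact isAffineMor_of_cover hφ hs sq' (isAffineMor_iff.2 (repWith_map (Groth.Agent.S8853.result I hI)))

theorem isLocPrincipalSub_of_isEffCartierSub {i : Z ⟶ X} (h : IsEffCartierSub i) : IsLocPrincipalSub i := by
  obtain ⟨hi, V, φ, I, fst, hφ, hs, sq, hI⟩ := h
  refine ⟨hi, V, φ, I, fst, hφ, hs, sq, fun v _ => ?_⟩
  obtain ⟨W, hv, f, -, hW⟩ := hI v
  exact ⟨W, hv, f, hW⟩

theorem isSchDense_compl {i : Z ⟶ X} (hD : IsEffCartierSub i) {j : U ⟶ X} (hj : RepWith @IsOpenImmersion j)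
    (hU : Set.range (Points.map j) = (Set.range (Points.map i))ᶜ) : IsSchDense j := by
  obtain ⟨-, V, φ, I, fst, hφ, hs, sq, hI⟩ := hD
  obtain ⟨fst', sq'⟩ := exists_isPullback_compl hj hU sq
  obtain ⟨haff, hdom⟩ := Groth.Agent.S1571.result V.left I hI
  exact ⟨hj, V, φ, _, fst', hφ, hs, sq', SchKer.isSchematicallyDense_of_ker_eq_bot _ hdom.1⟩

end Groth.L23.EffCart
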