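import Groth.Agent.L22.Ideal
import Groth.Agent.L11.SmRegular.Basic
import Groth.Agent.L06.QuotRegular
import Groth.Agent.L06.FlatFibre
import Groth.Agent.L06.NormalAscent
import Groth.Prelude.Def_Pi1

/-!
# Depth on an effective Cartier divisor
-/

universe u

open CategoryTheory AlgebraicGeometry TopologicalSpace IsLocalRing

set_option autoImplicit false
set_option linter.style.haveILetI false
set_option backward.isDefEq.respectTransparency.types false

namespace Groth.L23.EffCart

theorem dim_depth_of_surjective {R A : Type u} [CommRing R] [IsLocalRing R] [IsNoetherianRing R] [CommRing A]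
    [IsLocalRing A] (φ : R →+* A) (hφ : Function.Surjective φ) {x : R} (hx : x ∈ maximalIdeal R)
    (hreg : x ∈ nonZeroDivisors R) (hker : RingHom.ker φ = Ideal.span {x}) :
    ringKrullDim A + 1 = ringKrullDim R ∧ LocCoh.depth A A + 1 = LocCoh.depth R R := by
  let e : R ⧸ Ideal.span {x} ≃+* A :=
    (Ideal.quotEquivOfEq hker.symm).trans (RingHom.quotientKerEquivOfSurjective hφ)
  haveI : Nontrivial (R ⧸ Ideal.span {x}) := e.toEquiv.nontrivial
  haveI : IsLocalRing (R ⧸ Ideal.span {x}) := .of_surjective' _ Ideal.Quotient.mk_surjective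
  obtain ⟨h1, h2⟩ := Groth.L06.QuotRegular.dim_depth_succ R hx
    (IsSMulRegular.of_right_eq_zero_of_smul fun a ha => (mem_nonZeroDivisors_iff.1 hreg).1 a ha)
  exact ⟨by rwa [← ringKrullDim_eq_of_ringEquiv e], by rwa [Groth.L06.FlatFibre.depth_eq_of_ringEquiv e]⟩

theorem exists_stalk_equation {X : Scheme.{u}} [IsLocallyNoetherian X] {𝓘 : X.IdealSheafData}
    (h : BlowUp.IsEffCartierIdeal 𝓘) (d : 𝓘.subscheme) :
    ringKrullDim (𝓘.subscheme.presheaf.stalk d) + 1 = ringKrullDim (X.presheaf.stalk (𝓘.subschemeι d)) ∧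
      LocCoh.depth (𝓘.subscheme.presheaf.stalk d) (𝓘.subscheme.presheaf.stalk d) + 1 =
        LocCoh.depth (X.presheaf.stalk (𝓘.subschemeι d)) (X.presheaf.stalk (𝓘.subschemeι d)) := by
  obtain ⟨U, hU, f, hf, hI⟩ := h (𝓘.subschemeι d)
  obtain ⟨hs, hk⟩ := Groth.L11.SmRegular.stalkMap_subschemeι 𝓘 d U hU
  rw [hI, Ideal.map_span, Set.image_singleton] at hk
  letI := X.presheaf.algebra_section_stalk ⟨𝓘.subschemeι d, hU⟩
  haveI := U.2.isLocalization_stalk ⟨𝓘.subschemeι d, hU⟩
  refine dim_depth_of_surjective _ hs ?_ ?_ hk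
  · refine (IsLocalRing.mem_maximalIdeal _).2 fun hu => ?_
    have : (𝓘.subschemeι.stalkMap d).hom ((X.presheaf.germ U.1 _ hU).hom f) = 0 := by
      rw [← RingHom.mem_ker, hk]; exact Ideal.mem_span_singleton_self _
    exact not_isUnit_zero (this ▸ hu.map (𝓘.subschemeι.stalkMap d).hom)
  · exact IsLocalization.map_nonZeroDivisors_le
      (U.2.primeIdealOf ⟨𝓘.subschemeι d, hU⟩).asIdeal.primeCompl (X.presheaf.stalk (𝓘.subschemeι d)) ⟨f, hf, rfl⟩

theorem sk_of_effCartier {X : Scheme.{u}} [IsLocallyNoetherian X] {k : ℕ}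
    (hX : ∀ x : X, min (k : WithBot ℕ∞) (ringKrullDim (X.presheaf.stalk x)) ≤
      ((LocCoh.depth (X.presheaf.stalk x) (X.presheaf.stalk x) : ℕ∞) : WithBot ℕ∞))
    {𝓘 : X.IdealSheafData} (h : BlowUp.IsEffCartierIdeal 𝓘) (d : 𝓘.subscheme) :
    min ((k - 1 : ℕ) : WithBot ℕ∞) (ringKrullDim (𝓘.subscheme.presheaf.stalk d)) ≤
      ((LocCoh.depth (𝓘.subscheme.presheaf.stalk d) (𝓘.subscheme.presheaf.stalk d) : ℕ∞) : WithBot ℕ∞) := by
  have hk := hX (𝓘.subschemeι d)
  obtain ⟨h1, h2⟩ := exists_stalk_equation h d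
  rw [← h1, ← h2] at hk
  revert hk
  generalize LocCoh.depth (𝓘.subscheme.presheaf.stalk d) (𝓘.subscheme.presheaf.stalk d) = e
  generalize ringKrullDim (𝓘.subscheme.presheaf.stalk d) = r
  intro hk
  cases e with
  | top => exact le_top
  | coe e =>
    by_contra hlt
    rw [not_le, lt_min_iff] at hlt
    obtain ⟨hlt1, hlt2⟩ := hlt
    have hk' : e + 2 ≤ k := by
      have : e < k - 1 := ENat.coe_lt_coe.1 (WithBot.coe_lt_coe.1 hlt1)
      omega
    cases r with
    | bot => exact not_lt_bot hlt2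
    | coe r =>
      cases r with
      | top =>
        rw [min_le_iff] at hk
        rcases hk with hk | hk
        · have : k ≤ e + 1 := by exact_mod_cast hk
          omega
        · exact absurd (WithBot.coe_le_coe.1 hk) (by simp)
      | coe r =>
        rw [min_le_iff] at hk
        have hr : e < r := by exact_mod_cast hlt2
        rcases hk with hk | hk
        · have : k ≤ e + 1 := by exact_mod_cast hk
          omega
        · have : r + 1 ≤ e + 1 := by exact_mod_cast hk
          omega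

end Groth.L23.EffCart

namespace Groth.L23.EffCart

open AlgebraicGeometry IsLocalRing

theorem s1_of_effCartier_normal {X : Scheme.{u}} [IsLocallyNoetherian X] (hX : Pi1.IsNormalScheme X)
    {𝓘 : X.IdealSheafData} (h : BlowUp.IsEffCartierIdeal 𝓘) (d : 𝓘.subscheme) :
    min ((1 : ℕ) : WithBot ℕ∞) (ringKrullDim (𝓘.subscheme.presheaf.stalk d)) ≤
      ((LocCoh.depth (𝓘.subscheme.presheaf.stalk d) (𝓘.subscheme.presheaf.stalk d) : ℕ∞) : WithBot ℕ∞) := by
  obtain ⟨h1, h2⟩ := exists_stalk_equation h d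
  haveI := (hX (𝓘.subschemeι d)).1
  haveI := (hX (𝓘.subschemeι d)).2
  by_cases hd : ringKrullDim (X.presheaf.stalk (𝓘.subschemeι d)) ≤ 1
  · rw [← h1] at hd
    refine le_trans (min_le_right _ _) (le_trans (b := 0) ?_ (WithBot.coe_le_coe.2 bot_le))
    revert hd
    generalize ringKrullDim (𝓘.subscheme.presheaf.stalk d) = r
    intro hd
    cases r with
    | bot => exact bot_le
    | coe r =>
      cases r with
      | top => exact absurd hd (by decide)
      | coe r =>
        have : r + 1 ≤ 1 := by exact_mod_cast hd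
        have : r = 0 := by omega
        subst this
        exact le_rfl
  · have h3 := Groth.L06.NormalAscent.two_le_depth_of_normal hd
    rw [← h2] at h3
    refine le_trans (min_le_left _ _) ?_
    revert h3
    generalize LocCoh.depth (𝓘.subscheme.presheaf.stalk d) (𝓘.subscheme.presheaf.stalk d) = e
    intro h3
    cases e with
    | top => exact le_top
    | coe e =>
      have : 2 ≤ e + 1 := by exact_mod_cast h3
      exact WithBot.coe_le_coe.2 (ENat.coe_le_coe.2 (show 1 ≤ e by omega))

end Groth.L23.EffCart
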