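import Groth.Agent.L23.EffCartierSub
import Groth.Agent.S1686

/-!
# The dimension drops along an effective Cartier divisor
-/

universe u

open CategoryTheory CategoryTheory.Limits AlgebraicGeometry Opposite AlgSp TopologicalSpace

set_option autoImplicit false
set_option linter.style.haveILetI false
set_option backward.isDefEq.respectTransparency.types false

namespace Groth.L23.EffCart

theorem hasAt_localDim_lt {S : Scheme.{u}} {X D : Sp S} {i : D ⟶ X} (hD : IsEffCartierSub i) (x : Points D)
    {d : WithBot ℕ∞} (hd : HasAt (fun U u => FlatMor.localDim ↥U u = d) X (Points.map i x)) (hfin : d ≠ ⊤) :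
    HasAt (fun V v => FlatMor.localDim ↥V v < d) D x := by
  obtain ⟨U, a, u, ha, hu, hdim⟩ := hd
  obtain ⟨fst, sq⟩ := exists_isPullback_subscheme hD.1 a
  obtain ⟨v, hv, hvu⟩ := exists_point_of_isPullback sq hu.symm
  have hvu' : (hD.1.1.snd a).left.ker.subschemeι v = u := hvu
  refine ⟨_, fst, v, repWith_of_isPullback sq.flip ha, hv, ?_⟩
  subst hvu'
  subst hdim
  exact Groth.Agent.S1686.result U.left _ (isEffCartier_ker hD ha) v hfin

end Groth.L23.EffCart
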