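import Groth.Agent.L22.FlatPullback
import Groth.Agent.L22.Ideal
import Mathlib.RingTheory.Flat.FaithfullyFlat.Algebra
import Mathlib.AlgebraicGeometry.Morphisms.UniversallyOpen
import Mathlib.AlgebraicGeometry.Morphisms.Etale

/-!
# Effective Cartier ideals descend along etale surjections
-/

universe u

open CategoryTheory AlgebraicGeometry TopologicalSpace

set_option autoImplicit false
set_option linter.style.haveILetI false
set_option backward.isDefEq.respectTransparency.types false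

namespace Groth.L23.EffCart

theorem span_singleton_of_faithfullyFlat {A B : Type u} [CommRing A] [CommRing B] [Algebra A B]
    [Module.FaithfullyFlat A B] (I : Ideal A) (g : A) (hI : I.map (algebraMap A B) = Ideal.span {algebraMap A B g})
    (hg : algebraMap A B g ∈ nonZeroDivisors B) : g ∈ nonZeroDivisors A ∧ I = Ideal.span {g} := by
  refine ⟨?_, ?_⟩
  · rw [mem_nonZeroDivisors_iff_right]
    intro a ha
    apply FaithfulSMul.algebraMap_injective A B
    rw [map_zero]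
    exact (mem_nonZeroDivisors_iff_right.1 hg) _ (by rw [← map_mul, ha, map_zero])
  · rw [← I.comap_map_eq_self_of_faithfullyFlat (B := B), ← (Ideal.span {g}).comap_map_eq_self_of_faithfullyFlat (B := B),
      hI, Ideal.map_span, Set.image_singleton]

variable {X Y : Scheme.{u}}

theorem isEffCartier_of_comap (b : Y ⟶ X) [Etale b] [Surjective b] {I : X.IdealSheafData}
    (h : BlowUp.IsEffCartierIdeal (I.comap b)) : BlowUp.IsEffCartierIdeal I := by
  intro x
  obtain ⟨r, rfl⟩ := b.surjective x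
  obtain ⟨U₀, hrU₀, f, -, -, hU₀⟩ := Groth.L22.Ideals.exists_generator h r
  obtain ⟨V, W, hWV, hrW, hWU, -⟩ := Groth.L22.Ideals.exists_affine_pair b r hrU₀ (W' := (⊤ : X.Opens)) trivial
  obtain ⟨hf, hW⟩ := hU₀ W hWU
  rw [Groth.L22.Ideals.comap_ideal b I V W hWV] at hW
  set φ := (b.appLE V.1 W.1 hWV).hom
  set f' := Y.presheaf.map (homOfLE hWU).op f
  -- some element of the ideal of the base generates near `r`
  obtain ⟨g, hgI, c, hgc, hrc⟩ : ∃ g ∈ I.ideal V, ∃ c : Γ(Y, W.1), φ g = c * f' ∧ r ∈ Y.basicOpen c := by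
    by_contra hne
    push Not at hne
    let 𝔭 := (W.2.primeIdealOf ⟨r, hrW⟩).asIdeal
    have hle : (I.ideal V).map φ ≤ 𝔭 * Ideal.span {f'} := by
      rw [Ideal.map_le_iff_le_comap]
      intro g hg
      rw [Ideal.mem_comap]
      have hmem : φ g ∈ Ideal.span {f'} := hW ▸ Ideal.mem_map_of_mem φ hg
      obtain ⟨c, hc⟩ := Ideal.mem_span_singleton'.1 hmem
      rw [← hc]
      refine Ideal.mul_mem_mul ?_ (Ideal.mem_span_singleton_self f')
      by_contra hcp
      refine hne g hg c hc.symm ?_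
      have hp : W.2.primeIdealOf ⟨r, hrW⟩ ∈ W.2.fromSpec ⁻¹ᵁ Y.basicOpen c := by
        rw [W.2.fromSpec_preimage_basicOpen]
        exact hcp
      have h2 : W.2.fromSpec (W.2.primeIdealOf ⟨r, hrW⟩) ∈ Y.basicOpen c := hp
      rwa [W.2.fromSpec_primeIdealOf] at h2
    have hf' : f' ∈ 𝔭 * Ideal.span {f'} := hle (hW ▸ Ideal.mem_span_singleton_self f')
    obtain ⟨c, hc, hcf⟩ := Ideal.mem_mul_span_singleton.1 hf'
    have h1 : c = 1 := by
      have := (mem_nonZeroDivisors_iff_right.1 hf) (c - 1) (by rw [sub_mul, one_mul, hcf, sub_self])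
      exact sub_eq_zero.1 this
    exact (W.2.primeIdealOf ⟨r, hrW⟩).isPrime.ne_top ((Ideal.eq_top_iff_one _).2 (h1 ▸ hc))
  have hopen : IsOpen (b '' (Y.basicOpen c : Set Y)) := b.isOpenMap _ (Y.basicOpen c).isOpen
  obtain ⟨a, ha, hxa⟩ := V.2.exists_basicOpen_le (V := ⟨_, hopen⟩) ⟨b r, r, hrc, rfl⟩ (hWV hrW)
  let Xa : X.affineOpens := ⟨X.basicOpen a, V.2.basicOpen a⟩
  let Ya : Y.affineOpens := ⟨Y.basicOpen (c * φ a), W.2.basicOpen _⟩
  have hYa : Ya.1 ≤ Y.basicOpen c ⊓ b ⁻¹ᵁ Xa.1 := by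
    show Y.basicOpen (c * φ a) ≤ _
    rw [Scheme.basicOpen_mul, Scheme.basicOpen_appLE]
    exact inf_le_inf_left _ inf_le_right
  have hle : Ya.1 ≤ b ⁻¹ᵁ Xa.1 := hYa.trans inf_le_right
  have hYW : Ya.1 ≤ W.1 := Y.basicOpen_le _
  set ψ := (b.appLE Xa.1 Ya.1 hle).hom
  letI := ψ.toAlgebra
  haveI : Module.Flat Γ(X, Xa.1) Γ(Y, Ya.1) := b.flat_appLE Xa.2 Ya.2 hle
  have hsurj : ∀ x' ∈ Xa.1, ∃ y ∈ Ya.1, b y = x' := fun x' hx' => by
    obtain ⟨y, hy, rfl⟩ := ha hx'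
    refine ⟨y, ?_, rfl⟩
    show y ∈ Y.basicOpen (c * φ a)
    rw [Scheme.basicOpen_mul, Scheme.basicOpen_appLE]
    exact ⟨hy, (Y.basicOpen_le c hy), hx'⟩
  haveI : Module.FaithfullyFlat Γ(X, Xa.1) Γ(Y, Ya.1) := by
    refine Module.FaithfullyFlat.of_comap_surjective fun q => ?_
    obtain ⟨y, hy, hyx⟩ := hsurj (Xa.2.fromSpec q) (by rw [← SetLike.mem_coe, ← Xa.2.range_fromSpec]; exact ⟨q, rfl⟩)
    refine ⟨Ya.2.primeIdealOf ⟨y, hy⟩, Xa.2.fromSpec.isOpenEmbedding.injective ?_⟩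
    have hnat : Spec.map (b.appLE Xa.1 Ya.1 hle) ≫ Xa.2.fromSpec = Ya.2.fromSpec ≫ b :=
      IsAffineOpen.SpecMap_appLE_fromSpec b Xa.2 Ya.2 hle
    show Xa.2.fromSpec (Spec.map (b.appLE Xa.1 Ya.1 hle) (Ya.2.primeIdealOf ⟨y, hy⟩)) = _
    rw [← Scheme.Hom.comp_apply, hnat, Scheme.Hom.comp_apply, Ya.2.fromSpec_primeIdealOf]
    exact hyx
  have hXV : Xa.1 ≤ V.1 := X.basicOpen_le a
  let g' := X.presheaf.map (homOfLE hXV).op g
  have hψg : ψ g' = Y.presheaf.map (homOfLE hYW).op (φ g) := by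
    show (X.presheaf.map (homOfLE hXV).op ≫ b.appLE Xa.1 Ya.1 hle) g = (b.appLE V.1 W.1 hWV ≫ Y.presheaf.map _) g
    rw [Scheme.Hom.map_appLE, Scheme.Hom.appLE_map]
  obtain ⟨hf₂, hI₂⟩ := hU₀ Ya (hYW.trans hWU)
  have hres : Y.presheaf.map (homOfLE (hYW.trans hWU)).op f = Y.presheaf.map (homOfLE hYW).op f' := by
    show _ = Y.presheaf.map _ (Y.presheaf.map _ f)
    rw [← ConcreteCategory.comp_apply, ← Functor.map_comp]
    rfl
  rw [hres] at hf₂ hI₂
  have hu : IsUnit (Y.presheaf.map (homOfLE hYW).op c) := by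
    have h1 := (Y.toRingedSpace.isUnit_res_basicOpen c).map (Y.presheaf.map (homOfLE (hYa.trans inf_le_left)).op).hom
    erw [← ConcreteCategory.comp_apply, ← Functor.map_comp] at h1
    exact h1
  have hgen : ψ g' = Y.presheaf.map (homOfLE hYW).op c * Y.presheaf.map (homOfLE hYW).op f' := by
    rw [hψg, hgc, map_mul]
  obtain ⟨hnz, hspan⟩ := span_singleton_of_faithfullyFlat (B := Γ(Y, Ya.1)) (I.ideal Xa) g' (by
      show (I.ideal Xa).map (b.appLE Xa.1 Ya.1 hle).hom = _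
      rw [← Groth.L22.Ideals.comap_ideal b I Xa Ya hle, hI₂]
      show _ = Ideal.span {ψ g'}
      rw [hgen]
      exact (Ideal.span_singleton_mul_left_unit hu _).symm)
    (by show ψ g' ∈ _; rw [hgen]; exact mul_mem (hu.mem_nonZeroDivisors) hf₂)
  exact ⟨Xa, hxa, g', hnz, hspan⟩

end Groth.L23.EffCart
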