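import Groth.Agent.L23.EffCartierSub
import Groth.Agent.L23.EffCartierDepth

/-!
# Serre's conditions on effective Cartier divisors on algebraic spaces
-/

universe u

open CategoryTheory CategoryTheory.Limits AlgebraicGeometry Opposite AlgSp TopologicalSpace

set_option autoImplicit false
set_option linter.style.haveILetI false
set_option backward.isDefEq.respectTransparency.types false

namespace Groth.L23.EffCart

theorem etaleLocally_of_isEffCartierSub {S : Scheme.{u}} {X D : Sp S} {P Q : Scheme.{u} → Prop}
    (hX : EtaleLocally P X) {i : D ⟶ X} (hD : IsEffCartierSub i)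
    (hPQ : ∀ {U : Scheme.{u}}, P U → ∀ I : U.IdealSheafData, BlowUp.IsEffCartierIdeal I → Q I.subscheme) :
    EtaleLocally Q D := by
  obtain ⟨U, p, hp, hps, hU⟩ := hX
  obtain ⟨fst, sq⟩ := exists_isPullback_subscheme hD.1 p
  exact ⟨_, fst, repWith_of_isPullback sq.flip hp, repWith_of_isPullback sq.flip hps,
    hPQ hU _ (isEffCartier_ker hD hp)⟩

end Groth.L23.EffCart
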