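import Groth.Agent.L23.EtaleMono
import Groth.Agent.L23.OpenSub
import Groth.Agent.L23.Glue
import Groth.Agent.L23.MorCalc

/-!
# Colimits of spaces detected by etale spaces over them: tools
-/

universe w v u

open CategoryTheory CategoryTheory.Limits AlgebraicGeometry AlgSp

set_option backward.isDefEq.respectTransparency.types false
set_option linter.style.haveILetI false

namespace Groth.L23.EtColim

variable {S : Scheme.{u}}

theorem exists_affine_open {T : Over S} (t : T.left) :
    ∃ (W : Over S) (j : W ⟶ T), IsAffine W.left ∧ Etale j.left ∧ ∃ w, j.left w = t := by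
  obtain ⟨O, hO, ht, -⟩ := exists_isAffineOpen_mem_and_subset (X := T.left) (x := t) (U := ⊤) trivial
  exact ⟨openOver T O, openOverι T O, hO, inferInstanceAs (Etale O.ι), ⟨t, ht⟩, rfl⟩

/-- An affine etale chart through a given point. -/
theorem exists_affine_chart_at {F : Sp S} (hF : IsAlgSpace F) (y : Points F) :
    ∃ (U : Over S) (c : (yon S).obj U ⟶ F), IsAffine U.left ∧ RepWith @Etale c ∧ y ∈ Set.range (Points.map c) := by
  obtain ⟨V, p, hp, hps⟩ := hF.atlas
  obtain ⟨t, rfl⟩ := surjective_ofPt hps y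
  obtain ⟨W, j, hW, hj, w, rfl⟩ := exists_affine_open t
  refine ⟨W, (yon S).map j ≫ p, hW, repWith_comp (repWith_map hj) hp, Points.ofScheme W w, ?_⟩
  rw [← Points.ofPt_eq_map_ofScheme, ofPt_comp]

/-- An affine etale neighbourhood on which a map lifts to an etale chart. -/
theorem exists_common {F : Sp S} (hF : IsAlgSpace F) {V U : Over S} (x : (yon S).obj V ⟶ F)
    (c : (yon S).obj U ⟶ F) (hc : RepWith @Etale c) (v : V.left) (hv : Points.ofPt x v ∈ Set.range (Points.map c)) :
    ∃ (W : Over S) (j : W ⟶ V) (k : W ⟶ U), IsAffine W.left ∧ Etale j.left ∧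
      (RepWith @Etale x → Etale k.left) ∧ (yon S).map j ≫ x = (yon S).map k ≫ c ∧ ∃ w, j.left w = v := by
  obtain ⟨u, hu⟩ := hv
  obtain ⟨u, rfl⟩ := (Points.schemeEquiv U).surjective u
  obtain ⟨P, p₁, p₂, sq⟩ := exists_isPullback_of_representable (hF.representable_from_yon x) c
  obtain ⟨t, ht₁, -⟩ := (ofPt_eq_ofPt_iff sq v u).1 (hu.symm.trans (Points.ofPt_eq_map_ofScheme c u).symm)
  obtain ⟨W, j, hW, hj, w, rfl⟩ := exists_affine_open t
  have := hj
  have h₁ : Etale p₁.left := repWith_prop hc sq.flip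
  refine ⟨W, j ≫ p₁, j ≫ p₂, hW, inferInstanceAs (Etale (j.left ≫ p₁.left)), fun hx => ?_, ?_, w, ?_⟩
  · have : Etale p₂.left := repWith_prop hx sq
    exact inferInstanceAs (Etale (j.left ≫ p₂.left))
  · rw [Functor.map_comp, Functor.map_comp, Category.assoc, Category.assoc, sq.w]
  · rw [← ht₁]; rfl

variable {B : AlgSp.Space S} {I : Type v} [Category.{w} I] {D : I ⥤ Over B} {c : Cocone D}

/-- The sheaf of an object over the base. -/
abbrev oSp (x : Over B) : Sp S := x.left.obj

/-- The structure map. -/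
abbrev oq (x : Over B) : oSp x ⟶ B.obj := x.hom.hom

/-- The underlying map of sheaves. -/
abbrev oh {x y : Over B} (f : x ⟶ y) : oSp x ⟶ oSp y := f.left.hom

theorem oh_w {x y : Over B} (f : x ⟶ y) : oh f ≫ oq y = oq x :=
  congrArg InducedCategory.Hom.hom (Over.w f)

theorem oh_ext {x y : Over B} {f g : x ⟶ y} (h : oh f = oh g) : f = g :=
  Over.OverMorphism.ext (InducedCategory.hom_ext h)

/-- A morphism over the base from a map of sheaves. -/
def mkOh {x y : Over B} (f : oSp x ⟶ oSp y) (w : f ≫ oq y = oq x) : x ⟶ y :=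
  Over.homMk (InducedCategory.homMk f) (InducedCategory.hom_ext w)

/-- An object over the base. -/
def mkOb (X : Sp S) (hX : IsAlgSpace X) (q : X ⟶ B.obj) : Over B :=
  Over.mk (Y := (⟨X, hX⟩ : AlgSp.Space S)) (InducedCategory.homMk q)

section Members

variable {E : Sp S} (hE : IsAlgSpace E) (e : E ⟶ oSp c.pt)

/-- The members of a space over the colimit. -/
noncomputable def memObj (i : I) : Over B :=
  mkOb (pullback e (oh (c.ι.app i)))
    (isAlgSpace_of_isPullback c.pt.left.property.diag hE (D.obj i).left.property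
      (IsPullback.of_hasPullback e (oh (c.ι.app i))))
    (pullback.snd e (oh (c.ι.app i)) ≫ oq (D.obj i))

theorem oh_cocone {i j : I} (φ : i ⟶ j) : oh (D.map φ) ≫ oh (c.ι.app j) = oh (c.ι.app i) :=
  congrArg oh (c.w φ)

/-- The transition maps of the members. -/
noncomputable def memMap {i j : I} (φ : i ⟶ j) :
    pullback e (oh (c.ι.app i)) ⟶ pullback e (oh (c.ι.app j)) :=
  pullback.lift (pullback.fst e (oh (c.ι.app i))) (pullback.snd e (oh (c.ι.app i)) ≫ oh (D.map φ))
    (by rw [Category.assoc, oh_cocone]; exact pullback.condition)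

theorem memMap_fst {i j : I} (φ : i ⟶ j) :
    memMap e φ ≫ pullback.fst e (oh (c.ι.app j)) = pullback.fst e (oh (c.ι.app i)) := pullback.lift_fst _ _ _

theorem memMap_snd {i j : I} (φ : i ⟶ j) :
    memMap e φ ≫ pullback.snd e (oh (c.ι.app j)) = pullback.snd e (oh (c.ι.app i)) ≫ oh (D.map φ) :=
  pullback.lift_snd _ _ _

/-- The diagram of members. -/
noncomputable def mem : I ⥤ Over B where
  obj i := memObj hE e i
  map {i j} φ := mkOh (x := memObj hE e i) (y := memObj hE e j) (memMap e φ) (by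
    show memMap e φ ≫ pullback.snd e (oh (c.ι.app j)) ≫ oq (D.obj j) = pullback.snd e (oh (c.ι.app i)) ≫ oq (D.obj i)
    rw [← Category.assoc, memMap_snd, Category.assoc, oh_w])
  map_id i := oh_ext (by
    show memMap e (𝟙 i) = 𝟙 _
    apply pullback.hom_ext
    · rw [memMap_fst, Category.id_comp]
    · rw [memMap_snd, Category.id_comp, D.map_id]
      exact Category.comp_id _)
  map_comp {i j k} φ ψ := oh_ext (by
    show memMap e (φ ≫ ψ) = memMap e φ ≫ memMap e ψ
    apply pullback.hom_ext
    · rw [Category.assoc, memMap_fst, memMap_fst, memMap_fst]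
    · rw [Category.assoc, memMap_snd, memMap_snd, ← Category.assoc, memMap_snd, D.map_comp, Category.assoc]
      rfl)

/-- The projection of the members. -/
noncomputable def memNat : mem hE e ⟶ D where
  app i := mkOh (x := memObj hE e i) (pullback.snd e (oh (c.ι.app i))) rfl
  naturality i j φ := oh_ext (memMap_snd e φ)

/-- The coprojections of the members. -/
noncomputable def memι : mem hE e ⟶ (Functor.const I).obj (mkOb E hE (e ≫ oq c.pt)) where
  app i := mkOh (x := memObj hE e i) (y := mkOb E hE (e ≫ oq c.pt)) (pullback.fst e (oh (c.ι.app i))) (by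
    show pullback.fst e (oh (c.ι.app i)) ≫ e ≫ oq c.pt = pullback.snd e (oh (c.ι.app i)) ≫ oq (D.obj i)
    rw [pullback.condition_assoc, oh_w])
  naturality i j φ := oh_ext ((memMap_fst e φ).trans (Category.comp_id _).symm)

theorem mem_isPullback (i : I) :
    IsPullback ((memι hE e).app i).left.hom ((memNat hE e).app i).left.hom e (c.ι.app i).left.hom :=
  IsPullback.of_hasPullback e (oh (c.ι.app i))

end Members

/-- Etale spaces over the colimit map fully faithfully to their systems of members. -/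
def FullyFaithful (c : Cocone D) : Prop :=
  ∀ (U U' : Over B) (u : U ⟶ c.pt) (u' : U' ⟶ c.pt), IsEtaleMor u.left.hom → IsEtaleMor u'.left.hom →
    ∀ (DU DU' : I ⥤ Over B) (αU : DU ⟶ D) (αU' : DU' ⟶ D) (ιU : DU ⟶ (Functor.const I).obj U)
      (ιU' : DU' ⟶ (Functor.const I).obj U'),
      (∀ i, IsPullback (ιU.app i).left.hom (αU.app i).left.hom u.left.hom (c.ι.app i).left.hom) →
      (∀ i, IsPullback (ιU'.app i).left.hom (αU'.app i).left.hom u'.left.hom (c.ι.app i).left.hom) →
      ∀ (β : DU ⟶ DU'), β ≫ αU' = αU →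
        ∃! m : U ⟶ U', m ≫ u' = u ∧ ∀ i, ιU.app i ≫ m = β.app i ≫ ιU'.app i

/-- Maps between etale spaces over the colimit are glued from maps on the members. -/
theorem existsUnique_lift (hff : FullyFaithful c) {E E' : Sp S} (hE : IsAlgSpace E) (hE' : IsAlgSpace E')
    (e : E ⟶ oSp c.pt) (e' : E' ⟶ oSp c.pt) (he : IsEtaleMor e) (he' : IsEtaleMor e')
    (k : ∀ i, pullback e (oh (c.ι.app i)) ⟶ E')
    (hk : ∀ i, k i ≫ e' = pullback.snd e (oh (c.ι.app i)) ≫ oh (c.ι.app i))
    (hn : ∀ {i j : I} (φ : i ⟶ j), memMap e φ ≫ k j = k i) :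
    ∃! m : E ⟶ E', m ≫ e' = e ∧ ∀ i, pullback.fst e (oh (c.ι.app i)) ≫ m = k i := by
  let β : mem hE e ⟶ mem hE' e' :=
    { app := fun i => mkOh (x := memObj hE e i) (y := memObj hE' e' i)
        (pullback.lift (k i) (pullback.snd e (oh (c.ι.app i))) (hk i)) (by
          show pullback.lift _ _ _ ≫ pullback.snd e' (oh (c.ι.app i)) ≫ oq (D.obj i) = _
          rw [pullback.lift_snd_assoc]; rfl)
      naturality := fun i j φ => oh_ext (by
        show memMap e φ ≫ pullback.lift _ _ _ = pullback.lift _ _ _ ≫ memMap e' φ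
        apply pullback.hom_ext
        · rw [Category.assoc, Category.assoc, pullback.lift_fst, memMap_fst, pullback.lift_fst, hn]
        · rw [Category.assoc, Category.assoc, pullback.lift_snd, memMap_snd, memMap_snd, ← Category.assoc,
            pullback.lift_snd]) }
  obtain ⟨m, ⟨hm₁, hm₂⟩, hu⟩ := hff (mkOb E hE (e ≫ oq c.pt)) (mkOb E' hE' (e' ≫ oq c.pt))
    (mkOh (x := mkOb E hE (e ≫ oq c.pt)) e rfl) (mkOh (x := mkOb E' hE' (e' ≫ oq c.pt)) e' rfl) he he'
    (mem hE e) (mem hE' e') (memNat hE e) (memNat hE' e') (memι hE e) (memι hE' e') (mem_isPullback hE e)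
    (mem_isPullback hE' e') β (by
      ext1; funext i
      exact oh_ext (pullback.lift_snd _ _ _))
  refine ⟨oh m, ⟨congrArg oh hm₁, fun i => (congrArg oh (hm₂ i)).trans (pullback.lift_fst _ _ _)⟩, fun n hn' => ?_⟩
  have : mkOh (x := mkOb E hE (e ≫ oq c.pt)) (y := mkOb E' hE' (e' ≫ oq c.pt)) n (by
      show n ≫ e' ≫ oq c.pt = e ≫ oq c.pt
      rw [← Category.assoc, hn'.1]) = m := hu _ ⟨oh_ext hn'.1, fun i => oh_ext ((hn'.2 i).trans (pullback.lift_fst _ _ _).symm)⟩
  exact congrArg oh this

/-- Maps between etale spaces over the colimit are determined on the members. -/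
theorem ext_lift (hff : FullyFaithful c) {E E' : Sp S} (hE : IsAlgSpace E) (hE' : IsAlgSpace E')
    (e : E ⟶ oSp c.pt) (e' : E' ⟶ oSp c.pt) (he : IsEtaleMor e) (he' : IsEtaleMor e') (m m' : E ⟶ E')
    (hm : m ≫ e' = e) (hm' : m' ≫ e' = e)
    (h : ∀ i, pullback.fst e (oh (c.ι.app i)) ≫ m = pullback.fst e (oh (c.ι.app i)) ≫ m') : m = m' :=
  (existsUnique_lift hff hE hE' e e' he he' (fun i => pullback.fst e (oh (c.ι.app i)) ≫ m')
    (fun i => by rw [Category.assoc, hm', pullback.condition])
    (fun φ => by rw [← Category.assoc, memMap_fst])).unique ⟨hm, h⟩ ⟨hm', fun _ => rfl⟩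

end Groth.L23.EtColim
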