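import Groth.Agent.L23.ElemNbhd
import Groth.Agent.L23.EtColimitCore
import Groth.Agent.L23.Decent
import Groth.Agent.L09.Filtration.Chain

/-!
# Existence of elementary étale neighbourhoods
-/

universe u

open CategoryTheory CategoryTheory.Limits AlgebraicGeometry Opposite AlgSp TopologicalSpace

set_option autoImplicit false
set_option linter.style.haveILetI false
set_option backward.isDefEq.respectTransparency false
set_option backward.isDefEq.respectTransparency.types false

noncomputable section

namespace Groth.L23.ElemEx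

open Groth.L09.Filtration Groth.L23.Pt

variable {S : Scheme.{u}} {X : Sp S}

theorem exists_geometric_lift {U : Over S} (c : (yon S).obj U ⟶ X) (u : U.left) :
    ∃ (K : Type u) (_ : Field K) (_ : IsAlgClosed K) (w : Spec (CommRingCat.of K) ⟶ S) (y : Over.mk w ⟶ U),
      ∀ z, y.left z = u := by
  let ι := Spec.map (CommRingCat.ofHom (algebraMap (U.left.residueField u) (AlgebraicClosure (U.left.residueField u)))) ≫
    U.left.fromSpecResidueField u
  exact ⟨AlgebraicClosure (U.left.residueField u), inferInstance, inferInstance, ι ≫ U.hom, Over.homMk ι rfl,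
    fun z => (Scheme.Hom.comp_apply _ _ _).trans (Scheme.fromSpecResidueField_apply _ _)⟩

theorem degOneOn_restrict {V W : Over S} (a : (yon S).obj V ⟶ X) (j : W ⟶ V) [Mono j] {E : Set (Points X)}
    (h : DegOneOn a E) : DegOneOn ((yon S).map j ≫ a) E := by
  intro K _ _ w q z hz y y' hy hy'
  rw [← cancel_mono j]
  exact h q z hz _ _ (by rw [Functor.map_comp, Category.assoc]; exact hy)
    (by rw [Functor.map_comp, Category.assoc]; exact hy')

/-- An étale chart of degree one over a good point. -/
theorem exists_degOne_chart (hX : IsAlgSpace X) (x : Points X) (hx : GoodPt x) :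
    ∃ (V : Over S) (a : (yon S).obj V ⟶ X) (v : V.left),
      IsAffine V.left ∧ RepWith @Etale a ∧ Points.ofPt a v = x ∧ DegOneOn a {x} := by
  classical
  obtain ⟨p, hp, -, hqc⟩ := hx
  obtain ⟨U, c, hU, hc, xU⟩ := EtColim.exists_affine_chart_at hX x
  haveI := hU
  rw [range_map_yon] at xU
  obtain ⟨u₀, hu₀⟩ := xU
  obtain ⟨R, t, s, sq⟩ := exists_isPullback_of_representable hc.1 c
  haveI : Etale s.left := repWith_prop hc sq
  haveI : R.left.IsSeparated := isSeparated_rel sq
  haveI : IsSeparated (s.left ≫ terminal.from U.left) := by rw [terminal.comp_from]; infer_instance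
  haveI : IsSeparated s.left := IsSeparated.of_comp s.left (terminal.from U.left)
  let D : ∀ m, Tuples c m := fun m => Classical.choice (exists_tuples sq m)
  have hex := exists_not_mem_level hX hc D p hqc
  rw [hp] at hex
  have h0 : x ∈ level c D 0 := by
    obtain ⟨K, _, _, w, y, hy⟩ := exists_geometric_lift c u₀
    have hq : Points.ofPt ((yon S).map y ≫ c) (IsLocalRing.closedPoint K) = x := by
      rw [ofPt_comp, hy, hu₀]
    rw [← hq]
    exact (mem_level_iff hc D 0 _ _).2 ⟨fun _ => ⟨y, rfl⟩,
      fun i j _ => Subsingleton.elim (α := Fin 1) i j⟩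
  obtain ⟨m, hm⟩ : ∃ m, Nat.find hex = m + 1 := Nat.exists_eq_succ_of_ne_zero fun he =>
    (he ▸ Nat.find_spec hex) h0
  have hin : x ∈ level c D m := not_not.1 (Nat.find_min hex (m := m) (by omega))
  have hout : x ∉ level c D (m + 1) := hm ▸ Nat.find_spec hex
  obtain ⟨M, h, -, hhe, hhr, -, huniq⟩ := exists_levelChart hX hc D m
  obtain ⟨v₀, hv₀⟩ := hhr.ge hin
  obtain ⟨O, hO, hvO, -⟩ := exists_isAffineOpen_mem_and_subset (X := M.left) (x := v₀) (U := ⊤) trivial
  haveI : Mono (openOverι M O) := (Over.forget S).mono_of_mono_map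
    (inferInstanceAs (Mono O.ι))
  refine ⟨openOver M O, (yon S).map (openOverι M O) ≫ h, ⟨v₀, hvO⟩, hO,
    repWith_comp (repWith_map (inferInstanceAs (Etale O.ι))) hhe, (ofPt_comp _ h _).trans hv₀,
    degOneOn_restrict h _ ?_⟩
  intro K _ _ w q z hz y y' hy hy'
  exact huniq q z (fun hl => hout ((show Points.ofPt q z = x from hz) ▸ hl)) y y' hy hy'

/-- A chart of degree one over a point has one point over it. -/
theorem eq_of_degOneOn (hX : IsAlgSpace X) {x : Points X} {V : Over S} {a : (yon S).obj V ⟶ X}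
    (h : DegOneOn a {x}) {v v' : V.left} (hv : Points.ofPt a v = x) (hv' : Points.ofPt a v' = x) : v = v' := by
  obtain ⟨R, p, q, sq⟩ := exists_isPullback_of_representable (hX.representable_from_yon a) a
  obtain ⟨r, rfl, rfl⟩ := (ofPt_eq_ofPt_iff sq v v').1 (hv.trans hv'.symm)
  obtain ⟨K, _, _, w, y, hy⟩ := exists_geometric_lift ((yon S).map p ≫ a) r
  have e := h ((yon S).map (y ≫ p) ≫ a) (IsLocalRing.closedPoint K)
    (by
      show _ = x
      rw [ofPt_comp, Over.comp_left, Scheme.Hom.comp_apply, hy]
      exact hv)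
    (y ≫ p) (y ≫ q) rfl (by rw [Functor.map_comp, Functor.map_comp, Category.assoc, Category.assoc, sq.w])
  have e' := congrArg (fun g : Over.mk w ⟶ V => g.left (IsLocalRing.closedPoint K)) e
  simp only [Over.comp_left, Scheme.Hom.comp_apply] at e'
  erw [hy] at e'
  exact e'

/-- A chart of degree one over a good point is elementary there. -/
theorem mono_of_degOneOn (hX : IsAlgSpace X) {x : Points X} (p : FieldPt X) [Mono p.toHom] (hp : Points.mk p = x)
    {V : Over S} {a : (yon S).obj V ⟶ X} (ha : RepWith @Etale a) {v : V.left} (hv : Points.ofPt a v = x)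
    (h : DegOneOn a {x}) : Mono (FieldPt.ofPt a v).toHom := by
  refine Elem.mono_toHom ?_
  obtain ⟨T, c, t₂, sT, -, -, -⟩ := exists_fibre hX p a ha
  have hpt : ∀ y : Points ((yon S).obj p.pt), Points.map p.toHom y = x := fun y => by
    obtain ⟨y, rfl⟩ := (Points.schemeEquiv p.pt).surjective y
    show Points.map p.toHom (Points.ofScheme p.pt y) = x
    rw [← Points.ofPt_eq_map_ofScheme, Points.ofPt_toHom, hp]
  haveI : IsIso ((yon S).map c) := isIso_of_degOneOn (𝟙 X) a ha {x} (by rwa [Category.comp_id]) p.toHom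
    (fun y => by rw [Category.comp_id]; exact hpt y) (fun y => ⟨v, hv.trans (hpt y).symm⟩) _ _ _ sT
  have hq : Points.mk (FieldPt.ofPt a v) = Points.ofPt a v := rfl
  obtain ⟨e, he, -⟩ := existsUnique_factor hX p (FieldPt.ofPt a v) ((hp.trans hv.symm).trans hq.symm)
  simp only [FieldPt.toHom_ofPt] at he
  obtain ⟨k, hk₁, hk₂⟩ := exists_lift_yon sT e (Elem.pointι V v) he
  haveI := Elem.mono_pointι V v
  haveI : Mono (k ≫ t₂) := hk₂.symm ▸ inferInstanceAs (Mono (Elem.pointι V v))
  haveI : Mono k := mono_of_mono k t₂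
  haveI : Mono ((yon S).map k) := (yon S).map_mono k
  have key : Elem.ptHom a v = (yon S).map k ≫ (yon S).map c ≫ p.toHom := by
    show (yon S).map (Elem.pointι V v) ≫ a = _
    rw [← hk₂, Functor.map_comp, Category.assoc, ← sT.w]
  rw [key]
  haveI : Mono ((yon S).map c ≫ p.toHom) := inferInstance
  exact mono_comp _ _

end Groth.L23.ElemEx
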