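import Groth.Agent.L23.BranchNbhd
import Groth.Agent.L05.Hensel.Homs
import Groth.Agent.L21.CurvFib.EtaleField

/-!
# Henselizations along elementary étale neighbourhoods
-/

universe u

open CategoryTheory AlgebraicGeometry IsLocalRing

set_option linter.style.haveILetI false
set_option backward.isDefEq.respectTransparency.types false

namespace Groth.L23.Branch

/-- A residually trivial point of an étale algebra extends uniquely to henselian local rings. -/
theorem existsUnique_localExtension {R E : Type u} [CommRing R] [CommRing E] [Algebra R E] [Algebra.Etale R E]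
    (p : Ideal R) [p.IsPrime] (φ : E →ₐ[R] p.ResidueField) {C : Type u} [CommRing C] [HenselianLocalRing C]
    [Algebra R C] (hC : (maximalIdeal C).comap (algebraMap R C) = p) :
    ∃! f : E →ₐ[R] C, (maximalIdeal C).comap f.toRingHom = RingHom.ker φ := by
  let τ : p.ResidueField →ₐ[R] C ⧸ maximalIdeal C :=
    Ideal.ResidueField.liftₐ p (Algebra.ofId R _)
      (fun r hr => Ideal.Quotient.eq_zero_iff_mem.mpr (hC.ge hr))
      (fun s hs => by
        letI := Ideal.Quotient.field (maximalIdeal C)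
        refine isUnit_iff_ne_zero.mpr fun h => hs (hC.le ?_)
        exact (Ideal.Quotient.eq_zero_iff_mem (I := maximalIdeal C)).mp h)
  have hτ : Function.Injective τ := τ.toRingHom.injective
  obtain ⟨f, hf, hfu⟩ := Groth.L05.existsUnique_algHom_lift_etale (maximalIdeal C) (τ.comp φ)
  have hker : ∀ g : E →ₐ[R] C, (Ideal.Quotient.mkₐ R (maximalIdeal C)).comp g = τ.comp φ →
      (maximalIdeal C).comap g.toRingHom = RingHom.ker φ := fun g hg => by
    ext z
    rw [Ideal.mem_comap, RingHom.mem_ker, ← map_eq_zero_iff τ hτ, ← AlgHom.comp_apply, ← hg]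
    exact (Ideal.Quotient.eq_zero_iff_mem).symm
  refine ⟨f, hker f hf, fun g hg => hfu g (AlgHom.ext fun z => ?_)⟩
  obtain ⟨r, s, hs, hm⟩ := fractions_of_point p φ z
  have h1 : Ideal.Quotient.mk (maximalIdeal C) (g (z * algebraMap R E s - algebraMap R E r)) = 0 :=
    Ideal.Quotient.eq_zero_iff_mem.mpr (hg.ge hm)
  have h2 : φ (z * algebraMap R E s - algebraMap R E r) = 0 := hm
  rw [map_sub, map_mul, AlgHom.commutes, AlgHom.commutes, sub_eq_zero] at h2
  rw [map_sub, map_mul, AlgHom.commutes, AlgHom.commutes, map_sub, map_mul, sub_eq_zero] at h1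
  have hs' : IsUnit (algebraMap R (C ⧸ maximalIdeal C) s) := by
    letI := Ideal.Quotient.field (maximalIdeal C)
    exact isUnit_iff_ne_zero.mpr fun h => hs (hC.le ((Ideal.Quotient.eq_zero_iff_mem (I := maximalIdeal C)).mp h))
  refine hs'.mul_right_cancel ?_
  show Ideal.Quotient.mk _ (g z) * Ideal.Quotient.mk _ (algebraMap R C s) = τ (φ z) * _
  rw [h1, ← τ.commutes s, ← map_mul, h2, τ.commutes]
  rfl

/-- A henselization at a residually trivial étale neighbourhood is a henselization of the base point. -/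
theorem isHenselization_of_isEtaleNbhd {X U : Scheme.{u}} {g : U ⟶ X} {u : U}
    (h : Hens2.IsEtaleNbhd g u (g u)) (T : Type u) [CommRing T] [IsLocalRing T]
    [Algebra ↥(U.presheaf.stalk u) T] [IsLocalHom (algebraMap ↥(U.presheaf.stalk u) T)]
    [hT : Hensel.IsHenselization ↥(U.presheaf.stalk u) T] [Algebra ↥(X.presheaf.stalk (g u)) T]
    (halg : algebraMap ↥(X.presheaf.stalk (g u)) T =
      (algebraMap ↥(U.presheaf.stalk u) T).comp (g.stalkMap u).hom) :
    ∃ _ : IsLocalHom (algebraMap ↥(X.presheaf.stalk (g u)) T),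
      Hensel.IsHenselization ↥(X.presheaf.stalk (g u)) T := by
  obtain ⟨hg, -, hres⟩ := h
  haveI hl : IsLocalHom (algebraMap ↥(X.presheaf.stalk (g u)) T) := by
    rw [halg]
    exact RingHom.isLocalHom_comp _ _
  refine ⟨hl, hT.henselian, fun C _ _ f hf => ?_⟩
  obtain ⟨_, ⟨V, hV, rfl⟩, hxV, -⟩ :=
    X.isBasis_affineOpens.exists_subset_of_mem_open (Set.mem_univ (g u)) isOpen_univ
  obtain ⟨_, ⟨W, hW, rfl⟩, hu, hWV⟩ :=
    U.isBasis_affineOpens.exists_subset_of_mem_open (show u ∈ g ⁻¹ᵁ V from hxV) (g ⁻¹ᵁ V).isOpen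
  have e : W ≤ g ⁻¹ᵁ V := hWV
  letI : Algebra Γ(X, V) Γ(U, W) := (g.appLE V W e).hom.toAlgebra
  haveI : Algebra.Etale Γ(X, V) Γ(U, W) :=
    HasRingHomProperty.appLE @Etale g hg ⟨V, hV⟩ ⟨W, hW⟩ e
  obtain ⟨φ, hφ⟩ := exists_point_of_fractions (hV.primeIdealOf ⟨g u, e hu⟩).asIdeal
    (hW.primeIdealOf ⟨u, hu⟩).asIdeal (comap_primeIdealOf g e u hu hV hW)
    ((residueFieldMap_bijective_iff g e u hu hV hW).1 hres)
  haveI := hW.isLocalization_stalk ⟨u, hu⟩
  haveI := hV.isLocalization_stalk ⟨g u, e hu⟩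
  letI := U.presheaf.algebra_section_stalk (⟨u, hu⟩ : W)
  letI := X.presheaf.algebra_section_stalk (⟨g u, e hu⟩ : V)
  set p := (hV.primeIdealOf ⟨g u, e hu⟩).asIdeal with hp
  set q := (hW.primeIdealOf ⟨u, hu⟩).asIdeal with hq
  have hnat : ∀ r : Γ(X, V), g.stalkMap u (algebraMap Γ(X, V) (X.presheaf.stalk (g u)) r) =
      algebraMap Γ(U, W) (U.presheaf.stalk u) (algebraMap Γ(X, V) Γ(U, W) r) :=
    fun r => germ_stalkMap_appLE g e u hu r
  letI : Algebra Γ(X, V) C := (f.comp (algebraMap Γ(X, V) (X.presheaf.stalk (g u)))).toAlgebra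
  have hC : (maximalIdeal C).comap (algebraMap Γ(X, V) C) = p := by
    ext r
    show f _ ∈ maximalIdeal C ↔ _
    rw [← IsLocalization.AtPrime.to_map_mem_maximal_iff (X.presheaf.stalk (g u)) p r, mem_maximalIdeal,
      mem_maximalIdeal, mem_nonunits_iff, mem_nonunits_iff]
    exact not_congr (isUnit_map_iff f _)
  obtain ⟨k, hk, hku⟩ := existsUnique_localExtension p φ hC
  have hku' : ∀ k' : U.presheaf.stalk u →+* C, IsLocalHom k' → k'.comp (g.stalkMap u).hom = f →
      k'.comp (algebraMap Γ(U, W) (U.presheaf.stalk u)) = k.toRingHom := by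
    intro k' hk' hkf
    let k₀ : Γ(U, W) →ₐ[Γ(X, V)] C :=
      { k'.comp (algebraMap Γ(U, W) (U.presheaf.stalk u)) with
        commutes' := fun r => by
          show k' (algebraMap Γ(U, W) (U.presheaf.stalk u) (algebraMap Γ(X, V) Γ(U, W) r)) =
            f (algebraMap Γ(X, V) (X.presheaf.stalk (g u)) r)
          rw [← hnat, ← hkf]
          rfl }
    have : k₀ = k := hku k₀ (by
      rw [hφ]
      ext z
      show k' _ ∈ maximalIdeal C ↔ _
      rw [← IsLocalization.AtPrime.to_map_mem_maximal_iff (U.presheaf.stalk u) q z, mem_maximalIdeal,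
        mem_maximalIdeal, mem_nonunits_iff, mem_nonunits_iff]
      exact not_congr (isUnit_map_iff k' _))
    exact congrArg AlgHom.toRingHom this
  have hunit : ∀ s : q.primeCompl, IsUnit (k.toRingHom s) := fun s => by
    have : (s : Γ(U, W)) ∉ (maximalIdeal C).comap k.toRingHom := by
      rw [hk, hφ]
      exact s.2
    exact IsLocalRing.notMem_maximalIdeal.1 this
  let K : U.presheaf.stalk u →+* C := IsLocalization.lift hunit
  have hK : ∀ z, K (algebraMap Γ(U, W) (U.presheaf.stalk u) z) = k z := fun z => IsLocalization.lift_eq hunit z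
  haveI hKl : IsLocalHom K := ⟨fun t ht => by
    obtain ⟨a, s, rfl⟩ := IsLocalization.exists_mk'_eq q.primeCompl t
    rw [IsLocalization.AtPrime.isUnit_mk'_iff (U.presheaf.stalk u) q]
    intro ha
    refine (maximalIdeal.isMaximal C).ne_top (Ideal.eq_top_of_isUnit_mem _ ?_ ht)
    have ha' : a ∈ (maximalIdeal C).comap k.toRingHom := by rw [hk, hφ]; exact ha
    have h2 := congrArg K (IsLocalization.mk'_spec (U.presheaf.stalk u) a s)
    rw [map_mul, hK, hK] at h2
    exact ((maximalIdeal C).mul_unit_mem_iff_mem (hunit s)).1 (h2 ▸ ha')⟩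
  have hKf : K.comp (g.stalkMap u).hom = f := IsLocalization.ringHom_ext p.primeCompl (RingHom.ext fun r => by
    show K (g.stalkMap u (algebraMap Γ(X, V) (X.presheaf.stalk (g u)) r)) = _
    rw [hnat, hK, k.commutes]
    rfl)
  obtain ⟨G, hG, hGu⟩ := hT.universal C K hKl
  refine ⟨G, ?_, fun G' hG' => hGu G' ?_⟩
  · show G.comp _ = f
    rw [halg, ← RingHom.comp_assoc, hG, hKf]
  · haveI : IsLocalHom G' := ⟨fun t ht => by
      by_contra hne
      have hmem : t ∈ maximalIdeal T := hne
      have hmap : (maximalIdeal ↥(U.presheaf.stalk u)).map (algebraMap _ T) = maximalIdeal T :=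
        Groth.L05.Henselization.map_maximalIdeal_of_isPairHenselization _
          (Groth.L05.Henselization.isPairHenselization_of_isHenselization (R := ↥(U.presheaf.stalk u)) (S := T))
      have hgm : (maximalIdeal ↥(X.presheaf.stalk (g u))).map (g.stalkMap u).hom =
          maximalIdeal ↥(U.presheaf.stalk u) := by
        haveI := hg
        exact Groth.L21.CurvFib.map_maximalIdeal_stalkMap_of_etale g u
      rw [← hmap, ← hgm, Ideal.map_map, ← halg] at hmem
      have h3 := Ideal.mem_map_of_mem G' hmem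
      rw [Ideal.map_map, show G'.comp (algebraMap ↥(X.presheaf.stalk (g u)) T) = f from hG'] at h3
      have h4 := ((IsLocalRing.local_hom_TFAE f).out 0 2 rfl rfl).mp hf h3
      exact h4 ht⟩
    haveI : IsLocalHom (G'.comp (algebraMap ↥(U.presheaf.stalk u) T)) := RingHom.isLocalHom_comp _ _
    refine IsLocalization.ringHom_ext q.primeCompl ?_
    rw [hku' _ inferInstance (by rw [RingHom.comp_assoc, ← halg]; exact hG'),
      IsLocalization.lift_comp hunit]

end Groth.L23.Branch
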