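import Groth.Agent.L23.SeparateNbhd
import Mathlib.AlgebraicGeometry.AffineSpace
import Mathlib.AlgebraicGeometry.Morphisms.Immersion
import Mathlib.AlgebraicGeometry.Morphisms.FiniteType

/-!
# Immersions into affine schemes use finitely many functions
-/

universe u

open CategoryTheory CategoryTheory.Limits AlgebraicGeometry TopologicalSpace

set_option autoImplicit false
set_option linter.style.haveILetI false
set_option backward.isDefEq.respectTransparency false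
set_option backward.isDefEq.respectTransparency.types false

noncomputable section

namespace Groth.L23.EmbedAffine

theorem isClosedImmersion_restrict_of_le_coborder {W M : Scheme.{u}} (j : W ⟶ M) [IsImmersion j] {D : M.Opens}
    (hD : (D : Set M) ⊆ coborder (Set.range j)) : IsClosedImmersion (j ∣_ D) := by
  haveI : IsImmersion (j ∣_ D) := IsZariskiLocalAtTarget.restrict ‹IsImmersion j› D
  refine IsClosedImmersion.of_isPreimmersion _ ?_
  have e : Set.range (j ∣_ D) = D.ι ⁻¹' closure (Set.range j) := by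
    refine Set.Subset.antisymm ?_ fun d hd => ?_
    · rintro _ ⟨w, rfl⟩
      exact subset_closure ⟨(j ⁻¹ᵁ D).ι w, by rw [← Scheme.Hom.comp_apply, ← morphismRestrict_ι]; rfl⟩
    · obtain ⟨w, hw⟩ : D.ι d ∈ Set.range j := by
        rw [← closure_inter_coborder (s := Set.range j)]; exact ⟨hd, hD d.2⟩
      exact ⟨⟨w, show j w ∈ D from hw ▸ d.2⟩, D.ι.isEmbedding.injective (by
        rw [← Scheme.Hom.comp_apply, morphismRestrict_ι]; exact hw)⟩
  rw [e]
  exact isClosed_closure.preimage D.ι.continuous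

/-- An open of `M` on which `j` is closed: finitely many functions suffice. -/
theorem exists_piece {W M T : Scheme.{u}} [IsAffine M] [IsAffine T] (j : W ⟶ M) [IsImmersion j]
    (π : M ⟶ T) [LocallyOfFiniteType (j ≫ π)] (g : Γ(M, ⊤))
    (hg : (M.basicOpen g : Set M) ⊆ coborder (Set.range j)) :
    ∃ s : Finset Γ(M, ⊤), g ∈ s ∧ ∀ (P : Scheme.{u}) [IsAffine P] (ρ : P ⟶ T) (q : M ⟶ P), q ≫ ρ = π →
      (↑s : Set Γ(M, ⊤)) ⊆ Set.range q.appTop.hom →
      ∃ D : P.Opens, q ⁻¹ᵁ D = M.basicOpen g ∧ IsClosedImmersion ((j ≫ q) ∣_ D) := by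
  classical
  let D₀ := M.basicOpen g
  haveI := isClosedImmersion_restrict_of_le_coborder j hg
  have hD₀ : IsAffineOpen D₀ := (isAffineOpen_top M).basicOpen g
  haveI : IsAffine (D₀ : Scheme.{u}) := hD₀
  have hW : IsAffineOpen (j ⁻¹ᵁ D₀) := isAffine_of_isAffineHom (j ∣_ D₀)
  have hsurj : Function.Surjective (j.app D₀).hom := by
    have h := (IsClosedImmersion.isAffine_surjective_of_isAffine (f := j ∣_ D₀)).2
    rw [morphismRestrict_appTop] at h
    have h' : Function.Surjective (((W.presheaf.map (eqToHom (show (j ⁻¹ᵁ D₀).ι ''ᵁ ⊤ = j ⁻¹ᵁ (D₀.ι ''ᵁ ⊤)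
        by simp)).op)).hom ∘ (j.app (D₀.ι ''ᵁ ⊤)).hom) := by
      exact h
    have e : D₀.ι ''ᵁ ⊤ = D₀ := D₀.ι_image_top
    have h'' := h'.of_comp_left (ConcreteCategory.bijective_of_isIso _).1
    exact e ▸ h''
  -- generators
  have hft : ((j ≫ π).appLE ⊤ (j ⁻¹ᵁ D₀) (by simp)).hom.FiniteType :=
    HasRingHomProperty.appLE @LocallyOfFiniteType (j ≫ π) inferInstance ⟨⊤, isAffineOpen_top T⟩ ⟨_, hW⟩ (by simp)
  let φ := ((j ≫ π).appLE ⊤ (j ⁻¹ᵁ D₀) (by simp)).hom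
  letI := φ.toAlgebra
  haveI : Algebra.FiniteType Γ(T, ⊤) Γ(W, j ⁻¹ᵁ D₀) := hft
  obtain ⟨G, hG⟩ := (Algebra.FiniteType.out : (⊤ : Subalgebra Γ(T, ⊤) Γ(W, j ⁻¹ᵁ D₀)).FG)
  haveI := (isAffineOpen_top M).isLocalization_basicOpen g
  have key : ∀ x : Γ(W, j ⁻¹ᵁ D₀), ∃ (t : Γ(M, ⊤)) (n : ℕ),
      x * (j.app D₀).hom (algebraMap Γ(M, ⊤) Γ(M, D₀) g) ^ n = (j.app D₀).hom (algebraMap Γ(M, ⊤) Γ(M, D₀) t) :=
    fun x => by
    obtain ⟨y, rfl⟩ := hsurj x
    obtain ⟨⟨t, ⟨_, n, rfl⟩⟩, ht⟩ := IsLocalization.surj (Submonoid.powers g) y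
    exact ⟨t, n, by rw [← map_pow, ← map_pow, ← map_mul]; exact congrArg _ ht⟩
  choose t n ht using key
  refine ⟨insert g (G.image t), Finset.mem_insert_self _ _, fun P _ ρ q hq hs => ?_⟩
  obtain ⟨g', hg'⟩ := hs (Finset.mem_coe.2 (Finset.mem_insert_self g _))
  have hpre : q ⁻¹ᵁ P.basicOpen g' = D₀ := by rw [Scheme.preimage_basicOpen_top]; exact congrArg _ hg'
  refine ⟨P.basicOpen g', hpre, ?_⟩
  have hP' : IsAffineOpen (P.basicOpen g') := (isAffineOpen_top P).basicOpen g'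
  have hW' : (j ≫ q) ⁻¹ᵁ P.basicOpen g' = j ⁻¹ᵁ D₀ := by rw [Scheme.Hom.comp_preimage, hpre]
  haveI : IsAffine ((P.basicOpen g' : P.Opens) : Scheme.{u}) := hP'
  haveI : IsAffine (((j ≫ q) ⁻¹ᵁ P.basicOpen g' : W.Opens) : Scheme.{u}) := hW' ▸ hW
  let Λ : Γ(P, P.basicOpen g') ⟶ Γ(W, j ⁻¹ᵁ D₀) := (j ≫ q).appLE (P.basicOpen g') (j ⁻¹ᵁ D₀) hW'.ge
  have hsq : ∀ z : Γ(P, ⊤), Λ.hom ((P.presheaf.map (homOfLE le_top).op).hom z) =
      (j.app D₀).hom (algebraMap Γ(M, ⊤) Γ(M, D₀) (q.appTop.hom z)) := fun z => by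
    have e1 : P.presheaf.map (homOfLE (le_top : P.basicOpen g' ≤ ⊤)).op ≫ Λ =
        (j ≫ q).appLE ⊤ (j ⁻¹ᵁ D₀) (by simp) := Scheme.Hom.map_appLE _ _ _
    have e2 : (j ≫ q).appLE ⊤ (j ⁻¹ᵁ D₀) (by simp) =
        q.appTop ≫ M.presheaf.map (homOfLE (le_top : D₀ ≤ ⊤)).op ≫ j.app D₀ := by
      rw [← Scheme.Hom.appLE_comp_appLE (U := ⊤) (V := ⊤) (W := j ⁻¹ᵁ D₀) j q (by simp) (by simp),
        Scheme.Hom.app_eq_appLE (f := j), Scheme.Hom.map_appLE, Scheme.Hom.appTop, Scheme.Hom.app_eq_appLE (f := q)]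
      rfl
    exact congr($(e1.trans e2).hom z)
  have hΛ : Function.Surjective Λ.hom := by
    refine RingHom.range_eq_top.1 (top_le_iff.1 fun x hxt => ?_)
    have hx : x ∈ Algebra.adjoin Γ(T, ⊤) (G : Set Γ(W, j ⁻¹ᵁ D₀)) := by rw [hG]; trivial
    clear hxt
    induction hx using Algebra.adjoin_induction with
    | algebraMap r =>
      refine ⟨(P.presheaf.map (homOfLE le_top).op).hom (ρ.appTop.hom r), ?_⟩
      rw [hsq]
      have e3 : (j ≫ π).appLE ⊤ (j ⁻¹ᵁ D₀) (by simp) =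
          ρ.appTop ≫ q.appTop ≫ M.presheaf.map (homOfLE (le_top : D₀ ≤ ⊤)).op ≫ j.app D₀ := by
        rw [← Scheme.Hom.appLE_comp_appLE (U := ⊤) (V := ⊤) (W := j ⁻¹ᵁ D₀) j π (by simp) (by simp),
          Scheme.Hom.app_eq_appLE (f := j), Scheme.Hom.map_appLE, ← Category.assoc ρ.appTop,
          ← Scheme.Hom.comp_appTop, hq, Scheme.Hom.appTop, Scheme.Hom.app_eq_appLE (f := π)]
        rfl
      exact (congr($(e3).hom r)).symm
    | mem x hx =>
      obtain ⟨t', ht'⟩ := hs (Finset.mem_coe.2 (Finset.mem_insert_of_mem (Finset.mem_image_of_mem t hx)))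
      obtain ⟨u, hu⟩ : IsUnit ((P.presheaf.map (homOfLE (le_top : P.basicOpen g' ≤ ⊤)).op).hom g') :=
        RingedSpace.isUnit_res_basicOpen _ g'
      refine ⟨(P.presheaf.map (homOfLE le_top).op).hom t' * ((u⁻¹ ^ n x : _ˣ) : Γ(P, P.basicOpen g')), ?_⟩
      have h1 : Λ.hom (u : Γ(P, P.basicOpen g')) = (j.app D₀).hom (algebraMap Γ(M, ⊤) Γ(M, D₀) g) := by
        rw [hu, hsq, hg']
      rw [map_mul, hsq, ht', ← ht x, ← h1, mul_assoc, ← map_pow, ← map_mul, ← Units.val_pow_eq_pow_val,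
        ← Units.val_mul, inv_pow, mul_inv_cancel, Units.val_one, map_one, mul_one]
    | add x y _ _ hx hy => exact Subring.add_mem _ hx hy
    | mul x y _ _ hx hy => exact Subring.mul_mem _ hx hy
  refine IsClosedImmersion.of_surjective_of_isAffine _ ?_
  have hΛ' : Function.Surjective ((j ≫ q).app (P.basicOpen g')).hom := by
    have e4 : (j ≫ q).app (P.basicOpen g') ≫ W.presheaf.map (eqToHom hW'.symm).op = Λ := by
      rw [Scheme.Hom.app_eq_appLE, Scheme.Hom.appLE_map]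
    rw [← e4] at hΛ
    rw [CommRingCat.hom_comp, RingHom.coe_comp] at hΛ
    exact Function.Surjective.of_comp_left hΛ
      (ConcreteCategory.bijective_of_isIso (W.presheaf.map (eqToHom hW'.symm).op)).1
  rw [morphismRestrict_appTop]
  refine (ConcreteCategory.bijective_of_isIso (W.presheaf.map _)).2.comp ?_
  have e : (P.basicOpen g').ι ''ᵁ ⊤ = P.basicOpen g' := (P.basicOpen g').ι_image_top
  change Function.Surjective ((j ≫ q).app ((P.basicOpen g').ι ''ᵁ ⊤)).hom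
  exact e.symm ▸ hΛ'

/-- Immersions into affine schemes are detected by finitely many functions. -/
theorem exists_finset {W M T : Scheme.{u}} [IsAffine M] [IsAffine T] [CompactSpace W] (j : W ⟶ M) [IsImmersion j]
    (π : M ⟶ T) [LocallyOfFiniteType (j ≫ π)] :
    ∃ s : Finset Γ(M, ⊤), ∀ (P : Scheme.{u}) [IsAffine P] (ρ : P ⟶ T) (q : M ⟶ P), q ≫ ρ = π →
      (↑s : Set Γ(M, ⊤)) ⊆ Set.range q.appTop.hom → IsImmersion (j ≫ q) := by
  classical
  have hb : ∀ w : W, ∃ g : Γ(M, ⊤), (M.basicOpen g : Set M) ⊆ coborder (Set.range j) ∧ j w ∈ M.basicOpen g :=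
    fun w => by
    obtain ⟨_, ⟨_, ⟨g, rfl⟩, rfl⟩, h1, h2⟩ := (isBasis_basicOpen M).exists_subset_of_mem_open
      (subset_coborder (Set.mem_range_self w)) j.isLocallyClosed_range.isOpen_coborder
    exact ⟨g, h2, h1⟩
  choose g hg hgw using hb
  obtain ⟨F, hF⟩ := isCompact_univ.elim_finite_subcover (fun w => (↑(j ⁻¹ᵁ M.basicOpen (g w)) : Set W))
    (fun w => (j ⁻¹ᵁ M.basicOpen (g w)).2) fun w _ => Set.mem_iUnion.2 ⟨w, hgw w⟩
  choose s hgs hs using fun w => exists_piece j π (g w) (hg w)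
  refine ⟨F.biUnion s, fun P _ ρ q hq hsub => ?_⟩
  choose D hD hDc using fun w : ↥F => hs w.1 P ρ q hq
    (Set.Subset.trans (fun x hx => Finset.mem_coe.2 (Finset.mem_biUnion.2 ⟨w.1, w.2, hx⟩)) hsub)
  let Ω : P.Opens := ⨆ w, D w
  have htop : (j ≫ q) ⁻¹ᵁ Ω = ⊤ := top_le_iff.1 fun w _ => by
    obtain ⟨v, hv, hwv⟩ := Set.mem_iUnion₂.1 (hF (Set.mem_univ w))
    have : j w ∈ q ⁻¹ᵁ D ⟨v, hv⟩ := by rw [hD]; exact hwv
    exact Opens.mem_iSup.2 ⟨⟨v, hv⟩, this⟩
  haveI : IsClosedImmersion ((j ≫ q) ∣_ Ω) := by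
    rw [IsZariskiLocalAtTarget.iff_of_iSup_eq_top (P := @IsClosedImmersion) (fun w => Ω.ι ⁻¹ᵁ D w)
      (by rw [← Scheme.Hom.preimage_iSup]; exact top_le_iff.1 fun x _ => x.2)]
    intro w
    have e : Ω.ι ''ᵁ (Ω.ι ⁻¹ᵁ D w) = D w := by
      rw [Scheme.Hom.image_preimage_eq_opensRange_inf, Scheme.Opens.opensRange_ι,
        inf_eq_right.2 (le_iSup D w)]
    refine (MorphismProperty.arrow_mk_iso_iff (P := @IsClosedImmersion) (morphismRestrictRestrict _ Ω _)).2 ?_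
    rw [e]; exact hDc w
  have h : IsImmersion (((j ≫ q) ∣_ Ω) ≫ Ω.ι) := inferInstance
  rwa [morphismRestrict_ι, htop, ← Scheme.topIso_hom,
    MorphismProperty.cancel_left_of_respectsIso (P := @IsImmersion)] at h

theorem exists_finset_closure {R A : Type u} [CommRing R] [CommRing A] (f : A → R) (B : Set R) (x : R)
    (hx : x ∈ Subring.closure (Set.range f ∪ B)) :
    ∃ s : Finset A, x ∈ Subring.closure (f '' (↑s : Set A) ∪ B) := by
  classical
  induction hx using Subring.closure_induction with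
  | mem x hx =>
    rcases hx with ⟨a, rfl⟩ | hx
    · exact ⟨{a}, Subring.subset_closure (Or.inl ⟨a, by simp, rfl⟩)⟩
    · exact ⟨∅, Subring.subset_closure (Or.inr hx)⟩
  | zero => exact ⟨∅, zero_mem _⟩
  | one => exact ⟨∅, one_mem _⟩
  | add x y _ _ hx hy =>
    obtain ⟨s, hs⟩ := hx; obtain ⟨t, ht⟩ := hy
    refine ⟨s ∪ t, add_mem (Subring.closure_mono ?_ hs) (Subring.closure_mono ?_ ht)⟩ <;>
      exact Set.union_subset_union_left _ (Set.image_mono (by simp))
  | neg x _ hx => obtain ⟨s, hs⟩ := hx; exact ⟨s, neg_mem hs⟩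
  | mul x y _ _ hx hy =>
    obtain ⟨s, hs⟩ := hx; obtain ⟨t, ht⟩ := hy
    refine ⟨s ∪ t, mul_mem (Subring.closure_mono ?_ hs) (Subring.closure_mono ?_ ht)⟩ <;>
      exact Set.union_subset_union_left _ (Set.image_mono (by simp))

/-- Finitely many functions on `U` embed `W` into affine space over `T`. -/
theorem exists_vector {S U W T : Scheme.{u}} [IsAffine U] [IsAffine T] [CompactSpace W] {sU : U ⟶ S} {sT : T ⟶ S}
    (a : W ⟶ U) (b : W ⟶ T) (w : a ≫ sU = b ≫ sT) [IsImmersion (pullback.lift a b w)] [LocallyOfFiniteType b] :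
    ∃ s : Finset Γ(U, ⊤), ∀ (n : Type u) (x : n → Γ(U, ⊤)), (↑s : Set Γ(U, ⊤)) ⊆ Set.range x →
      IsImmersion (AffineSpace.homOfVector b (a.appTop.hom ∘ x)) := by
  classical
  let m : pullback sU sT ⟶ pullback (terminal.from U) (terminal.from T) :=
    pullback.lift (pullback.fst _ _) (pullback.snd _ _) (Subsingleton.elim _ _)
  haveI : IsImmersion m := by
    have e : pullback.mapDesc sU sT (terminal.from S) ≫
        (pullback.congrHom (terminalIsTerminal.hom_ext _ _) (terminalIsTerminal.hom_ext _ _)).hom = m := by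
      apply pullback.hom_ext <;> simp [m, pullback.congrHom]
    rw [← e]
    infer_instance
  let j := pullback.lift a b w ≫ m
  let π := pullback.snd (terminal.from U) (terminal.from T)
  have hjπ : j ≫ π = b := by simp [j, π, m]
  have hja : j ≫ pullback.fst _ _ = a := by simp [j, m]
  haveI : IsImmersion j := inferInstanceAs (IsImmersion (pullback.lift a b w ≫ m))
  haveI : IsAffine (⊤_ Scheme.{u}) := inferInstance
  haveI : LocallyOfFiniteType (j ≫ π) := hjπ.symm ▸ inferInstance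
  obtain ⟨s₀, hs₀⟩ := exists_finset j π
  choose sf hsf using fun y : Γ(pullback (terminal.from U) (terminal.from T), ⊤) =>
    exists_finset_closure _ _ y (SepNbhd.mem_closure_of_isPullback (IsPullback.of_hasPullback _ _) y)
  refine ⟨s₀.biUnion sf, fun n x hx => ?_⟩
  let q := AffineSpace.homOfVector π ((pullback.fst (terminal.from U) (terminal.from T)).appTop.hom ∘ x)
  have hq := hs₀ 𝔸(n; T) (𝔸(n; T) ↘ T) q (AffineSpace.homOfVector_over _ _) ?_
  · rw [AffineSpace.comp_homOfVector, hjπ] at hq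
    have e : j.appTop.hom ∘ ((pullback.fst (terminal.from U) (terminal.from T)).appTop.hom ∘ x) =
        a.appTop.hom ∘ x := by
      rw [← hja, Scheme.Hom.comp_appTop]; rfl
    rwa [e] at hq
  · intro y hy
    refine (Subring.closure_le (t := q.appTop.hom.range)).2 ?_ (hsf y)
    rintro _ (⟨c, hc, rfl⟩ | ⟨r, rfl⟩)
    · obtain ⟨i, rfl⟩ := hx (Finset.mem_coe.2 (Finset.mem_biUnion.2 ⟨y, hy, hc⟩))
      exact ⟨_, AffineSpace.homOfVector_appTop_coord _ _ i⟩
    · refine ⟨(𝔸(n; T) ↘ T).appTop.hom r, ?_⟩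
      show (q.appTop.hom.comp (𝔸(n; T) ↘ T).appTop.hom) r = _
      rw [← CommRingCat.hom_comp, ← Scheme.Hom.comp_appTop, AffineSpace.homOfVector_over]

end Groth.L23.EmbedAffine
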