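import Groth.Agent.L23.SchemeGen
import Groth.Agent.L23.EtaleSepQc
import Groth.Agent.L23.AffineQuot
import Groth.Agent.L23.AffineMor
import Groth.Agent.L23.Subspace
import Groth.Agent.L23.QFLocus
import Groth.Agent.L23.LocalDimEtale
import Groth.Agent.L06.Spectral
import Groth.Agent.L19.Limit.CC

/-!
# Generic finiteness over a maximal point for algebraic spaces
-/

universe u

open CategoryTheory CategoryTheory.Limits AlgebraicGeometry AlgSp Topology TopologicalSpace

set_option backward.isDefEq.respectTransparency.types false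
set_option linter.style.haveILetI false

namespace Groth.L23.GenFin

/-- An open containing the fibre over a maximal point contains the preimage of a neighbourhood. -/
theorem exists_nhd_preimage_subset {U V : Scheme.{u}} (m : U ⟶ V) [IsAffine U] [IsAffine V] {v : V}
    (hv : ∀ q, q ⤳ v → q = v) (Q : U.Opens) (hQ : ∀ u, m u = v → u ∈ Q) :
    ∃ W : V.Opens, IsAffineOpen W ∧ v ∈ W ∧ m ⁻¹ᵁ W ≤ Q := by
  haveI := Groth.L19.Limit.spectralSpace_of_isAffine U
  let D := {W : V.Opens // IsAffineOpen W ∧ v ∈ W}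
  haveI : Nonempty D := ⟨⟨⊤, isAffineOpen_top V, trivial⟩⟩
  obtain ⟨⟨W, hW, hvW⟩, hWQ⟩ := Groth.L06.Spectral.exists_subset_of_iInter_subset
    (fun W : D => (m ⁻¹ᵁ W.1 : Set U))
    (fun W₁ W₂ => by
      obtain ⟨W₃, h₃, hv₃, hle⟩ := exists_isAffineOpen_mem_and_subset (x := v) (U := W₁.1 ⊓ W₂.1) ⟨W₁.2.2, W₂.2.2⟩
      exact ⟨⟨W₃, h₃, hv₃⟩, fun x hx => (hle hx).1, fun x hx => (hle hx).2⟩)
    (fun W => (Groth.L06.Spectral.isClopen_cons (m ⁻¹ᵁ W.1).2
      (m.isCompact_preimage (U := W.1) W.2.1.isCompact)).1)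
    (V := (Q : Set U)) (Groth.L06.Spectral.cons_le _ Q.2) (fun u hu => hQ u (hv _ (by
      rw [specializes_iff_forall_open]
      intro O hO hvO
      obtain ⟨W₃, h₃, hv₃, hle⟩ := exists_isAffineOpen_mem_and_subset (x := v) (U := ⟨O, hO⟩) hvO
      exact hle (Set.mem_iInter.1 hu ⟨W₃, h₃, hv₃⟩))))
  exact ⟨W, hW, hvW, hWQ⟩

theorem isFinite_restrict_le {X Y : Scheme.{u}} (f : X ⟶ Y) {W W' : Y.Opens} (hle : W' ≤ W)
    [IsFinite (f ∣_ W)] : IsFinite (f ∣_ W') := by
  have e : W' = W.ι ''ᵁ (W.ι ⁻¹ᵁ W') := by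
    rw [Scheme.Hom.image_preimage_eq_opensRange_inf, Scheme.Opens.opensRange_ι, inf_eq_right.2 hle]
  rw [e]
  exact (MorphismProperty.arrow_mk_iso_iff (P := @IsFinite) (morphismRestrictRestrict f W (W.ι ⁻¹ᵁ W'))).1
    (IsZariskiLocalAtTarget.restrict ‹IsFinite (f ∣_ W)› _)

theorem exists_isFinite_nhd {R Y : Scheme.{u}} (f : R ⟶ Y) [LocallyOfFiniteType f] [QuasiCompact f]
    [IsSeparated f] {v : Y} (hv : ∀ q, q ⤳ v → q = v) (W₁ : Y.Opens) (hvW : v ∈ W₁)
    (hlqf : LocallyQuasiFinite (f ∣_ W₁)) : ∃ W : Y.Opens, W ≤ W₁ ∧ v ∈ W ∧ IsFinite (f ∣_ W) := by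
  haveI : LocallyOfFiniteType (f ∣_ W₁) := IsZariskiLocalAtTarget.restrict ‹LocallyOfFiniteType f› W₁
  haveI : QuasiCompact (f ∣_ W₁) := IsZariskiLocalAtTarget.restrict ‹QuasiCompact f› W₁
  haveI : IsSeparated (f ∣_ W₁) := IsZariskiLocalAtTarget.restrict ‹IsSeparated f› W₁
  obtain ⟨O, hvO, hO⟩ := Gen.exists_finite_nhd (f ∣_ W₁) (η := (⟨v, hvW⟩ : ↥W₁)) fun q hq =>
    Subtype.ext (hv _ ((subtype_specializes_iff _ _).1 hq))
  exact ⟨W₁.ι ''ᵁ O, W₁.ι_image_le O, ⟨⟨v, hvW⟩, hvO, rfl⟩,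
    (MorphismProperty.arrow_mk_iso_iff (P := @IsFinite) (morphismRestrictRestrict f W₁ O)).1 hO⟩

/-- Restricting to an open where all points are quasi-finite. -/
theorem lqf_of_forall_qfAt {U V : Scheme.{u}} (m : U ⟶ V) (U₁ : U.Opens) (h : ∀ u ∈ U₁, QFL.qfAt U V m u) :
    LocallyQuasiFinite (U₁.ι ≫ m) := by
  choose O hu hO hO' using fun u : ↥U₁ => h u.1 u.2
  refine IsZariskiLocalAtSource.of_iSup_eq_top (fun u : ↥U₁ => U₁.ι ⁻¹ᵁ O u)
    (top_le_iff.1 fun u _ => Opens.mem_iSup.2 ⟨u, hu u⟩) fun u => ?_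
  haveI := hO u
  rw [← Category.assoc, show (U₁.ι ⁻¹ᵁ O u).ι ≫ U₁.ι = (U₁.ι ∣_ O u) ≫ (O u).ι from (morphismRestrict_ι _ _).symm,
    Category.assoc]
  infer_instance

variable {S : Scheme.{u}}

/-- An open finite over the base absorbs the preimage of the base. -/
theorem isFinite_of_opens {R Y : Scheme.{u}} (h : R ⟶ Y) [IsSeparated h] (O : R.Opens) (W : Y.Opens)
    [IsFinite ((O.ι ≫ h) ∣_ W)]
    (H : ∀ r, h r ∈ W → ∃ r', r' ⤳ r ∧ r' ∈ O ∧ (h r' ∈ W ∨ r' = r)) : IsFinite (h ∣_ W) := by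
  have hO : ∀ r, h r ∈ W → r ∈ O := fun r hr => by
    obtain ⟨r', hs, hr', hW | rfl⟩ := H r hr
    · exact EtSepQc.mem_of_specializes h O W hs hr' hW hr
    · exact hr'
  haveI : Surjective (O.ι ∣_ (h ⁻¹ᵁ W)) := ⟨fun z =>
    ⟨⟨⟨z.1, hO z.1 z.2⟩, z.2⟩, (h ⁻¹ᵁ W).ι.isEmbedding.injective (by
      rw [← Scheme.Hom.comp_apply, morphismRestrict_ι]; rfl)⟩⟩
  haveI : Epi (O.ι ∣_ (h ⁻¹ᵁ W)).base := (TopCat.epi_iff_surjective _).2 ‹Surjective _›.1
  haveI : IsIso (O.ι ∣_ (h ⁻¹ᵁ W)) := IsOpenImmersion.isIso _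
  exact (MorphismProperty.cancel_left_of_respectsIso @IsFinite (O.ι ∣_ (h ⁻¹ᵁ W)) (h ∣_ W)).1
    (by rw [← morphismRestrict_comp]; exact ‹IsFinite ((O.ι ≫ h) ∣_ W)›)

/-- Finiteness near a maximal point of an affine base. -/
theorem exists_finite_nhd {Z : Sp S} (hZ : IsAlgSpace Z) {V U R : Over S} [IsAffine V.left] [IsAffine U.left]
    {q : Z ⟶ (yon S).obj V} (hq : LocP @LocallyOfFiniteType q) {p : (yon S).obj U ⟶ Z} (hp : RepWith @Etale p)
    (hps : RepWith @Surjective p) {t s : R ⟶ U} (sR : IsPullback ((yon S).map t) ((yon S).map s) p p) {v : V.left}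
    (hv : ∀ x, x ⤳ v → x = v)
    (hqf : ∀ (m : U ⟶ V), p ≫ q = (yon S).map m → ∀ u, m.left u = v → QFL.qfAt U.left V.left m.left u)
    (O : R.left.Opens) (hO : IsCompact (O : Set R.left))
    (hOR : ∀ (m : U ⟶ V), p ≫ q = (yon S).map m → ∀ r, ∃ r', r' ⤳ r ∧ r' ∈ O ∧ (m.left (t.left r') = v ∨ r' = r)) :
    ∃ W : V.left.Opens, IsAffineOpen W ∧ v ∈ W ∧
      IsFiniteMor (pullback.snd q ((yon S).map (openOverι V W))) := by
  obtain ⟨m, hm⟩ := (yon S).map_surjective (p ≫ q)
  haveI : LocallyOfFiniteType m.left := hq p (𝟙 _) m hp (repWith_of_isIso _) (by rw [Category.comp_id, hm])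
  haveI : Etale t.left := repWith_prop hp sR.flip
  haveI : IsSeparated U.hom := IsSeparated.of_comp U.hom (terminal.from S)
  haveI : IsSeparated t.left := by
    let J : R.left ⟶ pullback U.hom U.hom := pullback.lift t.left s.left (by rw [Over.w t, Over.w s])
    haveI : Mono J := ⟨fun {A} z z' h => by
      have h₁ : z ≫ t.left = z' ≫ t.left := by simpa [J, pullback.lift_fst] using h =≫ pullback.fst U.hom U.hom
      have h₂ : z ≫ s.left = z' ≫ s.left := by simpa [J, pullback.lift_snd] using h =≫ pullback.snd U.hom U.hom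
      have hw : z' ≫ R.hom = z ≫ R.hom := by rw [← Over.w t, reassoc_of% h₁]
      let ζ : Over.mk (z ≫ R.hom) ⟶ R := Over.homMk z rfl
      let ζ' : Over.mk (z ≫ R.hom) ⟶ R := Over.homMk z' hw
      have : ζ = ζ' := (yon S).map_injective (sR.hom_ext
        (by rw [← Functor.map_comp, ← Functor.map_comp]; exact congrArg _ (Over.OverMorphism.ext h₁))
        (by rw [← Functor.map_comp, ← Functor.map_comp]; exact congrArg _ (Over.OverMorphism.ext h₂)))
      exact congrArg (fun φ => φ.left) this⟩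
    rw [show t.left = J ≫ pullback.fst U.hom U.hom from (pullback.lift_fst _ _ _).symm]
    infer_instance
  haveI : CompactSpace (O : Scheme.{u}) := isCompact_iff_compactSpace.1 hO
  haveI : QuasiCompact (O.ι ≫ t.left ≫ m.left) :=
    (HasAffineProperty.iff_of_isAffine (P := @QuasiCompact)).2 ‹CompactSpace (O : Scheme.{u})›
  haveI : IsSeparated (O.ι ≫ t.left ≫ m.left) := inferInstance
  haveI := lqf_of_etale t.left
  -- quasi-finite over a neighbourhood
  obtain ⟨W₁, -, hvW₁, hW₁⟩ := exists_nhd_preimage_subset m.left hv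
    ⟨{u | QFL.qfAt U.left V.left m.left u}, isOpen_iff_forall_mem_open.2 fun u hu => by
      obtain ⟨O, huO, h1, h2⟩ := hu
      exact ⟨O, fun u' hu' => ⟨O, hu', h1, h2⟩, O.2, huO⟩⟩ fun u hu => hqf m hm.symm u hu
  haveI hl₁ : LocallyQuasiFinite (m.left ∣_ W₁) := by
    haveI : LocallyQuasiFinite (m.left ∣_ W₁ ≫ W₁.ι) := by
      rw [morphismRestrict_ι]
      exact lqf_of_forall_qfAt m.left _ fun u hu => hW₁ hu
    exact LocallyQuasiFinite.of_comp _ W₁.ι
  haveI hl₂ : LocallyQuasiFinite ((t.left ≫ m.left) ∣_ W₁) := by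
    rw [morphismRestrict_comp]
    exact MorphismProperty.comp_mem @LocallyQuasiFinite _ _
      (IsZariskiLocalAtTarget.restrict ‹LocallyQuasiFinite t.left› _) hl₁
  obtain ⟨W₂, -, hvW₂, hW₂⟩ := exists_isFinite_nhd m.left hv W₁ hvW₁ hl₁
  obtain ⟨W₃, -, hvW₃, hW₃'⟩ := exists_isFinite_nhd (O.ι ≫ t.left ≫ m.left) hv W₁ hvW₁ (by
    rw [morphismRestrict_comp O.ι (t.left ≫ m.left)]
    exact MorphismProperty.comp_mem @LocallyQuasiFinite _ _
      (IsZariskiLocalAtTarget.restrict (inferInstanceAs (LocallyQuasiFinite O.ι)) _) hl₂)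
  have hW₃ : IsFinite ((t.left ≫ m.left) ∣_ W₃) := by
    haveI := hW₃'
    refine isFinite_of_opens _ O W₃ fun r hr => ?_
    obtain ⟨r', h1, h2, h3 | h3⟩ := hOR m hm.symm r
    · exact ⟨r', h1, h2, Or.inl (show m.left (t.left r') ∈ W₃ from h3 ▸ hvW₃)⟩
    · exact ⟨r', h1, h2, Or.inr h3⟩
  obtain ⟨W, hW, hvW, hle⟩ := exists_isAffineOpen_mem_and_subset (x := v) (U := W₂ ⊓ W₃) ⟨hvW₂, hvW₃⟩
  haveI := hW₂; haveI := hW₃
  haveI : IsFinite (m.left ∣_ W) := isFinite_restrict_le m.left (W := W₂) fun x hx => (hle hx).1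
  haveI : IsFinite ((t.left ≫ m.left) ∣_ W) := isFinite_restrict_le _ (W := W₃) fun x hx => (hle hx).2
  refine ⟨W, hW, hvW, ?_⟩
  haveI : IsAffine (openOver V W).left := hW
  haveI : IsAffine (W : Scheme.{u}) := hW
  haveI : IsSeparated (m.left ∣_ W) := inferInstance
  -- the affine cover of the restriction
  let UW : Over S := openOver U (m.left ⁻¹ᵁ W)
  let jU : UW ⟶ U := openOverι U _
  let jW : openOver V W ⟶ V := openOverι V W
  let mW : UW ⟶ openOver V W := Over.homMk (m.left ∣_ W) (by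
    show (m.left ∣_ W) ≫ W.ι ≫ V.hom = (m.left ⁻¹ᵁ W).ι ≫ U.hom
    rw [reassoc_of% morphismRestrict_ι, Over.w m])
  haveI : IsAffine UW.left := isAffine_of_isAffineHom (m.left ∣_ W)
  have sm : IsPullback jU mW m jW := isPullback_over (isPullback_morphismRestrict m.left W).flip
  have sZ := IsPullback.of_hasPullback q ((yon S).map jW)
  have hP : IsAlgSpace (pullback q ((yon S).map jW)) :=
    isAlgSpace_of_isPullback (IsAlgSpace.yon_obj V).diag hZ (IsAlgSpace.yon_obj _) sZ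
  let l := sZ.lift ((yon S).map jU ≫ p) ((yon S).map mW) (by
    rw [Category.assoc, ← hm, ← Functor.map_comp, sm.w, Functor.map_comp])
  have sl : IsPullback ((yon S).map jU) l p (pullback.fst q ((yon S).map jW)) := by
    refine IsPullback.of_bot ?_ (sZ.lift_fst _ _ _).symm sZ
    rw [sZ.lift_snd, ← hm]
    exact sm.map (yon S)
  have hl : RepWith @Etale l := repWith_of_isPullback sl hp
  have hls : RepWith @Surjective l := repWith_of_isPullback sl hps
  obtain ⟨R₂, t₂, s₂, sR₂⟩ : ∃ (R₂ : Over S) (t₂ : R₂ ⟶ UW) (s₂ : R₂ ⟶ UW),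
      IsPullback ((yon S).map t₂) ((yon S).map s₂) l l := exists_isPullback_of_representable hl.1 l
  obtain ⟨r, hr⟩ := (yon S).map_surjective (sR.lift ((yon S).map t₂ ≫ (yon S).map jU)
    ((yon S).map s₂ ≫ (yon S).map jU) (by rw [Category.assoc, Category.assoc, sl.w, reassoc_of% sR₂.w]))
  have hr₁ : r ≫ t = t₂ ≫ jU := (yon S).map_injective (by
    rw [Functor.map_comp, Functor.map_comp, hr, sR.lift_fst])
  have hr₂ : r ≫ s = s₂ ≫ jU := (yon S).map_injective (by
    rw [Functor.map_comp, Functor.map_comp, hr, sR.lift_snd])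
  have hjm : Mono ((yon S).map jW) := mono_of_repWith_openImmersion
    (repWith_map (show IsOpenImmersion jW.left from inferInstanceAs (IsOpenImmersion W.ι)))
  have hju : Mono ((yon S).map jU) := mono_of_repWith_openImmersion
    (repWith_map (show IsOpenImmersion jU.left from inferInstanceAs (IsOpenImmersion (m.left ⁻¹ᵁ W).ι)))
  haveI : Mono (pullback.fst q ((yon S).map jW)) := inferInstance
  have sr : IsPullback r t₂ t jU := by
    refine IsPullback.mk' hr₁ (fun T φ φ' h₁ h₂ => (yon S).map_injective (sR₂.hom_ext ?_ ?_)) fun T x y e => ?_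
    · rw [← Functor.map_comp, ← Functor.map_comp, h₂]
    · refine (cancel_mono ((yon S).map jU)).1 ?_
      simp only [← Functor.map_comp, Category.assoc, ← hr₂, reassoc_of% h₁]
    · have hy : ∀ w, (x ≫ s).left w ∈ m.left ⁻¹ᵁ W := by
        intro w
        have e1 : x ≫ t ≫ m = x ≫ s ≫ m := by
          congr 1
          apply (yon S).map_injective
          rw [Functor.map_comp, Functor.map_comp, hm, reassoc_of% sR.w]
        have e2 : m.left ((x ≫ s).left w) = m.left ((y ≫ jU).left w) := by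
          rw [← e]
          exact (congrArg (fun φ : T ⟶ V => φ.left w) e1).symm
        show m.left ((x ≫ s).left w) ∈ W
        rw [e2]
        exact (y.left w).2
      let y' : T ⟶ UW := Over.homMk (IsOpenImmersion.lift (m.left ⁻¹ᵁ W).ι (x ≫ s).left
        (by rw [Scheme.Opens.range_ι]; rintro _ ⟨w, rfl⟩; exact hy w)) (by
        show _ ≫ (m.left ⁻¹ᵁ W).ι ≫ U.hom = _
        rw [IsOpenImmersion.lift_fac_assoc]; exact Over.w (x ≫ s))
      have hy' : y' ≫ jU = x ≫ s := Over.OverMorphism.ext (IsOpenImmersion.lift_fac _ _ _)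
      obtain ⟨z, hz⟩ := (yon S).map_surjective (sR₂.lift ((yon S).map y) ((yon S).map y') (by
        rw [← cancel_mono (pullback.fst q ((yon S).map jW))]
        simp only [Category.assoc, ← sl.w, ← Functor.map_comp_assoc, ← e, hy']
        simp only [Functor.map_comp, Category.assoc, sR.w]))
      have hz₁ : z ≫ t₂ = y := (yon S).map_injective (by rw [Functor.map_comp, hz, sR₂.lift_fst])
      have hz₂ : z ≫ s₂ = y' := (yon S).map_injective (by rw [Functor.map_comp, hz, sR₂.lift_snd])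
      refine ⟨z, (yon S).map_injective (sR.hom_ext ?_ ?_), hz₁⟩
      · rw [← Functor.map_comp, ← Functor.map_comp, Category.assoc, hr₁, reassoc_of% hz₁, e]
      · rw [← Functor.map_comp, ← Functor.map_comp, Category.assoc, hr₂, reassoc_of% hz₂, hy']
  have s' : IsPullback r.left t₂.left t.left (m.left ⁻¹ᵁ W).ι := sr.map (Over.forget S)
  haveI : IsFinite (t.left ∣_ (m.left ⁻¹ᵁ W)) := by
    haveI : IsFinite (t.left ∣_ (m.left ⁻¹ᵁ W) ≫ m.left ∣_ W) := by
      rw [← morphismRestrict_comp]; exact ‹IsFinite ((t.left ≫ m.left) ∣_ W)›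
    exact MorphismProperty.of_postcomp (W := @IsFinite) (W' := @IsSeparated) _ (m.left ∣_ W) inferInstance inferInstance
  haveI : IsFinite t₂.left := by
    let e := s'.isoIsPullback _ _ (isPullback_morphismRestrict t.left (m.left ⁻¹ᵁ W)).flip
    rw [show t₂.left = e.hom ≫ (t.left ∣_ (m.left ⁻¹ᵁ W)) from
      (s'.isoIsPullback_hom_snd _ _ (isPullback_morphismRestrict t.left (m.left ⁻¹ᵁ W)).flip).symm]
    infer_instance
  have := isLocallySurjective_of_etale l hl hls
  have := isLocalAtTarget_fppf (@IsFinite : MorphismProperty Scheme.{u})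
  obtain ⟨M, θ, hM, hθ⟩ := AQ.exists_iso_of_affine_cover hP
    (repWith_of_locallySurjective hl.1 sR₂.flip (repWith_map ‹IsFinite t₂.left›)) hl hls
  obtain ⟨μ, hμ⟩ := (yon S).map_surjective (θ ≫ pullback.snd q ((yon S).map jW))
  obtain ⟨π, hπ⟩ := (yon S).map_surjective (l ≫ inv θ)
  have hπμ : π ≫ μ = mW := (yon S).map_injective (by
    rw [Functor.map_comp, hπ, hμ, Category.assoc, IsIso.inv_hom_id_assoc, sZ.lift_snd])
  haveI : Surjective π.left := (repWith_yon_map_iff (@Surjective) π).1 (by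
    rw [hπ]; exact repWith_comp hls (repWith_of_isIso _))
  haveI : IsFinite (π.left ≫ μ.left) := by
    rw [show π.left ≫ μ.left = m.left ∣_ W from congrArg (fun φ => φ.left) hπμ]; infer_instance
  haveI : UniversallyClosed μ.left := UniversallyClosed.of_comp_surjective π.left μ.left
  haveI : LocallyOfFiniteType μ.left :=
    (locP_of_isPullback etLocal_lft hZ (IsAlgSpace.yon_obj V) (IsAlgSpace.yon_obj _) sZ hq) θ (𝟙 _) μ
      (repWith_of_isIso _) (repWith_of_isIso _) (by rw [Category.comp_id, hμ])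
  haveI : IsAffineHom μ.left := inferInstance
  have hfin : IsFinite μ.left := (IsFinite.iff_isIntegralHom_and_locallyOfFiniteType μ.left).2
    ⟨IsIntegralHom.iff_universallyClosed_and_isAffineHom.2 ⟨inferInstance, inferInstance⟩, inferInstance⟩
  rw [isFiniteMor_iff, show pullback.snd q ((yon S).map jW) = inv θ ≫ (yon S).map μ by
    rw [hμ, IsIso.inv_hom_id_assoc]]
  exact repWith_comp (repWith_of_isIso _) (repWith_map hfin)

end Groth.L23.GenFin
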