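import Groth.Agent.L23.EmbedSpace
import Groth.Agent.L23.GenFinite
import Groth.Agent.L23.QFDescent
import Groth.Agent.L23.SchemeDecent
import Groth.Agent.L23.SourceReduced
import Groth.Agent.L23.DimZeroSpace
import Groth.Agent.L20.GenSmooth.Scheme
import Groth.Agent.L09.SpLimit.Derived
import Groth.Agent.L07.Equidim
import Groth.Agent.S10200
import Groth.Agent.L23.SchemeRep
import Groth.Agent.L23.SepColimit

/-!
# A dense open of a space of finite presentation embeds into affine space
-/

universe u

open CategoryTheory CategoryTheory.Limits AlgebraicGeometry AlgSp TopologicalSpace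

set_option autoImplicit false
set_option linter.style.haveILetI false
set_option backward.isDefEq.respectTransparency false
set_option backward.isDefEq.respectTransparency.types false

noncomputable section

namespace Groth.L23.EmbedDense

variable {S : Scheme.{u}}

/-- A quasi-compact separated etale map to a scheme is finite over a dense open. -/
theorem exists_dense_finite {W Z : Scheme.{u}} (w : W ⟶ Z) [Etale w] [QuasiCompact w] [IsSeparated w] :
    ∃ V : Z.Opens, Dense (V : Set Z) ∧ IsFinite (w ∣_ V) := by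
  let I := {v : Z // ∀ q, q ⤳ v → q = v}
  choose V hle hv hfin using fun v : I =>
    GenFin.exists_isFinite_nhd w v.2 ⊤ trivial (inferInstance : LocallyQuasiFinite (w ∣_ (⊤ : Z.Opens)))
  refine ⟨⨆ v, V v, ?_, ?_⟩
  · rw [dense_iff_inter_open]
    rintro Q hQ ⟨x, hx⟩
    obtain ⟨m, hm, hmmax⟩ := Groth.L07.Equidim.exists_maximal_generization x
    exact ⟨m, hm.mem_open hQ hx, Opens.mem_iSup.2 ⟨⟨m, hmmax⟩, hv _⟩⟩
  · rw [IsZariskiLocalAtTarget.iff_of_iSup_eq_top (P := @IsFinite) (fun v => (⨆ v, V v).ι ⁻¹ᵁ V v)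
      (by rw [← Scheme.Hom.preimage_iSup]; exact top_le_iff.1 fun x _ => x.2)]
    intro v
    refine (MorphismProperty.arrow_mk_iso_iff (P := @IsFinite) (morphismRestrictRestrict w _ _)).2 ?_
    rw [Scheme.Hom.image_preimage_eq_opensRange_inf, Scheme.Opens.opensRange_ι,
      inf_eq_right.2 (le_iSup V v)]
    exact hfin v

/-- Finite projection and monomorphic graph give a closed immersive graph. -/
theorem isImmersion_lift {W U T : Over S} [IsAffine T.left] (a : W ⟶ U) (b : W ⟶ T) [IsFinite a.left]
    [Mono (prod.lift a b : W ⟶ U ⨯ T)] : IsImmersion (prod.lift a b : W ⟶ U ⨯ T).left := by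
  haveI : IsSeparated T.hom := .of_comp T.hom (terminal.from S)
  let φ := (prod.lift a b : W ⟶ U ⨯ T).left ≫ (Over.prodLeftIsoPullback U T).hom
  haveI : IsFinite (φ ≫ pullback.fst U.hom T.hom) := by
    have e : φ ≫ pullback.fst U.hom T.hom = a.left := by
      simp [φ, ← Over.comp_left]
    rw [e]; infer_instance
  haveI : IsFinite φ := .of_comp φ (pullback.fst U.hom T.hom)
  haveI : Mono (prod.lift a b : W ⟶ U ⨯ T).left :=
    inferInstanceAs (Mono ((Over.forget S).map (prod.lift a b)))
  haveI : Mono φ := mono_comp _ _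
  haveI : IsClosedImmersion φ := (IsClosedImmersion.iff_isFinite_and_mono φ).2 ⟨‹_›, ‹_›⟩
  exact (MorphismProperty.cancel_right_of_respectsIso (P := @IsImmersion) _ (Over.prodLeftIsoPullback U T).hom).1
    (inferInstanceAs (IsImmersion φ))

/-- Spaces of finite type over a locally Noetherian space are locally Noetherian on all charts. -/
theorem isLocallyNoetherian_chart {X Y : Sp S} (hX : IsAlgSpace X) (hY : IsAlgSpace Y) (hN : IsLocNoethSp X)
    {f : Y ⟶ X} (hf : LocP @LocallyOfFiniteType f) {U : Over S} {p : (yon S).obj U ⟶ Y} (hp : RepWith @Etale p) :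
    IsLocallyNoetherian U.left := by
  obtain ⟨T, q, hq, hqs, hT⟩ := hN
  obtain ⟨R, r, t, sR⟩ := exists_isPullback_of_representable (hX.representable_from_yon (p ≫ f)) q
  have hpf : LocP @LocallyOfFiniteType (p ≫ f) := locP_comp etLocal_lft (IsAlgSpace.yon_obj U) hY hX
    (locP_of_repWith etLocal_lft (repWith_mono (fun φ (_ : Etale φ) => inferInstanceAs (LocallyOfFiniteType φ)) hp)) hf
  haveI : LocallyOfFiniteType t.left :=
    locP_of_isPullback etLocal_lft (IsAlgSpace.yon_obj U) hX (IsAlgSpace.yon_obj T) sR hpf (𝟙 _) (𝟙 _) t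
      (repWith_id _ R) (repWith_id _ T) (by simp)
  haveI : IsLocallyNoetherian T.left := hT
  haveI : IsLocallyNoetherian R.left := LocallyOfFiniteType.isLocallyNoetherian t.left
  haveI : Etale r.left := repWith_prop hq sR.flip
  haveI : Surjective r.left := repWith_prop hqs sR.flip
  exact Groth.Agent.S0116.result r.left

/-- Dense opens map to dense sets along dense open charts. -/
theorem dense_image {A B : Type*} [TopologicalSpace A] [TopologicalSpace B] {φ : A → B} (hφ : Continuous φ)
    (hd : Dense (Set.range φ)) {V : Set A} (hV : Dense V) : Dense (φ '' V) := by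
  intro b
  have h1 : Set.range φ ⊆ closure (φ '' V) := by
    rintro _ ⟨a, rfl⟩
    exact image_closure_subset_closure_image hφ ⟨a, hV a, rfl⟩
  exact closure_minimal h1 isClosed_closure (hd b)

set_option maxHeartbeats 800000 in
/-- The statement. -/
theorem exists_dense_embedding [QuasiSeparatedSpace S] {Y X : Space S} (f : Y ⟶ X)
    (hf : IsFinitePresentationMor f.hom) (hXqc : IsQuasiCompactSp X.obj) (hXqs : IsQuasiSeparatedSp X.obj)
    (hXln : IsLocNoethSp X.obj) :
    ∃ (V : Space S) (j : V ⟶ Y) (n : ℕ)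
      (i : V.obj ⟶ X.obj ⨯ (yon S).obj (Over.mk (𝔸(ULift.{u} (Fin n); S) ↘ S))),
      RepWith @IsOpenImmersion j.hom ∧ Dense (Set.range (Points.map j.hom)) ∧
      i ≫ prod.fst = j.hom ≫ f.hom ∧ RepWith @IsImmersion i := by
  have hYqs : IsQuasiSeparatedSp Y.obj := Groth.L09.SpLimit.qsSp_of_qsMor hXqs hf.2.2
  have hYqc : IsQuasiCompactSp Y.obj := hf.2.1 X.property hXqc (𝟙 _) (𝟙 _) f.hom IsPullback.of_id_fst
  have hflft : LocP @LocallyOfFiniteType f.hom := fun U T a b h ha hb w =>
    have : LocallyOfFinitePresentation h.left := hf.1 a b h ha hb w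
    inferInstance
  obtain ⟨Y', j, hj, hrep, hdense, -⟩ := Groth.Agent.S10200.result Y
    ⟨PUnit.{u + 1}, fun _ => Y, fun _ => 𝟙 Y, ⟨fun _ => repWith_of_isIso (P := (@IsOpenImmersion : MorphismProperty Scheme.{u})) (𝟙 Y.obj),
      fun y => ⟨PUnit.unit, y, Points.map_id y⟩⟩, fun _ => hYqs⟩
  obtain ⟨Z, ⟨θe⟩⟩ := isRepresentable_iff_exists_iso.1 hrep
  let θ := θe.hom
  let φ : (yon S).obj Z ⟶ Y.obj := θ ≫ j.hom
  have hφo : RepWith @IsOpenImmersion φ := repWith_comp (repWith_of_isIso _) hj
  have hφ : RepWith @Etale φ := repWith_mono (fun ψ (_ : IsOpenImmersion ψ) => inferInstanceAs (Etale ψ)) hφo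
  haveI hZn : IsLocallyNoetherian Z.left := isLocallyNoetherian_chart X.property Y.property hXln hflft hφ
  -- `Z` is quasi-compact
  obtain ⟨U, u, hU, hu, hus⟩ := Qs.exists_affine_atlas Y.property hYqc
  haveI := hU
  haveI : IsLocallyNoetherian U.left := isLocallyNoetherian_chart X.property Y.property hXln hflft hu
  obtain ⟨R, r, t, sR⟩ := exists_isPullback_of_representable (Y.property.representable_from_yon φ) u
  haveI : IsOpenImmersion t.left := repWith_prop hφo sR
  haveI : IsNoetherian U.left := {}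
  haveI : NoetherianSpace R.left := t.left.isOpenEmbedding.isInducing.noetherianSpace
  haveI : Surjective r.left := repWith_prop hus sR.flip
  haveI : NoetherianSpace Z.left := noetherianSpace_of_surjective r.left r.left.continuous r.left.surjective
  haveI : CompactSpace Z.left := inferInstance
  -- the chart of `X` over `Z`
  obtain ⟨T, p, hT, hp, hps⟩ := Qs.exists_affine_atlas X.property hXqc
  haveI := hT
  obtain ⟨W, wa, wb, sW⟩ := exists_isPullback_of_representable (X.property.representable_from_yon (φ ≫ f.hom)) p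
  haveI : Etale wa.left := repWith_prop hp sW.flip
  haveI : CompactSpace W.left := compactSpace_of_qs hXqs sW
  haveI : QuasiSeparatedSpace Z.left := inferInstance
  haveI : QuasiCompact wa.left := quasiCompact_of_compactSpace wa.left
  haveI : IsSeparated wa.left := by
    haveI : IsSeparated T.hom := .of_comp T.hom (terminal.from S)
    haveI : IsClosedImmersion (pullback.diagonal T.hom) := IsSeparated.isClosedImmersion_diagonal
    have hTs : IsSeparatedMor p := SepColim.isSeparatedMor_of_separated p
    exact (repWith_yon_map_iff _ _).1 ((isSeparatedMor_iff ((IsAlgSpace.yon_obj Z).representable_from_yon _)).1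
      (separated_of_isPullback sW.flip hTs))
  obtain ⟨V₁, hV₁, hfin⟩ := exists_dense_finite wa.left
  haveI : NoetherianSpace (V₁ : Scheme.{u}) := V₁.ι.isOpenEmbedding.isInducing.noetherianSpace
  obtain ⟨V₂, hV₂, hV₂d⟩ := Groth.L20.GenSmooth.exists_dense_isAffineOpen (V₁ : Scheme.{u})
  let V : Z.left.Opens := V₁.ι ''ᵁ V₂
  have hV : IsAffineOpen V := hV₂.image_of_isOpenImmersion _
  have hVle : V ≤ V₁ := fun x hx => by obtain ⟨y, -, rfl⟩ := hx; exact y.2
  have hVd : Dense (V : Set Z.left) :=
    dense_image V₁.ι.continuous (by rw [Scheme.Opens.range_ι]; exact hV₁) hV₂d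
  haveI := hfin
  haveI hfinV : IsFinite (wa.left ∣_ V) := GenFin.isFinite_restrict_le wa.left hVle
  let VO : Over S := Over.mk (V.ι ≫ Z.hom)
  let ιV : VO ⟶ Z := Over.homMk V.ι rfl
  haveI : IsAffine VO.left := hV
  have hιo : RepWith @IsOpenImmersion ((yon S).map ιV) := repWith_map (inferInstanceAs (IsOpenImmersion V.ι))
  have hjo : RepWith @IsOpenImmersion ((yon S).map ιV ≫ φ) := repWith_comp hιo hφo
  let g : (yon S).obj VO ⟶ X.obj := ((yon S).map ιV ≫ φ) ≫ f.hom
  have hg : LocP @LocallyOfFiniteType g := locP_comp etLocal_lft (IsAlgSpace.yon_obj VO) Y.property X.property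
    (locP_of_repWith etLocal_lft
      (repWith_mono (fun ψ (_ : IsOpenImmersion ψ) => inferInstanceAs (LocallyOfFiniteType ψ)) hjo)) hflft
  obtain ⟨n, i, hi, himm⟩ := EmbedSpace.exists_embedding X.property hg hp
    (fun x _ => surjective_ofPt hps x) fun W' a b sq => by
      refine ⟨compactSpace_of_qs hXqs sq, ?_⟩
      obtain ⟨k, hk₁, hk₂⟩ : ∃ k : W' ⟶ W, k ≫ wa = a ≫ ιV ∧ k ≫ wb = b := by
        obtain ⟨k, hk⟩ := (yon S).map_surjective (sW.lift ((yon S).map (a ≫ ιV)) ((yon S).map b)
          (by rw [Functor.map_comp, Category.assoc, ← sq.w]; simp [g]))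
        exact ⟨k, (yon S).map_injective (by rw [Functor.map_comp, hk, sW.lift_fst]),
          (yon S).map_injective (by rw [Functor.map_comp, hk, sW.lift_snd])⟩
      have sk : IsPullback ((yon S).map k) ((yon S).map a) ((yon S).map wa) ((yon S).map ιV) := by
        refine IsPullback.of_right (h₁₁ := (yon S).map k) (h₁₂ := (yon S).map wb) ?_ ?_ sW.flip
        · rw [← Functor.map_comp, hk₂]
          exact (show g = (yon S).map ιV ≫ φ ≫ f.hom by simp [g]) ▸ sq.flip
        · rw [← Functor.map_comp, ← Functor.map_comp, hk₁]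
      have sk' := (IsPullback.of_map (yon S) ((yon S).map_injective (by simpa using sk.w)) sk).map (Over.forget S)
      haveI : IsFinite a.left := (MorphismProperty.arrow_mk_iso_iff @IsFinite (Arrow.isoMk
        (IsPullback.isoIsPullback _ _ sk'.flip (isPullback_morphismRestrict wa.left V)) (Iso.refl _)
        ((IsPullback.isoIsPullback_hom_fst _ _ sk'.flip _).trans (Category.comp_id _).symm))).2 hfinV
      haveI : Mono (prod.lift a b : W' ⟶ VO ⨯ T) := ⟨fun u v e => (yon S).map_injective (sq.hom_ext
        (by rw [← Functor.map_comp, ← Functor.map_comp]; exact congrArg _ (by simpa using e =≫ prod.fst))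
        (by rw [← Functor.map_comp, ← Functor.map_comp]; exact congrArg _ (by simpa using e =≫ prod.snd)))⟩
      exact isImmersion_lift a b
  refine ⟨⟨_, IsAlgSpace.yon_obj VO⟩, ObjectProperty.homMk ((yon S).map ιV ≫ φ), n, i, hjo, ?_, hi, himm⟩
  show Dense (Set.range (Points.map ((yon S).map ιV ≫ φ)))
  have e : Set.range (Points.map ((yon S).map ιV ≫ φ)) = Points.ofPt φ '' (V : Set Z.left) := by
    rw [range_map_yon]
    ext y
    constructor
    · rintro ⟨v, rfl⟩
      exact ⟨v.1, v.2, (ofPt_openMk V φ v).symm⟩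
    · rintro ⟨z, hz, rfl⟩
      exact ⟨⟨z, hz⟩, ofPt_openMk V φ _⟩
  rw [e]
  refine dense_image (Points.continuous_ofPt φ) ?_ hVd
  rw [← range_map_yon]
  have : Set.range (Points.map φ) = Set.range (Points.map j.hom) := by
    refine Set.Subset.antisymm ?_ ?_
    · rintro _ ⟨z, rfl⟩
      exact ⟨_, (Points.map_comp θ j.hom z).symm⟩
    · rintro _ ⟨z, rfl⟩
      exact ⟨Points.map (inv θ) z, by rw [← Points.map_comp]; simp [φ]⟩
  rw [this]
  exact hdense

end Groth.L23.EmbedDense
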