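import Groth.Agent.L23.Glue

/-!
# Gluing morphisms on etale covers
-/

universe u

open CategoryTheory CategoryTheory.Limits AlgebraicGeometry Opposite AlgSp

set_option backward.isDefEq.respectTransparency.types false

namespace Groth.L23

variable {S : Scheme.{u}} {T : Over S} {ι : Type u} {U : ι → Over S} (g : ∀ i, U i ⟶ T)
  [∀ i, Etale (g i).left]

lemma ofArrows_mem_J_etale (hs : ∀ t : ↥T.left, ∃ i u, (g i).left u = t) : Sieve.ofArrows U g ∈ J S T := by
  rw [GrothendieckTopology.mem_over_iff]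
  choose i u hu using hs
  let 𝒰 : Scheme.Cover.{u} Scheme.fppfPrecoverage.{u} T.left := Scheme.Cover.mkOfCovers T.left
    (fun t => (U (i t)).left) (fun t => (g (i t)).left) (fun t => ⟨t, u t, hu t⟩)
    (fun t => ⟨inferInstanceAs (Flat (g (i t)).left), inferInstanceAs (LocallyOfFinitePresentation (g (i t)).left)⟩)
  refine GrothendieckTopology.superset_covering _ ?_
    (Precoverage.generate_mem_toGrothendieck 𝒰.mem₀)
  rintro W v ⟨Z, a, _, ⟨t⟩, rfl⟩
  refine (Sieve.overEquiv_iff (Y := T) _ _).2 ?_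
  refine ⟨U (i t), Over.homMk a (by
    show a ≫ (U (i t)).hom = (a ≫ (g (i t)).left) ≫ T.hom
    rw [Category.assoc]
    exact congrArg _ (Over.w (g (i t))).symm), g (i t), ⟨i t⟩, ?_⟩
  exact Over.OverMorphism.ext rfl

/-- Morphisms to a sheaf glue along open covers. -/
theorem existsUnique_glue_etale (hs : ∀ t : ↥T.left, ∃ i u, (g i).left u = t) {F : Sp S}
    (x : ∀ i, (yon S).obj (U i) ⟶ F)
    (hx : ∀ ⦃W : Over S⦄ ⦃i j : ι⦄ (a : W ⟶ U i) (b : W ⟶ U j),
      a ≫ g i = b ≫ g j → (yon S).map a ≫ x i = (yon S).map b ≫ x j) :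
    ∃! l : (yon S).obj T ⟶ F, ∀ i, (yon S).map (g i) ≫ l = x i := by
  have hF := (isSheaf_iff_isSheaf_of_type (J S) F.obj).1 F.property
  have h := (Presieve.isSheafFor_arrows_iff F.obj g).1
    ((Presieve.isSheafFor_iff_generate _).2 (hF _ (ofArrows_mem_J_etale g hs)))
    (fun i => (J S).uliftYonedaEquiv (x i)) (fun i j W a b w => by
      rw [GrothendieckTopology.uliftYonedaEquiv_naturality, GrothendieckTopology.uliftYonedaEquiv_naturality]
      exact congrArg _ (hx a b w))
  obtain ⟨t, ht, htu⟩ := h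
  refine ⟨(J S).uliftYonedaEquiv.symm t, fun i => ?_, fun l hl => ?_⟩
  · apply (J S).uliftYonedaEquiv.injective
    rw [← GrothendieckTopology.uliftYonedaEquiv_naturality, Equiv.apply_symm_apply]
    exact ht i
  · rw [← htu ((J S).uliftYonedaEquiv l) fun i => ?_, Equiv.symm_apply_apply]
    rw [GrothendieckTopology.uliftYonedaEquiv_naturality, hl]

theorem hom_ext_cover_etale (hs : ∀ t : ↥T.left, ∃ i u, (g i).left u = t) {F : Sp S}
    {l l' : (yon S).obj T ⟶ F} (h : ∀ i, (yon S).map (g i) ≫ l = (yon S).map (g i) ≫ l') : l = l' :=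
  (existsUnique_glue_etale g hs (fun i => (yon S).map (g i) ≫ l') fun W i j a b w => by
    rw [← Functor.map_comp_assoc, w, Functor.map_comp_assoc]).unique h fun _ => rfl

end Groth.L23
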