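import Groth.Agent.L23.EtColimitCore
import Groth.Agent.L23.GlueEtale

/-!
# Colimits of spaces detected by etale spaces over them
-/

universe w v u

open CategoryTheory CategoryTheory.Limits AlgebraicGeometry AlgSp

set_option backward.isDefEq.respectTransparency.types false
set_option linter.style.haveILetI false

namespace Groth.L23.EtColim

variable {S : Scheme.{u}} {B : AlgSp.Space S} {I : Type v} [Category.{w} I] {D : I ⥤ Over B} {c : Cocone D}

/-- Maps from affine etale charts to affine schemes over affine charts of the base are glued. -/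
def AffineGlue (c : Cocone D) : Prop :=
  ∀ (B' Zs Us : Over S) (b : (AlgSp.yon S).obj B' ⟶ B.obj) (z : Zs ⟶ B') {XB : AlgSp.Space S}
    (x₁ : XB ⟶ c.pt.left) (x₂ : XB.obj ⟶ (AlgSp.yon S).obj B') (uu : (AlgSp.yon S).obj Us ⟶ XB.obj)
    (DU : I ⥤ AlgSp.Space S) (αU : DU ⟶ D ⋙ Over.forget B)
    (ιU : DU ⟶ (Functor.const I).obj ((AlgSp.ofScheme S).obj Us))
    (φ : DU ⟶ (Functor.const I).obj ((AlgSp.ofScheme S).obj Zs)),
    IsAffine B'.left → IsAffine Zs.left → IsAffine Us.left → AlgSp.RepWith @Etale b →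
    IsPullback x₁.hom x₂ c.pt.hom.hom b → AlgSp.RepWith @Etale uu →
    (∀ i, IsPullback (ιU.app i).hom (αU.app i).hom (uu ≫ x₁.hom) (c.ι.app i).left.hom) →
    (∀ i, (φ.app i).hom ≫ (AlgSp.yon S).map z = (ιU.app i).hom ≫ uu ≫ x₂) →
      ∃! fz : Us ⟶ Zs, (AlgSp.yon S).map fz ≫ (AlgSp.yon S).map z = uu ≫ x₂ ∧
        ∀ i, (ιU.app i).hom ≫ (AlgSp.yon S).map fz = (φ.app i).hom

theorem isEtaleMor_of_repWith {E F : Sp S} (hE : IsAlgSpace E) (hF : IsAlgSpace F) {e : E ⟶ F}
    (he : RepWith @Etale e) : IsEtaleMor e :=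
  (isEtaleMor_iff_locP hE hF _).2 (locP_of_repWith etLocal_etale he)

theorem existsUnique_affine (h₂ : AffineGlue c) {B' Zs Us : Over S} [IsAffine B'.left] [IsAffine Zs.left]
    [IsAffine Us.left] {b : (yon S).obj B' ⟶ B.obj} (hb : RepWith @Etale b) (z : Zs ⟶ B')
    (e : (yon S).obj Us ⟶ oSp c.pt) (he : RepWith @Etale e) (x₂ : (yon S).obj Us ⟶ (yon S).obj B')
    (w : x₂ ≫ b = e ≫ oq c.pt)
    (k : ∀ i, pullback e (oh (c.ι.app i)) ⟶ (yon S).obj Zs)
    (hkz : ∀ i, k i ≫ (yon S).map z = pullback.fst e (oh (c.ι.app i)) ≫ x₂)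
    (hn : ∀ {i j : I} (φ : i ⟶ j), memMap e φ ≫ k j = k i) :
    ∃! fz : Us ⟶ Zs, (yon S).map fz ≫ (yon S).map z = x₂ ∧
      ∀ i, pullback.fst e (oh (c.ι.app i)) ≫ (yon S).map fz = k i := by
  have hC : IsAlgSpace (oSp c.pt) := c.pt.left.property
  let sq := IsPullback.of_hasPullback (oq c.pt) b
  let XB : AlgSp.Space S := ⟨pullback (oq c.pt) b,
    isAlgSpace_of_isPullback B.property.diag hC (IsAlgSpace.yon_obj B') sq⟩
  let x₁ : XB ⟶ c.pt.left := InducedCategory.homMk (pullback.fst (oq c.pt) b)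
  let uu : (yon S).obj Us ⟶ pullback (oq c.pt) b := pullback.lift e x₂ w.symm
  have huu : RepWith @Etale uu := by
    refine repWith_of_locP etLocal_etale XB.property (XB.property.representable_from_yon _) ?_
    refine locP_of_comp_of_locP etLocal_etale (Q := @Etale) ?_ (IsAlgSpace.yon_obj Us) XB.property hC
      (g := pullback.fst (oq c.pt) b) ?_ ?_
    · intro A B C φ ψ h₁ h₂
      have := h₁; have := h₂
      exact Etale.of_comp φ ψ
    · rw [pullback.lift_fst]; exact locP_of_repWith etLocal_etale he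
    · exact locP_of_repWith etLocal_etale (repWith_of_isPullback sq.flip hb)
  let φ : mem (IsAlgSpace.yon_obj Us) e ⋙ Over.forget B ⟶ (Functor.const I).obj ((AlgSp.ofScheme S).obj Zs) :=
    { app := fun i => InducedCategory.homMk (k i)
      naturality := fun i j ψ => InducedCategory.hom_ext ((hn ψ).trans (Category.comp_id _).symm) }
  let ιU : mem (IsAlgSpace.yon_obj Us) e ⋙ Over.forget B ⟶ (Functor.const I).obj ((AlgSp.ofScheme S).obj Us) :=
    { app := fun i => InducedCategory.homMk (pullback.fst e (oh (c.ι.app i)))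
      naturality := fun i j ψ => InducedCategory.hom_ext ((memMap_fst e ψ).trans (Category.comp_id _).symm) }
  obtain ⟨fz, ⟨h₁, h₃⟩, hu⟩ := h₂ B' Zs Us b z x₁ (pullback.snd (oq c.pt) b) uu
    (mem (IsAlgSpace.yon_obj Us) e ⋙ Over.forget B) (Functor.whiskerRight (memNat (IsAlgSpace.yon_obj Us) e) _) ιU φ
    ‹_› ‹_› ‹_› hb sq huu
    (fun i => by
      have key : ∀ n, n = e → IsPullback (pullback.fst e (oh (c.ι.app i))) (pullback.snd e (oh (c.ι.app i))) n
          (oh (c.ι.app i)) := by
        rintro n rfl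
        exact IsPullback.of_hasPullback _ _
      exact key (uu ≫ x₁.hom) (pullback.lift_fst _ _ _))
    (fun i => (hkz i).trans (congrArg (_ ≫ ·) (pullback.lift_snd _ _ _).symm))
  exact ⟨fz, ⟨h₁.trans (pullback.lift_snd _ _ _), h₃⟩,
    fun f hf => hu f ⟨hf.1.trans (pullback.lift_snd _ _ _).symm, hf.2⟩⟩

/-- A chart of a space over the base. -/
structure TChart (T : Over B) where
  /-- chart of the base -/
  B' : Over S
  /-- chart of the space -/
  Zs : Over S
  /-- map to the base -/
  b : (yon S).obj B' ⟶ B.obj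
  /-- map to the space -/
  p : (yon S).obj Zs ⟶ oSp T
  /-- map of charts -/
  z : Zs ⟶ B'
  affB : IsAffine B'.left
  affZ : IsAffine Zs.left
  hb : RepWith @Etale b
  hp : RepWith @Etale p
  w : p ≫ oq T = (yon S).map z ≫ b

attribute [instance] TChart.affB TChart.affZ

theorem exists_tChart (T : Over B) (y : Points (oSp T)) :
    ∃ h : TChart T, y ∈ Set.range (Points.map h.p) := by
  obtain ⟨U, p, hU, hp, u, rfl⟩ := exists_affine_chart_at T.left.property y
  obtain ⟨u, rfl⟩ := (Points.schemeEquiv U).surjective u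
  obtain ⟨B', b, hB', hb, hy⟩ := exists_affine_chart_at B.property (Points.ofPt (p ≫ oq T) u)
  obtain ⟨W, j, k, hW, hj, -, hw, w, rfl⟩ := exists_common B.property (p ≫ oq T) b hb u hy
  refine ⟨⟨B', W, b, (yon S).map j ≫ p, k, hB', hW, hb, repWith_comp (repWith_map hj) hp, ?_⟩,
    Points.ofScheme W w, ?_⟩
  · rw [Category.assoc, hw]
  · rw [← Points.ofPt_eq_map_ofScheme, ofPt_comp]
    exact Points.ofPt_eq_map_ofScheme p (j.left w)

variable (hff : FullyFaithful c) (h₂ : AffineGlue c)

include hff h₂ in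
/-- Maps from an etale scheme over the colimit are determined on the members. -/
theorem ext_to_space {T : Over B} {V : Over S} (e : (yon S).obj V ⟶ oSp c.pt) (he : RepWith @Etale e)
    (x x' : (yon S).obj V ⟶ oSp T) (hx : x ≫ oq T = e ≫ oq c.pt) (hx' : x' ≫ oq T = e ≫ oq c.pt)
    (h : ∀ i, pullback.fst e (oh (c.ι.app i)) ≫ x = pullback.fst e (oh (c.ι.app i)) ≫ x') : x = x' := by
  have hT : IsAlgSpace (oSp T) := T.left.property
  have hC : IsAlgSpace (oSp c.pt) := c.pt.left.property
  have loc : ∀ v : V.left, ∃ (W : Over S) (m : W ⟶ V), Etale m.left ∧ (∃ w, m.left w = v) ∧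
      (yon S).map m ≫ x = (yon S).map m ≫ x' := by
    intro v
    obtain ⟨h₀, hy⟩ := exists_tChart T (Points.ofPt x v)
    obtain ⟨W₀, j, k, hW₀, hj, -, hw, w₀, hw₀⟩ := exists_common hT x h₀.p h₀.hp v hy
    obtain ⟨h₁, hy'⟩ := exists_tChart T (Points.ofPt ((yon S).map j ≫ x') w₀)
    obtain ⟨W, j', k', hW, hj', -, hw', w₁, hw₁⟩ := exists_common hT ((yon S).map j ≫ x') h₁.p h₁.hp w₀ hy'
    have := hj; have := hj'
    refine ⟨W, j' ≫ j, inferInstanceAs (Etale (j'.left ≫ j.left)), ⟨w₁, ?_⟩, ?_⟩
    · rw [Over.comp_left, Scheme.Hom.comp_apply, hw₁, hw₀]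
    -- lifts to the charts
    let g : W ⟶ h₀.Zs := j' ≫ k
    let e' : (yon S).obj W ⟶ oSp c.pt := (yon S).map (j' ≫ j) ≫ e
    have he' : RepWith @Etale e' := repWith_comp (repWith_map (inferInstanceAs (Etale (j'.left ≫ j.left)))) he
    have hee : IsEtaleMor e' := isEtaleMor_of_repWith (IsAlgSpace.yon_obj W) hC he'
    have hg : (yon S).map g ≫ h₀.p = (yon S).map (j' ≫ j) ≫ x := by
      rw [Functor.map_comp, Functor.map_comp, Category.assoc, Category.assoc, hw]
    have hg' : (yon S).map k' ≫ h₁.p = (yon S).map (j' ≫ j) ≫ x' := by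
      rw [← hw', Functor.map_comp, Category.assoc]
    have hgB : (yon S).map g ≫ h₀.p ≫ oq T = e' ≫ oq c.pt := by
      rw [← Category.assoc, hg, Category.assoc, hx, ← Category.assoc]
    have hgB' : (yon S).map k' ≫ h₁.p ≫ oq T = e' ≫ oq c.pt := by
      rw [← Category.assoc, hg', Category.assoc, hx', ← Category.assoc]
    have hmem : ∀ i, pullback.fst e' (oh (c.ι.app i)) ≫ (yon S).map g ≫ h₀.p =
        pullback.fst e' (oh (c.ι.app i)) ≫ (yon S).map k' ≫ h₁.p := fun i => by
      have h' := congrArg (pullback.lift (pullback.fst e' (oh (c.ι.app i)) ≫ (yon S).map (j' ≫ j))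
        (pullback.snd e' (oh (c.ι.app i))) (by rw [Category.assoc]; exact pullback.condition) ≫ ·) (h i)
      simp only [pullback.lift_fst_assoc, Category.assoc] at h'
      rw [hg, hg']; exact h'
    -- the etale scheme over which both lifts agree
    let E' := pullback ((yon S).map g ≫ h₀.p) h₁.p
    let fE : E' ⟶ (yon S).obj W := pullback.fst _ _
    have hE' : IsAlgSpace E' := isAlgSpace_of_isPullback hT.diag (IsAlgSpace.yon_obj W) (IsAlgSpace.yon_obj h₁.Zs)
      (IsPullback.of_hasPullback _ _)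
    have hfE : RepWith @Etale fE := repWith_of_isPullback (IsPullback.of_hasPullback _ _).flip h₁.hp
    obtain ⟨σ, ⟨hσ₁, hσ₂⟩, -⟩ := existsUnique_lift hff (IsAlgSpace.yon_obj W) hE' e' (fE ≫ e') hee
      (isEtaleMor_of_repWith hE' hC (repWith_comp hfE he'))
      (fun i => pullback.lift (pullback.fst e' (oh (c.ι.app i))) (pullback.fst e' (oh (c.ι.app i)) ≫ (yon S).map k')
        (by rw [Category.assoc]; exact hmem i))
      (fun i => by rw [pullback.lift_fst_assoc, pullback.condition])
      (fun φ => by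
        apply pullback.hom_ext
        · rw [Category.assoc, pullback.lift_fst, pullback.lift_fst, memMap_fst]
        · rw [Category.assoc, pullback.lift_snd, pullback.lift_snd, ← Category.assoc, memMap_fst])
    have hσ : σ ≫ fE = 𝟙 _ := ext_lift hff (IsAlgSpace.yon_obj W) (IsAlgSpace.yon_obj W) e' e' hee hee _ _
      (by rw [Category.assoc, hσ₁]) (Category.id_comp _)
      (fun i => by rw [← Category.assoc, hσ₂ i, pullback.lift_fst, Category.comp_id])
    obtain ⟨g'', hg''⟩ := (yon S).map_surjective (σ ≫ pullback.snd ((yon S).map g ≫ h₀.p) h₁.p)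
    have hp'' : (yon S).map g'' ≫ h₁.p = (yon S).map g ≫ h₀.p := by
      rw [hg'', Category.assoc, ← pullback.condition, ← Category.assoc, hσ, Category.id_comp]
    have hmem'' : ∀ i, pullback.fst e' (oh (c.ι.app i)) ≫ (yon S).map g'' =
        pullback.fst e' (oh (c.ι.app i)) ≫ (yon S).map k' := fun i => by
      rw [hg'', ← Category.assoc, hσ₂ i, pullback.lift_snd]
    have hBq : ∀ (n : (yon S).obj W ⟶ (yon S).obj h₁.Zs), n ≫ h₁.p ≫ oq T = e' ≫ oq c.pt →
        (n ≫ (yon S).map h₁.z) ≫ h₁.b = e' ≫ oq c.pt := fun n hn => by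
      rw [Category.assoc, ← h₁.w, hn]
    have hB'' : (yon S).map g'' ≫ h₁.p ≫ oq T = e' ≫ oq c.pt := by
      rw [← Category.assoc, hp'', Category.assoc, hgB]
    have hx₂ : (yon S).map g'' ≫ (yon S).map h₁.z = (yon S).map k' ≫ (yon S).map h₁.z := by
      have key := ext_lift hff (IsAlgSpace.yon_obj W)
        (isAlgSpace_of_isPullback B.property.diag hC (IsAlgSpace.yon_obj h₁.B')
          (IsPullback.of_hasPullback (oq c.pt) h₁.b))
        e' (pullback.fst (oq c.pt) h₁.b) hee
        (isEtaleMor_of_repWith (isAlgSpace_of_isPullback B.property.diag hC (IsAlgSpace.yon_obj h₁.B')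
          (IsPullback.of_hasPullback (oq c.pt) h₁.b)) hC
          (repWith_of_isPullback (IsPullback.of_hasPullback (oq c.pt) h₁.b).flip h₁.hb))
        (pullback.lift e' _ (hBq _ hB'').symm) (pullback.lift e' _ (hBq _ hgB').symm)
        (pullback.lift_fst _ _ _) (pullback.lift_fst _ _ _) (fun i => by
          apply pullback.hom_ext
          · simp only [Category.assoc, pullback.lift_fst]
          · simp only [Category.assoc, pullback.lift_snd]
            rw [← Category.assoc, hmem'' i, Category.assoc])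
      simpa only [pullback.lift_snd] using key =≫ pullback.snd (oq c.pt) h₁.b
    have : g'' = k' := (existsUnique_affine h₂ h₁.hb h₁.z e' he' ((yon S).map k' ≫ (yon S).map h₁.z)
      (hBq _ hgB') (fun i => pullback.fst e' (oh (c.ι.app i)) ≫ (yon S).map k')
      (fun i => Category.assoc _ _ _) (fun φ => by rw [← Category.assoc, memMap_fst])).unique
      ⟨hx₂, hmem''⟩ ⟨rfl, fun i => rfl⟩
    rw [← hg, ← hp'', this, hg']
  choose W m hm w hw using loc
  have := hm
  exact hom_ext_cover_etale m (fun v => ⟨v, w v⟩) hw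

/-- Being compatible with a cocone on the members. -/
def Good (s : Cocone D) {V : Over S} (e : (yon S).obj V ⟶ oSp c.pt) (x : (yon S).obj V ⟶ oSp s.pt) : Prop :=
  x ≫ oq s.pt = e ≫ oq c.pt ∧
    ∀ i, pullback.fst e (oh (c.ι.app i)) ≫ x = pullback.snd e (oh (c.ι.app i)) ≫ oh (s.ι.app i)

theorem Good.restrict {s : Cocone D} {V V' : Over S} {e : (yon S).obj V ⟶ oSp c.pt} {x : (yon S).obj V ⟶ oSp s.pt}
    (h : Good s e x) (g : V' ⟶ V) : Good s ((yon S).map g ≫ e) ((yon S).map g ≫ x) := by
  refine ⟨by rw [Category.assoc, h.1, Category.assoc], fun i => ?_⟩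
  have h' := congrArg (pullback.lift (pullback.fst ((yon S).map g ≫ e) (oh (c.ι.app i)) ≫ (yon S).map g)
    (pullback.snd ((yon S).map g ≫ e) (oh (c.ι.app i))) (by rw [Category.assoc]; exact pullback.condition) ≫ ·) (h.2 i)
  simpa only [pullback.lift_fst_assoc, pullback.lift_snd_assoc, Category.assoc] using h'

include hff h₂ in
theorem Good.unique {s : Cocone D} {V : Over S} {e : (yon S).obj V ⟶ oSp c.pt} (he : RepWith @Etale e)
    {x x' : (yon S).obj V ⟶ oSp s.pt} (h : Good s e x) (h' : Good s e x') : x = x' :=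
  ext_to_space hff h₂ e he x x' h.1 h'.1 fun i => (h.2 i).trans (h'.2 i).symm

theorem isOpen_range_etale {E F : Sp S} (hE : IsAlgSpace E) {e : E ⟶ F} (he : IsEtaleMor e) :
    IsOpen (Set.range (Points.map e)) := by
  obtain ⟨V, a, ha, has⟩ := hE.atlas
  have := (isOpenMap_map_of_universallyOpen (repWith_universallyOpen_of_etale (he a ha))).isOpen_range
  have hr : Set.range (Points.map (a ≫ e)) = Set.range (Points.map e) := by
    ext q
    constructor
    · rintro ⟨t, rfl⟩; exact ⟨Points.map a t, (Points.map_comp a e t).symm⟩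
    · rintro ⟨t, rfl⟩
      obtain ⟨t, rfl⟩ := surjective_map_of_repWith has t
      exact ⟨t, Points.map_comp a e t⟩
  rwa [hr] at this

include hff h₂ in
/-- A cocone detected on etale spaces is a colimit. -/
theorem nonempty_isColimit
    (h₁ : ∀ (D' : I ⥤ Over B) (α : D' ⟶ D),
      (∀ ⦃i j : I⦄ (g : i ⟶ j), IsPullback (D'.map g).left.hom (α.app i).left.hom (α.app j).left.hom (D.map g).left.hom) →
      (∀ i, IsEtaleMor (α.app i).left.hom) →
        ∃ (c' : Cocone D') (a : c'.pt ⟶ c.pt), IsEtaleMor a.left.hom ∧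
          ∀ i, IsPullback (c'.ι.app i).left.hom (α.app i).left.hom a.left.hom (c.ι.app i).left.hom) :
    Nonempty (IsColimit c) := by
  have hC : IsAlgSpace (oSp c.pt) := c.pt.left.property
  refine ⟨IsColimit.ofExistsUnique fun s => ?_⟩
  have hT : IsAlgSpace (oSp s.pt) := s.pt.left.property
  -- the etale spaces from the charts
  have hV : ∀ h : TChart s.pt, ∃ (V : Sp S) (_ : IsAlgSpace V) (a : V ⟶ oSp c.pt),
      IsEtaleMor a ∧ ∃ ι : ∀ i, pullback h.p (oh (s.ι.app i)) ⟶ V,
        (∀ i, IsPullback (ι i) (pullback.snd h.p (oh (s.ι.app i))) a (oh (c.ι.app i))) ∧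
        ∀ {i j : I} (φ : i ⟶ j), memMap (c := s) h.p φ ≫ ι j = ι i := by
    intro h
    have hE := IsAlgSpace.yon_obj (S := S) h.Zs
    obtain ⟨c', a, ha, hsq⟩ := h₁ (mem (c := s) hE h.p) (memNat (c := s) hE h.p)
      (fun i j φ => by
        refine IsPullback.of_right (h₁₂ := pullback.fst h.p (oh (s.ι.app j))) ?_ (memMap_snd (c := s) h.p φ)
          (IsPullback.of_hasPullback h.p (oh (s.ι.app j)))
        show IsPullback (memMap (c := s) h.p φ ≫ _) _ _ (oh (D.map φ) ≫ oh (s.ι.app j))
        rw [memMap_fst, oh_cocone]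
        exact IsPullback.of_hasPullback h.p (oh (s.ι.app i)))
      (fun i => isEtaleMor_of_repWith
        (isAlgSpace_of_isPullback hT.diag hE (D.obj i).left.property (IsPullback.of_hasPullback h.p (oh (s.ι.app i))))
        (D.obj i).left.property (repWith_of_isPullback (IsPullback.of_hasPullback h.p (oh (s.ι.app i))) h.hp))
    exact ⟨oSp c'.pt, c'.pt.left.property, oh a, ha, fun i => oh (c'.ι.app i), hsq,
      fun φ => congrArg oh (c'.w φ)⟩
  choose V hVs a hae ιV sqV hVn using hV
  -- maps from affine etale schemes over these spaces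
  have hchart : ∀ (h : TChart s.pt) (Us : Over S) [IsAffine Us.left] (u : (yon S).obj Us ⟶ V h),
      RepWith @Etale (u ≫ a h) → ∃ x, Good s (u ≫ a h) x := by
    intro h Us _ u hu
    have hn := @hVn h
    let qm : ∀ i, pullback (a h) (oh (c.ι.app i)) ⟶ (yon S).obj h.Zs := fun i =>
      (sqV h i).isoPullback.inv ≫ pullback.fst h.p (oh (s.ι.app i))
    have hinv : ∀ i {P : Sp S} (m : P ⟶ pullback h.p (oh (s.ι.app i))) (n : P ⟶ pullback (a h) (oh (c.ι.app i))),
        m ≫ ιV h i = n ≫ pullback.fst _ _ → m ≫ pullback.snd _ _ = n ≫ pullback.snd _ _ →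
        n ≫ (sqV h i).isoPullback.inv = m := fun i P m n e₁ e₂ => by
      rw [Iso.comp_inv_eq]
      apply pullback.hom_ext
      · rw [Category.assoc, IsPullback.isoPullback_hom_fst, e₁]
      · rw [Category.assoc, IsPullback.isoPullback_hom_snd, e₂]
    have hqn : ∀ {i j : I} (φ : i ⟶ j), memMap (a h) φ ≫ qm j = qm i := fun {i j} φ => by
      show memMap (a h) φ ≫ (sqV h j).isoPullback.inv ≫ _ = _
      rw [← Category.assoc, hinv j ((sqV h i).isoPullback.inv ≫ memMap (c := s) h.p φ) (memMap (a h) φ)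
        (by rw [Category.assoc, hn, memMap_fst, IsPullback.isoPullback_inv_fst])
        (by rw [Category.assoc, memMap_snd, memMap_snd, ← Category.assoc, IsPullback.isoPullback_inv_snd]),
        Category.assoc, memMap_fst]
    have hqB : ∀ i, qm i ≫ (yon S).map h.z ≫ h.b = pullback.snd (a h) (oh (c.ι.app i)) ≫ oq (D.obj i) := fun i => by
      show ((sqV h i).isoPullback.inv ≫ pullback.fst _ _) ≫ _ = _
      rw [Category.assoc, ← h.w, pullback.condition_assoc, oh_w, IsPullback.isoPullback_inv_snd_assoc]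
    have hqs : ∀ i, qm i ≫ h.p = pullback.snd (a h) (oh (c.ι.app i)) ≫ oh (s.ι.app i) := fun i => by
      show ((sqV h i).isoPullback.inv ≫ pullback.fst _ _) ≫ _ = _
      rw [Category.assoc, pullback.condition, IsPullback.isoPullback_inv_snd_assoc]
    -- the map to the chart of the base
    obtain ⟨m, ⟨hm₁, hm₂⟩, -⟩ := existsUnique_lift hff (hVs h)
      (isAlgSpace_of_isPullback B.property.diag hC (IsAlgSpace.yon_obj h.B') (IsPullback.of_hasPullback (oq c.pt) h.b))
      (a h) (pullback.fst (oq c.pt) h.b) (hae h)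
      (isEtaleMor_of_repWith (isAlgSpace_of_isPullback B.property.diag hC (IsAlgSpace.yon_obj h.B')
        (IsPullback.of_hasPullback (oq c.pt) h.b)) hC
        (repWith_of_isPullback (IsPullback.of_hasPullback (oq c.pt) h.b).flip h.hb))
      (fun i => pullback.lift (pullback.snd (a h) (oh (c.ι.app i)) ≫ oh (c.ι.app i)) (qm i ≫ (yon S).map h.z)
        (by rw [Category.assoc, Category.assoc, oh_w, hqB]))
      (fun i => pullback.lift_fst _ _ _)
      (fun φ => by
        apply pullback.hom_ext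
        · rw [Category.assoc, pullback.lift_fst, pullback.lift_fst, ← Category.assoc, memMap_snd, Category.assoc,
            oh_cocone]
        · rw [Category.assoc, pullback.lift_snd, pullback.lift_snd, ← Category.assoc, hqn])
    let r : ∀ i, pullback (u ≫ a h) (oh (c.ι.app i)) ⟶ pullback (a h) (oh (c.ι.app i)) := fun i =>
      pullback.lift (pullback.fst _ _ ≫ u) (pullback.snd _ _) (by rw [Category.assoc]; exact pullback.condition)
    have hw₂ : (u ≫ m ≫ pullback.snd (oq c.pt) h.b) ≫ h.b = (u ≫ a h) ≫ oq c.pt := by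
      rw [Category.assoc, Category.assoc, ← pullback.condition, reassoc_of% hm₁, Category.assoc]
    obtain ⟨fz, ⟨hf₁, hf₂⟩, -⟩ := existsUnique_affine h₂ h.hb h.z (u ≫ a h) hu
      (u ≫ m ≫ pullback.snd (oq c.pt) h.b) hw₂ (fun i => r i ≫ qm i)
      (fun i => by
        have h' := congrArg (fun n => r i ≫ n ≫ pullback.snd (oq c.pt) h.b) (hm₂ i)
        simp only [pullback.lift_snd] at h'
        rw [Category.assoc, ← h', Category.assoc, pullback.lift_fst_assoc, Category.assoc])
      (fun {i j} φ => by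
        have key : memMap (u ≫ a h) φ ≫ r j = r i ≫ memMap (a h) φ := by
          apply pullback.hom_ext
          · rw [Category.assoc, Category.assoc, pullback.lift_fst, memMap_fst, pullback.lift_fst, ← Category.assoc,
              memMap_fst]
          · rw [Category.assoc, Category.assoc, pullback.lift_snd, memMap_snd, memMap_snd, ← Category.assoc,
              pullback.lift_snd]
        rw [← Category.assoc, key, Category.assoc, hqn])
    refine ⟨(yon S).map fz ≫ h.p, ?_, fun i => ?_⟩
    · rw [Category.assoc, h.w, ← Category.assoc, hf₁, hw₂]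
    · rw [← Category.assoc, hf₂ i, Category.assoc, hqs i, pullback.lift_snd_assoc]
  -- the images cover
  let O : TopologicalSpace.Opens (Points (oSp c.pt)) :=
    ⟨⋃ h : TChart s.pt, Set.range (Points.map (a h)), isOpen_iUnion fun h => isOpen_range_etale (hVs h) (hae h)⟩
  have hO : ∀ q : Points (oSp c.pt), q ∈ O := by
    have hι : RepWith @IsOpenImmersion (openSubι O) := repWith_openSubι O
    have hι' : IsEtaleMor (openSubι O) := isEtaleMor_of_repWith (isAlgSpace_openSub O hC) hC
      (repWith_mono (fun φ (_ : IsOpenImmersion φ) => inferInstanceAs (Etale φ)) hι)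
    have hid : IsEtaleMor (𝟙 (oSp c.pt)) := (isEtaleMor_iff_locP hC hC _).2
      (locP_of_repWith etLocal_etale (repWith_of_isIso _))
    have := mono_openSubι (W := O)
    have gen : ∀ {E : Sp S} (hE : IsAlgSpace E) (e : E ⟶ oSp c.pt), IsEtaleMor e →
        ∃ m : E ⟶ openSub O, m ≫ openSubι O = e := by
      intro E hE e he
      have hk : ∀ i, ∃ k : pullback e (oh (c.ι.app i)) ⟶ openSub O,
          k ≫ openSubι O = pullback.snd e (oh (c.ι.app i)) ≫ oh (c.ι.app i) := fun i =>
        (exists_factor_iff hι _).2 (by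
          rintro _ ⟨q, rfl⟩
          rw [range_openSubι, Points.map_comp]
          generalize Points.map (pullback.snd e (oh (c.ι.app i))) q = d
          obtain ⟨h, z, hz⟩ := exists_tChart s.pt (Points.map (oh (s.ι.app i)) d)
          obtain ⟨y, -, hy₂⟩ := exists_of_isPullback (IsPullback.of_hasPullback h.p (oh (s.ι.app i))) z _ hz
          refine Set.mem_iUnion.2 ⟨h, Points.map (ιV h i) y, ?_⟩
          rw [← hy₂, ← Points.map_comp, ← Points.map_comp, (sqV h i).w])
      choose k hk using hk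
      obtain ⟨m, ⟨hm, -⟩, -⟩ := existsUnique_lift hff hE (isAlgSpace_openSub O hC) e (openSubι O) he hι'
        k hk (fun {i j} φ => by
          rw [← cancel_mono (openSubι O), Category.assoc, hk, hk, ← Category.assoc, memMap_snd, Category.assoc,
            oh_cocone])
      exact ⟨m, hm⟩
    obtain ⟨m, hm⟩ := gen hC (𝟙 _) hid
    intro q
    have : q ∈ Set.range (Points.map (openSubι O)) := ⟨Points.map m q, by
      rw [← Points.map_comp, hm, Points.map_id]⟩
    rwa [range_openSubι] at this
  -- glue on an atlas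
  obtain ⟨V₀, p₀, hp₀, hp₀s⟩ := hC.atlas
  have : Epi p₀ := epi_of_repWith p₀ hp₀ hp₀s
  have loc : ∀ v : V₀.left, ∃ (W : Over S) (g : W ⟶ V₀), Etale g.left ∧ (∃ w, g.left w = v) ∧
      ∃ x, Good s ((yon S).map g ≫ p₀) x := by
    intro v
    obtain ⟨h, y, hy⟩ := Set.mem_iUnion.1 (hO (Points.ofPt p₀ v))
    obtain ⟨U, u, hU, hu, t, rfl⟩ := exists_affine_chart_at (hVs h) y
    have hua : RepWith @Etale (u ≫ a h) := hae h u hu
    obtain ⟨W, g, k, hW, hg, hk, hgw, w, hw⟩ := exists_common hC p₀ (u ≫ a h) hua v ⟨t, by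
      rw [Points.map_comp, hy]⟩
    have := hU; have := hW
    obtain ⟨x, hx⟩ := hchart h U u hua
    refine ⟨W, g, hg, ⟨w, hw⟩, (yon S).map k ≫ x, ?_⟩
    rw [hgw]
    exact hx.restrict k
  choose W g hrest using loc
  have hg : ∀ v, Etale (g v).left := fun v => (hrest v).1
  let xW := fun v => (hrest v).2.2.choose
  have hxW : ∀ v, Good s ((yon S).map (g v) ≫ p₀) (xW v) := fun v => (hrest v).2.2.choose_spec
  have hcompat : ∀ ⦃T : Over S⦄ ⦃v v' : V₀.left⦄ (l : T ⟶ W v) (l' : T ⟶ W v'),
      l ≫ g v = l' ≫ g v' → (yon S).map l ≫ xW v = (yon S).map l' ≫ xW v' := by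
    intro T v v' l l' hll
    let P : Over S := Over.mk (pullback.fst (g v).left (g v').left ≫ (W v).hom)
    let q₁ : P ⟶ W v := Over.homMk (pullback.fst (g v).left (g v').left) rfl
    let q₂ : P ⟶ W v' := Over.homMk (pullback.snd (g v).left (g v').left) (by
      show _ ≫ (W v').hom = _ ≫ (W v).hom
      rw [← Over.w (g v'), ← pullback.condition_assoc, Over.w])
    let r : T ⟶ P := Over.homMk (pullback.lift l.left l'.left (congrArg CommaMorphism.left hll)) (by
      show pullback.lift _ _ _ ≫ _ ≫ _ = T.hom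
      rw [pullback.lift_fst_assoc]; exact Over.w l)
    have hq : q₁ ≫ g v = q₂ ≫ g v' := Over.OverMorphism.ext pullback.condition
    rw [show l = r ≫ q₁ from Over.OverMorphism.ext (pullback.lift_fst _ _ _).symm,
      show l' = r ≫ q₂ from Over.OverMorphism.ext (pullback.lift_snd _ _ _).symm,
      Functor.map_comp_assoc, Functor.map_comp_assoc]
    refine congrArg _ (Good.unique hff h₂ ?_ ((hxW v).restrict q₁) ?_)
    · exact repWith_comp (repWith_map (inferInstanceAs (Etale (pullback.fst (g v).left (g v').left))))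
        (repWith_comp (repWith_map (hg v)) hp₀)
    · rw [← Functor.map_comp_assoc, hq, Functor.map_comp_assoc]
      exact (hxW v').restrict q₂
  have hs : ∀ v : V₀.left, ∃ v' w, (g v').left w = v := fun v => ⟨v, (hrest v).2.1⟩
  obtain ⟨x₀, hx₀, -⟩ := existsUnique_glue_etale g hs xW hcompat
  have hx₀G : Good s p₀ x₀ := by
    refine ⟨hom_ext_cover_etale g hs fun v => ?_, fun i => ?_⟩
    · rw [← Category.assoc, hx₀ v, (hxW v).1, Category.assoc]
    · refine hom_ext_yon fun T q => ?_
      obtain ⟨n, hn⟩ := (yon S).map_surjective (q ≫ pullback.fst p₀ (oh (c.ι.app i)))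
      let P : V₀.left → Over S := fun v => Over.mk (pullback.fst n.left (g v).left ≫ T.hom)
      let m : ∀ v, P v ⟶ T := fun v => Over.homMk (pullback.fst n.left (g v).left) rfl
      let m' : ∀ v, P v ⟶ W v := fun v => Over.homMk (pullback.snd n.left (g v).left) (by
        show _ ≫ (W v).hom = _ ≫ T.hom
        rw [← Over.w (g v), ← pullback.condition_assoc, Over.w])
      have hmm : ∀ v, m v ≫ n = m' v ≫ g v := fun v => Over.OverMorphism.ext pullback.condition
      have : ∀ v, Etale (m v).left := fun v => inferInstanceAs (Etale (pullback.fst n.left (g v).left))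
      refine hom_ext_cover_etale m (fun t => ?_) fun v => ?_
      · obtain ⟨v', w, hw⟩ := hs (n.left t)
        obtain ⟨z, hz, -⟩ := Scheme.Pullback.exists_preimage_pullback (f := n.left) (g := (g v').left) t w hw.symm
        exact ⟨v', z, hz⟩
      have hl : ((yon S).map (m' v) : (yon S).obj (P v) ⟶ _) ≫ (yon S).map (g v) ≫ p₀ =
          ((yon S).map (m v) ≫ q ≫ pullback.snd p₀ (oh (c.ι.app i))) ≫ oh (c.ι.app i) := by
        rw [Category.assoc, Category.assoc, ← pullback.condition, ← Functor.map_comp_assoc, ← hmm,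
          Functor.map_comp_assoc, hn, Category.assoc]
      have h' := congrArg (pullback.lift ((yon S).map (m' v)) ((yon S).map (m v) ≫ q ≫ pullback.snd _ _) hl ≫ ·)
        ((hxW v).2 i)
      simp only [pullback.lift_fst_assoc, pullback.lift_snd_assoc, Category.assoc] at h'
      rw [← h', ← Category.assoc q, ← hn, ← Functor.map_comp_assoc, hmm, Functor.map_comp_assoc, hx₀ v]
  obtain ⟨R, r₁, r₂, sq⟩ := exists_isPullback_of_representable (hC.representable_from_yon p₀) p₀
  have heq : (yon S).map r₁ ≫ x₀ = (yon S).map r₂ ≫ x₀ :=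
    Good.unique hff h₂ (repWith_comp (repWith_map (repWith_prop hp₀ sq.flip)) hp₀) (hx₀G.restrict r₁)
      (sq.w ▸ hx₀G.restrict r₂)
  obtain ⟨hcol⟩ := nonempty_isColimit_cofork p₀ sq
  let x := hcol.desc (Cofork.ofπ x₀ heq)
  have hx : p₀ ≫ x = x₀ := hcol.fac (Cofork.ofπ x₀ heq) WalkingParallelPair.one
  have hxB : x ≫ oq s.pt = oq c.pt := by rw [← cancel_epi p₀, ← Category.assoc, hx, hx₀G.1]
  refine ⟨mkOh x hxB, fun i => oh_ext ?_, fun y hy => oh_ext ?_⟩
  · show oh (c.ι.app i) ≫ x = oh (s.ι.app i)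
    have : Epi (pullback.snd p₀ (oh (c.ι.app i))) := epi_of_repWith _
      (repWith_of_isPullback (IsPullback.of_hasPullback _ _) hp₀) (repWith_of_isPullback (IsPullback.of_hasPullback _ _) hp₀s)
    rw [← cancel_epi (pullback.snd p₀ (oh (c.ι.app i))), ← pullback.condition_assoc, hx, hx₀G.2 i]
  · show oh y = x
    rw [← cancel_epi p₀, hx]
    refine Good.unique hff h₂ hp₀ ⟨by rw [Category.assoc, oh_w], fun i => ?_⟩ hx₀G
    rw [pullback.condition_assoc]
    exact congrArg (_ ≫ ·) (congrArg oh (hy i))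

end Groth.L23.EtColim
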