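import Groth.Agent.L23.EtaleLift

/-!
# A smooth model of a faithfully flat etale algebra
-/

universe u

open TensorProduct

namespace Groth.L23

variable {A B C : Type u} [CommRing A] [CommRing B] [CommRing C] [Algebra A B] [Algebra B C]
  [Algebra A C] [IsScalarTower A B C]

/-- A smooth algebra surjecting on `B` with a faithfully flat etale algebra lifting `C`. -/
theorem exists_smooth_model [Algebra.FiniteType A B] [Algebra.Etale B C] [Module.FaithfullyFlat B C] :
    ∃ (P C' : Type u) (_ : CommRing P) (_ : CommRing C') (_ : Algebra A P) (_ : Algebra P C')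
      (_ : Algebra A C') (_ : IsScalarTower A P C') (π : P →ₐ[A] B) (ψ : C' →ₐ[A] C),
      Algebra.Smooth A P ∧ Algebra.Etale P C' ∧ Module.FaithfullyFlat P C' ∧
      Function.Surjective π ∧ Function.Surjective ψ ∧
      (∀ p, ψ (algebraMap P C' p) = algebraMap B C (π p)) ∧
      RingHom.ker ψ = (RingHom.ker π).map (algebraMap P C') := by
  obtain ⟨n, f, hf⟩ := Algebra.FiniteType.iff_quotient_mvPolynomial''.mp (inferInstance : Algebra.FiniteType A B)
  let Pol := MvPolynomial (Fin n) A
  let _ : Algebra Pol B := f.toRingHom.toAlgebra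
  let _ : Algebra Pol C := ((algebraMap B C).comp f.toRingHom).toAlgebra
  have : IsScalarTower Pol B C := .of_algebraMap_eq' rfl
  have : IsScalarTower A Pol C := .of_algebraMap_eq fun a => by
    change _ = algebraMap B C (f (algebraMap A Pol a))
    rw [f.commutes, ← IsScalarTower.algebraMap_apply]
  obtain ⟨C₀, _, _, ψ₀, hC₀, hψs, hψk⟩ := exists_etale_lift (P := Pol) (B := B) (C := C) hf
  let I := RingHom.ker (algebraMap Pol B)
  let U := Set.range (PrimeSpectrum.comap (algebraMap Pol C₀))
  have hU : IsOpen U := PrimeSpectrum.isOpenMap_comap_of_hasGoingDown_of_finitePresentation.isOpen_range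
  obtain ⟨J, hJ⟩ := (PrimeSpectrum.isClosed_iff_zeroLocus_ideal Uᶜ).1 hU.isClosed_compl
  have hIJ : I ⊔ J = ⊤ := by
    by_contra hne
    obtain ⟨m, hm, hle⟩ := Ideal.exists_le_maximal _ hne
    have hb : (⟨m, hm.isPrime⟩ : PrimeSpectrum Pol) ∈ Set.range (PrimeSpectrum.comap (algebraMap Pol B)) := by
      rw [range_comap_of_surjective _ (algebraMap Pol B) hf]
      exact le_sup_left.trans hle
    obtain ⟨b, hb⟩ := hb
    obtain ⟨Q, hQ⟩ := PrimeSpectrum.comap_surjective_of_faithfullyFlat (B := C) b
    have hmem : (⟨m, hm.isPrime⟩ : PrimeSpectrum Pol) ∈ U :=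
      ⟨PrimeSpectrum.comap ψ₀.toRingHom Q, by
        rw [← PrimeSpectrum.comap_comp_apply,
          show ψ₀.toRingHom.comp (algebraMap Pol C₀) = algebraMap Pol C from ψ₀.comp_algebraMap,
          IsScalarTower.algebraMap_eq Pol B C, PrimeSpectrum.comap_comp_apply, hQ, hb]⟩
    have : (⟨m, hm.isPrime⟩ : PrimeSpectrum Pol) ∈ Uᶜ := by rw [hJ]; exact le_sup_right.trans hle
    exact this hmem
  obtain ⟨i, hi, j, hj, hij⟩ := Submodule.mem_sup.1 ((Ideal.eq_top_iff_one _).1 hIJ)
  have hfj : f j = 1 := by
    have := congrArg f hij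
    rw [map_add, map_one, show f i = 0 from hi, zero_add] at this
    exact this
  let P := Localization.Away j
  let π : P →ₐ[A] B := IsLocalization.liftAlgHom (M := Submonoid.powers j) (f := f)
    (fun ⟨y, k, hy⟩ => by subst hy; simp [hfj])
  have hπ : ∀ a, π (algebraMap Pol P a) = f a := fun a => IsLocalization.lift_eq _ a
  have : Algebra.Smooth A Pol := ⟨inferInstanceAs (Algebra.FormallySmooth A (MvPolynomial (Fin n) A)),
    inferInstanceAs (Algebra.FinitePresentation A (MvPolynomial (Fin n) A))⟩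
  have : Algebra.Smooth Pol P := .of_isLocalization_Away j
  let ι' : P →ₐ[Pol] C := IsLocalization.liftAlgHom (M := Submonoid.powers j) (f := Algebra.ofId Pol C)
    (fun ⟨y, k, hy⟩ => by
      subst hy
      change IsUnit (algebraMap B C (f (j ^ k)))
      simp [hfj])
  let ψ' : P ⊗[Pol] C₀ →ₐ[Pol] C := Algebra.TensorProduct.lift ι' ψ₀ (fun _ _ => Commute.all _ _)
  let ψ : P ⊗[Pol] C₀ →ₐ[A] C := ψ'.restrictScalars A
  have hι : ∀ p, ι' p = algebraMap B C (π p) := fun p => by
    obtain ⟨a, s, rfl⟩ := IsLocalization.exists_mk'_eq (Submonoid.powers j) p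
    have hs : f (s : Pol) = 1 := by
      obtain ⟨k, hk⟩ := s.2
      rw [← hk]; simp [hfj]
    have h1 : ι' (IsLocalization.mk' P a s) = algebraMap B C (f a) := by
      have := congrArg ι' (IsLocalization.mk'_spec P a s)
      rw [map_mul, AlgHom.commutes, AlgHom.commutes] at this
      change _ * algebraMap B C (f (s : Pol)) = algebraMap B C (f a) at this
      rwa [hs, map_one, mul_one] at this
    have h2 : π (IsLocalization.mk' P a s) = f a := by
      have := congrArg π (IsLocalization.mk'_spec P a s)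
      rwa [map_mul, hπ, hπ, hs, mul_one] at this
    rw [h1, h2]
  have hψp : ∀ p, ψ (algebraMap P (P ⊗[Pol] C₀) p) = algebraMap B C (π p) := fun p => by
    change ψ' (p ⊗ₜ 1) = _
    simp [ψ', hι]
  refine ⟨P, P ⊗[Pol] C₀, inferInstance, inferInstance, inferInstance, inferInstance, inferInstance,
    inferInstance, π, ψ, Algebra.Smooth.comp A Pol P, inferInstance, ?_, ?_, ?_, hψp, ?_⟩
  · refine faithfullyFlat_baseChange_of_range fun q => ?_
    by_contra hq
    have hq' : PrimeSpectrum.comap (algebraMap Pol P) q ∈ Uᶜ := hq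
    rw [hJ] at hq'
    exact q.isPrime.ne_top (Ideal.eq_top_of_isUnit_mem _ (hq' hj) (IsLocalization.Away.algebraMap_isUnit j))
  · exact fun b => by
      obtain ⟨a, rfl⟩ := hf b
      exact ⟨_, hπ a⟩
  · intro c
    obtain ⟨x, rfl⟩ := hψs c
    exact ⟨1 ⊗ₜ x, by simp [ψ, ψ']⟩
  · refine le_antisymm (fun z hz => ?_) (Ideal.map_le_iff_le_comap.2 fun p hp => ?_)
    · have key : ∀ z : P ⊗[Pol] C₀, ∃ (k : ℕ) (x : C₀), (j ^ k) • z = 1 ⊗ₜ x := by
        intro z
        induction z with
        | zero => exact ⟨0, 0, by simp⟩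
        | tmul p x =>
          obtain ⟨a, ⟨_, k, rfl⟩, rfl⟩ := IsLocalization.exists_mk'_eq (Submonoid.powers j) p
          refine ⟨k, a • x, ?_⟩
          rw [TensorProduct.smul_tmul', TensorProduct.tmul_smul, TensorProduct.smul_tmul']
          congr 1
          rw [Algebra.smul_def, Algebra.smul_def]
          exact (IsLocalization.mk'_spec' P a _).trans (mul_one _).symm
        | add x y hx hy =>
          obtain ⟨k, a, ha⟩ := hx; obtain ⟨l, b, hb⟩ := hy
          refine ⟨k + l, j ^ l • a + j ^ k • b, ?_⟩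
          rw [smul_add, pow_add, mul_comm, mul_smul, ha, mul_comm, mul_smul, hb, tmul_add,
            tmul_smul, tmul_smul]
      obtain ⟨k, x, hx⟩ := key z
      have hu : IsUnit (algebraMap Pol (P ⊗[Pol] C₀) (j ^ k)) := by
        rw [IsScalarTower.algebraMap_apply Pol P (P ⊗[Pol] C₀), map_pow, map_pow]
        exact ((IsLocalization.Away.algebraMap_isUnit (S := P) j).map _).pow k
      refine (Ideal.unit_mul_mem_iff_mem _ hu).1 ?_
      rw [← Algebra.smul_def, hx]
      have hx' : x ∈ RingHom.ker ψ₀ := by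
        have h0 : ψ' ((j ^ k) • z) = 0 := by
          rw [map_smul, show ψ' z = 0 from hz, smul_zero]
        rw [hx] at h0
        simpa [ψ'] using h0
      rw [hψk] at hx'
      have hle : (RingHom.ker (algebraMap Pol B)).map (algebraMap Pol C₀) ≤
          ((RingHom.ker π).map (algebraMap P (P ⊗[Pol] C₀))).comap
            (Algebra.TensorProduct.includeRight (R := Pol) (A := P) (B := C₀)).toRingHom := by
        refine Ideal.map_le_iff_le_comap.2 fun r hr => ?_
        simp only [Ideal.mem_comap, AlgHom.toRingHom_eq_coe, RingHom.coe_coe, AlgHom.commutes]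
        rw [IsScalarTower.algebraMap_apply Pol P (P ⊗[Pol] C₀)]
        exact Ideal.mem_map_of_mem _ (by rw [RingHom.mem_ker, hπ]; exact hr)
      exact hle hx'
    · rw [Ideal.mem_comap, RingHom.mem_ker, hψp, RingHom.mem_ker.1 hp, map_zero]

end Groth.L23
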