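import Groth.Agent.L05.ModelFG
import Groth.Agent.L02.ConsP.PairDescends
import Groth.Agent.L00.ProperNorm
import Groth.Agent.L23.HFlat.Proper
import Groth.Agent.L23.Frob.Algebra
import Groth.Agent.L23.VRefine.Refine
import Groth.Agent.S8977
import Mathlib.RingTheory.FiniteStability

/-!
# Finite type descends along universally submersive morphisms of Noetherian schemes
-/

set_option autoImplicit false
set_option linter.style.haveILetI false
set_option linter.unusedSectionVars false
set_option backward.isDefEq.respectTransparency.types false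

universe u

open CategoryTheory CategoryTheory.Limits AlgebraicGeometry TopologicalSpace
open scoped TensorProduct

noncomputable section

namespace Groth.L23.FTDesc

open Groth.L23.HFlat (sMap sMap_comp exists_chart)

theorem lft_sMap_iff {A B : Type u} [CommRing A] [CommRing B] (φ : A →+* B) :
    LocallyOfFiniteType (sMap φ) ↔ φ.FiniteType :=
  HasRingHomProperty.Spec_iff (P := @LocallyOfFiniteType)

theorem exists_subalgebra_surjective {R A A₀ C : Type u} [CommRing R] [CommRing A] [CommRing A₀] [CommRing C]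
    [Algebra R A] [Algebra A₀ A] [Algebra A₀ C]
    (h : ((algebraMap A (A ⊗[A₀] C)).comp (algebraMap R A)).FiniteType) :
    ∃ T : Finset A, ∀ (A₁ : Subalgebra R A), (∀ a ∈ T, a ∈ A₁) → ∀ [Algebra A₀ A₁] (φ : ↥A₁ →ₐ[A₀] A),
      (∀ a, φ a = a) → Function.Surjective (Algebra.TensorProduct.map φ (AlgHom.id A₀ C)) := by
  classical
  letI := ((algebraMap A (A ⊗[A₀] C)).comp (algebraMap R A)).toAlgebra
  haveI : Algebra.FiniteType R (A ⊗[A₀] C) := h
  obtain ⟨G, hG⟩ := ‹Algebra.FiniteType R (A ⊗[A₀] C)›.out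
  choose s hs using fun x : A ⊗[A₀] C => TensorProduct.exists_finset x
  refine ⟨(G.biUnion s).image Prod.fst, fun A₁ hA₁ _ φ hφ => ?_⟩
  let θ := Algebra.TensorProduct.map φ (AlgHom.id A₀ C)
  let V : Subalgebra R (A ⊗[A₀] C) :=
    { toSubsemiring := θ.toRingHom.range.toSubsemiring
      algebraMap_mem' := fun r => ⟨(⟨algebraMap R A r, A₁.algebraMap_mem r⟩ : A₁) ⊗ₜ 1, by
        show θ (_ ⊗ₜ 1) = _
        rw [Algebra.TensorProduct.map_tmul, hφ, map_one]
        rfl⟩ }
  have hV : V = ⊤ := by
    rw [eq_top_iff, ← hG, Algebra.adjoin_le_iff]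
    intro x hx
    rw [hs x]
    refine sum_mem fun p hp => ?_
    refine ⟨(⟨p.1, hA₁ _ (Finset.mem_image_of_mem _ (Finset.mem_biUnion.mpr ⟨x, hx, hp⟩))⟩ : A₁) ⊗ₜ p.2, ?_⟩
    show θ (_ ⊗ₜ _) = _
    rw [Algebra.TensorProduct.map_tmul, hφ]
    rfl
  intro x
  exact (hV.ge (Algebra.mem_top (R := R) (x := x)) : x ∈ V)

theorem mem_of_mem_adjoin_int {R A : Type u} [CommRing R] [CommRing A] [Algebra R A] (S : Subalgebra R A)
    {X : Set A} (h : X ⊆ S) {a : A} (ha : a ∈ Algebra.adjoin ℤ X) : a ∈ S := by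
  induction ha using Algebra.adjoin_induction with
  | mem x hx => exact h hx
  | algebraMap r => rw [eq_intCast, ← map_intCast (algebraMap R A) r]; exact S.algebraMap_mem (r : R)
  | add x y _ _ hx hy => exact add_mem hx hy
  | mul x y _ _ hx hy => exact mul_mem hx hy

/-- The core: a reduced Noetherian algebra with a proper surjective scheme of finite type over the base. -/
theorem finiteType_of_proper {R A : Type u} [CommRing R] [IsNoetherianRing R] [CommRing A] [IsNoetherianRing A]
    [Algebra R A] [IsReduced A] {P : Scheme.{u}} (h : P ⟶ Spec (CommRingCat.of A)) [IsProper h] [Surjective h]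
    [LocallyOfFiniteType (h ≫ sMap (algebraMap R A))] : Algebra.FiniteType R A := by
  classical
  haveI : IsLocallyNoetherian (Spec (CommRingCat.of A)) := by
    haveI : IsNoetherianRing (CommRingCat.of A) := ‹IsNoetherianRing A›
    infer_instance
  haveI : LocallyOfFinitePresentation h := LocallyOfFinitePresentation.iff_locallyOfFiniteType.2 inferInstance
  obtain ⟨A₀, hA₀, P₀, f₀, q₀, hp₀, -, -, hsq⟩ :=
    Groth.L05.ModelFG.exists_model A _root_.L02.ConsP.descends_isProper h ‹IsProper h›
  haveI := hp₀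
  let s := sMap (algebraMap A₀ A)
  let h' : pullback f₀ s ⟶ Spec (CommRingCat.of A) := pullback.snd f₀ s
  have hh' : hsq.isoPullback.hom ≫ h' = h := hsq.isoPullback_hom_snd
  haveI : Surjective h' := by
    haveI : Surjective (hsq.isoPullback.hom ≫ h') := by rw [hh']; infer_instance
    exact Surjective.of_comp hsq.isoPullback.hom h'
  have hft : LocallyOfFiniteType (h' ≫ sMap (algebraMap R A)) := by
    have e : h' ≫ sMap (algebraMap R A) = hsq.isoPullback.inv ≫ h ≫ sMap (algebraMap R A) := by
      have e0 := congrArg (fun k => hsq.isoPullback.inv ≫ k ≫ sMap (algebraMap R A)) hh'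
      simp only [Category.assoc, Iso.inv_hom_id_assoc] at e0
      exact e0
    rw [e]
    infer_instance
  -- charts of the model
  haveI : CompactSpace P₀ := QuasiCompact.compactSpace_of_compactSpace f₀
  choose U hU hxU _ using fun x : P₀ =>
    exists_isAffineOpen_mem_and_subset (U := (⊤ : P₀.Opens)) (x := x) trivial
  obtain ⟨t, ht⟩ := isCompact_univ.elim_finite_subcover (fun x => (U x : Set P₀)) (fun x => (U x).2)
    (fun x _ => Set.mem_iUnion.mpr ⟨x, hxU x⟩)
  let C : t → Type u := fun i => Γ(P₀, U i.1)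
  let j : ∀ i : t, Spec (CommRingCat.of (C i)) ⟶ P₀ := fun i => (hU i.1).fromSpec
  letI alg : ∀ i, Algebra A₀ (C i) := fun i => (Spec.preimage (j i ≫ f₀)).hom.toAlgebra
  have hj : ∀ i, j i ≫ f₀ = sMap (algebraMap A₀ (C i)) := fun i => (Spec.map_preimage _).symm
  choose m hm hmπ hmq hmr using fun i => Groth.L23.HFlat.exists_chart (A₁ := A) f₀ (j i) (hj i)
  have hT : ∀ i, ∃ T : Finset A, ∀ (A₁ : Subalgebra R A), (∀ a ∈ T, a ∈ A₁) → ∀ [Algebra A₀ A₁] (φ : ↥A₁ →ₐ[A₀] A),
      (∀ a, φ a = a) → Function.Surjective (Algebra.TensorProduct.map φ (AlgHom.id A₀ (C i))) := fun i => by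
    refine exists_subalgebra_surjective ((lft_sMap_iff _).1 ?_)
    rw [← sMap_comp, ← hmπ i, Category.assoc]
    haveI := hm i
    infer_instance
  choose T hT using hT
  obtain ⟨T₀, hT₀⟩ := hA₀
  let A₁ : Subalgebra R A := Algebra.adjoin R ↑(T₀ ∪ Finset.univ.biUnion T)
  haveI : Algebra.FiniteType R A₁ := (Subalgebra.fg_iff_finiteType _).mp (Subalgebra.fg_adjoin_finset _)
  haveI : IsNoetherianRing A₁ := Algebra.FiniteType.isNoetherianRing R A₁
  have hle : ∀ a ∈ A₀, a ∈ A₁ := by
    intro a ha
    rw [← hT₀] at ha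
    exact mem_of_mem_adjoin_int A₁
      (fun x hx => Algebra.subset_adjoin (Finset.mem_coe.mpr (Finset.mem_union_left _ hx))) ha
  let incl : A₀ →+* A₁ := (algebraMap A₀ A).codRestrict A₁ fun a => hle a a.2
  letI : Algebra A₀ A₁ := incl.toAlgebra
  let φ : ↥A₁ →ₐ[A₀] A := ⟨A₁.val.toRingHom, fun a => rfl⟩
  let s₁ := sMap (algebraMap A₀ A₁)
  let π : Spec (CommRingCat.of A) ⟶ Spec (CommRingCat.of A₁) := sMap φ.toRingHom
  have hπ : π ≫ s₁ = s := by rw [sMap_comp]; rfl
  let n : pullback f₀ s ⟶ pullback f₀ s₁ :=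
    pullback.lift (pullback.fst _ _) (pullback.snd _ _ ≫ π) (by rw [pullback.condition, Category.assoc, hπ])
  choose m₁ hm₁ hm₁π hm₁q hm₁r using fun i => Groth.L23.HFlat.exists_chart (A₁ := A₁) f₀ (j i) (hj i)
  haveI : ∀ i, IsOpenImmersion (m₁ i) := hm₁
  haveI : IsClosedImmersion n := by
    let 𝒰 : (pullback f₀ s₁).OpenCover := Scheme.Cover.mkOfCovers t (fun i => Spec (CommRingCat.of (A₁ ⊗[A₀] C i))) m₁
      (fun z => by
        obtain ⟨i, hi, hzi⟩ := Set.mem_iUnion₂.mp (ht (Set.mem_univ (pullback.fst f₀ s₁ z)))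
        have hz : z ∈ Set.range (m₁ ⟨i, hi⟩) := by
          rw [hm₁r, Set.mem_preimage, (hU i).range_fromSpec]
          exact hzi
        exact ⟨⟨i, hi⟩, hz.choose, hz.choose_spec⟩) hm₁
    refine (IsZariskiLocalAtTarget.iff_of_openCover (P := @IsClosedImmersion) 𝒰).2 fun i => ?_
    show IsClosedImmersion (pullback.snd n (m₁ i))
    let θ : A₁ ⊗[A₀] C i →+* A ⊗[A₀] C i := (Algebra.TensorProduct.map φ (AlgHom.id A₀ (C i))).toRingHom
    have hθ : Function.Surjective θ := hT i A₁ (fun a ha => Algebra.subset_adjoin (Finset.mem_coe.mpr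
      (Finset.mem_union_right _ (Finset.mem_biUnion.mpr ⟨i, Finset.mem_univ _, ha⟩)))) φ (fun _ => rfl)
    haveI := hm i
    have hsq' : IsPullback (m i) (sMap θ) n (m₁ i) := by
      refine (IsOpenImmersion.isPullback (sMap θ) (m i) (m₁ i) n ?_ ?_).flip
      · refine pullback.hom_ext ?_ ?_
        · rw [Category.assoc, pullback.lift_fst, hmq, Category.assoc, hm₁q, ← Category.assoc, sMap_comp]
          congr 1
        · rw [Category.assoc, pullback.lift_snd, ← Category.assoc, hmπ, Category.assoc, hm₁π, sMap_comp, sMap_comp]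
          refine congrArg sMap (RingHom.ext fun x => ?_)
          exact (Algebra.TensorProduct.map_tmul φ (AlgHom.id A₀ (C i)) x 1).symm
      · refine Opens.ext ?_
        first
          | show Set.range (m i) = n ⁻¹' Set.range (m₁ i)
          | show n ⁻¹' Set.range (m₁ i) = Set.range (m i)
        rw [hmr, hm₁r, ← Set.preimage_comp]
        congr 1
        funext z
        show pullback.fst f₀ s₁ (n z) = pullback.fst f₀ s z
        rw [← Scheme.Hom.comp_apply, pullback.lift_fst]
    rw [← hsq'.isoPullback_inv_snd]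
    haveI : IsClosedImmersion (sMap θ) := IsClosedImmersion.spec_of_surjective _ hθ
    infer_instance
  let g₁ : pullback f₀ s ⟶ Spec (CommRingCat.of A₁) := h' ≫ π
  haveI : IsProper g₁ := by
    have e : g₁ = n ≫ pullback.snd f₀ s₁ := (pullback.lift_snd _ _ _).symm
    rw [e]
    infer_instance
  have hfin : (Groth.L00.ProperNorm.glob g₁).Finite := Groth.L00.ProperNorm.finite_toGlobal g₁
  have hinj : Function.Injective (Groth.L00.ProperNorm.glob h') := by
    haveI : CompactSpace ↥(pullback f₀ s) := QuasiCompact.compactSpace_of_compactSpace h'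
    rw [injective_iff_map_eq_zero]
    intro x hx
    exact (Groth.L23.Frob.isNilpotent_of_appTop h' x ⟨1, by rw [pow_one]; exact hx⟩).eq_zero
  letI := (Groth.L00.ProperNorm.glob g₁).toAlgebra
  have hcomm : (Groth.L00.ProperNorm.glob h').comp φ.toRingHom = Groth.L00.ProperNorm.glob g₁ := by
    show _ = ((h' ≫ π).appTop).hom.comp _
    rw [Scheme.Hom.comp_appTop]
    ext a
    exact congrArg h'.appTop
      (ConcreteCategory.congr_hom (Scheme.ΓSpecIso_inv_naturality (CommRingCat.ofHom φ.toRingHom)) a)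
  let L : A →ₗ[A₁] Γ(pullback f₀ s, ⊤) :=
    { toFun := Groth.L00.ProperNorm.glob h'
      map_add' := map_add _
      map_smul' := fun c a => by
        rw [Algebra.smul_def, map_mul, RingHom.id_apply, Algebra.smul_def]
        exact congrArg (· * _) (RingHom.congr_fun hcomm c) }
  haveI : Module.Finite A₁ Γ(pullback f₀ s, ⊤) := hfin
  haveI : IsNoetherian A₁ Γ(pullback f₀ s, ⊤) := isNoetherian_of_isNoetherianRing_of_finite _ _
  haveI : Module.Finite A₁ A := Module.Finite.of_injective L hinj
  exact Algebra.FiniteType.trans (R := R) (S := A₁) (A := A) inferInstance inferInstance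

theorem lft_of_comp {X Y Z : Scheme.{u}} (f : X ⟶ Y) (g : Y ⟶ Z) [LocallyOfFiniteType (f ≫ g)] :
    LocallyOfFiniteType f :=
  locallyOfFiniteType_of_comp f g

/-- Finite type modulo a nilpotent finitely generated ideal gives finite type. -/
theorem finiteType_of_quotient {R A : Type u} [CommRing R] [CommRing A] [Algebra R A] (N : Ideal A) (hN : N.FG)
    (hnil : IsNilpotent N) (h : Algebra.FiniteType R (A ⧸ N)) : Algebra.FiniteType R A := by
  classical
  obtain ⟨G, hG⟩ := h.out
  obtain ⟨S, hS⟩ := hN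
  choose r hr using Ideal.Quotient.mk_surjective (I := N)
  let A₁ : Subalgebra R A := Algebra.adjoin R ↑(G.image r ∪ S)
  refine ⟨⟨G.image r ∪ S, ?_⟩⟩
  rw [eq_top_iff]
  intro x _
  have hlift : ∀ x : A, ∃ a ∈ A₁, x - a ∈ N := by
    intro x
    have hx : Ideal.Quotient.mkₐ R N x ∈ A₁.map (Ideal.Quotient.mkₐ R N) := by
      suffices hle : ⊤ ≤ A₁.map (Ideal.Quotient.mkₐ R N) from hle trivial
      rw [← hG, Algebra.adjoin_le_iff]
      intro y hy
      exact ⟨r y, Algebra.subset_adjoin (Finset.mem_coe.mpr (Finset.mem_union_left _ (Finset.mem_image_of_mem _ hy))), hr y⟩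
    obtain ⟨a, ha, hax⟩ := hx
    exact ⟨a, ha, Ideal.Quotient.eq.mp hax.symm⟩
  have key : ∀ k, ∀ x : A, ∃ a ∈ A₁, x - a ∈ N ^ k := by
    intro k
    induction k with
    | zero => exact fun x => ⟨0, zero_mem _, by simp⟩
    | succ k ih =>
      intro x
      obtain ⟨a, ha, hxa⟩ := hlift x
      have hsp : x - a ∈ Submodule.span A (S : Set A) := by rw [show Submodule.span A (S : Set A) = N from hS]; exact hxa
      obtain ⟨c, hc⟩ := Submodule.mem_span_finset.mp hsp
      choose b hb hcb using fun y => ih (c y)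
      refine ⟨a + ∑ y ∈ S, b y * y, add_mem ha (sum_mem fun y hy => mul_mem (hb y)
        (Algebra.subset_adjoin (Finset.mem_coe.mpr (Finset.mem_union_right _ hy)))), ?_⟩
      rw [← sub_sub, ← hc.2, ← Finset.sum_sub_distrib]
      refine sum_mem fun y hy => ?_
      rw [smul_eq_mul, ← sub_mul, pow_succ]
      exact Ideal.mul_mem_mul (hcb y) (hS ▸ Submodule.subset_span hy)
  obtain ⟨m, hm⟩ := hnil
  obtain ⟨a, ha, hxa⟩ := key m x
  rw [hm, Ideal.zero_eq_bot, Ideal.mem_bot, sub_eq_zero] at hxa
  rw [hxa]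
  exact ha

/-- The affine case. -/
theorem finiteType_of_univSubmersive {R A : Type u} [CommRing R] [IsNoetherianRing R] [CommRing A] [IsNoetherianRing A]
    [Algebra R A] {X' : Scheme.{u}} [IsNoetherian X'] (f : X' ⟶ Spec (CommRingCat.of A)) (hf : SGA1.UnivSubmersive f)
    [LocallyOfFiniteType (f ≫ sMap (algebraMap R A))] : Algebra.FiniteType R A := by
  let N := nilradical A
  refine finiteType_of_quotient N (IsNoetherian.noetherian _) (IsNoetherianRing.isNilpotent_nilradical A) ?_
  haveI : IsReduced (A ⧸ N) := (Ideal.isRadical_iff_quotient_reduced _).mp (Ideal.radical_isRadical (⊥ : Ideal A))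
  let i := sMap (Ideal.Quotient.mk N)
  haveI : IsClosedImmersion i := IsClosedImmersion.spec_of_surjective _ Ideal.Quotient.mk_surjective
  let f' : pullback f i ⟶ Spec (CommRingCat.of (A ⧸ N)) := pullback.snd f i
  have hf' : SGA1.UnivSubmersive f' :=
    MorphismProperty.IsStableUnderBaseChange.of_isPullback (P := SGA1.UnivSubmersive)
      (IsPullback.of_hasPullback f i) hf
  haveI : IsLocallyNoetherian (Spec (CommRingCat.of (A ⧸ N))) := by
    haveI : IsNoetherianRing (CommRingCat.of (A ⧸ N)) := inferInstanceAs (IsNoetherianRing (A ⧸ N))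
    infer_instance
  haveI : IsNoetherian (Spec (CommRingCat.of (A ⧸ N))) := { }
  have hlf : LocallyOfFiniteType (f' ≫ sMap (algebraMap R (A ⧸ N))) := by
    have e : f' ≫ sMap (algebraMap R (A ⧸ N)) = pullback.fst f i ≫ f ≫ sMap (algebraMap R A) := by
      rw [pullback.condition_assoc, sMap_comp]
    rw [e]
    infer_instance
  haveI : LocallyOfFiniteType f' := Groth.L23.FTDesc.lft_of_comp f' (sMap (algebraMap R (A ⧸ N)))
  haveI : CompactSpace ↥(pullback f i) := QuasiCompact.compactSpace_of_compactSpace (pullback.fst f i)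
  haveI : QuasiCompact f' := inferInstance
  let E : PreZeroHypercover.{u} (Spec (CommRingCat.of (A ⧸ N))) := PreZeroHypercover.singleton f'
  haveI : Finite E.I₀ := inferInstanceAs (Finite PUnit)
  haveI : ∀ k, LocallyOfFiniteType (E.f k) := fun _ => ‹LocallyOfFiniteType f'›
  haveI : ∀ k, QuasiCompact (E.f k) := fun _ => ‹QuasiCompact f'›
  have hE : HTop.IsHCover E := by
    refine (Groth.Agent.S8977.result E).1 ?_
    let e : (∐ E.X) ≅ pullback f i := (coproductUniqueIso _ : (∐ E.X) ≅ E.X default)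
    have he : Sigma.desc E.f = e.hom ≫ f' := by
      refine Sigma.hom_ext _ _ fun k => ?_
      obtain ⟨⟩ := k
      rw [Sigma.ι_desc, ← Category.assoc]
      show f' = (Sigma.ι E.X PUnit.unit ≫ e.hom) ≫ f'
      have h1 : Sigma.ι E.X default ≫ e.hom = 𝟙 _ :=
        IsColimit.comp_coconePointUniqueUpToIso_hom (colimit.isColimit _) _ (Discrete.mk default)
      exact ((congrArg (· ≫ f') h1).trans (Category.id_comp f')).symm
    rw [he]
    exact (MorphismProperty.cancel_left_of_respectsIso SGA1.UnivSubmersive e.hom f').2 hf'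
  obtain ⟨P, g, hgp, hgs, -, hP⟩ := Groth.L23.VRefine.exists_proper_refining E hE.1 hE.2
  haveI := hgp
  haveI := hgs
  haveI : LocallyOfFiniteType (g ≫ sMap (algebraMap R (A ⧸ N))) := by
    choose U _ hxU idx k hk using hP
    refine IsZariskiLocalAtSource.of_iSup_eq_top (P := @LocallyOfFiniteType) U
      (eq_top_iff.2 fun y _ => Opens.mem_iSup.2 ⟨y, hxU y⟩) fun y => ?_
    rw [← Category.assoc, ← hk y, Category.assoc]
    haveI : LocallyOfFiniteType (k y ≫ f') := by
      have : LocallyOfFiniteType ((U y).ι ≫ g) := inferInstance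
      rwa [← hk y] at this
    haveI : LocallyOfFiniteType (k y) := Groth.L23.FTDesc.lft_of_comp (k y) f'
    exact MorphismProperty.comp_mem @LocallyOfFiniteType (k y) (f' ≫ sMap (algebraMap R (A ⧸ N))) inferInstance hlf
  exact finiteType_of_proper g

/-- Finite type descends along universally submersive morphisms. -/
theorem locallyOfFiniteType {X' X Y : Scheme.{u}} [IsNoetherian X'] [IsNoetherian X] [IsNoetherian Y]
    (f : X' ⟶ X) (hf : SGA1.UnivSubmersive f) (g : X ⟶ Y) [LocallyOfFiniteType (f ≫ g)] :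
    LocallyOfFiniteType g := by
  rw [HasRingHomProperty.iff_appLE (P := @LocallyOfFiniteType)]
  intro V U e
  letI : Algebra Γ(Y, V.1) Γ(X, U.1) := (g.appLE V.1 U.1 e).hom.toAlgebra
  haveI : IsNoetherianRing Γ(X, U.1) := IsLocallyNoetherian.component_noetherian U
  haveI : IsNoetherianRing Γ(Y, V.1) := IsLocallyNoetherian.component_noetherian V
  let jU := U.2.fromSpec
  let jV := V.2.fromSpec
  let f' : pullback f jU ⟶ Spec (CommRingCat.of Γ(X, U.1)) := pullback.snd f jU
  have hf' : SGA1.UnivSubmersive f' :=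
    MorphismProperty.IsStableUnderBaseChange.of_isPullback (P := SGA1.UnivSubmersive)
      (IsPullback.of_hasPullback f jU) hf
  haveI : CompactSpace ↥(pullback f jU) := QuasiCompact.compactSpace_of_compactSpace (pullback.fst f jU)
  haveI : IsLocallyNoetherian (pullback f jU) := LocallyOfFiniteType.isLocallyNoetherian (pullback.fst f jU)
  haveI : IsNoetherian (pullback f jU) := { }
  haveI : LocallyOfFiniteType (f' ≫ sMap (algebraMap Γ(Y, V.1) Γ(X, U.1))) := by
    haveI : LocallyOfFiniteType ((f' ≫ sMap (algebraMap Γ(Y, V.1) Γ(X, U.1))) ≫ jV) := by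
      have e2 : (f' ≫ sMap (algebraMap Γ(Y, V.1) Γ(X, U.1))) ≫ jV = pullback.fst f jU ≫ f ≫ g := by
        rw [pullback.condition_assoc, Category.assoc]
        congr 1
        exact IsAffineOpen.SpecMap_appLE_fromSpec g V.2 U.2 e
      rw [e2]
      infer_instance
    exact Groth.L23.FTDesc.lft_of_comp _ jV
  exact finiteType_of_univSubmersive f' hf'

end Groth.L23.FTDesc

end
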