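import Groth.Agent.L23.FlatQuotPt
import Groth.Agent.L23.DimFunDesc
import Groth.Agent.L23.QFLocus

/-!
# The schematic locus of the target of a finite locally free morphism
-/

universe u

open CategoryTheory CategoryTheory.Limits AlgebraicGeometry Opposite AlgSp Topology Groth.L23.SL

set_option backward.isDefEq.respectTransparency.types false
set_option linter.style.haveILetI false

namespace Groth.L23.AQ

variable {S : Scheme.{u}} {X Y : Sp S}

theorem schemePt_iff (hY : IsAlgSpace Y) {f : X ⟶ Y} (hf : IsFinLocFreeMor f)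
    (hs : RepWith @Surjective f) (y : Points Y) :
    SchemePt y ↔ ∃ (U : Over S) (a : (yon S).obj U ⟶ X), IsAffine U.left ∧ RepWith @IsOpenImmersion a ∧
      Points.map f ⁻¹' {y} ⊆ Set.range (Points.ofPt a) := by
  have hfin : RepWith @IsFinite f := repWith_mono (fun _ h => h.1) hf
  constructor
  · rintro ⟨A, c, z, hc, rfl⟩
    obtain ⟨_, ⟨B, hB, rfl⟩, hzB, -⟩ :=
      A.left.isBasis_affineOpens.exists_subset_of_mem_open (Set.mem_univ z) isOpen_univ
    change A.left.Opens at B
    let Bo : Over S := Over.mk (B.ι ≫ A.hom)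
    let g : Bo ⟶ A := Over.homMk B.ι
    let b := (yon S).map g ≫ c
    have hb : RepWith @IsOpenImmersion b :=
      repWith_comp (repWith_map (show IsOpenImmersion g.left from inferInstanceAs (IsOpenImmersion B.ι))) hc
    have sq := hf.rep.isPullback b
    have : IsFinite (hf.rep.snd b).left := repWith_prop hfin sq
    haveI : IsAffine Bo.left := hB
    refine ⟨_, hf.rep.fst b, isAffine_of_isAffineHom (hf.rep.snd b).left, repWith_of_isPullback sq.flip hb, ?_⟩
    intro x hx
    obtain ⟨w, hw, -⟩ := exists_point_of_isPullback sq (x := x) (u := (⟨z, hzB⟩ : B))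
      (hx.trans (by rw [ofPt_comp]; rfl))
    exact ⟨w, hw⟩
  · rintro ⟨U, a, hU, ha, hsub⟩
    have hcl : IsClosedMap (Points.map f) := DimFun.isClosedMap_of_finite (isFiniteMor_iff.2 hfin)
    have hao : IsOpen (Set.range (Points.ofPt a)) :=
      (isOpenMap_ofPt (repWith_mono (fun φ (_ : IsOpenImmersion φ) => inferInstanceAs (Etale φ)) ha)).isOpen_range
    let V : TopologicalSpace.Opens (Points Y) := ⟨_, (hcl _ hao.isClosed_compl).isOpen_compl⟩
    have hyV : y ∈ V := by
      rintro ⟨x, hx, he⟩
      exact hx (hsub he)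
    obtain ⟨fst, sqU⟩ := isPullback_openSub V (a ≫ f)
    let U' : Over S := Over.mk ((openPre V (a ≫ f)).ι ≫ U.hom)
    let i : U' ⟶ U := Over.homMk (openPre V (a ≫ f)).ι
    haveI := mono_of_repWith_openImmersion ha
    haveI := mono_openSubι (W := V)
    have hj := repWith_openSubι V
    have sqP : IsPullback ((yon S).map i ≫ a) fst f (openSubι V) := by
      refine IsPullback.mk' (by rw [Category.assoc]; exact sqU.w.symm) (fun T φ φ' h1 h2 => ?_) fun T g h e => ?_
      · exact sqU.hom_ext h2 ((cancel_mono a).1 (by rw [Category.assoc, Category.assoc]; exact h1))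
      · obtain ⟨k, hk⟩ := (exists_factor_iff ha g).2 (by
          rintro _ ⟨t, rfl⟩
          rw [range_map_yon]
          by_contra hc
          have : Points.map f (Points.map g t) ∈ (V : Set (Points Y)) := by
            rw [← range_openSubι V, ← Points.map_comp, e, Points.map_comp]
            exact ⟨_, rfl⟩
          exact this ⟨_, hc, rfl⟩)
        refine ⟨sqU.lift h k (by rw [← Category.assoc, hk]; exact e.symm), ?_, sqU.lift_fst _ _ _⟩
        rw [← Category.assoc]
        erw [sqU.lift_snd]
        exact hk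
    have hp : RepWith finLocFree fst := repWith_of_isPullback sqP hf
    have hps : RepWith @Surjective fst := repWith_of_isPullback sqP hs
    have hV := isAlgSpace_openSub V hY
    have hp1 : RepWith @IsFinite fst := repWith_mono (fun _ h => h.1) hp
    obtain ⟨y', hy'⟩ : y ∈ Set.range (Points.map (openSubι V)) := (range_openSubι V).ge hyV
    obtain ⟨u', hu'⟩ := surjective_ofPt hps y'
    obtain ⟨R, t, s, sq⟩ := exists_isPullback_of_representable (hV.representable_from_yon fst) fst
    have : IsFinite t.left := repWith_prop hp1 sq.flip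
    have hT : {v | Points.ofPt fst v = Points.ofPt fst u'}.Finite := by
      refine ((t.left.finite_preimage_singleton u').image s.left).subset fun v hv => ?_
      obtain ⟨r, hr, hr'⟩ := (ofPt_eq_ofPt_iff sq u' v).1 (show Points.ofPt fst v = _ from hv).symm
      exact ⟨r, hr, hr'⟩
    let O := openPre V (a ≫ f)
    obtain ⟨r, hr1, hr2⟩ := Groth.L24.DimOne.exists_basicOpen_finite (isAffineOpen_top U.left)
      (hT.image O.ι) ⟨_, ⟨u', rfl, rfl⟩⟩ O (fun _ _ => trivial) (by rintro _ ⟨v, -, rfl⟩; exact v.2)
    have hW : IsAffineOpen (O.ι ⁻¹ᵁ U.left.basicOpen r) :=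
      ((isAffineOpen_top U.left).basicOpen r).preimage_of_isOpenImmersion O.ι (by rw [Scheme.Opens.opensRange_ι]; exact hr2)
    have := schemePt_of_finite_flat hV hp1 (repWith_mono (fun _ h => h.2.1) hp)
      (repWith_mono (fun _ h => h.2.2) hp) hps u' (O.ι ⁻¹ᵁ U.left.basicOpen r) hW
      (fun v hv => hr1 ⟨v, hv, rfl⟩)
    rw [← hy', ← hu']
    exact this.map hj

end Groth.L23.AQ
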