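import Groth.Agent.L23.LocalDimEtale
import Mathlib.AlgebraicGeometry.AlgClosed.Basic
import Mathlib.AlgebraicGeometry.Artinian
import Mathlib.AlgebraicGeometry.Morphisms.UniversallyOpen
import Mathlib.AlgebraicGeometry.Morphisms.QuasiFinite
import Mathlib.AlgebraicGeometry.ValuativeCriterion
import Mathlib.RingTheory.Valuation.LocalSubring
import Mathlib.FieldTheory.IsAlgClosed.AlgebraicClosure

/-!
# Fibres of etale separated morphisms are bounded by generic fibres
-/

universe u

open CategoryTheory CategoryTheory.Limits AlgebraicGeometry IsLocalRing TopologicalSpace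

set_option backward.isDefEq.respectTransparency.types false
set_option linter.style.haveILetI false

namespace Groth.L23.FibreBound

/-- Specializations over the closed point of a valuation ring of a rational generic point are unique. -/
theorem eq_of_specializes {V K : Type u} [CommRing V] [IsDomain V] [ValuationRing V] [Field K] [Algebra V K]
    [IsFractionRing V K] {Q : Scheme.{u}} (h : Q ⟶ Spec (CommRingCat.of V)) [IsSeparated h]
    (z : Spec (CommRingCat.of K) ⟶ Q) (hz : z ≫ h = Spec.map (CommRingCat.ofHom (algebraMap V K)))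
    {q₁ q₂ : Q} (h₁ : z (closedPoint K) ⤳ q₁) (e₁ : h q₁ = closedPoint V)
    (h₂ : z (closedPoint K) ⤳ q₂) (e₂ : h q₂ = closedPoint V) : q₁ = q₂ := by
  have lift : ∀ q : Q, z (closedPoint K) ⤳ q → h q = closedPoint V →
      ∃ g : Spec (CommRingCat.of V) ⟶ Q, g (closedPoint V) = q ∧ g ≫ h = 𝟙 _ ∧
        Spec.map (CommRingCat.ofHom (algebraMap V K)) ≫ g = z := by
    intro q hq hcl
    let φ : Q.presheaf.stalk q ⟶ CommRingCat.of K :=
      Q.presheaf.stalkSpecializes hq ≫ Scheme.stalkClosedPointTo z
    have hφ : Spec.map φ ≫ Q.fromSpecStalk q = z := by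
      rw [Spec.map_comp, Category.assoc, Scheme.SpecMap_stalkSpecializes_fromSpecStalk,
        Scheme.Spec_stalkClosedPointTo_fromSpecStalk]
    let χ : CommRingCat.of V ⟶ Q.presheaf.stalk q := Spec.preimage (Q.fromSpecStalk q ≫ h)
    have hχ : Spec.map χ = Q.fromSpecStalk q ≫ h := Spec.map_preimage _
    have hc : χ ≫ φ = CommRingCat.ofHom (algebraMap V K) := Spec.map_injective (by
      rw [Spec.map_comp, hχ, reassoc_of% hφ, hz])
    have hc' : ∀ v, φ (χ v) = algebraMap V K v := fun v => congrArg (fun f => f.hom v) hc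
    haveI : IsLocalHom χ.hom := by
      rw [isLocalHom_iff_comap_closedPoint]
      show Spec.map χ (closedPoint _) = _
      rw [hχ, Scheme.Hom.comp_apply, Scheme.fromSpecStalk_closedPoint, hcl]
    have key : ∀ b, ∀ v : V, φ b * algebraMap V K v = 1 → IsUnit v := by
      intro b v e
      by_contra H
      have hn : χ v ∈ nonunits (Q.presheaf.stalk q) := fun h' => H ((isUnit_map_iff χ.hom v).1 h')
      have hu : IsUnit (1 - b * χ v) := isUnit_one_sub_self_of_mem_nonunits _ (mul_mem_nonunits_right hn)
      have := hu.map φ.hom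
      rw [map_sub, map_one, map_mul, hc', e, sub_self] at this
      exact not_isUnit_zero this
    have hmem : ∀ b, φ b ∈ (algebraMap V K).range := by
      intro b
      rcases ValuationRing.isInteger_or_isInteger V (φ b) with ⟨v, hv⟩ | ⟨v, hv⟩
      · exact ⟨v, hv⟩
      · by_cases h0 : φ b = 0
        · exact h0.symm ▸ zero_mem _
        · obtain ⟨w, rfl⟩ := key b v (by rw [hv, mul_inv_cancel₀ h0])
          exact ⟨(w⁻¹ : Vˣ), by rw [map_units_inv, hv, inv_inv]⟩
    let e : V ≃+* (algebraMap V K).range := RingEquiv.ofBijective (algebraMap V K).rangeRestrict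
      ⟨fun a b hab => IsFractionRing.injective V K (congrArg Subtype.val hab),
        (algebraMap V K).rangeRestrict_surjective⟩
    let ψ : Q.presheaf.stalk q ⟶ CommRingCat.of V :=
      CommRingCat.ofHom (e.symm.toRingHom.comp (φ.hom.codRestrict _ hmem))
    have hψ : ψ ≫ CommRingCat.ofHom (algebraMap V K) = φ := by
      ext b
      exact congrArg Subtype.val (e.apply_symm_apply ⟨φ b, hmem b⟩)
    haveI : IsLocalHom ψ.hom := by
      refine ⟨fun b hb => ?_⟩
      by_contra hn
      obtain ⟨w, hw⟩ := hb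
      have e1 : φ b * algebraMap V K ((w⁻¹ : Vˣ) : V) = 1 := by
        rw [← hψ]
        show algebraMap V K (ψ b) * _ = 1
        rw [← map_mul]
        show algebraMap V K (ψ.hom b * _) = 1
        rw [← hw, ← Units.val_mul, mul_inv_cancel, Units.val_one, map_one]
      have hu : IsUnit (1 - b * χ ((w⁻¹ : Vˣ) : V)) :=
        isUnit_one_sub_self_of_mem_nonunits _ (mul_mem_nonunits_left hn)
      have h'' := hu.map φ.hom
      rw [map_sub, map_one, map_mul, hc', e1, sub_self] at h''
      exact not_isUnit_zero h''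
    have hcψ : χ ≫ ψ = 𝟙 _ := by
      ext v
      refine IsFractionRing.injective V K ?_
      exact (congrArg (fun f => f.hom (χ v)) hψ).trans (hc' v)
    refine ⟨Spec.map ψ ≫ Q.fromSpecStalk q, ?_, ?_, ?_⟩
    · rw [Scheme.Hom.comp_apply,
        show Spec.map ψ (closedPoint V) = closedPoint _ from
          (isLocalHom_iff_comap_closedPoint ψ.hom).1 inferInstance,
        Scheme.fromSpecStalk_closedPoint]
    · rw [Category.assoc, ← hχ, ← Spec.map_comp, hcψ, Spec.map_id]
    · rw [← Spec.map_comp_assoc, hψ, hφ]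
  obtain ⟨g₁, hg₁, hg₁', hg₁''⟩ := lift q₁ h₁ e₁
  obtain ⟨g₂, hg₂, hg₂', hg₂''⟩ := lift q₂ h₂ e₂
  let sq : ValuativeCommSq h := { R := V, K := K, i₁ := z, i₂ := 𝟙 _, commSq := ⟨by rw [hz, Category.comp_id]⟩ }
  have := IsSeparated.valuativeCriterion h sq
  have hg : g₁ = g₂ := congrArg CommSq.LiftStruct.l
    (Subsingleton.elim (⟨g₁, hg₁'', hg₁'⟩ : sq.commSq.LiftStruct) ⟨g₂, hg₂'', hg₂'⟩)
  rw [← hg₁, ← hg₂, hg]

/-- A fibre of an etale separated morphism is finite when a generalizing fibre is. -/
theorem finite_fibre {R U : Scheme.{u}} (f : R ⟶ U) [Etale f] [IsSeparated f] [IsAffine U] {η u : U}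
    (hs : η ⤳ u) (hη : (f ⁻¹' {η}).Finite) : (f ⁻¹' {u}).Finite := by
  classical
  let K := AlgebraicClosure (U.residueField η)
  let α : U.presheaf.stalk u →+* K := (algebraMap (U.residueField η) K).comp
    (U.presheaf.stalkSpecializes hs ≫ U.residue η).hom
  obtain ⟨A, hA⟩ := (LocalSubring.range α).exists_le_valuationSubring
  have hmem : ∀ a, α a ∈ A := fun a => hA.1 ⟨a, rfl⟩
  let β : U.presheaf.stalk u ⟶ CommRingCat.of A := CommRingCat.ofHom (α.codRestrict A hmem)
  haveI : IsLocalHom β.hom := by
    refine ⟨fun a ha => ?_⟩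
    obtain ⟨hle, hl⟩ := hA
    have h1 : IsUnit (⟨α a, a, rfl⟩ : (LocalSubring.range α).toSubring) := hl.map_nonunit _ ha
    obtain ⟨⟨_, c, rfl⟩, hc⟩ := h1.exists_right_inv
    by_contra hn
    have hu : IsUnit (1 - a * c) := isUnit_one_sub_self_of_mem_nonunits _ (mul_mem_nonunits_left hn)
    have := hu.map α
    rw [map_sub, map_one, map_mul, show α a * α c = 1 from congrArg Subtype.val hc, sub_self] at this
    exact not_isUnit_zero this
  let ξ : Spec (CommRingCat.of A) ⟶ U := Spec.map β ≫ U.fromSpecStalk u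
  let ιK : Spec (CommRingCat.of K) ⟶ Spec (CommRingCat.of A) := Spec.map (CommRingCat.ofHom (algebraMap A K))
  have hξu : ξ (closedPoint A) = u := by
    rw [Scheme.Hom.comp_apply,
      show Spec.map β (closedPoint A) = closedPoint _ from (isLocalHom_iff_comap_closedPoint β.hom).1 inferInstance,
      Scheme.fromSpecStalk_closedPoint]
  have hξη : ∀ k, ξ (ιK k) = η := by
    intro k
    have e : β ≫ CommRingCat.ofHom (algebraMap A K) =
        U.presheaf.stalkSpecializes hs ≫ U.residue η ≫ CommRingCat.ofHom (algebraMap (U.residueField η) K) := rfl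
    rw [← Scheme.Hom.comp_apply, ← Category.assoc, ← Spec.map_comp, e, Spec.map_comp, Spec.map_comp,
      Category.assoc, Category.assoc, Scheme.SpecMap_stalkSpecializes_fromSpecStalk, Scheme.Hom.comp_apply]
    exact Scheme.fromSpecResidueField_apply η _
  -- the fibre over the algebraically closed generic point
  let h := pullback.snd f ξ
  haveI : Etale h := MorphismProperty.pullback_snd _ _ ‹Etale f›
  haveI : IsSeparated h := MorphismProperty.pullback_snd _ _ ‹IsSeparated f›
  let π := pullback.snd h ιK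
  let p := pullback.fst h ιK ≫ pullback.fst f ξ
  have sq : IsPullback p π f (ιK ≫ ξ) :=
    (IsPullback.of_hasPullback h ιK).paste_horiz (IsPullback.of_hasPullback f ξ)
  haveI : Etale π := MorphismProperty.pullback_snd _ _ ‹Etale h›
  haveI : LocallyQuasiFinite π := lqf_of_etale _
  haveI : IsLocallyArtinian (pullback h ιK) := IsLocallyArtinian.of_locallyQuasiFinite π
  haveI : DiscreteTopology ↥(pullback h ιK) := inferInstance
  choose B hB hmemB using fun r : f ⁻¹' {η} =>
    (⟨_, (exists_isAffineOpen_mem_and_subset (x := r.1) (U := ⊤) trivial).choose_spec.1,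
      (exists_isAffineOpen_mem_and_subset (x := r.1) (U := ⊤) trivial).choose_spec.2.1⟩ :
      ∃ B : R.Opens, IsAffineOpen B ∧ r.1 ∈ B)
  haveI := hη.to_subtype
  let O : R.Opens := ⨆ r, B r
  haveI : CompactSpace (O : Scheme.{u}) := isCompact_iff_compactSpace.1 (by
    rw [Opens.coe_iSup]; exact isCompact_iUnion fun r => (hB r).isCompact)
  haveI : QuasiCompact (O.ι ≫ f) := (HasAffineProperty.iff_of_isAffine (P := @QuasiCompact)).2 inferInstance
  haveI : CompactSpace ↥(pullback (O.ι ≫ f) (ιK ≫ ξ)) :=
    haveI : QuasiCompact (pullback.snd (O.ι ≫ f) (ιK ≫ ξ)) := MorphismProperty.pullback_snd _ _ ‹_›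
    QuasiCompact.compactSpace_of_compactSpace (pullback.snd (O.ι ≫ f) (ιK ≫ ξ))
  haveI : Finite ↥(pullback h ιK) := by
    let c : pullback (O.ι ≫ f) (ιK ≫ ξ) ⟶ pullback h ιK :=
      sq.lift (pullback.fst _ _ ≫ O.ι) (pullback.snd _ _) (by rw [Category.assoc, pullback.condition])
    have hsur : Function.Surjective c := by
      intro x
      have hx : p x ∈ O := by
        have : f (p x) = η := by
          rw [← Scheme.Hom.comp_apply, sq.w, Scheme.Hom.comp_apply, Scheme.Hom.comp_apply]; exact hξη _
        exact Opens.mem_iSup.2 ⟨⟨p x, this⟩, hmemB _⟩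
      have hr : Set.range c = p ⁻¹' (O : Set R) := by
        have sc : IsPullback (pullback.fst (O.ι ≫ f) (ιK ≫ ξ)) c O.ι p := by
          refine (IsPullback.of_right (h₁₁ := c) (h₁₂ := pullback.snd h ιK) ?_ (sq.lift_fst _ _ _) sq.flip).flip
          rw [show c ≫ pullback.snd h ιK = _ from sq.lift_snd _ _ _]
          exact (IsPullback.of_hasPullback (O.ι ≫ f) (ιK ≫ ξ)).flip
        rw [← sc.isoPullback_hom_snd, Scheme.Hom.comp_base, TopCat.coe_comp, Set.range_comp,
          Set.range_eq_univ.2 sc.isoPullback.hom.surjective, Set.image_univ, Scheme.Pullback.range_snd,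
          Scheme.Opens.range_ι]
      exact hr.ge hx
    haveI := hsur.compactSpace c.continuous
    exact finite_of_compact_of_discrete
  -- each point over `u` is a specialization of a geometric generic point
  have key : ∀ r : f ⁻¹' {u}, ∃ (x : ↥(pullback h ιK)) (q : ↥(pullback f ξ)),
      pullback.fst f ξ q = r.1 ∧ h q = closedPoint A ∧ pullback.fst h ιK x ⤳ q := by
    intro r
    obtain ⟨q, hq, hq'⟩ := Scheme.Pullback.exists_preimage_pullback (f := f) (g := ξ) r.1 (closedPoint A) (r.2.trans hξu.symm)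
    obtain ⟨q', hqq, hq''⟩ := Flat.generalizingMap h (show ιK (closedPoint K) ⤳ h q by
      rw [show h q = closedPoint A from hq']
      exact IsLocalRing.specializes_closedPoint _)
    obtain ⟨x, hx, -⟩ := Scheme.Pullback.exists_preimage_pullback (f := h) (g := ιK) q' (closedPoint K) hq''
    exact ⟨x, q, hq, hq', hx ▸ hqq⟩
  choose x q hq hq' hqq using key
  refine Set.finite_coe_iff.1 (Finite.of_injective x fun r₁ r₂ he => Subtype.ext ?_)
  have hcl : IsClosed ({x r₁} : Set ↥(pullback h ιK)) := isClosed_discrete _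
  let z := pointOfClosedPoint π (x r₁) hcl ≫ pullback.fst h ιK
  have hz : z ≫ h = ιK := by
    rw [Category.assoc, pullback.condition, pointOfClosedPoint_comp_assoc]
  have hzx : z (closedPoint K) = pullback.fst h ιK (x r₁) := by
    rw [Scheme.Hom.comp_apply, pointOfClosedPoint_apply]
  rw [← hq r₁, ← hq r₂]
  exact congrArg _ (eq_of_specializes h z hz (hzx ▸ hqq r₁) (hq' r₁) (hzx ▸ he ▸ hqq r₂) (hq' r₂))

end Groth.L23.FibreBound
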