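import Groth.Agent.L23.FieldSpace
import Groth.Agent.L23.QFPoints

/-!
# The fibre over a quasi-compact monomorphic point is a subspace
-/

universe u

open CategoryTheory CategoryTheory.Limits AlgebraicGeometry Opposite AlgSp Topology

set_option backward.isDefEq.respectTransparency.types false
set_option linter.style.haveILetI false

namespace Groth.L23.Pt

variable {S : Scheme.{u}} {X Y : Sp S}

theorem isPreimmersion_fibre (hX : IsAlgSpace X) (p : FieldPt X) [Mono p.toHom]
    (hq : RepWith @QuasiCompact p.toHom) {U : Over S} {a : (yon S).obj U ⟶ X} (ha : RepWith @Etale a)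
    {T : Over S} {c : T ⟶ p.pt} {t₂ : T ⟶ U}
    (sT : IsPullback ((yon S).map c) ((yon S).map t₂) p.toHom a) : IsPreimmersion t₂.left := by
  have : Mono ((yon S).map t₂) := sT.mono_snd_of_mono
  have : Mono t₂ := (yon S).mono_of_mono_map this
  have : Mono t₂.left := inferInstanceAs (Mono ((Over.forget S).map t₂))
  have hinj : Function.Injective t₂.left := t₂.left.injective
  let c₀ : T.left ⟶ Spec (CommRingCat.of p.K) := c.left
  have : Etale c₀ := (repWith_prop ha sT.flip : Etale c.left)
  have := lqf_of_etale c₀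
  have hzo := fun z => isOpen_singleton_of_qf c₀ z
  have hred : _root_.AlgebraicGeometry.IsReduced T.left := isReduced_of_etale c₀
  have hpt : ∀ z, Points.ofPt a (t₂.left z) = Points.mk p := fun z => by
    rw [← ofPt_comp, ← sT.w, ofPt_comp, Points.ofPt_toHom]
  have hfib : ∀ (V : Over S) (b : (yon S).obj V ⟶ X), IsAffine V.left → RepWith @Etale b →
      (Points.ofPt b ⁻¹' {Points.mk p}).Finite := (qc_iff_finite_fibres hX p).1 hq
  have hemb : IsEmbedding t₂.left := by
    refine ⟨⟨le_antisymm t₂.left.continuous.le_induced fun V _ => ?_⟩, hinj⟩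
    suffices ∀ z, IsOpen[TopologicalSpace.induced t₂.left inferInstance] {z} by
      rw [← Set.biUnion_of_singleton V]
      exact @isOpen_biUnion _ _ (TopologicalSpace.induced t₂.left inferInstance) _ _ fun z _ => this z
    intro z
    obtain ⟨_, ⟨B, hB, rfl⟩, hzB, -⟩ :=
      U.left.isBasis_affineOpens.exists_subset_of_mem_open (Set.mem_univ (t₂.left z)) isOpen_univ
    change U.left.Opens at B
    have hb := repWith_comp (repWith_etale_openMk B) ha
    have hfin := (hfib (Over.mk (B.ι ≫ U.hom)) _ hB hb).image B.ι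
    refine isOpen_induced_iff.2 ⟨(B : Set U.left) ∩ (⋃ u ∈ B.ι '' (Points.ofPt
      ((yon S).map (Over.homMk B.ι rfl : Over.mk (B.ι ≫ U.hom) ⟶ U) ≫ a) ⁻¹' {Points.mk p}) \ {t₂.left z},
        closure {u})ᶜ,
      B.isOpen.inter ((hfin.subset Set.sdiff_subset).isClosed_biUnion fun u _ => isClosed_closure).isOpen_compl, ?_⟩
    ext z'
    constructor
    · rintro ⟨hzB', hz'⟩
      by_contra hne
      refine hz' (Set.mem_biUnion (x := t₂.left z') ⟨⟨⟨t₂.left z', hzB'⟩, ?_, rfl⟩, fun h => hne (hinj h)⟩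
        (subset_closure rfl))
      exact (ofPt_openMk B a ⟨t₂.left z', hzB'⟩).trans (hpt z')
    · rintro rfl
      refine ⟨hzB, fun h => ?_⟩
      obtain ⟨u, ⟨⟨w', hw', rfl⟩, hne⟩, hu'⟩ := Set.mem_iUnion₂.1 h
      exact hne (eq_of_specializes_of_finite_fibres hX hfib ha _ _ (hpt z')
        ((ofPt_openMk B a w').symm.trans hw') (specializes_iff_mem_closure.2 hu')).symm
  have : SurjectiveOnStalks t₂.left := by
    let O : T.left → T.left.Opens := fun z => ⟨{z}, hzo z⟩
    refine IsZariskiLocalAtSource.of_openCover (P := @SurjectiveOnStalks)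
      (Scheme.openCoverOfIsOpenCover T.left O (top_le_iff.1 fun z _ => TopologicalSpace.Opens.mem_iSup.2 ⟨z, rfl⟩)) fun z => ?_
    show SurjectiveOnStalks ((O z).ι ≫ t₂.left)
    have : Subsingleton (O z : Scheme.{u}) := ⟨fun a b => Subtype.ext (a.2.trans b.2.symm)⟩
    have : IrreducibleSpace (O z : Scheme.{u}) := { toPreirreducibleSpace := ⟨fun u v _ _ ⟨a, _, ha⟩ ⟨b, _, hb⟩ =>
      ⟨a, trivial, ha, Subsingleton.elim b a ▸ hb⟩⟩, toNonempty := ⟨⟨z, rfl⟩⟩ }
    have : _root_.AlgebraicGeometry.IsIntegral (O z : Scheme.{u}) := isIntegral_of_irreducibleSpace_of_isReduced _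
    let R := Γ((O z : Scheme.{u}), ⊤)
    let : Field R := (isField_of_isIntegral_of_subsingleton _).toField
    let φ : Spec (CommRingCat.of R) ⟶ U.left := (O z : Scheme.{u}).isoSpec.inv ≫ (O z).ι ≫ t₂.left
    have : Mono φ := inferInstance
    let u := φ (IsLocalRing.closedPoint R)
    let ψ := Spec.map (Scheme.descResidueField (Scheme.stalkClosedPointTo φ))
    have hψ : ψ ≫ U.left.fromSpecResidueField u = φ :=
      Scheme.descResidueField_stalkClosedPointTo_fromSpecResidueField R U.left φ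
    have : Mono (ψ ≫ U.left.fromSpecResidueField u) := hψ.symm ▸ ‹Mono φ›
    have : Mono ψ := mono_of_mono ψ (U.left.fromSpecResidueField u)
    have : IsIso ψ := isIso_of_mono_to_field (K := U.left.residueField u) ψ (IsLocalRing.closedPoint R)
    have : SurjectiveOnStalks φ := by rw [← hψ]; infer_instance
    have e : (O z).ι ≫ t₂.left = (O z : Scheme.{u}).isoSpec.hom ≫ φ :=
      ((O z : Scheme.{u}).isoSpec.hom_inv_id_assoc _).symm
    rw [e]; infer_instance
  exact ⟨hemb⟩

theorem range_map_fst {Xk : Sp S} {f : X ⟶ Y} {p : FieldPt Y} {fst : Xk ⟶ X}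
    {snd : Xk ⟶ (yon S).obj p.pt} (sq : IsPullback fst snd f p.toHom) :
    Set.range (Points.map fst) = Points.map f ⁻¹' {Points.mk p} := by
  have e : Points.map p.toHom (Points.ofScheme p.pt (IsLocalRing.closedPoint p.K)) = Points.mk p := by
    rw [← Points.ofPt_eq_map_ofScheme, Points.ofPt_toHom]
  haveI : Subsingleton p.pt.left := inferInstanceAs (Subsingleton (Spec (CommRingCat.of p.K)))
  apply Set.Subset.antisymm
  · rintro _ ⟨z, rfl⟩
    show Points.map f (Points.map fst z) = Points.mk p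
    haveI : Subsingleton (Points ((yon S).obj p.pt)) := (Points.schemeEquiv p.pt).symm.subsingleton
    rw [← Points.map_comp, sq.w, Points.map_comp, ← e]
    exact congrArg (Points.map p.toHom) (Subsingleton.elim _ _)
  · intro x hx
    obtain ⟨z, hz, -⟩ := exists_of_isPullback sq x _ (hx.trans e.symm)
    exact ⟨z, hz⟩

theorem isEmbedding_map_fst (hX : IsAlgSpace X) (hY : IsAlgSpace Y) {Xk : Sp S} {f : X ⟶ Y} (p : FieldPt Y)
    [Mono p.toHom] (hq : RepWith @QuasiCompact p.toHom) {fst : Xk ⟶ X} {snd : Xk ⟶ (yon S).obj p.pt}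
    (sq : IsPullback fst snd f p.toHom) : IsEmbedding (Points.map fst) := by
  haveI : Mono fst := sq.mono_fst_of_mono
  have hinj := QFL.map_injective_of_mono fst
  obtain ⟨U, V, a, b, h, ha, has, hb, -, w⟩ := exists_chart hX hY f
  obtain ⟨T, c, t₂, sT, -, -, hr⟩ := exists_fibre hY p b hb
  haveI := isPreimmersion_fibre hY p hq hb sT
  let q := pullback.fst h.left t₂.left
  haveI : IsPreimmersion q := MorphismProperty.pullback_fst (P := @IsPreimmersion) _ _ ‹_›
  let U' : Over S := Over.mk (q ≫ U.hom)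
  let q' : U' ⟶ U := Over.homMk q rfl
  let s' : U' ⟶ T := Over.homMk (pullback.snd h.left t₂.left) (by
    show _ ≫ T.hom = q ≫ U.hom
    rw [← Over.w t₂, ← Over.w h, ← pullback.condition_assoc])
  have hs : q' ≫ h = s' ≫ t₂ := Over.OverMorphism.ext pullback.condition
  let l : (yon S).obj U' ⟶ Xk := sq.lift ((yon S).map q' ≫ a) ((yon S).map (s' ≫ c)) (by
    rw [Category.assoc, w, ← Category.assoc, ← Functor.map_comp, hs, Functor.map_comp, Functor.map_comp,
      Category.assoc, Category.assoc, sT.w])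
  have hl : ∀ u' : U'.left, Points.map fst (Points.ofPt l u') = Points.ofPt a (q u') := fun u' => by
    rw [Points.map_ofPt, sq.lift_fst, ofPt_comp]
    rfl
  have hrange : ∀ u : U.left, Points.map f (Points.ofPt a u) = Points.mk p → ∃ u' : U'.left, q u' = u := by
    intro u hu
    rw [Points.map_ofPt, w, ofPt_comp] at hu
    obtain ⟨t, ht⟩ : h.left u ∈ Set.range t₂.left := hr ▸ hu
    obtain ⟨u', hu', -⟩ := Scheme.Pullback.exists_preimage_pullback (f := h.left) (g := t₂.left) u t ht.symm
    exact ⟨u', hu'⟩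
  refine ⟨⟨le_antisymm (Points.continuous_map fst).le_induced fun O hO => ?_⟩, hinj⟩
  obtain ⟨G, hG, hG'⟩ := q.isEmbedding.isInducing.isOpen_iff.1 (hO.preimage (Points.continuous_ofPt l))
  refine isOpen_induced_iff.2 ⟨Points.ofPt a '' G, isOpenMap_ofPt ha _ hG, ?_⟩
  ext z
  have hz : Points.map f (Points.map fst z) = Points.mk p :=
    (range_map_fst sq).le ⟨z, rfl⟩
  constructor
  · rintro ⟨g, hg, e⟩
    obtain ⟨u', rfl⟩ := hrange g (e ▸ hz)
    have hO' : u' ∈ Points.ofPt l ⁻¹' O := hG' ▸ hg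
    exact (hinj ((hl u').trans e)) ▸ hO'
  · intro hzO
    obtain ⟨u, hu⟩ := surjective_ofPt has (Points.map fst z)
    obtain ⟨u', rfl⟩ := hrange u (hu ▸ hz)
    have e := hinj ((hl u').trans hu)
    exact ⟨q u', hG'.ge (show Points.ofPt l u' ∈ O from e ▸ hzO), hu⟩

end Groth.L23.Pt
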