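import Groth.Agent.L23.DimPoint
import Groth.Agent.L23.FibreEmbed
import Groth.Agent.L23.QFPoints
import Groth.Agent.L23.Decent2
import Groth.Agent.L02.Grpd.OverField

/-!
# Points of fibres: isolated points and quasi-finiteness
-/

universe u

open CategoryTheory CategoryTheory.Limits AlgebraicGeometry AlgSp Topology

set_option backward.isDefEq.respectTransparency.types false
set_option linter.style.haveILetI false

namespace Groth.L23.FibCond

variable {S : Scheme.{u}}

theorem qfAt_iff_fibreDimAt {U V : Scheme.{u}} (h : U ⟶ V) [LocallyOfFiniteType h] (u : U) :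
    QFL.qfAt U V h u ↔ FlatMor.fibreDimAt h u = 0 := by
  have : LocallyOfFiniteType (h.fiberToSpecResidueField (h u)) :=
    MorphismProperty.pullback_snd _ _ ‹LocallyOfFiniteType h›
  have := LocallyOfFiniteType.isLocallyNoetherian (h.fiberToSpecResidueField (h u))
  rw [QFL.qfAt_iff_quasiFiniteAt, Scheme.Hom.quasiFiniteAt_iff_isOpen_singleton_asFiber,
    isOpen_singleton_iff_localDim]
  rfl

/-- The local dimension of a chart of the fibre is the relative dimension downstairs. -/
theorem localDim_fibre_iff {X Y : Sp S} (hX : IsAlgSpace X) (hY : IsAlgSpace Y) {f : X ⟶ Y}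
    (hf : LocP @LocallyOfFiniteType f) {k : FieldPt Y} {Xk : Sp S} {fst : Xk ⟶ X}
    {snd : Xk ⟶ (yon S).obj k.pt} (sq : IsPullback fst snd f k.toHom) {W : Over S}
    {q : (yon S).obj W ⟶ Xk} (hq : RepWith @Etale q) (z : W.left) (P : WithBot ℕ∞ → Prop) :
    P (FlatMor.localDim W.left z) ↔
      HasAtMor (fun _ _ h u => P (FlatMor.fibreDimAt h u)) f (Points.map fst (Points.ofPt q z)) := by
  haveI : Subsingleton k.pt.left := inferInstanceAs (Subsingleton (Spec (CommRingCat.of k.K)))
  have hid : RepWith @Etale (𝟙 ((yon S).obj k.pt)) := repWith_of_isIso _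
  obtain ⟨U, V, a, b, h, ha, has, hb, -, w⟩ := exists_chart hX hY f
  haveI : LocallyOfFiniteType h.left := hf a b h ha hb w
  obtain ⟨m, hm⟩ := (yon S).map_surjective (q ≫ snd)
  obtain ⟨u, hu⟩ := surjective_ofPt has (Points.map fst (Points.ofPt q z))
  obtain ⟨U', V₁, a', b', h', p, r, z', ha', hb', w', sU, hz, he⟩ :=
    QFL.exists_chart_of_isPullback (IsAlgSpace.yon_obj _) sq ha hb w hu
  rw [← hu, hasAtMor_fibreDim_iff P ha hb w u, ← hz, ← fibreDimAt_of_isPullback sU,
    ← SpDim.fibreDimAt_eq_localDim_of_subsingleton m.left z,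
    fibreDimAt_of_other_chart (h := m) (b := 𝟙 _) hq hid ha' hb' (by rw [Category.comp_id, hm]) w' he]

theorem hasAtMor_qf_iff {X Y : Sp S} {f : X ⟶ Y} (hf : LocP @LocallyOfFiniteType f) (x : Points X) :
    HasAtMor QFL.qfAt f x ↔ HasAtMor (fun _ _ h u => FlatMor.fibreDimAt h u = 0) f x := by
  constructor
  · rintro ⟨U, V, a, b, h, u, ha, hb, w, e, H⟩
    haveI : LocallyOfFiniteType h.left := hf a b h ha hb w
    exact ⟨U, V, a, b, h, u, ha, hb, w, e, (qfAt_iff_fibreDimAt _ _).1 H⟩
  · rintro ⟨U, V, a, b, h, u, ha, hb, w, e, H⟩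
    haveI : LocallyOfFiniteType h.left := hf a b h ha hb w
    exact ⟨U, V, a, b, h, u, ha, hb, w, e, (qfAt_iff_fibreDimAt _ _).2 H⟩

variable {X Y Xk : AlgSp.Space S} {f : X.obj ⟶ Y.obj} (hf : LocP @LocallyOfFiniteType f) {r : FieldPt Y.obj}
  {fst : Xk.obj ⟶ X.obj} {snd : Xk.obj ⟶ (yon S).obj r.pt} (sq : IsPullback fst snd f r.toHom)

include hf sq in
theorem lft_snd : LocP @LocallyOfFiniteType snd :=
  locP_of_isPullback etLocal_lft X.property Y.property (IsAlgSpace.yon_obj _) sq hf

include hf sq in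
theorem hasAt_localDim_zero_iff (z : Points Xk.obj) :
    HasAt (fun U u => FlatMor.localDim ↥U u = 0) Xk.obj z ↔ HasAtMor QFL.qfAt f (Points.map fst z) := by
  rw [hasAtMor_qf_iff hf]
  constructor
  · rintro ⟨W, q, w, hq, rfl, H⟩
    exact (localDim_fibre_iff X.property Y.property hf sq hq w (· = 0)).1 H
  · intro H
    obtain ⟨W, q, hq, hqs⟩ := Xk.property.atlas
    obtain ⟨w, rfl⟩ := surjective_ofPt hqs z
    exact ⟨W, q, w, hq, rfl, (localDim_fibre_iff X.property Y.property hf sq hq w (· = 0)).2 H⟩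

include hf sq in
theorem isOpen_singleton_iff (z : Points Xk.obj) :
    IsOpen ({z} : Set (Points Xk.obj)) ↔ HasAtMor QFL.qfAt f (Points.map fst z) :=
  (DimPt.hasAt_iff Xk.property (lft_snd hf sq) z).trans (hasAt_localDim_zero_iff hf sq z)

include hf sq in
theorem discrete_iff_qf :
    DiscreteTopology (Points Xk.obj) ↔ ∀ x, Points.map f x = Points.mk r → HasAtMor QFL.qfAt f x := by
  rw [discreteTopology_iff_isOpen_singleton]
  constructor
  · intro H x hx
    obtain ⟨z, rfl⟩ := (Pt.range_map_fst sq).ge hx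
    exact (isOpen_singleton_iff hf sq z).1 (H z)
  · intro H z
    exact (isOpen_singleton_iff hf sq z).2 (H _ ((Pt.range_map_fst sq).le ⟨z, rfl⟩))

/-- The fibre over a decent point is the space of points of some fibre product. -/
theorem exists_homeo (f : X.obj ⟶ Y.obj) (hd : IsDecent Y.obj) (r : FieldPt Y.obj) :
    ∃ (r₀ : FieldPt Y.obj) (X₀ : AlgSp.Space S) (fst₀ : X₀.obj ⟶ X.obj) (snd₀ : X₀.obj ⟶ (yon S).obj r₀.pt)
      (e : Points X₀.obj ≃ₜ ↥(Points.map f ⁻¹' {Points.mk r})),
      Points.mk r₀ = Points.mk r ∧ IsPullback fst₀ snd₀ f r₀.toHom ∧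
        (∀ z, (e z).1 = Points.map fst₀ z) ∧ (IsDecent X.obj → IsDecent X₀.obj) := by
  obtain ⟨r₀, h₀, hm, hq⟩ := hd (Points.mk r)
  haveI := hm
  have sq₀ := IsPullback.of_hasPullback f r₀.toHom
  let X₀ : AlgSp.Space S := ⟨_, isAlgSpace_of_isPullback Y.property.diag X.property (IsAlgSpace.yon_obj _) sq₀⟩
  refine ⟨r₀, X₀, pullback.fst _ _, pullback.snd _ _,
    (Pt.isEmbedding_map_fst X.property Y.property r₀ hq sq₀).toHomeomorph.trans
      (Homeomorph.setCongr ((Pt.range_map_fst sq₀).trans (by rw [h₀]))), h₀, sq₀, fun z => rfl, fun hX => ?_⟩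
  exact Pt.isDecent_of_isPullback Y.property sq₀ hX (Pt.isDecent_yon _)

theorem isClosed_noGen_iff {A B : Type*} [TopologicalSpace A] [TopologicalSpace B] (e : A ≃ₜ B) (a : A) :
    (IsClosed ({a} : Set A) ∧ ∀ a', a' ⤳ a → a' = a) ↔ (IsClosed ({e a} : Set B) ∧ ∀ b', b' ⤳ e a → b' = e a) := by
  have h1 : IsClosed ({e a} : Set B) ↔ IsClosed ({a} : Set A) := by
    rw [← Set.image_singleton]; exact e.isClosed_image
  refine and_congr h1.symm ⟨fun H b hb => ?_, fun H a' ha => e.injective (H _ (ha.map e.continuous))⟩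
  have := H (e.symm b) (by simpa using hb.map e.symm.continuous)
  rw [← this, e.apply_symm_apply]

theorem isOpen_singleton_homeo {A B : Type*} [TopologicalSpace A] [TopologicalSpace B] (e : A ≃ₜ B) (a : A) :
    IsOpen ({a} : Set A) ↔ IsOpen ({e a} : Set B) := by
  rw [← Set.image_singleton]; exact e.isOpen_image.symm

theorem krullDim_discrete {A : Type u} [TopologicalSpace A] [DiscreteTopology A] [Nonempty A] :
    topologicalKrullDim A = 0 := by
  refine le_antisymm (topologicalKrullDim_zero_of_discreteTopology _) ?_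
  haveI : Nonempty (TopologicalSpace.IrreducibleCloseds A) :=
    ⟨⟨closure {Classical.arbitrary A}, isIrreducible_singleton.closure, isClosed_closure⟩⟩
  exact Order.krullDim_nonneg

theorem discrete_of_krullDim_zero {K : Type u} [Field K] {str : Spec (CommRingCat.of K) ⟶ S} (P : AlgSp.Space S)
    {p : P.obj ⟶ (yon S).obj (Over.mk str)} (hp : LocP @LocallyOfFiniteType p) (hd : IsDecent P.obj)
    (h : topologicalKrullDim (Points P.obj) = 0) : DiscreteTopology (Points P.obj) := by
  rw [discreteTopology_iff_isOpen_singleton]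
  intro x
  refine (DimPt.localDim_points P hp hd x).1 (le_antisymm ?_ ?_)
  · exact h ▸ (Groth.Agent.S5792.result (Points P.obj)).symm ▸
      le_iSup (fun x => FlatMor.localDim (Points P.obj) x) x
  · obtain ⟨U, a, ha, has⟩ := P.property.atlas
    obtain ⟨u, rfl⟩ := surjective_ofPt has x
    obtain ⟨π, _⟩ := DimPt.lft_chart hp ha
    obtain ⟨n, hn⟩ := DimPt.exists_nat_localDim π u
    rw [← Groth.Agent.S10346.result P hd a ha u, hn]
    exact Nat.cast_nonneg n

end Groth.L23.FibCond
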