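import Groth.Agent.L23.FibreDimBC
import Groth.Agent.L23.QFPoints
import Groth.Agent.L23.SpaceTrdeg
import Groth.Agent.L23.DimFunSch
import Mathlib.RingTheory.Ideal.KrullsHeightTheorem
import Mathlib.AlgebraicGeometry.Stalk
import Mathlib.AlgebraicGeometry.Fiber

/-!
# Dimensions of local rings of fibres and base change
-/

universe u

open CategoryTheory CategoryTheory.Limits AlgebraicGeometry AlgSp IsLocalRing

set_option backward.isDefEq.respectTransparency.types false
set_option linter.style.haveILetI false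

namespace Groth.L23.FibDimFormula

theorem height_maximal (R : Type u) [CommRing R] [IsLocalRing R] :
    ((maximalIdeal R).height : WithBot ℕ∞) = ringKrullDim R :=
  IsLocalRing.maximalIdeal_height_eq_ringKrullDim

section Flat

variable {F F' : Scheme.{u}} (m : F' ⟶ F) [Flat m] [IsLocallyNoetherian F'] [IsLocallyNoetherian F] (z : F')

theorem dim_stalk_eq_add : ringKrullDim (F'.presheaf.stalk z) = ringKrullDim (F.presheaf.stalk (m z)) +
    (((maximalIdeal (F'.presheaf.stalk z)).map (Ideal.Quotient.mk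
      ((maximalIdeal (F.presheaf.stalk (m z))).map (m.stalkMap z).hom))).height : WithBot ℕ∞) := by
  letI := (m.stalkMap z).hom.toAlgebra
  haveI : Module.Flat (F.presheaf.stalk (m z)) (F'.presheaf.stalk z) := Flat.stalkMap m z
  haveI : (maximalIdeal (F'.presheaf.stalk z)).LiesOver (maximalIdeal (F.presheaf.stalk (m z))) :=
    ⟨(maximalIdeal_comap (m.stalkMap z).hom).symm⟩
  rw [← height_maximal, ← height_maximal,
    Ideal.height_eq_height_add_of_liesOver_of_hasGoingDown (maximalIdeal (F.presheaf.stalk (m z)))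
      (maximalIdeal (F'.presheaf.stalk z))]
  rfl

theorem dim_stalk_le : ringKrullDim (F.presheaf.stalk (m z)) ≤ ringKrullDim (F'.presheaf.stalk z) := by
  rw [dim_stalk_eq_add m z]
  exact le_add_of_nonneg_right (by exact_mod_cast bot_le)

theorem dim_stalk_eq (hmin : ∀ w, w ⤳ z → m w = m z → w = z) :
    ringKrullDim (F'.presheaf.stalk z) = ringKrullDim (F.presheaf.stalk (m z)) := by
  letI := (m.stalkMap z).hom.toAlgebra
  let I := (maximalIdeal (F.presheaf.stalk (m z))).map (m.stalkMap z).hom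
  have hle : I ≤ maximalIdeal (F'.presheaf.stalk z) :=
    Ideal.map_le_iff_le_comap.2 (maximalIdeal_comap (m.stalkMap z).hom).ge
  have key : ∀ P : Ideal (F'.presheaf.stalk z), P.IsPrime → I ≤ P → P = maximalIdeal _ := by
    intro P hP hIP
    let p : Spec (F'.presheaf.stalk z) := ⟨P, hP⟩
    have hc : (Spec.map (m.stalkMap z)) p = closedPoint (F.presheaf.stalk (m z)) := by
      refine PrimeSpectrum.ext ?_
      show Ideal.comap (m.stalkMap z).hom P = maximalIdeal _
      exact ((maximalIdeal.isMaximal _).eq_of_le (Ideal.IsPrime.ne_top inferInstance)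
        (Ideal.map_le_iff_le_comap.1 hIP)).symm
    have hw : m (F'.fromSpecStalk z p) = m z := by
      rw [← Scheme.Hom.comp_apply, ← Scheme.SpecMap_stalkMap_fromSpecStalk, Scheme.Hom.comp_apply, hc,
        Scheme.fromSpecStalk_closedPoint]
    have hz : F'.fromSpecStalk z p = z :=
      hmin _ (Scheme.range_fromSpecStalk.le ⟨p, rfl⟩) hw
    have : p = closedPoint (F'.presheaf.stalk z) :=
      (F'.fromSpecStalk z).isEmbedding.injective (hz.trans Scheme.fromSpecStalk_closedPoint.symm)
    exact congrArg PrimeSpectrum.asIdeal this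
  have hmem : maximalIdeal (F'.presheaf.stalk z) ∈ I.minimalPrimes :=
    ⟨⟨inferInstance, hle⟩, fun P hP _ => (key P hP.1 hP.2).ge⟩
  have h0 : ((maximalIdeal (F'.presheaf.stalk z)).map (Ideal.Quotient.mk I)).height = 0 := by
    haveI : ((maximalIdeal (F'.presheaf.stalk z)).map (Ideal.Quotient.mk I)).IsPrime :=
      Ideal.map_isPrime_of_surjective Ideal.Quotient.mk_surjective (by rwa [Ideal.mk_ker])
    rw [Ideal.height_eq_zero_iff]
    refine ⟨⟨inferInstance, bot_le⟩, fun Q hQ _ => ?_⟩
    haveI := hQ.1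
    have := key (Q.comap (Ideal.Quotient.mk I)) inferInstance
      (fun x hx => by show Ideal.Quotient.mk I x ∈ Q; rw [Ideal.Quotient.eq_zero_iff_mem.2 hx]; exact zero_mem _)
    rw [← this, Ideal.map_comap_of_surjective _ Ideal.Quotient.mk_surjective]
  rw [dim_stalk_eq_add m z, h0]
  simp

end Flat

/-- The dimension of the local ring of the fibre at a point. -/
noncomputable def fd {X Y : Scheme.{u}} (f : X ⟶ Y) (x : X) : WithBot ℕ∞ :=
  ringKrullDim ((f.fiber (f x)).presheaf.stalk (f.asFiber x))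

theorem fd_eq {X Y : Scheme.{u}} (f : X ⟶ Y) {y : Y} (z : f.fiber y) {x : X} (h : f.fiberι y z = x) :
    fd f x = ringKrullDim ((f.fiber y).presheaf.stalk z) := by
  have hy : f x = y := h ▸ Set.mem_singleton_iff.1 (f.range_fiberι y ▸ Set.mem_range_self z : f.fiberι y z ∈ f ⁻¹' {y})
  subst hy
  rw [show z = f.asFiber x from (f.fiberι (f x)).isEmbedding.injective (h.trans (f.fiberι_asFiber x).symm)]
  rfl

variable {X Y X' Y' : Scheme.{u}} {g' : X' ⟶ X} {f' : X' ⟶ Y'} {f : X ⟶ Y} {g : Y' ⟶ Y}
  [LocallyOfFiniteType f]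

theorem exists_fibre_map (sq : IsPullback g' f' f g) (y' : Y') :
    ∃ m : f'.fiber y' ⟶ f.fiber (g y'), Flat m ∧ Surjective m ∧ IsLocallyNoetherian (f'.fiber y') ∧ IsLocallyNoetherian (f.fiber (g y')) ∧
      ∀ z, f.fiberι (g y') (m z) = g' (f'.fiberι y' z) := by
  have H := isPullback_fiberToSpecResidueField_of_isPullback sq y'
  let m : f'.fiber y' ⟶ f.fiber (g y') :=
    pullback.map _ _ _ _ g' (Spec.map (g.residueFieldMap y')) g sq.w.symm (by simp)
  have h0 : m ≫ f.fiberι (g y') = f'.fiberι y' ≫ g' := pullback.lift_fst _ _ _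
  let ψ := g.residueFieldMap y'
  haveI : Flat (Spec.map ψ) := by
    rw [HasRingHomProperty.Spec_iff (P := @Flat)]
    letI := ψ.hom.toAlgebra
    show Module.Flat _ _
    infer_instance
  haveI : Surjective (Spec.map ψ) := ⟨fun x => ⟨(⊥ : PrimeSpectrum (Y'.residueField y')), Subsingleton.elim (α := PrimeSpectrum (Y.residueField (g y'))) _ _⟩⟩
  haveI : LocallyOfFiniteType f' := MorphismProperty.of_isPullback sq ‹_›
  haveI : LocallyOfFiniteType (f'.fiberToSpecResidueField y') :=
    MorphismProperty.pullback_snd f' (Y'.fromSpecResidueField y') inferInstance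
  refine ⟨m, MorphismProperty.of_isPullback H.flip ‹Flat (Spec.map ψ)›,
    MorphismProperty.of_isPullback H.flip ‹Surjective (Spec.map ψ)›,
    LocallyOfFiniteType.isLocallyNoetherian (f'.fiberToSpecResidueField y'),
    haveI : LocallyOfFiniteType (f.fiberToSpecResidueField (g y')) :=
      MorphismProperty.pullback_snd f (Y.fromSpecResidueField (g y')) inferInstance
    LocallyOfFiniteType.isLocallyNoetherian (f.fiberToSpecResidueField (g y')), fun z => ?_⟩
  rw [← Scheme.Hom.comp_apply, h0, Scheme.Hom.comp_apply]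

theorem fd_le (sq : IsPullback g' f' f g) (x : X') : fd f (g' x) ≤ fd f' x := by
  obtain ⟨m, hm, -, hN, hN', hmι⟩ := exists_fibre_map sq (f' x)
  rw [fd_eq f (m (f'.asFiber x)) (by rw [hmι, f'.fiberι_asFiber]), fd_eq f' (f'.asFiber x) (f'.fiberι_asFiber x)]
  exact dim_stalk_le m _

theorem exists_fd_eq (sq : IsPullback g' f' f g) (x : X) (y' : Y') (h : f x = g y') :
    ∃ x' : X', g' x' = x ∧ f' x' = y' ∧ fd f' x' = fd f x := by
  obtain ⟨m, hm, hms, hN, hN', hmι⟩ := exists_fibre_map sq y'
  obtain ⟨u, hu⟩ : x ∈ Set.range (f.fiberι (g y')) := by rw [f.range_fiberι]; exact h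
  obtain ⟨w, hw⟩ := m.surjective u
  obtain ⟨z, hzw, hzmax⟩ := exists_maximal_generization (X := m.fiber u) ((m.fiberHomeo u).symm ⟨w, hw⟩)
  have hmz : m (m.fiberι u z) = u := by
    have := Set.mem_range_self (f := m.fiberι u) z
    rwa [m.range_fiberι] at this
  refine ⟨f'.fiberι y' (m.fiberι u z), by rw [← hmι, hmz, hu], ?_, ?_⟩
  · have := Set.mem_range_self (f := f'.fiberι y') (m.fiberι u z)
    rwa [f'.range_fiberι] at this
  · rw [fd_eq f' (m.fiberι u z) rfl, fd_eq f u hu, dim_stalk_eq m (m.fiberι u z) fun v hv e => ?_, hmz]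
    rw [hmz] at e
    obtain ⟨v₀, rfl⟩ : v ∈ Set.range (m.fiberι u) := by rw [m.range_fiberι]; exact e
    rw [hzmax v₀ ((m.fiberι u).isEmbedding.toIsInducing.specializes_iff.1 hv)]

end Groth.L23.FibDimFormula
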