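import Groth.Agent.L23.SpaceFibreDim
import Groth.Agent.L02.CMMor.FibreDim
import Groth.Agent.L02.CMMor.Groupoid
import Groth.Agent.L07.OpenFibreDim
import Groth.Agent.L07.DimToolkit
import Groth.Agent.L07.OpenEquiv
import Groth.Agent.L23.LocalDimEtale

/-!
# Lower semicontinuity of the fibre dimension of flat morphisms
-/

universe u

open CategoryTheory CategoryTheory.Limits AlgebraicGeometry AlgSp Topology

set_option backward.isDefEq.respectTransparency.types false
set_option backward.isDefEq.respectTransparency false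
set_option maxSynthPendingDepth 3
set_option linter.style.haveILetI false

namespace Groth.L23.FibLSC

/-- Some generization of a point in its fibre has locally constant fibre dimension, equal to the one at the point. -/
theorem exists_open_const {X Y : Scheme.{u}} (f : X ⟶ Y) [Flat f] [LocallyOfFinitePresentation f] (u : X) :
    ∃ (z : X) (O : X.Opens), z ∈ O ∧ f z = f u ∧
      ∀ w ∈ O, FlatMor.fibreDimAt f w = FlatMor.fibreDimAt f u := by
  obtain ⟨z, -, hfz, hmax, hz⟩ := Groth.L07.OpenEquiv.exists_maximal_fdim_eq f u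
  haveI : IsLocallyNoetherian (f.fiber (f z)) :=
    haveI : LocallyOfFiniteType (f.fiberToSpecResidueField (f z)) :=
      inferInstanceAs (LocallyOfFiniteType (pullback.snd _ _))
    LocallyOfFiniteType.isLocallyNoetherian (f.fiberToSpecResidueField (f z))
  have hcm : MoreMor.IsCMAt f z :=
    ⟨Flat.stalkMap f z, L02.CMMor.cm_of_dim_le_zero (Groth.L07.DimToolkit.fibre_dim_zero f z hmax).le⟩
  let C : X.Opens := ⟨{x | MoreMor.IsCMAt f x}, L02.CMMor.isOpen_cmLocus f⟩
  have hlc := L02.CMMor.isLocallyConstant_fibreDimAt (C.ι ≫ f) fun w =>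
    (L02.CMMor.isCMAt_openImmersion_comp C.ι f w).2 w.2
  let O' : (C : Scheme.{u}).Opens := ⟨_, hlc.isOpen_fiber (FlatMor.fibreDimAt f u)⟩
  have e : ∀ w : C, FlatMor.fibreDimAt (C.ι ≫ f) w = FlatMor.fibreDimAt f (C.ι w) := fun w =>
    fibreDimAt_etale_comp C.ι f w
  refine ⟨z, ⟨C.ι '' (O' : Set (C : Scheme.{u})), C.ι.isOpenEmbedding.isOpenMap _ O'.2⟩,
    ⟨⟨z, hcm⟩, ?_, rfl⟩, hfz, ?_⟩
  · show FlatMor.fibreDimAt (C.ι ≫ f) ⟨z, hcm⟩ = _
    rw [e]
    exact (Groth.L07.OpenFibreDim.fdim_eq_fibreDimAt f z hmax).symm.trans hz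
  · rintro _ ⟨w, hw, rfl⟩
    exact (e w).symm.trans hw

variable {S : Scheme.{u}} {X Y : Sp S}

theorem isOpen_image_lt (hX : IsAlgSpace X) (hY : IsAlgSpace Y) {f : X ⟶ Y} (hf : LocP @Flat f)
    (hf' : LocP @LocallyOfFinitePresentation f) (d : WithBot ℕ∞) :
    IsOpen (Points.map f '' {x | HasAtMor (fun _ _ h u => d < FlatMor.fibreDimAt h u) f x}) := by
  obtain ⟨U, V, a, b, g, ha, has, hb, -, w⟩ := exists_chart hX hY f
  haveI : Flat g.left := hf a b g ha hb w
  haveI : LocallyOfFinitePresentation g.left := hf' a b g ha hb w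
  have hg : IsOpenMap g.left := g.left.isOpenMap
  have hm : ∀ v : U.left, Points.map f (Points.ofPt a v) = Points.ofPt b (g.left v) := fun v => by
    rw [Points.map_ofPt, w, ofPt_comp]
  rw [isOpen_iff_forall_mem_open]
  rintro _ ⟨x, hx, rfl⟩
  obtain ⟨u, rfl⟩ := surjective_ofPt has x
  have hu := (hasAtMor_fibreDim_iff (d < ·) ha hb w u).1 hx
  obtain ⟨z, O, hzO, hfz, hO⟩ := exists_open_const g.left u
  refine ⟨Points.ofPt b '' (g.left '' (O : Set U.left)), ?_, isOpenMap_ofPt hb _ (hg _ O.2),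
    ⟨_, ⟨z, hzO, rfl⟩, by rw [hfz, hm]⟩⟩
  rintro _ ⟨_, ⟨v, hv, rfl⟩, rfl⟩
  exact ⟨Points.ofPt a v, (hasAtMor_fibreDim_iff (d < ·) ha hb w v).2 (by rw [hO v hv]; exact hu), hm v⟩

theorem setOf_lt_dim_eq (hX : IsAlgSpace X) (hY : IsAlgSpace Y) {f : X ⟶ Y}
    (hf : LocP @LocallyOfFiniteType f) (d : WithBot ℕ∞) :
    {y : Points Y | ∀ (k : FieldPt Y), Points.mk k = y →
      ∀ (Xk : Sp S) (fst : Xk ⟶ X) (snd : Xk ⟶ (yon S).obj k.pt),
        IsPullback fst snd f k.toHom → d < dim Xk} =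
      Points.map f '' {x | HasAtMor (fun _ _ h u => d < FlatMor.fibreDimAt h u) f x} := by
  obtain ⟨U, V, a, b, g, ha, has, hb, -, w⟩ := exists_chart hX hY f
  ext y
  constructor
  · intro hy
    obtain ⟨k, hk⟩ := Points.mk_surjective y
    have h1 := hy k hk _ _ _ (IsPullback.of_hasPullback f k.toHom)
    by_contra hne
    refine not_le_of_gt h1 ((SpDim.dim_fibre_le_iff hX hY hf hk (IsPullback.of_hasPullback f k.toHom) d).2 fun x hx => ?_)
    obtain ⟨u, rfl⟩ := surjective_ofPt has x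
    refine (hasAtMor_fibreDim_iff (· ≤ d) ha hb w u).2 (not_lt.1 fun hlt => hne ⟨_, ?_, hx⟩)
    exact (hasAtMor_fibreDim_iff (d < ·) ha hb w u).2 hlt
  · rintro ⟨x, hx, rfl⟩ k hk Xk fst snd sq
    refine lt_of_not_ge fun hle => ?_
    obtain ⟨u, rfl⟩ := surjective_ofPt has x
    have h1 := (hasAtMor_fibreDim_iff (· ≤ d) ha hb w u).1 ((SpDim.dim_fibre_le_iff hX hY hf hk sq d).1 hle _ rfl)
    exact not_le_of_gt ((hasAtMor_fibreDim_iff (d < ·) ha hb w u).1 hx) h1

end Groth.L23.FibLSC
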