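import Groth.Agent.L03.FibreLocalDim
import Groth.Agent.L23.RelDim
import Groth.Agent.L23.LocalDimEtale

/-!
# Retrocompactness of the loci of bounded fibre dimension
-/

universe u

open CategoryTheory CategoryTheory.Limits AlgebraicGeometry AlgSp Topology

set_option backward.isDefEq.respectTransparency.types false
set_option linter.style.haveILetI false

namespace Groth.L23.FibRetro

theorem isCompact_inter_affine {X Y : Scheme.{u}} (h : X ⟶ Y) [LocallyOfFinitePresentation h] (n : ℕ)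
    {A : Y.Opens} (hA : IsAffineOpen A) {B : X.Opens} (hB : IsAffineOpen B) (hle : B ≤ h ⁻¹ᵁ A) :
    IsCompact ((B : Set X) ∩ {x | FlatMor.fibreDimAt h x ≤ n}) := by
  let ψ := h.appLE A B hle
  algebraize [ψ.hom]
  haveI : Algebra.FinitePresentation Γ(Y, A) Γ(X, B) :=
    HasRingHomProperty.appLE @LocallyOfFinitePresentation h ‹_› ⟨A, hA⟩ ⟨B, hB⟩ hle
  have e : hB.fromSpec ≫ h = Spec.map ψ ≫ hA.fromSpec := (hA.SpecMap_appLE_fromSpec h hB hle).symm
  have key : ∀ q : Spec Γ(X, B), FlatMor.fibreDimAt (Spec.map ψ) q = FlatMor.fibreDimAt h (hB.fromSpec q) :=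
    fun q => by rw [← fibreDimAt_etale_comp hB.fromSpec h q, e, fibreDimAt_comp_etale]
  have hset : (B : Set X) ∩ {x | FlatMor.fibreDimAt h x ≤ n} =
      hB.fromSpec '' {q : Spec Γ(X, B) | FlatMor.fibreDimAt (Spec.map ψ) q ≤ n} := by
    ext x
    constructor
    · rintro ⟨hxB, hx⟩
      obtain ⟨q, rfl⟩ : x ∈ Set.range hB.fromSpec := by rw [hB.range_fromSpec]; exact hxB
      exact ⟨q, (key q).trans_le hx, rfl⟩
    · rintro ⟨q, hq, rfl⟩
      exact ⟨hB.range_fromSpec.subset ⟨q, rfl⟩, (key q).symm.trans_le hq⟩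
  rw [hset]
  exact (Groth.L03.FibreLocalDim.isCompact_setOf (R := Γ(Y, A)) (S := Γ(X, B)) n).image hB.fromSpec.continuous

theorem exists_affine_pair {X Y : Scheme.{u}} (h : X ⟶ Y) {O : Set X} (hO : IsOpen O) {x : X} (hx : x ∈ O) :
    ∃ (A : Y.Opens) (B : X.Opens), IsAffineOpen A ∧ IsAffineOpen B ∧ B ≤ h ⁻¹ᵁ A ∧ x ∈ B ∧ (B : Set X) ⊆ O := by
  obtain ⟨_, ⟨A, hA, rfl⟩, hxA, -⟩ :=
    Y.isBasis_affineOpens.exists_subset_of_mem_open (Set.mem_univ (h x)) isOpen_univ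
  change Y.Opens at A
  obtain ⟨_, ⟨B, hB, rfl⟩, hxB, hBO⟩ :=
    X.isBasis_affineOpens.exists_subset_of_mem_open (show x ∈ O ∩ h ⁻¹' (A : Set Y) from ⟨hx, hxA⟩)
      (hO.inter (A.2.preimage h.continuous))
  change X.Opens at B
  exact ⟨A, B, hA, hB, fun z hz => (hBO hz).2, hxB, fun z hz => (hBO hz).1⟩

theorem isRetrocompact {X Y : Scheme.{u}} (h : X ⟶ Y) [LocallyOfFinitePresentation h] (n : ℕ) :
    IsRetrocompact {x : X | FlatMor.fibreDimAt h x ≤ n} := by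
  intro K hK hKo
  choose A B hA hB hle hxB hBK using fun x : K => exists_affine_pair h hKo x.2
  obtain ⟨s, hs⟩ := hK.elim_finite_subcover (fun x => (B x : Set X)) (fun x => (B x).2)
    fun x hx => Set.mem_iUnion.2 ⟨⟨x, hx⟩, hxB ⟨x, hx⟩⟩
  have e : {x : X | FlatMor.fibreDimAt h x ≤ n} ∩ K = ⋃ x ∈ s, (B x : Set X) ∩ {x | FlatMor.fibreDimAt h x ≤ n} := by
    ext z
    simp only [Set.mem_inter_iff, Set.mem_iUnion, exists_prop]
    constructor
    · rintro ⟨hz, hzK⟩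
      obtain ⟨i, hi, hzi⟩ := Set.mem_iUnion₂.1 (hs hzK)
      exact ⟨i, hi, hzi, hz⟩
    · rintro ⟨i, -, hzi, hz⟩
      exact ⟨hz, hBK i hzi⟩
  rw [e]
  exact s.finite_toSet.isCompact_biUnion fun x _ => isCompact_inter_affine h n (hA x) (hB x) (hle x)

end Groth.L23.FibRetro
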