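import Groth.Agent.L23.LocP
import Groth.Agent.L23.TargetLocal
import Groth.Prelude.Def_AlgSpCov
import Mathlib.AlgebraicGeometry.Morphisms.UniversallyOpen

/-!
# Open morphisms are fppf local on the source
-/

universe u

open CategoryTheory CategoryTheory.Limits AlgebraicGeometry AlgSp Opposite Topology

set_option backward.isDefEq.respectTransparency.types false

namespace Groth.L23

variable {S : Scheme.{u}}

/-- Flat morphisms locally of finite presentation are open on points. -/
theorem isOpenMap_of_locP_flat_lfp {X Y : Sp S} (hX : IsAlgSpace X) (hY : IsAlgSpace Y) {g : X ⟶ Y}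
    (h₁ : LocP @Flat g) (h₂ : LocP @LocallyOfFinitePresentation g) : IsOpenMap (Points.map g) := by
  obtain ⟨U, V, a, b, k, ha, has, hb, -, w⟩ := exists_chart hX hY g
  have := h₁ a b k ha hb w
  have := h₂ a b k ha hb w
  intro A hA
  have e : Points.map g '' A = Points.ofPt b '' (k.left '' (Points.ofPt a ⁻¹' A)) := by
    ext y
    constructor
    · rintro ⟨x, hx, rfl⟩
      obtain ⟨u, rfl⟩ := surjective_ofPt has x
      exact ⟨k.left u, ⟨u, hx, rfl⟩, by rw [Points.map_ofPt, w, ofPt_comp]⟩
    · rintro ⟨_, ⟨u, hu, rfl⟩, rfl⟩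
      exact ⟨_, hu, by rw [Points.map_ofPt, w, ofPt_comp]⟩
  rw [e]
  exact isOpenMap_ofPt hb _ (k.left.isOpenMap _ (hA.preimage (Points.continuous_ofPt a)))

theorem isLocalOnSource_fppf_open : IsLocalOnSource (S := S) IsFppfCover IsOpenMor := by
  intro ι X Xi g hX hXi hg Y f hY
  refine ⟨fun hf i => ?_, fun h A hA => ?_⟩
  · intro A hA
    have h1 : IsOpen (Points.map (g i) '' A) :=
      isOpenMap_of_locP_flat_lfp (hXi i) hX (hg.1 i).1 (hg.1 i).2 A hA
    refine (congrArg IsOpen ?_).mp (hf _ h1)
    rw [Set.image_image]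
    simp only [← Points.map_comp]
  · have e : Points.map f '' A = ⋃ i, Points.map (g i ≫ f) '' (Points.map (g i) ⁻¹' A) := by
      ext y
      constructor
      · rintro ⟨x, hx, rfl⟩
        obtain ⟨i, w, rfl⟩ := hg.2 x
        exact Set.mem_iUnion.2 ⟨i, w, hx, Points.map_comp _ _ _⟩
      · intro hy
        obtain ⟨i, w, hw, rfl⟩ := Set.mem_iUnion.1 hy
        exact ⟨_, hw, (Points.map_comp _ _ _).symm⟩
    rw [e]
    exact isOpen_iUnion fun i => h i _ (hA.preimage (Points.continuous_map _))

theorem isLocalOnSource_fppf_univOpen : IsLocalOnSource (S := S) IsFppfCover IsUnivOpenMor := by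
  intro ι X Xi g hX hXi hg Y f hY
  refine ⟨fun hf i Z Q hZ k fst snd s => ?_, fun h => (isUnivOpenMor_iff_affine f).2 fun W hW k => ?_⟩
  · have sZ := IsPullback.of_hasPullback f k
    have hP : IsAlgSpace (pullback f k) := isAlgSpace_of_isPullback hY.diag hX hZ sZ
    let m : Q ⟶ pullback f k := sZ.lift (fst ≫ g i) snd (by rw [Category.assoc]; exact s.w)
    have sm : IsPullback fst m (g i) (pullback.fst f k) := by
      refine IsPullback.of_bot ?_ (sZ.lift_fst _ _ _).symm sZ
      rw [sZ.lift_snd]
      exact s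
    have hQ : IsAlgSpace Q := isAlgSpace_of_isPullback hX.diag (hXi i) hP sm
    have hm : IsOpenMap (Points.map m) := isOpenMap_of_locP_flat_lfp hQ hP
      (locP_of_isPullback etLocal_flat (hXi i) hX hP sm (hg.1 i).1)
      (locP_of_isPullback etLocal_lfp (hXi i) hX hP sm (hg.1 i).2)
    intro A hA
    have h2 : IsOpen (Points.map (pullback.snd f k) '' (Points.map m '' A)) :=
      hf hZ k _ _ sZ _ (hm A hA)
    refine (congrArg IsOpen ?_).mp h2
    rw [Set.image_image]
    simp only [← Points.map_comp, m, sZ.lift_snd]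
  · have sZ := IsPullback.of_hasPullback f k
    have hZ := IsAlgSpace.yon_obj W
    have hP : IsAlgSpace (pullback f k) := isAlgSpace_of_isPullback hY.diag hX hZ sZ
    have hQ : ∀ i, IsAlgSpace (pullback (g i) (pullback.fst f k)) := fun i =>
      isAlgSpace_of_isPullback hX.diag (hXi i) hP (IsPullback.of_hasPullback _ _)
    refine (isLocalOnSource_fppf_open (fun i => pullback (g i) (pullback.fst f k)) (fun i => pullback.snd _ _)
      hP hQ ⟨fun i => ⟨locP_of_isPullback etLocal_flat (hXi i) hX hP (IsPullback.of_hasPullback _ _) (hg.1 i).1,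
        locP_of_isPullback etLocal_lfp (hXi i) hX hP (IsPullback.of_hasPullback _ _) (hg.1 i).2⟩, fun x => ?_⟩
      (pullback.snd f k) hZ).2 fun i => ?_
    · obtain ⟨i, y, hy⟩ := hg.2 (Points.map (pullback.fst f k) x)
      obtain ⟨p, -, hp⟩ := exists_of_isPullback (IsPullback.of_hasPullback (g i) (pullback.fst f k)) y x hy
      exact ⟨i, p, hp⟩
    · exact h i hZ k (pullback.fst (g i) (pullback.fst f k)) _
        ((IsPullback.of_hasPullback (g i) (pullback.fst f k)).paste_vert sZ)

end Groth.L23
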