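import Groth.Prelude.Def_AlgSpCov
import Groth.Agent.L23.OpenSub
import Groth.Agent.L23.SourceOpen
import Groth.Agent.L23.EtSmLocal

/-!
# The largest open over which a morphism has a property that is local on the base
-/

universe u

open CategoryTheory CategoryTheory.Limits AlgebraicGeometry AlgSp TopologicalSpace

set_option backward.isDefEq.respectTransparency.types false

namespace Groth.L23.LargestOpen

variable {S : Scheme.{u}}

/-- What is used of the class of covering morphisms. -/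
structure CovClass (C : MorphismProperty (Sp S)) : Prop where
  openImm : ∀ {X Y : Sp S}, IsAlgSpace X → IsAlgSpace Y → ∀ {j : X ⟶ Y}, RepWith @IsOpenImmersion j → C j
  comp : ∀ {X Y Z : Sp S}, IsAlgSpace X → IsAlgSpace Y → IsAlgSpace Z → ∀ {f : X ⟶ Y} {g : Y ⟶ Z},
    C f → C g → C (f ≫ g)
  baseChange : ∀ {X Y X' Y' : Sp S}, IsAlgSpace X → IsAlgSpace Y → IsAlgSpace X' → IsAlgSpace Y' →
    ∀ {f : X ⟶ Y} {g : Y' ⟶ Y} {fst : X' ⟶ X} {f' : X' ⟶ Y'}, IsPullback fst f' f g → C f → C f'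
  isOpen_range : ∀ {X Y : Sp S}, IsAlgSpace X → IsAlgSpace Y → ∀ {f : X ⟶ Y}, C f →
    IsOpen (Set.range (Points.map f))

variable {C : MorphismProperty (Sp S)} {P : MorphismProperty (Sp S)}
  (hC : CovClass C) (hP : IsLocalOnBase (fun _ _ Y g => IsCover C Y g) P)

/-- `f` has `P` over the open `V` of the points of its target. -/
def Good (P : MorphismProperty (Sp S)) {X Y : Sp S} (f : X ⟶ Y) (V : Opens (Points Y)) : Prop :=
  ∀ (W X' : Sp S) (j : W ⟶ Y) (j' : X' ⟶ X) (f' : X' ⟶ W), IsAlgSpace W → IsAlgSpace X' →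
    RepWith @IsOpenImmersion j → Set.range (Points.map j) = (V : Set (Points Y)) → IsPullback j' f' f j → P f'

lemma isAlgSpace_dom {X Y : Sp S} (hY : IsAlgSpace Y) {j : X ⟶ Y} (hj : RepWith @IsOpenImmersion j) :
    IsAlgSpace X := isAlgSpace_of_representable_to hY hj.1

include hC in
lemma factor_mem {Z W Y : Sp S} (hZ : IsAlgSpace Z) (hW : IsAlgSpace W) (hY : IsAlgSpace Y) {g : Z ⟶ W}
    {j : W ⟶ Y} (hj : RepWith @IsOpenImmersion j) (h : C (g ≫ j)) : C g := by
  have := mono_of_repWith_openImmersion hj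
  exact hC.baseChange hZ hY hZ hW (fst := 𝟙 Z) (f' := g) (f := g ≫ j) (g := j)
    (IsPullback.of_isLimit' ⟨by simp⟩ (PullbackCone.IsLimit.mk _ (fun s => s.fst) (fun s => Category.comp_id _)
      (fun s => by
        rw [← cancel_mono j, Category.assoc]
        exact s.condition)
      (fun s m h1 _ => by rw [← h1, Category.comp_id]))) h

include hC hP

lemma bc {X Y X' Y' : Sp S} (hX : IsAlgSpace X) (hY : IsAlgSpace Y) (hX' : IsAlgSpace X') (hY' : IsAlgSpace Y')
    {f : X ⟶ Y} {g : Y' ⟶ Y} {f' : X' ⟶ Y'} {g' : X' ⟶ X} (sq : IsPullback g' f' f g) (hg : C g) (hf : P f) :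
    P f' :=
  (hP (ι := ULift.{u} Bool) (fun b => cond b.down Y' Y)
    (fun b => match b with | ⟨true⟩ => g | ⟨false⟩ => 𝟙 Y) hY (fun b => by rcases b with ⟨_ | _⟩ <;> assumption)
    ⟨fun b => by
      rcases b with ⟨_ | _⟩
      · exact hC.openImm hY hY (repWith_of_isIso (𝟙 Y))
      · exact hg, fun y => ⟨⟨false⟩, y, by show Points.map (𝟙 Y) y = y; rw [Points.map_id]⟩⟩ f hX
    (fun b => cond b.down X' X) (fun b => match b with | ⟨true⟩ => f' | ⟨false⟩ => f)
    (fun b => match b with | ⟨true⟩ => g' | ⟨false⟩ => 𝟙 X) (fun b => by rcases b with ⟨_ | _⟩ <;> assumption)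
    (fun b => by
      rcases b with ⟨_ | _⟩
      · show IsPullback (𝟙 X) f f (𝟙 Y)
        exact IsPullback.of_horiz_isIso ⟨by simp⟩
      · exact sq)).1 hf ⟨true⟩

lemma desc {X Y X' Y' : Sp S} (hX : IsAlgSpace X) (hY : IsAlgSpace Y) (hX' : IsAlgSpace X') (hY' : IsAlgSpace Y')
    {f : X ⟶ Y} {g : Y' ⟶ Y} {f' : X' ⟶ Y'} {g' : X' ⟶ X} (sq : IsPullback g' f' f g) (hg : C g)
    (hgs : ∀ y, y ∈ Set.range (Points.map g)) (hf' : P f') : P f :=
  (hP (ι := PUnit.{u + 1}) (fun _ => Y') (fun _ => g) hY (fun _ => hY') ⟨fun _ => hg, fun y => ⟨⟨⟩, hgs y⟩⟩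
    f hX (fun _ => X') (fun _ => f') (fun _ => g') (fun _ => hX') (fun _ => sq)).2 fun _ => hf'

/-- If `f` has `P` after a base change in the class, then it has `P` over the image. -/
lemma good_range {X Y X' Y' : Sp S} (hX : IsAlgSpace X) (hY : IsAlgSpace Y) (hX' : IsAlgSpace X')
    (hY' : IsAlgSpace Y') {f : X ⟶ Y} {g : Y' ⟶ Y} {g' : X' ⟶ X} {f' : X' ⟶ Y'} (sq : IsPullback g' f' f g)
    (hg : C g) (hf' : P f') : Good P f ⟨Set.range (Points.map g), hC.isOpen_range hY' hY hg⟩ := by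
  intro W X₀ j j' f₀ hW hX₀ hj hr sq₀
  obtain ⟨g₀, rfl⟩ := (exists_factor_iff hj g).2 (by rw [hr]; rfl)
  refine desc hC hP hX₀ hW hX' hY' (g := g₀) (g' := sq₀.lift g' (f' ≫ g₀) (by rw [Category.assoc]; exact sq.w))
    (IsPullback.of_right (by rw [sq₀.lift_fst]; exact sq) (sq₀.lift_snd _ _ _) sq₀)
    (factor_mem hC hY' hW hY hj hg) (fun w => ?_) hf'
  have : Points.map j w ∈ Set.range (Points.map (g₀ ≫ j)) := by
    have := Set.mem_range_self (f := Points.map j) w
    rw [hr] at this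
    exact this
  obtain ⟨y, hy⟩ := this
  refine ⟨y, (isEmbedding_map_of_immersion hY
    (repWith_mono (fun φ (_ : IsOpenImmersion φ) => inferInstanceAs (IsImmersion φ)) hj)).1.injective ?_⟩
  rw [← hy, Points.map_comp]

lemma good_preimage {X Y X' Y' : Sp S} (hX : IsAlgSpace X) (hY : IsAlgSpace Y) (hX' : IsAlgSpace X')
    (hY' : IsAlgSpace Y') {f : X ⟶ Y} {g : Y' ⟶ Y} {g' : X' ⟶ X} {f' : X' ⟶ Y'} (sq : IsPullback g' f' f g)
    (hg : C g) {V : Opens (Points Y)} (hV : Good P f V) :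
    Good P f' ⟨Points.map g ⁻¹' V, V.isOpen.preimage (Points.continuous_map g)⟩ := by
  intro W X₀ j j' f₀ hW hX₀ hj hr sq₀
  have hWV := isAlgSpace_openSub V hY
  obtain ⟨m, hm⟩ := (exists_factor_iff (repWith_openSubι V) (j ≫ g)).2 (by
    rintro _ ⟨w, rfl⟩
    rw [range_openSubι, Points.map_comp]
    have : Points.map j w ∈ Set.range (Points.map j) := ⟨w, rfl⟩
    rw [hr] at this
    exact this)
  have sqV := IsPullback.of_hasPullback f (openSubι V)
  have hXV : IsAlgSpace (pullback f (openSubι V)) := isAlgSpace_of_isPullback hY.diag hX hWV sqV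
  have hPV := hV _ _ _ _ _ hWV hXV (repWith_openSubι V) (range_openSubι V) sqV
  refine bc hC hP hXV hWV hX₀ hW (g' := sqV.lift (j' ≫ g') (f₀ ≫ m)
    (by rw [Category.assoc, Category.assoc, hm, sq.w, sq₀.w_assoc]))
    (IsPullback.of_right (by rw [sqV.lift_fst, hm]; exact sq₀.paste_horiz sq) (sqV.lift_snd _ _ _) sqV) ?_ hPV
  refine factor_mem hC hW hWV hY (repWith_openSubι V) ?_
  rw [hm]
  exact hC.comp hW hY' hY (hC.openImm hW hY' hj) hg

lemma subset_of_good {X Y X' Y' : Sp S} (hX : IsAlgSpace X) (hY : IsAlgSpace Y) (hX' : IsAlgSpace X')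
    (hY' : IsAlgSpace Y') {f : X ⟶ Y} {g : Y' ⟶ Y} {g' : X' ⟶ X} {f' : X' ⟶ Y'} (sq : IsPullback g' f' f g)
    (hg : C g) {W : Opens (Points Y)} (hmax : ∀ V, Good P f V → V ≤ W) {V' : Opens (Points Y')}
    (hV' : Good P f' V') : (V' : Set (Points Y')) ⊆ Points.map g ⁻¹' W := by
  have hU := isAlgSpace_openSub V' hY'
  have sqU := IsPullback.of_hasPullback f' (openSubι V')
  have hXU : IsAlgSpace (pullback f' (openSubι V')) := isAlgSpace_of_isPullback hY'.diag hX' hU sqU
  have h1 := good_range hC hP hX hY hXU hU (sqU.paste_horiz sq)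
    (hC.comp hU hY' hY (hC.openImm hU hY' (repWith_openSubι V')) hg)
    (hV' _ _ _ _ _ hU hXU (repWith_openSubι V') (range_openSubι V') sqU)
  intro y hy
  refine hmax _ h1 ?_
  rw [← range_openSubι V'] at hy
  obtain ⟨u, rfl⟩ := hy
  exact ⟨u, Points.map_comp _ _ _⟩

/-- There is a largest open over which `f` has `P`. -/
theorem exists_largest {X Y : Sp S} (hX : IsAlgSpace X) (hY : IsAlgSpace Y) (f : X ⟶ Y) :
    ∃ W : Opens (Points Y), Good P f W ∧ ∀ V, Good P f V → V ≤ W := by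
  refine ⟨sSup {V | Good P f V}, fun W X₀ j j' f₀ hW hX₀ hj hr sq₀ => ?_, fun V hV => le_sSup hV⟩
  obtain ⟨T, b, hb, hbs⟩ := hY.atlas
  have key : ∀ t : {t : T.left // Points.ofPt b t ∈ sSup {V | Good P f V}}, ∃ V : Opens (Points Y),
      Good P f V ∧ Points.ofPt b t.1 ∈ V := fun t => Opens.mem_sSup.1 t.2
  choose V hV ht using key
  have hU : ∀ t, IsAlgSpace (openSub (V t)) := fun t => isAlgSpace_openSub _ hY
  have hfac : ∀ t, ∃ m : openSub (V t) ⟶ W, m ≫ j = openSubι (V t) := fun t => (exists_factor_iff hj _).2 (by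
    rw [range_openSubι, hr]; exact SetLike.coe_subset_coe.2 (le_sSup (hV t)))
  choose m hm using hfac
  have sqV := fun t => IsPullback.of_hasPullback f (openSubι (V t))
  have hXU : ∀ t, IsAlgSpace (pullback f (openSubι (V t))) :=
    fun t => isAlgSpace_of_isPullback hY.diag hX (hU t) (sqV t)
  refine (hP (fun t => openSub (V t)) m hW hU
    ⟨fun t => factor_mem hC (hU t) hW hY hj (by rw [hm]; exact hC.openImm (hU t) hY (repWith_openSubι _)),
      fun w => ?_⟩ f₀ hX₀ _
    (fun t => pullback.snd f (openSubι (V t)))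
    (fun t => sq₀.lift (pullback.fst f (openSubι (V t))) (pullback.snd f (openSubι (V t)) ≫ m t)
      (by rw [Category.assoc, hm]; exact (sqV t).w)) hXU fun t =>
    IsPullback.of_right (by rw [sq₀.lift_fst, hm]; exact sqV t) (sq₀.lift_snd _ _ _) sq₀).2
    fun t => hV t _ _ _ _ _ (hU t) (hXU t) (repWith_openSubι _) (range_openSubι _) (sqV t)
  have hw : Points.map j w ∈ Set.range (Points.map j) := ⟨w, rfl⟩
  rw [hr] at hw
  obtain ⟨t, htb⟩ := surjective_ofPt hbs (Points.map j w)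
  let t' : {t : T.left // Points.ofPt b t ∈ sSup {V | Good P f V}} := ⟨t, by rw [htb]; exact hw⟩
  have hu : Points.map j w ∈ Set.range (Points.map (openSubι (V t'))) := by
    rw [range_openSubι, ← htb]; exact ht t'
  obtain ⟨u, hu⟩ := hu
  refine ⟨t', u, (isEmbedding_map_of_immersion hY
    (repWith_mono (fun φ (_ : IsOpenImmersion φ) => inferInstanceAs (IsImmersion φ)) hj)).1.injective ?_⟩
  rw [← Points.map_comp, hm, hu]

omit hC hP in
/-- The form of `Good` in which the statements are written. -/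
lemma good_iff {X Y : Space S} (f : X ⟶ Y) (V : Opens (Points Y.obj)) : Good P f.hom V ↔
    ∀ (W X' : Space S) (j : W ⟶ Y) (j' : X' ⟶ X) (f' : X' ⟶ W), RepWith @IsOpenImmersion j.hom →
      Set.range (Points.map j.hom) = (V : Set (Points Y.obj)) → IsPullback j'.hom f'.hom f.hom j.hom → P f'.hom :=
  ⟨fun h W X' j j' f' hj hr sq => h _ _ _ _ _ W.property X'.property hj hr sq,
    fun h W X' j j' f' hW hX' hj hr sq => h ⟨W, hW⟩ ⟨X', hX'⟩ (ObjectProperty.homMk j) (ObjectProperty.homMk j')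
      (ObjectProperty.homMk f') hj hr sq⟩

/-- The statement. -/
theorem main {X Y : Space S} (f : X ⟶ Y) :
    ∃ W : Opens (Points Y.obj),
      (∀ (W₀ X₀ : Space S) (j₀ : W₀ ⟶ Y) (j₀' : X₀ ⟶ X) (f₀ : X₀ ⟶ W₀), RepWith @IsOpenImmersion j₀.hom →
        Set.range (Points.map j₀.hom) = (W : Set (Points Y.obj)) →
        IsPullback j₀'.hom f₀.hom f.hom j₀.hom → P f₀.hom) ∧
      (∀ V : Opens (Points Y.obj),
        (∀ (W₁ X₁ : Space S) (j₁ : W₁ ⟶ Y) (j₁' : X₁ ⟶ X) (f₁ : X₁ ⟶ W₁), RepWith @IsOpenImmersion j₁.hom →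
          Set.range (Points.map j₁.hom) = (V : Set (Points Y.obj)) →
          IsPullback j₁'.hom f₁.hom f.hom j₁.hom → P f₁.hom) → V ≤ W) ∧
      (∀ (Y' X' : Space S) (g : Y' ⟶ Y) (g' : X' ⟶ X) (f' : X' ⟶ Y'),
        C g.hom → IsPullback g'.hom f'.hom f.hom g.hom → P f'.hom →
        Set.range (Points.map g.hom) ⊆ (W : Set (Points Y.obj))) ∧
      (∀ (Y' X' : Space S) (g : Y' ⟶ Y) (g' : X' ⟶ X) (f' : X' ⟶ Y'),
        C g.hom → IsPullback g'.hom f'.hom f.hom g.hom → ∀ W' : Opens (Points Y'.obj),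
          (∀ (W₂ X₂ : Space S) (j₂ : W₂ ⟶ Y') (j₂' : X₂ ⟶ X') (f₂ : X₂ ⟶ W₂), RepWith @IsOpenImmersion j₂.hom →
            Set.range (Points.map j₂.hom) = (W' : Set (Points Y'.obj)) →
            IsPullback j₂'.hom f₂.hom f'.hom j₂.hom → P f₂.hom) →
          (∀ V' : Opens (Points Y'.obj),
            (∀ (W₃ X₃ : Space S) (j₃ : W₃ ⟶ Y') (j₃' : X₃ ⟶ X') (f₃ : X₃ ⟶ W₃), RepWith @IsOpenImmersion j₃.hom →
              Set.range (Points.map j₃.hom) = (V' : Set (Points Y'.obj)) →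
              IsPullback j₃'.hom f₃.hom f'.hom j₃.hom → P f₃.hom) → V' ≤ W') →
          (W' : Set (Points Y'.obj)) = Points.map g.hom ⁻¹' (W : Set (Points Y.obj))) := by
  obtain ⟨W, hW, hmax⟩ := exists_largest hC hP X.property Y.property f.hom
  refine ⟨W, (good_iff f W).1 hW, fun V hV => hmax V ((good_iff f V).2 hV), ?_, ?_⟩
  · intro Y' X' g g' f' hg sq hf'
    exact hmax _ (good_range hC hP X.property Y.property X'.property Y'.property sq hg hf')
  · intro Y' X' g g' f' hg sq W' hW' hmax'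
    refine Set.Subset.antisymm
      (subset_of_good hC hP X.property Y.property X'.property Y'.property sq hg hmax ((good_iff f' W').2 hW')) ?_
    exact hmax' _ ((good_iff f' _).1 (good_preimage hC hP X.property Y.property X'.property Y'.property sq hg hW))

omit hC hP in
lemma covClass_flat_lfp : CovClass (S := S) (fun _ _ f => LocP @Flat f ∧ LocP @LocallyOfFinitePresentation f) where
  openImm hX hY _ hj := ⟨locP_of_repWith etLocal_flat (repWith_mono (fun φ (_ : IsOpenImmersion φ) =>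
      inferInstanceAs (Flat φ)) hj), locP_of_repWith etLocal_lfp (repWith_mono (fun φ (_ : IsOpenImmersion φ) =>
      inferInstanceAs (LocallyOfFinitePresentation φ)) hj)⟩
  comp hX hY hZ _ _ hf hg := ⟨locP_comp etLocal_flat hX hY hZ hf.1 hg.1, locP_comp etLocal_lfp hX hY hZ hf.2 hg.2⟩
  baseChange hX hY _ hY' _ _ _ _ sq hf :=
    ⟨locP_of_isPullback etLocal_flat hX hY hY' sq hf.1, locP_of_isPullback etLocal_lfp hX hY hY' sq hf.2⟩
  isOpen_range hX hY _ hf := (isOpenMap_of_locP_flat_lfp hX hY hf.1 hf.2).isOpen_range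

omit hC hP in
lemma covClass_smooth : CovClass (S := S) (LocP @Smooth) where
  openImm hX hY _ hj := locP_of_repWith etLocal_smooth (repWith_mono (fun φ (_ : IsOpenImmersion φ) =>
      inferInstanceAs (Smooth φ)) hj)
  comp hX hY hZ _ _ hf hg := locP_comp etLocal_smooth hX hY hZ hf hg
  baseChange hX hY _ hY' _ _ _ _ sq hf := locP_of_isPullback etLocal_smooth hX hY hY' sq hf
  isOpen_range hX hY _ hf := covClass_flat_lfp.isOpen_range hX hY
    ⟨locP_mono (fun φ (_ : Smooth φ) => inferInstanceAs (Flat φ)) hf,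
      locP_mono (fun φ (_ : Smooth φ) => inferInstanceAs (LocallyOfFinitePresentation φ)) hf⟩

omit hC hP in
lemma covClass_etale : CovClass (S := S) IsEtaleMor where
  openImm hX hY _ hj := (isEtaleMor_iff_locP hX hY _).2 (locP_of_repWith etLocal_etale
    (repWith_mono (fun φ (_ : IsOpenImmersion φ) => inferInstanceAs (Etale φ)) hj))
  comp hX hY hZ _ _ hf hg := (isEtaleMor_iff_locP hX hZ _).2 (locP_comp etLocal_etale hX hY hZ
    ((isEtaleMor_iff_locP hX hY _).1 hf) ((isEtaleMor_iff_locP hY hZ _).1 hg))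
  baseChange hX hY hX' hY' _ _ _ _ sq hf := (isEtaleMor_iff_locP hX' hY' _).2
    (locP_of_isPullback etLocal_etale hX hY hY' sq ((isEtaleMor_iff_locP hX hY _).1 hf))
  isOpen_range hX hY _ hf := covClass_smooth.isOpen_range hX hY (locP_smooth_of_isEtaleMor hX hY hf)

end Groth.L23.LargestOpen
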