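import Groth.Agent.L23.QFPoints
import Groth.Agent.L23.LargestOpen
import Groth.Agent.L09.Where.Unram
import Mathlib.CategoryTheory.Monoidal.Cartesian.Grp

/-!
# Group algebraic spaces are unramified, or quasi-finite, as soon as they are along the unit
-/

universe u

open CategoryTheory CategoryTheory.Limits AlgebraicGeometry AlgSp MonoidalCategory MonObj CartesianMonoidalCategory
  TopologicalSpace

set_option backward.isDefEq.respectTransparency.types false
set_option backward.isDefEq.respectTransparency false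
set_option linter.style.haveILetI false

namespace Groth.L23.GrpUnit

variable {S : Scheme.{u}} {B : Sp S}

/-- What is used of a property of morphisms given point by point. -/
structure PtLocal (P : MorphismProperty Scheme.{u})
    (A : ∀ ⦃X Y : Sp S⦄, (X ⟶ Y) → Points X → Prop) : Prop where
  locP_iff : ∀ {X Y : Sp S}, IsAlgSpace X → IsAlgSpace Y → ∀ {f : X ⟶ Y}, LocP P f ↔ ∀ x, A f x
  isOpen : ∀ {X Y : Sp S}, IsAlgSpace X → IsAlgSpace Y → ∀ (f : X ⟶ Y), IsOpen {x | A f x}
  bc : ∀ {X Y X' Y' : Sp S}, IsAlgSpace X → IsAlgSpace Y → IsAlgSpace Y' → ∀ {f : X ⟶ Y} {g : Y' ⟶ Y}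
    {p : X' ⟶ X} {f' : X' ⟶ Y'}, IsPullback p f' f g → LocP @LocallyOfFiniteType f →
    ∀ x', A f' x' ↔ A f (Points.map p x')

theorem ptLocal_unr : PtLocal (S := S) L09.Where.Unr
    (fun _ _ f x => HasAtMor (fun _ _ h u => L09.Where.NearPt L09.Where.Unr h u) f x) where
  locP_iff hX hY _ := L09.Where.locP_unr_iff hX hY
  isOpen hX hY _ := L09.Where.isOpen_hasAtMor etLocal_unramified hX hY
  bc {_ Y _ _} hX hY hY' _ g _ _ sq hf x' := L09.Where.unr_baseChange_iff hX hY hY hY' (q := 𝟙 Y) (g := g)
    (by rw [Category.comp_id]; exact hf) (IsPullback.of_vert_isIso ⟨by simp⟩ : IsPullback g (𝟙 _) (𝟙 Y) g) sq x'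

theorem ptLocal_lqf : PtLocal (S := S) (@LocallyQuasiFinite ⊓ @LocallyOfFiniteType)
    (fun _ _ f x => HasAtMor QFL.qfAt f x) where
  locP_iff hX hY _ := ⟨QFL.hasAtMor_of_locP hX hY, QFL.locP_of_hasAtMor⟩
  isOpen _ _ f := QFL.isOpen_qfSet f
  bc hX hY hY' _ _ _ _ sq hf _ := ⟨fun H => QFL.hasAtMor_descend hX hY hY' sq hf H,
    fun H => QFL.hasAtMor_of_isPullback hY' sq H⟩

variable {G : Over B} [GrpObj G]

/-- The multiplication square of a group is cartesian. -/
theorem isPullback_mul : IsPullback μ[G].left (snd G G).left G.hom G.hom := by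
  have sq : IsPullback (fst G G).left (snd G G).left G.hom G.hom := IsPullback.of_hasPullback G.hom G.hom
  let τ : (G ⊗ G : Over B) ≅ (G ⊗ G : Over B) :=
    { hom := lift (fst G G * snd G G) (snd G G)
      inv := lift (fst G G * (snd G G)⁻¹) (snd G G)
      hom_inv_id := by
        apply CartesianMonoidalCategory.hom_ext <;>
          simp [comp_mul, GrpObj.comp_inv, mul_assoc]
      inv_hom_id := by
        apply CartesianMonoidalCategory.hom_ext <;>
          simp [comp_mul, GrpObj.comp_inv, mul_assoc] }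
  have hμ : fst G G * snd G G = μ[G] := by rw [MonObj.mul_eq_mul]
  refine sq.of_iso ((Over.forget B).mapIso τ).symm (Iso.refl _) (Iso.refl _) (Iso.refl _) ?_ ?_
    (by simp) (by simp)
  · show _ ≫ 𝟙 _ = τ.inv.left ≫ μ[G].left
    rw [Category.comp_id, ← Over.comp_left]
    congr 1
    simp [τ, ← hμ, comp_mul, mul_assoc]
  · show _ ≫ 𝟙 _ = τ.inv.left ≫ (snd G G).left
    rw [Category.comp_id, ← Over.comp_left]
    congr 1
    simp [τ]

variable {P : MorphismProperty Scheme.{u}} {A : ∀ ⦃X Y : Sp S⦄, (X ⟶ Y) → Points X → Prop}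
  (hP : PtLocal P A) (hB : IsAlgSpace B) (hG : IsAlgSpace G.left)
  (hlft : LocP @LocallyOfFiniteType G.hom)

include hP hB hG hlft

/-- The property at a point is the property at the unit under it. -/
theorem at_iff_unit (x : Points G.left) : A G.hom x ↔ A G.hom (Points.map (η[G]).left (Points.map G.hom x)) := by
  let σ : G ⟶ (G ⊗ G : Over B) := lift (toUnit G ≫ η[G]) (𝟙 G)
  have sq : IsPullback (fst G G).left (snd G G).left G.hom G.hom := IsPullback.of_hasPullback G.hom G.hom
  have h1 := hP.bc hG hB hG sq hlft (Points.map σ.left x)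
  have h2 := hP.bc hG hB hG (isPullback_mul (G := G)) hlft (Points.map σ.left x)
  have e1 : σ.left ≫ (fst G G).left = G.hom ≫ (η[G]).left := by
    rw [← Over.comp_left, lift_fst, Over.comp_left, Over.toUnit_left]
  have e2 : σ.left ≫ μ[G].left = 𝟙 _ := by
    rw [← Over.comp_left, ← Over.id_left]
    congr 1
    rw [← Hom.mul_def, ← Hom.one_def, _root_.one_mul]
  rw [← Points.map_comp] at h1 h2
  rw [e1, Points.map_comp] at h1
  rw [e2, Points.map_id] at h2
  exact h2.symm.trans h1

theorem locP_iff_unit : LocP P G.hom ↔ ∀ b, A G.hom (Points.map (η[G]).left b) := by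
  refine (hP.locP_iff hG hB).trans ⟨fun H b => H _, fun H x => ?_⟩
  exact (at_iff_unit hP hB hG hlft x).2 (H _)

/-- The property after a base change, in terms of the unit. -/
theorem locP_baseChange_iff {T Q : Sp S} (hT : IsAlgSpace T) {g : T ⟶ B} {p : Q ⟶ G.left} {f' : Q ⟶ T}
    (sq : IsPullback p f' G.hom g) :
    LocP P f' ↔ Set.range (Points.map g) ⊆ {b | A G.hom (Points.map (η[G]).left b)} := by
  have hQ : IsAlgSpace Q := isAlgSpace_of_isPullback hB.diag hG hT sq
  refine (hP.locP_iff hQ hT).trans ⟨?_, fun H q => ?_⟩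
  · rintro H _ ⟨t, rfl⟩
    obtain ⟨q, hq, -⟩ := exists_of_isPullback sq (Points.map (η[G]).left (Points.map g t)) t
      (by rw [← Points.map_comp, ← Points.map_comp]
          rw [show g ≫ (η[G]).left ≫ G.hom = g from by
            rw [show (η[G]).left ≫ G.hom = 𝟙 B from Over.w η[G]]; exact Category.comp_id g])
    have := (hP.bc hG hB hT sq hlft q).1 (H q)
    rwa [hq] at this
  · refine (hP.bc hG hB hT sq hlft q).2 ((at_iff_unit hP hB hG hlft _).2 ?_)
    exact H ⟨Points.map f' q, by rw [← Points.map_comp, ← Points.map_comp, sq.w]⟩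

theorem exists_largest :
    ∃ (W : Sp S) (w : W ⟶ B), RepWith @IsOpenImmersion w ∧
      (∀ (W' : Sp S) (w' : W' ⟶ B), RepWith @IsOpenImmersion w' →
        (LocP P (pullback.snd G.hom w') ↔ ∃ k : W' ⟶ W, k ≫ w = w')) ∧
      (∀ (B' : Sp S), IsAlgSpace B' → ∀ (f : B' ⟶ B) (W'' : Sp S) (w'' : W'' ⟶ B'),
        RepWith @IsOpenImmersion w'' →
        (LocP P (pullback.snd (pullback.snd G.hom f) w'') ↔
          ∃ k : W'' ⟶ pullback w f, k ≫ pullback.snd w f = w'')) := by
  let O : Opens (Points B) := ⟨{b | A G.hom (Points.map (η[G]).left b)},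
    (hP.isOpen hG hB G.hom).preimage (Points.continuous_map (η[G]).left)⟩
  refine ⟨openSub O, openSubι O, repWith_openSubι O, fun W' w' hw' => ?_, fun B' hB' f W'' w'' hw'' => ?_⟩
  · rw [locP_baseChange_iff hP hB hG hlft (LargestOpen.isAlgSpace_dom hB hw') (IsPullback.of_hasPullback G.hom w'),
      exists_factor_iff (repWith_openSubι O), range_openSubι]
    rfl
  · rw [locP_baseChange_iff hP hB hG hlft (LargestOpen.isAlgSpace_dom hB' hw'')
      ((IsPullback.of_hasPullback (pullback.snd G.hom f) w'').paste_horiz (IsPullback.of_hasPullback G.hom f))]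
    constructor
    · intro H
      obtain ⟨k, hk⟩ := (exists_factor_iff (repWith_openSubι O) (w'' ≫ f)).2 (by rw [range_openSubι]; exact H)
      exact ⟨pullback.lift k w'' hk, pullback.lift_snd _ _ _⟩
    · rintro ⟨k, hk⟩
      have := (exists_factor_iff (repWith_openSubι O) (w'' ≫ f)).1
        ⟨k ≫ pullback.fst (openSubι O) f, by rw [Category.assoc, pullback.condition, ← Category.assoc, hk]⟩
      rwa [range_openSubι] at this

end Groth.L23.GrpUnit
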