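import Groth.Agent.L23.GpdLargest
import Groth.Agent.L23.GrpUnit
import Groth.Agent.L23.MorCalc
import Groth.Agent.L23.Compact
import Groth.Agent.L23.AffineMor

/-!
# Groupoids and groups over fields
-/

universe u

open CategoryTheory CategoryTheory.Limits AlgebraicGeometry AlgSp MonoidalCategory MonObj CartesianMonoidalCategory
  TopologicalSpace

set_option backward.isDefEq.respectTransparency.types false
set_option linter.style.haveILetI false

namespace Groth.L23.Gpd

variable {S : Scheme.{u}}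

instance : MorphismProperty.IsStableUnderComposition (IsOpenMor (S := S)) where
  comp_mem f g hf hg := by
    show IsOpenMap (Points.map (f ≫ g))
    rw [show Points.map (f ≫ g) = Points.map g ∘ Points.map f from funext (Points.map_comp f g)]
    exact hg.comp hf

theorem univSp_of_isPullback {Q : MorphismProperty (Sp S)} {X Y X' Y' : Sp S} {f : X ⟶ Y} {g : Y' ⟶ Y}
    {p : X' ⟶ X} {f' : X' ⟶ Y'} (sq : IsPullback p f' f g) (hf : UnivSp Q f) : UnivSp Q f' :=
  fun _ _ hZ k _ _ sq' => hf hZ (k ≫ g) _ _ (sq'.paste_horiz sq)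

theorem isUnivOpenMor_field {X P : Sp S} (hX : IsAlgSpace X) {k : Type u} [Field k]
    (str : Spec (CommRingCat.of k) ⟶ S) (e : P ≅ (yon S).obj (Over.mk str)) (f : X ⟶ P) :
    IsUnivOpenMor f := by
  obtain ⟨U, a, ha, has⟩ := hX.atlas
  refine univOpen_of_surjective_comp (f := a) ?_ (surjective_map_of_repWith has)
  obtain ⟨φ, hφ⟩ := (yon S).map_surjective (a ≫ f ≫ e.hom)
  have : IsField (CommRingCat.of k) := Field.toIsField k
  let φ' : U.left ⟶ Spec (CommRingCat.of k) := φ.left
  have hφ' : UniversallyOpen φ' := inferInstance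
  have h' : RepWith @UniversallyOpen ((yon S).map φ) := repWith_map hφ'
  have h1 : IsUnivOpenMor ((yon S).map φ) := (repWith_universallyOpen_iff h'.1).1 h'
  rw [hφ, ← Category.assoc] at h1
  exact univSp_of_isPullback (g := e.hom) (p := 𝟙 _) (IsPullback.of_horiz_isIso ⟨by simp⟩) h1

theorem locP_flat_field {X P : Sp S} (hX : IsAlgSpace X) {k : Type u} [Field k]
    (str : Spec (CommRingCat.of k) ⟶ S) (e : P ≅ (yon S).obj (Over.mk str)) (f : X ⟶ P) :
    LocP @Flat f := by
  have hb : RepWith @Etale e.inv := repWith_of_isIso _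
  obtain ⟨U, a, h, ha, w, has⟩ := exists_chart_over hX
    (isAlgSpace_of_representable_to (IsAlgSpace.yon_obj _) (repWith_of_isIso (P := @Etale) e.hom).1) f hb
  refine locP_of_chart etLocal_flat ha (has (repWith_of_isIso _)) hb w ?_
  have : IsField (CommRingCat.of k) := Field.toIsField k
  let h' : U.left ⟶ Spec (CommRingCat.of k) := h.left
  show Flat h'
  infer_instance

variable {B : Sp S} (G : GroupoidSp B)

theorem isSurjective_s_t : IsSurjectiveMor G.s ∧ IsSurjectiveMor G.t :=
  ⟨fun u => ⟨Points.map G.e u, by rw [← Points.map_comp, G.e_s, Points.map_id]⟩,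
    fun u => ⟨Points.map G.e u, by rw [← Points.map_comp, G.e_t, Points.map_id]⟩⟩

theorem comp_flat_univOpen (hR : IsAlgSpace G.R) {k : Type u} [Field k]
    (σ : Spec (CommRingCat.of k) ⟶ S) (eU : G.U ≅ (yon S).obj (Over.mk σ)) :
    LocP @Flat G.c ∧ IsUnivOpenMor G.c := by
  have hU : IsAlgSpace G.U :=
    isAlgSpace_of_representable_to (IsAlgSpace.yon_obj _) (repWith_of_isIso (P := @Etale) eU.hom).1
  exact ⟨locP_of_isPullback etLocal_flat hR hU hR (isPullback_c G).flip (locP_flat_field hR σ eU G.s),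
    univSp_of_isPullback (isPullback_c G).flip (isUnivOpenMor_field hR σ eU G.s)⟩

theorem exists_invariant_qc_cover (hU : IsAlgSpace G.U) (hR : IsAlgSpace G.R)
    (hs : IsOpenMor G.s) (ht : IsQuasiCompactMor G.t) (x : Points G.U) :
    ∃ (W : Sp S) (w : W ⟶ G.U), RepWith @IsOpenImmersion w ∧ G.IsInvariant w ∧
      IsQuasiCompactSp W ∧ x ∈ Set.range (Points.map w) := by
  obtain ⟨V, p, hVa, hp, v, hv⟩ := exists_affine_etale_nhd hU x
  have hO : IsOpen (Set.range (Points.ofPt p)) := (isOpenMap_ofPt hp).isOpen_range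
  have hOc : IsCompact (Set.range (Points.ofPt p)) := by
    have : CompactSpace V.left := inferInstance
    exact isCompact_range (Points.continuous_ofPt p)
  let A : Set (Points G.R) := Points.map G.t ⁻¹' Set.range (Points.ofPt p)
  have hAc : IsCompact A := isCompact_preimage_of_affine hU
    (fun W _ g => ht (IsAlgSpace.yon_obj W) isQuasiCompactSp_of_compactSpace g _ _
      (IsPullback.of_hasPullback G.t g)) hO hOc
  let O : Opens (Points G.U) := ⟨Points.map G.s '' A, hs _ (hO.preimage (Points.continuous_map G.t))⟩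
  refine ⟨openSub O, openSubι O, repWith_openSubι O,
    isInvariant_saturation G (openSubι ⟨_, hO⟩) (openSubι O) (repWith_openSubι O)
      (by rw [range_openSubι, range_openSubι]; rfl), ?_, ?_⟩
  · refine qcSp_of_compactSpace (isAlgSpace_openSub O hU) (isCompact_univ_iff.1 ?_)
    rw [(isEmbedding_map_of_immersion hU (repWith_mono
      (fun φ (_ : IsOpenImmersion φ) => inferInstanceAs (IsImmersion φ)) (repWith_openSubι O))).1.isInducing.isCompact_iff,
      Set.image_univ, range_openSubι]
    exact hAc.image (Points.continuous_map G.s)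
  · rw [range_openSubι]
    exact ⟨Points.map G.e x, show Points.map G.t _ ∈ Set.range (Points.ofPt p) by
      rw [← Points.map_comp, G.e_t, Points.map_id]; exact ⟨v, hv⟩,
      by rw [← Points.map_comp, G.e_s, Points.map_id]⟩

variable {G' : GroupoidSp B} (φ : GroupoidSp.Hom G' G)

theorem restrict_fieldExt (hR : IsAlgSpace G.R) (hR' : IsAlgSpace G'.R) (k k' : Type u) [Field k] [Field k']
    [Algebra k k'] (σ : Spec (CommRingCat.of k) ⟶ S) (eU : G.U ≅ ((yon S).obj (Over.mk σ)))
    (eU' : G'.U ≅ ((yon S).obj (Over.mk (Spec.map (CommRingCat.ofHom (algebraMap k k')) ≫ σ))))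
    (hφ : φ.IsRestriction)
    (hfU : φ.fU = eU'.hom ≫ (yon S).map (Over.homMk (Spec.map (CommRingCat.ofHom (algebraMap k k'))) rfl :
      Over.mk (Spec.map (CommRingCat.ofHom (algebraMap k k')) ≫ σ) ⟶ Over.mk σ) ≫ eU.inv) :
    (∀ f ∈ [G.s, G.t], IsSurjectiveMor f ∧ LocP @Flat f ∧ IsUnivOpenMor f) ∧
      (∀ f ∈ [G'.s, G'.t], IsSurjectiveMor f ∧ LocP @Flat f ∧ IsUnivOpenMor f) ∧
      (IsSurjectiveMor φ.fU ∧ LocP @Flat φ.fU ∧ IsUnivOpenMor φ.fU) ∧
      (IsSurjectiveMor φ.fR ∧ LocP @Flat φ.fR ∧ IsUnivOpenMor φ.fR ∧ IsAffineMor φ.fR) := by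
  have hU : IsAlgSpace G.U :=
    isAlgSpace_of_representable_to (IsAlgSpace.yon_obj _) (repWith_of_isIso (P := @Etale) eU.hom).1
  have hU' : IsAlgSpace G'.U :=
    isAlgSpace_of_representable_to (IsAlgSpace.yon_obj _) (repWith_of_isIso (P := @Etale) eU'.hom).1
  let ψ : Over.mk (Spec.map (CommRingCat.ofHom (algebraMap k k')) ≫ σ) ⟶ Over.mk σ :=
    Over.homMk (Spec.map (CommRingCat.ofHom (algebraMap k k'))) rfl
  have hsurj : IsSurjectiveMor φ.fU := by
    rw [hfU]
    refine surjective_map_of_repWith (repWith_comp (repWith_of_isIso _)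
      (repWith_comp (repWith_map ?_) (repWith_of_isIso _)))
    exact ⟨fun y => ⟨(⊥ : PrimeSpectrum k'), Subsingleton.elim (α := PrimeSpectrum k) _ _⟩⟩
  have haff : RepWith @IsAffineHom φ.fU := by
    rw [hfU]
    refine repWith_comp (repWith_of_isIso _) (repWith_comp (repWith_map ?_) (repWith_of_isIso _))
    exact inferInstanceAs (IsAffineHom (Spec.map (CommRingCat.ofHom (algebraMap k k'))))
  have hflat := locP_flat_field hU' σ eU φ.fU
  have hopen := isUnivOpenMor_field hU' σ eU φ.fU
  refine ⟨?_, ?_, ⟨hsurj, hflat, hopen⟩, ?_⟩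
  · intro f hf
    simp only [List.mem_cons, List.mem_singleton, List.not_mem_nil, or_false] at hf
    exact ⟨by rcases hf with rfl | rfl; exacts [(isSurjective_s_t G).1, (isSurjective_s_t G).2],
      locP_flat_field hR σ eU f, isUnivOpenMor_field hR σ eU f⟩
  · intro f hf
    simp only [List.mem_cons, List.mem_singleton, List.not_mem_nil, or_false] at hf
    exact ⟨by rcases hf with rfl | rfl; exacts [(isSurjective_s_t G').1, (isSurjective_s_t G').2],
      locP_flat_field hR' _ eU' f, isUnivOpenMor_field hR' _ eU' f⟩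
  · have sqP := IsPullback.of_hasPullback G.s φ.fU
    have hP : IsAlgSpace (pullback G.s φ.fU) := isAlgSpace_of_isPullback hU.diag hR hU' sqP
    have sqR : IsPullback (pullback.lift φ.fR G'.s φ.comm_s) G'.t (pullback.fst G.s φ.fU ≫ G.t) φ.fU :=
      isPullback_restriction G φ φ.comm_t φ.comm_s (G.t_over.trans G.s_over.symm)
        fun ρ x y h1 h2 h3 => existsUnique_lift G φ hφ ρ x y h2 h1 h3.symm
    have e : φ.fR = pullback.lift φ.fR G'.s φ.comm_s ≫ pullback.fst G.s φ.fU := (pullback.lift_fst _ _ _).symm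
    rw [e]
    refine ⟨?_, locP_comp etLocal_flat hR' hP hR (locP_of_isPullback etLocal_flat hU' hU hP sqR.flip hflat)
      (locP_of_isPullback etLocal_flat hU' hU hR sqP.flip hflat),
      univSp_comp hP hR (univSp_of_isPullback sqR.flip hopen) (univSp_of_isPullback sqP.flip hopen),
      isAffineMor_iff.2 (repWith_comp (repWith_of_isPullback sqR.flip haff) (repWith_of_isPullback sqP.flip haff))⟩
    show Function.Surjective _
    rw [funext (Points.map_comp (pullback.lift φ.fR G'.s φ.comm_s) (pullback.fst G.s φ.fU))]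
    exact (surjective_snd_of_isPullback sqP.flip hsurj).comp (surjective_snd_of_isPullback sqR.flip hsurj)

end Groth.L23.Gpd

namespace Groth.L23.GrpUnit

open Groth.L23.Gpd

theorem mul_flat_univOpen (k : Type u) [Field k]
    (G : Over ((yon (Spec (CommRingCat.of k))).obj (Over.mk (𝟙 _)))) [GrpObj G] (hG : IsAlgSpace G.left) :
    LocP @Flat (μ[G]).left ∧ IsUnivOpenMor (μ[G]).left := by
  have hB : IsAlgSpace ((yon (Spec (CommRingCat.of k))).obj (Over.mk (𝟙 _))) := IsAlgSpace.yon_obj _
  have sq := (isPullback_mul (G := G)).flip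
  exact ⟨locP_of_isPullback etLocal_flat hG hB hG sq (locP_flat_field hG _ (Iso.refl _) G.hom),
    univSp_of_isPullback sq (isUnivOpenMor_field hG _ (Iso.refl _) G.hom)⟩

end Groth.L23.GrpUnit
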