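import Groth.Agent.L23.MorCalc
import Groth.Agent.L23.Points
import Groth.Agent.L23.TargetLocal
import Groth.Agent.L23.GpdField
import Groth.Agent.L02.SepClosedTensor
import Mathlib.AlgebraicGeometry.Pullbacks
import Mathlib.Topology.Connected.Clopen

/-!
# Geometrically connected algebraic spaces over a field
-/

universe u

open CategoryTheory CategoryTheory.Limits AlgebraicGeometry AlgSp Topology TensorProduct

set_option backward.isDefEq.respectTransparency.types false
set_option linter.style.haveILetI false

namespace Groth.L23.GConn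

section Top

variable {α β : Type*} [TopologicalSpace α] [TopologicalSpace β]

theorem connectedSpace_of_bijective {f : α → β} (hf : Continuous f)
    (hb : Function.Bijective hf.connectedComponentsMap) [ConnectedSpace β] : ConnectedSpace α := by
  obtain ⟨b⟩ := (inferInstance : Nonempty β)
  obtain ⟨c, -⟩ := hb.2 (ConnectedComponents.mk b)
  obtain ⟨a, -⟩ := ConnectedComponents.surjective_coe c
  refine connectedSpace_iff_connectedComponent.2 ⟨a, Set.eq_univ_of_forall fun x => ?_⟩
  exact ConnectedComponents.coe_eq_coe'.1 (hb.1 (Subsingleton.elim _ _))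

theorem connectedSpace_of_surjective {f : α → β} (hf : Continuous f) (hs : Function.Surjective f)
    [ConnectedSpace α] : ConnectedSpace β :=
  connectedSpace_iff_univ.2 (hs.range_eq ▸ isConnected_range hf)

end Top

variable {S : Scheme.{u}}

/-- A universally open morphism with connected field valued fibres induces, after base change, a bijection of
connected components. -/
theorem bijective_components {P Z T Y : Sp S} (hY : IsAlgSpace Y) {fst : P ⟶ Z} {snd : P ⟶ Y} {f : Z ⟶ T}
    {g : Y ⟶ T} (sq : IsPullback fst snd f g) (hopen : IsUnivOpenMor f)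
    (hfib : ∀ q : FieldPt Y, ConnectedSpace (Points (pullback f (q.toHom ≫ g)))) :
    Function.Bijective (Continuous.connectedComponentsMap (Points.continuous_map snd)) := by
  have hconn : ∀ y : Points Y, IsConnected (Points.map snd ⁻¹' {y}) := by
    intro y
    obtain ⟨q, -, hq⟩ := exists_eq_ofPt_field y
    have := hfib q
    have hr : Set.range (Points.map q.toHom) = {y} := by
      have : Unique ↥q.pt.left := inferInstanceAs (Unique (PrimeSpectrum q.K))
      rw [range_map_yon, Set.range_unique, ← hq]
      exact congrArg (fun s => {Points.ofPt q.toHom s}) (Subsingleton.elim _ _)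
    have sq' := IsPullback.of_hasPullback f (q.toHom ≫ g)
    let l := sq.lift (pullback.fst f (q.toHom ≫ g)) (pullback.snd f (q.toHom ≫ g) ≫ q.toHom)
      (by rw [Category.assoc]; exact sq'.w)
    have hl : IsPullback l (pullback.snd f (q.toHom ≫ g)) snd q.toHom :=
      IsPullback.of_right (by rw [sq.lift_fst]; exact sq') (sq.lift_snd _ _ _) sq
    rw [← hr, ← range_fst_of_isPullback hl]
    exact isConnected_range (Points.continuous_map l)
  refine IsCoinducing.connectedComponentsMap_bijective ?_ hconn
  exact ((hopen hY g _ _ sq).isQuotientMap (Points.continuous_map snd)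
    (fun y => (hconn y).nonempty)).isCoinducing

theorem irreducible_spec_tensor (k K L : Type u) [Field k] [IsSepClosed k] [Field K] [Field L] [Algebra k K]
    [Algebra k L] : IrreducibleSpace (Spec (CommRingCat.of (K ⊗[k] L))) :=
  (PrimeSpectrum.irreducibleSpace_iff_isPrime_nilradical).2
    (Groth.L02.SepClosedTensor.isPrime_nilradical_tensor
      (by rw [nilradical_eq_zero]; exact Ideal.isPrime_bot) (by rw [nilradical_eq_zero]; exact Ideal.isPrime_bot))

theorem connected_scheme_pullback {k K L : Type u} [Field k] [IsSepClosed k] [Field K] [Field L]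
    (a : Spec (CommRingCat.of K) ⟶ Spec (CommRingCat.of k)) (b : Spec (CommRingCat.of L) ⟶ Spec (CommRingCat.of k)) :
    ConnectedSpace ↥(pullback a b) := by
  obtain ⟨φ, rfl⟩ := Spec.map_surjective a
  obtain ⟨ψ, rfl⟩ := Spec.map_surjective b
  letI := φ.hom.toAlgebra
  letI := ψ.hom.toAlgebra
  have := irreducible_spec_tensor k K L
  exact connectedSpace_of_surjective (pullbackSpecIso k K L).inv.continuous
    (pullbackSpecIso k K L).inv.homeomorph.surjective

/-- The fibres of a map of points over a separably closed field are connected. -/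
theorem connected_fibre {k K L : Type u} [Field k] [IsSepClosed k] [Field K] [Field L]
    {σ : Spec (CommRingCat.of k) ⟶ S} {σK : Spec (CommRingCat.of K) ⟶ S} {σL : Spec (CommRingCat.of L) ⟶ S}
    (a : (yon S).obj (Over.mk σK) ⟶ (yon S).obj (Over.mk σ)) (b : (yon S).obj (Over.mk σL) ⟶ (yon S).obj (Over.mk σ)) :
    ConnectedSpace (Points (pullback a b)) := by
  obtain ⟨a, rfl⟩ := (yon S).map_surjective a
  obtain ⟨b, rfl⟩ := (yon S).map_surjective b
  have sq : IsPullback (pullback.fst a b).left (pullback.snd a b).left a.left b.left :=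
    (IsPullback.of_hasPullback a b).map (Over.forget S)
  let a' : Spec (CommRingCat.of K) ⟶ Spec (CommRingCat.of k) := a.left
  let b' : Spec (CommRingCat.of L) ⟶ Spec (CommRingCat.of k) := b.left
  have := connected_scheme_pullback a' b'
  have : ConnectedSpace ↥((pullback a b).left) :=
    connectedSpace_of_surjective (sq.isoPullback.inv).continuous sq.isoPullback.inv.homeomorph.surjective
  have e := (PreservesPullback.iso (yon S) a b)
  exact connectedSpace_of_surjective
    ((Points.continuous_map e.hom).comp (Points.schemeHomeo (pullback a b)).continuous)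
    ((pointsHomeoOfIso e).surjective.comp (Points.schemeHomeo (pullback a b)).surjective)

section Field

variable (k : Type u) [Field k]

/-- The point `Spec k` over itself. -/
noncomputable abbrev pt : Sp (Spec (CommRingCat.of k)) :=
  (yon (Spec (CommRingCat.of k))).obj (Over.mk (𝟙 _))

noncomputable def isTerminalPt : IsTerminal (pt k) :=
  IsTerminal.isTerminalObj (yon (Spec (CommRingCat.of k))) _ Over.mkIdTerminal

variable {k}

/-- The field extension `K` as an algebraic space over `k`. -/
noncomputable abbrev ext (K : Type u) [Field K] [Algebra k K] : Sp (Spec (CommRingCat.of k)) :=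
  (yon (Spec (CommRingCat.of k))).obj (Over.mk (Spec.map (CommRingCat.ofHom (algebraMap k K))))

/-- Geometric connectedness, as in the statements. -/
def Conn (X : Sp (Spec (CommRingCat.of k))) : Prop :=
  ∀ (K : Type u) [Field K] [Algebra k K], ConnectedSpace (Points (X ⨯ ext (k := k) K))

theorem isPullback_prod_terminal {X Y T : Sp (Spec (CommRingCat.of k))} (hT : IsTerminal T) (f : X ⟶ T)
    (g : Y ⟶ T) : IsPullback (prod.fst : X ⨯ Y ⟶ X) prod.snd f g :=
  IsPullback.mk' (hT.hom_ext _ _) (fun _ _ _ h1 h2 => prod.hom_ext h1 h2)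
    fun _ a b _ => ⟨prod.lift a b, prod.lift_fst _ _, prod.lift_snd _ _⟩

theorem bijective_snd {X Y : Space (Spec (CommRingCat.of k))} (hX : Conn X.obj) :
    Function.Bijective (Continuous.connectedComponentsMap
      (Points.continuous_map (Limits.prod.snd : X.obj ⨯ Y.obj ⟶ Y.obj))) := by
  have hT := isTerminalPt k
  refine bijective_components Y.property (isPullback_prod_terminal hT (hT.from X.obj) (hT.from Y.obj))
    (Gpd.isUnivOpenMor_field X.property _ (Iso.refl _) _) fun q => ?_
  obtain ⟨K, str, v⟩ := q
  obtain ⟨φ, rfl⟩ := Spec.map_surjective str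
  letI : Algebra k K := φ.hom.toAlgebra
  have h1 : ConnectedSpace (Points (X.obj ⨯ ext (k := k) K)) := hX K
  have sq := (isPullback_prod_terminal hT (hT.from X.obj)
    ((FieldPt.toHom (⟨K, Spec.map φ, v⟩ : FieldPt Y.obj)) ≫ hT.from Y.obj))
  exact connectedSpace_of_surjective (Points.continuous_map sq.isoPullback.hom)
    (pointsHomeoOfIso sq.isoPullback).surjective

/-- Base change along an extension of a separably closed field preserves connected components. -/
theorem bijective_prodMap (X : Space (Spec (CommRingCat.of k))) {k' K : Type u} [Field k'] [IsSepClosed k']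
    [Field K] [Algebra k k'] [Algebra k K] (ψ : ext (k := k) K ⟶ ext (k := k) k') :
    Function.Bijective (Continuous.connectedComponentsMap
      (Points.continuous_map (prod.map (𝟙 X.obj) ψ))) := by
  have hP : IsAlgSpace (X.obj ⨯ ext (k := k) k') :=
    isAlgSpace_of_isPullback (IsAlgSpace.yon_obj (Over.mk (𝟙 _))).diag X.property (IsAlgSpace.yon_obj _)
      (isPullback_prod_terminal (isTerminalPt k) ((isTerminalPt k).from _) ((isTerminalPt k).from _))
  refine bijective_components hP (fst := prod.snd) (f := ψ) (g := prod.snd) ?_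
    (Gpd.isUnivOpenMor_field (IsAlgSpace.yon_obj _) _ (Iso.refl _) _) fun q => connected_fibre ψ (q.toHom ≫ prod.snd)
  refine IsPullback.mk' (by rw [prod.map_snd]) (fun _ l l' h1 h2 => prod.hom_ext ?_ h1) fun W a b e => ?_
  · simpa using congrArg (· ≫ prod.fst) h2
  · exact ⟨prod.lift (b ≫ prod.fst) a, prod.lift_snd _ _,
      prod.hom_ext (by rw [Category.assoc, prod.map_fst, Category.comp_id, prod.lift_fst])
          (by rw [Category.assoc, prod.map_snd, prod.lift_snd_assoc, e])⟩

theorem surjective_prodMap (X : Sp (Spec (CommRingCat.of k))) {L K : Type u} [Field L] [Field K] [Algebra k L]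
    [Algebra k K] (ψ : ext (k := k) K ⟶ ext (k := k) L) :
    Function.Surjective (Points.map (prod.map (𝟙 X) ψ)) := by
  refine surjective_snd_of_isPullback (fst := prod.snd) (f := ψ) (g := (prod.snd : X ⨯ ext (k := k) L ⟶ _)) ?_ ?_
  · refine IsPullback.mk' (by rw [prod.map_snd]) (fun _ l l' h1 h2 => prod.hom_ext ?_ h1) fun W a b e => ?_
    · simpa using congrArg (· ≫ prod.fst) h2
    · exact ⟨prod.lift (b ≫ prod.fst) a, prod.lift_snd _ _,
        prod.hom_ext (by rw [Category.assoc, prod.map_fst, Category.comp_id, prod.lift_fst])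
          (by rw [Category.assoc, prod.map_snd, prod.lift_snd_assoc, e])⟩
  · intro y
    obtain ⟨z, rfl⟩ := (Points.schemeHomeo _).surjective y
    refine ⟨Points.schemeHomeo _ (⊥ : PrimeSpectrum K), ?_⟩
    obtain ⟨φ, rfl⟩ := (yon (Spec (CommRingCat.of k))).map_surjective ψ
    rw [Points.map_yon_map_eq]
    have : Subsingleton (PrimeSpectrum L) := inferInstance
    simp only [Function.comp_apply, Homeomorph.symm_apply_apply]
    exact congrArg _ (this.elim _ _)

/-- The map of extensions given by a `k`-algebra map. -/
noncomputable def extMap {L K : Type u} [Field L] [Field K] [Algebra k L] [Algebra k K] (j : L →ₐ[k] K) :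
    ext (k := k) K ⟶ ext (k := k) L :=
  (yon _).map (Over.homMk (Spec.map (CommRingCat.ofHom j.toRingHom))
    (by show Spec.map _ ≫ Spec.map _ = Spec.map _
        rw [← Spec.map_comp, ← CommRingCat.ofHom_comp]
        exact congrArg (fun r => Spec.map (CommRingCat.ofHom r)) j.comp_algebraMap))

theorem connected_of_algHom (X : Sp (Spec (CommRingCat.of k))) {L K : Type u} [Field L] [Field K] [Algebra k L]
    [Algebra k K] (j : L →ₐ[k] K) (h : ConnectedSpace (Points (X ⨯ ext (k := k) K))) :
    ConnectedSpace (Points (X ⨯ ext (k := k) L)) :=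
  connectedSpace_of_surjective (Points.continuous_map _) (surjective_prodMap X (extMap j))

theorem exists_compositum (K L : Type u) [Field K] [Field L] [Algebra k K] [Algebra k L] :
    ∃ (M : Type u) (_ : Field M) (_ : Algebra k M), Nonempty (K →ₐ[k] M) ∧ Nonempty (L →ₐ[k] M) := by
  obtain ⟨m, hm⟩ := Ideal.exists_maximal (K ⊗[k] L)
  letI := Ideal.Quotient.field m
  exact ⟨(K ⊗[k] L) ⧸ m, inferInstance, inferInstance,
    ⟨(Ideal.Quotient.mkₐ k m).comp Algebra.TensorProduct.includeLeft⟩,
    ⟨(Ideal.Quotient.mkₐ k m).comp Algebra.TensorProduct.includeRight⟩⟩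

theorem conn_iff_of_sepClosed (X : Space (Spec (CommRingCat.of k))) (k' : Type u) [Field k'] [Algebra k k']
    [IsSepClosed k'] : Conn X.obj ↔ ConnectedSpace (Points (X.obj ⨯ ext (k := k) k')) := by
  refine ⟨fun h => h k', fun h K _ _ => ?_⟩
  obtain ⟨M, _, _, ⟨j⟩, ⟨j'⟩⟩ := exists_compositum (k := k) k' K
  exact connected_of_algHom X.obj j'
    (connectedSpace_of_bijective (hf := Points.continuous_map _) (bijective_prodMap X (extMap j)))

theorem conn_iff_ext (X : Sp (Spec (CommRingCat.of k))) (k' : Type u) [Field k'] [Algebra k k'] :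
    Conn X ↔ ∀ (K : Type u) [Field K] [Algebra k K] [Algebra k' K] [IsScalarTower k k' K],
      ConnectedSpace (Points (X ⨯ ext (k := k) K)) := by
  refine ⟨fun h K _ _ _ _ => h K, fun h K _ _ => ?_⟩
  obtain ⟨M, _, _, ⟨j⟩, ⟨j'⟩⟩ := exists_compositum (k := k) k' K
  letI := j.toRingHom.toAlgebra
  haveI : IsScalarTower k k' M := IsScalarTower.of_algebraMap_eq fun x => (j.commutes x).symm
  exact connected_of_algHom X j' (h M)

theorem isIso_fst_self (X : Sp (Spec (CommRingCat.of k))) : IsIso (prod.fst : X ⨯ ext (k := k) k ⟶ X) := by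
  have h1 : Spec.map (CommRingCat.ofHom (algebraMap k k)) = 𝟙 _ := by
    rw [Algebra.algebraMap_self, CommRingCat.ofHom_id, Spec.map_id]
  have e : Over.mk (Spec.map (CommRingCat.ofHom (algebraMap k k))) ≅ Over.mk (𝟙 (Spec (CommRingCat.of k))) :=
    eqToIso (congrArg Over.mk h1)
  have hT : IsTerminal (ext (k := k) k) := (isTerminalPt k).ofIso ((yon _).mapIso e).symm
  refine ⟨prod.lift (𝟙 X) (hT.from X), prod.hom_ext ?_ (hT.hom_ext _ _), prod.lift_fst _ _⟩
  rw [Category.assoc, prod.lift_fst, Category.comp_id, Category.id_comp]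

theorem conn_iff_connectedSpace [IsSepClosed k] (X : Space (Spec (CommRingCat.of k))) :
    Conn X.obj ↔ ConnectedSpace (Points X.obj) := by
  have := isIso_fst_self X.obj
  rw [conn_iff_of_sepClosed X k]
  let e := pointsHomeoOfIso (asIso (prod.fst : X.obj ⨯ ext (k := k) k ⟶ X.obj))
  exact ⟨fun h => connectedSpace_of_surjective e.continuous e.surjective,
    fun h => connectedSpace_of_surjective e.symm.continuous e.symm.surjective⟩

theorem bijective_fst [IsSepClosed k] (X : Space (Spec (CommRingCat.of k))) (K : Type u) [Field K] [Algebra k K] :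
    Function.Bijective (Continuous.connectedComponentsMap
      (Points.continuous_map (Limits.prod.fst : X.obj ⨯ ext (k := k) K ⟶ X.obj))) := by
  have := isIso_fst_self X.obj
  let ψ : ext (k := k) K ⟶ ext (k := k) k := extMap (Algebra.ofId k K)
  let m : Points (X.obj ⨯ ext (k := k) K) → Points (X.obj ⨯ ext (k := k) k) := Points.map (prod.map (𝟙 _) ψ)
  let e := pointsHomeoOfIso (asIso (prod.fst : X.obj ⨯ ext (k := k) k ⟶ X.obj))
  have h2 : Function.Bijective e.continuous.connectedComponentsMap := by
    refine ⟨fun a b h => ?_, Continuous.connectedComponentsMap_surjective _ e.surjective⟩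
    have hinv : ∀ c, e.symm.continuous.connectedComponentsMap (e.continuous.connectedComponentsMap c) = c := by
      intro c
      obtain ⟨x, rfl⟩ := ConnectedComponents.surjective_coe c
      simp
    rw [← hinv a, ← hinv b, h]
  have hcomp : Continuous.connectedComponentsMap
      (Points.continuous_map (Limits.prod.fst : X.obj ⨯ ext (k := k) K ⟶ X.obj)) =
      e.continuous.connectedComponentsMap ∘ (Points.continuous_map (prod.map (𝟙 X.obj) ψ)).connectedComponentsMap := by
    funext c
    obtain ⟨x, rfl⟩ := ConnectedComponents.surjective_coe c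
    simp only [Function.comp_apply, Continuous.connectedComponentsMap_mk]
    congr 1
    show Points.map prod.fst x = Points.map prod.fst (Points.map (prod.map (𝟙 _) ψ) x)
    rw [← Points.map_comp, prod.map_fst, Category.comp_id]
  rw [hcomp]
  exact h2.comp (bijective_prodMap X ψ)

end Field

end Groth.L23.GConn
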