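import Groth.Agent.L23.FpqcAffine
import Groth.Agent.L23.GeomConn
import Groth.Agent.L23.SchemeLocus
import Mathlib.AlgebraicGeometry.Morphisms.UniversallyInjective

/-!
# Descent of schemes along field extensions
-/

universe u

open CategoryTheory CategoryTheory.Limits AlgebraicGeometry AlgSp Topology

set_option autoImplicit false
set_option backward.isDefEq.respectTransparency.types false
set_option linter.style.haveILetI false

namespace Groth.L23.FieldDesc

open Groth.L23.GConn

variable {k : Type u} [Field k] {k' : Type u} [Field k'] [Algebra k k']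

/-- The morphism `Spec k' ⟶ Spec k` over `k`. -/
noncomputable def ptMap (k k' : Type u) [Field k] [Field k'] [Algebra k k'] :
    (Over.mk (Spec.map (CommRingCat.ofHom (algebraMap k k'))) : Over (Spec (CommRingCat.of k))) ⟶ Over.mk (𝟙 _) :=
  Over.mkIdTerminal.from _

theorem ptMap_left : (ptMap k k').left = Spec.map (CommRingCat.ofHom (algebraMap k k')) := by
  have hw : (ptMap k k').left ≫ (Over.mk (𝟙 (Spec (CommRingCat.of k)))).hom = _ := Over.w (ptMap k k')
  simpa using hw

theorem isPullback_fst (X : Sp (Spec (CommRingCat.of k))) :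
    IsPullback (Limits.prod.snd : X ⨯ ext (k := k) k' ⟶ _) Limits.prod.fst
      ((yon (Spec (CommRingCat.of k))).map (ptMap k k')) ((isTerminalPt k).from X) :=
  (isPullback_prod_terminal (isTerminalPt k) ((isTerminalPt k).from X) _).flip

theorem surjective_ptMap : Surjective (ptMap k k').left := by
  rw [ptMap_left]
  exact ⟨fun x => ⟨(⊥ : PrimeSpectrum k'), Subsingleton.elim (α := PrimeSpectrum k) _ _⟩⟩

theorem flat_ptMap : Flat (ptMap k k').left := by
  rw [ptMap_left]
  exact Flat.SpecMap_iff.2 (RingHom.flat_algebraMap_iff.2 inferInstance)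

theorem surjective_fst (X : Sp (Spec (CommRingCat.of k))) :
    Function.Surjective (Points.map (Limits.prod.fst : X ⨯ ext (k := k) k' ⟶ X)) :=
  surjective_map_of_repWith (repWith_of_isPullback (isPullback_fst X) (repWith_map surjective_ptMap))

theorem isOpenMap_fst (X : Sp (Spec (CommRingCat.of k))) :
    IsOpenMap (Points.map (Limits.prod.fst : X ⨯ ext (k := k) k' ⟶ X)) := by
  have : IsField (CommRingCat.of k) := Field.toIsField k
  let φ : Spec (CommRingCat.of k') ⟶ Spec (CommRingCat.of k) := (ptMap k k').left
  exact isOpenMap_map_of_universallyOpen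
    (repWith_of_isPullback (isPullback_fst X) (repWith_map (show UniversallyOpen φ from inferInstance)))

theorem injective_fst [IsPurelyInseparable k k'] (X : Sp (Spec (CommRingCat.of k))) :
    Function.Injective (Points.map (Limits.prod.fst : X ⨯ ext (k := k) k' ⟶ X)) := by
  have h : UniversallyInjective (ptMap k k').left := by
    rw [ptMap_left]
    refine ((tfae_universallyInjective _).out 0 1).2 ?_
    intro K hK g₁ g₂ h
    obtain ⟨a₁, rfl⟩ := Spec.map_surjective g₁
    obtain ⟨a₂, rfl⟩ := Spec.map_surjective g₂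
    have h' : Spec.map a₁ ≫ Spec.map (CommRingCat.ofHom (algebraMap k k')) =
        Spec.map a₂ ≫ Spec.map (CommRingCat.ofHom (algebraMap k k')) := h
    rw [← Spec.map_comp, ← Spec.map_comp] at h'
    have h2 := congrArg CommRingCat.Hom.hom (Spec.map_injective h')
    exact congrArg Spec.map (CommRingCat.hom_ext (IsPurelyInseparable.injective_comp_algebraMap k k' _ h2))
  exact injective_map_of_repWith (repWith_of_isPullback (isPullback_fst X) (repWith_map h))

/-- An open subspace whose base change is affine is affine, so consists of schematic points. -/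
theorem schemePt_of_preimage (X : Space (Spec (CommRingCat.of k))) {W : Set (Points X.obj)} (hWo : IsOpen W)
    {U : Over (Spec (CommRingCat.of k))} [IsAffine U.left]
    (a : (yon (Spec (CommRingCat.of k))).obj U ⟶ X.obj ⨯ ext (k := k) k') (ha : RepWith @IsOpenImmersion a)
    (hr : Set.range (Points.map a) = Points.map (Limits.prod.fst : X.obj ⨯ ext (k := k) k' ⟶ _) ⁻¹' W)
    {x : Points X.obj} (hx : x ∈ W) : SL.SchemePt x := by
  let S₀ := Spec (CommRingCat.of k)
  let O : TopologicalSpace.Opens (Points X.obj) := ⟨W, hWo⟩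
  let j := openSubι O
  have hj : RepWith @IsOpenImmersion j := repWith_openSubι O
  have sqP := IsPullback.of_hasPullback j (Limits.prod.fst : X.obj ⨯ ext (k := k) k' ⟶ X.obj)
  have hq : RepWith @IsOpenImmersion (pullback.snd j (Limits.prod.fst : X.obj ⨯ ext (k := k) k' ⟶ X.obj)) :=
    repWith_of_isPullback sqP hj
  have hqr : Set.range (Points.map (pullback.snd j (Limits.prod.fst : X.obj ⨯ ext (k := k) k' ⟶ X.obj))) =
      Set.range (Points.map a) := by
    rw [hr, range_fst_of_isPullback sqP.flip]
    exact congrArg _ (range_openSubι O)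
  obtain ⟨g, hg⟩ := (exists_factor_iff hq a).2 hqr.ge
  obtain ⟨g', hg'⟩ := (exists_factor_iff ha _).2 hqr.le
  have := mono_of_repWith_openImmersion hq
  have := mono_of_repWith_openImmersion ha
  let e : (yon S₀).obj U ≅ pullback j (Limits.prod.fst : X.obj ⨯ ext (k := k) k' ⟶ X.obj) :=
    ⟨g, g', by rw [← cancel_mono a, Category.assoc, hg', hg, Category.id_comp],
      by rw [← cancel_mono (pullback.snd j _), Category.assoc, hg, hg', Category.id_comp]⟩
  obtain ⟨u, hu⟩ := (yon S₀).map_surjective (a ≫ Limits.prod.snd)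
  have sq0 := sqP.paste_vert (isPullback_fst X.obj).flip
  have sq : IsPullback (e.hom ≫ pullback.fst j _) ((yon S₀).map u) (j ≫ (isTerminalPt k).from X.obj)
      ((yon S₀).map (ptMap k k')) := by
    refine IsPullback.of_iso sq0 e.symm (Iso.refl _) (Iso.refl _) (Iso.refl _) ?_ ?_ ?_ ?_
    · simp only [Iso.symm_hom, Iso.refl_hom, Category.comp_id, Iso.inv_hom_id_assoc]
    · simp only [Iso.symm_hom, Iso.refl_hom, Category.comp_id]
      rw [hu, ← hg, Category.assoc]
      exact (e.inv_hom_id_assoc _).symm
    · simp
    · simp only [Iso.refl_hom, Category.comp_id, Category.id_comp]; rfl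
  haveI : IsAffine (Over.mk (Spec.map (CommRingCat.ofHom (algebraMap k k'))) :
      Over (Spec (CommRingCat.of k))).left := inferInstanceAs (IsAffine (Spec (CommRingCat.of k')))
  haveI : IsAffine (Over.mk (𝟙 (Spec (CommRingCat.of k))) : Over (Spec (CommRingCat.of k))).left :=
    inferInstanceAs (IsAffine (Spec (CommRingCat.of k)))
  haveI := surjective_ptMap (k := k) (k' := k')
  haveI := flat_ptMap (k := k) (k' := k')
  obtain ⟨A, c, -, -, hc, -⟩ := exists_affine_of_fpqc_cover (isAlgSpace_openSub O X.property) _ sq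
  haveI := hc
  obtain ⟨y, rfl⟩ : x ∈ Set.range (Points.map j) := by rw [range_openSubι]; exact hx
  obtain ⟨t, ht⟩ := (Points.schemeHomeo A).surjective (Points.map c y)
  refine ⟨A, inv c ≫ j, t, repWith_comp (repWith_of_isIso _) hj, ?_⟩
  rw [Points.ofPt_eq_map_ofScheme, Points.map_comp]
  refine congrArg (Points.map j) ?_
  rw [show Points.ofScheme A t = Points.map c y from ht, ← Points.map_comp, IsIso.hom_inv_id, Points.map_id]

/-- A space which becomes a scheme after a purely inseparable extension is a scheme. -/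
theorem isRepresentable_of_purelyInseparable [IsPurelyInseparable k k'] (X : Space (Spec (CommRingCat.of k)))
    (h : (X.obj ⨯ ext (k := k) k').obj.IsRepresentable) : X.obj.obj.IsRepresentable := by
  let S₀ := Spec (CommRingCat.of k)
  obtain ⟨T, ⟨e⟩⟩ := isRepresentable_iff_exists_iso.1 h
  let p := Points.map (Limits.prod.fst : X.obj ⨯ ext (k := k) k' ⟶ X.obj)
  have hall : ∀ x : Points X.obj, SL.SchemePt x := by
    intro x
    obtain ⟨y, rfl⟩ := surjective_fst (k' := k') X.obj x
    obtain ⟨t, ht⟩ := (Points.schemeHomeo T).surjective (Points.map e.inv y)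
    obtain ⟨V, hV, htV, -⟩ := exists_isAffineOpen_mem_and_subset (U := (⊤ : T.left.Opens)) (x := t) trivial
    let U : Over S₀ := Over.mk (V.ι ≫ T.hom)
    haveI : IsAffine U.left := hV
    let ι : U ⟶ T := Over.homMk V.ι rfl
    let a : (yon S₀).obj U ⟶ X.obj ⨯ ext (k := k) k' := (yon S₀).map ι ≫ e.hom
    have ha : RepWith @IsOpenImmersion a :=
      repWith_comp (repWith_map (show IsOpenImmersion V.ι from inferInstance)) (repWith_of_isIso _)
    have hao : IsOpen (Set.range (Points.map a)) :=
      (isOpenMap_map_of_universallyOpen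
        (repWith_mono (fun f (_ : IsOpenImmersion f) => (inferInstance : UniversallyOpen f)) ha)).isOpen_range
    refine schemePt_of_preimage X (isOpenMap_fst (k' := k') X.obj _ hao) a ha
      (Set.preimage_image_eq _ (injective_fst X.obj)).symm ⟨y, ?_, rfl⟩
    refine ⟨Points.schemeHomeo U (⟨t, htV⟩ : V), ?_⟩
    have h1 : Points.map ((yon S₀).map ι) (Points.schemeHomeo U (⟨t, htV⟩ : V)) = Points.schemeHomeo T t := by
      rw [Points.map_yon_map_eq]
      simp only [Function.comp_apply, Homeomorph.symm_apply_apply]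
      rfl
    rw [Points.map_comp, h1, ht, ← Points.map_comp, e.inv_hom_id, Points.map_id]
  obtain ⟨X', j, hj, hrep, hjr⟩ := SL.exists_locus X.property
  have := isIso_of_openImmersion_surjective hj fun x => hjr.ge (hall x)
  obtain ⟨T', ⟨e'⟩⟩ := isRepresentable_iff_exists_iso.1 hrep
  exact isRepresentable_iff_exists_iso.2 ⟨T', ⟨e' ≪≫ asIso j⟩⟩

end Groth.L23.FieldDesc
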