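import Mathlib.FieldTheory.Fixed
import Mathlib.FieldTheory.IsAlgClosed.AlgebraicClosure
import Mathlib.FieldTheory.SeparableClosure
import Mathlib.FieldTheory.Normal.Basic
import Mathlib.RingTheory.Etale.Field
import Mathlib.RingTheory.Finiteness.Basic
import Mathlib.RingTheory.RingHom.Etale
import Mathlib.RingTheory.RingHom.Finite

/-!
# The field fixed by a finite natural equivalence class of embeddings
-/

universe u

open IntermediateField

namespace Groth.L23.Galois

variable {K : Type u} [Field K] {Ω : Type u} [Field Ω] [Algebra K Ω] [IsAlgClosure K Ω]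

omit [Algebra K Ω] [IsAlgClosure K Ω] in
lemma exists_extend [IsAlgClosed Ω] {A : Type u} [Field A] [Algebra K A] [Algebra.IsAlgebraic K A] (φ : K →+* Ω) :
    ∃ σ : A →+* Ω, σ.comp (algebraMap K A) = φ := by
  let alg : Algebra K Ω := φ.toAlgebra
  exact ⟨(IsAlgClosed.lift (R := K) (S := A) (M := Ω)).toRingHom, AlgHom.comp_algebraMap _⟩

omit [IsAlgClosure K Ω] in
lemma isSeparable_of_mem {L : IntermediateField K Ω} {y : Ω} (hy : y ∈ L)
    (h : IsSeparable K (⟨y, hy⟩ : L)) : IsSeparable K y := by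
  show (minpoly K y).Separable
  rw [show y = L.val ⟨y, hy⟩ from rfl, minpoly.algHom_eq L.val Subtype.val_injective]
  exact h

set_option maxHeartbeats 400000 in
/-- The equivalence class of the canonical embedding is the set of embeddings over a subfield of finite
separable index. -/
theorem exists_fixed (r : (K →+* Ω) → (K →+* Ω) → Prop)
    (hr : Equivalence r)
    (hnat : ∀ (σ : Ω →+* Ω) φ ψ, r φ ψ → r (σ.comp φ) (σ.comp ψ))
    (hfin : {φ | r φ (algebraMap K Ω)}.Finite)
    (hsep : ∀ φ, r φ (algebraMap K Ω) →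
      ∃ L : IntermediateField K Ω, FiniteDimensional K L ∧ Algebra.IsSeparable K L ∧
        ∀ x, φ x ∈ L) :
    ∃ (k : Type u) (_ : Field k) (i : k →+* K), i.Finite ∧ i.Etale ∧
      (∀ φ, r φ (algebraMap K Ω) → φ.comp i = (algebraMap K Ω).comp i) ∧
      ∀ ψ : K →+* Ω, ψ.comp i = (algebraMap K Ω).comp i →
        r ψ (algebraMap K Ω) := by
  have : IsAlgClosed Ω := IsAlgClosure.isAlgClosed K
  have : Algebra.IsAlgebraic K Ω := IsAlgClosure.isAlgebraic
  let φ₀ : K →+* Ω := algebraMap K Ω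
  let C : Set (K →+* Ω) := {φ | r φ φ₀}
  have : Finite C := hfin.to_subtype
  choose Lf hLfin hLsep hLmem using fun φ : C => hsep φ.1 φ.2
  have hφ₀ : φ₀ ∈ C := hr.refl φ₀
  let gen : Set Ω := ⋃ φ ∈ C, Set.range φ
  let L : IntermediateField K Ω := adjoin K gen
  have hgen : ∀ φ ∈ C, ∀ x, φ x ∈ L := fun φ hφ x =>
    subset_adjoin K gen (Set.mem_biUnion hφ ⟨x, rfl⟩)
  have hLle : L ≤ ⨆ φ : C, Lf φ := adjoin_le_iff.2 fun z hz => by
    obtain ⟨φ, hφ, x, rfl⟩ := Set.mem_iUnion₂.1 hz
    exact le_iSup Lf ⟨φ, hφ⟩ (hLmem ⟨φ, hφ⟩ x)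
  have : FiniteDimensional K L := by
    have hM : FiniteDimensional K (⨆ φ : C, Lf φ : IntermediateField K Ω) := finiteDimensional_iSup_of_finite
    generalize (⨆ φ : C, Lf φ : IntermediateField K Ω) = M at hLle hM
    exact Submodule.finiteDimensional_of_le (S₁ := L.toSubalgebra.toSubmodule) (S₂ := M.toSubalgebra.toSubmodule) hLle
  have hLs : Algebra.IsSeparable K L := by
    refine (isSeparable_adjoin_iff_isSeparable K Ω).2 fun z hz => ?_
    obtain ⟨φ, hφ, x, rfl⟩ := Set.mem_iUnion₂.1 hz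
    have := hLsep ⟨φ, hφ⟩
    have h : IsSeparable K (⟨φ x, hLmem ⟨φ, hφ⟩ x⟩ : Lf ⟨φ, hφ⟩) := Algebra.IsSeparable.isSeparable K _
    exact isSeparable_of_mem (hLmem ⟨φ, hφ⟩ x) h
  let G : Subgroup (L ≃+* L) :=
    { carrier := {g | ∀ ψ : K →+* L, r ((algebraMap L Ω).comp ψ) φ₀ ↔
        r ((algebraMap L Ω).comp (g.toRingHom.comp ψ)) φ₀}
      one_mem' := fun ψ => Iff.rfl
      mul_mem' := fun {g g'} hg hg' ψ => (hg' ψ).trans (hg (g'.toRingHom.comp ψ))
      inv_mem' := fun {g} hg ψ => by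
        have e : g.toRingHom.comp (g.symm.toRingHom.comp ψ) = ψ := RingHom.ext fun x => g.apply_symm_apply _
        have h := hg (g.symm.toRingHom.comp ψ)
        rw [e] at h
        exact h.symm }
  let lift : ∀ φ : C, K →+* L := fun φ => φ.1.codRestrict L.toSubfield (hgen φ.1 φ.2)
  have hlift : ∀ φ : C, (algebraMap L Ω).comp (lift φ) = φ.1 := fun φ => rfl
  have hgenfld : ∀ (F : Subfield Ω), (∀ φ ∈ C, ∀ x, φ x ∈ F) → ∀ z ∈ L, z ∈ F := by
    intro F hF z hz
    rw [← IntermediateField.mem_toSubfield, show L = adjoin K gen from rfl,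
      IntermediateField.adjoin_toSubfield] at hz
    refine (Subfield.closure_le.2 ?_) hz
    rintro w (⟨x, rfl⟩ | hw)
    · exact hF φ₀ hφ₀ x
    · obtain ⟨φ, hφ, x, rfl⟩ := Set.mem_iUnion₂.1 hw
      exact hF φ hφ x
  have hGC : ∀ (g : G) (φ : C), r ((algebraMap L Ω).comp (g.1.toRingHom.comp (lift φ))) φ₀ :=
    fun g φ => (g.2 (lift φ)).1 φ.2
  have : Finite G := by
    refine Finite.of_injective (fun (g : G) (φ : C) => (⟨_, hGC g φ⟩ : C)) fun g g' h => ?_
    apply Subtype.ext
    apply RingEquiv.ext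
    intro z
    apply (algebraMap L Ω).injective
    have := hgenfld ((((algebraMap L Ω).comp g.1.toRingHom).eqLocusField
      ((algebraMap L Ω).comp g'.1.toRingHom)).map (algebraMap L Ω)) (fun φ hφ x => ?_) z.1 z.2
    · obtain ⟨y, hy, hyz⟩ := Subfield.mem_map.1 this
      rwa [(algebraMap L Ω).injective (a₁ := y) (a₂ := z) hyz] at hy
    · refine Subfield.mem_map.2 ⟨lift ⟨φ, hφ⟩ x, ?_, rfl⟩
      exact DFunLike.congr_fun (congr_arg Subtype.val (congr_fun h ⟨φ, hφ⟩)) x
  -- endomorphisms moving the class into itself restrict to `L`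
  have hres : ∀ σ : Ω →+* Ω, r (σ.comp φ₀) φ₀ → ∃ g : G, ∀ z : L, (g.1 z : Ω) = σ z := by
    intro σ hσ
    have hinto : ∀ φ ∈ C, σ.comp φ ∈ C := fun φ hφ => hr.trans (hnat σ _ _ hφ) hσ
    have hbij : Function.Surjective fun φ : C => (⟨σ.comp φ.1, hinto φ.1 φ.2⟩ : C) :=
      Finite.injective_iff_surjective.1 fun φ φ' h => Subtype.ext (RingHom.ext fun x =>
        σ.injective (DFunLike.congr_fun (congr_arg Subtype.val h) x))
    have hmem : ∀ z ∈ L, σ z ∈ L := hgenfld (L.toSubfield.comap σ) fun φ hφ x => hgen _ (hinto φ hφ) x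
    have hsurj : ∀ z ∈ L, ∃ y ∈ L, σ y = z := fun z hz => by
      refine Subfield.mem_map.1 (hgenfld (L.toSubfield.map σ) (fun φ hφ x => ?_) z hz)
      obtain ⟨ψ, hψ⟩ := hbij ⟨φ, hφ⟩
      exact Subfield.mem_map.2 ⟨ψ.1 x, hgen _ ψ.2 x, DFunLike.congr_fun (congr_arg Subtype.val hψ) x⟩
    let g₀ : L →+* L := (σ.comp (algebraMap L Ω)).codRestrict L.toSubfield fun z => hmem z.1 z.2
    have hg₀ : Function.Bijective g₀ := ⟨g₀.injective, fun z => by
      obtain ⟨y, hy, hyz⟩ := hsurj z.1 z.2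
      exact ⟨⟨y, hy⟩, Subtype.ext hyz⟩⟩
    refine ⟨⟨RingEquiv.ofBijective g₀ hg₀, fun ψ => ⟨fun h => hinto _ h, fun h => ?_⟩⟩, fun z => rfl⟩
    obtain ⟨φ, hφ⟩ := hbij ⟨_, h⟩
    have : φ.1 = (algebraMap L Ω).comp ψ := RingHom.ext fun x =>
      σ.injective (DFunLike.congr_fun (congr_arg Subtype.val hφ) x)
    exact this ▸ φ.2
  have hmemK : ∀ z : L, (∀ g : G, g • z = z) → ∃ x : K, algebraMap K L x = z := by
    intro z hz
    by_contra hne
    have hs : IsSeparable K (z : Ω) := isSeparable_of_mem z.2 (Algebra.IsSeparable.isSeparable K _)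
    have hd : (minpoly K (z : Ω)).natDegree ≠ 1 := fun h => by
      obtain ⟨x, hx⟩ := minpoly.natDegree_eq_one_iff.1 h
      exact hne ⟨x, Subtype.ext hx⟩
    have hint : IsIntegral K (z : Ω) := hs.isIntegral
    have hcard := Polynomial.card_rootSet_eq_natDegree (K := Ω) hs
      (IsAlgClosed.splits ((minpoly K (z : Ω)).map (algebraMap K Ω)))
    obtain ⟨y, hy, hyz⟩ : ∃ y ∈ (minpoly K (z : Ω)).rootSet Ω, y ≠ (z : Ω) := by
      by_contra hall
      push Not at hall
      have : Fintype.card ((minpoly K (z : Ω)).rootSet Ω) ≤ 1 :=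
        Fintype.card_le_one_iff_subsingleton.2 ⟨fun a b => Subtype.ext ((hall a a.2).trans (hall b b.2).symm)⟩
      rw [hcard] at this
      exact hd (le_antisymm this (minpoly.natDegree_pos hint))
    obtain ⟨τ, hτ⟩ := exists_algHom_of_splits_of_aeval (E := Ω) (K := Ω) (x := (z : Ω)) (y := y)
      (fun s => ⟨Algebra.IsIntegral.isIntegral s, IsAlgClosed.splits _⟩) ((Polynomial.mem_rootSet.1 hy).2)
    obtain ⟨g, hg⟩ := hres τ.toRingHom (by
      rw [show τ.toRingHom.comp φ₀ = φ₀ from τ.comp_algebraMap]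
      exact hr.refl φ₀)
    exact hyz (hτ.symm.trans ((hg z).symm.trans (congr_arg Subtype.val (hz g))))
  let k := FixedPoints.subfield G L
  choose i hi using fun z : k => hmemK z.1 fun g => z.2 g
  let i' : k →+* K :=
    { toFun := i
      map_one' := (algebraMap K L).injective (by rw [hi, map_one]; rfl)
      map_mul' := fun a b => (algebraMap K L).injective (by rw [hi, map_mul, hi, hi]; rfl)
      map_zero' := (algebraMap K L).injective (by rw [hi, map_zero]; rfl)
      map_add' := fun a b => (algebraMap K L).injective (by rw [hi, map_add, hi, hi]; rfl) }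
  let algkK : Algebra k K := i'.toAlgebra
  have : IsScalarTower k K L := IsScalarTower.of_algebraMap_eq fun z => (hi z).symm
  have : FiniteDimensional k L := inferInstance
  have : FiniteDimensional k K :=
    FiniteDimensional.of_injective (IsScalarTower.toAlgHom k K L).toLinearMap (RingHom.injective _)
  have hgal : IsGalois k L := inferInstance
  have : Algebra.IsSeparable k K := Algebra.IsSeparable.of_algHom k L (IsScalarTower.toAlgHom k K L)
  refine ⟨k, inferInstance, i', ?_, ?_, fun φ hφ => RingHom.ext fun z => ?_, fun ψ hψ => ?_⟩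
  · exact (RingHom.finite_algebraMap (A := k) (B := K)).2 inferInstance
  · have : Algebra.FormallyEtale k K := Algebra.FormallyEtale.of_isSeparable k K
    have : Algebra.FinitePresentation k K := Algebra.FinitePresentation.of_finiteType.1 inferInstance
    exact RingHom.etale_algebraMap.2 ⟨inferInstance, inferInstance⟩
  · obtain ⟨σ, hσ⟩ : ∃ σ : Ω →+* Ω, σ.comp φ₀ = φ := exists_extend φ
    obtain ⟨g, hg⟩ := hres σ (hσ ▸ hφ)
    have h := hg z.1
    rw [show g.1 z.1 = z.1 from z.2 g] at h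
    show φ (i z) = φ₀ (i z)
    rw [← hσ]
    have e : (φ₀ (i z) : Ω) = (z.1 : Ω) := congr_arg Subtype.val (hi z)
    show σ (φ₀ (i z)) = φ₀ (i z)
    rw [e, ← h]
  · obtain ⟨τ, hτ⟩ := exists_extend (A := L) ψ
    have hτK : ∀ x, τ (algebraMap K L x) = ψ x := fun x => DFunLike.congr_fun hτ x
    have hτk : ∀ z : k, τ z.1 = ((z.1 : L) : Ω) := fun z => by
      have h : ψ (i z) = φ₀ (i z) := DFunLike.congr_fun hψ z
      rw [← hi z, hτK, h]
      rfl
    have hr' : ∀ z : L, τ z ∈ L := fun z => by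
      have hint : IsIntegral k z := Algebra.IsIntegral.isIntegral z
      have hsp := hgal.to_normal.splits z
      have hroot : Polynomial.eval₂ ((algebraMap L Ω).comp (algebraMap k L)) (τ z) (minpoly k z) = 0 := by
        have h := congr_arg τ (minpoly.aeval k z)
        rw [map_zero, Polynomial.aeval_def, Polynomial.hom_eval₂] at h
        rw [show τ.comp (algebraMap k L) = (algebraMap L Ω).comp (algebraMap k L) from RingHom.ext hτk] at h
        exact h
      have hne : ((minpoly k z).map (algebraMap k L)).map (algebraMap L Ω) ≠ 0 :=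
        Polynomial.map_ne_zero (Polynomial.map_ne_zero (minpoly.ne_zero hint))
      have hmem : τ z ∈ (((minpoly k z).map (algebraMap k L)).map (algebraMap L Ω)).roots := by
        rw [Polynomial.mem_roots hne, Polynomial.IsRoot.def, Polynomial.map_map, Polynomial.eval_map]
        exact hroot
      rw [hsp.roots_map] at hmem
      obtain ⟨y, -, hy⟩ := Multiset.mem_map.1 hmem
      exact hy ▸ y.2
    let τ' : L →ₐ[k] L :=
      { toRingHom := τ.codRestrict L.toSubfield hr'
        commutes' := fun z => Subtype.ext (hτk z) }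
    obtain ⟨g, hg⟩ := (FixedPoints.toAlgHom_bijective G L).surjective τ'
    have hψ' : ψ = (algebraMap L Ω).comp (g.1.toRingHom.comp (lift ⟨φ₀, hφ₀⟩)) := RingHom.ext fun x => by
      rw [← hτK x]
      exact congr_arg Subtype.val (DFunLike.congr_fun hg (algebraMap K L x)).symm
    rw [hψ']
    exact hGC g _

end Groth.L23.Galois
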