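import Groth.Agent.L23.GeomConn
import Groth.Agent.L23.Compact
import Groth.Agent.L23.OpenSub
import Mathlib.FieldTheory.KrullTopology
import Mathlib.LinearAlgebra.TensorProduct.Finiteness

/-!
# Points of `X_K` for a Galois extension `K/k`
-/

universe u

open CategoryTheory CategoryTheory.Limits AlgebraicGeometry AlgSp Topology TensorProduct

set_option backward.isDefEq.respectTransparency.types false
set_option linter.style.haveILetI false

namespace Groth.L23.GConn

variable {k : Type u} [Field k]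


/-- An algebra as a scheme over the field. -/
noncomputable abbrev specA (A : Type u) [CommRing A] [Algebra k A] : Over (Spec (CommRingCat.of k)) :=
  Over.mk (Spec.map (CommRingCat.ofHom (algebraMap k A)))

/-- The morphism of spectra of an algebra map. -/
noncomputable def specMor {A A' : Type u} [CommRing A] [Algebra k A] [CommRing A'] [Algebra k A'] (j : A →ₐ[k] A') :
    specA (k := k) A' ⟶ specA (k := k) A :=
  Over.homMk (Spec.map (CommRingCat.ofHom j.toRingHom))
    (by show Spec.map _ ≫ Spec.map _ = Spec.map _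
        rw [← Spec.map_comp, ← CommRingCat.ofHom_comp]
        exact congrArg (fun r => Spec.map (CommRingCat.ofHom r)) j.comp_algebraMap)

theorem specMor_comp {A A' A'' : Type u} [CommRing A] [Algebra k A] [CommRing A'] [Algebra k A'] [CommRing A'']
    [Algebra k A''] (j : A →ₐ[k] A') (j' : A' →ₐ[k] A'') :
    specMor j' ≫ specMor j = specMor (j'.comp j) := by
  refine Over.OverMorphism.ext ?_
  show Spec.map _ ≫ Spec.map _ = Spec.map _
  rw [← Spec.map_comp]
  rfl

/-- The product of an algebra and a field over `k`. -/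
theorem isPullback_spec (R K : Type u) [CommRing R] [Algebra k R] [CommRing K] [Algebra k K] {T : Over (Spec (CommRingCat.of k))}
    (hT : IsTerminal T) :
    IsPullback (specMor (Algebra.TensorProduct.includeLeft : R →ₐ[k] R ⊗[k] K))
      (specMor (Algebra.TensorProduct.includeRight : K →ₐ[k] R ⊗[k] K)) (hT.from (specA (k := k) R))
      (hT.from (specA (k := k) K)) := by
  have e0 : T ≅ Over.mk (𝟙 (Spec (CommRingCat.of k))) := hT.uniqueUpToIso Over.mkIdTerminal
  refine IsPullback.of_iso (IsPullback.of_map (Over.forget (Spec (CommRingCat.of k))) (Over.mkIdTerminal.hom_ext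
    (specMor (Algebra.TensorProduct.includeLeft : R →ₐ[k] R ⊗[k] K) ≫ Over.mkIdTerminal.from (specA (k := k) R))
    (specMor (Algebra.TensorProduct.includeRight : K →ₐ[k] R ⊗[k] K) ≫ Over.mkIdTerminal.from (specA (k := k) K))) ?_)
    (Iso.refl _) (Iso.refl _) (Iso.refl _) e0.symm (by simp) (by simp) (hT.hom_ext _ _) (hT.hom_ext _ _)
  have h := isPullback_SpecMap_of_isPushout _ _ _ _ (CommRingCat.isPushout_tensorProduct k R K)
  have a : ∀ (A : Type u) [CommRing A] [Algebra k A],
      (Over.mkIdTerminal.from (specA (k := k) A)).left = Spec.map (CommRingCat.ofHom (algebraMap k A)) := by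
    intro A _ _
    simpa using Over.w (Over.mkIdTerminal.from (specA (k := k) A))
  show IsPullback (Spec.map (CommRingCat.ofHom _)) (Spec.map (CommRingCat.ofHom _))
    (Over.mkIdTerminal.from (specA (k := k) R)).left (Over.mkIdTerminal.from (specA (k := k) K)).left
  rw [a, a]
  exact h

variable (X : Sp (Spec (CommRingCat.of k)))

/-- The chart of `X_K` over a chart of `X`. -/
noncomputable def prodChart {R : Type u} [CommRing R] [Algebra k R] (a : (yon (Spec (CommRingCat.of k))).obj (specA (k := k) R) ⟶ X)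
    (K : Type u) [Field K] [Algebra k K] : (yon (Spec (CommRingCat.of k))).obj (specA (k := k) (R ⊗[k] K)) ⟶ X ⨯ ext (k := k) K :=
  prod.lift ((yon (Spec (CommRingCat.of k))).map (specMor Algebra.TensorProduct.includeLeft) ≫ a)
    ((yon (Spec (CommRingCat.of k))).map (specMor Algebra.TensorProduct.includeRight))

variable {X}

theorem isPullback_prodChart {R : Type u} [CommRing R] [Algebra k R] (a : (yon (Spec (CommRingCat.of k))).obj (specA (k := k) R) ⟶ X)
    (K : Type u) [Field K] [Algebra k K] :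
    IsPullback ((yon (Spec (CommRingCat.of k))).map (specMor Algebra.TensorProduct.includeLeft)) (prodChart X a K) a
      (prod.fst : X ⨯ ext (k := k) K ⟶ X) := by
  have h0 := (isPullback_spec (k := k) R K Over.mkIdTerminal).map (yon (Spec (CommRingCat.of k)))
  refine IsPullback.mk' (by rw [prodChart, prod.lift_fst]) (fun T l l' h1 h2 => h0.hom_ext h1 ?_) fun T c b e => ?_
  · have h3 := congrArg (· ≫ prod.snd) h2
    simp only [Category.assoc, prodChart] at h3
    rw [prod.lift_snd] at h3
    exact h3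
  · obtain ⟨l, hl1, hl2⟩ := h0.exists_lift c (b ≫ prod.snd) ((isTerminalPt k).hom_ext _ _)
    refine ⟨l, hl1, prod.hom_ext ?_ ?_⟩
    · rw [prodChart, Category.assoc, prod.lift_fst, ← Category.assoc, hl1, e]
    · rw [prodChart, Category.assoc, prod.lift_snd, hl2]

/-- Base change of the charts in the field. -/
theorem isPullback_prodChart_map {R : Type u} [CommRing R] [Algebra k R] (a : (yon (Spec (CommRingCat.of k))).obj (specA (k := k) R) ⟶ X)
    {L K : Type u} [Field L] [Field K] [Algebra k L] [Algebra k K] (j : L →ₐ[k] K) :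
    IsPullback ((yon (Spec (CommRingCat.of k))).map (specMor (Algebra.TensorProduct.map (AlgHom.id k R) j))) (prodChart X a K)
      (prodChart X a L) (prod.map (𝟙 X) ((yon (Spec (CommRingCat.of k))).map (specMor j))) := by
  have hL := isPullback_prodChart a L
  have hK := isPullback_prodChart a K
  refine IsPullback.of_right ?_ ?_ hL
  · rw [prod.map_fst, Category.comp_id, ← Functor.map_comp, specMor_comp,
      show (Algebra.TensorProduct.map (AlgHom.id k R) j).comp Algebra.TensorProduct.includeLeft =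
        Algebra.TensorProduct.includeLeft from AlgHom.ext fun r => by simp]
    exact hK
  · refine prod.hom_ext ?_ ?_
    · rw [Category.assoc, prodChart, prod.lift_fst, Category.assoc, prod.map_fst, Category.comp_id, prodChart,
        prod.lift_fst, ← Functor.map_comp_assoc, specMor_comp]
      congr 3
      exact AlgHom.ext fun r => by simp
    · rw [Category.assoc, prodChart, prod.lift_snd, Category.assoc, prod.map_snd, prodChart, prod.lift_snd_assoc,
        ← Functor.map_comp, specMor_comp, ← Functor.map_comp, specMor_comp]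
      congr 2

theorem repWith_etale_prodChart {R : Type u} [CommRing R] [Algebra k R] {a : (yon (Spec (CommRingCat.of k))).obj (specA (k := k) R) ⟶ X}
    (ha : RepWith @Etale a) (K : Type u) [Field K] [Algebra k K] : RepWith @Etale (prodChart X a K) :=
  repWith_of_isPullback (isPullback_prodChart a K) ha

theorem exists_affine_chart (hX : IsAlgSpace X) (x : Points X) :
    ∃ (R : Type u) (_ : CommRing R) (_ : Algebra k R) (a : (yon (Spec (CommRingCat.of k))).obj (specA (k := k) R) ⟶ X),
      RepWith @Etale a ∧ x ∈ Set.range (Points.map a) := by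
  obtain ⟨W, a, hW, ha, hx⟩ := exists_affine_etale_nhd hX x
  obtain ⟨φ, hφ⟩ := Spec.map_surjective (W.left.isoSpec.inv ≫ W.hom)
  letI : Algebra k Γ(W.left, ⊤) := φ.hom.toAlgebra
  let e : specA (k := k) Γ(W.left, ⊤) ≅ W := Over.isoMk W.left.isoSpec.symm hφ.symm
  refine ⟨Γ(W.left, ⊤), inferInstance, inferInstance, (yon (Spec (CommRingCat.of k))).map e.hom ≫ a,
    repWith_comp (repWith_of_isIso _) ha, ?_⟩
  rw [← range_map_yon] at hx
  obtain ⟨z, rfl⟩ := hx
  refine ⟨Points.map ((yon (Spec (CommRingCat.of k))).map e.inv) z, ?_⟩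
  rw [← Points.map_comp, ← Functor.map_comp_assoc, e.inv_hom_id, CategoryTheory.Functor.map_id, Category.id_comp]

/-- An open set descending to a finite subextension. -/
def Desc (X : Sp (Spec (CommRingCat.of k))) {K : Type u} [Field K] [Algebra k K] (V : Set (Points (X ⨯ ext (k := k) K)))
    (E : IntermediateField k K) : Prop :=
  ∃ O : Set (Points (X ⨯ ext (k := k) E)), IsOpen O ∧
    Points.map (prod.map (𝟙 X) ((yon (Spec (CommRingCat.of k))).map (specMor E.val))) ⁻¹' O = V

theorem exists_mem_desc (hX : IsAlgSpace X) {K : Type u} [Field K] [Algebra k K] [Algebra.IsAlgebraic k K]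
    {V : Set (Points (X ⨯ ext (k := k) K))} (hV : IsOpen V) {y : Points (X ⨯ ext (k := k) K)} (hy : y ∈ V) :
    ∃ (W : Set (Points (X ⨯ ext (k := k) K))) (E : IntermediateField k K), FiniteDimensional k E ∧
      y ∈ W ∧ W ⊆ V ∧ IsOpen W ∧ Desc X W E := by
  obtain ⟨R, _, _, a, ha, r₀, hr₀⟩ := exists_affine_chart hX (Points.map prod.fst y)
  obtain ⟨p, -, hp⟩ := exists_of_isPullback (isPullback_prodChart a K) r₀ y hr₀
  obtain ⟨z, rfl⟩ := (Points.schemeHomeo _).surjective p
  have hO : IsOpen ((fun w => Points.map (prodChart X a K) (Points.schemeHomeo (specA (k := k) (R ⊗[k] K)) w)) ⁻¹' V) :=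
    hV.preimage ((Points.continuous_map _).comp (Points.schemeHomeo _).continuous)
  obtain ⟨_, ⟨_, ⟨f, rfl⟩, rfl⟩, hzf, hfV⟩ := PrimeSpectrum.isBasis_basic_opens.exists_subset_of_mem_open
    (show z ∈ (_ : Set (PrimeSpectrum (R ⊗[k] K))) from (by rw [← hp] at hy; exact hy)) hO
  obtain ⟨s, hs⟩ := TensorProduct.exists_finset (R := k) f
  classical
  let E : IntermediateField k K := IntermediateField.adjoin k ((s.image Prod.snd : Finset K) : Set K)
  haveI hE : FiniteDimensional k E :=
    IntermediateField.finiteDimensional_adjoin fun x _ => (Algebra.IsAlgebraic.isAlgebraic x).isIntegral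
  let f' : R ⊗[k] E := ∑ i ∈ s.attach, i.1.1 ⊗ₜ[k] (⟨i.1.2, IntermediateField.subset_adjoin k _
    (Finset.mem_coe.2 (Finset.mem_image_of_mem _ i.2))⟩ : E)
  let m := Algebra.TensorProduct.map (AlgHom.id k R) E.val
  have hf' : m f' = f := by
    rw [hs, map_sum, ← Finset.sum_attach s]
    exact Finset.sum_congr rfl fun i _ => by simp [m]
  let D : Set (Points ((yon (Spec (CommRingCat.of k))).obj (specA (k := k) (R ⊗[k] E)))) :=
    Points.schemeHomeo (specA (k := k) (R ⊗[k] E)) '' (PrimeSpectrum.basicOpen f' : Set (PrimeSpectrum (R ⊗[k] E)))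
  have hDo : IsOpen D := (Points.schemeHomeo _).isOpenMap _ (PrimeSpectrum.basicOpen f').isOpen
  let O : Set (Points (X ⨯ ext (k := k) E)) := Points.map (prodChart X a E) '' D
  have hOo : IsOpen O := isOpenMap_map_of_universallyOpen
    (repWith_universallyOpen_of_etale (repWith_etale_prodChart ha E)) _ hDo
  have hiff : ∀ w, Points.map ((yon (Spec (CommRingCat.of k))).map (specMor m)) (Points.schemeHomeo (specA (k := k) (R ⊗[k] K)) w) ∈ D ↔
      f ∉ (show PrimeSpectrum (R ⊗[k] K) from w).asIdeal := by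
    intro w
    rw [Points.map_yon_map_eq]
    simp only [Function.comp_apply, Homeomorph.symm_apply_apply, D]
    rw [(Points.schemeHomeo _).injective.mem_set_image]
    show PrimeSpectrum.comap m.toRingHom (show PrimeSpectrum (R ⊗[k] K) from w) ∈ PrimeSpectrum.basicOpen f' ↔ _
    rw [PrimeSpectrum.mem_basicOpen, PrimeSpectrum.comap_asIdeal, Ideal.mem_comap]
    show m f' ∉ _ ↔ _
    rw [hf']
  refine ⟨_, E, hE, ?_, ?_, hOo.preimage (Points.continuous_map _), O, hOo, rfl⟩
  · refine ⟨_, (hiff z).2 hzf, ?_⟩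
    rw [← Points.map_comp, (isPullback_prodChart_map a E.val).w, Points.map_comp, hp]
  · rintro y' ⟨d, hd, hdy⟩
    obtain ⟨q, hq1, hq2⟩ := exists_of_isPullback (isPullback_prodChart_map a E.val) d y' hdy
    obtain ⟨w, rfl⟩ := (Points.schemeHomeo _).surjective q
    rw [← hq1] at hd
    rw [← hq2]
    exact hfV ((hiff w).1 hd)

theorem desc_mono {K : Type u} [Field K] [Algebra k K] {V : Set (Points (X ⨯ ext (k := k) K))}
    {E E' : IntermediateField k K} (h : E ≤ E') (hV : Desc X V E) : Desc X V E' := by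
  obtain ⟨O, hO, rfl⟩ := hV
  refine ⟨Points.map (prod.map (𝟙 X) ((yon (Spec (CommRingCat.of k))).map (specMor (IntermediateField.inclusion h)))) ⁻¹' O,
    hO.preimage (Points.continuous_map _), ?_⟩
  ext y
  simp only [Set.mem_preimage]
  rw [← Points.map_comp, prod.map_map, Category.comp_id, ← Functor.map_comp, specMor_comp]
  rfl

theorem exists_desc (hX : IsAlgSpace X) {K : Type u} [Field K] [Algebra k K] [Algebra.IsAlgebraic k K]
    {V : Set (Points (X ⨯ ext (k := k) K))} (hV : IsOpen V) (hVc : IsCompact V) :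
    ∃ (E : IntermediateField k K), FiniteDimensional k E ∧ Desc X V E := by
  choose W E hE hyW hWV hWo hWd using fun y : V => exists_mem_desc hX hV y.2
  obtain ⟨t, ht⟩ := hVc.elim_finite_subcover W hWo fun y hy => Set.mem_iUnion.2 ⟨⟨y, hy⟩, hyW ⟨y, hy⟩⟩
  have hfin : FiniteDimensional k (⨆ i ∈ t, E i : IntermediateField k K) :=
    IntermediateField.finiteDimensional_iSup_of_finset' fun i _ => hE i
  refine ⟨⨆ i ∈ t, E i, hfin, ?_⟩
  have hd : ∀ i ∈ t, Desc X (W i) (⨆ i ∈ t, E i) := fun i hi => desc_mono (le_iSup₂ (f := fun j _ => E j) i hi) (hWd i)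
  choose O hO hOW using hd
  refine ⟨⋃ (i) (hi : i ∈ t), O i hi, isOpen_iUnion fun i => isOpen_iUnion fun hi => hO i hi, ?_⟩
  simp only [Set.preimage_iUnion]
  refine Set.Subset.antisymm (Set.iUnion₂_subset fun i hi => (hOW i hi).le.trans (hWV i)) fun y hy => ?_
  obtain ⟨i, hi, hyi⟩ := Set.mem_iUnion₂.1 (ht hy)
  exact Set.mem_iUnion₂.2 ⟨i, hi, (hOW i hi).ge hyi⟩

theorem exists_descend_compact (hX : IsAlgSpace X) {K : Type u} [Field K] [Algebra k K] [IsGalois k K]
    {V : Set (Points (X ⨯ ext (k := k) K))} (hV : IsOpen V) (hVc : IsCompact V) :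
    ∃ (k' : IntermediateField k K) (_ : FiniteDimensional k k') (g : specA (k := k) K ⟶ specA (k := k) k'),
      g.left = Spec.map (CommRingCat.ofHom (algebraMap k' K)) ∧
      ∃ V' : Set (Points (X ⨯ ext (k := k) k')), IsOpen V' ∧ IsCompact V' ∧
        Points.map (prod.map (𝟙 X) ((yon (Spec (CommRingCat.of k))).map g)) ⁻¹' V' = V := by
  obtain ⟨E, hE, O, hO, hOV⟩ := exists_desc hX hV hVc
  refine ⟨E, hE, specMor E.val, rfl, O, hO, ?_, hOV⟩
  rw [← (surjective_prodMap X ((yon (Spec (CommRingCat.of k))).map (specMor E.val))).image_preimage O, hOV]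
  exact hVc.image (Points.continuous_map _)

theorem exists_stabilizer (hX : IsAlgSpace X) {K : Type u} [Field K] [Algebra k K] [IsGalois k K]
    {V : Set (Points (X ⨯ ext (k := k) K))} (hV : IsOpen V) (hVc : IsCompact V) :
    ∃ H : Subgroup (K ≃ₐ[k] K), IsOpen (H : Set (K ≃ₐ[k] K)) ∧
      ∀ σ ∈ H, ∀ (g : specA (k := k) K ⟶ specA (k := k) K),
        g.left = Spec.map (CommRingCat.ofHom (σ : K ≃ₐ[k] K).toRingHom) →
          Points.map (prod.map (𝟙 X) ((yon (Spec (CommRingCat.of k))).map g)) '' V = V := by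
  obtain ⟨E, hE, O, hO, rfl⟩ := exists_desc hX hV hVc
  refine ⟨E.fixingSubgroup, E.fixingSubgroup_isOpen, fun σ hσ g hg => ?_⟩
  have hg' : g = specMor (σ : K →ₐ[k] K) := Over.OverMorphism.ext hg
  have key : ∀ τ ∈ E.fixingSubgroup, ∀ y,
      Points.map (prod.map (𝟙 X) ((yon (Spec (CommRingCat.of k))).map (specMor E.val)))
        (Points.map (prod.map (𝟙 X) ((yon (Spec (CommRingCat.of k))).map (specMor (τ : K →ₐ[k] K)))) y) =
      Points.map (prod.map (𝟙 X) ((yon (Spec (CommRingCat.of k))).map (specMor E.val))) y := by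
    intro τ hτ y
    rw [← Points.map_comp, prod.map_map, Category.comp_id, ← Functor.map_comp, specMor_comp,
      show (τ : K →ₐ[k] K).comp E.val = E.val from
        AlgHom.ext fun e => (IntermediateField.mem_fixingSubgroup_iff E τ).1 hτ e e.2]
  subst hg'
  refine Set.Subset.antisymm (Set.image_subset_iff.2 fun y hy => ?_) fun y hy => ?_
  · show Points.map _ _ ∈ O
    rw [key σ hσ]; exact hy
  · refine ⟨Points.map (prod.map (𝟙 X) ((yon (Spec (CommRingCat.of k))).map (specMor ((σ⁻¹ : K ≃ₐ[k] K) : K →ₐ[k] K)))) y, ?_, ?_⟩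
    · show Points.map _ _ ∈ O
      rw [key _ (inv_mem hσ)]; exact hy
    · rw [← Points.map_comp, prod.map_map, Category.comp_id, ← Functor.map_comp, specMor_comp,
        show ((σ⁻¹ : K ≃ₐ[k] K) : K →ₐ[k] K).comp (σ : K →ₐ[k] K) = AlgHom.id k K from
          AlgHom.ext fun e => σ.symm_apply_apply e,
        show specMor (AlgHom.id k K) = 𝟙 _ from Over.OverMorphism.ext (by
          show Spec.map (CommRingCat.ofHom (RingHom.id K)) = 𝟙 _
          rw [CommRingCat.ofHom_id, Spec.map_id]),
        CategoryTheory.Functor.map_id, prod.map_id_id, Points.map_id]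

/-- Points of `X_K` over the same point of `X` are conjugate. -/
theorem exists_galois_conj {K : Type u} [Field K] [Algebra k K] [IsGalois k K]
    (y y' : Points (X ⨯ ext (k := k) K)) (h : Points.map prod.fst y = Points.map (prod.fst : X ⨯ ext (k := k) K ⟶ X) y') :
    ∃ σ : K ≃ₐ[k] K, Points.map (prod.map (𝟙 X) ((yon (Spec (CommRingCat.of k))).map (specMor (σ : K →ₐ[k] K)))) y = y' := by
  obtain ⟨p, hp, hp'⟩ := exists_eq_ofPt_field y
  obtain ⟨q, hq, hq'⟩ := exists_eq_ofPt_field y'
  subst hp hq
  rw [Points.map_mk, Points.map_mk] at h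
  obtain ⟨Ω, _, w, a, b, hab⟩ := (rel_iff_toHom _ _).1 (Points.mk_eq_mk_iff.1 h)
  rw [FieldPt.toHom_map, FieldPt.toHom_map] at hab
  change Over.mk w ⟶ p.pt at a
  change Over.mk w ⟶ q.pt at b
  obtain ⟨φ, rfl⟩ := Spec.map_surjective w
  letI : Algebra k Ω := φ.hom.toAlgebra
  obtain ⟨α, hα⟩ := (yon (Spec (CommRingCat.of k))).map_surjective ((yon (Spec (CommRingCat.of k))).map a ≫ p.toHom ≫ prod.snd)
  obtain ⟨β, hβ⟩ := (yon (Spec (CommRingCat.of k))).map_surjective ((yon (Spec (CommRingCat.of k))).map b ≫ q.toHom ≫ prod.snd)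
  have ex : ∀ γ : Over.mk (Spec.map φ) ⟶ specA (k := k) K, ∃ j : K →ₐ[k] Ω, γ = specMor j := by
    intro γ
    obtain ⟨ψ, hψ⟩ := Spec.map_surjective (show Spec (CommRingCat.of Ω) ⟶ Spec (CommRingCat.of K) from γ.left)
    have hc : CommRingCat.ofHom (algebraMap k K) ≫ ψ = φ := Spec.map_injective (by
      rw [Spec.map_comp, hψ]; exact Over.w γ)
    exact ⟨{ ψ.hom with commutes' := fun r => congrArg (fun χ => χ.hom r) hc },
      Over.OverMorphism.ext hψ.symm⟩
  obtain ⟨j, hj⟩ := ex α
  obtain ⟨j', hj'⟩ := ex β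
  letI : Algebra K Ω := j.toRingHom.toAlgebra
  haveI : IsScalarTower k K Ω := IsScalarTower.of_algebraMap_eq fun r => (j.commutes r).symm
  let σ : K ≃ₐ[k] K := AlgHom.restrictNormal' j' K
  have hσ : j.comp (σ : K →ₐ[k] K) = j' := AlgHom.ext fun e => AlgHom.restrictNormal_commutes j' K e
  refine ⟨σ, ?_⟩
  have main : ((yon (Spec (CommRingCat.of k))).map a ≫ p.toHom) ≫ prod.map (𝟙 X) ((yon (Spec (CommRingCat.of k))).map (specMor (σ : K →ₐ[k] K))) =
      (yon (Spec (CommRingCat.of k))).map b ≫ q.toHom := by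
    refine prod.hom_ext ?_ ?_
    · simp only [Category.assoc, prod.map_fst, Category.comp_id]
      exact hab
    · simp only [Category.assoc, prod.map_snd]
      rw [← hβ, hj', ← hσ, ← specMor_comp, Functor.map_comp, ← Category.assoc p.toHom, ← Category.assoc, ← hα, hj]
  have hpt := congrArg (fun m => Points.ofPt m (IsLocalRing.closedPoint Ω)) main
  rw [← Points.map_ofPt, ofPt_comp, Points.ofPt_toHom, ofPt_comp, Points.ofPt_toHom] at hpt
  exact hpt

theorem closed_descent (hX : IsAlgSpace X) {K : Type u} [Field K] [Algebra k K] [IsGalois k K]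
    (T : Set (Points (X ⨯ ext (k := k) K))) (hT : IsClosed T)
    (hσ : ∀ (σ : K ≃ₐ[k] K) (g : specA (k := k) K ⟶ specA (k := k) K),
      g.left = Spec.map (CommRingCat.ofHom (σ : K ≃ₐ[k] K).toRingHom) →
        Points.map (prod.map (𝟙 X) ((yon (Spec (CommRingCat.of k))).map g)) '' T = T) :
    ∃ T₀ : Set (Points X), IsClosed T₀ ∧
      Points.map (prod.fst : X ⨯ ext (k := k) K ⟶ X) ⁻¹' T₀ = T := by
  refine ⟨Points.map (prod.fst : X ⨯ ext (k := k) K ⟶ X) '' T, ?_, Set.Subset.antisymm ?_ (Set.subset_preimage_image _ _)⟩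
  · have sqP := isPullback_prod_terminal (isTerminalPt k) ((isTerminalPt k).from X) ((isTerminalPt k).from (ext (k := k) K))
    have h : RepWith @IsIntegralHom ((isTerminalPt k).from (ext (k := k) K)) := by
      obtain ⟨φ, hφ⟩ := (yon (Spec (CommRingCat.of k))).map_surjective ((isTerminalPt k).from (ext (k := k) K))
      rw [← hφ]
      refine repWith_map ?_
      have : φ.left = Spec.map (CommRingCat.ofHom (algebraMap k K)) := by simpa using Over.w φ
      rw [this]
      exact IsIntegralHom.SpecMap_iff.2 (Algebra.IsIntegral.isIntegral (R := k) (A := K))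
    have h' := repWith_of_isPullback sqP.flip h
    refine isClosedMap_map_of_representable h'.1 (fun U g => ?_) T hT
    have : IsIntegralHom (h'.1.snd g).left := repWith_snd h' g
    exact (h'.1.snd g).left.isClosedMap
  · rintro y ⟨t, ht, e⟩
    obtain ⟨σ, rfl⟩ := exists_galois_conj t y e
    rw [← hσ σ (specMor (σ : K →ₐ[k] K)) rfl]
    exact ⟨t, ht, rfl⟩

end Groth.L23.GConn
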