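import Groth.Agent.L09.SpLimit.SchemeStage
import Groth.Agent.L19.Limit.Criterion
import Groth.Agent.L23.GaloisPts
import Groth.Agent.L23.FieldDescent
import Mathlib.CategoryTheory.Limits.Constructions.Over.Connected
import Mathlib.RingTheory.Jacobson.Ring
import Mathlib.RingTheory.Adjoin.FG

/-!
# A field extension as a limit of finitely generated algebras
-/

universe u

open CategoryTheory CategoryTheory.Limits AlgebraicGeometry AlgSp Topology Opposite

set_option autoImplicit false
set_option backward.isDefEq.respectTransparency.types false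
set_option linter.style.haveILetI false

noncomputable section

namespace Groth.L23.FieldLim

open Groth.L23.GConn

variable {k : Type u} [Field k] (K : Type u) [Field K] [Algebra k K]

/-- The finitely generated algebras. -/
abbrev lev (s : Finset K) : Subalgebra k K := Algebra.adjoin k (s : Set K)

/-- Their inclusions. -/
def levMap {s t : Finset K} (h : s ≤ t) : lev (k := k) K s →ₐ[k] lev (k := k) K t :=
  Subalgebra.inclusion (Algebra.adjoin_mono (Finset.coe_subset.2 h))

/-- The system of algebras. -/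
def algSys : Finset K ⥤ CommRingCat.{u} where
  obj s := CommRingCat.of (lev (k := k) K s)
  map h := CommRingCat.ofHom (levMap (k := k) K (leOfHom h)).toRingHom
  map_id _ := rfl
  map_comp _ _ := rfl

/-- The system of schemes. -/
def sys : (Finset K)ᵒᵖ ⥤ Over (Spec (CommRingCat.of k)) where
  obj s := specA (k := k) (lev (k := k) K s.unop)
  map h := specMor (levMap (k := k) K (leOfHom h.unop))
  map_id s := Over.OverMorphism.ext (by
    show Spec.map (CommRingCat.ofHom (levMap (k := k) K (le_refl s.unop)).toRingHom) = 𝟙 _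
    rw [← Spec.map_id]
    rfl)
  map_comp {a b c} f g := Over.OverMorphism.ext (by
    show Spec.map (CommRingCat.ofHom (levMap (k := k) K _).toRingHom) =
      Spec.map (CommRingCat.ofHom (levMap (k := k) K (leOfHom f.unop)).toRingHom) ≫
        Spec.map (CommRingCat.ofHom (levMap (k := k) K (leOfHom g.unop)).toRingHom)
    rw [← Spec.map_comp]
    rfl)

/-- The spectrum of the field over the system. -/
def cone : Cone (sys (k := k) K) where
  pt := specA (k := k) K
  π :=
    { app := fun s => specMor (lev (k := k) K s.unop).val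
      naturality := fun a b f => Over.OverMorphism.ext (by
        show 𝟙 _ ≫ Spec.map (CommRingCat.ofHom (lev (k := k) K b.unop).val.toRingHom) =
          Spec.map (CommRingCat.ofHom (lev (k := k) K a.unop).val.toRingHom) ≫
            Spec.map (CommRingCat.ofHom (levMap (k := k) K (leOfHom f.unop)).toRingHom)
        rw [Category.id_comp, ← Spec.map_comp]
        rfl) }

theorem isLimit_cone : Nonempty (IsLimit (cone (k := k) K)) := by
  classical
  let cc : Cocone (algSys (k := k) K) :=
    ⟨CommRingCat.of K, { app := fun s => CommRingCat.ofHom (lev (k := k) K s).val.toRingHom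
                         naturality := fun _ _ _ => rfl }⟩
  obtain ⟨hcc⟩ := Groth.L19.Limit.isColimit_of_elements cc
    (fun (x : K) => ⟨{x}, ⟨x, Algebra.subset_adjoin (by simp)⟩, rfl⟩)
    (fun j x y e => ⟨j, 𝟙 _, by rw [Subtype.ext (e : (x : lev (k := k) K j).1 = (y : lev (k := k) K j).1)]⟩)
  haveI : PreservesLimitsOfSize.{u, u} Scheme.Spec.{u} := ΓSpec.adjunction.rightAdjoint_preservesLimits
  haveI : IsConnected (Finset K)ᵒᵖ := IsCofiltered.isConnected _
  have h1 : IsLimit ((Over.forget (Spec (CommRingCat.of k))).mapCone (cone (k := k) K)) :=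
    (isLimitOfPreserves Scheme.Spec hcc.op : _)
  exact ⟨isLimitOfReflects _ h1⟩

/-- A representable map into a scheme has a scheme as source. -/
theorem isRepresentable_of_representable {S : Scheme.{u}} {P Q : Sp S} {f : P ⟶ Q} (hf : Representable f)
    (h : Q.obj.IsRepresentable) : P.obj.IsRepresentable := by
  obtain ⟨T, ⟨e⟩⟩ := isRepresentable_iff_exists_iso.1 h
  have sq := hf.isPullback e.hom
  haveI : IsIso (hf.fst e.hom) := sq.isIso_fst_of_isIso
  exact isRepresentable_iff_exists_iso.2 ⟨_, ⟨asIso (hf.fst e.hom)⟩⟩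

variable {K}

theorem isPullback_prodMap (X : Sp (Spec (CommRingCat.of k))) {A A' : Over (Spec (CommRingCat.of k))}
    (φ : A' ⟶ A) : IsPullback (Limits.prod.snd : X ⨯ (yon _).obj A' ⟶ _)
      (prod.map (𝟙 X) ((yon (Spec (CommRingCat.of k))).map φ)) ((yon (Spec (CommRingCat.of k))).map φ)
      (Limits.prod.snd : X ⨯ (yon _).obj A ⟶ _) := by
  refine IsPullback.mk' (by rw [prod.map_snd]) (fun _ l l' h1 h2 => prod.hom_ext ?_ h1) fun W a b e => ?_
  · simpa using congrArg (· ≫ prod.fst) h2
  · exact ⟨prod.lift (b ≫ prod.fst) a, prod.lift_snd _ _,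
      prod.hom_ext (by rw [Category.assoc, prod.map_fst, Category.comp_id, prod.lift_fst])
        (by rw [Category.assoc, prod.map_snd, prod.lift_snd_assoc, e])⟩

theorem isRepresentable_prod_of_hom (X : Sp (Spec (CommRingCat.of k))) {A A' : Over (Spec (CommRingCat.of k))}
    (φ : A' ⟶ A) (h : (X ⨯ (yon _).obj A).obj.IsRepresentable) : (X ⨯ (yon _).obj A').obj.IsRepresentable :=
  isRepresentable_of_representable (f := prod.map (𝟙 X) ((yon _).map φ))
    (MorphismProperty.of_isPullback (P := Representable) (isPullback_prodMap X φ) (representable_yon_map φ)) h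

/-- If a quasi-compact quasi-separated space is a scheme after some extension, then over a finitely generated algebra. -/
theorem exists_fg_isRepresentable (X : Space (Spec (CommRingCat.of k))) (hqc : IsQuasiCompactSp X.obj)
    (hqs : IsQuasiSeparatedSp X.obj) (h : (X.obj ⨯ ext (k := k) K).obj.IsRepresentable) :
    ∃ s : Finset K, (X.obj ⨯ (yon (Spec (CommRingCat.of k))).obj (specA (k := k) (lev (k := k) K s))).obj.IsRepresentable := by
  classical
  let S₀ := Spec (CommRingCat.of k)
  obtain ⟨hl⟩ := isLimit_cone (k := k) K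
  let D : (Finset K)ᵒᵖ ⥤ Sp S₀ := sys (k := k) K ⋙ yon S₀
  let hT := isTerminalPt k
  let t : D ⟶ (Functor.const _).obj (pt k) :=
    { app := fun i => hT.from _
      naturality := fun _ _ _ => hT.hom_ext _ _ }
  let c : Cone D := (yon S₀).mapCone (cone (k := k) K)
  have hc : IsLimit c := isLimitOfPreserves (yon S₀) hl
  haveI : IsConnected (Finset K)ᵒᵖ := IsCofiltered.isConnected _
  have hfi : ∀ i, IsAffine ((sys (k := k) K).obj i).left := fun i =>
    inferInstanceAs (IsAffine (Spec (CommRingCat.of (lev (k := k) K i.unop))))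
  have hqD : ∀ i, IsQuasiCompactSp (D.obj i) ∧ IsQuasiSeparatedSp (D.obj i) := fun i => by
    haveI := hfi i
    exact Groth.L09.Filtration.qcqs_of_affine (IsAlgSpace.yon_obj _) (Iso.refl _)
  haveI : IsAffine (Over.mk (𝟙 S₀) : Over S₀).left := inferInstanceAs (IsAffine (Spec (CommRingCat.of k)))
  have hpt := Groth.L09.Filtration.qcqs_of_affine (IsAlgSpace.yon_obj (Over.mk (𝟙 S₀))) (Iso.refl _)
  have hDa : ∀ (i j : (Finset K)ᵒᵖ) (φ : i ⟶ j), IsAffineMor (D.map φ) := fun i j φ => by
    haveI := hfi i
    haveI := hfi j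
    exact Groth.L09.SpLimit.isAffineMor_of_iso_yon (Iso.refl _) _
  let h₀ : X.obj ⟶ pt k := hT.from _
  obtain ⟨T, ⟨e⟩⟩ := isRepresentable_iff_exists_iso.1 h
  let g : c.pt ⟶ pt k := hT.from _
  obtain ⟨i, hi⟩ := Groth.L09.SpLimit.exists_isRepresentable (D := Groth.L09.SpLimit.pbSys t h₀)
    (fun i => isAlgSpace_of_isPullback (IsAlgSpace.yon_obj (Over.mk (𝟙 S₀))).diag X.property
      (IsAlgSpace.yon_obj _) (IsPullback.of_hasPullback _ _))
    (fun i j φ => isAffineMor_iff.2
      (repWith_of_isPullback (Groth.L09.SpLimit.isPullback_pbSys t h₀ φ).flip (isAffineMor_iff.1 (hDa i j φ))))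
    (fun i => qcMor_of_qc_source (IsAlgSpace.yon_obj _) (IsAlgSpace.yon_obj _) (hqD i).1 hpt.2 (t.app i)
      X.property hqc h₀ _ _ (IsPullback.of_hasPullback h₀ (t.app i)).flip)
    (fun i => Groth.L23.isQuasiSeparatedSp_of_isPullback (IsPullback.of_hasPullback h₀ (t.app i)) hqs
      hpt.2 (hqD i).2)
    (Groth.L09.SpLimit.isLimitPbCone t h₀ hc g fun i => hT.hom_ext _ _)
    (e ≪≫ (isPullback_prod_terminal hT h₀ g).isoPullback)
  obtain ⟨T', ⟨e'⟩⟩ := isRepresentable_iff_exists_iso.1 hi
  exact ⟨i.unop, isRepresentable_iff_exists_iso.2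
    ⟨T', ⟨e' ≪≫ (isPullback_prod_terminal hT h₀ (t.app i)).isoPullback.symm⟩⟩⟩

/-- If a quasi-compact quasi-separated space is a scheme after some extension, then after a finite one. -/
theorem exists_finite_isRepresentable (X : Space (Spec (CommRingCat.of k))) (hqc : IsQuasiCompactSp X.obj)
    (hqs : IsQuasiSeparatedSp X.obj) (h : (X.obj ⨯ ext (k := k) K).obj.IsRepresentable) :
    ∃ (k₁ : Type u) (_ : Field k₁) (_ : Algebra k k₁), Module.Finite k k₁ ∧
      (X.obj ⨯ ext (k := k) k₁).obj.IsRepresentable := by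
  classical
  obtain ⟨s, hA⟩ := exists_fg_isRepresentable X hqc hqs h
  let A := lev (k := k) K s
  haveI : Algebra.FiniteType k A := (Subalgebra.fg_iff_finiteType A).1 ⟨s, rfl⟩
  haveI : Nontrivial A := inferInstance
  obtain ⟨m, hm⟩ := Ideal.exists_maximal A
  letI := Ideal.Quotient.field m
  haveI : Algebra.FiniteType k (A ⧸ m) :=
    Algebra.FiniteType.of_surjective (Ideal.Quotient.mkₐ k m) Ideal.Quotient.mk_surjective
  exact ⟨A ⧸ m, inferInstance, inferInstance, finite_of_finite_type_of_isJacobsonRing k (A ⧸ m),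
    isRepresentable_prod_of_hom X.obj (specMor (Ideal.Quotient.mkₐ k m)) hA⟩

/-- A point of a quasi-separated space has a quasi-compact quasi-separated open neighbourhood. -/
theorem exists_qcqs_nhd {S : Scheme.{u}} (X : Space S) (hqs : IsQuasiSeparatedSp X.obj) (x : Points X.obj) :
    ∃ (W : Space S) (j : W ⟶ X), RepWith @IsOpenImmersion j.hom ∧ IsQuasiCompactSp W.obj ∧
      IsQuasiSeparatedSp W.obj ∧ x ∈ Set.range (Points.map j.hom) := by
  obtain ⟨V, a, hV, ha, hx⟩ := exists_affine_etale_nhd X.property x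
  haveI := hV
  let O : TopologicalSpace.Opens (Points X.obj) := ⟨Set.range (Points.ofPt a), (isOpenMap_ofPt ha).isOpen_range⟩
  have hj := repWith_openSubι O
  haveI := mono_of_repWith_openImmersion hj
  obtain ⟨a', ha'⟩ := (exists_factor_iff hj a).2 (by rw [range_openSubι, range_map_yon]; exact subset_rfl)
  refine ⟨⟨openSub O, isAlgSpace_openSub O X.property⟩, ObjectProperty.homMk (openSubι O), hj,
    qcSp_of_surjective (isAlgSpace_openSub O X.property) a' (fun y => ?_)
      (Groth.L09.Filtration.qcqs_of_affine (IsAlgSpace.yon_obj V) (Iso.refl _)).1,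
    Qs.isQuasiSeparatedSp_of_mono hqs (openSubι O), (range_openSubι O).ge hx⟩
  obtain ⟨v, hv⟩ : Points.map (openSubι O) y ∈ Set.range (Points.map a) := by
    rw [range_map_yon]
    exact (range_openSubι O).le ⟨y, rfl⟩
  refine ⟨v, QFL.map_injective_of_mono (openSubι O) ?_⟩
  rw [← Points.map_comp, ha', hv]

/-- A quasi-separated space which is a scheme after some extension is one over an algebraic closure. -/
theorem isRepresentable_of_isAlgClosed (X : Space (Spec (CommRingCat.of k))) (hqs : IsQuasiSeparatedSp X.obj)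
    (h : (X.obj ⨯ ext (k := k) K).obj.IsRepresentable) (kbar : Type u) [Field kbar] [Algebra k kbar]
    [IsAlgClosed kbar] : (X.obj ⨯ ext (k := k) kbar).obj.IsRepresentable := by
  have hY : IsAlgSpace (X.obj ⨯ ext (k := k) kbar) :=
    isAlgSpace_of_isPullback (IsAlgSpace.yon_obj (Over.mk (𝟙 _))).diag X.property (IsAlgSpace.yon_obj _)
      (isPullback_prod_terminal (isTerminalPt k) ((isTerminalPt k).from _) ((isTerminalPt k).from _))
  have hall : ∀ y : Points (X.obj ⨯ ext (k := k) kbar), SL.SchemePt y := by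
    intro y
    obtain ⟨W, j, hj, hWqc, hWqs, w, hw⟩ := exists_qcqs_nhd X hqs (Points.map Limits.prod.fst y)
    have hsq : ∀ (L : Type u) [Field L] [Algebra k L],
        IsPullback (Limits.prod.fst : W.obj ⨯ ext (k := k) L ⟶ _) (prod.map j.hom (𝟙 _)) j.hom
          (Limits.prod.fst : X.obj ⨯ ext (k := k) L ⟶ _) := by
      intro L _ _
      refine IsPullback.mk' (by rw [prod.map_fst]) (fun _ l l' h1 h2 => prod.hom_ext h1 ?_) fun T a b e => ?_
      · simpa using congrArg (· ≫ prod.snd) h2
      · exact ⟨prod.lift a (b ≫ prod.snd), prod.lift_fst _ _,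
          prod.hom_ext (by rw [Category.assoc, prod.map_fst, prod.lift_fst_assoc, e])
            (by rw [Category.assoc, prod.map_snd, Category.comp_id, prod.lift_snd])⟩
    have hWK : (W.obj ⨯ ext (k := k) K).obj.IsRepresentable :=
      isRepresentable_of_representable (repWith_of_isPullback (hsq K) hj).1 h
    obtain ⟨k₁, _, _, hfin, h₁⟩ := exists_finite_isRepresentable W hWqc hWqs hWK
    haveI := hfin
    let ι : k₁ →ₐ[k] kbar := IsAlgClosed.lift
    have h₂ : (W.obj ⨯ ext (k := k) kbar).obj.IsRepresentable :=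
      isRepresentable_prod_of_hom W.obj (specMor ι) h₁
    obtain ⟨T, ⟨e⟩⟩ := isRepresentable_iff_exists_iso.1 h₂
    obtain ⟨p, -, hp⟩ := exists_of_isPullback (hsq kbar) w y hw
    obtain ⟨t, ht⟩ := (Points.schemeHomeo T).surjective (Points.map e.inv p)
    refine hp ▸ ⟨T, e.hom ≫ prod.map j.hom (𝟙 _), t,
      repWith_comp (repWith_of_isIso _) (repWith_of_isPullback (hsq kbar) hj), ?_⟩
    rw [Points.ofPt_eq_map_ofScheme, show Points.ofScheme T t = Points.map e.inv p from ht, ← Points.map_comp,
      e.inv_hom_id_assoc]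
  obtain ⟨X', j, hj, hrep, hjr⟩ := SL.exists_locus hY
  haveI := isIso_of_openImmersion_surjective hj fun x => hjr.ge (hall x)
  obtain ⟨T', ⟨e'⟩⟩ := isRepresentable_iff_exists_iso.1 hrep
  exact isRepresentable_iff_exists_iso.2 ⟨T', ⟨e' ≪≫ asIso j⟩⟩

end Groth.L23.FieldLim
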