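import Groth.Agent.L23.PurelyTranscendental
import Groth.Agent.L09.SpLimit.OpenDescend
import Mathlib.LinearAlgebra.TensorProduct.Basis
import Mathlib.RingTheory.Nullstellensatz

/-!
# Schematic points descend along extensions of algebraically closed fields
-/

universe u

open CategoryTheory CategoryTheory.Limits AlgebraicGeometry AlgSp Topology TensorProduct Opposite

set_option autoImplicit false
set_option backward.isDefEq.respectTransparency.types false
set_option linter.style.haveILetI false

noncomputable section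

namespace Groth.L23.FieldSpec

open Groth.L23.GConn

/-- A nonzero element of `L ⊗ A` stays nonzero at some rational point of a finite type domain. -/
theorem exists_rational_avoiding {k L A : Type u} [Field k] [IsAlgClosed k] [Field L] [Algebra k L] [CommRing A]
    [IsDomain A] [Algebra k A] [Algebra.FiniteType k A] {g : L ⊗[k] A} (hg : g ≠ 0) :
    ∃ σ : A →ₐ[k] k, Algebra.TensorProduct.lift (AlgHom.id k L) ((Algebra.ofId k L).comp σ)
      (fun _ _ => Commute.all _ _) g ≠ 0 := by
  classical
  let b := Module.Free.chooseBasis k L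
  let e := TensorProduct.equivFinsuppOfBasisLeft b (N := A)
  obtain ⟨i, hi⟩ : ∃ i, e g i ≠ 0 := by
    by_contra! h
    exact hg (e.injective ((Finsupp.ext h).trans (map_zero e).symm))
  haveI : IsJacobsonRing A := isJacobsonRing_of_finiteType (A := k)
  obtain ⟨m, hm, him⟩ : ∃ m : Ideal A, m.IsMaximal ∧ e g i ∉ m := by
    by_contra! h
    refine hi ?_
    have h1 : e g i ∈ (⊥ : Ideal A).jacobson := Ideal.mem_sInf.2 fun J hJ => h J hJ.2
    rwa [isJacobsonRing_iff.1 inferInstance ⊥ Ideal.isPrime_bot.isRadical, Ideal.mem_bot] at h1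
  letI := Ideal.Quotient.field m
  haveI : Algebra.FiniteType k (A ⧸ m) :=
    Algebra.FiniteType.of_surjective (Ideal.Quotient.mkₐ k m) Ideal.Quotient.mk_surjective
  haveI : Module.Finite k (A ⧸ m) := finite_of_finite_type_of_isJacobsonRing k (A ⧸ m)
  let ek : k ≃ₐ[k] A ⧸ m :=
    AlgEquiv.ofBijective (Algebra.ofId k (A ⧸ m)) IsAlgClosed.algebraMap_bijective_of_isIntegral
  let σ : A →ₐ[k] k := ek.symm.toAlgHom.comp (Ideal.Quotient.mkₐ k m)
  refine ⟨σ, fun h0 => him ?_⟩
  have key : ∀ x : L ⊗[k] A, b.repr (Algebra.TensorProduct.lift (AlgHom.id k L) ((Algebra.ofId k L).comp σ)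
      (fun _ _ => Commute.all _ _) x) i = σ (e x i) := by
    intro x
    induction x using TensorProduct.induction_on with
    | zero => simp
    | tmul l a =>
      rw [Algebra.TensorProduct.lift_tmul]
      show b.repr (l * algebraMap k L (σ a)) i = _
      rw [mul_comm, ← Algebra.smul_def, map_smul, Finsupp.smul_apply,
        TensorProduct.equivFinsuppOfBasisLeft_apply_tmul_apply, map_smul, smul_eq_mul, smul_eq_mul, mul_comm]
    | add x y hx hy => simp only [map_add, Finsupp.add_apply, hx, hy]
  have h1 : σ (e g i) = 0 := by rw [← key, h0, map_zero]; rfl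
  have h2 : Ideal.Quotient.mk m (e g i) = 0 := by
    have h3 := congrArg ek h1
    rw [map_zero] at h3
    rw [← h3]
    exact (ek.apply_symm_apply _).symm
  exact Ideal.Quotient.eq_zero_iff_mem.1 h2

variable {k : Type u} [Field k] {k' : Type u} [Field k'] [Algebra k k'] {K : Type u} [Field K] [Algebra k K]
  [Algebra k' K] [IsScalarTower k k' K]

theorem isoPullback_map {C : Type*} [Category C] [HasBinaryProducts C] [HasPullbacks C] {A B B' D : C} {f : A ⟶ D}
    {g : B ⟶ D} {g' : B' ⟶ D} (h : IsPullback (prod.fst : A ⨯ B ⟶ A) prod.snd f g)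
    (h' : IsPullback (prod.fst : A ⨯ B' ⟶ A) prod.snd f g') (φ : B ⟶ B') (w₁ : f ≫ 𝟙 D = 𝟙 A ≫ f)
    (w₂ : g ≫ 𝟙 D = φ ≫ g') :
    h.isoPullback.hom ≫ pullback.map f g f g' (𝟙 A) φ (𝟙 D) w₁ w₂ ≫ h'.isoPullback.inv = prod.map (𝟙 A) φ := by
  refine prod.hom_ext ?_ ?_
  · simp only [Category.assoc, IsPullback.isoPullback_inv_fst, prod.map_fst, Category.comp_id]
    rw [pullback.lift_fst, Category.comp_id, h.isoPullback_hom_fst]
  · simp only [Category.assoc, IsPullback.isoPullback_inv_snd, prod.map_snd]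
    rw [pullback.lift_snd, reassoc_of% h.isoPullback_hom_snd]

variable (k k' K)

/-- The finitely generated `k'`-algebras in `K`. -/
abbrev lev (s : Finset K) : Subalgebra k' K := Algebra.adjoin k' (s : Set K)

/-- Their inclusions. -/
def levMap {s t : Finset K} (h : s ≤ t) : lev k' K s →ₐ[k] lev k' K t :=
  (Subalgebra.inclusion (Algebra.adjoin_mono (Finset.coe_subset.2 h))).restrictScalars k

/-- The system of schemes over `k`. -/
def sys : (Finset K)ᵒᵖ ⥤ Over (Spec (CommRingCat.of k)) where
  obj s := specA (k := k) (lev k' K s.unop)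
  map h := specMor (levMap k k' K (leOfHom h.unop))
  map_id s := Over.OverMorphism.ext (by
    show Spec.map (CommRingCat.ofHom (levMap k k' K (le_refl s.unop)).toRingHom) = 𝟙 _
    rw [← Spec.map_id]
    rfl)
  map_comp {a b c} f g := Over.OverMorphism.ext (by
    show Spec.map (CommRingCat.ofHom (levMap k k' K _).toRingHom) =
      Spec.map (CommRingCat.ofHom (levMap k k' K (leOfHom f.unop)).toRingHom) ≫
        Spec.map (CommRingCat.ofHom (levMap k k' K (leOfHom g.unop)).toRingHom)
    rw [← Spec.map_comp]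
    rfl)

/-- The spectrum of `K` over the system. -/
def cone : Cone (sys k k' K) where
  pt := specA (k := k) K
  π :=
    { app := fun s => specMor ((lev k' K s.unop).val.restrictScalars k)
      naturality := fun a b f => Over.OverMorphism.ext (by
        show 𝟙 _ ≫ Spec.map (CommRingCat.ofHom ((lev k' K b.unop).val.restrictScalars k).toRingHom) =
          Spec.map (CommRingCat.ofHom ((lev k' K a.unop).val.restrictScalars k).toRingHom) ≫
            Spec.map (CommRingCat.ofHom (levMap k k' K (leOfHom f.unop)).toRingHom)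
        rw [Category.id_comp, ← Spec.map_comp]
        rfl) }

/-- The system of algebras. -/
def algSys : Finset K ⥤ CommRingCat.{u} where
  obj s := CommRingCat.of (lev k' K s)
  map h := CommRingCat.ofHom (levMap k k' K (leOfHom h)).toRingHom
  map_id _ := CommRingCat.hom_ext (RingHom.ext fun _ => rfl)
  map_comp _ _ := CommRingCat.hom_ext (RingHom.ext fun _ => rfl)

theorem isLimit_cone : Nonempty (IsLimit (cone k k' K)) := by
  classical
  let cc : Cocone (algSys k k' K) :=
    ⟨CommRingCat.of K, { app := fun s => CommRingCat.ofHom ((lev k' K s).val.restrictScalars k).toRingHom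
                         naturality := fun _ _ _ => CommRingCat.hom_ext (RingHom.ext fun _ => rfl) }⟩
  obtain ⟨hcc⟩ := Groth.L19.Limit.isColimit_of_elements cc
    (fun (x : K) => ⟨{x}, ⟨x, Algebra.subset_adjoin (by simp)⟩, rfl⟩)
    (fun j x y e => ⟨j, 𝟙 _, by rw [Subtype.ext (e : (x : lev k' K j).1 = (y : lev k' K j).1)]⟩)
  haveI : PreservesLimitsOfSize.{u, u} Scheme.Spec.{u} := ΓSpec.adjunction.rightAdjoint_preservesLimits
  haveI : IsConnected (Finset K)ᵒᵖ := IsCofiltered.isConnected _
  have h0 : IsLimit (Scheme.Spec.mapCone cc.op) := isLimitOfPreserves Scheme.Spec hcc.op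
  have h1 : IsLimit ((Over.forget (Spec (CommRingCat.of k))).mapCone (cone k k' K)) :=
    { lift := fun s => h0.lift ⟨s.pt, { app := fun i => s.π.app i, naturality := fun _ _ φ => s.π.naturality φ }⟩
      fac := fun s i => h0.fac ⟨s.pt, { app := fun i => s.π.app i, naturality := fun _ _ φ => s.π.naturality φ }⟩ i
      uniq := fun s m hm => h0.uniq
        ⟨s.pt, { app := fun i => s.π.app i, naturality := fun _ _ φ => s.π.naturality φ }⟩ m hm }
  exact ⟨isLimitOfReflects _ h1⟩

theorem exists_affine_descend (X : Space (Spec (CommRingCat.of k))) (hqc : IsQuasiCompactSp X.obj)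
    (hqs : IsQuasiSeparatedSp X.obj) {B : Over (Spec (CommRingCat.of k))} [IsAffine B.left]
    (ι : (yon _).obj B ⟶ X.obj ⨯ ext (k := k) K) (hι : RepWith @IsOpenImmersion ι)
    {y : Points (X.obj ⨯ ext (k := k) K)} (hy : y ∈ Set.range (Points.map ι)) :
    ∃ (s : Finset K) (T' : Over (Spec (CommRingCat.of k)))
      (a : (yon _).obj T' ⟶ X.obj ⨯ (yon _).obj (specA (k := k) (lev k' K s))),
      IsAffine T'.left ∧ RepWith @IsOpenImmersion a ∧
      Points.map (prod.map (𝟙 X.obj) ((yon _).map (specMor ((lev k' K s).val.restrictScalars k)))) y ∈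
        Set.range (Points.map a) := by
  classical
  let S₀ := Spec (CommRingCat.of k)
  obtain ⟨hl⟩ := isLimit_cone k k' K
  let D : (Finset K)ᵒᵖ ⥤ Sp S₀ := sys k k' K ⋙ yon S₀
  let hT := isTerminalPt k
  let t : D ⟶ (Functor.const _).obj (pt k) :=
    { app := fun i => hT.from _
      naturality := fun _ _ _ => hT.hom_ext _ _ }
  let c : Cone D := (yon S₀).mapCone (cone k k' K)
  have hc : IsLimit c := isLimitOfPreserves (yon S₀) hl
  haveI : IsConnected (Finset K)ᵒᵖ := IsCofiltered.isConnected _
  have hfi : ∀ i, IsAffine ((sys k k' K).obj i).left := fun i =>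
    inferInstanceAs (IsAffine (Spec (CommRingCat.of (lev k' K i.unop))))
  have hqD : ∀ i, IsQuasiCompactSp (D.obj i) ∧ IsQuasiSeparatedSp (D.obj i) := fun i => by
    haveI := hfi i
    exact Groth.L09.Filtration.qcqs_of_affine (IsAlgSpace.yon_obj _) (Iso.refl _)
  haveI : IsAffine (Over.mk (𝟙 S₀) : Over S₀).left := inferInstanceAs (IsAffine (Spec (CommRingCat.of k)))
  have hpt := Groth.L09.Filtration.qcqs_of_affine (IsAlgSpace.yon_obj (Over.mk (𝟙 S₀))) (Iso.refl _)
  have hDa : ∀ (i j : (Finset K)ᵒᵖ) (φ : i ⟶ j), IsAffineMor (D.map φ) := fun i j φ => by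
    haveI := hfi i
    haveI := hfi j
    exact Groth.L09.SpLimit.isAffineMor_of_iso_yon (Iso.refl _) _
  let h₀ : X.obj ⟶ pt k := hT.from _
  let g : c.pt ⟶ pt k := hT.from _
  let E := Groth.L09.SpLimit.pbSys t h₀
  have hEsp : ∀ i, IsAlgSpace (E.obj i) := fun i =>
    isAlgSpace_of_isPullback (IsAlgSpace.yon_obj (Over.mk (𝟙 S₀))).diag X.property
      (IsAlgSpace.yon_obj _) (IsPullback.of_hasPullback _ _)
  have hEa : ∀ (i j : (Finset K)ᵒᵖ) (φ : i ⟶ j), IsAffineMor (E.map φ) := fun i j φ => isAffineMor_iff.2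
    (repWith_of_isPullback (Groth.L09.SpLimit.isPullback_pbSys t h₀ φ).flip (isAffineMor_iff.1 (hDa i j φ)))
  have hEqc : ∀ i, IsQuasiCompactSp (E.obj i) := fun i =>
    qcMor_of_qc_source (IsAlgSpace.yon_obj _) (IsAlgSpace.yon_obj _) (hqD i).1 hpt.2 (t.app i)
      X.property hqc h₀ _ _ (IsPullback.of_hasPullback h₀ (t.app i)).flip
  have hEqs : ∀ i, IsQuasiSeparatedSp (E.obj i) := fun i =>
    Groth.L23.isQuasiSeparatedSp_of_isPullback (IsPullback.of_hasPullback h₀ (t.app i)) hqs hpt.2 (hqD i).2
  let cE := Groth.L09.SpLimit.pbCone t h₀ c g fun i => hT.hom_ext _ _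
  have hcE : IsLimit cE := Groth.L09.SpLimit.isLimitPbCone t h₀ hc g fun i => hT.hom_ext _ _
  let eE : X.obj ⨯ ext (k := k) K ≅ cE.pt := (isPullback_prod_terminal hT h₀ g).isoPullback
  have hιE : RepWith @IsOpenImmersion (ι ≫ eE.hom) := repWith_comp hι (repWith_of_isIso _)
  have hqB := Groth.L09.Filtration.qcqs_of_affine (IsAlgSpace.yon_obj B) (Iso.refl _)
  obtain ⟨i, Ui, ji, q, hji, hUi, sq⟩ :=
    Groth.L09.SpLimit.exists_open_descend hEsp hEa hEqc hEqs hcE (ι ≫ eE.hom) hιE hqB.1
  have hUisp : IsAlgSpace Ui := isAlgSpace_of_representable_to (hEsp i) hji.1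
  have hUiqs : IsQuasiSeparatedSp Ui := haveI := mono_of_repWith_openImmersion hji
    Qs.isQuasiSeparatedSp_of_mono (hEqs i) ji
  haveI : IsConnected (Over i) := IsCofiltered.isConnected _
  let t' : Over.forget i ⋙ E ⟶ (Functor.const (Over i)).obj (E.obj i) :=
    { app := fun j => E.map j.hom
      naturality := fun a b φ => by
        show E.map φ.left ≫ E.map b.hom = E.map a.hom ≫ 𝟙 _
        rw [← E.map_comp, Over.w φ, Category.comp_id] }
  obtain ⟨j, T', hT', ⟨e'⟩⟩ := Groth.L09.SpLimit.exists_affine_pbSys (D := Over.forget i ⋙ E) (hEsp i) (hEqs i)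
    hUisp hUi hUiqs (fun j => hEsp j.left) (fun a b φ => hEa _ _ φ.left) (fun j => hEqc j.left)
    (fun j => hEqs j.left) t' ji ((Functor.Initial.isLimitWhiskerEquiv (Over.forget i) cE).symm hcE) (cE.π.app i)
    (fun j => cE.w j.hom) sq.flip (Iso.refl _)
  have sqk := IsPullback.of_hasPullback ji (t'.app j)
  let eL : X.obj ⨯ (yon S₀).obj (specA (k := k) (lev k' K j.left.unop)) ≅ E.obj j.left :=
    (isPullback_prod_terminal hT h₀ (t.app j.left)).isoPullback
  let a : (yon S₀).obj T' ⟶ X.obj ⨯ (yon S₀).obj (specA (k := k) (lev k' K j.left.unop)) :=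
    (e'.hom ≫ pullback.snd ji (t'.app j)) ≫ eL.inv
  refine ⟨j.left.unop, T', a, hT',
    repWith_comp (repWith_comp (repWith_of_isIso _) (repWith_of_isPullback sqk hji)) (repWith_of_isIso _), ?_⟩
  let m := sqk.lift q ((ι ≫ eE.hom) ≫ cE.π.app j.left) (by
    show q ≫ ji = ((ι ≫ eE.hom) ≫ cE.π.app j.left) ≫ E.map j.hom
    rw [Category.assoc, cE.w, sq.w])
  obtain ⟨r, rfl⟩ := hy
  refine ⟨Points.map (m ≫ e'.inv) r, ?_⟩
  rw [← Points.map_comp, ← Points.map_comp]
  refine congrArg (fun f => Points.map f r) ?_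
  show (m ≫ e'.inv) ≫ (e'.hom ≫ pullback.snd ji (t'.app j)) ≫ eL.inv = _
  simp only [Category.assoc, Iso.inv_hom_id_assoc]
  rw [IsPullback.lift_snd_assoc]
  simp only [Category.assoc]
  refine congrArg (fun f => ι ≫ f) ?_
  exact isoPullback_map (isPullback_prod_terminal hT h₀ g) (isPullback_prod_terminal hT h₀ (t.app j.left))
    ((yon S₀).map (specMor ((lev k' K j.left.unop).val.restrictScalars k)))
    ((Category.comp_id _).trans (Category.id_comp _).symm) (hT.hom_ext _ _)

variable {k k' K}

/-- Schematic points descend along extensions of algebraically closed fields. -/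
theorem schemePt_descend [IsAlgClosed k'] (X : Space (Spec (CommRingCat.of k))) (hqc : IsQuasiCompactSp X.obj)
    (hqs : IsQuasiSeparatedSp X.obj) (y : Points (X.obj ⨯ ext (k := k) K))
    {B : Over (Spec (CommRingCat.of k))} [IsAffine B.left] (ι : (yon _).obj B ⟶ X.obj ⨯ ext (k := k) K)
    (hι : RepWith @IsOpenImmersion ι) (hy : y ∈ Set.range (Points.map ι)) :
    SL.SchemePt (Points.map (prod.map (𝟙 X.obj) ((yon _).map (specMor (IsScalarTower.toAlgHom k k' K)))) y) := by
  classical
  let S₀ := Spec (CommRingCat.of k)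
  obtain ⟨s, T', a, hT', ha, hya⟩ := exists_affine_descend k k' K X hqc hqs ι hι hy
  haveI := hT'
  let A := lev k' K s
  haveI : Algebra.FiniteType k' A := (Subalgebra.fg_iff_finiteType A).1 ⟨s, rfl⟩
  have hao : IsOpen (Set.range (Points.map a)) :=
    (isOpenMap_map_of_universallyOpen
      (repWith_mono (fun f (_ : IsOpenImmersion f) => (inferInstance : UniversallyOpen f)) ha)).isOpen_range
  obtain ⟨⟨L, str, val⟩, rfl⟩ := Points.mk_surjective y
  let qy : FieldPt (X.obj ⨯ ext (k := k) K) := ⟨L, str, val⟩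
  obtain ⟨φ, rfl⟩ := Spec.map_surjective str
  letI : Algebra k L := φ.hom.toAlgebra
  let v : (yon S₀).obj (specA (k := k) L) ⟶ X.obj ⨯ ext (k := k) K := qy.toHom
  obtain ⟨ψo, hψo⟩ := (yon S₀).map_surjective (v ≫ prod.snd)
  obtain ⟨ψ', hψ'⟩ := Spec.map_surjective ψo.left
  let ψ : K →ₐ[k] L :=
    { ψ'.hom with
      commutes' := fun r => by
        have hw : ψo.left ≫ Spec.map (CommRingCat.ofHom (algebraMap k K)) = Spec.map φ := Over.w ψo
        rw [← hψ', ← Spec.map_comp] at hw
        exact congrArg (fun F : CommRingCat.of k ⟶ CommRingCat.of L => F.hom r) (Spec.map_injective hw) }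
  have hψ : ψo = specMor ψ := Over.OverMorphism.ext hψ'.symm
  letI : Algebra k' L := (ψ.toRingHom.comp (algebraMap k' K)).toAlgebra
  haveI : IsScalarTower k k' L := IsScalarTower.of_algebraMap_eq fun r => by
    show algebraMap k L r = ψ (algebraMap k' K (algebraMap k k' r))
    rw [← IsScalarTower.algebraMap_apply, ψ.commutes]
  let χ : L ⊗[k'] A →ₐ[k'] L := Algebra.TensorProduct.lift (AlgHom.id k' L)
    { toRingHom := ψ.toRingHom.comp A.val.toRingHom, commutes' := fun _ => rfl } (fun _ _ => Commute.all _ _)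
  let z₀ : PrimeSpectrum (L ⊗[k'] A) := ⟨RingHom.ker χ, RingHom.ker_isPrime _⟩
  let cA : (yon S₀).obj (specA (k := k) (L ⊗[k'] A)) ⟶ X.obj ⨯ (yon S₀).obj (specA (k := k) A) :=
    prod.lift ((yon S₀).map (specMor ((Algebra.TensorProduct.includeLeft : L →ₐ[k'] L ⊗[k'] A).restrictScalars k)) ≫
        v ≫ prod.fst)
      ((yon S₀).map (specMor ((Algebra.TensorProduct.includeRight : A →ₐ[k'] L ⊗[k'] A).restrictScalars k)))
  have hcy : (yon S₀).map (specMor (χ.restrictScalars k)) ≫ cA =
      v ≫ prod.map (𝟙 X.obj) ((yon S₀).map (specMor (A.val.restrictScalars k))) := by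
    refine prod.hom_ext ?_ ?_
    · rw [Category.assoc, prod.lift_fst, Category.assoc, prod.map_fst, Category.comp_id, ← Functor.map_comp_assoc,
        specMor_comp]
      rw [show (χ.restrictScalars k).comp
          ((Algebra.TensorProduct.includeLeft : L →ₐ[k'] L ⊗[k'] A).restrictScalars k) = AlgHom.id k L from
        AlgHom.ext fun l => by simp [χ]]
      rw [show specMor (AlgHom.id k L) = 𝟙 (specA (k := k) L) from Over.OverMorphism.ext (by
          show Spec.map (CommRingCat.ofHom (RingHom.id L)) = 𝟙 _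
          rw [CommRingCat.ofHom_id, Spec.map_id]), CategoryTheory.Functor.map_id, Category.id_comp]
    · rw [Category.assoc, prod.lift_snd, Category.assoc, prod.map_snd, ← Category.assoc, ← hψo, hψ,
        ← Functor.map_comp, specMor_comp, ← Functor.map_comp, specMor_comp]
      refine congrArg (fun F => (yon S₀).map (specMor F)) (AlgHom.ext fun l => ?_)
      simp [χ]
  have hv : ∀ r : Points ((yon S₀).obj (specA (k := k) L)), Points.map v r = Points.mk qy := by
    intro r
    obtain ⟨t, rfl⟩ := (Points.schemeHomeo _).surjective r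
    rw [← Points.ofPt_toHom qy t]
    exact (Points.ofPt_eq_map_ofScheme v t).symm
  let r₀ := Points.schemeHomeo (specA (k := k) L) (⊥ : PrimeSpectrum L)
  have hz₀ : Points.map cA (Points.schemeHomeo (specA (k := k) (L ⊗[k'] A)) z₀) ∈ Set.range (Points.map a) := by
    have h1 : Points.map ((yon S₀).map (specMor (χ.restrictScalars k))) r₀ =
        Points.schemeHomeo (specA (k := k) (L ⊗[k'] A)) z₀ := by
      rw [Points.map_yon_map_eq]
      simp only [r₀, Function.comp_apply, Homeomorph.symm_apply_apply]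
      refine congrArg _ (PrimeSpectrum.ext ?_)
      show Ideal.comap χ.toRingHom (⊥ : Ideal L) = RingHom.ker χ
      rfl
    rw [← h1, ← Points.map_comp, hcy, Points.map_comp, hv]
    exact hya
  obtain ⟨_, ⟨_, ⟨g, rfl⟩, rfl⟩, hzg, hsub⟩ := PrimeSpectrum.isBasis_basic_opens.exists_subset_of_mem_open
    (show z₀ ∈ (fun z : PrimeSpectrum (L ⊗[k'] A) =>
      Points.map cA (Points.schemeHomeo (specA (k := k) (L ⊗[k'] A)) z)) ⁻¹' Set.range (Points.map a) from hz₀)
    (hao.preimage ((Points.continuous_map cA).comp (Points.schemeHomeo (specA (k := k) (L ⊗[k'] A))).continuous))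
  obtain ⟨σ, hσ⟩ := exists_rational_avoiding (k := k') (L := L) (A := A) (g := g) (fun h0 => hzg (by
    rw [h0]; exact zero_mem _))
  let χσ : L ⊗[k'] A →ₐ[k'] L :=
    Algebra.TensorProduct.lift (AlgHom.id k' L) ((Algebra.ofId k' L).comp σ) (fun _ _ => Commute.all _ _)
  let u := prod.map (𝟙 X.obj) ((yon S₀).map (specMor (IsScalarTower.toAlgHom k k' K)))
  let w := prod.map (𝟙 X.obj) ((yon S₀).map (specMor (σ.restrictScalars k)))
  have hwu : (yon S₀).map (specMor (χσ.restrictScalars k)) ≫ cA = (v ≫ u) ≫ w := by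
    refine prod.hom_ext ?_ ?_
    · rw [Category.assoc, prod.lift_fst, Category.assoc, prod.map_fst, Category.comp_id, Category.assoc,
        prod.map_fst, Category.comp_id, ← Functor.map_comp_assoc, specMor_comp]
      rw [show (χσ.restrictScalars k).comp
          ((Algebra.TensorProduct.includeLeft : L →ₐ[k'] L ⊗[k'] A).restrictScalars k) = AlgHom.id k L from
        AlgHom.ext fun l => by simp [χσ]]
      rw [show specMor (AlgHom.id k L) = 𝟙 (specA (k := k) L) from Over.OverMorphism.ext (by
          show Spec.map (CommRingCat.ofHom (RingHom.id L)) = 𝟙 _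
          rw [CommRingCat.ofHom_id, Spec.map_id]), CategoryTheory.Functor.map_id, Category.id_comp]
    · rw [Category.assoc, prod.lift_snd, Category.assoc, prod.map_snd, Category.assoc, prod.map_snd_assoc,
        ← Category.assoc v, ← hψo, hψ, ← Functor.map_comp, specMor_comp, ← Functor.map_comp, specMor_comp,
        ← Functor.map_comp, specMor_comp]
      refine congrArg (fun F => (yon S₀).map (specMor F)) (AlgHom.ext fun l => ?_)
      simp [χσ]
      rfl
  have hu : Points.map w (Points.map u (Points.mk qy)) ∈ Set.range (Points.map a) := by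
    rw [← hv r₀, ← Points.map_comp, ← Points.map_comp, ← hwu.trans (Category.assoc _ _ _), Points.map_comp,
      Points.map_yon_map_eq]
    simp only [r₀, Function.comp_apply, Homeomorph.symm_apply_apply]
    refine hsub ?_
    show g ∉ (PrimeSpectrum.comap χσ.toRingHom (⊥ : PrimeSpectrum L)).asIdeal
    intro hg
    exact hσ (Ideal.mem_bot.1 hg)
  have hw : Representable w :=
    MorphismProperty.of_isPullback (P := Representable) (FieldLim.isPullback_prodMap X.obj (specMor (σ.restrictScalars k)))
      (representable_yon_map _)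
  obtain ⟨r', hr'⟩ := (range_fst_of_isPullback (hw.isPullback a)).ge hu
  obtain ⟨t, rfl⟩ := (Points.schemeHomeo _).surjective r'
  exact ⟨_, hw.fst a, t, repWith_of_isPullback (hw.isPullback a).flip ha,
    (Points.ofPt_eq_map_ofScheme _ _).trans hr'⟩

end Groth.L23.FieldSpec
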