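import Mathlib.FieldTheory.IsAlgClosed.AlgebraicClosure
import Mathlib.RingTheory.Flat.TorsionFree
import Mathlib.RingTheory.Spectrum.Prime.Chevalley
import Mathlib.RingTheory.FiniteStability
import Mathlib.RingTheory.Polynomial.Basic
import Mathlib.Algebra.Field.Subfield.Basic
import Mathlib.FieldTheory.AlgebraicClosure

/-!
# A field mapping into a finitely generated algebra domain has algebraic image
-/

universe u

open Polynomial

set_option linter.style.haveILetI false

namespace Groth.L23.FieldUnits

theorem exists_coprime_minpoly {F : Type u} [Field F] {k : Type u} [Field k] [Algebra F k] (g : k[X])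
    (hg : g ≠ 0) : ∃ f : F[X], f.Monic ∧ Irreducible f ∧ IsCoprime (f.map (algebraMap F k)) g := by
  classical
  let Ω := AlgebraicClosure k
  haveI : IsAlgClosed (algebraicClosure F Ω) := IsAlgClosure.isAlgClosed F
  let Z : Finset Ω := (g.map (algebraMap k Ω)).roots.toFinset
  let Z' : Finset Ω := Z.biUnion fun z => ((minpoly F z).map (algebraMap F Ω)).roots.toFinset
  obtain ⟨y, hy⟩ := Infinite.exists_notMem_finset (Z'.preimage
    ((algebraMap (algebraicClosure F Ω) Ω)) (algebraMap (algebraicClosure F Ω) Ω).injective.injOn)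
  have hyi : IsIntegral F (y : Ω) := (mem_algebraicClosure_iff.1 y.2).isIntegral
  refine ⟨minpoly F (y : Ω), minpoly.monic hyi, minpoly.irreducible hyi, ?_⟩
  rw [Polynomial.isCoprime_iff_aeval_ne_zero_of_isAlgClosed k Ω]
  intro z
  by_contra h
  push_neg at h
  obtain ⟨h₁, h₂⟩ := h
  rw [aeval_map_algebraMap] at h₁
  have e : minpoly F (y : Ω) = minpoly F z :=
    minpoly.eq_of_irreducible_of_monic (minpoly.irreducible hyi) h₁ (minpoly.monic hyi)
  refine hy (Finset.mem_preimage.2 (Finset.mem_biUnion.2 ⟨z, ?_, ?_⟩))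
  · rw [Multiset.mem_toFinset, mem_roots (map_ne_zero hg), IsRoot.def, eval_map, ← aeval_def]
    exact h₂
  · rw [← e, Multiset.mem_toFinset, mem_roots (map_ne_zero (minpoly.ne_zero hyi)), IsRoot.def, eval_map,
      ← aeval_def]
    exact minpoly.aeval F (y : Ω)

theorem isIntegral_hom {k A : Type u} [Field k] [CommRing A] [IsDomain A] [Algebra k A]
    [Algebra.FiniteType k A] (φ : k →+* A) (a : k) : IsIntegral k (φ a) := by
  classical
  let F : Subfield k := ⊥
  have hF : ∀ c : F, φ (c : k) = algebraMap k A (c : k) := by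
    intro c
    have h : F ≤ φ.eqLocusField (algebraMap k A) := bot_le
    exact h c.2
  by_contra hn
  have htr : Transcendental k (φ a) := fun h => hn h.isIntegral
  have hinj : Function.Injective (aeval (R := k) (φ a)) := transcendental_iff_injective.1 htr
  letI : Algebra k[X] A := (aeval (R := k) (φ a)).toRingHom.toAlgebra
  haveI : IsScalarTower k k[X] A := .of_algebraMap_eq fun c => by
    show _ = aeval (φ a) (C c)
    simp
  haveI : Algebra.FiniteType k[X] A := Algebra.FiniteType.of_restrictScalars_finiteType k k[X] A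
  haveI : Algebra.FinitePresentation k[X] A := Algebra.FinitePresentation.of_finiteType.1 inferInstance
  haveI : Module.IsTorsionFree k[X] A := by
    refine Module.isTorsionFree_iff_algebraMap_injective.2 ?_
    exact hinj
  haveI : Module.Flat k[X] A := inferInstance
  have ho := PrimeSpectrum.isOpenMap_comap_of_hasGoingDown_of_finitePresentation (R := k[X]) (S := A)
  have hne : (Set.range (PrimeSpectrum.comap (algebraMap k[X] A))).Nonempty :=
    ⟨_, ⟨⊥, Ideal.bot_prime⟩, rfl⟩
  obtain ⟨x, hx⟩ := hne
  obtain ⟨t, ⟨g, rfl⟩, hxg, hgs⟩ :=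
    PrimeSpectrum.isTopologicalBasis_basic_opens.exists_subset_of_mem_open hx ho.isOpen_range
  have hg : g ≠ 0 := fun h => hxg (by simp [h])
  obtain ⟨f, hfm, hfi, hfg⟩ := exists_coprime_minpoly (F := F) g hg
  have hfu : ¬ IsUnit (f.map (algebraMap F k)) := fun h => by
    have := degree_eq_zero_of_isUnit h
    rw [degree_map] at this
    exact (degree_pos_of_irreducible hfi).ne' this
  obtain ⟨M, hM, hfM⟩ := exists_max_ideal_of_mem_nonunits hfu
  have hgM : g ∉ M := fun h => by
    obtain ⟨p, q, hpq⟩ := hfg
    exact hM.ne_top ((Ideal.eq_top_iff_one _).2 (hpq ▸ M.add_mem (M.mul_mem_left p hfM) (M.mul_mem_left q h)))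
  obtain ⟨Q, hQ⟩ := hgs (show (⟨M, hM.isPrime⟩ : PrimeSpectrum k[X]) ∈ _ from hgM)
  have hmem : algebraMap k[X] A (f.map (algebraMap F k)) ∈ Q.asIdeal := by
    have := congrArg PrimeSpectrum.asIdeal hQ
    exact this.symm.le hfM
  have he : algebraMap k[X] A (f.map (algebraMap F k)) = φ (aeval a f) := by
    show aeval (φ a) (f.map (algebraMap F k)) = _
    rw [aeval_def, eval₂_map, aeval_def, hom_eval₂]
    exact eval₂_congr (RingHom.ext fun c => (hF c).symm) rfl rfl
  by_cases h0 : aeval a f = 0
  · have hai : IsIntegral F a := ⟨f, hfm, h0⟩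
    obtain ⟨p, hp, hp'⟩ := hai
    refine hn ⟨p.map (algebraMap F k), hp.map _, ?_⟩
    rw [eval₂_map]
    have h2 := congrArg φ hp'
    rw [hom_eval₂, map_zero] at h2
    exact (eval₂_congr (RingHom.ext fun c => (hF c).symm) rfl rfl).trans h2
  · exact Q.isPrime.ne_top (Ideal.eq_top_of_isUnit_mem _ (he ▸ hmem) ((isUnit_iff_ne_zero.2 h0).map φ))

/-- A point fixing `φ` forces `φ` to be the structure map. -/
theorem eq_algebraMap {k A L : Type u} [Field k] [CommRing A] [IsDomain A] [Algebra k A]
    [Algebra.FiniteType k A] [CommRing L] [Nontrivial L] (φ : k →+* A) (e : A →+* L)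
    (h : e.comp φ = e.comp (algebraMap k A)) : φ = algebraMap k A := by
  ext a
  have hi := isIntegral_hom φ a
  have : IsField (Algebra.adjoin k {φ a}) := by
    haveI : Algebra.IsIntegral k (Algebra.adjoin k {φ a}) := Algebra.IsIntegral.adjoin (by simpa using hi)
    exact isField_of_isIntegral_of_isField' (Field.toIsField k)
  letI := this.toField
  let d : Algebra.adjoin k {φ a} :=
    ⟨φ a - algebraMap k A a, sub_mem (Algebra.self_mem_adjoin_singleton k _) (Subalgebra.algebraMap_mem _ a)⟩
  have hd : d = 0 := by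
    refine (e.comp (Algebra.adjoin k {φ a}).val.toRingHom).injective ?_
    rw [map_zero]
    show e (φ a - algebraMap k A a) = 0
    rw [map_sub, sub_eq_zero]
    exact RingHom.congr_fun h a
  exact sub_eq_zero.1 (congrArg Subtype.val hd)

end Groth.L23.FieldUnits
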