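import Groth.Prelude.Def_AlgSpGpd
import Groth.Agent.L24.Boot.QuotRep
import Groth.Agent.S10107

/-!
# The quotient by a free action of a flat group space of finite presentation
-/

universe u

open CategoryTheory CategoryTheory.Limits AlgebraicGeometry AlgSp MonoidalCategory MonObj CartesianMonoidalCategory

set_option backward.isDefEq.respectTransparency.types false
set_option linter.style.haveILetI false

namespace Groth.L23.FreeQuot

variable {S : Scheme.{u}} {B : Sp S} {G X : Over B} [GrpObj G] (a : GAction G X)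

/-- The action on points. -/
noncomputable def sm {T : Over B} (g : T ⟶ G) (x : T ⟶ X) : T ⟶ X := lift g x ≫ a.act

theorem one_sm {T : Over B} (x : T ⟶ X) : sm a 1 x = x := by
  have h := congrArg (lift (toUnit T) x ≫ ·) a.one_act
  simp only [lift_whiskerRight_assoc, lift_leftUnitor_hom] at h
  rw [sm, Hom.one_def]
  exact h

theorem mul_sm {T : Over B} (g h : T ⟶ G) (x : T ⟶ X) : sm a (g * h) x = sm a g (sm a h x) := by
  have e := congrArg (lift (lift g h) x ≫ ·) a.mul_act
  simp only [lift_whiskerRight_assoc, lift_lift_associator_hom_assoc, lift_whiskerLeft_assoc] at e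
  rw [sm, sm, sm, Hom.mul_def]
  exact e

theorem eq_of_sm_eq (ha : a.IsFree) {T : Over S} (β : (yon S).obj T ⟶ B) (g g' : Over.mk β ⟶ G)
    (x : Over.mk β ⟶ X) (e : sm a g x = sm a g' x) : g = g' := by
  have h1 : sm a (g'⁻¹ * g) x = x := by rw [mul_sm, e, ← mul_sm, inv_mul_cancel, one_sm]
  have h2 : g'⁻¹ * g = 1 := (ha β (g'⁻¹ * g) x h1).trans (Hom.one_def).symm
  rwa [inv_mul_eq_one, eq_comm] at h2

theorem sm_left {T : Over B} (g : T ⟶ G) (x : T ⟶ X) :
    (lift g x).left ≫ a.act.left = (sm a g x).left := by rw [sm, Over.comp_left]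

theorem isEqvRelSp (ha : a.IsFree) : IsEqvRelSp (snd G X).left a.act.left where
  injective T r r' h1 h2 := by
    have hβ : r' ≫ (G ⊗ X).hom = r ≫ (G ⊗ X).hom := by
      rw [← Over.w (snd G X), reassoc_of% h2]
    let R : Over.mk (r ≫ (G ⊗ X).hom) ⟶ G ⊗ X := Over.homMk r rfl
    let R' : Over.mk (r ≫ (G ⊗ X).hom) ⟶ G ⊗ X := Over.homMk r' hβ
    have hs : R ≫ snd G X = R' ≫ snd G X := Over.OverMorphism.ext h2
    have ht : R ≫ a.act = R' ≫ a.act := Over.OverMorphism.ext h1
    have hg : R ≫ fst G X = R' ≫ fst G X := by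
      refine eq_of_sm_eq a ha _ _ _ (R ≫ snd G X) ?_
      rw [sm, sm, lift_comp_fst_snd, hs, lift_comp_fst_snd, ht]
    exact congrArg CommaMorphism.left (CartesianMonoidalCategory.hom_ext R R' hg hs)
  equivalence T := by
    refine ⟨fun x => ?_, ?_, ?_⟩
    · let X' : Over.mk (x ≫ X.hom) ⟶ X := Over.homMk x rfl
      exact ⟨(lift 1 X').left, (sm_left a 1 X').trans (congrArg CommaMorphism.left (one_sm a X')),
        by rw [← Over.comp_left, lift_snd]; rfl⟩
    · rintro x y ⟨r, rfl, rfl⟩
      let R : Over.mk (r ≫ (G ⊗ X).hom) ⟶ G ⊗ X := Over.homMk r rfl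
      refine ⟨(lift (R ≫ fst G X)⁻¹ (R ≫ a.act)).left, ?_, ?_⟩
      · refine (sm_left a _ _).trans ?_
        have : sm a (R ≫ fst G X)⁻¹ (R ≫ a.act) = R ≫ snd G X := by
          conv_lhs => rw [show R ≫ a.act = sm a (R ≫ fst G X) (R ≫ snd G X) by rw [sm, lift_comp_fst_snd]]
          rw [← mul_sm, inv_mul_cancel, one_sm]
        rw [this]; rfl
      · rw [← Over.comp_left, lift_snd]; rfl
    · rintro x y z ⟨r, rfl, rfl⟩ ⟨r', h, rfl⟩
      let R : Over.mk (r ≫ (G ⊗ X).hom) ⟶ G ⊗ X := Over.homMk r rfl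
      have hβ : r' ≫ (G ⊗ X).hom = r ≫ (G ⊗ X).hom := by
        rw [← Over.w (snd G X), ← reassoc_of% h, Over.w a.act, Over.w (snd G X)]
      let R' : Over.mk (r ≫ (G ⊗ X).hom) ⟶ G ⊗ X := Over.homMk r' hβ
      have hh : R' ≫ a.act = R ≫ snd G X := Over.OverMorphism.ext h
      refine ⟨(lift ((R ≫ fst G X) * (R' ≫ fst G X)) (R' ≫ snd G X)).left, ?_, ?_⟩
      · refine (sm_left a _ _).trans ?_
        have : sm a ((R ≫ fst G X) * (R' ≫ fst G X)) (R' ≫ snd G X) = R ≫ a.act := by
          rw [mul_sm, show sm a (R' ≫ fst G X) (R' ≫ snd G X) = R ≫ snd G X by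
            rw [sm, lift_comp_fst_snd, hh], sm, lift_comp_fst_snd]
        rw [this]; rfl
      · rw [← Over.comp_left, lift_snd]; rfl

/-- The shear automorphism `(g, x) ↦ (g, g x)`. -/
noncomputable def shear : G ⊗ X ≅ G ⊗ X where
  hom := lift (fst G X) a.act
  inv := lift (fst G X) (sm a (fst G X)⁻¹ (snd G X))
  hom_inv_id := by
    refine CartesianMonoidalCategory.hom_ext _ _ ?_ ?_
    · simp
    · rw [Category.assoc, lift_snd, Category.id_comp, sm, comp_lift_assoc, GrpObj.comp_inv, lift_fst]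
      show sm a _ _ = _
      rw [lift_snd, show a.act = sm a (fst G X) (snd G X) by rw [sm, lift_fst_snd, Category.id_comp],
        ← mul_sm, inv_mul_cancel, one_sm]
  inv_hom_id := by
    refine CartesianMonoidalCategory.hom_ext _ _ ?_ ?_
    · simp
    · rw [Category.assoc, lift_snd, Category.id_comp]
      show sm a _ _ = _
      rw [← mul_sm, mul_inv_cancel, one_sm]

theorem locP_act {P : MorphismProperty Scheme.{u}} (hP : EtLocal P) (hX : IsAlgSpace X.left)
    (hGX : IsAlgSpace (G ⊗ X).left) (h : LocP P (snd G X).left) : LocP P a.act.left := by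
  have w : (shear a).hom.left ≫ (snd G X).left = a.act.left ≫ 𝟙 _ := by
    rw [Category.comp_id, ← Over.comp_left]
    exact congrArg CommaMorphism.left (lift_snd _ _)
  haveI : IsIso (shear a).hom.left := inferInstanceAs (IsIso ((Over.forget B).map (shear a).hom))
  exact locP_of_isPullback hP hGX hX hX (IsPullback.of_horiz_isIso ⟨w⟩) h

theorem main (hB : IsAlgSpace B) (hG : IsAlgSpace G.left) (hX : IsAlgSpace X.left) (ha : a.IsFree)
    (hfl : LocP @Flat G.hom ∧ LocP @LocallyOfFinitePresentation G.hom) :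
    IsAlgSpace a.quot ∧
      (IsSurjectiveMor a.quotπ ∧ LocP @Flat a.quotπ ∧ LocP @LocallyOfFinitePresentation a.quotπ) ∧
      IsIso (pullback.lift a.act.left (snd G X).left
        (quotSp_condition (snd G X).left a.act.left).symm : (G ⊗ X).left ⟶ pullback a.quotπ a.quotπ) := by
  have sq : IsPullback (fst G X).left (snd G X).left G.hom X.hom := IsPullback.of_hasPullback G.hom X.hom
  have hGX : IsAlgSpace (G ⊗ X).left := isAlgSpace_of_isPullback hB.diag hG hX sq
  have hsf := locP_of_isPullback etLocal_flat hG hB hX sq hfl.1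
  have hsp := locP_of_isPullback etLocal_lfp hG hB hX sq hfl.2
  have htf := locP_act a etLocal_flat hX hGX hsf
  have htp := locP_act a etLocal_lfp hX hGX hsp
  have hj := isEqvRelSp a ha
  have hk := Groth.L24.Boot.isPullback_quotSpπ hj
  haveI : Epi (quotSpπ (snd G X).left a.act.left) := Groth.L24.Boot.epi_quotSpπ _ _
  have hQ : IsAlgSpace a.quot := by
    refine @Groth.L24.Boot.isAlgSpace_of_kernelPair S _ _ _ _ _ _ ?_ hk hGX hX htf htp
    exact Groth.L24.Boot.epi_quotSpπ _ _
  refine ⟨hQ, Groth.Agent.S10107.result S _ _ hGX hX _ _ hj ⟨hsf, hsp⟩ ⟨htf, htp⟩ hQ, ?_⟩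
  have e : (pullback.lift a.act.left (snd G X).left (quotSp_condition (snd G X).left a.act.left).symm :
      (G ⊗ X).left ⟶ pullback (quotSpπ (snd G X).left a.act.left) (quotSpπ (snd G X).left a.act.left)) =
      hk.isoPullback.hom := by
    apply pullback.hom_ext
    · rw [pullback.lift_fst, IsPullback.isoPullback_hom_fst]
    · rw [pullback.lift_snd, IsPullback.isoPullback_hom_snd]
  show IsIso (pullback.lift a.act.left (snd G X).left (quotSp_condition (snd G X).left a.act.left).symm :
      (G ⊗ X).left ⟶ pullback (quotSpπ (snd G X).left a.act.left) (quotSpπ (snd G X).left a.act.left))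
  rw [e]
  infer_instance

end Groth.L23.FreeQuot
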