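import Groth.Agent.L23.AffineQuot
import Groth.Agent.L23.FreeQuot
import Groth.Agent.L24.Quot.QuotSh
import Groth.Agent.S5690
import Groth.Prelude.Def_AlgGrp
import Groth.Prelude.Def_NonAbH2
import Groth.Prelude.Def_Mor2

/-!
# Quotients by finite locally free equivalence relations
-/

universe u

open CategoryTheory CategoryTheory.Limits AlgebraicGeometry AlgSp MonoidalCategory MonObj CartesianMonoidalCategory Opposite

set_option backward.isDefEq.respectTransparency.types false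
set_option linter.style.haveILetI false

namespace Groth.L23.FinQuot

variable {S : Scheme.{u}}

theorem isQuotient_of_groupoid (G : Grpd.GroupoidScheme S) (hs : Mor2.IsFinLocFree G.s)
    (hj : Mono G.j)
    (haff : ∀ x : G.U, ∃ V : G.U.Opens, IsAffineOpen V ∧ G.t.base '' (G.s.base ⁻¹' {x}) ⊆ (V : Set G.U)) :
    ∃ (M : Over S) (m : Over.mk G.pU ⟶ M), Mor2.IsFinLocFree m.left ∧ Surjective m.left ∧
      IsPullback G.t G.s m.left m.left ∧
      QuotSh.IsQuotient Scheme.fppfPrecoverage (Over.homMk G.s G.s_over : Over.mk G.pR ⟶ Over.mk G.pU)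
        (Over.homMk G.t G.t_over : Over.mk G.pR ⟶ Over.mk G.pU) m := by
  obtain ⟨h1, h2, h3⟩ := hs
  haveI := h1; haveI := h2; haveI := h3
  obtain ⟨Y, q, w, ⟨hc⟩, -, -, hsurj, -, hfree⟩ := Groth.Agent.S5690.result G haff
  obtain ⟨hf, hfl, hfp, hiso⟩ := hfree hj
  haveI := hiso; haveI := hf; haveI := hfl; haveI := hfp; haveI := hsurj
  have hpb : IsPullback G.t G.s q q := IsPullback.of_iso_pullback ⟨w.symm⟩ (asIso (pullback.lift G.t G.s w.symm))
    (pullback.lift_fst _ _ _) (pullback.lift_snd _ _ _)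
  obtain ⟨p, hp⟩ := Cofork.IsColimit.desc' hc G.pU (G.s_over.trans G.t_over.symm)
  change q ≫ p = G.pU at hp
  let m : Over.mk G.pU ⟶ Over.mk p := Over.homMk q hp
  haveI : Flat m.left := hfl
  haveI : LocallyOfFinitePresentation m.left := hfp
  haveI : Surjective m.left := hsurj
  refine ⟨Over.mk p, m, ⟨hf, hfl, hfp⟩, hsurj, hpb, ?_⟩
  exact Groth.Agent.L24.Quot.isQuotient_of_isPullback
    (IsPullback.of_map (Over.forget S) (Over.OverMorphism.ext hpb.flip.w) hpb.flip)

/-- It is enough that every closed set meets a point with affine class. -/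
theorem exists_affine_class (G : Grpd.GroupoidScheme S) [IsFinite G.s]
    (h3 : ∀ Z : Set ↥G.U, IsClosed Z → Z.Nonempty →
      ∃ u ∈ Z, ∃ W : G.U.Opens, IsAffineOpen W ∧ ∀ r : ↥G.R, G.s r = u → G.t r ∈ W) (x : G.U) :
    ∃ V : G.U.Opens, IsAffineOpen V ∧ G.t.base '' (G.s.base ⁻¹' {x}) ⊆ (V : Set G.U) := by
  obtain ⟨u, hu, W, hW, hWr⟩ := h3 (closure {x}) isClosed_closure ⟨x, subset_closure rfl⟩
  refine ⟨W, hW, ?_⟩
  rintro _ ⟨r', hr', rfl⟩
  have hc : IsClosed (G.s '' closure {r'}) := G.s.isClosedMap _ isClosed_closure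
  have hx : x ∈ G.s '' closure {r'} := ⟨r', subset_closure rfl, hr'⟩
  obtain ⟨r, hr, hru⟩ := closure_minimal (Set.singleton_subset_iff.2 hx) hc hu
  exact ((specializes_iff_mem_closure.2 hr).map G.t.continuous).mem_open W.isOpen (hWr r hru)

theorem mono_j (G : Grpd.GroupoidScheme S)
    (heq : AlgSp.IsEqvRel (Over.homMk G.s G.s_over : Over.mk G.pR ⟶ Over.mk G.pU) (Over.homMk G.t G.t_over : Over.mk G.pR ⟶ Over.mk G.pU)) :
    Mono G.j := by
  refine ⟨fun {T} a b e => ?_⟩
  have ht : a ≫ G.t = b ≫ G.t := by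
    have h : (a ≫ G.j) ≫ pullback.fst _ _ = (b ≫ G.j) ≫ pullback.fst _ _ := congrArg (· ≫ pullback.fst _ _) e
    rwa [Category.assoc, Category.assoc, Grpd.GroupoidScheme.j, pullback.lift_fst] at h
  have hs : a ≫ G.s = b ≫ G.s := by
    have h : (a ≫ G.j) ≫ pullback.snd _ _ = (b ≫ G.j) ≫ pullback.snd _ _ := congrArg (· ≫ pullback.snd _ _) e
    rwa [Category.assoc, Category.assoc, Grpd.GroupoidScheme.j, pullback.lift_snd] at h
  have hb : b ≫ G.pR = a ≫ G.pR := by rw [← G.s_over, ← Category.assoc, ← hs, Category.assoc]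
  exact congrArg CommaMorphism.left (heq.injective (Over.mk (a ≫ G.pR)) (Over.homMk a rfl) (Over.homMk b hb)
    (Over.OverMorphism.ext ht) (Over.OverMorphism.ext hs))

theorem exists_affineOpen_finite {X : Scheme.{u}} {R : CommRingCat.{u}} (i : X ⟶ Spec R) [IsOpenImmersion i]
    {F : Set X} (hF : F.Finite) : ∃ V : X.Opens, IsAffineOpen V ∧ F ⊆ (V : Set X) := by
  classical
  rcases F.eq_empty_or_nonempty with rfl | hne
  · exact ⟨⊥, isAffineOpen_bot X, Set.empty_subset _⟩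
  obtain ⟨I, hI⟩ := (PrimeSpectrum.isClosed_iff_zeroLocus_ideal _).1 i.isOpenEmbedding.isOpen_range.isClosed_compl
  let F' : Finset (PrimeSpectrum R) := (hF.image i).toFinset
  have hav : ¬ ((I : Set R) ⊆ ⋃ p ∈ (↑F' : Set (PrimeSpectrum R)), (p.asIdeal : Set R)) := by
    intro hsub
    obtain ⟨p, hp, hle⟩ := (Ideal.subset_union_prime (R := R) (s := F') (f := PrimeSpectrum.asIdeal)
      (i hne.some : PrimeSpectrum R) (i hne.some : PrimeSpectrum R) fun p _ _ _ => p.2).1 hsub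
    obtain ⟨x, -, rfl⟩ := (hF.image i).mem_toFinset.1 hp
    exact (hI.ge (show i x ∈ PrimeSpectrum.zeroLocus (I : Set R) from hle)) ⟨x, rfl⟩
  obtain ⟨f, hfI, hf⟩ := Set.not_subset.1 hav
  have hsub : (PrimeSpectrum.basicOpen f : Set (PrimeSpectrum R)) ⊆ Set.range i := fun p hp => by
    by_contra h
    exact hp ((hI.le h) hfI)
  refine ⟨i ⁻¹ᵁ (PrimeSpectrum.basicOpen f), ?_, fun x hx => ?_⟩
  · exact (IsAffineOpen.Spec_basicOpen f).preimage_of_isOpenImmersion i hsub
  · exact fun h => hf (Set.mem_iUnion₂.2 ⟨i x, (hF.image i).mem_toFinset.2 ⟨x, hx, rfl⟩, h⟩)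

section Free

variable {G X : Over S} [GrpObj G] (a : AlgGrp.Action G X)

/-- The action on points. -/
noncomputable def sm {T : Over S} (g : T ⟶ G) (x : T ⟶ X) : T ⟶ X := lift g x ≫ a.act

theorem one_sm {T : Over S} (x : T ⟶ X) : sm a 1 x = x := by
  have h := congrArg (lift (toUnit T) x ≫ ·) a.one_act
  simp only [lift_whiskerRight_assoc, lift_leftUnitor_hom] at h
  rw [sm, Hom.one_def]
  exact h

theorem mul_sm {T : Over S} (g h : T ⟶ G) (x : T ⟶ X) : sm a (g * h) x = sm a g (sm a h x) := by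
  have e := congrArg (lift (lift g h) x ≫ ·) a.mul_act
  simp only [lift_whiskerRight_assoc, lift_lift_associator_hom_assoc, lift_whiskerLeft_assoc] at e
  rw [sm, sm, sm, Hom.mul_def]
  exact e

variable (hfree : ∀ (T : Over S) (g : T ⟶ G) (x : T ⟶ X), lift g x ≫ a.act = x → g = toUnit T ≫ η[G])

include hfree in
theorem isEqvRel : AlgSp.IsEqvRel (snd G X) a.act where
  injective T r r' h1 h2 := by
    refine CartesianMonoidalCategory.hom_ext _ _ ?_ h2
    have e : sm a (r ≫ fst G X) (r ≫ snd G X) = sm a (r' ≫ fst G X) (r ≫ snd G X) := by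
      rw [sm, sm, lift_comp_fst_snd, h2, lift_comp_fst_snd, h1]
    have h3 : sm a ((r' ≫ fst G X)⁻¹ * (r ≫ fst G X)) (r ≫ snd G X) = r ≫ snd G X := by
      rw [mul_sm, e, ← mul_sm, inv_mul_cancel, one_sm]
    have h4 : (r' ≫ fst G X)⁻¹ * (r ≫ fst G X) = 1 := (hfree T _ _ h3).trans (Hom.one_def).symm
    rw [inv_mul_eq_one] at h4
    exact h4.symm
  equivalence T := by
    refine ⟨fun x => ⟨lift 1 x, one_sm a x, lift_snd _ _⟩, ?_, ?_⟩
    · rintro x y ⟨r, rfl, rfl⟩
      refine ⟨lift (r ≫ fst G X)⁻¹ (r ≫ a.act), ?_, lift_snd _ _⟩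
      show sm a _ _ = _
      conv_lhs => rw [show r ≫ a.act = sm a (r ≫ fst G X) (r ≫ snd G X) by rw [sm, lift_comp_fst_snd]]
      rw [← mul_sm, inv_mul_cancel, one_sm]
    · rintro x y z ⟨r, rfl, rfl⟩ ⟨r', h, rfl⟩
      refine ⟨lift ((r ≫ fst G X) * (r' ≫ fst G X)) (r' ≫ snd G X), ?_, lift_snd _ _⟩
      show sm a _ _ = _
      rw [mul_sm, show sm a (r' ≫ fst G X) (r' ≫ snd G X) = r ≫ snd G X by
            rw [sm, lift_comp_fst_snd, h], sm, lift_comp_fst_snd]

include hfree in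
theorem exists_quotient (hG : Mor2.IsFinLocFree G.hom)
    (h3 : IsAffineHom X.hom ∨ (∃ (R : CommRingCat.{u}) (i : X.left ⟶ Spec R), IsOpenImmersion i) ∨
      UniversallyInjective G.hom) :
    ∃ (M : Over S) (q : X ⟶ M), QuotSh.IsQuotient Scheme.fppfPrecoverage (snd G X) a.act q ∧
      IsPullback a.act.left (snd G X).left q.left q.left ∧
      NonAbH1.IsLocallyTrivialFor Scheme.fppfPrecoverage (Over.mk q.left) := by
  have hE := isEqvRel a hfree
  have sqE := Groth.L24.Boot.isPullback_quotSpπ (Groth.L24.Boot.isEqvRelSp_of_isEqvRel hE)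
  let Gd := Groth.L23.AQ.groupoid sqE
  have sq : IsPullback (fst G X).left (snd G X).left G.hom X.hom := IsPullback.of_hasPullback G.hom X.hom
  haveI : IsFinite G.hom := hG.1
  haveI : Flat G.hom := hG.2.1
  haveI : LocallyOfFinitePresentation G.hom := hG.2.2
  have hs : Mor2.IsFinLocFree Gd.s :=
    ⟨MorphismProperty.of_isPullback (P := @IsFinite) sq hG.1, MorphismProperty.of_isPullback (P := @Flat) sq hG.2.1,
      MorphismProperty.of_isPullback (P := @LocallyOfFinitePresentation) sq hG.2.2⟩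
  haveI : IsFinite Gd.s := hs.1
  have hj : Mono Gd.j := by
    refine mono_j Gd ?_
    exact hE
  have haff : ∀ x : Gd.U, ∃ V : Gd.U.Opens, IsAffineOpen V ∧ Gd.t.base '' (Gd.s.base ⁻¹' {x}) ⊆ (V : Set Gd.U) := by
    intro x
    rcases h3 with h | ⟨R, i, hi⟩ | h
    · obtain ⟨_, ⟨W, hW, rfl⟩, hxW, -⟩ :=
        S.isBasis_affineOpens.exists_subset_of_mem_open (Set.mem_univ (Gd.pU x)) isOpen_univ
      change S.Opens at W
      haveI : IsAffineHom Gd.pU := h
      refine ⟨Gd.pU ⁻¹ᵁ W, hW.preimage Gd.pU, ?_⟩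
      rintro _ ⟨r, hr, rfl⟩
      have e : Gd.pU (Gd.t r) = Gd.pU x := by
        rw [← show Gd.s r = x from hr, ← Scheme.Hom.comp_apply, ← Scheme.Hom.comp_apply, show Gd.t ≫ Gd.pU = Gd.s ≫ Gd.pU from Gd.t_over.trans Gd.s_over.symm]
      show Gd.pU (Gd.t r) ∈ W
      rw [e]
      exact hxW
    · let i' : Gd.U ⟶ Spec R := i
      haveI : IsOpenImmersion i' := hi
      exact exists_affineOpen_finite (X := Gd.U) i' ((Gd.s.finite_preimage_singleton x).image Gd.t.base)
    · obtain ⟨_, ⟨W, hW, rfl⟩, hxW, -⟩ :=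
        Gd.U.isBasis_affineOpens.exists_subset_of_mem_open (Set.mem_univ x) isOpen_univ
      change Gd.U.Opens at W
      refine ⟨W, hW, ?_⟩
      rintro _ ⟨r, hr, rfl⟩
      haveI : UniversallyInjective Gd.s := MorphismProperty.of_isPullback (P := @UniversallyInjective) sq h
      have : r = Gd.e x := Gd.s.injective (by
        rw [show Gd.s r = x from hr, ← Scheme.Hom.comp_apply, Gd.e_s]; rfl)
      rw [this]
      show Gd.t (Gd.e x) ∈ W
      rw [← Scheme.Hom.comp_apply, Gd.e_t]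
      exact hxW
  obtain ⟨M, m, hm, hms, hpb, hq⟩ := isQuotient_of_groupoid Gd hs hj haff
  refine ⟨M, m, hq, hpb, Presieve.singleton m.left, ?_, ?_⟩
  · haveI : Flat m.left := hm.2.1
    haveI : LocallyOfFinitePresentation m.left := hm.2.2
    haveI := hms
    exact Scheme.Hom.singleton_mem_fppfPrecoverage m.left
  · rintro S' f ⟨⟩
    exact ⟨𝟙 _, Category.id_comp _⟩

end Free

end Groth.L23.FinQuot
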