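import Groth.Agent.L23.SchImageFlat
import Groth.Agent.L23.RedInd
import Groth.Agent.L23.QcCalc
import Groth.Agent.L23.LocP

/-!
# The scheme theoretic image of a section over an open subspace
-/

universe u

open CategoryTheory CategoryTheory.Limits AlgebraicGeometry Opposite AlgSp TopologicalSpace

set_option autoImplicit false
set_option linter.style.haveILetI false
set_option backward.isDefEq.respectTransparency.types false

namespace Groth.L23.Img

variable {S : Scheme.{u}} {X Y V Z : Sp S}

theorem isSchImage_self {f : Z ⟶ X} (hf : RepWith @IsClosedImmersion f) : IsSchImage f f :=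
  ⟨hf, ⟨𝟙 _, Category.id_comp _⟩, fun _ _ _ _ h => h⟩

theorem isIso_section_image (hX : IsAlgSpace X) (hY : IsAlgSpace Y) (hV : IsAlgSpace V) (hZ : IsAlgSpace Z)
    {f : X ⟶ Y} (hf : IsSeparatedMor f)
    {s : V ⟶ X} (hj : RepWith @IsOpenImmersion (s ≫ f)) (hjq : IsQuasiCompactMor (s ≫ f)) {c : Z ⟶ X}
    (hc : IsSchImage s c) {P : Sp S} {fst : P ⟶ Z} {snd : P ⟶ V} (sq : IsPullback fst snd (c ≫ f) (s ≫ f)) :
    IsIso snd := by
  have sqa : IsPullback (pullback.snd (s ≫ f) f) (pullback.fst (s ≫ f) f) f (s ≫ f) :=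
    (IsPullback.of_hasPullback _ _).flip
  set q := pullback.fst (s ≫ f) f
  set a := pullback.snd (s ≫ f) f
  let s' : V ⟶ pullback (s ≫ f) f := pullback.lift (𝟙 V) s (by simp)
  have hs' : RepWith @IsClosedImmersion s' := repWith_of_isPullback (pullback_lift_diagonal_isPullback s f) hf
  have hs'q : s' ≫ q = 𝟙 V := pullback.lift_fst _ _ _
  have hs'a : s' ≫ a = s := pullback.lift_snd _ _ _
  have hXV : IsAlgSpace (pullback (s ≫ f) f) := isAlgSpace_of_isPullback hY.diag hV hX (IsPullback.of_hasPullback _ _)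
  haveI : Mono (s ≫ f) :=
    mono_of_repWith (P := @IsOpenImmersion) (fun _ _ φ (_ : IsOpenImmersion φ) => inferInstanceAs (Mono φ)) hj
  have sqF : IsPullback (𝟙 V) s' s a := by
    refine IsPullback.of_bot ?_ (by rw [Category.id_comp, hs'a]) sqa
    rw [hs'q]
    exact IsKernelPair.id_of_mono (s ≫ f)
  let iX : P ⟶ pullback (s ≫ f) f := sqa.lift (fst ≫ c) snd (by rw [Category.assoc, sq.w])
  have hiq : iX ≫ q = snd := sqa.lift_snd _ _ _
  have hia : iX ≫ a = fst ≫ c := sqa.lift_fst _ _ _
  have sqZ : IsPullback fst iX c a := by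
    refine IsPullback.of_bot ?_ hia.symm sqa
    rw [hiq]
    exact sq
  have haf : LocP @Flat a := locP_of_repWith etLocal_flat (repWith_mono (Q := (@Flat : MorphismProperty Scheme.{u}))
    (fun g (hg : IsOpenImmersion g) => (inferInstance : Flat g)) (repWith_of_isPullback sqa.flip hj))
  have hsq : IsQuasiCompactMor s := by
    rw [← hs'a]
    refine qcMor_comp hXV hX ?_ (qcMor_of_isPullback sqa.flip hjq)
    exact isQuasiCompactMor_of_repWith (repWith_mono (Q := (@QuasiCompact : MorphismProperty Scheme.{u}))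
      (fun g (hg : IsClosedImmersion g) => (inferInstance : QuasiCompact g)) hs')
  have h := isSchImage_flat_base_change hX hXV hV haf hsq hc sqF sqZ
  obtain ⟨k, hk⟩ := h.2.2 s' hV hs' ⟨𝟙 V, Category.id_comp _⟩
  obtain ⟨k', hk'⟩ := h.2.1
  haveI := mono_of_closedImmersion hs'
  haveI := mono_of_closedImmersion h.1
  have : snd = k := by rw [← hiq, ← hk, Category.assoc, hs'q, Category.comp_id]
  subst this
  exact ⟨k', by rw [← cancel_mono iX, Category.assoc, hk', hk, Category.id_comp],
    by rw [← cancel_mono s', Category.assoc, hk, hk', Category.id_comp]⟩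

end Groth.L23.Img
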