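import Groth.Agent.L23.SchImageFlat
import Groth.Agent.L23.SectionImage
import Groth.Agent.L23.Univ
import Groth.Agent.L23.RedInd
import Groth.Agent.L02.Misc.STD
import Groth.Prelude.Def_Neron
import Mathlib.RingTheory.Spectrum.Prime.Topology

/-!
# Closures of closed subspaces of the generic fibre
-/

universe u

open CategoryTheory CategoryTheory.Limits AlgebraicGeometry AlgSp

set_option autoImplicit false
set_option linter.style.haveILetI false
set_option backward.isDefEq.respectTransparency.types false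

namespace Groth.L23.FlatClosure

variable {S : Scheme.{u}}

/-- A scheme theoretically dominant morphism of schemes has full image in the category of sheaves. -/
theorem isSchImage_id_of_dominant {A B : Over S} (f : A ⟶ B) [IsSchemeTheoreticallyDominant f.left] :
    IsSchImage ((yon S).map f) (𝟙 ((yon S).obj B)) := by
  refine ⟨?_, ⟨_, Category.comp_id _⟩, fun W j _ hj ⟨f'', hf''⟩ => ?_⟩
  · rw [← (yon S).map_id]
    exact repWith_map (show IsClosedImmersion (𝟙 B.left) from inferInstance)
  obtain ⟨W₀, p, q, sq⟩ : ∃ (W₀ : Over S) (p : (yon S).obj W₀ ⟶ W) (q : W₀ ⟶ B),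
      IsPullback p ((yon S).map q) j (𝟙 ((yon S).obj B)) := ⟨_, _, _, hj.1.isPullback _⟩
  obtain ⟨l, -, hl⟩ := sq.exists_lift f'' ((yon S).map f) (by rw [hf'', Category.comp_id])
  obtain ⟨l, rfl⟩ := (yon S).map_surjective l
  rw [← (yon S).map_comp] at hl
  have hlq : l.left ≫ q.left = f.left := by rw [← Over.comp_left, (yon S).map_injective hl]
  haveI : IsClosedImmersion q.left := hj.2 _ _ _ sq
  haveI : IsSchemeTheoreticallyDominant q.left := ⟨le_antisymm (by
    rw [← f.left.ker_eq_bot, ← hlq]
    exact Scheme.Hom.le_ker_comp _ _) bot_le⟩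
  haveI : IsIso q.left := Groth.L02.STD.isIso_of_closedImmersion_of_dominant q.left
  haveI : IsIso ((Over.forget S).map q) := ‹IsIso q.left›
  haveI := isIso_of_reflects_iso q (Over.forget S)
  refine ⟨inv ((yon S).map q) ≫ p, ?_⟩
  rw [Category.assoc, sq.w, Category.comp_id, IsIso.inv_hom_id]

/-- A morphism of schemes with full image in the category of sheaves is scheme theoretically dominant. -/
theorem dominant_of_isSchImage_id {A B : Over S} (f : A ⟶ B) [QuasiCompact f.left]
    (h : IsSchImage ((yon S).map f) (𝟙 ((yon S).obj B))) : IsSchemeTheoreticallyDominant f.left := by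
  let J : Over S := Over.mk (f.left.imageι ≫ B.hom)
  let j : J ⟶ B := Over.homMk f.left.imageι rfl
  let t : A ⟶ J := Over.homMk f.left.toImage (by
    show f.left.toImage ≫ f.left.imageι ≫ B.hom = A.hom
    rw [Scheme.Hom.toImage_imageι_assoc, Over.w f])
  obtain ⟨κ, hκ⟩ := h.2.2 ((yon S).map j) (IsAlgSpace.yon_obj J)
    (repWith_map (show IsClosedImmersion f.left.imageι from inferInstance))
    ⟨(yon S).map t, by
      rw [← (yon S).map_comp]
      exact congrArg _ (Over.OverMorphism.ext (Scheme.Hom.toImage_imageι f.left))⟩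
  obtain ⟨κ, rfl⟩ := (yon S).map_surjective κ
  rw [← (yon S).map_comp, ← (yon S).map_id] at hκ
  have hκ' : κ.left ≫ f.left.imageι = 𝟙 _ := congrArg (fun m => m.left) ((yon S).map_injective hκ)
  haveI : IsIso f.left.imageι := by
    refine ⟨κ.left, ?_, hκ'⟩
    rw [← cancel_mono f.left.imageι, Category.assoc, hκ', Category.comp_id, Category.id_comp]
  exact ⟨(Scheme.isIso_subschemeι_iff_eq_bot _).1 (show IsIso f.left.ker.subschemeι from ‹_›)⟩

/-- Passing to the image, the source is dense. -/
theorem isSchImage_toImage {F Z X : Sp S} {f : F ⟶ X} {i : Z ⟶ X} (h : IsSchImage f i) {m : F ⟶ Z}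
    (hm : m ≫ i = f) : IsSchImage m (𝟙 Z) := by
  have := mono_of_closedImmersion h.1
  refine ⟨repWith_of_isPullback (IsKernelPair.id_of_mono i) h.1,
    ⟨m, Category.comp_id _⟩, fun W j hW hj ⟨f'', hf''⟩ => ?_⟩
  obtain ⟨κ, hκ⟩ := h.2.2 (j ≫ i) hW (repWith_comp hj h.1) ⟨f'', by rw [reassoc_of% hf'', hm]⟩
  exact ⟨κ, (cancel_mono i).1 (by rw [Category.assoc, hκ, Category.id_comp])⟩

end Groth.L23.FlatClosure
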