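import Groth.Agent.L23.EtaleAlgDescent
import Mathlib.RingTheory.Etale.Locus
import Mathlib.RingTheory.Etale.Descent
import Mathlib.RingTheory.TensorProduct.IncludeLeftSubRight
import Mathlib.RingTheory.Flat.Localization
import Mathlib.RingTheory.Localization.BaseChange

/-!
# The functions on the image of a flat monomorphism

For a flat algebra `B` over `A` with `B ⊗ B` etale over `B`, the equalizer `C` of `B ⇉ B ⊗ B` is
locally the ring of an affine scheme with an etale cover by `B`.
-/

universe u

open TensorProduct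

set_option autoImplicit false
set_option linter.style.haveILetI false
set_option backward.isDefEq.respectTransparency false
set_option backward.isDefEq.respectTransparency.types false

noncomputable section

namespace Groth.L23.FlatMonoAlg

/-- `C` is the equalizer of the two maps from `B` to `B ⊗ B` over `A`. -/
structure IsEqualizer (A B C : Type u) [CommRing A] [CommRing B] [CommRing C] [Algebra A B] [Algebra C B] : Prop where
  inj : Function.Injective (algebraMap C B)
  eq : ∀ c : C, (algebraMap C B c) ⊗ₜ[A] (1 : B) = 1 ⊗ₜ algebraMap C B c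
  mem : ∀ b : B, b ⊗ₜ[A] (1 : B) = 1 ⊗ₜ b → b ∈ Set.range (algebraMap C B)

variable {A B C : Type u} [CommRing A] [CommRing B] [CommRing C] [Algebra A B] [Algebra A C] [Algebra C B]
  [IsScalarTower A C B] (hC : IsEqualizer A B C)

include hC in
theorem compatibleSMul : TensorProduct.CompatibleSMul A C B B where
  smul_tmul c x y := by
    calc (c • x) ⊗ₜ[A] y = (algebraMap C B c * x) ⊗ₜ (1 * y) := by rw [one_mul, Algebra.smul_def]
      _ = (algebraMap C B c ⊗ₜ 1) * (x ⊗ₜ y) := (Algebra.TensorProduct.tmul_mul_tmul _ _ _ _).symm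
      _ = (1 ⊗ₜ algebraMap C B c) * (x ⊗ₜ y) := by rw [hC.eq]
      _ = (1 * x) ⊗ₜ (algebraMap C B c * y) := Algebra.TensorProduct.tmul_mul_tmul _ _ _ _
      _ = x ⊗ₜ (c • y) := by rw [one_mul, Algebra.smul_def]

/-- Tensoring over the equalizer changes nothing. -/
def tensorEquiv : B ⊗[A] B ≃ₐ[B] B ⊗[C] B :=
  haveI := compatibleSMul hC
  Algebra.TensorProduct.equivOfCompatibleSMul C A B B B

theorem tensorEquiv_tmul (x y : B) : tensorEquiv hC (x ⊗ₜ y) = x ⊗ₜ y := rfl

include hC in
theorem isEffective : Algebra.IsEffective C B := by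
  intro x
  refine ⟨fun h => ?_, Algebra.TensorProduct.includeLeftSubRight_zero_of_mem_range⟩
  have h' : x ⊗ₜ[C] (1 : B) = 1 ⊗ₜ x :=
    sub_eq_zero.1 ((Algebra.TensorProduct.includeLeftSubRight_apply x).symm.trans h)
  refine hC.mem x ((tensorEquiv hC).injective ?_)
  rw [tensorEquiv_tmul, tensorEquiv_tmul, h']

omit [Algebra A B] [Algebra A C] [Algebra C B] [IsScalarTower A C B] in
theorem mem_range_of_le (B : Type u) [CommRing B] (q : Ideal B) [q.IsPrime] {R : Type u} [CommRing R] [Algebra R B] [Module.Flat R B]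
    (p : PrimeSpectrum R) (hp : p.asIdeal ≤ q.comap (algebraMap R B)) :
    p ∈ Set.range (PrimeSpectrum.comap (algebraMap R B)) := by
  haveI : q.LiesOver (q.comap (algebraMap R B)) := ⟨rfl⟩
  obtain ⟨P, -, hP, hPo⟩ := Ideal.exists_ideal_le_liesOver_of_le (p := p.asIdeal) (q := q.comap (algebraMap R B)) q hp
  exact ⟨⟨P, hP⟩, PrimeSpectrum.ext hPo.over.symm⟩

theorem comap_le_of_atPrime {R : Type u} [CommRing R] (p : Ideal R) [p.IsPrime]
    (x : PrimeSpectrum (Localization.AtPrime p)) :
    (PrimeSpectrum.comap (algebraMap R (Localization.AtPrime p)) x).asIdeal ≤ p := by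
  exact (Ideal.comap_mono (IsLocalRing.le_maximalIdeal x.isPrime.ne_top)).trans
    (Localization.AtPrime.under_maximalIdeal (I := p)).le


include hC in
/-- A function on the image is a fraction of functions on the base near the image of a point. -/
theorem exists_fraction [Module.Flat A B] (q : Ideal B) [q.IsPrime] (c : C) :
    ∃ σ : A, σ ∉ q.comap (algebraMap A B) ∧ ∃ a : A, algebraMap A C σ * c = algebraMap A C a := by
  let t := q.comap (algebraMap A B)
  let At := Localization.AtPrime t
  letI : Algebra B (At ⊗[A] B) := Algebra.TensorProduct.rightAlgebra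
  haveI : Module.FaithfullyFlat At (At ⊗[A] B) := faithfullyFlat_baseChange_of_range fun x =>
    mem_range_of_le B q _ (comap_le_of_atPrime t x)
  have heff : Algebra.IsEffective At (At ⊗[A] B) := Algebra.IsEffective.of_faithfullyFlat _ _
  have h0 : Algebra.TensorProduct.includeLeftSubRight At (At ⊗[A] B) ((1 : At) ⊗ₜ algebraMap C B c) = 0 := by
    rw [← Algebra.TensorProduct.distribBaseChange_includeLeftSubRight_apply, LinearMap.lTensor_tmul,
      Algebra.TensorProduct.includeLeftSubRight_apply, hC.eq, sub_self, tmul_zero, map_zero]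
  obtain ⟨x, hx⟩ := (heff _).1 h0
  obtain ⟨a, σ, rfl⟩ := IsLocalization.exists_mk'_eq t.primeCompl x
  haveI := IsLocalization.tensorRight (S := B) (A := At) t.primeCompl
  have h1 : algebraMap B (At ⊗[A] B) (algebraMap A B σ * algebraMap C B c) = algebraMap B (At ⊗[A] B) (algebraMap A B a) := by
    rw [map_mul]
    show (1 : At) ⊗ₜ[A] algebraMap A B σ * (1 : At) ⊗ₜ[A] algebraMap C B c = (1 : At) ⊗ₜ[A] algebraMap A B a
    rw [← Algebra.TensorProduct.tmul_one_eq_one_tmul, ← Algebra.TensorProduct.tmul_one_eq_one_tmul, ← hx]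
    show (algebraMap A At σ) ⊗ₜ[A] (1 : B) * (IsLocalization.mk' At a σ) ⊗ₜ[A] (1 : B) = _
    rw [Algebra.TensorProduct.tmul_mul_tmul, one_mul, IsLocalization.mk'_spec']
  obtain ⟨⟨_, τ, hτ, rfl⟩, h2⟩ := (IsLocalization.eq_iff_exists (Algebra.algebraMapSubmonoid B t.primeCompl) _).1 h1
  refine ⟨τ * σ, t.primeCompl.mul_mem hτ σ.2, τ * a, hC.inj ?_⟩
  rw [map_mul (algebraMap C B), ← IsScalarTower.algebraMap_apply, ← IsScalarTower.algebraMap_apply]
  rw [map_mul, map_mul, mul_assoc]
  exact h2

include hC in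
theorem compatibleSMul_atPrime [Module.Flat A B] (q : Ideal B) [q.IsPrime] (N : Type u) [AddCommGroup N]
    [Module (C) N] [Module A N] [IsScalarTower A (C) N] :
    TensorProduct.CompatibleSMul A (C) N (Localization.AtPrime q) where
  smul_tmul c n y := by
    obtain ⟨σ, hσ, a, ha⟩ := exists_fraction hC q c
    let v : Localization.AtPrime q := IsLocalization.mk' _ (1 : B) (⟨algebraMap A B σ, hσ⟩ : q.primeCompl)
    have hy : σ • (v * y) = y := by
      rw [← algebraMap_smul B σ, Algebra.smul_def, ← mul_assoc, IsLocalization.mk'_spec' _ (1 : B) (⟨algebraMap A B σ, hσ⟩ : q.primeCompl),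
        map_one, one_mul]
    have e1 : ∀ z : N, σ • c • z = a • z := fun z => by
      rw [← algebraMap_smul (C) σ, smul_smul, ha, algebraMap_smul]
    have e2 : ∀ z : Localization.AtPrime q, σ • c • z = a • z := fun z => by
      rw [← algebraMap_smul (C) σ, smul_smul, ha, algebraMap_smul]
    calc (c • n) ⊗ₜ[A] y = (c • n) ⊗ₜ (σ • (v * y)) := by rw [hy]
      _ = (σ • c • n) ⊗ₜ (v * y) := (TensorProduct.smul_tmul σ (c • n) (v * y)).symm
      _ = n ⊗ₜ (a • (v * y)) := by rw [e1, TensorProduct.smul_tmul]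
      _ = n ⊗ₜ (σ • c • (v * y)) := by rw [e2]
      _ = n ⊗ₜ (c • y) := by rw [smul_comm, hy]

include hC in
theorem flat_atPrime [Module.Flat A B] (q : Ideal B) [q.IsPrime] :
    Module.Flat (C) (Localization.AtPrime q) := by
  haveI : Module.Flat A (Localization.AtPrime q) := Module.Flat.trans A B _
  rw [Module.Flat.iff_rTensor_preserves_injective_linearMap]
  intro N N' _ _ _ _ f hf
  letI := Module.compHom N (algebraMap A (C))
  letI := Module.compHom N' (algebraMap A (C))
  haveI : IsScalarTower A (C) N := IsScalarTower.of_algebraMap_smul fun _ _ => rfl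
  haveI : IsScalarTower A (C) N' := IsScalarTower.of_algebraMap_smul fun _ _ => rfl
  haveI := compatibleSMul_atPrime hC q N
  haveI := compatibleSMul_atPrime hC q N'
  let e := TensorProduct.equivOfCompatibleSMul (C) A (C) N (Localization.AtPrime q)
  let e' := TensorProduct.equivOfCompatibleSMul (C) A (C) N' (Localization.AtPrime q)
  have key : ∀ z, f.rTensor (Localization.AtPrime q) (e z) = e' ((f.restrictScalars A).rTensor (Localization.AtPrime q) z) := fun z => by
    induction z using TensorProduct.induction_on with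
    | zero => simp
    | tmul n y => rfl
    | add z z' hz hz' => simp only [map_add, hz, hz']
  intro x y hxy
  obtain ⟨x, rfl⟩ := e.surjective x
  obtain ⟨y, rfl⟩ := e.surjective y
  rw [key, key] at hxy
  exact congrArg e (Module.Flat.rTensor_preserves_injective_linearMap (R := A) (M := Localization.AtPrime q) (f.restrictScalars A) hf (e'.injective hxy))

include hC in
theorem flat_eqRing [Module.Flat A B] : Module.Flat (C) B :=
  Module.flat_of_isLocalized_maximal B B (fun P [P.IsMaximal] => Localization.AtPrime P)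
    (fun P [P.IsMaximal] => Algebra.linearMap B (Localization.AtPrime P)) fun P [P.IsMaximal] => flat_atPrime hC P

/-- A map into a module over `B` from a flat module which is bijective after tensoring with `B` is bijective. -/
theorem bijective_of_lTensor {C : Type u} [CommRing C] (D : Type u) [CommRing D] [Algebra C D]
    (hinj : Function.Injective (algebraMap C D)) (heff : Algebra.IsEffective C D)
    {M N : Type u} [AddCommGroup M] [AddCommGroup N] [Module C M] [Module C N] [Module.Flat C M] (j : M →ₗ[C] N)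
    (hN : ∃ r : D ⊗[C] N →ₗ[C] N, ∀ n, r (1 ⊗ₜ n) = n)
    (hj : Function.Bijective (j.lTensor D)) : Function.Bijective j := by
  have hM : Function.Injective fun m : M => (1 : D) ⊗ₜ[C] m := by
    have h := (Module.Flat.rTensor_preserves_injective_linearMap (M := M) (Algebra.linearMap C D) hinj).comp
      (TensorProduct.lid C M).symm.injective
    intro m m' e
    refine h ?_
    simpa using e
  refine ⟨fun m m' e => hM (hj.1 ?_), fun n => ?_⟩
  · simp only [LinearMap.lTensor_tmul, e]
  obtain ⟨r, hr⟩ := hN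
  obtain ⟨z, hz⟩ := hj.2 (1 ⊗ₜ n)
  have hD : Function.Exact (Algebra.linearMap C D) (Algebra.TensorProduct.includeLeftSubRight C D) := heff
  have hex := Module.Flat.rTensor_exact M hD
  have hzero : (Algebra.TensorProduct.includeLeftSubRight C D).rTensor M z = 0 := by
    -- both images agree after tensoring with `D` twice
    let P : D ⊗[C] M →ₗ[C] D ⊗[C] (D ⊗[C] M) := (TensorProduct.mk C D M 1).lTensor D
    let P' : D ⊗[C] M →ₗ[C] D ⊗[C] (D ⊗[C] M) := TensorProduct.mk C D (D ⊗[C] M) 1
    have h1 : ∀ w, (j.lTensor D).lTensor D (P w) = (TensorProduct.mk C D N 1).lTensor D (j.lTensor D w) := fun w => by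
      induction w using TensorProduct.induction_on with
      | zero => simp
      | tmul d m => simp [P]
      | add a b ha hb => simp only [map_add, ha, hb]
    have h2 : P z = P' z := by
      refine ((TensorProduct.congr (LinearEquiv.refl C D) (LinearEquiv.ofBijective _ hj)).injective ?_)
      show (j.lTensor D).lTensor D (P z) = (j.lTensor D).lTensor D (P' z)
      rw [h1, hz]
      show _ = (j.lTensor D).lTensor D ((1 : D) ⊗ₜ z)
      rw [LinearMap.lTensor_tmul, LinearMap.lTensor_tmul, hz]
      rfl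
    have h3 : ∀ w, TensorProduct.assoc C D D M ((Algebra.TensorProduct.includeLeftSubRight C D).rTensor M w) = P w - P' w := fun w => by
      induction w using TensorProduct.induction_on with
      | zero => simp
      | tmul d m => simp [P, P', TensorProduct.sub_tmul]
      | add a b ha hb => simp only [map_add, ha, hb]; abel
    exact (TensorProduct.assoc C D D M).injective (by rw [h3, h2, sub_self, map_zero])
  obtain ⟨w, hw⟩ := (hex z).1 hzero
  refine ⟨TensorProduct.lid C M w, ?_⟩
  have h4 : (1 : D) ⊗ₜ TensorProduct.lid C M w = z := by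
    rw [← hw]
    clear hw
    induction w using TensorProduct.induction_on with
    | zero => simp
    | tmul a m => simp [Algebra.algebraMap_eq_smul_one, TensorProduct.smul_tmul]
    | add a b ha hb => simp only [map_add, TensorProduct.tmul_add, ha, hb]
  have := congrArg r (hz.symm.trans ((congrArg (j.lTensor D) h4.symm).trans (LinearMap.lTensor_tmul _ _ _ _)))
  rw [hr, hr] at this
  exact this.symm

variable [Module.Flat A B] [Algebra.Etale B (B ⊗[A] B)]

include hC in
open MvPolynomial in
/-- A finitely presented model of `B` over the equalizer. -/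
theorem exists_model : ∃ (B₀ : Type u) (_ : CommRing B₀) (_ : Algebra (C) B₀)
    (_ : Algebra.FinitePresentation (C) B₀) (j : B₀ →ₐ[C] B),
      Function.Bijective (Algebra.TensorProduct.map (AlgHom.id B B) j) ∧
        Algebra.Etale B (B ⊗[C] B₀) := by
  classical
  haveI : Algebra.Etale B (B ⊗[C] B) := Algebra.Etale.of_equiv (tensorEquiv hC)
  haveI := flat_eqRing hC
  obtain ⟨G, hG⟩ := Algebra.FiniteType.out (R := B) (A := B ⊗[C] B)
  choose Sc hSc using fun z : B ⊗[C] B => TensorProduct.exists_finset z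
  let D : Finset B := G.biUnion fun z => (Sc z).image Prod.snd
  let P := MvPolynomial D (C)
  let ψ : P →ₐ[C] B := MvPolynomial.aeval fun d : D => (d : B)
  let Ψ : B ⊗[C] P →ₐ[B] B ⊗[C] B := Algebra.TensorProduct.map (AlgHom.id B B) ψ
  have hΨ : Function.Surjective Ψ := by
    rw [← AlgHom.range_eq_top, eq_top_iff, ← hG, Algebra.adjoin_le_iff]
    intro z hz
    rw [SetLike.mem_coe, hSc z]
    refine Subalgebra.sum_mem _ fun p hp => ?_
    refine ⟨p.1 ⊗ₜ X ⟨p.2, Finset.mem_biUnion.2 ⟨z, hz, Finset.mem_image_of_mem _ hp⟩⟩, ?_⟩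
    show (AlgHom.id B B p.1) ⊗ₜ (ψ (X _)) = _
    rw [show ψ (X _) = p.2 from aeval_X _ _]
    rfl
  obtain ⟨g, hg⟩ := Algebra.FinitePresentation.ker_fG_of_surjective Ψ hΨ
  let K : Submodule (C) P := LinearMap.ker ψ.toLinearMap
  have hexK : Function.Exact K.subtype ψ.toLinearMap := LinearMap.exact_subtype_ker_map _
  have hexB := Module.Flat.lTensor_exact B hexK
  have hk : ∀ z ∈ g, ∃ w : B ⊗[C] K, K.subtype.lTensor B w = z := fun z hz =>
    (hexB z).1 (show Ψ z = 0 from hg.le (Submodule.subset_span hz))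
  choose w hw using hk
  choose Sw hSw using fun (z) (hz : z ∈ g) => TensorProduct.exists_finset (w z hz)
  let T : Finset P := g.attach.biUnion fun z => (Sw z.1 z.2).image fun p => (p.2 : P)
  let J : Ideal P := Ideal.span (T : Set P)
  have hJ : ∀ a ∈ J, ψ a = 0 := fun a ha => by
    have hle : J ≤ RingHom.ker ψ.toRingHom := Ideal.span_le.2 fun x hx => by
      obtain ⟨z, -, hx⟩ := Finset.mem_biUnion.1 hx
      obtain ⟨p, -, rfl⟩ := Finset.mem_image.1 hx
      exact p.2.2
    exact hle ha
  let j : P ⧸ J →ₐ[C] B := Ideal.Quotient.liftₐ J ψ hJ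
  haveI : Algebra.FinitePresentation (C) (P ⧸ J) := Algebra.FinitePresentation.quotient ⟨T, rfl⟩
  let Φ : B ⊗[C] P →ₐ[B] B ⊗[C] (P ⧸ J) :=
    Algebra.TensorProduct.map (AlgHom.id B B) (Ideal.Quotient.mkₐ _ J)
  have hΦ : Function.Surjective Φ := Algebra.TensorProduct.map_surjective _ _ Function.surjective_id (Ideal.Quotient.mkₐ_surjective _ J)
  have hfac : ∀ z, Algebra.TensorProduct.map (AlgHom.id B B) j (Φ z) = Ψ z := fun z => by
    induction z using TensorProduct.induction_on with
    | zero => simp
    | tmul b p => rfl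
    | add a b ha hb => simp only [map_add, ha, hb]
  have hker : RingHom.ker Ψ.toRingHom ≤ RingHom.ker Φ.toRingHom := by
    rw [← hg]
    refine Ideal.span_le.2 fun z hz => ?_
    show Φ z = 0
    rw [← hw z hz, hSw z hz, map_sum, map_sum]
    refine Finset.sum_eq_zero fun p hp => ?_
    show p.1 ⊗ₜ (Ideal.Quotient.mk J (p.2 : P)) = 0
    rw [Ideal.Quotient.eq_zero_iff_mem.2 (Ideal.subset_span
      (Finset.mem_biUnion.2 ⟨⟨z, hz⟩, Finset.mem_attach _ _, Finset.mem_image_of_mem _ hp⟩)), tmul_zero]
  have hbij : Function.Bijective (Algebra.TensorProduct.map (AlgHom.id B B) j) := by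
    refine ⟨(injective_iff_map_eq_zero _).2 fun x hx => ?_, fun y => ?_⟩
    · obtain ⟨z, rfl⟩ := hΦ x
      rw [hfac] at hx
      exact hker hx
    · obtain ⟨z, rfl⟩ := hΨ y
      exact ⟨Φ z, hfac z⟩
  exact ⟨P ⧸ J, inferInstance, inferInstance, inferInstance, j, hbij,
    Algebra.Etale.of_equiv (AlgEquiv.ofBijective _ hbij).symm⟩

include hC in
theorem etale_atPrime_tensor (q : Ideal B) [q.IsPrime] {B₀ : Type u} [CommRing B₀] [Algebra (C) B₀]
    [Algebra.Etale B (B ⊗[C] B₀)] :
    Algebra.Etale (Localization.AtPrime (q.comap (algebraMap C B)))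
      (Localization.AtPrime (q.comap (algebraMap C B)) ⊗[C] B₀) := by
  haveI := flat_eqRing hC
  let CQ := Localization.AtPrime (q.comap (algebraMap C B))
  let T := CQ ⊗[C] B
  letI : Algebra B T := Algebra.TensorProduct.rightAlgebra
  haveI : IsScalarTower (C) B T :=
    IsScalarTower.of_algebraMap_eq fun x => Algebra.TensorProduct.tmul_one_eq_one_tmul x
  haveI : Module.FaithfullyFlat CQ T := faithfullyFlat_baseChange_of_range fun x =>
    mem_range_of_le B q _ (comap_le_of_atPrime _ x)
  haveI : Algebra.Etale T (T ⊗[CQ] (CQ ⊗[C] B₀)) :=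
    Algebra.Etale.of_equiv (R := T) (A := T ⊗[B] (B ⊗[C] B₀)) ((Algebra.TensorProduct.cancelBaseChange (C) B T T B₀).trans
      (Algebra.TensorProduct.cancelBaseChange (C) CQ T T B₀).symm)
  exact Algebra.Etale.of_etale_tensorProduct_of_faithfullyFlat (T := T)

include hC in
theorem isEtaleAt_of_le (q : Ideal B) [q.IsPrime] {B₀ : Type u} [CommRing B₀] [Algebra (C) B₀]
    [Algebra.Etale B (B ⊗[C] B₀)] (P : PrimeSpectrum B₀)
    (hP : P.asIdeal.comap (algebraMap (C) B₀) ≤ q.comap (algebraMap C B)) :
    Algebra.IsEtaleAt (C) P.asIdeal := by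
  let Q := q.comap (algebraMap C B)
  let CQ := Localization.AtPrime Q
  haveI := etale_atPrime_tensor hC q (B₀ := B₀)
  let E := CQ ⊗[C] B₀
  letI : Algebra B₀ E := Algebra.TensorProduct.rightAlgebra
  haveI : IsScalarTower (C) B₀ E := Algebra.TensorProduct.right_isScalarTower
  haveI : IsLocalization (Algebra.algebraMapSubmonoid B₀ Q.primeCompl) E := IsLocalization.tensorRight (S := B₀) (A := CQ) Q.primeCompl
  have hdis : Disjoint (Algebra.algebraMapSubmonoid B₀ Q.primeCompl : Set B₀) (P.asIdeal : Set B₀) := by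
    rw [Set.disjoint_left]
    rintro _ ⟨c, hc, rfl⟩ hmem
    exact hc (hP hmem)
  let P' : Ideal E := P.asIdeal.map (algebraMap B₀ E)
  haveI : P'.IsPrime := IsLocalization.isPrime_of_isPrime_disjoint _ _ _ P.isPrime hdis
  have hcomap : P'.comap (algebraMap B₀ E) = P.asIdeal :=
    IsLocalization.comap_map_of_isPrime_disjoint _ E P.isPrime hdis
  haveI : Algebra.FormallyEtale (C) CQ := .of_isLocalization (M := Q.primeCompl)
  haveI : Algebra.FormallyEtale (C) E := .comp (C) CQ E
  haveI : Algebra.FormallyEtale E (Localization.AtPrime P') := .of_isLocalization (M := P'.primeCompl)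
  haveI : Algebra.FormallyEtale (C) (Localization.AtPrime P') := .comp (C) E _
  haveI : IsLocalization.AtPrime (Localization.AtPrime P') P.asIdeal := by
    have := IsLocalization.isLocalization_isLocalization_atPrime_isLocalization
      (Algebra.algebraMapSubmonoid B₀ Q.primeCompl) (S := E) (Localization.AtPrime P') P'
    simpa only [Ideal.under_def, hcomap] using this
  exact Algebra.FormallyEtale.of_equiv (A := Localization.AtPrime P')
    ((IsLocalization.algEquiv P.asIdeal.primeCompl (Localization.AtPrime P') (Localization.AtPrime P.asIdeal)).restrictScalars (C))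

include hC in
/-- Near the image of a point the equalizer is the ring of an affine scheme covered by `B`. -/
theorem exists_chart (q : Ideal B) [q.IsPrime] :
    ∃ s : C, (algebraMap C B s) ∉ q ∧ Algebra.Etale (C) (Localization.Away (algebraMap C B s)) ∧
      ∀ p : PrimeSpectrum (C), s ∉ p.asIdeal → p ∈ Set.range (PrimeSpectrum.comap (algebraMap C B)) := by
  obtain ⟨B₀, _, _, _, j, hj, het⟩ := exists_model hC
  let Q := q.comap (algebraMap C B)
  -- the etale locus contains the fibre over a neighbourhood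
  obtain ⟨I, hI⟩ := (PrimeSpectrum.isClosed_iff_zeroLocus_ideal (Algebra.etaleLocus C B₀)ᶜ).1
    Algebra.isOpen_etaleLocus.isClosed_compl
  obtain ⟨s₀, hs₀Q, hs₀I⟩ : ∃ s₀ : C, s₀ ∉ Q ∧ algebraMap C B₀ s₀ ∈ I := by
    by_contra hne
    push Not at hne
    obtain ⟨P, hP, hIP, hdisj⟩ := Ideal.exists_le_prime_disjoint I (Algebra.algebraMapSubmonoid B₀ Q.primeCompl)
      (by rw [Set.disjoint_left]; rintro x hx ⟨c, hc, rfl⟩; exact hne c hc hx)
    have hle : P.comap (algebraMap C B₀) ≤ Q := fun c hc => by
      by_contra hcQ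
      exact Set.disjoint_left.1 hdisj hc ⟨c, hcQ, rfl⟩
    have h1 : (⟨P, hP⟩ : PrimeSpectrum B₀) ∈ Algebra.etaleLocus C B₀ := isEtaleAt_of_le hC q ⟨P, hP⟩ hle
    have h2 : (⟨P, hP⟩ : PrimeSpectrum B₀) ∈ (Algebra.etaleLocus C B₀)ᶜ := by rw [hI]; exact hIP
    exact h2 h1
  have hbo : ∀ {s : C}, algebraMap C B₀ s ∈ I → Algebra.Etale C (Localization.Away (algebraMap C B₀ s)) := fun {s} hs =>
    Algebra.basicOpen_subset_etaleLocus_iff_etale.1 fun P hP => by
      by_contra hne
      have : P ∈ PrimeSpectrum.zeroLocus (I : Set B₀) := hI.le hne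
      exact hP (this hs)
  -- the image is an open neighbourhood
  haveI := hbo hs₀I
  let L₀ := Localization.Away (algebraMap C B₀ s₀)
  have hU : IsOpen (Set.range (PrimeSpectrum.comap (algebraMap C L₀))) :=
    PrimeSpectrum.isOpenMap_comap_of_hasGoingDown_of_finitePresentation.isOpen_range
  have hQ : (⟨Q, inferInstance⟩ : PrimeSpectrum C) ∈ Set.range (PrimeSpectrum.comap (algebraMap C L₀)) := by
    let P : PrimeSpectrum B₀ := PrimeSpectrum.comap j.toRingHom ⟨q, inferInstance⟩
    have hP : P ∈ Set.range (PrimeSpectrum.comap (algebraMap B₀ L₀)) := by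
      rw [PrimeSpectrum.localization_away_comap_range L₀ (algebraMap C B₀ s₀)]
      show j (algebraMap C B₀ s₀) ∉ q
      rw [j.commutes]
      exact hs₀Q
    obtain ⟨P', hP'⟩ := hP
    refine ⟨P', ?_⟩
    rw [IsScalarTower.algebraMap_eq C B₀ L₀, PrimeSpectrum.comap_comp_apply, hP', ← PrimeSpectrum.comap_comp_apply]
    exact PrimeSpectrum.ext (congrArg (fun f => q.comap f) j.comp_algebraMap)
  obtain ⟨_, ⟨_, ⟨s₁, rfl⟩, rfl⟩, hs₁Q, hs₁U⟩ :=
    PrimeSpectrum.isBasis_basic_opens.exists_subset_of_mem_open hQ hU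
  let s : C := s₀ * s₁
  have hsQ : s ∉ Q := fun h => (Ideal.IsPrime.mem_or_mem inferInstance h).elim hs₀Q hs₁Q
  have hsI : algebraMap C B₀ s ∈ I := by rw [map_mul]; exact I.mul_mem_right _ hs₀I
  haveI := hbo hsI
  let Cs := Localization.Away s
  letI : Algebra B₀ (Cs ⊗[C] B₀) := Algebra.TensorProduct.rightAlgebra
  letI : Algebra B (Cs ⊗[C] B) := Algebra.TensorProduct.rightAlgebra
  haveI : IsScalarTower C B₀ (Cs ⊗[C] B₀) := Algebra.TensorProduct.right_isScalarTower
  haveI : IsScalarTower C B (Cs ⊗[C] B) :=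
    IsScalarTower.of_algebraMap_eq fun x => Algebra.TensorProduct.tmul_one_eq_one_tmul x
  haveI : IsLocalization.Away (algebraMap C B₀ s) (Cs ⊗[C] B₀) := by
    have := IsLocalization.tensorRight (S := B₀) (A := Cs) (Submonoid.powers s)
    simpa only [Algebra.algebraMapSubmonoid_powers] using this
  haveI : IsLocalization.Away (algebraMap C B s) (Cs ⊗[C] B) := by
    have := IsLocalization.tensorRight (S := B) (A := Cs) (Submonoid.powers s)
    rwa [Algebra.algebraMapSubmonoid_powers] at this
  haveI : Algebra.Etale C (Cs ⊗[C] B₀) := Algebra.Etale.of_equiv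
    ((IsLocalization.algEquiv (Submonoid.powers (algebraMap C B₀ s)) (Localization.Away (algebraMap C B₀ s))
      (Cs ⊗[C] B₀)).restrictScalars C)
  let js : Cs ⊗[C] B₀ →ₐ[C] Cs ⊗[C] B := Algebra.TensorProduct.map (AlgHom.id C Cs) j
  have hjs : Function.Bijective js := by
    refine bijective_of_lTensor B hC.inj (isEffective hC) js.toLinearMap ?_ ?_
    · refine ⟨(LinearMap.lTensor Cs (LinearMap.mul' C B)).comp (TensorProduct.leftComm C B Cs B).toLinearMap,
        fun n => ?_⟩
      induction n using TensorProduct.induction_on with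
      | zero => simp
      | tmul c b => simp
      | add x y hx hy => simp only [TensorProduct.tmul_add, map_add, hx, hy]
    · let e : B ⊗[C] B₀ ≃ₗ[C] B ⊗[C] B := LinearEquiv.ofBijective (j.toLinearMap.lTensor B) hj
      let e' := ((TensorProduct.leftComm C B Cs B₀).trans (TensorProduct.congr (LinearEquiv.refl C Cs) e)).trans
        (TensorProduct.leftComm C Cs B B)
      have : ∀ x, js.toLinearMap.lTensor B x = e' x := fun x => by
        induction x using TensorProduct.induction_on with
        | zero => simp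
        | tmul b y =>
          induction y using TensorProduct.induction_on with
          | zero => simp
          | tmul c b' => simp [e', e, js]
          | add y y' hy hy' => simp only [TensorProduct.tmul_add, map_add, hy, hy']
        | add x y hx hy => simp only [map_add, hx, hy]
      rw [show ⇑(js.toLinearMap.lTensor B) = ⇑e' from funext this]
      exact e'.bijective
  haveI : Algebra.Etale C (Cs ⊗[C] B) := Algebra.Etale.of_equiv (AlgEquiv.ofBijective js hjs)
  refine ⟨s, fun h => hsQ h, Algebra.Etale.of_equiv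
    ((IsLocalization.algEquiv (Submonoid.powers (algebraMap C B s)) (Cs ⊗[C] B) (Localization.Away (algebraMap C B s))).restrictScalars C),
    fun p hp => ?_⟩
  have hp₀ : s₀ ∉ p.asIdeal := fun h => hp (p.asIdeal.mul_mem_right _ h)
  have hp₁ : s₁ ∉ p.asIdeal := fun h => hp (p.asIdeal.mul_mem_left _ h)
  obtain ⟨P', hP'⟩ := hs₁U hp₁
  let P : PrimeSpectrum B₀ := PrimeSpectrum.comap (algebraMap B₀ L₀) P'
  have hPp : PrimeSpectrum.comap (algebraMap C B₀) P = p := by
    rw [← hP', IsScalarTower.algebraMap_eq C B₀ L₀, PrimeSpectrum.comap_comp_apply]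
  obtain ⟨P'', hP''⟩ : P ∈ Set.range (PrimeSpectrum.comap (algebraMap B₀ (Cs ⊗[C] B₀))) := by
    rw [PrimeSpectrum.localization_away_comap_range _ (algebraMap C B₀ s)]
    intro h
    exact hp (hPp ▸ h)
  let e := AlgEquiv.ofBijective js hjs
  refine ⟨PrimeSpectrum.comap (algebraMap B (Cs ⊗[C] B)) (PrimeSpectrum.comap e.symm.toAlgHom.toRingHom P''), ?_⟩
  rw [← hPp, ← hP'', ← PrimeSpectrum.comap_comp_apply, ← PrimeSpectrum.comap_comp_apply,
    ← IsScalarTower.algebraMap_eq C B (Cs ⊗[C] B), ← PrimeSpectrum.comap_comp_apply,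
    ← IsScalarTower.algebraMap_eq C B₀ (Cs ⊗[C] B₀)]
  exact congrArg (fun f => PrimeSpectrum.comap f P'') e.symm.toAlgHom.comp_algebraMap

end Groth.L23.FlatMonoAlg
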