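import Groth.Agent.L23.SourceDescent
import Mathlib.AlgebraicGeometry.Sites.Etale
import Mathlib.AlgebraicGeometry.Cover.Sigma

/-!
# Locality on the source for the etale topology
-/

universe u

open CategoryTheory CategoryTheory.Limits AlgebraicGeometry

set_option backward.isDefEq.respectTransparency.types false

namespace Groth.L23

theorem isLocalAtSource_etale (P : MorphismProperty Scheme.{u}) [IsZariskiLocalAtSource P]
    (hcomp : ∀ {X' X Y : Scheme.{u}} (χ : X' ⟶ X) (g : X ⟶ Y), Etale χ → P g → P (χ ≫ g))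
    (hdesc : ∀ {X' X Y : Scheme.{u}} (χ : X' ⟶ X) (g : X ⟶ Y), Etale χ → Surjective χ → P (χ ≫ g) → P g) :
    P.IsLocalAtSource Scheme.etalePrecoverage := by
  refine .mk_of_iff_of_zeroHypercover fun {X Y} f 𝒰 => ⟨fun h i => hcomp _ _ (Scheme.Cover.map_prop 𝒰 i) h, fun h => ?_⟩
  let 𝒱 : Scheme.Cover.{u} (Scheme.precoverage (@Etale : MorphismProperty Scheme.{u})) X :=
    Precoverage.ZeroHypercover.restrictIndexOfSmall.{u} 𝒰
  have h' : ∀ i, P (𝒱.f i ≫ f) := fun i => h _
  have hs : Surjective (Sigma.desc 𝒱.f) := ⟨fun x => by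
    obtain ⟨i, y, hy⟩ := Scheme.Cover.exists_eq 𝒱 x
    exact ⟨Sigma.ι 𝒱.X i y, by rw [← Scheme.Hom.comp_apply, Sigma.ι_desc]; exact hy⟩⟩
  have he : Etale (Sigma.desc 𝒱.f) :=
    IsZariskiLocalAtSource.sigmaDesc (P := @Etale) fun i => Scheme.Cover.map_prop 𝒱 i
  refine hdesc (Sigma.desc 𝒱.f) f he hs ?_
  have e : Sigma.desc 𝒱.f ≫ f = Sigma.desc fun i => 𝒱.f i ≫ f := by ext i; simp
  rw [e]
  exact IsZariskiLocalAtSource.sigmaDesc h'

theorem etale_isLocalAtSource :
    MorphismProperty.IsLocalAtSource (@Etale : MorphismProperty Scheme.{u}) Scheme.etalePrecoverage :=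
  isLocalAtSource_etale _ (fun χ g _ _ => inferInstanceAs (Etale (χ ≫ g)))
    (fun χ g _ _ h => etale_of_etale_comp' χ g h)

end Groth.L23
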