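import Groth.Agent.L23.FlatMonoAlg
import Groth.Agent.L23.QcFlatMono
import Groth.Agent.L23.EtaleMono
import Groth.Agent.L23.SchemeLocus
import Groth.Agent.L23.SourceLocalEtale
import Groth.Agent.L23.CechDesc

/-!
# Flat monomorphisms are representable
-/

universe u

open CategoryTheory CategoryTheory.Limits AlgebraicGeometry Opposite AlgSp TensorProduct

set_option autoImplicit false
set_option linter.style.haveILetI false
set_option backward.isDefEq.respectTransparency false
set_option backward.isDefEq.respectTransparency.types false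

noncomputable section

namespace Groth.L23.FlatMono

/-- The ring map of a morphism to an affine scheme. -/
def ringMap {R : CommRingCat.{u}} {Z : Scheme.{u}} (f : Z ⟶ Spec R) : R ⟶ Γ(Z, ⊤) :=
  (Scheme.ΓSpecIso R).inv ≫ f.appTop

theorem ringMap_comp {R R' : CommRingCat.{u}} {Z : Scheme.{u}} (f : Z ⟶ Spec R') (φ : R ⟶ R') :
    ringMap (f ≫ Spec.map φ) = φ ≫ ringMap f := by
  simp only [ringMap, Scheme.Hom.comp_appTop]
  rw [← Category.assoc φ, Scheme.ΓSpecIso_inv_naturality φ, Category.assoc]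

theorem ext_ringMap {R : CommRingCat.{u}} {Z : Scheme.{u}} {f g : Z ⟶ Spec R} (h : ringMap f = ringMap g) :
    f = g :=
  ext_of_isAffine ((cancel_epi (Scheme.ΓSpecIso R).inv).1 h)

section Ring

variable (A B : Type u) [CommRing A] [CommRing B] [Algebra A B]

/-- The equalizer of the two maps from `B` to `B ⊗ B`. -/
abbrev eqRing : Subalgebra A B :=
  AlgHom.equalizer (Algebra.TensorProduct.includeLeft : B →ₐ[A] B ⊗[A] B) Algebra.TensorProduct.includeRight

theorem isEqualizer : FlatMonoAlg.IsEqualizer A B (eqRing A B) where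
  inj := Subtype.val_injective
  eq c := c.2
  mem b h := ⟨⟨b, h⟩, rfl⟩

variable {A B}

theorem agree {R : Type u} [CommRing R] (F G : B →+* R)
    (h : ∀ a, F (algebraMap A B a) = G (algebraMap A B a)) (c : eqRing A B) : F c = G c := by
  letI : Algebra A R := (F.comp (algebraMap A B)).toAlgebra
  let F' : B →ₐ[A] R := { F with commutes' := fun a => rfl }
  let G' : B →ₐ[A] R := { G with commutes' := fun a => (h a).symm }
  have := congrArg (Algebra.TensorProduct.productMap F' G') c.2
  simpa [F', G'] using this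

end Ring

variable {S : Scheme.{u}}

theorem chart_props {B C : Type u} [CommRing B] [CommRing C] [Algebra C B] (c₀ : C)
    (het : Algebra.Etale C (Localization.Away (algebraMap C B c₀)))
    (hcov : ∀ p : PrimeSpectrum C, c₀ ∉ p.asIdeal → p ∈ Set.range (PrimeSpectrum.comap (algebraMap C B))) :
    Etale (Spec.map (CommRingCat.ofHom (IsLocalization.Away.map (Localization.Away c₀)
        (Localization.Away (algebraMap C B c₀)) (algebraMap C B) c₀))) ∧
      Surjective (Spec.map (CommRingCat.ofHom (IsLocalization.Away.map (Localization.Away c₀)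
        (Localization.Away (algebraMap C B c₀)) (algebraMap C B) c₀))) := by
  let Cs := Localization.Away c₀
  let Bs := Localization.Away (algebraMap C B c₀)
  let ψ : Cs →+* Bs := IsLocalization.Away.map Cs Bs (algebraMap C B) c₀
  letI : Algebra Cs Bs := ψ.toAlgebra
  haveI : IsScalarTower C Cs Bs := IsScalarTower.of_algebraMap_eq' (by
    rw [show algebraMap Cs Bs = ψ from rfl, IsScalarTower.algebraMap_eq C B Bs]
    exact (IsLocalization.map_comp _).symm)
  haveI : Algebra.Etale Cs Bs := by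
    haveI : Algebra.FormallyEtale C Cs := .of_isLocalization (M := Submonoid.powers c₀)
    haveI : Algebra.FormallyEtale Cs Bs := Algebra.FormallyEtale.of_restrictScalars (R := C)
    haveI : Algebra.FinitePresentation Cs Bs := Algebra.FinitePresentation.of_restrict_scalars_finitePresentation C Cs Bs
    exact ⟨inferInstance, inferInstance⟩
  refine ⟨HasRingHomProperty.Spec_iff.2 (RingHom.etale_algebraMap.2 ‹Algebra.Etale Cs Bs›), ⟨fun p => ?_⟩⟩
  have hp : c₀ ∉ (PrimeSpectrum.comap (algebraMap C Cs) p).asIdeal := by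
    have : PrimeSpectrum.comap (algebraMap C Cs) p ∈ (PrimeSpectrum.basicOpen c₀ : Set _) := by
      rw [← PrimeSpectrum.localization_away_comap_range Cs c₀]; exact ⟨p, rfl⟩
    exact this
  obtain ⟨Q, hQ⟩ := hcov _ hp
  obtain ⟨Q', hQ'⟩ : Q ∈ Set.range (PrimeSpectrum.comap (algebraMap B Bs)) := by
    rw [PrimeSpectrum.localization_away_comap_range Bs (algebraMap C B c₀)]
    exact fun h => hp (hQ ▸ h)
  refine ⟨Q', PrimeSpectrum.localization_comap_injective Cs (Submonoid.powers c₀) ?_⟩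
  show PrimeSpectrum.comap (algebraMap C Cs) (PrimeSpectrum.comap ψ Q') = _
  rw [← PrimeSpectrum.comap_comp_apply, show ψ.comp (algebraMap C Cs) = (algebraMap B Bs).comp (algebraMap C B) from
    IsLocalization.map_comp _, PrimeSpectrum.comap_comp_apply, hQ', hQ]

theorem repWith_etale_of_comp {P : Sp S} (hP : IsAlgSpace P) {U W : Over S} {q : U ⟶ W}
    [Etale q.left] [Surjective q.left] {w : (yon S).obj W ⟶ P}
    (h : RepWith @Etale ((yon S).map q ≫ w)) : RepWith @Etale w := by
  refine repWith_of_exists fun T g => ?_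
  obtain ⟨R, p, r, sq⟩ := exists_isPullback_of_representable (hP.representable_from_yon w) g
  refine ⟨R, _, r, sq, ?_⟩
  have sqU := (IsPullback.of_hasPullback q p).map (yon S)
  have e1 : Etale (pullback.snd q p ≫ r).left := repWith_prop h
    (snd := pullback.snd q p ≫ r) (fst := (yon S).map (pullback.fst q p))
    (by rw [Functor.map_comp]; exact sqU.paste_vert sq)
  have sqs := ((IsPullback.of_hasPullback q p).map (Over.forget S))
  haveI : Etale (pullback.snd q p).left := MorphismProperty.of_isPullback sqs ‹Etale q.left›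
  haveI : Surjective (pullback.snd q p).left := MorphismProperty.of_isPullback sqs ‹Surjective q.left›
  rw [Over.comp_left] at e1
  exact etale_of_etale_comp' (pullback.snd q p).left r.left e1

theorem mono_of_lifts {U W T : Over S} (q : U ⟶ W) [Flat q.left] [Surjective q.left] (j : W ⟶ T)
    (h : ∀ {Z : Over S} (f g : Z ⟶ U), f ≫ q ≫ j = g ≫ q ≫ j → f ≫ q = g ≫ q) : Mono j := by
  refine ⟨fun {Z} f g e => ?_⟩
  let e₁ : pullback f q ⟶ Z := pullback.fst f q
  let e₂ : pullback (e₁ ≫ g) q ⟶ pullback f q := pullback.fst (e₁ ≫ g) q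
  have s₁ := ((IsPullback.of_hasPullback f q).map (Over.forget S)).flip
  have s₂ := ((IsPullback.of_hasPullback (e₁ ≫ g) q).map (Over.forget S)).flip
  haveI : Flat e₁.left := MorphismProperty.of_isPullback s₁ ‹Flat q.left›
  haveI : Surjective e₁.left := MorphismProperty.of_isPullback s₁ ‹Surjective q.left›
  haveI : Flat e₂.left := MorphismProperty.of_isPullback s₂ ‹Flat q.left›
  haveI : Surjective e₂.left := MorphismProperty.of_isPullback s₂ ‹Surjective q.left›
  haveI : Epi ((Over.forget S).map e₁) := Flat.epi_of_flat_of_surjective e₁.left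
  haveI : Epi ((Over.forget S).map e₂) := Flat.epi_of_flat_of_surjective e₂.left
  haveI : Epi e₁ := (Over.forget S).epi_of_epi_map ‹_›
  haveI : Epi e₂ := (Over.forget S).epi_of_epi_map ‹_›
  have hf : (e₂ ≫ pullback.snd f q) ≫ q = e₂ ≫ e₁ ≫ f := by rw [Category.assoc, ← pullback.condition]
  have hg : pullback.snd (e₁ ≫ g) q ≫ q = e₂ ≫ e₁ ≫ g := pullback.condition.symm
  have := h (e₂ ≫ pullback.snd f q) (pullback.snd (e₁ ≫ g) q) (by
    rw [← Category.assoc, hf, ← Category.assoc (pullback.snd (e₁ ≫ g) q), hg]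
    simp only [Category.assoc, e])
  rw [hf, hg] at this
  exact (cancel_epi e₁).1 ((cancel_epi e₂).1 this)

set_option maxHeartbeats 1600000 in
/-- Every point of the source of a flat monomorphism to a scheme has a scheme neighbourhood. -/
theorem schemePt {P : Sp S} (hP : IsAlgSpace P) {T : Over S} (s : P ⟶ (yon S).obj T) [Mono s]
    (hflat : LocP @Flat s) (x : Points P) : SL.SchemePt x := by
  obtain ⟨U, a, ha, has⟩ := hP.atlas
  obtain ⟨u₀, rfl⟩ := surjective_ofPt has x
  obtain ⟨k, hk⟩ := (yon S).map_surjective (a ≫ s)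
  -- affine charts
  obtain ⟨_, ⟨(V : T.left.Opens), hV, rfl⟩, huV, -⟩ :=
    T.left.isBasis_affineOpens.exists_subset_of_mem_open (Set.mem_univ (k.left u₀)) isOpen_univ
  obtain ⟨_, ⟨(W₀ : U.left.Opens), hW, rfl⟩, huW, hsub⟩ :=
    U.left.isBasis_affineOpens.exists_subset_of_mem_open (show u₀ ∈ k.left ⁻¹ᵁ V from huV) (k.left ⁻¹ᵁ V).2
  let T₀ : Over S := Over.mk (hV.fromSpec ≫ T.hom)
  let ι₀ : T₀ ⟶ T := Over.homMk hV.fromSpec rfl
  let U₁ : Over S := Over.mk (hW.fromSpec ≫ U.hom)
  let j₁ : U₁ ⟶ U := Over.homMk hW.fromSpec rfl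
  haveI : IsOpenImmersion j₁.left := inferInstanceAs (IsOpenImmersion hW.fromSpec)
  have hrange : Set.range (hW.fromSpec ≫ k.left) ⊆ Set.range hV.fromSpec := by
    rw [hV.range_fromSpec]
    rintro _ ⟨z, rfl⟩
    exact hsub (hW.range_fromSpec.le ⟨z, rfl⟩)
  let φ : Γ(T.left, V) ⟶ Γ(U.left, W₀) := Spec.preimage (IsOpenImmersion.lift hV.fromSpec _ hrange)
  have hφ : Spec.map φ ≫ hV.fromSpec = hW.fromSpec ≫ k.left := by
    rw [Spec.map_preimage, IsOpenImmersion.lift_fac]
  let k₀ : U₁ ⟶ T₀ := Over.homMk (Spec.map φ) (by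
    show Spec.map φ ≫ hV.fromSpec ≫ T.hom = hW.fromSpec ≫ U.hom
    rw [← Category.assoc, hφ, Category.assoc, Over.w k])
  have hk₀ : k₀ ≫ ι₀ = j₁ ≫ k := Over.OverMorphism.ext hφ
  let a₁ : (yon S).obj U₁ ⟶ P := (yon S).map j₁ ≫ a
  have ha₁ : RepWith @Etale a₁ :=
    (repWith_isMultiplicative (S := S) @Etale).comp_mem _ _ (repWith_map (inferInstance : Etale j₁.left)) ha
  have ha₁s : a₁ ≫ s = (yon S).map (k₀ ≫ ι₀) := by rw [hk₀, Functor.map_comp, hk, Category.assoc]
  haveI : Mono hV.fromSpec := inferInstance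
  haveI hf₀ : Flat (Spec.map φ) := by
    have h1 : Flat (k₀ ≫ ι₀).left := hflat a₁ (𝟙 _) _ ha₁ (repWith_id _ _) (by rw [ha₁s, Category.comp_id])
    have sq : IsPullback (𝟙 _) (Spec.map φ) (Spec.map φ ≫ hV.fromSpec) hV.fromSpec :=
      IsPullback.mk' (Category.id_comp _) (fun Z a b h _ => by simpa using h)
        (fun Z a b e => ⟨a, Category.comp_id _, (cancel_mono hV.fromSpec).1 (by rw [Category.assoc]; exact e)⟩)
    exact MorphismProperty.of_isPullback sq h1
  -- the algebras
  algebraize [φ.hom]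
  haveI : Module.Flat Γ(T.left, V) Γ(U.left, W₀) := (HasRingHomProperty.Spec_iff.1 hf₀ :)
  haveI : Algebra.Etale Γ(U.left, W₀) (Γ(U.left, W₀) ⊗[Γ(T.left, V)] Γ(U.left, W₀)) := by
    have sq := IsPullback.of_hasPullback k₀ k₀
    have sqι : IsPullback (pullback.fst k₀ k₀) (pullback.snd k₀ k₀) (k₀ ≫ ι₀) (k₀ ≫ ι₀) := by
      haveI : Mono ι₀ := (Over.forget S).mono_of_mono_map (inferInstanceAs (Mono hV.fromSpec))
      exact IsPullback.mk' (by rw [reassoc_of% sq.w]) (fun Z a b h₁ h₂ => sq.hom_ext h₁ h₂)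
        (fun Z a b e => sq.exists_lift a b ((cancel_mono ι₀).1 (by simpa only [Category.assoc] using e)))
    have he : Etale (pullback.fst k₀ k₀).left :=
      etale_fst_of_mono ha₁ a₁ ha₁s ha₁s sqι.flip
    have sql := sq.map (Over.forget S)
    have he₀ : Etale (pullback.fst ((Over.forget S).map k₀) ((Over.forget S).map k₀)) := by
      rw [← IsPullback.isoPullback_inv_fst sql]
      exact MorphismProperty.comp_mem _ _ _ inferInstance he
    have he' : Etale (pullback.fst (Spec.map φ) (Spec.map φ)) := he₀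
    have he'' : Etale (Spec.map (CommRingCat.ofHom
        (algebraMap Γ(U.left, W₀) (Γ(U.left, W₀) ⊗[Γ(T.left, V)] Γ(U.left, W₀))))) := by
      rw [← pullbackSpecIso_inv_fst']
      exact MorphismProperty.comp_mem _ _ _ inferInstance he'
    exact RingHom.etale_algebraMap.1 (HasRingHomProperty.Spec_iff.1 he'')
  obtain ⟨q₀, hq₀⟩ : ∃ q₀ : U₁.left, j₁.left q₀ = u₀ := hW.range_fromSpec.ge huW
  obtain ⟨c₀, hc₀, het, hcov⟩ :=
    FlatMonoAlg.exists_chart (isEqualizer Γ(T.left, V) Γ(U.left, W₀)) (PrimeSpectrum.asIdeal q₀)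
  -- the chart
  let C := eqRing Γ(T.left, V) Γ(U.left, W₀)
  let Cs := Localization.Away c₀
  let Bs := Localization.Away (algebraMap C Γ(U.left, W₀) c₀)
  let ψ : Cs →+* Bs := IsLocalization.Away.map Cs Bs (algebraMap C Γ(U.left, W₀)) c₀
  let W : Over S := Over.mk (Spec.map (CommRingCat.ofHom ((algebraMap C Cs).comp (algebraMap Γ(T.left, V) C))) ≫ T₀.hom)
  let m : W ⟶ T₀ := Over.homMk (Spec.map (CommRingCat.ofHom ((algebraMap C Cs).comp (algebraMap Γ(T.left, V) C)))) rfl
  let U₂ : Over S := Over.mk (Spec.map (CommRingCat.ofHom (algebraMap Γ(U.left, W₀) Bs)) ≫ U₁.hom)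
  let i₂ : U₂ ⟶ U₁ := Over.homMk (Spec.map (CommRingCat.ofHom (algebraMap Γ(U.left, W₀) Bs))) rfl
  have hψ : ψ.comp ((algebraMap C Cs).comp (algebraMap Γ(T.left, V) C)) =
      (algebraMap Γ(U.left, W₀) Bs).comp φ.hom := by
    rw [← RingHom.comp_assoc, show ψ.comp (algebraMap C Cs) = (algebraMap Γ(U.left, W₀) Bs).comp (algebraMap C Γ(U.left, W₀)) from
      IsLocalization.map_comp _, RingHom.comp_assoc]
    rfl
  have hψl : Spec.map (CommRingCat.ofHom ψ) ≫
      Spec.map (CommRingCat.ofHom ((algebraMap C Cs).comp (algebraMap Γ(T.left, V) C))) =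
      Spec.map (CommRingCat.ofHom (algebraMap Γ(U.left, W₀) Bs)) ≫ Spec.map φ := by
    rw [← Spec.map_comp, ← Spec.map_comp, ← CommRingCat.ofHom_comp, hψ]
    rfl
  let q : U₂ ⟶ W := Over.homMk (Spec.map (CommRingCat.ofHom ψ)) (by
    show Spec.map _ ≫ Spec.map _ ≫ T₀.hom = Spec.map _ ≫ U₁.hom
    rw [← Category.assoc, hψl, Category.assoc, show Spec.map φ ≫ T₀.hom = U₁.hom from Over.w k₀])
  have hqm : q ≫ m = i₂ ≫ k₀ := Over.OverMorphism.ext hψl
  obtain ⟨he, hs⟩ := chart_props (C := C) c₀ het hcov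
  haveI : Etale q.left := he
  haveI : Surjective q.left := hs
  have hlift : ∀ {Z : Over S} (f g : Z ⟶ U₂), f ≫ q ≫ m = g ≫ q ≫ m → f ≫ q = g ≫ q := by
    intro Z f g e
    refine Over.OverMorphism.ext (ext_ringMap ?_)
    show ringMap (f.left ≫ Spec.map (CommRingCat.ofHom ψ)) = ringMap (g.left ≫ Spec.map (CommRingCat.ofHom ψ))
    rw [ringMap_comp, ringMap_comp]
    refine CommRingCat.hom_ext (IsLocalization.ringHom_ext (Submonoid.powers c₀) (RingHom.ext fun c => ?_))
    have hc : ψ (algebraMap C Cs c) = algebraMap Γ(U.left, W₀) Bs c := IsLocalization.map_eq _ c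
    show (ringMap f.left).hom (ψ (algebraMap C Cs c)) = (ringMap g.left).hom (ψ (algebraMap C Cs c))
    rw [hc]
    refine agree ((ringMap f.left).hom.comp (algebraMap Γ(U.left, W₀) Bs))
      ((ringMap g.left).hom.comp (algebraMap Γ(U.left, W₀) Bs)) (fun t => ?_) c
    have := congrArg (fun n => ringMap n.left) (show f ≫ i₂ ≫ k₀ = g ≫ i₂ ≫ k₀ by rw [← hqm]; exact e)
    simp only [Over.comp_left] at this
    have h' : φ ≫ CommRingCat.ofHom (algebraMap Γ(U.left, W₀) Bs) ≫ ringMap f.left =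
        φ ≫ CommRingCat.ofHom (algebraMap Γ(U.left, W₀) Bs) ≫ ringMap g.left := by
      rw [← ringMap_comp, ← ringMap_comp, ← ringMap_comp, ← ringMap_comp, Category.assoc, Category.assoc]
      exact this
    exact congrArg (fun n => n.hom t) h'
  haveI : Mono m := mono_of_lifts q m hlift
  haveI : Mono ι₀ := (Over.forget S).mono_of_mono_map (inferInstanceAs (Mono hV.fromSpec))
  -- descend the map
  let a₂ : (yon S).obj U₂ ⟶ P := (yon S).map i₂ ≫ a₁
  have ha₂ : RepWith @Etale a₂ := by
    haveI : IsOpenImmersion i₂.left := by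
      show IsOpenImmersion (Spec.map (CommRingCat.ofHom (algebraMap Γ(U.left, W₀) Bs)))
      exact IsOpenImmersion.of_isLocalization (algebraMap C Γ(U.left, W₀) c₀)
    exact (repWith_isMultiplicative (S := S) @Etale).comp_mem _ _ (repWith_map (inferInstance : Etale i₂.left)) ha₁
  haveI : Epi ((yon S).map q) := epi_of_repWith _ (repWith_map ‹Etale q.left›) (repWith_map ‹Surjective q.left›)
  obtain ⟨hco⟩ := nonempty_isColimit_cofork ((yon S).map q)
    (IsPullback.of_hasPullback ((yon S).map q) ((yon S).map q))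
  have ha₂s : a₂ ≫ s = (yon S).map q ≫ (yon S).map (m ≫ ι₀) := by
    rw [← Functor.map_comp, reassoc_of% hqm, Category.assoc, ha₁s, ← Functor.map_comp]
  have hdesc : pullback.fst ((yon S).map q) ((yon S).map q) ≫ a₂ = pullback.snd _ _ ≫ a₂ := by
    refine (cancel_mono s).1 ((Category.assoc _ _ _).trans ?_)
    refine Eq.trans ?_ (Category.assoc _ _ _).symm
    refine (congrArg (pullback.fst _ _ ≫ ·) ha₂s).trans (Eq.trans ?_ (congrArg (pullback.snd _ _ ≫ ·) ha₂s).symm)
    simp only [pullback.condition_assoc]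
  let w : (yon S).obj W ⟶ P := hco.desc (Cofork.ofπ a₂ hdesc)
  have hw : (yon S).map q ≫ w = a₂ := hco.fac (Cofork.ofπ a₂ hdesc) WalkingParallelPair.one
  have hws : w ≫ s = (yon S).map (m ≫ ι₀) := by rw [← cancel_epi ((yon S).map q), reassoc_of% hw, ha₂s]
  haveI : Mono ((yon S).map (m ≫ ι₀)) := mono_of_yon fun Z z z' e => by
    obtain ⟨z, rfl⟩ := (yon S).map_surjective z
    obtain ⟨z', rfl⟩ := (yon S).map_surjective z'
    rw [← Functor.map_comp, ← Functor.map_comp] at e
    rw [(cancel_mono (m ≫ ι₀)).1 ((yon S).map_injective e)]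
  haveI : Mono w := mono_of_mono_fac hws
  have hwe : RepWith @Etale w := repWith_etale_of_comp hP (q := q) (hw.symm ▸ ha₂)
  have hwo := repWith_isOpenImmersion_of_etale_mono (IsAlgSpace.yon_obj W) hP w
    (CechDesc.locP_of_repWith (fun g h => h) w hwe)
  obtain ⟨q₂, hq₂⟩ : ∃ q₂ : U₂.left, i₂.left q₂ = q₀ := by
    have : q₀ ∈ Set.range (PrimeSpectrum.comap (algebraMap Γ(U.left, W₀) Bs)) := by
      rw [PrimeSpectrum.localization_away_comap_range Bs (algebraMap C Γ(U.left, W₀) c₀)]
      exact hc₀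
    exact this
  refine ⟨W, w, q.left q₂, hwo, ?_⟩
  rw [← ofPt_comp, hw]
  show Points.ofPt ((yon S).map i₂ ≫ (yon S).map j₁ ≫ a) q₂ = _
  rw [ofPt_comp, hq₂, ofPt_comp, hq₀]

/-- A flat monomorphism of algebraic spaces is representable. -/
theorem representable {X Y : Sp S} (hX : IsAlgSpace X) (hY : IsAlgSpace Y) (f : X ⟶ Y) [Mono f]
    (hflat : LocP @Flat f) : Representable f := by
  intro T g
  have sq := IsPullback.of_hasPullback f g
  have hP : IsAlgSpace (pullback f g) := isAlgSpace_of_isPullback hY.diag hX (IsAlgSpace.yon_obj T) sq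
  have hfl := locP_of_isPullback etLocal_flat hX hY (IsAlgSpace.yon_obj T) sq hflat
  obtain ⟨G, θ, hθ⟩ := OpenCharts.exists_scheme_of_open_charts hP (schemePt hP (pullback.snd f g) hfl)
  obtain ⟨r, hr⟩ := (yon S).map_surjective (θ ≫ pullback.snd f g)
  exact ⟨G, r, θ ≫ pullback.fst f g, by
    refine sq.of_iso (asIso θ).symm (Iso.refl _) (Iso.refl _) (Iso.refl _) ?_ ?_ ?_ ?_ <;> simp [hr]⟩

end Groth.L23.FlatMono
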