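import Groth.Agent.L23.AffineQuot
import Groth.Agent.L23.SchemeLocus
import Groth.Agent.L24.DimOne.Main

/-!
# Spaces with a finite locally free cover and affine neighbourhoods of fibres
-/

universe u

open CategoryTheory CategoryTheory.Limits AlgebraicGeometry Opposite AlgSp Groth.L23.SL

set_option backward.isDefEq.respectTransparency.types false
set_option linter.style.haveILetI false

namespace Groth.L23.AQ

variable {S : Scheme.{u}} {X : Sp S} {U R : Over S} {p : (yon S).obj U ⟶ X} {t s : R ⟶ U}

/-- An algebraic space with an affine finite locally free cover is an affine scheme. -/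
theorem exists_iso_of_flat_cover (hX : IsAlgSpace X) [IsAffine U.left] (hf : RepWith @IsFinite p)
    (hfl' : RepWith @Flat p) (hlp : RepWith @LocallyOfFinitePresentation p) (hs : RepWith @Surjective p) :
    ∃ (M : Over S) (θ : (yon S).obj M ⟶ X), IsAffine M.left ∧ IsIso θ := by
  obtain ⟨R, t, s, sq⟩ := exists_isPullback_of_representable (hX.representable_from_yon p) p
  let G := groupoid sq
  have : Flat t.left := repWith_prop hfl' sq.flip
  have : Flat s.left := repWith_prop hfl' sq
  have : LocallyOfFinitePresentation t.left := repWith_prop hlp sq.flip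
  have : LocallyOfFinitePresentation s.left := repWith_prop hlp sq
  have : IsFinite t.left := repWith_prop hf sq.flip
  have : IsFinite s.left := repWith_prop hf sq
  have : IsAffine G.U := ‹IsAffine U.left›
  have hta : IsAffineHom t.left := (show IsFinite t.left from ‹_›).toIsAffineHom
  have : IsAffine G.R := @isAffine_of_isAffineHom _ _ t.left hta ‹IsAffine U.left›
  have : IsFinite G.s := ‹IsFinite s.left›
  have : IsFinite G.t := ‹IsFinite t.left›
  have : Flat G.s := inferInstanceAs (Flat s.left)
  have : Flat G.t := inferInstanceAs (Flat t.left)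
  have : LocallyOfFinitePresentation G.s := inferInstanceAs (LocallyOfFinitePresentation s.left)
  have : LocallyOfFinitePresentation G.t := inferInstanceAs (LocallyOfFinitePresentation t.left)
  have : Mono G.j := ⟨fun a b e => arrow_ext sq
    (by simpa [G, groupoid, Grpd.GroupoidScheme.j, pullback.lift_fst] using e =≫ pullback.fst _ _)
    (by simpa [G, groupoid, Grpd.GroupoidScheme.j, pullback.lift_snd] using e =≫ pullback.snd _ _)⟩
  obtain ⟨hfin, hfl, hfp, hpb⟩ := Groth.Agent.L24.Quot.finite_flat_toQuot G
  obtain ⟨m, ⟨hm, -⟩, -⟩ := Groth.Agent.S7488.result S G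
  let q : U ⟶ Over.mk m := Over.homMk G.toQuot hm
  have sM : IsPullback t s q q := IsPullback.of_map (Over.forget S) (Over.OverMorphism.ext hpb.w) hpb
  have hqf : RepWith @Flat ((yon S).map q) := repWith_map (show Flat q.left from hfl)
  have hqp : RepWith @LocallyOfFinitePresentation ((yon S).map q) :=
    repWith_map (show LocallyOfFinitePresentation q.left from hfp)
  have hsur : Surjective q.left := by
    show Surjective (G.U.toSpecΓ ≫ _)
    have hint : (G.invariants.subtype).IsIntegral := by
      have : IsIntegralHom (G.U.toSpecΓ ≫ Spec.map (CommRingCat.ofHom G.invariants.subtype)) :=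
        inferInstanceAs (IsIntegralHom G.toQuot)
      rw [MorphismProperty.cancel_left_of_respectsIso (P := @IsIntegralHom.{u}), IsIntegralHom.SpecMap_iff] at this
      exact this
    have : Surjective (Spec.map (CommRingCat.ofHom G.invariants.subtype)) :=
      ⟨hint.comap_surjective Subtype.val_injective⟩
    infer_instance
  have hqs : RepWith @Surjective ((yon S).map q) := repWith_map hsur
  have : Sheaf.IsLocallySurjective ((yon S).map q) := isLocallySurjective_of_repWith _ hqf hqp hqs
  have : Epi ((yon S).map q) := inferInstance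
  have : Sheaf.IsLocallySurjective p := isLocallySurjective_of_repWith p hfl' hlp hs
  have : Epi p := inferInstance
  have sy := sM.map (yon S)
  obtain ⟨h₁⟩ := nonempty_isColimit_cofork _ sy
  obtain ⟨h₂⟩ := nonempty_isColimit_cofork p sq
  exact ⟨Over.mk m, (h₁.coconePointUniqueUpToIso h₂).hom,
    inferInstanceAs (IsAffine (Spec (CommRingCat.of G.invariants))), inferInstance⟩

/-- A point whose fibre in a finite locally free cover lies in an affine open is schematic. -/
theorem schemePt_of_finite_flat (hX : IsAlgSpace X) (hf : RepWith @IsFinite p) (hfl : RepWith @Flat p)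
    (hlp : RepWith @LocallyOfFinitePresentation p) (hs : RepWith @Surjective p) (u : U.left)
    (V : U.left.Opens) (hV : IsAffineOpen V)
    (huV : ∀ v, Points.ofPt p v = Points.ofPt p u → v ∈ V) : SL.SchemePt (Points.ofPt p u) := by
  obtain ⟨R, t, s, sq⟩ := exists_isPullback_of_representable (hX.representable_from_yon p) p
  let G := AQ.groupoid sq
  have : Flat s.left := repWith_prop hfl sq
  have : LocallyOfFinitePresentation s.left := repWith_prop hlp sq
  have : IsFinite G.s := show IsFinite s.left from repWith_prop hf sq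
  have : IsFinite G.t := show IsFinite t.left from repWith_prop hf sq.flip
  have : Flat G.s := inferInstanceAs (Flat s.left)
  have : LocallyOfFinitePresentation G.s := inferInstanceAs (LocallyOfFinitePresentation s.left)
  obtain ⟨W, hW, -, huW, hWinv⟩ := Groth.Agent.L24.Quot.exists_invariant_affine G u V ⊤ hV
    (fun y ⟨r, hr, hry⟩ => ⟨huV y (hry ▸ (((ofPt_eq_ofPt_iff sq (t.left r) u).2 ⟨r, rfl, hr⟩))), trivial⟩)
  have ho : IsOpenMap (Points.ofPt p) := by
    have h : RepWith @UniversallyOpen p := repWith_mono
      (fun φ ⟨(_ : Flat φ), (_ : LocallyOfFinitePresentation φ)⟩ => inferInstanceAs (UniversallyOpen φ))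
      (repWith_inf_iff.2 ⟨hfl, hlp⟩)
    intro A hA
    have h' := isOpenMap_map_of_universallyOpen h (Points.schemeEquiv U '' A)
      ((Points.schemeHomeo U).isOpenMap A hA)
    have : Points.ofPt p '' A = Points.map p '' (Points.schemeEquiv U '' A) := by
      rw [Set.image_image]
      exact Set.image_congr fun z _ => Points.ofPt_eq_map_ofScheme p z
    rw [this]; exact h'
  let O : TopologicalSpace.Opens (Points X) := ⟨_, ho _ W.2⟩
  have hpre : openPre O p = W := by
    refine SetLike.ext fun v => ⟨?_, fun hv => show Points.ofPt p v ∈ (O : Set (Points X)) from ⟨v, hv, rfl⟩⟩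
    rintro ⟨w, hw, e⟩
    obtain ⟨r, hr, hr'⟩ := (ofPt_eq_ofPt_iff sq w v).1 e
    have h1 : r ∈ G.t ⁻¹ᵁ W := show t.left r ∈ W from hr.symm ▸ hw
    rw [← hWinv] at h1
    exact hr' ▸ (show s.left r ∈ W from h1)
  obtain ⟨fst, sqO⟩ := isPullback_openSub O p
  have : IsAffine (Over.mk ((openPre O p).ι ≫ U.hom) : Over S).left :=
    show IsAffine (openPre O p : Scheme.{u}) by rw [hpre]; exact hW
  have hs : RepWith @Surjective fst := by
    refine repWith_surjective_of_map ((isAlgSpace_openSub O hX).representable_from_yon fst) fun y => ?_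
    obtain ⟨w, hw, e⟩ : Points.map (openSubι O) y ∈ (O : Set (Points X)) := (range_openSubι O).le ⟨y, rfl⟩
    have hw' : w ∈ openPre O p := ⟨w, hw, rfl⟩
    have := mono_of_repWith_openImmersion (repWith_openSubι O)
    refine ⟨Points.ofScheme (Over.mk ((openPre O p).ι ≫ U.hom)) ⟨w, hw'⟩, QFL.map_injective_of_mono (openSubι O) ?_⟩
    rw [← Points.ofPt_eq_map_ofScheme, map_ofPt_of_isPullback sqO ⟨w, hw'⟩]
    exact e
  obtain ⟨M, θ, -, hθ⟩ := AQ.exists_iso_of_flat_cover (isAlgSpace_openSub O hX)
    (repWith_of_isPullback sqO.flip hf) (repWith_of_isPullback sqO.flip hfl) (repWith_of_isPullback sqO.flip hlp) hs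
  have hu : Points.ofPt p u ∈ Set.range (Points.map (θ ≫ openSubι O)) := by
    obtain ⟨y, hy⟩ := (range_openSubι O).ge (show Points.ofPt p u ∈ (O : Set (Points X)) from ⟨u, huW, rfl⟩)
    exact ⟨Points.map (inv θ) y, by rw [← Points.map_comp, IsIso.inv_hom_id_assoc, hy]⟩
  obtain ⟨m, hm⟩ := hu
  obtain ⟨m', rfl⟩ := (Points.schemeEquiv M).surjective m
  exact ⟨M, θ ≫ openSubι O, m', repWith_comp
    (repWith_of_isIso (P := (@IsOpenImmersion : MorphismProperty Scheme.{u})) θ) (repWith_openSubι O),
    (Points.ofPt_eq_map_ofScheme _ _).trans hm⟩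



end Groth.L23.AQ
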