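import Groth.Agent.L23.InfEtaleRing
import Groth.Agent.L20.ThickeningDescent
import Mathlib.RingTheory.Unramified.LocalStructure
import Mathlib.RingTheory.Unramified.Finite

/-!
# Flat unramified morphisms are formally etale
-/

universe u

open CategoryTheory CategoryTheory.Limits AlgebraicGeometry AlgSp Opposite TensorProduct

set_option backward.isDefEq.respectTransparency.types false

namespace Groth.L23

theorem isIdempotentElem_ker_of_flat {P C : Type u} [CommRing P] [CommRing C] [Algebra P C]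
    [Module.Flat P C] (hs : Function.Surjective (algebraMap P C)) :
    IsIdempotentElem (RingHom.ker (algebraMap P C)) := by
  refine le_antisymm Ideal.mul_le_right fun x hx => ?_
  let ι := (RingHom.ker (algebraMap P C) : Submodule P P).subtype
  have hinj : Function.Injective (ι.lTensor C) :=
    Module.Flat.lTensor_preserves_injective_linearMap ι Subtype.val_injective
  have h0 : (1 : C) ⊗ₜ[P] (⟨x, hx⟩ : RingHom.ker (algebraMap P C)) = 0 := by
    apply hinj
    rw [map_zero, LinearMap.lTensor_tmul]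
    show (1 : C) ⊗ₜ[P] x = 0
    have e : x = x • (1 : P) := by simp
    rw [e, ← TensorProduct.smul_tmul, ← Algebra.algebraMap_eq_smul_one, RingHom.mem_ker.1 hx,
      TensorProduct.zero_tmul]
  have := Groth.L20.Thick.mem_smul_top_of_one_tmul_eq_zero hs h0
  have h2 := Submodule.mem_map_of_mem (f := (RingHom.ker (algebraMap P C) : Submodule P P).subtype) this
  rw [Submodule.map_smul'', Submodule.map_top, Submodule.range_subtype] at h2
  exact h2

theorem formallyEtale_of_hasStandardEtaleSurjectionOn {R A : Type u} [CommRing R] [CommRing A]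
    [Algebra R A] [Module.Flat R A] {f : A} (h : HasStandardEtaleSurjectionOn R f) :
    Algebra.FormallyEtale R (Localization.Away f) := by
  obtain ⟨P, φ, hφ⟩ := h
  let _ : Algebra P.Ring (Localization.Away f) := φ.toRingHom.toAlgebra
  have : IsScalarTower R P.Ring (Localization.Away f) := IsScalarTower.of_algebraMap_eq' φ.comp_algebraMap.symm
  have : Module.Flat R (Localization.Away f) := Module.Flat.trans R A (Localization.Away f)
  have : Module.Flat P.Ring (Localization.Away f) :=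
    Algebra.FormallyUnramified.flat_of_restrictScalars R P.Ring _
  have : Algebra.FormallyEtale P.Ring (Localization.Away f) :=
    (Algebra.FormallyEtale.iff_of_surjective hφ).2 (isIdempotentElem_ker_of_flat hφ)
  exact Algebra.FormallyEtale.comp R P.Ring (Localization.Away f)

theorem formallyEtaleHom_of_algebra {R A : Type u} [CommRing R] [CommRing A] [Algebra R A]
    [Algebra.FormallyEtale R A] :
    MoreMor.IsFormallyEtaleHom (Spec.map (CommRingCat.ofHom (algebraMap R A))) := by
  intro B _ I hI a b w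
  obtain ⟨α, rfl⟩ := Spec.map_surjective a
  obtain ⟨β, rfl⟩ := Spec.map_surjective b
  rw [← Spec.map_comp, ← Spec.map_comp, Spec.map_inj] at w
  algebraize [β.hom]
  let q : A →ₐ[R] B ⧸ I := ⟨α.hom, fun r => congr($(w.symm) r)⟩
  obtain ⟨g, hg⟩ := (Algebra.FormallyEtale.iff_comp_bijective.1 ‹Algebra.FormallyEtale R A› I hI).2 q
  refine ⟨Spec.map (CommRingCat.ofHom g.toRingHom), ⟨?_, ?_⟩, ?_⟩
  · rw [← Spec.map_comp]
    congr 1
    ext x
    exact congr($hg x)
  · rw [← Spec.map_comp]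
    congr 1
    ext r
    exact g.commutes r
  · rintro l ⟨h₁, h₂⟩
    obtain ⟨ψ, rfl⟩ := Spec.map_surjective l
    rw [← Spec.map_comp, Spec.map_inj] at h₁ h₂
    let g' : A →ₐ[R] B := ⟨ψ.hom, fun r => congr($h₂ r)⟩
    have : g' = g := (Algebra.FormallyEtale.iff_comp_bijective.1 ‹Algebra.FormallyEtale R A› I hI).1
      (AlgHom.ext fun x => (congr($h₁ x) : Ideal.Quotient.mk I (ψ.hom x) = α.hom x).trans congr($hg x).symm)
    congr 1
    ext x
    exact congr($this x)

/-- Being formally etale can be checked on an open cover of the source. -/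
theorem formallyEtaleHom_of_local {U V : Scheme.{u}} (h : U ⟶ V) [FormallyUnramified h]
    (hloc : ∀ u : U, ∃ O : U.Opens, u ∈ O ∧ MoreMor.IsFormallyEtaleHom (O.ι ≫ h)) :
    MoreMor.IsFormallyEtaleHom h := by
  let U₁ : Over V := Over.mk h
  let h₁ : U₁ ⟶ Over.mk (𝟙 V) := Over.homMk h (by simp [U₁])
  refine formallyEtaleHom_of_mor h₁ ?_
  have hu : IsFormallyUnramifiedMor ((yon V).map h₁) :=
    formallyUnramified_of_chart (repWith_of_isIso (P := (@Etale : MorphismProperty Scheme.{u})) (𝟙 _))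
      (repWith_of_isIso (P := (@Surjective : MorphismProperty Scheme.{u})) (𝟙 _))
      (repWith_of_isIso (P := (@Etale : MorphismProperty Scheme.{u})) (𝟙 _))
      (h := h₁) (by simp) ‹_›
  refine (formallyEtale_iff _).2 ⟨fun sq => ?_, hu⟩
  obtain ⟨a, ha⟩ := (yon V).map_surjective sq.top
  obtain ⟨b, hb⟩ := (yon V).map_surjective sq.bot
  refine exists_lift_of_local hu sq.j sq.firstOrder sq.top sq.bot fun x => ?_
  obtain ⟨_, _⟩ := sq.firstOrder.1
  obtain ⟨t, rfl⟩ := sq.j.left.surjective x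
  obtain ⟨O, hO, hfe⟩ := hloc (a.left t)
  have hh : IsHomeomorph sq.j.left :=
    isHomeomorph_iff_isEmbedding_surjective.2 ⟨sq.j.left.isClosedEmbedding.isEmbedding, sq.j.left.surjective⟩
  have hopen : IsOpen (sq.j.left '' (a.left ⁻¹ᵁ O : Set sq.ptT.left)) := hh.isOpenMap _ (a.left ⁻¹ᵁ O).2
  obtain ⟨_, ⟨W₀, hW, rfl⟩, htW, hWle⟩ :=
    sq.ptT'.left.isBasis_affineOpens.exists_subset_of_mem_open (show sq.j.left t ∈ sq.j.left '' (a.left ⁻¹ᵁ O : Set sq.ptT.left) from ⟨t, hO, rfl⟩) hopen
  let W : sq.ptT'.left.Opens := W₀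
  let T₁ : Over V := Over.mk (W.ι ≫ sq.ptT'.hom)
  let o : T₁ ⟶ sq.ptT' := Over.homMk W.ι rfl
  have : IsAffine T₁.left := hW
  have sq₀ : IsPullback (pullback.fst o sq.j) (pullback.snd o sq.j) o sq.j := IsPullback.of_hasPullback _ _
  have hrange : Set.range ((pullback.snd o sq.j).left ≫ a.left) ⊆ Set.range O.ι := by
    rintro _ ⟨z, rfl⟩
    rw [Scheme.Opens.range_ι]
    obtain ⟨z', hz', e⟩ := hWle (show sq.j.left ((pullback.snd o sq.j).left z) ∈ W by
      rw [← Scheme.Hom.comp_apply, ← Over.comp_left, ← sq₀.w]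
      exact ((pullback.fst o sq.j).left z).2)
    rw [hh.injective e] at hz'
    exact hz'
  obtain ⟨l, hl₁, hl₂⟩ := exists_lift_of_formallySmoothHom (f := O.ι ≫ h) (T' := T₁.left)
    (j := (pullback.fst o sq.j).left) (fun A _ I hI x y z => (hfe A I hI x y z).exists)
    (isFirstOrder_of_isPullback sq.firstOrder (sq₀.map (Over.forget V)))
    (IsOpenImmersion.lift O.ι _ hrange) (W.ι ≫ b.left) (by
      rw [IsOpenImmersion.lift_fac_assoc]
      simp only [Category.assoc]
      have e1 : a ≫ h₁ = sq.j ≫ b := (yon V).map_injective (by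
        rw [(yon V).map_comp, (yon V).map_comp, ha, hb]; exact sq.comm)
      show (pullback.fst o sq.j).left ≫ o.left ≫ b.left = (pullback.snd o sq.j).left ≫ a.left ≫ h₁.left
      rw [← Over.comp_left_assoc, sq₀.w, ← Over.comp_left, ← Over.comp_left, e1]
      simp)
  let l' : T₁ ⟶ U₁ := Over.homMk (l ≫ O.ι) (by
    show (l ≫ O.ι) ≫ h = W.ι ≫ sq.ptT'.hom
    rw [Category.assoc, hl₂, show b.left = sq.ptT'.hom by simpa using Over.w b])
  refine ⟨T₁, o, (yon V).map l', inferInstanceAs (Etale W.ι), ⟨⟨_, htW⟩, rfl⟩, ?_, ?_⟩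
  · rw [← hb, ← Functor.map_comp, ← Functor.map_comp]
    exact congrArg _ (Over.OverMorphism.ext (by
      show (l ≫ O.ι) ≫ h = W.ι ≫ b.left
      rw [Category.assoc]; exact hl₂))
  · rw [← ha, ← Functor.map_comp, ← Functor.map_comp]
    exact congrArg _ (Over.OverMorphism.ext (by
      show (pullback.fst o sq.j).left ≫ l ≫ O.ι = (pullback.snd o sq.j).left ≫ a.left
      rw [reassoc_of% hl₁, IsOpenImmersion.lift_fac]))

theorem formallyEtaleHom_of_flat_unramified {U V : Scheme.{u}} (h : U ⟶ V) [LocallyOfFiniteType h]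
    [FormallyUnramified h] [Flat h] : MoreMor.IsFormallyEtaleHom h := by
  refine formallyEtaleHom_of_local h fun u => ?_
  obtain ⟨_, ⟨V₁, hV, rfl⟩, huV, -⟩ :=
    V.isBasis_affineOpens.exists_subset_of_mem_open (Set.mem_univ (h u)) isOpen_univ
  obtain ⟨_, ⟨U₁, hU, rfl⟩, hu, hle⟩ :=
    U.isBasis_affineOpens.exists_subset_of_mem_open (a := u) (u := ↑(h ⁻¹ᵁ V₁)) huV (h ⁻¹ᵁ V₁).2
  have e : U₁ ≤ h ⁻¹ᵁ V₁ := hle
  algebraize [(h.appLE V₁ U₁ e).hom]
  have : Algebra.FiniteType Γ(V, V₁) Γ(U, U₁) :=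
    HasRingHomProperty.appLE @LocallyOfFiniteType h ‹_› ⟨V₁, hV⟩ ⟨U₁, hU⟩ e
  have : Module.Flat Γ(V, V₁) Γ(U, U₁) :=
    HasRingHomProperty.appLE @Flat h ‹_› ⟨V₁, hV⟩ ⟨U₁, hU⟩ e
  have : Algebra.FormallyUnramified Γ(V, V₁) Γ(U, U₁) :=
    h.formallyUnramified_appLE hV hU e
  let q := (show IsAffineOpen U₁ from hU).primeIdealOf ⟨u, hu⟩
  obtain ⟨f, hf, hstd⟩ := Algebra.IsUnramifiedAt.exists_hasStandardEtaleSurjectionOn (R := Γ(V, V₁)) q.asIdeal
  have hfe := formallyEtale_of_hasStandardEtaleSurjectionOn hstd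
  let ρ : Spec (CommRingCat.of (Localization.Away f)) ⟶ U :=
    Spec.map (CommRingCat.ofHom (algebraMap Γ(U, U₁) (Localization.Away f))) ≫ IsAffineOpen.fromSpec hU
  have : IsOpenImmersion (Spec.map (CommRingCat.ofHom (algebraMap Γ(U, U₁) (Localization.Away f)))) :=
    IsOpenImmersion.of_isLocalization f
  have : IsOpenImmersion ρ := inferInstanceAs (IsOpenImmersion (_ ≫ _))
  have hρ : MoreMor.IsFormallyEtaleHom (ρ ≫ h) := by
    show MoreMor.IsFormallyEtaleHom ((_ ≫ _) ≫ h)
    rw [Category.assoc, ← (show IsAffineOpen V₁ from hV).SpecMap_appLE_fromSpec h hU e, ← Spec.map_comp_assoc,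
      show h.appLE V₁ U₁ e ≫ CommRingCat.ofHom (algebraMap Γ(U, U₁) (Localization.Away f)) =
        CommRingCat.ofHom (algebraMap Γ(V, V₁) (Localization.Away f)) from
      CommRingCat.hom_ext (IsScalarTower.algebraMap_eq Γ(V, V₁) Γ(U, U₁) (Localization.Away f)).symm]
    exact formallyEtaleHom_comp formallyEtaleHom_of_algebra (formallyEtaleHom_of_etale _)
  refine ⟨ρ.opensRange, ?_, ?_⟩
  · have hq : q ∈ Set.range (PrimeSpectrum.comap (algebraMap Γ(U, U₁) (Localization.Away f))) := by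
      rw [PrimeSpectrum.localization_away_comap_range (Localization.Away f) f]; exact hf
    obtain ⟨z, hz⟩ := hq
    refine ⟨z, ?_⟩
    have := (show IsAffineOpen U₁ from hU).fromSpec_primeIdealOf ⟨u, hu⟩
    exact (congrArg (IsAffineOpen.fromSpec hU) hz).trans this
  · rw [← Scheme.Hom.isoOpensRange_inv_comp ρ, Category.assoc]
    exact formallyEtaleHom_comp (formallyEtaleHom_of_etale _) hρ

end Groth.L23
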