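import Groth.Agent.L23.FpqcQuasiAffine
import Mathlib.CategoryTheory.Sites.LeftExact
import Mathlib.CategoryTheory.Extensive

/-!
# A criterion for fpqc locality on the base
-/

universe u

open CategoryTheory CategoryTheory.Limits AlgebraicGeometry AlgSp Opposite

set_option backward.isDefEq.respectTransparency.types false

namespace Groth.L23

variable {S : Scheme.{u}}

/-- A disjoint open covering of a scheme is a coproduct of sheaves. -/
theorem nonempty_isColimit_yon_cofan {J : Type u} (A : J → Over S) {V : Over S} (c : ∀ j, A j ⟶ V)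
    [∀ j, IsOpenImmersion (c j).left] (hcov : ∀ t : ↥V.left, ∃ j, t ∈ Set.range (c j).left)
    (hdisj : ∀ i j (x : ↥(A i).left) (y : ↥(A j).left), (c i).left x = (c j).left y → i = j) :
    Nonempty (IsColimit (Cofan.mk ((yon S).obj V) fun j => (yon S).map (c j))) := by
  have key : ∀ {H : Sp S} (x : ∀ j, (yon S).obj (A j) ⟶ H),
      ∃! l : (yon S).obj V ⟶ H, ∀ j, (yon S).map (c j) ≫ l = x j := fun x =>
    existsUnique_glue c hcov x fun Z i j a b w => by
      by_cases hZ : IsEmpty Z.left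
      · exact hom_ext_of_isEmpty _ _
      · obtain ⟨z⟩ := not_isEmpty_iff.1 hZ
        obtain rfl := hdisj i j (a.left z) (b.left z) (by
          rw [← Scheme.Hom.comp_apply, ← Scheme.Hom.comp_apply, ← Over.comp_left, ← Over.comp_left, w])
        have : Mono ((Over.forget S).map (c i)) := inferInstanceAs (Mono (c i).left)
        have : Mono (c i) := (Over.forget S).mono_of_mono_map this
        rw [(cancel_mono (c i)).1 w]
  exact ⟨mkCofanColimit _ (fun s => (key fun j => s.inj j).exists.choose)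
    (fun s j => (key fun j => s.inj j).exists.choose_spec j)
    fun s m hm => (key fun j => s.inj j).unique hm (key fun j => s.inj j).exists.choose_spec⟩

/-- A criterion for a property to be fpqc local on the base. -/
theorem isLocalOnBase_fpqc_of_criterion (P : MorphismProperty (Sp S))
    (h1 : ∀ ⦃ι : Type u⦄ [Finite ι] (Xi Yi : ι → Sp S) (fi : ∀ i, Xi i ⟶ Yi i)
      (cX : Cofan Xi) (cY : Cofan Yi) (_ : IsColimit cX) (_ : IsColimit cY) (m : cX.pt ⟶ cY.pt),
      (∀ i, IsAlgSpace (Xi i)) → (∀ i, IsAlgSpace (Yi i)) →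
      IsAlgSpace cX.pt → IsAlgSpace cY.pt →
      (∀ i, cX.inj i ≫ m = fi i ≫ cY.inj i) → (∀ i, P (fi i)) → P m)
    (h2 : ∀ ⦃X Y : Sp S⦄, IsAlgSpace X → IsAlgSpace Y → ∀ (f : X ⟶ Y),
      P f ↔ ∀ (Z : Over S), IsAffine Z.left → ∀ (g : (yon S).obj Z ⟶ Y) (W : Sp S)
        (fst : W ⟶ X) (snd : W ⟶ (yon S).obj Z), IsAlgSpace W → IsPullback fst snd f g → P snd)
    (h3 : ∀ ⦃Z Z' : Over S⦄ (c : Z' ⟶ Z), IsAffine Z.left → IsAffine Z'.left → Surjective c.left → Flat c.left →
      ∀ ⦃X X' : Sp S⦄ (f : X ⟶ (yon S).obj Z) (fst : X' ⟶ X) (f' : X' ⟶ (yon S).obj Z'),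
        IsAlgSpace X → IsAlgSpace X' → IsPullback fst f' f ((yon S).map c) → P f' → P f) :
    IsLocalOnBase (IsFpqcCover (S := S)) P := by
  intro ι Y Yi g hY hYi hcov X f hX Xi p q hXi sq
  refine ⟨fun h i => (h2 (hXi i) (hYi i) (p i)).2 fun Z hZ m W fst snd hW sW =>
    (h2 hX hY f).1 h Z hZ (m ≫ g i) W (fst ≫ q i) snd hW (sW.paste_horiz (sq i)),
    fun h => (h2 hX hY f).2 fun Z hZ k W fst snd hW sW => ?_⟩
  have : IsAffine Z.left := hZ
  obtain ⟨J, hJ, A, e, i, l, hA, he, hl, hs⟩ := exists_fpqc_affine_family hcov k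
  let V : Over S := Over.mk (Sigma.desc fun j => (A j).hom)
  let c : ∀ j, A j ⟶ V := fun j => Over.homMk (Sigma.ι (fun j => (A j).left) j) (Sigma.ι_desc _ _)
  have : ∀ j, IsOpenImmersion (c j).left :=
    fun j => inferInstanceAs (IsOpenImmersion ((sigmaOpenCover fun j => (A j).left).f j))
  have hcov' : ∀ t : ↥V.left, ∃ j, t ∈ Set.range (c j).left :=
    fun t => (sigmaOpenCover fun j => (A j).left).exists_eq t
  let v : V ⟶ Z := Over.homMk (Sigma.desc fun j => (e j).left) (by
    apply Sigma.hom_ext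
    intro j
    show Sigma.ι _ j ≫ _ ≫ Z.hom = Sigma.ι _ j ≫ Sigma.desc _
    rw [Sigma.ι_desc, ← Category.assoc, Sigma.ι_desc]
    exact Over.w (e j))
  have hcv : ∀ j, c j ≫ v = e j := fun j => Over.OverMorphism.ext (Sigma.ι_desc _ _)
  have hV : IsAffine V.left := by
    have := hA
    exact inferInstanceAs (IsAffine (∐ fun j => (A j).left))
  have hvs : Surjective v.left := ⟨fun z => by
    obtain ⟨j, a, rfl⟩ := hs z
    exact ⟨(c j).left a, by rw [← Scheme.Hom.comp_apply, ← Over.comp_left, hcv]⟩⟩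
  have hvf : Flat v.left := IsZariskiLocalAtSource.of_openCover (P := @Flat)
    (sigmaOpenCover fun j => (A j).left) fun j => by
      show Flat ((c j).left ≫ v.left)
      rw [← Over.comp_left, hcv]; exact he j
  have sqV := IsPullback.of_hasPullback snd ((yon S).map v)
  have hVW : IsAlgSpace (pullback snd ((yon S).map v)) :=
    Groth.L24.St.isAlgSpace_pullback hW (IsAlgSpace.yon_obj V) (IsAlgSpace.yon_obj Z) _ _
  refine h3 v hZ hV hvs hvf snd _ _ hW hVW sqV ?_
  obtain ⟨hcy⟩ := nonempty_isColimit_yon_cofan A c hcov'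
    (fun a b x y e => congrArg Sigma.fst ((sigmaι_eq_iff (fun j => (A j).left) _ _ _ _).1 e))
  let m := pullback.snd snd ((yon S).map v)
  let F : J → Sp S := fun j => pullback m ((yon S).map (c j))
  obtain ⟨hcx⟩ : Nonempty (IsColimit (Cofan.mk (f := F) (pullback snd ((yon S).map v))
      fun j => pullback.fst m ((yon S).map (c j)))) := by
    refine (FinitaryPreExtensive.isUniversal_finiteCoproducts hcy).nonempty_isColimit_of_pullbackCone_left
      _ (𝟙 _) _ _ (fun j => ?_) (PullbackCone.mk (𝟙 _) m (by simp)) (IsPullback.id_horiz m).isLimit _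
      (Iso.refl _) (by simp) (fun j => ?_) (fun j => ?_)
    · exact pullback.isLimit _ _
    · show pullback.fst m ((yon S).map (c j)) ≫ 𝟙 _ ≫ 𝟙 _ = pullback.fst m ((yon S).map (c j))
      exact (congrArg _ (Category.id_comp _)).trans (Category.comp_id _)
    · show pullback.fst m ((yon S).map (c j)) ≫ 𝟙 _ ≫ m = _
      exact (congrArg _ (Category.id_comp _)).trans pullback.condition
  have hF : ∀ j, IsAlgSpace (F j) := fun j =>
    Groth.L24.St.isAlgSpace_pullback hVW (IsAlgSpace.yon_obj (A j)) (IsAlgSpace.yon_obj V) _ _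
  refine h1 F (fun j => (yon S).obj (A j)) (fun j => pullback.snd m ((yon S).map (c j)))
    (Cofan.mk _ fun j => pullback.fst m ((yon S).map (c j))) (Cofan.mk _ fun j => (yon S).map (c j))
    hcx hcy m hF (fun j => IsAlgSpace.yon_obj (A j)) hVW (IsAlgSpace.yon_obj V)
    (fun j => pullback.condition) fun j => ?_
  have s₁ := ((IsPullback.of_hasPullback m ((yon S).map (c j))).paste_horiz sqV).paste_horiz sW
  rw [← Functor.map_comp, hcv, ← hl] at s₁
  refine (h2 (hXi (i j)) (hYi (i j)) (p (i j))).1 (h (i j)) (A j) (hA j) (l j) (F j)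
    ((sq (i j)).lift ((pullback.fst m ((yon S).map (c j)) ≫ pullback.fst snd _) ≫ fst)
      (pullback.snd m ((yon S).map (c j)) ≫ l j) (by rw [Category.assoc (pullback.snd _ _)]; exact s₁.w))
    _ (hF j) (IsPullback.of_right ?_ ((sq (i j)).lift_snd _ _ _) (sq (i j)))
  rw [(sq (i j)).lift_fst]
  exact s₁

end Groth.L23
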