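import Groth.Agent.L23.SchDense
import Groth.Prelude.Def_AlgSpOX2
import Mathlib.Algebra.Category.Ring.Colimits
import Mathlib.Algebra.Category.Ring.Limits
import Mathlib.CategoryTheory.Limits.FunctorCategory.EpiMono
import Mathlib.CategoryTheory.Sites.Limits
import Mathlib.CategoryTheory.ConcreteCategory.EpiMono

/-!
# Scheme theoretic density and the comparison map of structure sheaves
-/

universe u

open CategoryTheory CategoryTheory.Limits AlgebraicGeometry Opposite AlgSp TopologicalSpace

set_option autoImplicit false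
set_option linter.style.haveILetI false
set_option backward.isDefEq.respectTransparency.types false

namespace Groth.L23

variable {S : Scheme.{u}} {X G : Sp S}

theorem ringCat_mono_iff {A B : RingCat.{u + 1}} (f : A ⟶ B) : Mono f ↔ Function.Injective f := by
  haveI : PreservesLimitsOfSize.{0, 0} (forget RingCat.{u + 1}) := preservesLimitsOfSize_shrink.{0, u + 1, 0, u + 1} _
  exact ConcreteCategory.mono_iff_injective_of_preservesPullback f

theorem mono_bcRingHom_iff {j : G ⟶ X} (hj : Representable j) :
    Mono (bcRingHom hj) ↔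
      ∀ E : EtOver X, Function.Injective (hj.snd E.obj.hom).left.appTop.hom := by
  constructor
  · intro h E
    have h1 : Mono ((sheafToPresheaf (etTop X) RingCat.{u + 1}).map (bcRingHom hj)) := inferInstance
    have h2 := (NatTrans.mono_iff_mono_app _).1 h1 (op E)
    rw [ringCat_mono_iff] at h2
    intro a b e
    exact congrArg ULift.down (@h2 (ULift.up a) (ULift.up b) (ULift.ext _ _ e))
  · intro h
    refine (sheafToPresheaf (etTop X) RingCat.{u + 1}).mono_of_mono_map ((NatTrans.mono_iff_mono_app _).2 ?_)
    rintro ⟨E⟩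
    rw [ringCat_mono_iff]
    intro a b e
    exact ULift.ext _ _ (h E (congrArg ULift.down e))

theorem res_injective_iff_appTop {V P : Scheme.{u}} (m : P ⟶ V) [IsOpenImmersion m] (W : V.Opens)
    (hW : Set.range m = (W : Set V)) :
    Function.Injective m.appTop.hom ↔
      Function.Injective (V.presheaf.map (homOfLE (inf_le_left : ⊤ ⊓ W ≤ (⊤ : V.Opens))).op).hom := by
  let e := IsOpenImmersion.isoOfRangeEq m W.ι (hW.trans W.range_ι.symm)
  have he : e.hom ≫ W.ι = m := IsOpenImmersion.isoOfRangeEq_hom_fac _ _ _
  rw [← he, Scheme.Hom.comp_appTop]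
  haveI : IsIso e.hom.appTop := inferInstanceAs (IsIso (e.hom.app ⊤))
  have hbij := ConcreteCategory.bijective_of_isIso e.hom.appTop
  have hι : W.ι ''ᵁ (W.ι ⁻¹ᵁ ⊤) = ⊤ ⊓ W := by
    rw [Scheme.Hom.image_preimage_eq_opensRange_inf, Scheme.Opens.opensRange_ι, inf_comm]
  have hbij' := ConcreteCategory.bijective_of_isIso (V.presheaf.map (eqToHom hι).op)
  constructor
  · intro h a b hab
    apply h
    change e.hom.appTop.hom (W.ι.appTop.hom a) = e.hom.appTop.hom (W.ι.appTop.hom b)
    refine congrArg _ ?_
    have := congrArg (V.presheaf.map (eqToHom hι).op) hab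
    erw [← ConcreteCategory.comp_apply, ← ConcreteCategory.comp_apply, ← Functor.map_comp] at this
    exact this
  · intro h a b hab
    apply h
    apply hbij'.1
    erw [← ConcreteCategory.comp_apply, ← ConcreteCategory.comp_apply, ← Functor.map_comp]
    exact hbij.1 hab

theorem range_snd_eq_preOpen {j : G ⟶ X} (hj : RepWith @IsOpenImmersion j) {V : Over S} (φ : (yon S).obj V ⟶ X) :
    Set.range (hj.1.snd φ).left = (preOpen hj φ : Set V.left) := by
  show _ = Points.ofPt φ ⁻¹' Set.range (Points.map j)
  rw [← Set.image_univ (f := Points.map j), preimage_image_map (hj.1.isPullback φ), Set.preimage_univ,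
    Set.image_univ]

theorem isSchDense_iff_mono_bcRingHom {j : G ⟶ X} (hX : IsAlgSpace X) (hj : RepWith @IsOpenImmersion j) :
    IsSchDense j ↔ Mono (bcRingHom hj.1) := by
  rw [mono_bcRingHom_iff]
  constructor
  · intro h E
    haveI : IsOpenImmersion (hj.1.snd E.obj.hom).left := repWith_snd hj _
    rw [res_injective_iff_appTop _ _ (range_snd_eq_preOpen hj E.obj.hom)]
    exact isSchematicallyDense_preOpen h E.property ⊤
  · intro h
    obtain ⟨V, φ, hφ, hs⟩ := hX.atlas
    refine isSchDense_of_preOpen hj hφ hs fun V' => ?_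
    let ι' : Over.mk (V'.ι ≫ V.hom) ⟶ V := Over.homMk V'.ι rfl
    let φ' := (yon S).map ι' ≫ φ
    have hφ' : RepWith @Etale φ' := repWith_comp (repWith_map (show Etale ι'.left from inferInstanceAs (Etale V'.ι))) hφ
    haveI : IsOpenImmersion (hj.1.snd φ').left := repWith_snd hj _
    have hE := h (EtOver.mk φ' hφ')
    replace hE := (res_injective_iff_appTop _ _ (range_snd_eq_preOpen hj φ')).1 hE
    have hle : V'.ι ''ᵁ (⊤ ⊓ preOpen hj φ') = V' ⊓ preOpen hj φ := by
      ext v
      constructor
      · rintro ⟨w, ⟨-, hw⟩, rfl⟩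
        refine ⟨w.2, ?_⟩
        change Points.ofPt φ (ι'.left w) ∈ Set.range (Points.map j)
        rw [← ofPt_comp]
        exact hw
      · rintro ⟨hv, hw⟩
        refine ⟨⟨v, hv⟩, ⟨trivial, ?_⟩, rfl⟩
        show Points.ofPt φ' ⟨v, hv⟩ ∈ Set.range (Points.map j)
        rw [ofPt_comp]
        exact hw
    intro a b hab
    have htop : V'.ι ''ᵁ ⊤ = V' := by simp
    apply (ConcreteCategory.bijective_of_isIso (V.left.presheaf.map (eqToHom htop).op)).1
    apply hE
    show V.left.presheaf.map _ (V.left.presheaf.map _ a) = V.left.presheaf.map _ (V.left.presheaf.map _ b)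
    have := congrArg (V.left.presheaf.map (eqToHom hle).op) hab
    erw [← ConcreteCategory.comp_apply, ← ConcreteCategory.comp_apply, ← Functor.map_comp] at this ⊢
    exact this

end Groth.L23
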