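import Groth.Agent.L23.FpqcTop
import Groth.Agent.L23.FppfImmersion
import Groth.Agent.L23.Refined
import Groth.Agent.L23.SchDenseMono
import Groth.Prelude.Def_AlgSpMor5
import Mathlib.RingTheory.Flat.Localization

/-!
# The fpqc covering attached to a modification which is flat along its centre
-/

universe u

open CategoryTheory CategoryTheory.Limits AlgebraicGeometry AlgSp

set_option backward.isDefEq.respectTransparency.types false
set_option linter.style.haveILetI false

namespace Groth.L23.FpqcGlue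

/-- The complement of a closed subscheme of finite presentation of an affine scheme is quasi-compact. -/
theorem isCompact_compl_range {W Z : Scheme.{u}} [IsAffine W] (i : Z ⟶ W) [IsClosedImmersion i]
    [LocallyOfFinitePresentation i] : IsCompact (Set.range i)ᶜ := by
  let ψ : Z ⟶ Spec Γ(W, ⊤) := i ≫ W.isoSpec.hom
  have hci : IsClosedImmersion ψ := inferInstance
  obtain ⟨I, e, he⟩ := IsClosedImmersion.Spec_iff.1 hci
  have hlfp : LocallyOfFinitePresentation ψ := inferInstance
  rw [he, MorphismProperty.cancel_left_of_respectsIso @LocallyOfFinitePresentation,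
    HasRingHomProperty.Spec_iff (P := @LocallyOfFinitePresentation)] at hlfp
  have hker : (RingHom.ker (Ideal.Quotient.mk I)).FG := by
    have : Algebra.FinitePresentation Γ(W, ⊤) (Γ(W, ⊤) ⧸ I) := by
      rw [← RingHom.finitePresentation_algebraMap]; exact hlfp
    exact Algebra.FinitePresentation.ker_fG_of_surjective (Ideal.Quotient.mkₐ Γ(W, ⊤) I)
      Ideal.Quotient.mk_surjective
  rw [Ideal.mk_ker] at hker
  have hr : Set.range ψ = PrimeSpectrum.zeroLocus (I : Set Γ(W, ⊤)) := by
    rw [he, show ⇑(e.hom ≫ Spec.map (CommRingCat.ofHom (Ideal.Quotient.mk I))) =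
      ⇑(Spec.map (CommRingCat.ofHom (Ideal.Quotient.mk I))) ∘ ⇑e.hom from rfl,
      Set.range_comp, Set.range_eq_univ.2 (ConcreteCategory.bijective_of_isIso e.hom.base).2, Set.image_univ]
    exact (range_comap_of_surjective _ (Ideal.Quotient.mk I) Ideal.Quotient.mk_surjective).trans (by rw [Ideal.mk_ker])
  have hc : IsCompact (Set.range ψ)ᶜ := by
    rw [hr]
    exact (PrimeSpectrum.isCompact_isOpen_iff_ideal.2 ⟨_, hker, rfl⟩).1
  have hrange : (Set.range i)ᶜ = W.isoSpec.inv '' (Set.range ψ)ᶜ := by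
    rw [Set.image_compl_eq (f := W.isoSpec.inv) (ConcreteCategory.bijective_of_isIso W.isoSpec.inv.base),
      ← Set.range_comp]
    congr 1
    rw [show ⇑W.isoSpec.inv ∘ ⇑ψ = ⇑(ψ ≫ W.isoSpec.inv) from rfl, show ψ ≫ W.isoSpec.inv = i by simp [ψ]]
  rw [hrange]
  exact hc.image W.isoSpec.inv.continuous

/-- Localize at a closed set along which a map is flat. -/
theorem exists_flat_localization {A B : CommRingCat.{u}} (φ : A ⟶ B) (C : Set ↥(Spec B)) (hC : IsClosed C)
    (h : ∀ c ∈ C, ((Spec.map φ).stalkMap c).hom.Flat) :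
    ∃ (B' : CommRingCat.{u}) (ψ : B ⟶ B'), Flat (Spec.map (φ ≫ ψ)) ∧ C ⊆ Set.range (Spec.map ψ) ∧
      Flat (Spec.map ψ) := by
  obtain ⟨J, hJ⟩ := (PrimeSpectrum.isClosed_iff_zeroLocus_ideal C).1 hC
  let M : Submonoid B := (⊥ : Submonoid (B ⧸ J)).comap (Ideal.Quotient.mk J).toMonoidHom
  have hM : ∀ x : B, x ∈ M ↔ Ideal.Quotient.mk J x = 1 := fun x => Submonoid.mem_bot
  let L := Localization M
  refine ⟨CommRingCat.of L, CommRingCat.ofHom (algebraMap B L), ?_, ?_, ?_⟩
  · rw [HasRingHomProperty.Spec_iff (P := @Flat)]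
    letI : Algebra A B := φ.hom.toAlgebra
    show (algebraMap B L).comp (algebraMap A B) |>.Flat
    rw [← IsScalarTower.algebraMap_eq, RingHom.flat_algebraMap_iff]
    refine Module.flat_of_isLocalized_maximal (S := L) L (fun P _ => Localization.AtPrime P)
      (fun P _ => Algebra.linearMap L (Localization.AtPrime P)) fun P hP => ?_
    let m := P.comap (algebraMap B L)
    have hJm : J ≤ m := by
      intro j hj
      by_contra hjm
      obtain ⟨y, p, hp, hy⟩ := hP.exists_inv hjm
      obtain ⟨b, s, rfl⟩ := IsLocalization.exists_mk'_eq M y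
      have hu : (s : B) - b * j ∈ M := by
        rw [hM, map_sub, map_mul, (hM s).1 s.2, (Ideal.Quotient.eq_zero_iff_mem.2 hj), mul_zero, sub_zero]
      have e : p = IsLocalization.mk' L ((s : B) - b * j) s := by
        rw [eq_sub_of_add_eq' hy, IsLocalization.eq_mk'_iff_mul_eq, sub_mul, one_mul, map_sub, map_mul,
          mul_right_comm, IsLocalization.mk'_spec]
      refine hP.ne_top (P.eq_top_of_isUnit_mem hp ?_)
      rw [e, IsLocalization.mk'_eq_mul_mk'_one]
      exact (IsLocalization.map_units L ⟨_, hu⟩).mul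
        ((IsUnit.of_mul_eq_one _ (IsLocalization.mk'_spec L (1 : B) s |>.trans (map_one _))))
    have hc : (⟨m, inferInstance⟩ : PrimeSpectrum B) ∈ C := by
      rw [hJ]; exact hJm
    have hfl := (RingHom.Flat.respectsIso.arrow_mk_iso_iff (Scheme.arrowStalkMapSpecIso φ _)).1 (h _ hc)
    have : Module.Flat A (Localization.AtPrime m) := by
      rw [← RingHom.flat_algebraMap_iff]
      let p₀ := m.comap (algebraMap A B)
      have h1 : RingHom.Flat (algebraMap A (Localization.AtPrime p₀)) :=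
        RingHom.flat_algebraMap_iff.2 inferInstance
      have h2 : ((Localization.localRingHom p₀ m φ.hom rfl).comp
          (algebraMap A (Localization.AtPrime p₀))).Flat := h1.comp hfl
      rwa [show (Localization.localRingHom p₀ m φ.hom rfl).comp (algebraMap A (Localization.AtPrime p₀)) =
        algebraMap A (Localization.AtPrime m) from RingHom.ext fun a => by
          rw [RingHom.comp_apply, Localization.localRingHom_to_map,
            IsScalarTower.algebraMap_apply A B (Localization.AtPrime m)]; rfl] at h2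
    exact Module.Flat.of_linearEquiv
      ((IsLocalization.localizationLocalizationAtPrimeIsoLocalization M P).restrictScalars A).toLinearEquiv.symm
  · intro c hc
    show c ∈ Set.range (PrimeSpectrum.comap (algebraMap B L))
    rw [PrimeSpectrum.localization_comap_range L M]
    refine Set.disjoint_left.2 fun x hx hxc => ?_
    rw [hJ] at hc
    refine c.isPrime.ne_top ((Ideal.eq_top_iff_one _).2 ?_)
    have h1 : x - 1 ∈ c.asIdeal := hc (Ideal.Quotient.eq.1 (((hM x).1 hx).trans (map_one _).symm))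
    simpa using c.asIdeal.sub_mem hxc h1
  · rw [HasRingHomProperty.Spec_iff (P := @Flat)]
    show (algebraMap B L).Flat
    rw [RingHom.flat_algebraMap_iff]
    exact IsLocalization.flat L M

variable {S : Scheme.{u}} {X Y Z FZ U : Sp S} (hX : IsAlgSpace X) (hY : IsAlgSpace Y) (hU : IsAlgSpace U)
  {f : Y ⟶ X} (hqc : IsQuasiCompactMor f) {i : Z ⟶ X}
  (hi : RepWith @IsClosedImmersion i) (hifp : LocP @LocallyOfFinitePresentation i)
  {iY : FZ ⟶ Y} {fZ : FZ ⟶ Z} (hFZ : IsPullback iY fZ f i) [IsIso fZ]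
  (hflat : ∀ y ∈ Set.range (Points.map iY), IsFlatAtMor f y) {j : U ⟶ X}
  (hj : RepWith @IsOpenImmersion j) (hjr : Set.range (Points.map j) = (Set.range (Points.map i))ᶜ)

include hX hY hqc hi hFZ hflat in
/-- Over an affine etale chart: an affine flat scheme through `Y` hitting every point over `Z`. -/
theorem exists_flat_member {A : CommRingCat.{u}} (sA : Spec A ⟶ S) (p : (yon S).obj (Over.mk sA) ⟶ X)
    (hp : RepWith @Etale p) :
    ∃ (W : Over S) (g : W ⟶ Over.mk sA), IsAffine W.left ∧ Flat g.left ∧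
      (∃ l : (yon S).obj W ⟶ Y, l ≫ f = (yon S).map g ≫ p ∧ LocP @Flat l) ∧
      ∀ v : ↥(Spec A), Points.ofPt p v ∈ Set.range (Points.map i) → v ∈ Set.range g.left := by
  have : CompactSpace ↥(Over.mk sA).left := inferInstanceAs (CompactSpace ↥(Spec A))
  have hYx : IsQuasiCompactSp (pullback f p) :=
    hqc (IsAlgSpace.yon_obj _) isQuasiCompactSp_of_compactSpace p _ _ (IsPullback.of_hasPullback f p)
  obtain ⟨D, sD, a, ha, has⟩ := exists_affine_atlas hYx
  obtain ⟨h, hh⟩ := (yon S).map_surjective (a ≫ pullback.snd f p)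
  have haY : RepWith @Etale (a ≫ pullback.fst f p) :=
    repWith_comp ha (repWith_of_isPullback (IsPullback.of_hasPullback f p).flip hp)
  have w : (a ≫ pullback.fst f p) ≫ f = (yon S).map h ≫ p := by
    rw [hh, Category.assoc, Category.assoc, pullback.condition]
  obtain ⟨φ, hφ⟩ := Spec.map_surjective h.left
  let C : Set ↥(Spec D) := h.left ⁻¹' (Set.range (hi.1.snd p).left)
  have hci : IsClosedImmersion (hi.1.snd p).left := repWith_snd hi p
  have hC : IsClosed C := (hci.base_closed.isClosed_range).preimage h.left.continuous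
  obtain ⟨B', ψ, hψf, hψr, hψl⟩ := exists_flat_localization φ C hC fun c hc => by
    rw [hφ]
    refine hflat _ ?_ (a ≫ pullback.fst f p) p h c haY hp w rfl
    obtain ⟨z, hz⟩ := hc
    have e : Points.map f (Points.ofPt (a ≫ pullback.fst f p) c) =
        Points.map i (Points.ofPt (hi.1.fst p) z) := by
      rw [map_ofPt_of_isPullback (hi.1.isPullback p), hz, Points.map_ofPt, w, ofPt_comp]
    obtain ⟨q, hq, -⟩ := exists_of_isPullback hFZ _ _ e
    exact ⟨q, hq⟩
  let g' : Over.mk (Spec.map ψ ≫ sD) ⟶ Over.mk sD := Over.homMk (Spec.map ψ) rfl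
  refine ⟨Over.mk (Spec.map ψ ≫ sD), g' ≫ h, inferInstanceAs (IsAffine (Spec B')), ?_,
    ⟨(yon S).map g' ≫ a ≫ pullback.fst f p, ?_, ?_⟩, fun v hv => ?_⟩
  · show Flat (Spec.map ψ ≫ h.left)
    rw [← hφ, ← Spec.map_comp]
    exact hψf
  · rw [Category.assoc, w, Functor.map_comp, Category.assoc]
  · exact locP_comp etLocal_flat (IsAlgSpace.yon_obj _) (IsAlgSpace.yon_obj _) hY
      (locP_of_repWith etLocal_flat (repWith_map hψl))
      (locP_mono (fun φ (_ : Etale φ) => inferInstanceAs (Flat φ)) (locP_of_repWith etLocal_etale haY))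
  · obtain ⟨z, hz⟩ := hv
    obtain ⟨q, hq⟩ : ∃ q, Points.map fZ q = z :=
      ⟨Points.map (inv fZ) z, by rw [← Points.map_comp, IsIso.inv_hom_id, Points.map_id]⟩
    obtain ⟨y, -, hy₂⟩ := exists_of_isPullback (IsPullback.of_hasPullback f p) (Points.map iY q)
      (Points.ofScheme _ v) (by
        rw [← Points.ofPt_eq_map_ofScheme, ← Points.map_comp, hFZ.w, Points.map_comp, hq, hz])
    obtain ⟨d, rfl⟩ := surjective_ofPt has y
    have hd : h.left d = v := by
      apply (Points.schemeEquiv _).injective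
      show Points.ofScheme _ (h.left d) = Points.ofScheme _ v
      rw [← hy₂, Points.map_ofPt, ← hh, ofPt_map]
    have hdC : d ∈ C := by
      obtain ⟨w', -, hw'⟩ := exists_point_of_isPullback (hi.1.isPullback p) hz
      exact ⟨w', hw'.trans hd.symm⟩
    obtain ⟨b, hb⟩ := hψr hdC
    exact ⟨b, by show h.left (Spec.map ψ b) = v; rw [hb, hd]⟩

include hX hU hi hifp hj hjr in
/-- Over an affine scheme the preimage of `U` is covered by finitely many affine opens lifting to `U`. -/
theorem exists_open_members {T : Over S} [IsAffine T.left] (k : (yon S).obj T ⟶ X) :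
    ∃ (K : Type u) (_ : Finite K) (O : K → Over S) (o : ∀ r, O r ⟶ T),
      (∀ r, IsAffine (O r).left) ∧ (∀ r, Flat (o r).left) ∧
      (∀ r, ∃ l : (yon S).obj (O r) ⟶ U, l ≫ j = (yon S).map (o r) ≫ k) ∧
      ∀ t : ↥T.left, Points.ofPt k t ∉ Set.range (Points.map i) → ∃ r, t ∈ Set.range (o r).left := by
  have hci : IsClosedImmersion (hi.1.snd k).left := repWith_snd hi k
  have hlfp : LocallyOfFinitePresentation (hi.1.snd k).left :=
    haveI := etLocal_lfp.{u}.stable
    repWith_snd (repWith_of_locP etLocal_lfp hX hi.1 hifp) k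
  have hoi : IsOpenImmersion (hj.1.snd k).left := repWith_snd hj k
  have hr : Set.range (hj.1.snd k).left = (Set.range (hi.1.snd k).left)ᶜ := by
    rw [← Set.image_univ, ← Set.preimage_univ (f := Points.ofPt (hj.1.fst k)),
      ← preimage_image_map (hj.1.isPullback k), Set.image_univ, hjr, Set.preimage_compl,
      ← Set.image_univ (f := Points.map i), preimage_image_map (hi.1.isPullback k), Set.preimage_univ,
      Set.image_univ]
  have : CompactSpace ↥((hj.1.pullback k).left) := by
    refine ⟨(hj.1.snd k).left.isOpenEmbedding.isEmbedding.isCompact_iff.2 ?_⟩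
    rw [Set.image_univ]
    show IsCompact (Set.range (hj.1.snd k).left)
    rw [hr]
    exact isCompact_compl_range _
  let V := hj.1.pullback k
  let 𝒰 := V.left.affineCover.finiteSubcover
  let o' : ∀ r, (Over.mk (𝒰.f r ≫ V.hom) : Over S) ⟶ V := fun r => Over.homMk (𝒰.f r) rfl
  have hof : ∀ r, IsOpenImmersion ((o' r) ≫ hj.1.snd k).left := fun r => by
    show IsOpenImmersion (𝒰.f r ≫ (hj.1.snd k).left)
    infer_instance
  refine ⟨𝒰.I₀, inferInstance, fun r => Over.mk (𝒰.f r ≫ V.hom), fun r => o' r ≫ hj.1.snd k,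
    fun r => inferInstanceAs (IsAffine (𝒰.X r)), fun r => by have := hof r; infer_instance,
    fun r => ⟨(yon S).map (o' r) ≫ hj.1.fst k, ?_⟩, fun t ht => ?_⟩
  · rw [Category.assoc, (hj.1.isPullback k).w, Functor.map_comp, Category.assoc]
  · have : t ∈ Set.range (hj.1.snd k).left := by
      rw [hr]
      rintro ⟨w, rfl⟩
      exact ht ⟨_, map_ofPt_of_isPullback (hi.1.isPullback k) w⟩
    obtain ⟨v, rfl⟩ := this
    obtain ⟨r, y, rfl⟩ := 𝒰.exists_eq v
    exact ⟨r, y, rfl⟩

include hX hY hU hqc hi hifp hFZ hflat hj hjr in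
/-- The covering: the open subspace and affine schemes flat over `X` and over `Y`. -/
theorem exists_cover' : ∃ (κ : Type u) (W : κ → Over S) (w : ∀ n, (yon S).obj (W n) ⟶ X)
    (l : ∀ n, (yon S).obj (W n) ⟶ Y), (∀ n, l n ≫ f = w n) ∧ (∀ n, LocP @Flat (l n)) ∧
    (∀ n, LocP @Flat (w n)) ∧ (∀ n, IsAffine (W n).left) ∧
    IsFpqcCover (fun k : Option κ => k.elim U fun n => (yon S).obj (W n))
      (fun k => match k with
        | none => j
        | some n => w n) := by
  obtain ⟨U₀, a₀, ha₀, has₀⟩ := hX.atlas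
  let 𝒱 := U₀.left.affineCover
  let V : 𝒱.I₀ → Over S := fun n => Over.mk (𝒱.f n ≫ U₀.hom)
  let v : ∀ n, V n ⟶ U₀ := fun n => Over.homMk (𝒱.f n) rfl
  have hpv : ∀ n, RepWith @Etale ((yon S).map (v n) ≫ a₀) := fun n =>
    repWith_comp (repWith_map (show Etale (𝒱.f n) from inferInstance)) ha₀
  choose W g hW hg hl hc using fun n =>
    exists_flat_member hX hY hqc hi hFZ hflat (𝒱.f n ≫ U₀.hom) ((yon S).map (v n) ≫ a₀) (hpv n)
  let Wf : Option 𝒱.I₀ → Sp S := fun k => k.elim U fun n => (yon S).obj (W n)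
  let wf : ∀ k, Wf k ⟶ X := fun k => match k with
    | none => j
    | some n => (yon S).map (g n) ≫ (yon S).map (v n) ≫ a₀
  refine ⟨𝒱.I₀, W, fun n => (yon S).map (g n) ≫ (yon S).map (v n) ≫ a₀, fun n => (hl n).choose,
    fun n => (hl n).choose_spec.1, fun n => (hl n).choose_spec.2, fun n => ?_, hW, ⟨?_, fun T hT h => ?_⟩⟩
  · exact locP_comp etLocal_flat (IsAlgSpace.yon_obj _) (IsAlgSpace.yon_obj _) hX
      (locP_of_repWith etLocal_flat (repWith_map (hg n)))
      (locP_mono (fun φ (_ : Etale φ) => inferInstanceAs (Flat φ)) (locP_of_repWith etLocal_etale (hpv n)))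
  · rintro (_ | n)
    · exact locP_of_repWith etLocal_flat (repWith_mono (fun φ (_ : IsOpenImmersion φ) => inferInstanceAs (Flat φ)) hj)
    · exact locP_comp etLocal_flat (IsAlgSpace.yon_obj _) (IsAlgSpace.yon_obj _) hX
        (locP_of_repWith etLocal_flat (repWith_map (hg n)))
        (locP_mono (fun φ (_ : Etale φ) => inferInstanceAs (Flat φ)) (locP_of_repWith etLocal_etale (hpv n)))
  · have := hT
    obtain ⟨K, _, O, o, hO, ho, hol, hoc⟩ := exists_open_members hX hU hi hifp hj hjr h
    have hq : Etale (ha₀.1.snd h).left := repWith_snd ha₀ h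
    let P := ha₀.1.pullback h
    have hcv : ∀ z : ↥T.left, Points.ofPt h z ∈ Set.range (Points.map i) →
        ∃ (n : 𝒱.I₀) (M : Over S) (m : M ⟶ T) (l : M ⟶ W n) (N : Set ↥T.left), IsAffine M.left ∧ Flat m.left ∧
          (yon S).map l ≫ (yon S).map (g n) ≫ (yon S).map (v n) ≫ a₀ = (yon S).map m ≫ h ∧
          IsOpen N ∧ z ∈ N ∧
          ∀ t ∈ N, Points.ofPt h t ∈ Set.range (Points.map i) → t ∈ Set.range m.left := by
      intro z hz
      obtain ⟨u₀, hu₀⟩ := surjective_ofPt has₀ (Points.ofPt h z)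
      obtain ⟨n, x, hx⟩ := 𝒱.exists_eq u₀
      have hxe : Points.ofPt ((yon S).map (v n) ≫ a₀) x = Points.ofPt h z := by
        rw [ofPt_comp, ← hu₀, ← hx]; rfl
      obtain ⟨E, pE, qE, sqE⟩ := exists_isPullback_of_representable (hpv n).1 h
      have : Etale qE.left := repWith_prop (hpv n) sqE
      obtain ⟨e, he₁, he₂⟩ := (ofPt_eq_ofPt_iff sqE x z).1 hxe
      obtain ⟨_, ⟨O', hO', rfl⟩, heO, -⟩ :=
        E.left.isBasis_affineOpens.exists_subset_of_mem_open (Set.mem_univ e) isOpen_univ
      change E.left.Opens at O'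
      have : IsAffine (O' : Scheme.{u}) := hO'
      have : IsAffine (W n).left := hW n
      have : IsAffine (V n).left := inferInstanceAs (IsAffine (𝒱.X n))
      have := hg n
      let M' := pullback (O'.ι ≫ pE.left) (g n).left
      let m₁ : M' ⟶ (O' : Scheme.{u}) := pullback.fst _ _
      have hcond : pullback.snd (O'.ι ≫ pE.left) (g n).left ≫ (g n).left = (m₁ ≫ O'.ι) ≫ pE.left := by
        rw [Category.assoc]; exact pullback.condition.symm
      let M : Over S := Over.mk ((m₁ ≫ O'.ι) ≫ E.hom)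
      let mE : M ⟶ E := Over.homMk (m₁ ≫ O'.ι) rfl
      let l : M ⟶ W n := Over.homMk (pullback.snd _ _) (by
        show _ = (m₁ ≫ O'.ι) ≫ E.hom
        rw [← Over.w (g n), ← Over.w pE]; exact (Category.assoc _ _ _).symm.trans ((congrArg (· ≫ (V n).hom) hcond).trans (Category.assoc _ _ _)))
      have hmE : l ≫ g n = mE ≫ pE := by ext1; exact hcond
      refine ⟨n, M, mE ≫ qE, l, qE.left '' O', inferInstanceAs (IsAffine M'), ?_, ?_,
        qE.left.isOpenMap _ O'.isOpen, ⟨e, heO, he₂⟩, ?_⟩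
      · have : Flat m₁ := MorphismProperty.pullback_fst _ _ (hg n)
        exact inferInstanceAs (Flat ((m₁ ≫ O'.ι) ≫ qE.left))
      · rw [← Functor.map_comp_assoc, hmE]
        exact (Functor.map_comp_assoc _ _ _ _).trans ((congrArg ((yon S).map mE ≫ ·) sqE.w).trans
          (Functor.map_comp_assoc _ _ _ _).symm)
      · rintro _ ⟨e', he', rfl⟩ ht
        obtain ⟨b, hb⟩ := hc n (pE.left e') ((ofPt_eq_ofPt_iff sqE _ _).2 ⟨e', rfl, rfl⟩ ▸ ht)
        obtain ⟨μ, hμ₁, -⟩ := Scheme.Pullback.exists_preimage_pullback (f := O'.ι ≫ pE.left) (g := (g n).left)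
          (show (O' : Scheme.{u}) from ⟨e', he'⟩) b hb.symm
        refine ⟨μ, ?_⟩
        show qE.left (O'.ι (m₁ μ)) = qE.left e'
        erw [hμ₁]; rfl
    let I := { z : ↥T.left // Points.ofPt h z ∈ Set.range (Points.map i) }
    choose n M m l N hM hm hml hNo hNz hNc using fun z : I => hcv z.1 z.2
    have hZc : IsClosed {t : ↥T.left | Points.ofPt h t ∈ Set.range (Points.map i)} := by
      show IsClosed (Points.ofPt h ⁻¹' _)
      rw [← Set.image_univ, preimage_image_map (hi.1.isPullback h), Set.preimage_univ, Set.image_univ]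
      exact (repWith_snd hi h).base_closed.isClosed_range
    obtain ⟨F, hF⟩ := hZc.isCompact.elim_finite_subcover N hNo
      (fun t ht => Set.mem_iUnion.2 ⟨⟨t, ht⟩, hNz ⟨t, ht⟩⟩)
    have : Fintype K := Fintype.ofFinite K
    let σ := (Fintype.equivFin (↥F ⊕ K)).symm
    let G : ↥F ⊕ K → Over S := Sum.elim (fun z : ↥F => M z) O
    let c : ∀ s, G s ⟶ T := fun s => match s with
      | .inl z => m z
      | .inr k => o k
    have h₁ : ∀ s, IsAffine (G s).left := by
      rintro (z | k)
      · exact hM z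
      · exact hO k
    have h₂ : ∀ s, Flat (c s).left := by
      rintro (z | k)
      · exact hm z
      · exact ho k
    have h₃ : ∀ s, ∃ (i : Option 𝒱.I₀) (l' : (yon S).obj (G s) ⟶ Wf i), l' ≫ wf i = (yon S).map (c s) ≫ h := by
      rintro (z | k)
      · exact ⟨some (n z), (yon S).map (l z), hml z⟩
      · obtain ⟨l', hl'⟩ := hol k
        exact ⟨none, l', hl'⟩
    have h₄ : ∀ t : ↥T.left, ∃ s, t ∈ Set.range (c s).left := fun t => by
      by_cases ht : Points.ofPt h t ∈ Set.range (Points.map i)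
      · obtain ⟨z, hzF, hzt⟩ := Set.mem_iUnion₂.1 (hF ht)
        exact ⟨.inl ⟨z, hzF⟩, hNc z t hzt ht⟩
      · obtain ⟨k, hk⟩ := hoc t ht
        exact ⟨.inr k, hk⟩
    refine ⟨_, fun r => G (σ r), fun r => c (σ r), fun r => h₁ _, fun r => h₂ _, fun t => ?_, fun r => ?_⟩
    · obtain ⟨s, hs⟩ := h₄ t
      exact ⟨σ.symm s, by beta_reduce; rw [σ.apply_symm_apply]; exact hs⟩
    obtain ⟨_ | n', l', hl'⟩ := h₃ (σ r)
    · exact ⟨none, l', hl'⟩
    · exact ⟨some n', l', hl'⟩

include hX hY hU hqc hi hifp hFZ hflat hj hjr in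
theorem exists_cover : ∃ (ι : Type u) (W : ι → Sp S) (w : ∀ k, W k ⟶ X), (∀ k, IsAlgSpace (W k)) ∧
    IsFpqcCover W w ∧ ∀ k, (∃ l : W k ⟶ U, l ≫ j = w k) ∨ (∃ l : W k ⟶ Y, l ≫ f = w k) := by
  obtain ⟨κ, W, w, l, hl, -, -, -, hcov⟩ := exists_cover' hX hY hU hqc hi hifp hFZ hflat hj hjr
  refine ⟨Option κ, _, _, ?_, hcov, ?_⟩
  · rintro (_ | n)
    · exact hU
    · exact IsAlgSpace.yon_obj _
  · rintro (_ | n)
    · exact Or.inl ⟨𝟙 _, Category.id_comp _⟩
    · exact Or.inr ⟨l n, hl n⟩

end Groth.L23.FpqcGlue
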