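import Groth.Agent.L23.FpqcTop

/-!
# Descent of open subsets along fpqc coverings
-/

universe u

open CategoryTheory CategoryTheory.Limits AlgebraicGeometry AlgSp Opposite Topology

set_option backward.isDefEq.respectTransparency.types false

namespace Groth.L23

variable {S : Scheme.{u}}

theorem exists_point_of_fpqcCover {ι : Type u} {T : Sp S} {Ti : ι → Sp S} {g : ∀ i, Ti i ⟶ T}
    (hg : IsFpqcCover Ti g) (x : Points T) : ∃ i, x ∈ Set.range (Points.map (g i)) := by
  obtain ⟨Z, hZ, k, t, rfl⟩ := exists_eq_ofPt_affine x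
  obtain ⟨J, hJ, A, e, i, l, hA, -, hl, hs⟩ := exists_fpqc_affine_family hg k
  obtain ⟨j, a, rfl⟩ := hs t
  exact ⟨i j, Points.ofPt (l j) a, by rw [Points.map_ofPt, hl, ofPt_comp]⟩

theorem existsUnique_open_descend {ι : Type u} {T : Sp S} {Ti : ι → Sp S} {g : ∀ i, Ti i ⟶ T}
    (hg : IsFpqcCover Ti g) (Wi : ∀ i, Set (Points (Ti i))) (hW : ∀ i, IsOpen (Wi i))
    (hc : ∀ i j, Points.map (pullback.fst (g i) (g j)) ⁻¹' Wi i =
      Points.map (pullback.snd (g i) (g j)) ⁻¹' Wi j) :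
    ∃! W : TopologicalSpace.Opens (Points T), ∀ i, Points.map (g i) ⁻¹' (W : Set (Points T)) = Wi i := by
  let W₀ : Set (Points T) := ⋃ i, Points.map (g i) '' Wi i
  have hpre : ∀ i, Points.map (g i) ⁻¹' W₀ = Wi i := by
    intro i
    refine Set.Subset.antisymm (fun x hx => ?_) fun x hx => Set.mem_iUnion.2 ⟨i, x, hx, rfl⟩
    obtain ⟨j, y, hy, e⟩ := Set.mem_iUnion.1 hx
    obtain ⟨z, hz₁, hz₂⟩ := exists_of_isPullback (IsPullback.of_hasPullback (g i) (g j)) x y e.symm
    have : z ∈ Points.map (pullback.snd (g i) (g j)) ⁻¹' Wi j := by simpa [hz₂] using hy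
    rw [← hc] at this
    simpa [hz₁] using this
  have ho : IsOpen W₀ := by
    refine Points.isOpen_iff.2 fun Z k => isOpen_of_affine_cover fun B hB => ?_
    let Z' : Over S := Over.mk (B.ι ≫ Z.hom)
    let o : Z' ⟶ Z := Over.homMk B.ι rfl
    have : IsAffine Z'.left := hB
    obtain ⟨J, hJ, A, e, i, l, hA, he, hl, hs⟩ := exists_fpqc_affine_family hg ((yon S).map o ≫ k)
    refine isOpen_of_fpqc_family _ (fun j => (e j).left) hA he hs fun j => ?_
    have h2 : IsOpen (Points.ofPt (l j) ⁻¹' Wi (i j)) := (hW _).preimage (Points.continuous_ofPt _)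
    refine (congrArg IsOpen ?_).mp h2
    ext a
    rw [← hpre]
    show Points.map (g (i j)) (Points.ofPt (l j) a) ∈ W₀ ↔ Points.ofPt k (o.left ((e j).left a)) ∈ W₀
    rw [Points.map_ofPt, hl, ofPt_comp, ofPt_comp]
  refine ⟨⟨W₀, ho⟩, hpre, fun W hW' => TopologicalSpace.Opens.ext (Set.ext fun x => ?_)⟩
  obtain ⟨i, y, rfl⟩ := exists_point_of_fpqcCover hg x
  exact (Set.ext_iff.1 ((hW' i).trans (hpre i).symm) y)

end Groth.L23
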