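import Groth.Agent.L23.FpqcBase
import Groth.Agent.L23.MorCalc
import Groth.Agent.L24.Alg.SpaceBaseLocal

/-!
# Fpqc locality on the base of the topological properties of morphisms of algebraic spaces
-/

universe u

open CategoryTheory CategoryTheory.Limits AlgebraicGeometry AlgSp Opposite Topology

set_option backward.isDefEq.respectTransparency.types false

namespace Groth.L23

/-- A subset of an affine scheme is closed if its preimage in every member of a finite affine flat covering is. -/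
theorem isClosed_of_fpqc_family {Z : Scheme.{u}} [IsAffine Z] {J : Type u} [Finite J] (A : J → Scheme.{u})
    (e : ∀ j, A j ⟶ Z) (hA : ∀ j, IsAffine (A j)) (he : ∀ j, Flat (e j))
    (hs : ∀ z : Z, ∃ j, z ∈ Set.range (e j)) {D : Set Z} (h : ∀ j, IsClosed (e j ⁻¹' D)) : IsClosed D := by
  let π : ∐ A ⟶ Z := Sigma.desc e
  have := hA
  have hι : ∀ j, (sigmaOpenCover A).f j ≫ π = e j := fun j => Sigma.ι_desc _ _
  have : Surjective π := ⟨fun z => by
    obtain ⟨j, a, rfl⟩ := hs z
    exact ⟨(sigmaOpenCover A).f j a, by rw [← Scheme.Hom.comp_apply, hι]; rfl⟩⟩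
  have : Flat π := IsZariskiLocalAtSource.of_openCover (P := @Flat) (sigmaOpenCover A) fun j => by
        rw [hι]; exact he j
  have he' : ∀ j a, π ((sigmaOpenCover A).f j a) = e j a := fun j a => by rw [← Scheme.Hom.comp_apply, hι]; rfl
  refine (Flat.isQuotientMap_of_surjective π).isClosed_preimage.1 ?_
  rw [← isOpen_compl_iff]
  refine isOpen_iff_mem_nhds.2 fun x hx => ?_
  obtain ⟨j, y, rfl⟩ := (sigmaOpenCover A).exists_eq x
  have ho : IsOpen ((sigmaOpenCover A).f j '' (e j ⁻¹' D)ᶜ) :=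
    ((sigmaOpenCover A).f j).isOpenEmbedding.isOpenMap _ (h j).isOpen_compl
  refine Filter.mem_of_superset (ho.mem_nhds ⟨y, ?_, rfl⟩) ?_
  · exact fun hy => hx (show π _ ∈ D from (he' j y).symm ▸ hy)
  · rintro _ ⟨z, hz, rfl⟩
    exact fun hy => hz (show e j z ∈ D from he' j z ▸ hy)

variable {S : Scheme.{u}}

/-- The comparison square of a refinement of a covering. -/
theorem exists_refine_square {ι : Type u} {Y X : Sp S} {Yi Xi : ι → Sp S} {g : ∀ i, Yi i ⟶ Y} {f : X ⟶ Y}
    {p : ∀ i, Xi i ⟶ Yi i} {q : ∀ i, Xi i ⟶ X} (sq : ∀ i, IsPullback (q i) (p i) f (g i)) {Z A : Sp S}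
    (k : Z ⟶ Y) (e : A ⟶ Z) (i : ι) (l : A ⟶ Yi i) (hl : l ≫ g i = e ≫ k) :
    ∃ φ : pullback (p i) l ⟶ pullback f k,
      IsPullback φ (pullback.snd (p i) l) (pullback.snd f k) e := by
  refine ⟨pullback.lift (pullback.fst _ _ ≫ q i) (pullback.snd _ _ ≫ e) (by
      rw [Category.assoc, (sq i).w, pullback.condition_assoc, Category.assoc, hl]), ?_⟩
  refine IsPullback.of_right ?_ (pullback.lift_snd _ _ _) (IsPullback.of_hasPullback f k)
  simpa only [pullback.lift_fst, hl] using (IsPullback.of_hasPullback (p i) l).paste_horiz (sq i)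

theorem isLocalOnBase_fpqc_qcMor : IsLocalOnBase (S := S) IsFpqcCover IsQuasiCompactMor := by
  intro ι Y Yi g hY hYi hcov X f hX Xi p q hXi sq
  refine ⟨fun h i => qcMor_of_isPullback (sq i) h, fun h => ?_⟩
  refine isQuasiCompactMor_of_affine hX hY fun W hW k => ?_
  have : IsAffine W.left := hW
  obtain ⟨J, hJ, A, e, i, l, hA, -, hl, hs⟩ := exists_fpqc_affine_family hcov k
  have hWS : IsAlgSpace (pullback f k) :=
    Groth.L24.St.isAlgSpace_pullback hX (IsAlgSpace.yon_obj W) hY _ _
  refine qcSp_of_compactSpace hWS ⟨?_⟩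
  choose φ hsq using fun j => exists_refine_square sq k ((yon S).map (e j)) (i j) (l j) (hl j)
  have hu : (Set.univ : Set (Points (pullback f k))) = ⋃ j, Set.range (Points.map (φ j)) := by
    refine (Set.eq_univ_of_forall fun x => Set.mem_iUnion.2 ?_).symm
    obtain ⟨j, a, ha⟩ := hs (Points.toScheme W (Points.map (pullback.snd f k) x))
    obtain ⟨z, hz, -⟩ := exists_of_isPullback (hsq j) x (Points.ofScheme (A j) a) (by
      rw [← Points.ofPt_eq_map_ofScheme, ofPt_map, ha, Points.ofScheme_toScheme])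
    exact ⟨j, z, hz⟩
  rw [hu]
  refine isCompact_iUnion fun j => ?_
  have : IsAffine (A j).left := hA j
  have := compactSpace_of_qcSp (isQuasiCompactMor_of_pullback (h (i j)) (l j))
  exact isCompact_range (Points.continuous_map _)

theorem isLocalOnBase_fpqc_univClosed : IsLocalOnBase (S := S) IsFpqcCover IsUnivClosedMor := by
  intro ι Y Yi g hY hYi hcov X f hX Xi p q hXi sq
  refine ⟨fun h i => univSp_of_isPullback (sq i) h, fun h => ?_⟩
  refine (isUnivClosedMor_iff_affine f).2 fun W hW k C hC => ?_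
  have : IsAffine W.left := hW
  obtain ⟨J, hJ, A, e, i, l, hA, he, hl, hs⟩ := exists_fpqc_affine_family hcov k
  suffices H : IsClosed (Points.schemeHomeo W ⁻¹' (Points.map (pullback.snd f k) '' C)) from
    (Points.schemeHomeo W).isClosed_preimage.1 H
  refine isClosed_of_fpqc_family _ (fun j => (e j).left) hA he hs fun j => ?_
  obtain ⟨φ, hsq⟩ := exists_refine_square sq k ((yon S).map (e j)) (i j) (l j) (hl j)
  have hc : IsClosed (Points.schemeHomeo (A j) ⁻¹'
      (Points.map (pullback.snd (p (i j)) (l j)) '' (Points.map φ ⁻¹' C))) :=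
    (h (i j) (IsAlgSpace.yon_obj (A j)) (l j) _ _ (IsPullback.of_hasPullback _ _) _
      (hC.preimage (Points.continuous_map φ))).preimage (Points.schemeHomeo (A j)).continuous
  rw [← ofPt_preimage_image _ hsq, ofPt_eq_comp] at hc
  rw [show (e j).left ⁻¹' (Points.schemeHomeo W ⁻¹' (Points.map (pullback.snd f k) '' C)) =
      (Points.schemeHomeo (A j) ⁻¹' (Points.map ((yon S).map (e j)) ⁻¹' (Points.map (pullback.snd f k) '' C))) by
    ext a
    simp only [Set.mem_preimage, Points.map_yon_map_apply]]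
  exact hc

/-- A subset of an affine scheme is open if its preimage in every member of a finite affine flat covering is. -/
theorem isOpen_of_fpqc_family {Z : Scheme.{u}} [IsAffine Z] {J : Type u} [Finite J] (A : J → Scheme.{u})
    (e : ∀ j, A j ⟶ Z) (hA : ∀ j, IsAffine (A j)) (he : ∀ j, Flat (e j))
    (hs : ∀ z : Z, ∃ j, z ∈ Set.range (e j)) {D : Set Z} (h : ∀ j, IsOpen (e j ⁻¹' D)) : IsOpen D := by
  rw [← isClosed_compl_iff]
  exact isClosed_of_fpqc_family A e hA he hs fun j => by
    rw [Set.preimage_compl]; exact (h j).isClosed_compl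

theorem isLocalOnBase_fpqc_univOpen : IsLocalOnBase (S := S) IsFpqcCover IsUnivOpenMor := by
  intro ι Y Yi g hY hYi hcov X f hX Xi p q hXi sq
  refine ⟨fun h i => univSp_of_isPullback (sq i) h, fun h => ?_⟩
  refine (isUnivOpenMor_iff_affine f).2 fun W hW k C hC => ?_
  have : IsAffine W.left := hW
  obtain ⟨J, hJ, A, e, i, l, hA, he, hl, hs⟩ := exists_fpqc_affine_family hcov k
  suffices H : IsOpen (Points.schemeHomeo W ⁻¹' (Points.map (pullback.snd f k) '' C)) from
    (Points.schemeHomeo W).isOpen_preimage.1 H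
  refine isOpen_of_fpqc_family _ (fun j => (e j).left) hA he hs fun j => ?_
  obtain ⟨φ, hsq⟩ := exists_refine_square sq k ((yon S).map (e j)) (i j) (l j) (hl j)
  have hc : IsOpen (Points.schemeHomeo (A j) ⁻¹'
      (Points.map (pullback.snd (p (i j)) (l j)) '' (Points.map φ ⁻¹' C))) :=
    (h (i j) (IsAlgSpace.yon_obj (A j)) (l j) _ _ (IsPullback.of_hasPullback _ _) _
      (hC.preimage (Points.continuous_map φ))).preimage (Points.schemeHomeo (A j)).continuous
  rw [← ofPt_preimage_image _ hsq, ofPt_eq_comp] at hc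
  rw [show (e j).left ⁻¹' (Points.schemeHomeo W ⁻¹' (Points.map (pullback.snd f k) '' C)) =
      (Points.schemeHomeo (A j) ⁻¹' (Points.map ((yon S).map (e j)) ⁻¹' (Points.map (pullback.snd f k) '' C))) by
    ext a
    simp only [Set.mem_preimage, Points.map_yon_map_apply]]
  exact hc

/-- Every point is the image of a point of an affine test scheme. -/
theorem exists_eq_ofPt_affine {F : Sp S} (x : Points F) : ∃ (T : Over S) (_ : IsAffine T.left)
    (g : (yon S).obj T ⟶ F) (t : ↥T.left), Points.ofPt g t = x := by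
  obtain ⟨p, -, h⟩ := exists_eq_ofPt_field x
  exact ⟨_, inferInstanceAs (IsAffine (Spec (CommRingCat.of p.K))), _, _, h⟩

theorem isLocalOnBase_fpqc_univInjective : IsLocalOnBase (S := S) IsFpqcCover IsUnivInjectiveMor := by
  intro ι Y Yi g hY hYi hcov X f hX Xi p q hXi sq
  refine ⟨fun h i => univSp_of_isPullback (sq i) h, fun h => ?_⟩
  intro Z Q hZ k fst snd sqQ x y hxy
  obtain ⟨T, hT, m, t, ht⟩ := exists_eq_ofPt_affine (Points.map snd x)
  obtain ⟨J, hJ, A, e, i, l, hA, -, hl, hs⟩ := exists_fpqc_affine_family hcov (m ≫ k)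
  obtain ⟨j, a, ha⟩ := hs t
  obtain ⟨φ, hsq⟩ := exists_refine_square (X := X) sq k ((yon S).map (e j) ≫ m) (i j) (l j)
    ((hl j).trans (Category.assoc _ _ _).symm)
  have e₁ := sqQ.isoPullback
  have hmt : Points.map ((yon S).map (e j) ≫ m) (Points.ofScheme (A j) a) = Points.map snd x := by
    rw [← Points.ofPt_eq_map_ofScheme, ofPt_comp, ha, ht]
  obtain ⟨x', hx₁, hx₂⟩ := exists_of_isPullback hsq (Points.map sqQ.isoPullback.hom x)
    (Points.ofScheme (A j) a) (by rw [← Points.map_comp, sqQ.isoPullback_hom_snd, hmt])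
  obtain ⟨y', hy₁, hy₂⟩ := exists_of_isPullback hsq (Points.map sqQ.isoPullback.hom y)
    (Points.ofScheme (A j) a) (by rw [← Points.map_comp, sqQ.isoPullback_hom_snd, hmt, hxy])
  have hinj := h (i j) (IsAlgSpace.yon_obj (A j)) (l j) _ _ (IsPullback.of_hasPullback _ _)
  have : x' = y' := hinj (hx₂.trans hy₂.symm)
  have h' := congrArg (Points.map sqQ.isoPullback.inv) ((hx₁.symm.trans (congrArg _ this)).trans hy₁)
  rwa [← Points.map_comp, ← Points.map_comp, Iso.hom_inv_id, Points.map_id, Points.map_id] at h'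

theorem isLocalOnBase_fpqc_univSubmersive : IsLocalOnBase (S := S) IsFpqcCover IsUnivSubmersiveMor := by
  intro ι Y Yi g hY hYi hcov X f hX Xi p q hXi sq
  refine ⟨fun h i => univSp_of_isPullback (sq i) h, fun h => ?_⟩
  intro Z Q hZ k fst snd sqQ
  refine ⟨isCoinducing_iff.2 fun D => ⟨fun hD => ?_, fun hD => hD.preimage (Points.continuous_map _)⟩, fun z => ?_⟩
  swap
  · obtain ⟨T, hT, m, t, ht⟩ := exists_eq_ofPt_affine z
    obtain ⟨J, hJ, A, e, i, l, hA, -, hl, hs⟩ := exists_fpqc_affine_family hcov (m ≫ k)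
    obtain ⟨j, a, ha⟩ := hs t
    obtain ⟨φ, hsq⟩ := exists_refine_square (X := X) sq k ((yon S).map (e j) ≫ m) (i j) (l j)
      ((hl j).trans (Category.assoc _ _ _).symm)
    obtain ⟨w, hw⟩ := (h (i j) (IsAlgSpace.yon_obj (A j)) (l j) _ _ (IsPullback.of_hasPullback _ _)).surjective
      (Points.ofScheme (A j) a)
    refine ⟨Points.map (φ ≫ sqQ.isoPullback.inv) w, ?_⟩
    rw [← Points.map_comp, Category.assoc, sqQ.isoPullback_inv_snd, hsq.w, Points.map_comp, hw,
      ← Points.ofPt_eq_map_ofScheme, ofPt_comp, ha, ht]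
  · refine Points.isOpen_iff.2 fun T m => isOpen_of_affine_cover fun B hB => ?_
    let W : Over S := Over.mk (B.ι ≫ T.hom)
    let o : W ⟶ T := Over.homMk B.ι rfl
    have : IsAffine W.left := hB
    obtain ⟨J, hJ, A, e, i, l, hA, he, hl, hs⟩ := exists_fpqc_affine_family hcov ((yon S).map o ≫ m ≫ k)
    refine isOpen_of_fpqc_family _ (fun j => (e j).left) hA he hs fun j => ?_
    obtain ⟨φ, hsq⟩ := exists_refine_square (X := X) sq k ((yon S).map (e j ≫ o) ≫ m) (i j) (l j)
      ((hl j).trans (by simp [Functor.map_comp, Category.assoc]))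
    have hq := h (i j) (IsAlgSpace.yon_obj (A j)) (l j) _ _ (IsPullback.of_hasPullback _ _)
    have h1 : IsOpen (Points.map ((yon S).map (e j ≫ o) ≫ m) ⁻¹' D) := by
      refine hq.isOpen_preimage.1 ?_
      have h2 := hD.preimage (Points.continuous_map (φ ≫ sqQ.isoPullback.inv))
      refine (congrArg IsOpen ?_).mp h2
      ext w
      simp only [Set.mem_preimage, ← Points.map_comp, Category.assoc, sqQ.isoPullback_inv_snd, hsq.w]
    have h2 := h1.preimage (Points.schemeHomeo (A j)).continuous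
    refine (congrArg IsOpen ?_).mp h2
    ext a
    show Points.map _ (Points.ofScheme (A j) a) ∈ D ↔ Points.ofPt m (o.left ((e j).left a)) ∈ D
    rw [← Points.ofPt_eq_map_ofScheme, ofPt_comp]
    rfl

theorem isLocalOnBase_fpqc_univHomeo : IsLocalOnBase (S := S) IsFpqcCover IsUnivHomeoMor := by
  intro ι Y Yi g hY hYi hcov X f hX Xi p q hXi sq
  refine ⟨fun h i => univSp_of_isPullback (sq i) h, fun h => ?_⟩
  have ho := (isLocalOnBase_fpqc_univOpen Yi g hY hYi hcov f hX Xi p q hXi sq).2
    fun i _ _ hZ g fst snd s => (h i hZ g fst snd s).isOpenMap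
  have hi := (isLocalOnBase_fpqc_univInjective Yi g hY hYi hcov f hX Xi p q hXi sq).2
    fun i _ _ hZ g fst snd s => (h i hZ g fst snd s).injective
  have hs := (isLocalOnBase_fpqc_univSubmersive Yi g hY hYi hcov f hX Xi p q hXi sq).2
    fun i _ _ hZ g fst snd s => (h i hZ g fst snd s).isQuotientMap
  exact fun Z Q hZ k fst snd s => ⟨Points.continuous_map _, ho hZ k fst snd s,
    ⟨hi hZ k fst snd s, (hs hZ k fst snd s).surjective⟩⟩

end Groth.L23
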