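import Groth.Prelude.Def_AlgSp
import Mathlib.AlgebraicGeometry.Limits
import Mathlib.AlgebraicGeometry.Sites.Fpqc
import Mathlib.AlgebraicGeometry.Morphisms.Etale
import Mathlib.AlgebraicGeometry.ResidueField
import Mathlib.CategoryTheory.Limits.Constructions.Over.Basic

/-!
# A free action of a group gives an etale equivalence relation
-/

universe u

open CategoryTheory CategoryTheory.Limits AlgebraicGeometry AlgSp TopologicalSpace

set_option autoImplicit false
set_option backward.isDefEq.respectTransparency.types false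

namespace Groth.L23.FreeAction

/-- A morphism between spectra of fields is an epimorphism of schemes. -/
theorem epi_specMap {k l : CommRingCat.{u}} (hk : IsField k) [Nontrivial l] (φ : k ⟶ l) :
    Epi (Spec.map φ) := by
  letI := hk.toField
  haveI : Flat (Spec.map φ) := by
    rw [HasRingHomProperty.Spec_iff (P := @Flat)]
    algebraize [φ.hom]
    exact inferInstanceAs (Module.Flat k l)
  haveI : Surjective (Spec.map φ) := ⟨fun x => by
    obtain ⟨y⟩ : Nonempty (Spec l) := inferInstanceAs (Nonempty (PrimeSpectrum l))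
    exact ⟨y, @Subsingleton.elim _ (inferInstanceAs (Subsingleton (PrimeSpectrum k))) _ _⟩⟩
  infer_instance

theorem fromSpecResidueField_comp_eq {T U : Scheme.{u}} (a : T ⟶ U) (σ τ : U ⟶ U) (x : T)
    (h : a ≫ σ = a ≫ τ) :
    U.fromSpecResidueField (a x) ≫ σ = U.fromSpecResidueField (a x) ≫ τ := by
  haveI := epi_specMap (Field.toIsField (U.residueField (a x))) (a.residueFieldMap x)
  rw [← cancel_epi (Spec.map (a.residueFieldMap x)), ← Category.assoc, ← Category.assoc,
    Scheme.Hom.SpecMap_residueFieldMap_fromSpecResidueField, Category.assoc, Category.assoc, h]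

variable {S : Scheme.{u}} {U : Over S} {G : Type u} {c : Cofan (fun _ : G => U)} (hc : IsColimit c)

/-- The coproduct of the underlying schemes. -/
noncomputable def leftIso : (∐ fun _ : G => U.left) ≅ c.pt.left :=
  haveI hc' : IsColimit (Cofan.mk c.pt c.inj) := hc.ofIsoColimit (Cofan.ext (Iso.refl _) (fun _ => by simp))
  IsColimit.coconePointUniqueUpToIso (colimit.isColimit _)
    (isColimitCofanMkObjOfIsColimit (Over.forget S) (fun _ : G => U) c.inj hc')

@[reassoc]
theorem ι_leftIso (g : G) :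
    Sigma.ι (fun _ : G => U.left) g ≫ (leftIso hc).hom = (c.inj g).left :=
  IsColimit.comp_coconePointUniqueUpToIso_hom (colimit.isColimit (Discrete.functor fun _ : G => U.left)) _ ⟨g⟩

include hc in
theorem isOpenImmersion_inj (g : G) : IsOpenImmersion (c.inj g).left := by
  rw [← ι_leftIso hc g]; infer_instance

include hc in
theorem exists_inj_eq (x : c.pt.left) : ∃ g y, (c.inj g).left y = x := by
  obtain ⟨g, y, hy⟩ := (sigmaOpenCover fun _ : G => U.left).exists_eq ((leftIso hc).inv x)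
  refine ⟨g, y, ?_⟩
  rw [← ι_leftIso hc g, Scheme.Hom.comp_apply]
  refine (congrArg (leftIso hc).hom hy).trans ?_
  exact congrArg (fun m : c.pt.left ⟶ c.pt.left => m x) (leftIso hc).inv_hom_id

include hc in
theorem inj_eq_iff {g g' : G} {y y' : U.left} (h : (c.inj g).left y = (c.inj g').left y') : g = g' := by
  rw [← ι_leftIso hc g, ← ι_leftIso hc g', Scheme.Hom.comp_apply, Scheme.Hom.comp_apply] at h
  have h' := (sigmaι_eq_iff (fun _ : G => U.left) g g' y y').1
    ((leftIso hc).hom.isOpenEmbedding.injective h)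
  exact congrArg Sigma.fst h'

variable {T : Over S} (r : T ⟶ c.pt)

/-- The piece of `T` over the `g`-th copy. -/
noncomputable def piece (g : G) : T.left.Opens :=
  haveI := isOpenImmersion_inj hc g
  r.left ⁻¹ᵁ (c.inj g).left.opensRange

/-- The piece, over `S`. -/
noncomputable abbrev pieceObj (g : G) : Over S := Over.mk ((piece hc r g).ι ≫ T.hom)

/-- Its inclusion. -/
noncomputable abbrev pieceι (g : G) : pieceObj hc r g ⟶ T := Over.homMk (piece hc r g).ι rfl

theorem exists_factor (g : G) : ∃ y : pieceObj hc r g ⟶ U, y ≫ c.inj g = pieceι hc r g ≫ r := by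
  haveI := isOpenImmersion_inj hc g
  let l : (piece hc r g : Scheme.{u}) ⟶ U.left :=
    IsOpenImmersion.lift (c.inj g).left ((piece hc r g).ι ≫ r.left) (by
      rintro _ ⟨t, rfl⟩
      exact t.2)
  have hl : l ≫ (c.inj g).left = (piece hc r g).ι ≫ r.left := IsOpenImmersion.lift_fac _ _ _
  refine ⟨Over.homMk l ?_, Over.OverMorphism.ext hl⟩
  show l ≫ U.hom = (piece hc r g).ι ≫ T.hom
  rw [← Over.w (c.inj g), ← Category.assoc, hl, Category.assoc, Over.w r]

include hc in
theorem mem_piece (t : T.left) : ∃ g, t ∈ piece hc r g := by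
  obtain ⟨g, y, hy⟩ := exists_inj_eq hc (r.left t)
  exact ⟨g, y, hy⟩

theorem piece_disjoint {g g' : G} {t : T.left} (h : t ∈ piece hc r g) (h' : t ∈ piece hc r g') :
    g = g' := by
  obtain ⟨y, hy⟩ := h
  obtain ⟨y', hy'⟩ := h'
  exact inj_eq_iff hc (hy.trans hy'.symm)

omit r in
/-- Gluing along a disjoint open covering. -/
theorem exists_glue {ι : Type u} (O : ι → T.left.Opens) (hO : ∀ t, ∃ i, t ∈ O i)
    (hd : ∀ i j t, t ∈ O i → t ∈ O j → i = j) {Z : Over S}
    (m : ∀ i, Over.mk ((O i).ι ≫ T.hom) ⟶ Z) :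
    ∃ k : T ⟶ Z, ∀ i, (Over.homMk (O i).ι rfl : Over.mk ((O i).ι ≫ T.hom) ⟶ T) ≫ k = m i := by
  obtain ⟨h⟩ := nonempty_isColimit_cofanMk_of (fun i => (O i).ι) (eq_top_iff.2 fun t _ => by
    obtain ⟨i, hi⟩ := hO t
    exact Opens.mem_iSup.2 ⟨i, by rw [Scheme.Opens.opensRange_ι]; exact hi⟩) (fun i j hij => by
    rw [Function.onFun, Scheme.Opens.opensRange_ι, Scheme.Opens.opensRange_ι, disjoint_iff, eq_bot_iff]
    exact fun t ht => (hij (hd i j t ht.1 ht.2)).elim)
  let k : T.left ⟶ Z.left := Cofan.IsColimit.desc h fun i => (m i).left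
  have hk : ∀ i, (O i).ι ≫ k = (m i).left := fun i => Cofan.IsColimit.fac h _ i
  refine ⟨Over.homMk k (Cofan.IsColimit.hom_ext h _ _ fun i => ?_), fun i => Over.OverMorphism.ext (hk i)⟩
  show (O i).ι ≫ k ≫ Z.hom = (O i).ι ≫ T.hom
  rw [← Category.assoc, hk i]
  exact Over.w (m i)

omit r in
theorem hom_ext_pieces {ι : Type u} (O : ι → T.left.Opens) (hO : ∀ t, ∃ i, t ∈ O i) {Z : Over S}
    {a b : T ⟶ Z} (h : ∀ i, (O i).ι ≫ a.left = (O i).ι ≫ b.left) : a = b :=
  Over.OverMorphism.ext (Scheme.Cover.hom_ext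
    (Scheme.openCoverOfIsOpenCover T.left O
      (IsOpenCover.mk (eq_top_iff.2 fun t _ => Opens.mem_iSup.2 (hO t)))) _ _ h)

variable [Group G] (ρ : G →* Aut U)

theorem rho_mul (g h : G) : (ρ (g * h)).hom = (ρ h).hom ≫ (ρ g).hom := by rw [map_mul]; rfl

theorem rho_one : (ρ 1).hom = 𝟙 U := by rw [map_one]; rfl

include hc in
theorem isEtaleEqvRel
    (hfree : ∀ (g : G) (x : U.left), g ≠ 1 →
      U.left.fromSpecResidueField x ≫ (ρ g).hom.left ≠ U.left.fromSpecResidueField x)
    (s t : c.pt ⟶ U) (hs : ∀ g, c.inj g ≫ s = 𝟙 U) (ht : ∀ g, c.inj g ≫ t = (ρ g).hom) :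
    IsEtaleEqvRel s t := by
  have hinj : ∀ {T : Over S} (r r' : T ⟶ c.pt), r ≫ t = r' ≫ t → r ≫ s = r' ≫ s → r = r' := by
    intro T r r' e₁ e₂
    refine hom_ext_pieces (fun p : G × G => piece hc r p.1 ⊓ piece hc r' p.2) (fun x => ?_) fun p => ?_
    · obtain ⟨g, hg⟩ := mem_piece hc r x
      obtain ⟨g', hg'⟩ := mem_piece hc r' x
      exact ⟨(g, g'), hg, hg'⟩
    obtain ⟨g, g'⟩ := p
    let O := piece hc r g ⊓ piece hc r' g'
    obtain ⟨y, hy⟩ := exists_factor hc r g
    obtain ⟨y', hy'⟩ := exists_factor hc r' g'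
    let i₁ : Over.mk (O.ι ≫ T.hom) ⟶ pieceObj hc r g :=
      Over.homMk (T.left.homOfLE inf_le_left) (by simp [O])
    let i₂ : Over.mk (O.ι ≫ T.hom) ⟶ pieceObj hc r' g' :=
      Over.homMk (T.left.homOfLE inf_le_right) (by simp [O])
    let iO : Over.mk (O.ι ≫ T.hom) ⟶ T := Over.homMk O.ι rfl
    have ei₁ : i₁ ≫ pieceι hc r g = iO := Over.OverMorphism.ext (T.left.homOfLE_ι inf_le_left)
    have ei₂ : i₂ ≫ pieceι hc r' g' = iO := Over.OverMorphism.ext (T.left.homOfLE_ι inf_le_right)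
    have h₁ : iO ≫ r = (i₁ ≫ y) ≫ c.inj g := by rw [Category.assoc, hy, ← Category.assoc, ei₁]
    have h₂ : iO ≫ r' = (i₂ ≫ y') ≫ c.inj g' := by rw [Category.assoc, hy', ← Category.assoc, ei₂]
    have hyy : i₁ ≫ y = i₂ ≫ y' := by
      have := congrArg (iO ≫ ·) e₂
      rw [← Category.assoc, ← Category.assoc, h₁, h₂] at this
      simpa only [Category.assoc, hs, Category.comp_id] using this
    have hgg : (i₁ ≫ y) ≫ (ρ g).hom = (i₁ ≫ y) ≫ (ρ g').hom := by
      rw [← ht g, ← ht g']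
      conv_rhs => rw [hyy]
      rw [← Category.assoc, ← Category.assoc, ← h₁, ← h₂, Category.assoc, Category.assoc, e₁]
    show O.ι ≫ r.left = O.ι ≫ r'.left
    by_cases hg : g = g'
    · subst hg
      exact congrArg CommaMorphism.left (h₁.trans ((congrArg (· ≫ c.inj g) hyy).trans h₂.symm))
    · haveI : IsEmpty (O : Scheme.{u}) := ⟨fun x => by
        have h0 := fromSpecResidueField_comp_eq (i₁ ≫ y).left (ρ g).hom.left (ρ g').hom.left x
          (by rw [← Over.comp_left, ← Over.comp_left, hgg])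
        have hne : g'⁻¹ * g ≠ 1 := fun e => hg (inv_mul_eq_one.1 e).symm
        refine hfree _ ((i₁ ≫ y).left x) hne ?_
        have e1 : (ρ (g'⁻¹ * g)).hom.left = (ρ g).hom.left ≫ (ρ g'⁻¹).hom.left := by
          rw [rho_mul]; rfl
        have e2 : (ρ g').hom.left ≫ (ρ g'⁻¹).hom.left = 𝟙 U.left := by
          rw [← Over.comp_left, ← rho_mul, inv_mul_cancel, rho_one]; rfl
        rw [e1, ← Category.assoc, h0, Category.assoc, e2, Category.comp_id]⟩
      exact isInitialOfIsEmpty.hom_ext _ _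
  have etale_of : ∀ {φ : c.pt ⟶ U}, (∀ g, Etale ((c.inj g).left ≫ φ.left)) → Etale φ.left := by
    intro φ h
    have h' : ∀ g, Etale (Sigma.ι (fun _ : G => U.left) g ≫ (leftIso hc).hom ≫ φ.left) := fun g => by
      rw [ι_leftIso_assoc hc g]; exact h g
    have := IsZariskiLocalAtSource.of_openCover (P := @Etale) (sigmaOpenCover fun _ : G => U.left) h'
    exact (MorphismProperty.cancel_left_of_respectsIso (P := @Etale) (leftIso hc).hom φ.left).1 this
  refine ⟨⟨fun T r r' => hinj r r', fun T => ⟨fun a => ⟨a ≫ c.inj 1, ?_, ?_⟩, ?_, ?_⟩⟩, ?_, ?_⟩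
  · rw [Category.assoc, ht, rho_one, Category.comp_id]
  · rw [Category.assoc, hs, Category.comp_id]
  · rintro a b ⟨r, rfl, rfl⟩
    let I : c.pt ⟶ c.pt := Cofan.IsColimit.desc hc fun g => (ρ g).hom ≫ c.inj g⁻¹
    have hI : ∀ g, c.inj g ≫ I = (ρ g).hom ≫ c.inj g⁻¹ := Cofan.IsColimit.fac hc _
    have hIt : I ≫ t = s := Cofan.IsColimit.hom_ext hc _ _ fun g => by
      rw [← Category.assoc, hI, Category.assoc, ht, hs, ← rho_mul, inv_mul_cancel, rho_one]
    have hIs : I ≫ s = t := Cofan.IsColimit.hom_ext hc _ _ fun g => by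
      rw [← Category.assoc, hI, Category.assoc, hs, Category.comp_id, ht]
    exact ⟨r ≫ I, by rw [Category.assoc, hIt], by rw [Category.assoc, hIs]⟩
  · rintro a b e ⟨k, rfl, hk⟩ ⟨l, hl, rfl⟩
    have hb : k ≫ s = l ≫ t := hk.trans hl.symm
    let O : G × G → T.left.Opens := fun p => piece hc k p.1 ⊓ piece hc l p.2
    have hO : ∀ x, ∃ p, x ∈ O p := fun x => by
      obtain ⟨g, hg⟩ := mem_piece hc k x
      obtain ⟨g', hg'⟩ := mem_piece hc l x
      exact ⟨(g, g'), hg, hg'⟩
    choose y hy using exists_factor hc k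
    choose z hz using exists_factor hc l
    let iO : ∀ p, Over.mk ((O p).ι ≫ T.hom) ⟶ T := fun p => Over.homMk (O p).ι rfl
    let i₁ : ∀ p : G × G, Over.mk ((O p).ι ≫ T.hom) ⟶ pieceObj hc k p.1 := fun p =>
      Over.homMk (T.left.homOfLE inf_le_left) (by simp [O])
    let i₂ : ∀ p : G × G, Over.mk ((O p).ι ≫ T.hom) ⟶ pieceObj hc l p.2 := fun p =>
      Over.homMk (T.left.homOfLE inf_le_right) (by simp [O])
    have ei₁ : ∀ p : G × G, i₁ p ≫ pieceι hc k p.1 = iO p :=
      fun p => Over.OverMorphism.ext (T.left.homOfLE_ι inf_le_left)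
    have ei₂ : ∀ p : G × G, i₂ p ≫ pieceι hc l p.2 = iO p :=
      fun p => Over.OverMorphism.ext (T.left.homOfLE_ι inf_le_right)
    have h₁ : ∀ p : G × G, iO p ≫ k = (i₁ p ≫ y p.1) ≫ c.inj p.1 := fun p => by
      rw [Category.assoc, hy, ← Category.assoc, ei₁]
    have h₂ : ∀ p : G × G, iO p ≫ l = (i₂ p ≫ z p.2) ≫ c.inj p.2 := fun p => by
      rw [Category.assoc, hz, ← Category.assoc, ei₂]
    obtain ⟨m, hm⟩ := exists_glue O hO (fun p q x hp hq => Prod.ext
      (piece_disjoint hc k hp.1 hq.1) (piece_disjoint hc l hp.2 hq.2))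
      (fun p => (i₂ p ≫ z p.2) ≫ c.inj (p.1 * p.2))
    have hy' : ∀ p : G × G, i₁ p ≫ y p.1 = (i₂ p ≫ z p.2) ≫ (ρ p.2).hom := fun p => by
      have := congrArg (iO p ≫ ·) hb
      rw [← Category.assoc, ← Category.assoc, h₁, h₂] at this
      simpa only [Category.assoc, hs, ht, Category.comp_id] using this
    refine ⟨m, hom_ext_pieces O hO fun p => congrArg CommaMorphism.left (?_ : iO p ≫ m ≫ t = iO p ≫ k ≫ t),
      hom_ext_pieces O hO fun p => congrArg CommaMorphism.left (?_ : iO p ≫ m ≫ s = iO p ≫ l ≫ s)⟩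
    · rw [← Category.assoc, hm p, ← Category.assoc (iO p), h₁, Category.assoc _ (c.inj _) t, ht,
        Category.assoc _ (c.inj _) t, ht, hy', Category.assoc _ (ρ p.2).hom, rho_mul]
    · rw [← Category.assoc, hm p, ← Category.assoc (iO p), h₂, Category.assoc _ (c.inj _) s, hs,
        Category.assoc _ (c.inj _) s, hs]
  · refine etale_of fun g => ?_
    rw [← Over.comp_left, hs g]
    exact inferInstanceAs (Etale (𝟙 U.left))
  · refine etale_of fun g => ?_
    rw [← Over.comp_left, ht g]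
    haveI : IsIso (ρ g).hom.left := inferInstanceAs (IsIso ((Over.forget S).map (ρ g).hom))
    infer_instance

end Groth.L23.FreeAction
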