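import Groth.Agent.L23.LocP
import Groth.Agent.L23.Points
import Groth.Agent.L23.SourceReduced
import Groth.Agent.L23.SchemeLocus
import Mathlib.RingTheory.IntegralClosure.IsIntegralClosure.Basic
import Mathlib.RingTheory.Jacobson.Ring
import Mathlib.RingTheory.Localization.Integral
import Mathlib.RingTheory.Ideal.GoingUp
import Mathlib.RingTheory.Localization.FractionRing
import Mathlib.Topology.JacobsonSpace
import Mathlib.AlgebraicGeometry.Morphisms.Finite

/-!
# Points of finite type
-/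

universe u

open CategoryTheory CategoryTheory.Limits AlgebraicGeometry Opposite AlgSp Topology

set_option backward.isDefEq.respectTransparency.types false
set_option linter.style.haveILetI false

namespace Groth.L23.FtPt

/-- The image of a field of finite type over a ring is locally closed. -/
theorem exists_singleton_basicOpen {A K : Type u} [CommRing A] [Field K] [Algebra A K] [Algebra.FiniteType A K] :
    ∃ f : A, algebraMap A K f ≠ 0 ∧ ∀ q : Ideal A, q.IsPrime → RingHom.ker (algebraMap A K) ≤ q → f ∉ q →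
      q = RingHom.ker (algebraMap A K) := by
  classical
  let p := RingHom.ker (algebraMap A K)
  have : p.IsPrime := RingHom.ker_isPrime _
  letI : Algebra (A ⧸ p) K := (RingHom.kerLift (algebraMap A K)).toAlgebra
  have : IsScalarTower A (A ⧸ p) K := IsScalarTower.of_algebraMap_eq fun _ => rfl
  have hinj : Function.Injective (algebraMap (A ⧸ p) K) := RingHom.kerLift_injective _
  letI : Algebra (FractionRing (A ⧸ p)) K := (IsFractionRing.lift hinj).toAlgebra
  have : IsScalarTower (A ⧸ p) (FractionRing (A ⧸ p)) K :=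
    IsScalarTower.of_algebraMap_eq fun x => (IsFractionRing.lift_algebraMap hinj x).symm
  have : IsScalarTower A (FractionRing (A ⧸ p)) K := IsScalarTower.of_algebraMap_eq fun x => by
    rw [IsScalarTower.algebraMap_apply A (A ⧸ p) (FractionRing (A ⧸ p)),
      ← IsScalarTower.algebraMap_apply (A ⧸ p) (FractionRing (A ⧸ p)) K, ← IsScalarTower.algebraMap_apply]
  have : Algebra.FiniteType (FractionRing (A ⧸ p)) K :=
    Algebra.FiniteType.of_restrictScalars_finiteType A (FractionRing (A ⧸ p)) K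
  have := finite_of_finite_type_of_isJacobsonRing (FractionRing (A ⧸ p)) K
  have hz : ∀ z : K, ∃ a : A, algebraMap A K a ≠ 0 ∧ IsIntegral A (algebraMap A K a * z) := by
    intro z
    obtain ⟨⟨m, hm⟩, hmz⟩ := IsIntegral.exists_multiple_integral_of_isLocalization
      (nonZeroDivisors (A ⧸ p)) (Rₘ := FractionRing (A ⧸ p)) z (Algebra.IsIntegral.isIntegral z)
    obtain ⟨a, rfl⟩ := Ideal.Quotient.mk_surjective m
    have : Algebra.IsIntegral A (A ⧸ p) := ⟨fun x => by
      obtain ⟨y, rfl⟩ := Ideal.Quotient.mk_surjective x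
      exact isIntegral_algebraMap (R := A) (A := A ⧸ p) (x := y)⟩
    refine ⟨a, fun h0 => nonZeroDivisors.ne_zero hm (Ideal.Quotient.eq_zero_iff_mem.2 h0), ?_⟩
    have := isIntegral_trans (R := A) _ hmz
    rwa [Submonoid.smul_def, Algebra.smul_def] at this
  obtain ⟨s, hs⟩ := (Algebra.FiniteType.out : (⊤ : Subalgebra A K).FG)
  choose g hg0 hg using hz
  let f : A := ∏ x ∈ s, g x
  have hf : algebraMap A K f ≠ 0 := by
    simp only [f, map_prod]
    exact Finset.prod_ne_zero_iff.2 fun x _ => hg0 x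
  have key : ∀ z : K, ∃ n : ℕ, IsIntegral A (algebraMap A K f ^ n * z) := by
    intro z
    have hz : z ∈ Algebra.adjoin A (s : Set K) := by rw [hs]; trivial
    induction hz using Algebra.adjoin_induction with
    | mem x hx =>
      refine ⟨1, ?_⟩
      rw [pow_one, show f = (∏ y ∈ s.erase x, g y) * g x from (Finset.prod_erase_mul s g hx).symm, map_mul,
        mul_assoc]
      exact isIntegral_algebraMap.mul (hg x)
    | algebraMap a => exact ⟨0, by rw [pow_zero, one_mul]; exact isIntegral_algebraMap⟩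
    | add x y _ _ hx hy =>
      obtain ⟨m, hm⟩ := hx
      obtain ⟨n, hn⟩ := hy
      refine ⟨m + n, ?_⟩
      rw [mul_add]
      refine IsIntegral.add ?_ ?_
      · rw [add_comm, pow_add, mul_assoc]; exact (isIntegral_algebraMap.pow n).mul hm
      · rw [pow_add, mul_assoc]; exact (isIntegral_algebraMap.pow m).mul hn
    | mul x y _ _ hx hy =>
      obtain ⟨m, hm⟩ := hx
      obtain ⟨n, hn⟩ := hy
      refine ⟨m + n, ?_⟩
      rw [pow_add, mul_mul_mul_comm]
      exact hm.mul hn
  refine ⟨f, hf, fun q hq hpq hfq => le_antisymm (fun x hx => ?_) hpq⟩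
  by_contra hx0
  obtain ⟨n, hn⟩ := key (algebraMap A K x)⁻¹
  obtain ⟨Q, hQ, hQq⟩ := Ideal.exists_ideal_over_prime_of_isIntegral_of_isDomain
    (S := integralClosure A K) q (fun a ha => hpq (show algebraMap A K a = 0 from congrArg Subtype.val ha))
  have hxQ : algebraMap A (integralClosure A K) x ∈ Q := by
    have : x ∈ q := hx
    rwa [← hQq] at this
  have he : (⟨_, hn⟩ : integralClosure A K) * algebraMap A (integralClosure A K) x =
      algebraMap A (integralClosure A K) f ^ n := Subtype.ext (by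
    show algebraMap A K f ^ n * (algebraMap A K x)⁻¹ * algebraMap A K x = _
    rw [inv_mul_cancel_right₀ (show algebraMap A K x ≠ 0 from hx0)]
    rfl)
  have hfQ := Q.mul_mem_left (⟨_, hn⟩ : integralClosure A K) hxQ
  rw [he] at hfQ
  exact hfq (hQq ▸ hQ.mem_of_pow_mem n hfQ)

/-- Images of reduced points under morphisms locally of finite type are locally closed. -/
theorem isLocallyClosed_image {T V : Scheme.{u}} [Subsingleton T] [IsReduced T] (g : T ⟶ V)
    [LocallyOfFiniteType g] (t : T) : IsLocallyClosed ({g t} : Set V) := by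
  obtain ⟨_, ⟨V', hV', rfl⟩, htV, -⟩ :=
    V.isBasis_affineOpens.exists_subset_of_mem_open (Set.mem_univ (g t)) isOpen_univ
  change V.Opens at V'
  have : IsAffine (V' : Scheme.{u}) := hV'
  have : Nonempty T := ⟨t⟩
  have : IrreducibleSpace T := ⟨‹_›⟩
  have : IsIntegral T := isIntegral_of_irreducibleSpace_of_isReduced _
  let := (isField_of_isIntegral_of_subsingleton T).toField
  let g₀ : T ⟶ (V' : Scheme.{u}) := IsOpenImmersion.lift V'.ι g (by
    rintro _ ⟨x, rfl⟩
    rw [Scheme.Opens.range_ι, Subsingleton.elim x t]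
    exact htV)
  have : LocallyOfFiniteType (g₀ ≫ V'.ι) := by rw [IsOpenImmersion.lift_fac]; infer_instance
  have : LocallyOfFiniteType g₀ := locallyOfFiniteType_of_comp g₀ V'.ι
  let g₁ : Spec Γ(T, ⊤) ⟶ Spec Γ((V' : Scheme.{u}), ⊤) :=
    T.isoSpec.inv ≫ g₀ ≫ (V' : Scheme.{u}).isoSpec.hom
  have : LocallyOfFiniteType g₁ := inferInstance
  obtain ⟨φ, hφ⟩ := Spec.map_surjective g₁
  have hft : φ.hom.FiniteType := by
    rw [← HasRingHomProperty.Spec_iff (P := @LocallyOfFiniteType), hφ]; infer_instance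
  algebraize [φ.hom]
  obtain ⟨f, hf, hsing⟩ := exists_singleton_basicOpen (A := Γ((V' : Scheme.{u}), ⊤)) (K := Γ(T, ⊤))
  let P : PrimeSpectrum Γ((V' : Scheme.{u}), ⊤) := ⟨_, RingHom.ker_isPrime (algebraMap Γ((V' : Scheme.{u}), ⊤) Γ(T, ⊤))⟩
  have hP : IsLocallyClosed ({P} : Set (PrimeSpectrum Γ((V' : Scheme.{u}), ⊤))) := by
    refine ⟨_, _, (PrimeSpectrum.basicOpen f).2, PrimeSpectrum.isClosed_zeroLocus (P.asIdeal : Set _), ?_⟩
    ext q
    constructor
    · rintro rfl
      exact ⟨hf, fun _ h => h⟩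
    · rintro ⟨h₁, h₂⟩
      exact PrimeSpectrum.ext (hsing q.asIdeal q.2 h₂ h₁)
  let e : ↥(Spec Γ((V' : Scheme.{u}), ⊤)) → V := fun q => V'.ι ((V' : Scheme.{u}).isoSpec.inv q)
  have he : IsOpenEmbedding e := ((V' : Scheme.{u}).isoSpec.inv ≫ V'.ι).isOpenEmbedding
  have : ({g t} : Set V) = e '' {P} := by
    refine Eq.trans ?_ (Set.image_singleton (f := e) (a := P)).symm
    refine congrArg _ ?_
    show g t = e P
    have hgP : g₁ (T.isoSpec.hom t) = P := by
      rw [← hφ]
      refine PrimeSpectrum.ext ?_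
      ext a
      show φ.hom a ∈ (T.isoSpec.hom t).asIdeal ↔ _
      rw [(Ideal.eq_bot_or_top (T.isoSpec.hom t).asIdeal).resolve_right (T.isoSpec.hom t).2.ne_top, Ideal.mem_bot]
      rfl
    show g t = ((V' : Scheme.{u}).isoSpec.inv ≫ V'.ι) P
    rw [← hgP, ← Scheme.Hom.comp_apply, ← Scheme.Hom.comp_apply]
    simp only [g₁, Category.assoc, Iso.hom_inv_id_assoc, g₀, IsOpenImmersion.lift_fac]
  rw [this]
  exact hP.image he.isInducing he.isOpen_range.isLocallyClosed

variable {S : Scheme.{u}} {X : Sp S}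

/-- Points with a morphism of finite type from a field. -/
def IsFt (x : Points X) : Prop :=
  ∃ (k : Type u) (_ : Field k) (str : Spec (CommRingCat.of k) ⟶ S) (ξ : (yon S).obj (Over.mk str) ⟶ X),
    LocP @LocallyOfFiniteType ξ ∧ Points.ofPt ξ (IsLocalRing.closedPoint k) = x

/-- A closed point of a chart is of finite type. -/
theorem isFt_of_closed {U : Over S} {φ : (yon S).obj U ⟶ X} (hφ : RepWith @Etale φ) {u : U.left}
    (hu : IsClosed ({u} : Set U.left)) : IsFt (Points.ofPt φ u) := by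
  let str : Spec (CommRingCat.of (U.left.residueField u)) ⟶ S := U.left.fromSpecResidueField u ≫ U.hom
  let m : Over.mk str ⟶ U := Over.homMk (U.left.fromSpecResidueField u)
  have hm : LocallyOfFiniteType m.left := by
    have := isClosed_singleton_iff_isClosedImmersion.mp hu
    exact inferInstanceAs (LocallyOfFiniteType (U.left.fromSpecResidueField u))
  refine ⟨U.left.residueField u, inferInstance, str, (yon S).map m ≫ φ, locP_of_repWith etLocal_lft (repWith_comp (repWith_map hm)
    (repWith_mono (fun ψ (_ : Etale ψ) => inferInstanceAs (LocallyOfFiniteType ψ)) hφ)), ?_⟩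
  rw [ofPt_comp]
  exact congrArg _ (Scheme.fromSpecResidueField_apply _ _)

/-- Points of finite type are closed points of charts. -/
theorem exists_closed_of_isFt (hX : IsAlgSpace X) {x : Points X} (hx : IsFt x) :
    ∃ (U : Over S) (φ : (yon S).obj U ⟶ X) (u : U.left), RepWith @Etale φ ∧ IsClosed ({u} : Set U.left) ∧
      Points.ofPt φ u = x := by
  obtain ⟨k, _, str, ξ, hξ, rfl⟩ := hx
  obtain ⟨V, b, hb, hbs⟩ := hX.atlas
  obtain ⟨v₀, hv₀⟩ := surjective_ofPt hbs (Points.ofPt ξ (IsLocalRing.closedPoint k))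
  obtain ⟨R, p, q, sq⟩ := exists_isPullback_of_representable (hX.representable_from_yon ξ) b
  obtain ⟨r, hr, hr'⟩ := (ofPt_eq_ofPt_iff sq (IsLocalRing.closedPoint k) v₀).1 hv₀.symm
  let p' : R.left ⟶ Spec (CommRingCat.of k) := p.left
  have : Etale p' := repWith_prop hb sq.flip
  have hpe : RepWith @Etale ((yon S).map p) := repWith_map ‹Etale p'›
  have : LocallyOfFiniteType q.left := hξ ((yon S).map p) b q hpe hb sq.w
  have : IsReduced R.left := isReduced_of_etale p'
  have := lqf_of_etale p'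
  have hd : _root_.IsDiscrete (Set.univ : Set R.left) := by
    have h := p'.isDiscrete_preimage_singleton (IsLocalRing.closedPoint k)
    convert h using 1
    exact (Set.eq_univ_of_forall fun z => Subsingleton.elim (α := PrimeSpectrum k) _ _).symm
  obtain ⟨O, hO, hOr⟩ := isDiscrete_iff_forall_mem_exists_isOpen.1 hd r trivial
  rw [Set.inter_univ] at hOr
  let G : R.left.Opens := ⟨O, hO⟩
  have : Subsingleton (G : Scheme.{u}) := ⟨fun a c => Subtype.ext
    ((hOr.le a.2).trans (hOr.le c.2).symm)⟩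
  have : IsReduced (G : Scheme.{u}) := isReduced_of_isOpenImmersion G.ι
  have hlc := isLocallyClosed_image (G.ι ≫ q.left) ⟨r, hOr.ge rfl⟩
  rw [Scheme.Hom.comp_apply] at hlc
  change IsLocallyClosed ({q.left r} : Set V.left) at hlc
  rw [hr'] at hlc
  obtain ⟨U₀, C, hU₀, hC, hUC⟩ := hlc
  let W : V.left.Opens := ⟨U₀, hU₀⟩
  have hv : v₀ ∈ W := (hUC.le rfl).1
  refine ⟨Over.mk (W.ι ≫ V.hom), (yon S).map (Over.homMk W.ι rfl) ≫ b, ⟨v₀, hv⟩,
    repWith_comp (repWith_etale_openMk W) hb, ?_, (ofPt_openMk W b ⟨v₀, hv⟩).trans hv₀⟩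
  have : ({(⟨v₀, hv⟩ : ↥(W : Scheme.{u}))} : Set ↥(W : Scheme.{u})) = W.ι ⁻¹' C :=
    Set.ext fun z => ⟨fun hz => hz ▸ (hUC.le rfl).2, fun hz => Subtype.ext (hUC.ge ⟨z.2, hz⟩)⟩
  show IsClosed ({(⟨v₀, hv⟩ : ↥(W : Scheme.{u}))} : Set ↥(W : Scheme.{u}))
  rw [this]
  exact hC.preimage W.ι.continuous

/-- Nonempty locally closed sets of schemes meet the closed points of a chart. -/
theorem exists_closed_chart {U : Over S} {φ : (yon S).obj U ⟶ X} (hφ : RepWith @Etale φ) {Z : Set U.left}
    (hZ : IsLocallyClosed Z) (hne : Z.Nonempty) : ∃ u ∈ Z, IsFt (Points.ofPt φ u) := by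
  obtain ⟨z, hz⟩ := hne
  obtain ⟨O, C, hO, hC, rfl⟩ := hZ
  obtain ⟨_, ⟨B, hB, rfl⟩, hzB, hBO⟩ := U.left.isBasis_affineOpens.exists_subset_of_mem_open hz.1 hO
  change U.left.Opens at B
  let W : Over S := Over.mk (B.ι ≫ U.hom)
  have : IsAffine W.left := hB
  let ι' : W.left ⟶ U.left := B.ι
  obtain ⟨u, huC, hu⟩ := (hC.preimage ι'.continuous).exists_closed_singleton (S := ι' ⁻¹' C) ⟨⟨z, hzB⟩, hz.2⟩
  refine ⟨ι' u, ⟨hBO u.2, huC⟩, ?_⟩
  have := isFt_of_closed (φ := (yon S).map (Over.homMk B.ι rfl : W ⟶ U) ≫ φ)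
    (repWith_comp (repWith_etale_openMk B) hφ) hu
  rwa [ofPt_openMk B φ u] at this

/-- Finite type points lift along surjective morphisms locally of finite type. -/
theorem exists_isFt_over {Y : Sp S} (hX : IsAlgSpace X) (hY : IsAlgSpace Y) (f : X ⟶ Y)
    (hf : LocP @LocallyOfFiniteType f) (hs : Function.Surjective (Points.map f)) {y : Points Y} (hy : IsFt y) :
    ∃ x, Points.map f x = y ∧ IsFt x := by
  obtain ⟨V, b, v, hb, hv, rfl⟩ := exists_closed_of_isFt hY hy
  have sq := IsPullback.of_hasPullback f b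
  obtain ⟨W, p, hp, hps⟩ := (isAlgSpace_of_isPullback hY.diag hX (IsAlgSpace.yon_obj V) sq).atlas
  obtain ⟨h, hh⟩ := (yon S).map_surjective (p ≫ pullback.snd f b)
  have w : (p ≫ pullback.fst f b) ≫ f = (yon S).map h ≫ b := by
    rw [hh, Category.assoc, pullback.condition, Category.assoc]
  obtain ⟨x₀, hx₀⟩ := hs (Points.ofPt b v)
  obtain ⟨z, -, hz⟩ := exists_of_isPullback sq x₀ (Points.ofScheme V v) (by rwa [← Points.ofPt_eq_map_ofScheme])
  obtain ⟨w₀, rfl⟩ := surjective_ofPt hps z
  have hw₀ : h.left w₀ = v := by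
    refine (Points.schemeEquiv V).injective ?_
    show Points.ofScheme V _ = Points.ofScheme V v
    rw [← ofPt_map, hh, ← Points.map_ofPt]
    exact hz
  have ha : RepWith @Etale (p ≫ pullback.fst f b) := repWith_comp hp (repWith_of_isPullback sq.flip hb)
  obtain ⟨u, hu, hft⟩ := exists_closed_chart ha (Z := h.left ⁻¹' {v})
    (hv.preimage h.left.continuous).isLocallyClosed ⟨w₀, hw₀⟩
  exact ⟨_, by rw [Points.map_ofPt, w, ofPt_comp, show h.left u = v from hu], hft⟩

end Groth.L23.FtPt
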