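import Groth.Agent.L09.Residual.Space
import Groth.Agent.L23.FtPoint

/-!
# Points of finite type as monomorphisms from quotients of spectra of fields
-/

universe u

open CategoryTheory CategoryTheory.Limits AlgebraicGeometry Opposite AlgSp Groth.L23.Pt Groth.L09.Residual

set_option autoImplicit false
set_option backward.isDefEq.respectTransparency false
set_option backward.isDefEq.respectTransparency.types false
set_option linter.style.haveILetI false

noncomputable section

namespace Groth.L23.FtSpace

variable {S : Scheme.{u}} {X : Sp S}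

/-- The residual space at a point of finite type, covered etale by a field. -/
theorem exists_ftSpace (hX : IsAlgSpace X) {x : Points X} (hx : FtPt.IsFt x) :
    ∃ (Z : Sp S) (i : Z ⟶ X) (k : Type u) (_ : Field k) (str : Spec (CommRingCat.of k) ⟶ S)
      (p : (yon S).obj (Over.mk str) ⟶ Z), IsAlgSpace Z ∧ Mono i ∧ Set.range (Points.map i) = {x} ∧
        RepWith @Etale p ∧ RepWith @Surjective p ∧
        LocP @LocallyOfFiniteType i ∧ Points.ofPt (p ≫ i) (IsLocalRing.closedPoint k) = x := by
  obtain ⟨U, a, u, ha, hu, rfl⟩ := FtPt.exists_closed_of_isFt hX hx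
  obtain ⟨R, s, t, sq, ht, hs⟩ := exists_etale_kernel hX ha u
  let P : Over S := Over.mk (U.left.fromSpecResidueField u ≫ U.hom)
  let ι : P ⟶ U := Over.homMk (U.left.fromSpecResidueField u) rfl
  let q := (yon S).map ι ≫ a
  let π := quotSpπ ((yon S).map s) ((yon S).map t)
  have hker : IsPullback ((yon S).map t) ((yon S).map s) π π :=
    Groth.L24.Boot.isPullback_quotSpπ (Groth.L24.Boot.isEqvRelSp_of_isEqvRel (isEqvRel_of_kernel sq))
  have : Epi π := coequalizer.π_epi
  have hZ : IsAlgSpace (quotSp ((yon S).map s) ((yon S).map t)) :=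
    Groth.L24.Boot.isAlgSpace_of_kernelPair hker (IsAlgSpace.yon_obj R) (IsAlgSpace.yon_obj P)
      (locP_of_repWith etLocal_flat (repWith_map (show Flat t.left from inferInstance)))
      (locP_of_repWith etLocal_lfp (repWith_map (show LocallyOfFinitePresentation t.left from inferInstance)))
  have hπ : Representable π := hZ.representable_from_yon π
  have : Sheaf.IsLocallySurjective π := (Sheaf.isLocallySurjective_iff_epi' _ π).2 inferInstance
  have := etLocal_etale.{u}.target
  have hπe : RepWith @Etale π := (repWith_iff_of_chart hπ hker).2 hs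
  have hss : Surjective s.left := by
    obtain ⟨d, -, hd⟩ := exists_lift_yon sq (𝟙 _) (𝟙 _) rfl
    exact ⟨fun z => ⟨d.left z, by
      rw [← Scheme.Hom.comp_apply, show d.left ≫ s.left = 𝟙 _ from congr_arg CommaMorphism.left hd]; rfl⟩⟩
  have hπs : RepWith @Surjective π := by
    have hp : Function.Surjective (Points.map π) := fun z => by
      obtain ⟨T, g, τ, rfl⟩ := exists_eq_ofPt z
      obtain ⟨T', φ, v, -, -, hφs, hv⟩ := Groth.L24.Boot.exists_lift_of_epi π g
      obtain ⟨τ', rfl⟩ := hφs.surj τ
      exact ⟨Points.ofPt v τ', by rw [Points.map_ofPt, hv, ofPt_comp]⟩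
    exact repWith_surjective_of_map hπ hp
  let i := quotSpDesc q (show (yon S).map s ≫ q = (yon S).map t ≫ q from sq.w.symm)
  have hπi : π ≫ i = q := coequalizer.π_desc q _
  refine ⟨_, i, U.left.residueField u, inferInstance, _, π, hZ, ?_, ?_, hπe, hπs, ?_, ?_⟩
  · refine mono_of_yon fun T y y' hy => ?_
    have hA := hπe.1.isPullback y
    have := epi_of_repWith _ (repWith_of_isPullback hA hπe) (repWith_of_isPullback hA hπs)
    rw [← cancel_epi ((yon S).map (hπe.1.snd y))]
    have hB := hπe.1.isPullback ((yon S).map (hπe.1.snd y) ≫ y')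
    have := epi_of_repWith _ (repWith_of_isPullback hB hπe) (repWith_of_isPullback hB hπs)
    rw [← cancel_epi ((yon S).map (hπe.1.snd ((yon S).map (hπe.1.snd y) ≫ y')))]
    obtain ⟨l, hl₀, hl₁⟩ := sq.exists_lift
      ((yon S).map (hπe.1.snd ((yon S).map (hπe.1.snd y) ≫ y')) ≫ hπe.1.fst y)
      (hπe.1.fst ((yon S).map (hπe.1.snd y) ≫ y')) (by
        show _ ≫ q = _ ≫ q
        rw [← hπi, Category.assoc, reassoc_of% hA.w, reassoc_of% hB.w, hy])
    rw [← hA.w, ← hB.w, ← reassoc_of% hl₀, ← reassoc_of% hl₁, hker.w]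
  · have hsub := subsingleton_points_of_field (surjective_ofPt hπs)
    have key : Points.map i (Points.ofPt π (IsLocalRing.closedPoint (U.left.residueField u))) = Points.ofPt a u := by
      rw [Points.map_ofPt, hπi]
      show Points.ofPt ((yon S).map ι ≫ a) _ = _
      rw [ofPt_comp]
      exact congrArg (Points.ofPt a) (Scheme.fromSpecResidueField_apply u _)
    ext y
    constructor
    · rintro ⟨z, rfl⟩
      rw [Subsingleton.elim z (Points.ofPt π (IsLocalRing.closedPoint (U.left.residueField u)))]
      exact key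
    · rintro rfl
      exact ⟨_, key⟩
  · haveI := isClosed_singleton_iff_isClosedImmersion.mp hu
    refine locP_of_chart etLocal_lft hπe hπs ha (h := ι) hπi ?_
    exact inferInstanceAs (LocallyOfFiniteType (U.left.fromSpecResidueField u))
  · rw [hπi]
    show Points.ofPt ((yon S).map ι ≫ a) _ = _
    rw [ofPt_comp]
    exact congrArg (Points.ofPt a) (Scheme.fromSpecResidueField_apply u _)

/-- A one point space locally of finite type gives a point of finite type. -/
theorem isFt_of_space {Z : Sp S} (hX : IsAlgSpace X) (hZ : IsAlgSpace Z) (f : Z ⟶ X)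
    (hu : Nonempty (Unique (Points Z))) (hf : LocP @LocallyOfFiniteType f) {x : Points X}
    (hr : Set.range (Points.map f) = {x}) : FtPt.IsFt x := by
  obtain ⟨hu⟩ := hu
  obtain ⟨U, a, ha, has⟩ := hZ.atlas
  obtain ⟨u₀, -⟩ := surjective_ofPt has default
  obtain ⟨u, -, k, hk, str, ξ, hξ, he⟩ := FtPt.exists_closed_chart ha (Z := Set.univ) isClosed_univ.isLocallyClosed ⟨u₀, trivial⟩
  refine ⟨k, hk, str, ξ ≫ f, locP_comp etLocal_lft (IsAlgSpace.yon_obj _) hZ hX hξ hf, ?_⟩
  rw [← Points.map_ofPt, he]
  exact Set.mem_singleton_iff.1 (hr ▸ Set.mem_range_self _)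

end Groth.L23.FtSpace
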