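import Groth.Agent.L20.SchDesc.Main
import Groth.Agent.L23.AdeqSite.Fpqc
import Groth.Agent.L23.SchemeLocus
import Groth.Agent.L23.Epi
import Groth.Agent.L24.Hensel.PointChart
import Groth.Agent.S1402
import Mathlib.AlgebraicGeometry.Morphisms.LocalFlatDescent

/-!
# Algebraic spaces are sheaves for the fpqc topology
-/

universe u

open CategoryTheory CategoryTheory.Limits AlgebraicGeometry AlgSp Opposite

set_option backward.isDefEq.respectTransparency.types false
set_option linter.style.haveILetI false

namespace Groth.L23.Gabber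

variable {S : Scheme.{u}} {X : Sp S}

/-- A monomorphism over the base is a monomorphism of schemes. -/
theorem mono_left {A B : Over S} (e : A ⟶ B) [Mono e] : Mono e.left := by
  refine ⟨fun {Z} g h w => ?_⟩
  have hs : h ≫ A.hom = g ≫ A.hom := by
    rw [← Over.w e, ← Category.assoc, ← w, Category.assoc]
  let g' : Over.mk (g ≫ A.hom) ⟶ A := Over.homMk g rfl
  let h' : Over.mk (g ≫ A.hom) ⟶ A := Over.homMk h hs
  exact congrArg CommaMorphism.left ((cancel_mono e).1 (Over.OverMorphism.ext w : g' ≫ e = h' ≫ e))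

/-- Two maps to an algebraic space agreeing after a quasi-compact flat surjection agree. -/
theorem eq_of_cover (hX : IsAlgSpace X) {T T' : Over S} (π : T' ⟶ T) [Flat π.left] [Surjective π.left]
    [QuasiCompact π.left] (a b : (yon S).obj T ⟶ X) (h : (yon S).map π ≫ a = (yon S).map π ≫ b) : a = b := by
  have sq := hX.diag.isPullback (prod.lift a b)
  set e := hX.diag.snd (prod.lift a b)
  set d := hX.diag.fst (prod.lift a b)
  have hd₁ : d = (yon S).map e ≫ a := by
    have := congrArg (· ≫ prod.fst) sq.w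
    simp only [Category.assoc] at this
    rwa [prod.lift_fst, prod.lift_fst, Category.comp_id] at this
  have hd₂ : d = (yon S).map e ≫ b := by
    have := congrArg (· ≫ prod.snd) sq.w
    simp only [Category.assoc] at this
    rwa [prod.lift_snd, prod.lift_snd, Category.comp_id] at this
  have : Mono e := by
    refine ⟨fun {Z} g g' w => (yon S).map_injective (sq.hom_ext ?_ ?_)⟩
    · rw [hd₁, ← Functor.map_comp_assoc, ← Functor.map_comp_assoc, w]
    · rw [← Functor.map_comp, ← Functor.map_comp, w]
  obtain ⟨t', ht'⟩ : ∃ t' : T' ⟶ hX.diag.pullback (prod.lift a b), t' ≫ e = π := by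
    obtain ⟨l, hl⟩ := (yon S).map_surjective (sq.lift ((yon S).map π ≫ a) ((yon S).map π) (by
      apply Limits.prod.hom_ext
      · simp only [Category.assoc, prod.lift_fst, prod.comp_lift, Category.comp_id]
      · simp only [Category.assoc, prod.lift_snd, prod.comp_lift, Category.comp_id, h]))
    exact ⟨l, (yon S).map_injective (by rw [Functor.map_comp, hl, sq.lift_snd])⟩
  have := mono_left e
  have : IsIso (pullback.snd e.left π.left) := by
    have : Mono (pullback.snd e.left π.left) := inferInstance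
    have : IsSplitEpi (pullback.snd e.left π.left) :=
      IsSplitEpi.mk' ⟨pullback.lift t'.left (𝟙 _) (by
        rw [Category.id_comp, ← Over.comp_left, ht']), pullback.lift_snd _ _ _⟩
    exact isIso_of_mono_of_isSplitEpi _
  have : IsIso e.left :=
    MorphismProperty.of_pullback_snd_of_descendsAlong (P := MorphismProperty.isomorphisms Scheme.{u})
      (Q := (@Surjective ⊓ @Flat ⊓ @QuasiCompact : MorphismProperty Scheme.{u})) (g := π.left)
      ⟨⟨inferInstance, inferInstance⟩, inferInstance⟩ this
  have : IsIso ((Over.forget S).map e) := this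
  have := isIso_of_reflects_iso e (Over.forget S)
  rw [← cancel_epi ((yon S).map e), ← hd₁, hd₂]

theorem ext_left {F : Sp S} {U T' V : Over S} {x' : (yon S).obj T' ⟶ F} {p : (yon S).obj U ⟶ F} {g : V ⟶ T'}
    {u : V ⟶ U} (sqV : IsPullback ((yon S).map u) ((yon S).map g) p x') {Z : Scheme.{u}} (v w : Z ⟶ V.left)
    (eg : v ≫ g.left = w ≫ g.left) (eu : v ≫ u.left = w ≫ u.left) : v = w := by
  have hs : w ≫ V.hom = v ≫ V.hom := by
    rw [← Over.w g, ← Category.assoc, ← eg, Category.assoc]
  let v' : Over.mk (v ≫ V.hom) ⟶ V := Over.homMk v rfl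
  let w' : Over.mk (v ≫ V.hom) ⟶ V := Over.homMk w hs
  refine congrArg CommaMorphism.left ((yon S).map_injective (sqV.hom_ext ?_ ?_) : v' = w')
  · rw [← Functor.map_comp, ← Functor.map_comp]
    exact congrArg (yon S).map (Over.OverMorphism.ext eu)
  · rw [← Functor.map_comp, ← Functor.map_comp]
    exact congrArg (yon S).map (Over.OverMorphism.ext eg)

/-- A separated etale atlas. -/
theorem exists_separated_atlas (hX : IsAlgSpace X) : ∃ (U : Over S) (p : (yon S).obj U ⟶ X),
    IsSeparated U.hom ∧ RepWith @Etale p ∧ RepWith @Surjective p := by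
  obtain ⟨U₀, p₀, hp, hps⟩ := hX.atlas
  let 𝒰 := U₀.left.affineCover
  have := Groth.L24.Hensel.isSeparated_sigma_affine (fun i => 𝒰.X i)
  let j : ∐ (fun i => 𝒰.X i) ⟶ U₀.left := Sigma.desc fun i => 𝒰.f i
  have : Surjective j := ⟨fun x => by
    obtain ⟨i, y, rfl⟩ := 𝒰.exists_eq x
    exact ⟨Sigma.ι (fun i => 𝒰.X i) i y, by rw [← Scheme.Hom.comp_apply, Sigma.ι_desc]⟩⟩
  have : Etale j := IsZariskiLocalAtSource.sigmaDesc fun i => inferInstance
  let U : Over S := Over.mk (j ≫ U₀.hom)
  let j' : U ⟶ U₀ := Over.homMk j rfl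
  refine ⟨U, (yon S).map j' ≫ p₀, ?_, repWith_comp (repWith_map (inferInstanceAs (Etale j))) hp,
    repWith_comp (repWith_map (inferInstanceAs (Surjective j))) hps⟩
  have : IsSeparated ((j ≫ U₀.hom) ≫ terminal.from S) := by
    rw [Subsingleton.elim ((j ≫ U₀.hom) ≫ terminal.from S) (terminal.from _)]
    exact Scheme.IsSeparated.isSeparated_terminal_from
  exact IsSeparated.of_comp (j ≫ U₀.hom) (terminal.from S)

/-- Maps to an algebraic space descend along quasi-compact flat surjections. -/
theorem exists_desc (hX : IsAlgSpace X) {T T' : Over S} (π : T' ⟶ T) [Flat π.left] [Surjective π.left]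
    [QuasiCompact π.left] (x' : (yon S).obj T' ⟶ X)
    (hx : ∀ {Z : Over S} (k₁ k₂ : Z ⟶ T'), k₁ ≫ π = k₂ ≫ π →
      (yon S).map k₁ ≫ x' = (yon S).map k₂ ≫ x') :
    ∃ x : (yon S).obj T ⟶ X, (yon S).map π ≫ x = x' := by
  obtain ⟨U, p, hU, hp, hps⟩ := exists_separated_atlas hX
  let g := hp.1.snd x'
  obtain ⟨u, hu⟩ := (yon S).map_surjective (hp.1.fst x')
  have sqV : IsPullback ((yon S).map u) ((yon S).map g) p x' := by rw [hu]; exact hp.1.isPullback x'
  have : Etale g.left := repWith_snd hp x'
  have : Surjective g.left := repWith_snd hps x'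
  have : IsSeparated g.left := by
    let m : (hp.1.pullback x').left ⟶ pullback U.hom T'.hom :=
      pullback.lift u.left g.left ((Over.w u).trans (Over.w g).symm)
    have hm₁ : m ≫ pullback.fst U.hom T'.hom = u.left := pullback.lift_fst _ _ _
    have hm₂ : m ≫ pullback.snd U.hom T'.hom = g.left := pullback.lift_snd _ _ _
    have : Mono m := ⟨fun v w e => ext_left sqV v w
      (by rw [← hm₂, reassoc_of% e])
      (by rw [← hm₁, reassoc_of% e])⟩
    have : IsSeparated (pullback.snd U.hom T'.hom) := MorphismProperty.pullback_snd _ _ hU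
    rw [show g.left = m ≫ pullback.snd _ _ from (pullback.lift_snd _ _ _).symm]
    infer_instance
  have := lqf_of_etale g.left
  -- the descent datum
  have key : ∀ {Z : Scheme.{u}} (v : Z ⟶ (hp.1.pullback x').left) (z : Z ⟶ T'.left),
      v ≫ g.left ≫ π.left = z ≫ π.left →
      ∃ w : Z ⟶ (hp.1.pullback x').left, w ≫ g.left = z ∧ w ≫ u.left = v ≫ u.left := by
    intro Z v z e
    have hs : z ≫ T'.hom = v ≫ (hp.1.pullback x').hom := by
      rw [← Over.w π, ← reassoc_of% e, Over.w π, Over.w g]
    let v' : Over.mk (v ≫ (hp.1.pullback x').hom) ⟶ hp.1.pullback x' := Over.homMk v rfl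
    let z' : Over.mk (v ≫ (hp.1.pullback x').hom) ⟶ T' := Over.homMk z hs
    obtain ⟨w, hw⟩ := (yon S).map_surjective (sqV.lift ((yon S).map (v' ≫ u)) ((yon S).map z') (by
      rw [Functor.map_comp, Category.assoc, sqV.w, ← Functor.map_comp_assoc]
      exact hx _ _ (Over.OverMorphism.ext ((Category.assoc _ _ _).trans e))))
    refine ⟨w.left, ?_, ?_⟩
    · exact congrArg CommaMorphism.left (show w ≫ g = z' from
        (yon S).map_injective (by rw [Functor.map_comp, hw, sqV.lift_snd]))
    · exact congrArg CommaMorphism.left (show w ≫ u = v' ≫ u from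
        (yon S).map_injective (by rw [Functor.map_comp, hw, sqV.lift_fst]))
  let P : Groth.L20.SchDesc.Pre π.left g.left :=
    { act := fun v z h => (key v z h).choose
      hom := fun v z h => (key v z h).choose_spec.1
      natural := fun k v z h h' => by
        refine ext_left sqV _ _ ?_ ?_
        · rw [(key _ _ h').choose_spec.1, Category.assoc, (key v z h).choose_spec.1]
        · rw [(key _ _ h').choose_spec.2, Category.assoc, Category.assoc, (key v z h).choose_spec.2]
      self := fun v h => ext_left sqV _ _ (key v _ h).choose_spec.1 (key v _ h).choose_spec.2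
      comp := fun v z y h h' h'' => ext_left sqV _ _
        ((key _ _ h').choose_spec.1.trans (key v y h'').choose_spec.1.symm)
        ((key _ _ h').choose_spec.2.trans ((key v z h).choose_spec.2.trans (key v y h'').choose_spec.2.symm)) }
  obtain ⟨d⟩ := Groth.L20.SchDesc.effective_of_isIndQuasiAffineHom (p := π.left) (f := g.left)
    (Groth.Agent.S1402.result g.left) P
  let W : Over S := Over.mk (d.a ≫ T.hom)
  let aW : W ⟶ T := Over.homMk d.a rfl
  let q : hp.1.pullback x' ⟶ W := Over.homMk d.q (by
    show d.q ≫ d.a ≫ T.hom = _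
    rw [← reassoc_of% d.isPullback.w, Over.w π, Over.w g])
  have hqa : q ≫ aW = g ≫ π := Over.OverMorphism.ext d.isPullback.w.symm
  have hqflat : Flat d.q := MorphismProperty.of_isPullback d.isPullback inferInstance
  have hqsurj : Surjective d.q := MorphismProperty.of_isPullback d.isPullback inferInstance
  have hqqc : QuasiCompact d.q := MorphismProperty.of_isPullback d.isPullback inferInstance
  have : Etale d.a :=
    MorphismProperty.of_isPullback_of_descendsAlong (P := @Etale)
      (Q := (@Surjective ⊓ @Flat ⊓ @QuasiCompact : MorphismProperty Scheme.{u})) d.isPullback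
      ⟨⟨inferInstance, inferInstance⟩, inferInstance⟩ ‹Etale g.left›
  have : Surjective d.a := by
    have : Surjective (d.q ≫ d.a) := by rw [← d.isPullback.w]; infer_instance
    exact Surjective.of_comp d.q d.a
  obtain ⟨m, hm⟩ := Groth.L20.SchDesc.Cov.exists_desc (p := d.q) u.left fun k₁ k₂ e => by
    have hc := d.cond k₁ k₂ e
    have := (key k₁ _ hc).choose_spec.2
    rw [show (key k₁ _ hc).choose = k₂ from d.act_eq k₁ k₂ e hc] at this
    exact this.symm
  have := Flat.epi_of_flat_of_surjective d.q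
  let m' : W ⟶ U := Over.homMk m (by
    rw [← cancel_epi d.q, ← Category.assoc, hm, Over.w u]
    exact (Over.w q).symm)
  have hqm : q ≫ m' = u := Over.OverMorphism.ext hm
  have hc : ∀ {Z : Over S} (k₁ k₂ : Z ⟶ W), k₁ ≫ aW = k₂ ≫ aW →
      (yon S).map k₁ ≫ (yon S).map m' ≫ p = (yon S).map k₂ ≫ (yon S).map m' ≫ p := by
    intro Z k₁ k₂ e
    let r := pullback.fst (k₁ ≫ aW) π
    have sqr := (IsPullback.of_hasPullback (k₁ ≫ aW) π).flip.map (Over.forget S)
    have : Flat r.left := MorphismProperty.of_isPullback sqr ‹Flat π.left›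
    have : Surjective r.left := MorphismProperty.of_isPullback sqr ‹Surjective π.left›
    have : QuasiCompact r.left := MorphismProperty.of_isPullback sqr ‹QuasiCompact π.left›
    refine eq_of_cover hX r _ _ ?_
    have hl : ∀ k : Z ⟶ W, k ≫ aW = k₁ ≫ aW →
        ∃ l : pullback (k₁ ≫ aW) π ⟶ hp.1.pullback x', l ≫ q = r ≫ k ∧ l ≫ g = pullback.snd (k₁ ≫ aW) π := by
      intro k hk
      have w : (pullback.snd (k₁ ≫ aW) π).left ≫ π.left = (r ≫ k).left ≫ d.a := by
        refine (congrArg CommaMorphism.left (pullback.condition (f := k₁ ≫ aW) (g := π))).symm.trans ?_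
        show r.left ≫ (k₁ ≫ aW).left = (r.left ≫ k.left) ≫ d.a
        exact (congrArg (r.left ≫ ·) (congrArg CommaMorphism.left hk).symm).trans (Category.assoc _ _ _).symm
      let l := d.isPullback.lift _ _ w
      refine ⟨Over.homMk l ?_, ?_, ?_⟩
      · show l ≫ (hp.1.pullback x').hom = _
        rw [← Over.w g, ← Category.assoc, d.isPullback.lift_fst, Over.w]
      · exact Over.OverMorphism.ext (d.isPullback.lift_snd _ _ w)
      · exact Over.OverMorphism.ext (d.isPullback.lift_fst _ _ w)
    obtain ⟨l₁, hl₁, hl₁'⟩ := hl k₁ rfl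
    obtain ⟨l₂, hl₂, hl₂'⟩ := hl k₂ e.symm
    rw [← Functor.map_comp_assoc, ← Functor.map_comp_assoc, ← Functor.map_comp_assoc, ← Functor.map_comp_assoc,
      ← hl₁, ← hl₂, Category.assoc, Category.assoc, hqm, Functor.map_comp_assoc, Functor.map_comp_assoc, sqV.w,
      ← Functor.map_comp_assoc, ← Functor.map_comp_assoc, hl₁', hl₂']
  have : Epi ((yon S).map aW) :=
    Groth.L23.epi_of_repWith _ (repWith_map (inferInstanceAs (Etale d.a)))
      (repWith_map (inferInstanceAs (Surjective d.a)))
  obtain ⟨hcl⟩ := nonempty_isColimit_cofork ((yon S).map aW) ((IsPullback.of_hasPullback aW aW).map (yon S))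
  let x := hcl.desc (Cofork.ofπ ((yon S).map m' ≫ p) (hc _ _ pullback.condition))
  have hxW : (yon S).map aW ≫ x = (yon S).map m' ≫ p := hcl.fac _ WalkingParallelPair.one
  refine ⟨x, ?_⟩
  have : Epi ((yon S).map g) :=
    Groth.L23.epi_of_repWith _ (repWith_map ‹Etale g.left›) (repWith_map ‹Surjective g.left›)
  rw [← cancel_epi ((yon S).map g), ← Functor.map_comp_assoc, ← hqa, Functor.map_comp_assoc, hxW,
    ← Functor.map_comp_assoc, hqm, sqV.w]

/-- The sheaf condition for one quasi-compact flat surjection, on pairs. -/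
theorem isSheafFor_tot (hX : IsAlgSpace X) {R B : Scheme.{u}} (f : B ⟶ R) [Flat f] [Surjective f] [QuasiCompact f] :
    Presieve.IsSheafFor (Adq.tot X.obj) (.singleton f) := by
  rw [Presieve.isSheafFor_singleton]
  rintro ⟨c, t⟩ ht
  let a : R ⟶ S := EffectiveEpi.desc f c fun g₁ g₂ e => congrArg Sigma.fst (ht g₁ g₂ e)
  have hac : f ≫ a = c := EffectiveEpi.fac _ _ _
  let π : Over.mk c ⟶ Over.mk a := Over.homMk f hac
  have : Flat π.left := inferInstanceAs (Flat f)
  have : Surjective π.left := inferInstanceAs (Surjective f)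
  have : QuasiCompact π.left := inferInstanceAs (QuasiCompact f)
  let x' : (yon S).obj (Over.mk c) ⟶ X := (GrothendieckTopology.uliftYonedaEquiv.{u + 1} (J S)).symm t
  have nat : ∀ {Z W : Over S} (k : Z ⟶ W) (s : X.obj.obj (op W)),
      (yon S).map k ≫ (GrothendieckTopology.uliftYonedaEquiv.{u + 1} (J S)).symm s = (GrothendieckTopology.uliftYonedaEquiv.{u + 1} (J S)).symm (X.obj.map k.op s) :=
    fun k s => GrothendieckTopology.uliftYonedaEquiv_symm_naturality_left _ k X s
  obtain ⟨x, hx⟩ := exists_desc hX π x' fun {Z} k₁ k₂ e => by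
    rw [nat, nat]
    obtain ⟨e', he', heq⟩ := (Adq.tot_map_iff X.obj _ _ _).1
      (ht k₁.left k₂.left (congrArg CommaMorphism.left e)).symm
    refine congrArg _ ?_
    let ι₀ : Z ⟶ Over.mk (k₁.left ≫ c) := Over.homMk (𝟙 Z.left) ((Category.id_comp _).trans (Over.w k₁))
    refine (Adq.map_congr_left X.obj k₁
      (ι₀ ≫ Over.homMk (U := Over.mk (k₁.left ≫ c)) (V := Over.mk c) k₁.left rfl) (Category.id_comp _).symm t).trans ?_
    rw [op_comp, Functor.map_comp_apply]
    refine (congrArg (X.obj.map ι₀.op) heq.symm).trans ?_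
    refine (Functor.map_comp_apply X.obj e'.op ι₀.op t).symm.trans ?_
    refine Adq.map_congr_left X.obj (ι₀ ≫ e') k₂ ?_ t
    show 𝟙 _ ≫ e'.left = k₂.left
    rw [he', Category.id_comp]
  let y := (GrothendieckTopology.uliftYonedaEquiv.{u + 1} (J S)) x
  have hy : X.obj.map π.op y = t := by
    apply (GrothendieckTopology.uliftYonedaEquiv.{u + 1} (J S)).symm.injective
    rw [← nat, Equiv.symm_apply_apply, hx]
  refine ⟨⟨a, y⟩, (Adq.tot_map_iff X.obj f _ _).2 ⟨π, rfl, hy⟩, ?_⟩
  rintro ⟨h', y'⟩ hy'
  obtain rfl : h' = a := (cancel_epi f).1 ((congrArg Sigma.fst hy').trans hac.symm)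
  obtain ⟨e', he', heq⟩ := (Adq.tot_map_iff X.obj _ _ _).1 hy'
  refine Sigma.ext rfl (heq_of_eq ((GrothendieckTopology.uliftYonedaEquiv.{u + 1} (J S)).symm.injective (eq_of_cover hX π _ _ ?_)))
  rw [nat, nat, hy]
  exact congrArg _ ((Adq.map_congr_left X.obj π e' he'.symm y').trans heq)

/-- An algebraic space is a sheaf for the fpqc topology. -/
theorem isSheaf_fpqc (hX : IsAlgSpace X) : Presieve.IsSheaf (Scheme.fpqcTopology.over S) X.obj := by
  have hS := GrothendieckTopology.Subcanonical.isSheaf_of_isRepresentable (J := Scheme.fpqcTopology.{u})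
    (yoneda.obj S)
  refine Adq.isSheaf_of_tot _ _ hS ?_
  rw [Scheme.fpqcTopology_eq_propQCTopology, isSheaf_type_propQCTopology_iff]
  refine ⟨Adq.isSheaf_tot _ _ (GrothendieckTopology.Subcanonical.isSheaf_of_isRepresentable _) ?_, fun φ hf hs => ?_⟩
  · refine Presieve.isSheaf_of_le _ ?_ ((isSheaf_iff_isSheaf_of_type _ _).1 X.property)
    intro Y V hV
    exact (Scheme.fppfTopology.mem_over_iff V).2
      (Precoverage.toGrothendieck_mono Scheme.zariskiPrecoverage_le_fppfPrecoverage Y.left
        ((Scheme.zariskiTopology.mem_over_iff V).1 hV))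
  · have := hf
    have := hs
    exact isSheafFor_tot hX (Spec.map φ)

end Groth.L23.Gabber
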