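import Groth.Agent.L23.SubQcoh
import Groth.Agent.L23.FpNoeth
import Groth.Agent.L23.QsTop
import Groth.Agent.L09.ModEt.Main

/-!
# Coherent submodules generated by sections over an atlas

On a quasi-compact quasi-separated space, a finite set of sections `n` of a quasi-coherent module over an affine
atlas cuts out the largest submodule contained in the span of `n` over the atlas; on a locally Noetherian space
it is coherent, and every section lies in one of these.
-/

universe u

open CategoryTheory CategoryTheory.Limits AlgebraicGeometry Opposite AlgSp TensorProduct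

set_option autoImplicit false
set_option linter.style.haveILetI false
set_option backward.isDefEq.respectTransparency false
set_option backward.isDefEq.respectTransparency.types false

noncomputable section

namespace Groth.L23.GenSub

open Groth.L09.ModEt

variable {S : Scheme.{u}} {X : Sp S} {M : ModEt X}

section Span

variable {E E' : EtOver X} [IsAffine E.obj.left.left] [IsAffine E'.obj.left.left]

theorem res_mem_span {E E' : EtOver X} (g : E' ⟶ E) {A : Set (sectModEt M E)} {z : sectModEt M E}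
    (hz : z ∈ Submodule.span (Γ₀ E) A) : res M g z ∈ Submodule.span (Γ₀ E') (res M g '' A) := by
  induction hz using Submodule.span_induction with
  | mem x hx => exact Submodule.subset_span ⟨x, hx, rfl⟩
  | zero => simp
  | add x y _ _ hx hy => rw [map_add]; exact add_mem hx hy
  | smul r x _ hx => rw [res_smul]; exact Submodule.smul_mem _ _ hx

theorem exists_tensor_of_mem_span (g : E' ⟶ E) (P : Submodule (Γ₀ E) (sectModEt M E)) {z : sectModEt M E'}
    (hz : z ∈ Submodule.span (Γ₀ E') (res M g '' (P : Set (sectModEt M E)))) :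
    letI := (pb g).toAlgebra
    ∃ y : Γ₀ E' ⊗[Γ₀ E] P, θ M g (P.subtype.lTensor (Γ₀ E') y) = z := by
  letI := (pb g).toAlgebra
  induction hz using Submodule.span_induction with
  | mem x hx =>
    obtain ⟨s, hs, rfl⟩ := hx
    exact ⟨1 ⊗ₜ ⟨s, hs⟩, by rw [LinearMap.lTensor_tmul, θ_tmul, one_smul]; rfl⟩
  | zero => exact ⟨0, by simp⟩
  | add x y _ _ hx hy =>
    obtain ⟨a, ha⟩ := hx
    obtain ⟨b, hb⟩ := hy
    exact ⟨a + b, by rw [map_add, map_add, ha, hb]⟩
  | smul r x hxm hx =>
    obtain ⟨y, rfl⟩ := hx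
    refine ⟨r • y, ?_⟩
    clear hxm
    induction y using TensorProduct.induction_on with
    | zero => simp
    | tmul b m => rw [TensorProduct.smul_tmul', LinearMap.lTensor_tmul, LinearMap.lTensor_tmul, θ_tmul, θ_tmul, smul_smul, smul_eq_mul]
    | add a b ha hb => simp only [smul_add, map_add, ha, hb]

end Span

/-- Membership in a submodule of sections is local. -/
theorem mem_of_cover [M.IsQuasicoherent] {W : EtOver X} [IsAffine W.obj.left.left]
    (Q : Submodule (Γ₀ W) (sectModEt M W)) {s : sectModEt M W}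
    (h : ∀ w : ↥W.obj.left.left, ∃ (V : EtOver X) (_ : IsAffine V.obj.left.left) (g : V ⟶ W),
      w ∈ Set.range g.hom.left.left ∧ res M g s ∈ Submodule.span (Γ₀ V) (res M g '' (Q : Set (sectModEt M W)))) :
    s ∈ Q := by
  let ψ : Γ₀ W →ₗ[Γ₀ W] sectModEt M W ⧸ Q := Q.mkQ.comp (LinearMap.toSpanSingleton _ _ s)
  by_contra hs
  have hne : LinearMap.ker ψ ≠ ⊤ := fun htop => hs (by
    have h1 : (1 : Γ₀ W) ∈ LinearMap.ker ψ := htop ▸ Submodule.mem_top
    simpa [ψ] using h1)
  obtain ⟨m, hm, hle⟩ := Ideal.exists_le_maximal _ hne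
  haveI := hm.isPrime
  obtain ⟨e, he⟩ := exists_primeAtPt _ m
  obtain ⟨V, hV, g, ⟨v, hv⟩, hgs⟩ := h e
  haveI := hV
  letI := (pb g).toAlgebra
  haveI : Module.Flat (Γ₀ W) (Γ₀ V) := flat_pb g
  obtain ⟨y, hy⟩ := exists_tensor_of_mem_span g Q hgs
  have hy' : Q.subtype.lTensor (Γ₀ V) y = 1 ⊗ₜ s :=
    (bc_of_isQuasicoherent M g).1 (by rw [hy, θ_tmul, one_smul])
  have h0 : ψ.lTensor (Γ₀ V) (1 ⊗ₜ 1) = 0 := by
    have : Q.mkQ.lTensor (Γ₀ V) (1 ⊗ₜ s) = 0 := by
      rw [← hy', ← LinearMap.comp_apply, ← LinearMap.lTensor_comp,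
        show Q.mkQ.comp Q.subtype = 0 from by ext x; simp, LinearMap.lTensor_zero, LinearMap.zero_apply]
    rw [← this]
    simp [ψ]
  obtain ⟨k, hk⟩ := (Module.Flat.lTensor_exact (Γ₀ V) (LinearMap.exact_subtype_ker_map ψ) _).1 h0
  let P₀ := primeAtPt V.obj.left.left v
  have hle' : ∀ a ∈ LinearMap.ker ψ, pb g a ∈ P₀ := fun a ha => by
    have hc : Ideal.comap (pb g) P₀ = m := by
      rw [← he, ← hv, comap_primeAtPt]
    exact Ideal.mem_comap.1 (hc.symm ▸ hle ha)
  have h1 : (1 : Γ₀ V) ∈ P₀ := by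
    have e1 := congrArg (TensorProduct.rid (Γ₀ W) (Γ₀ V)) hk
    rw [TensorProduct.rid_tmul, one_smul] at e1
    rw [← e1]
    clear e1 hk
    induction k using TensorProduct.induction_on with
    | zero => simp
    | tmul b a =>
      rw [LinearMap.lTensor_tmul, TensorProduct.rid_tmul, Algebra.smul_def]
      exact P₀.mul_mem_right _ (hle' a.1 a.2)
    | add a b ha hb => rw [map_add, map_add]; exact add_mem ha hb
  exact (isPrime_primeAtPt _ v).one_notMem h1

/-- An affine object surjecting onto the product of two affine objects. -/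
structure PairCover (E U₀ : EtOver X) where
  /-- the object -/
  W : EtOver X
  aff : IsAffine W.obj.left.left
  /-- the first map -/
  g : W ⟶ E
  /-- the second map -/
  h : W ⟶ U₀
  lift : ∀ (W' : EtOver X) (g' : W' ⟶ E) (h' : W' ⟶ U₀) (w : W'.obj.left.left),
    ∃ (V : EtOver X) (_ : IsAffine V.obj.left.left) (a : V ⟶ W') (b : V ⟶ W),
      w ∈ Set.range a.hom.left.left ∧ b ≫ g = a ≫ g' ∧ b ≫ h = a ≫ h'
  surj : Function.Surjective (Points.ofPt U₀.obj.hom) → Function.Surjective g.hom.left.left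

/-- Products of affine objects are covered by affine objects. -/
theorem nonempty_pairCover [QuasiSeparatedSpace S] (hqs : IsQuasiSeparatedSp X) (E U₀ : EtOver X)
    [IsAffine E.obj.left.left] [IsAffine U₀.obj.left.left] : Nonempty (PairCover E U₀) := by
  let P := EtOver.prodObj E U₀
  have hc : CompactSpace P.obj.left.left := by
    haveI : QuasiCompact U₀.obj.left.hom := inferInstance
    haveI : CompactSpace (Limits.pullback E.obj.left.hom U₀.obj.left.hom : Scheme.{u}) :=
      QuasiCompact.compactSpace_of_compactSpace (pullback.fst E.obj.left.hom U₀.obj.left.hom)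
    haveI hUV : CompactSpace (E.obj.left ⨯ U₀.obj.left : Over S).left :=
      (Over.prodLeftIsoPullback E.obj.left U₀.obj.left).inv.homeomorph.compactSpace
    refine Qs.compactSpace_of_qcDiag hqs hUV (a := E.obj.hom) (b := U₀.obj.hom)
      (fst := U₀.property.1.snd E.obj.hom) (snd := U₀.property.1.fst' E.obj.hom) ?_
    rw [Functor.relativelyRepresentable.map_fst']
    exact (U₀.property.1.isPullback E.obj.hom).flip
  obtain ⟨ι, hι, V, c, hV, -, hcov⟩ := exists_finite_cover (E := P) ((etTop X).top_mem P)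
  haveI := hV
  let π : sigmaObj V c ⟶ P := sigmaDesc V c
  have hπ : Function.Surjective π.hom.left.left := surjective_sigmaDesc V c hcov
  refine ⟨⟨sigmaObj V c, inferInstance, π ≫ EtOver.prodFst E U₀, π ≫ EtOver.prodSnd E U₀,
    fun W' g' h' w => ?_, fun hs => ?_⟩⟩
  · obtain ⟨l, hl₁, hl₂⟩ : ∃ l : W' ⟶ P, l ≫ EtOver.prodFst E U₀ = g' ∧ l ≫ EtOver.prodSnd E U₀ = h' :=
      ⟨(EtOver.prodIsLimit E U₀).lift (BinaryFan.mk g' h'), (EtOver.prodIsLimit E U₀).fac _ ⟨.left⟩,
        (EtOver.prodIsLimit E U₀).fac _ ⟨.right⟩⟩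
    obtain ⟨i, v, hv⟩ := hcov (l.hom.left.left w)
    let Q := EtOver.pullbackObj l (c i)
    obtain ⟨q, hq₁, -⟩ : ∃ q : Q.obj.left.left,
        (EtOver.pullbackFst l (c i)).hom.left.left q = w ∧ (EtOver.pullbackSnd l (c i)).hom.left.left q = v :=
      Scheme.exists_preimage_of_isPullback
        ((EtOver.isPullback l (c i)).map (EtOver.toScheme X)) w v hv.symm
    obtain ⟨_, ⟨(B : Q.obj.left.left.Opens), hB, rfl⟩, hqB, -⟩ :=
      Q.obj.left.left.isBasis_affineOpens.exists_subset_of_mem_open (Set.mem_univ q) isOpen_univ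
    refine ⟨openObj Q B, hB, openι Q B ≫ EtOver.pullbackFst l (c i),
      openι Q B ≫ EtOver.pullbackSnd l (c i) ≫ sigmaι V c i, ⟨⟨q, hqB⟩, ?_⟩, ?_, ?_⟩
    · rw [← hq₁]; rfl
    · simp only [Category.assoc, π, sigmaι_desc_assoc]
      rw [← hl₁, ← Category.assoc (EtOver.pullbackSnd l (c i)), ← EtOver.pullback_condition, Category.assoc]
    · simp only [Category.assoc, π, sigmaι_desc_assoc]
      rw [← hl₂, ← Category.assoc (EtOver.pullbackSnd l (c i)), ← EtOver.pullback_condition, Category.assoc]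
  · have h1 : Surjective (EtOver.prodFst E U₀).hom.left.left := by
      have hsur : RepWith @Surjective U₀.obj.hom := repWith_surjective_of_map U₀.property.1 (by
        intro x
        obtain ⟨u, hu⟩ := hs x
        exact ⟨Points.ofScheme _ u, by rw [← hu, Points.ofPt_eq_map_ofScheme]⟩)
      exact repWith_snd hsur E.obj.hom
    intro e
    obtain ⟨p, hp⟩ := h1.surj e
    obtain ⟨x, hx⟩ := hπ p
    exact ⟨x, by rw [← hp, ← hx]; rfl⟩

variable {U₀ : EtOver X} (A : Set (sectModEt M U₀))

/-- The sections which, pulled to every common refinement with `U₀`, are spanned by the given ones. -/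
def P (E : EtOver X) : Submodule (Γ₀ E) (sectModEt M E) where
  carrier := {s | ∀ (W : EtOver X) [IsAffine W.obj.left.left] (g : W ⟶ E) (h : W ⟶ U₀),
    res M g s ∈ Submodule.span (Γ₀ W) (res M h '' A)}
  add_mem' := fun hs ht W _ g h => by rw [map_add]; exact add_mem (hs W g h) (ht W g h)
  zero_mem' := fun W _ g h => by rw [map_zero]; exact zero_mem _
  smul_mem' := fun r s hs W _ g h => by rw [res_smul]; exact Submodule.smul_mem _ _ (hs W g h)

variable {A}

/-- It suffices to check on one covering refinement. -/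
theorem mem_P_of_pair [M.IsQuasicoherent] {E : EtOver X} (C : PairCover E U₀) {s : sectModEt M E}
    (hs : res M C.g s ∈ Submodule.span (Γ₀ C.W) (res M C.h '' A)) : s ∈ P A E := by
  intro W' hW' g' h'
  haveI := hW'
  refine mem_of_cover _ fun w => ?_
  obtain ⟨V, hV, a, b, ha, hb₁, hb₂⟩ := C.lift W' g' h' w
  haveI := C.aff
  refine ⟨V, hV, a, ha, ?_⟩
  have h1 : res M a (res M g' s) = res M b (res M C.g s) := by rw [← res_comp, ← res_comp, hb₁]
  rw [h1]
  refine Submodule.span_mono ?_ (res_mem_span b hs)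
  rintro _ ⟨_, ⟨n, hn, rfl⟩, rfl⟩
  refine ⟨res M h' n, Submodule.subset_span ⟨n, hn, rfl⟩, ?_⟩
  rw [← res_comp, ← res_comp, hb₂]

set_option maxHeartbeats 800000 in
/-- The submodules commute with affine base change. -/
theorem mem_span [M.IsQuasicoherent] {E E' : EtOver X} [IsAffine E.obj.left.left] [IsAffine E'.obj.left.left]
    (C : PairCover E U₀) (g : E' ⟶ E) {z : sectModEt M E'} (hz : z ∈ P A E') :
    z ∈ Submodule.span (Γ₀ E') (res M g '' (P A E : Set (sectModEt M E))) := by
  haveI := C.aff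
  let W' := EtOver.pullbackObj g C.g
  haveI : IsAffine W'.obj.left.left := isAffine_pullback g C.g
  let q : W' ⟶ E' := EtOver.pullbackFst g C.g
  let p : W' ⟶ C.W := EtOver.pullbackSnd g C.g
  have hzW : res M q z ∈ Submodule.span (Γ₀ W') (res M (p ≫ C.h) '' A) := hz W' q (p ≫ C.h)
  let Q : Submodule (Γ₀ C.W) (sectModEt M C.W) := Submodule.span (Γ₀ C.W) (res M C.h '' A)
  letI := (pb g).toAlgebra
  letI := secVia M C.g
  haveI : Module.Flat (Γ₀ E) (Γ₀ E') := flat_pb g
  let Q' : Submodule (Γ₀ E) (sectModEt M C.W) :=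
    { carrier := Q
      add_mem' := fun ha hb => add_mem ha hb
      zero_mem' := zero_mem _
      smul_mem' := fun c x hx => Q.smul_mem (pb C.g c) hx }
  have hθx := bijective_θx M g C.g (bc_of_isQuasicoherent M p)
  let incl := Q'.subtype.lTensor (Γ₀ E')
  let R : AddSubgroup (sectModEt M W') :=
    AddSubgroup.map (θx M g C.g) (LinearMap.range incl).toAddSubgroup
  have hRmem : ∀ (b : Γ₀ E') (x : sectModEt M C.W), x ∈ Q → pb q b • res M p x ∈ R := fun b x hx =>
    ⟨incl (b ⊗ₜ ⟨x, hx⟩), ⟨_, rfl⟩, by rw [LinearMap.lTensor_tmul, θx_tmul]; rfl⟩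
  have hR : ∀ (c : Γ₀ W') (x : sectModEt M C.W), x ∈ Q → c • res M p x ∈ R := by
    intro c
    letI := (pb C.g).toAlgebra
    letI := (pb q).toAlgebra
    letI := (pb p).toAlgebra
    letI : Algebra (Γ₀ E) (Γ₀ W') := (pb (q ≫ g)).toAlgebra
    haveI : IsScalarTower (Γ₀ E) (Γ₀ E') (Γ₀ W') := IsScalarTower.of_algebraMap_eq fun r => rfl
    haveI : IsScalarTower (Γ₀ E) (Γ₀ C.W) (Γ₀ W') := IsScalarTower.of_algebraMap_eq fun r => by
      show pb (q ≫ g) r = pb (p ≫ C.g) r
      rw [show q ≫ g = p ≫ C.g from EtOver.pullback_condition g C.g]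
    haveI : Algebra.IsPushout (Γ₀ E) (Γ₀ E') (Γ₀ C.W) (Γ₀ W') :=
      CommRingCat.isPushout_iff_isPushout.1 (isPushout_pb g C.g)
    induction c using (Algebra.IsPushout.out (R := Γ₀ E) (S := Γ₀ E') (R' := Γ₀ C.W) (S' := Γ₀ W')).inductionOn with
    | zero => intro x _; rw [zero_smul]; exact zero_mem _
    | tmul a =>
      intro x hx
      show pb p a • res M p x ∈ R
      rw [← res_smul]
      simpa using hRmem 1 _ (Q.smul_mem a hx)
    | smul b a ha =>
      intro x hx
      rw [Algebra.smul_def, mul_smul]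
      obtain ⟨y, ⟨t, rfl⟩, hy⟩ := ha x hx
      refine ⟨incl (b • t), ⟨_, rfl⟩, ?_⟩
      rw [← hy]
      show θx M g C.g (incl (b • t)) = pb q b • _
      clear hy
      induction t using TensorProduct.induction_on with
      | zero => simp
      | tmul b' m =>
        rw [TensorProduct.smul_tmul', LinearMap.lTensor_tmul, LinearMap.lTensor_tmul, θx_tmul, θx_tmul,
          smul_smul, smul_eq_mul, map_mul]
      | add t t' h h' => simp only [smul_add, map_add, h, h']
    | add a b ha hb => intro x hx; rw [add_smul]; exact add_mem (ha x hx) (hb x hx)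
  have hall : ∀ c : Γ₀ W', c • res M q z ∈ R := by
    generalize hw : res M q z = w at hzW ⊢
    clear hw
    induction hzW using Submodule.span_induction with
    | mem x hx =>
      obtain ⟨n, hn, rfl⟩ := hx
      intro c
      rw [res_comp]
      exact hR c _ (Submodule.subset_span ⟨n, hn, rfl⟩)
    | zero => intro c; rw [smul_zero]; exact zero_mem _
    | add a b _ _ ha hb => intro c; rw [smul_add]; exact add_mem (ha c) (hb c)
    | smul r a _ ha => intro c; rw [smul_smul]; exact ha _
  have hspan : res M q z ∈ R := by simpa using hall 1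
  clear hall
  obtain ⟨y, rfl⟩ := (bc_of_isQuasicoherent M g).2 z
  let ρ : sectModEt M E →ₗ[Γ₀ E] sectModEt M C.W :=
    { toFun := res M C.g
      map_add' := map_add _
      map_smul' := fun a m => res_smul M C.g a m }
  have hnat : θx M g C.g (ρ.lTensor (Γ₀ E') y) = res M q (θ M g y) := by
    clear hzW hspan hz
    induction y using TensorProduct.induction_on with
    | zero => simp
    | tmul b m =>
      rw [LinearMap.lTensor_tmul, θx_tmul, θ_tmul, res_smul,
        res_congr M (EtOver.pullback_condition g C.g)]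
      rfl
    | add a b ha hb => simp only [map_add, ha, hb]
  obtain ⟨_, ⟨t, rfl⟩, ht⟩ := hspan
  have h0 : (Q'.mkQ.comp ρ).lTensor (Γ₀ E') y = 0 := by
    rw [LinearMap.lTensor_comp_apply, ← hθx.1 (ht.trans hnat.symm), ← LinearMap.lTensor_comp_apply,
      show Q'.mkQ.comp Q'.subtype = 0 from by ext x; simp, LinearMap.lTensor_zero, LinearMap.zero_apply]
  obtain ⟨k, rfl⟩ := (Module.Flat.lTensor_exact (Γ₀ E') (LinearMap.exact_subtype_ker_map (Q'.mkQ.comp ρ)) y).1 h0
  clear hz hzW h0 hnat ht
  induction k using TensorProduct.induction_on with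
  | zero => simp
  | tmul b m =>
    rw [LinearMap.lTensor_tmul, θ_tmul]
    refine Submodule.smul_mem _ b (Submodule.subset_span ⟨m.1, mem_P_of_pair C ?_, rfl⟩)
    exact (Submodule.Quotient.mk_eq_zero Q').1 (LinearMap.mem_ker.1 m.2)
  | add a b ha hb => rw [map_add, map_add]; exact add_mem ha hb

variable (A)

/-- The submodules form a compatible system. -/
def sub [M.IsQuasicoherent] (hC : ∀ (E : EtOver X) [IsAffine E.obj.left.left], Nonempty (PairCover E U₀)) :
    SubQcoh.AffSub M where
  P E _ := P A E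
  res_mem {E E'} _ _ g {s} hs W _ g' h := by rw [← res_comp]; exact hs W _ h
  mem_span {E E'} _ _ g {z} hz := mem_span (hC E).some g hz

end Groth.L23.GenSub

namespace Groth.L23.GenSub

open Groth.L09.ModEt

variable {S : Scheme.{u}} [QuasiSeparatedSpace S] (X : AlgSp.Space S) (hqc : IsQuasiCompactSp X.obj)
  (hqs : IsQuasiSeparatedSp X.obj) (hN : IsLocNoethSp X.obj) (M : ModEt X.obj) [M.IsQuasicoherent]

include hqc hqs hN

set_option maxHeartbeats 800000 in
/-- Every section over an affine object lies in a coherent submodule. -/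
theorem exists_coherent_mem (E : EtOver X.obj) [IsAffine E.obj.left.left] (s : sectModEt M E) :
    ∃ (N : ModEt X.obj) (a : N ⟶ M), Mono a ∧ N.IsFinitePresentation ∧
      ∃ t : sectModEt N E, (a.val.app (op E)).hom t = s := by
  obtain ⟨U, p, hU, hp, hps⟩ := Qs.exists_affine_atlas X.property hqc
  let U₀ : EtOver X.obj := EtOver.mk p hp
  haveI : IsAffine U₀.obj.left.left := hU
  have hsurj : Function.Surjective (Points.ofPt U₀.obj.hom) := surjective_ofPt hps
  have hC : ∀ (E : EtOver X.obj) [IsAffine E.obj.left.left], Nonempty (PairCover E U₀) :=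
    fun E _ => nonempty_pairCover hqs E U₀
  let C := (hC E).some
  haveI := C.aff
  letI := (pb C.h).toAlgebra
  obtain ⟨y, hy⟩ := (bc_of_isQuasicoherent M C.h).2 (res M C.g s)
  obtain ⟨T, hT⟩ : ∃ T : Finset (sectModEt M U₀),
      θ M C.h y ∈ Submodule.span (Γ₀ C.W) (res M C.h '' (T : Set (sectModEt M U₀))) := by
    classical
    clear hy
    induction y using TensorProduct.induction_on with
    | zero => exact ⟨∅, by simp⟩
    | tmul b m =>
      exact ⟨{m}, by rw [θ_tmul]; exact Submodule.smul_mem _ b (Submodule.subset_span ⟨m, by simp, rfl⟩)⟩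
    | add a b ha hb =>
      obtain ⟨T₁, h₁⟩ := ha
      obtain ⟨T₂, h₂⟩ := hb
      refine ⟨T₁ ∪ T₂, ?_⟩
      rw [map_add]
      exact add_mem (Submodule.span_mono (Set.image_mono (by simp)) h₁)
        (Submodule.span_mono (Set.image_mono (by simp)) h₂)
  rw [hy] at hT
  let A := sub (M := M) (T : Set (sectModEt M U₀)) hC
  haveI := A.isQuasicoherent
  refine ⟨A.mod, A.ι, inferInstance, ?_, ?_⟩
  · refine FP.isFinitePresentation_of_finite_nhd hN _ fun E' _ e => ?_
    let C' := (hC E').some
    haveI := C'.aff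
    refine ⟨C'.W, C'.aff, C'.g, C'.surj hsurj e, ?_⟩
    haveI := FP.isNoetherianRing_Γ₀ hN C'.W
    let Q : Submodule (Γ₀ C'.W) (sectModEt M C'.W) :=
      Submodule.span (Γ₀ C'.W) (res M C'.h '' (T : Set (sectModEt M U₀)))
    haveI : Module.Finite (Γ₀ C'.W) Q := Module.Finite.span_of_finite _ (T.finite_toSet.image _)
    have hle : ∀ x : sectModEt A.mod C'.W, CohNbhd.app₀ A.ι C'.W x ∈ Q := fun x => by
      have h1 : (A.ι.val.app (op C'.W)).hom x ∈ A.P C'.W := by
        rw [← SetLike.mem_coe, ← SubQcoh.AffSub.range_ι A C'.W]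
        exact ⟨x, rfl⟩
      have h2 := h1 C'.W (𝟙 _) C'.h
      rw [res_id] at h2
      exact h2
    exact Module.Finite.of_injective ((CohNbhd.app₀ A.ι C'.W).codRestrict Q hle)
      ((LinearMap.injective_codRestrict_iff _).2 (FP.injective_app₀ A.ι C'.W))
  · have h1 : s ∈ A.P E := mem_P_of_pair C hT
    rw [← SetLike.mem_coe, ← SubQcoh.AffSub.range_ι A E] at h1
    exact h1

end Groth.L23.GenSub
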