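import Groth.Agent.L23.GlobSec
import Groth.Agent.L23.FinLocFreeMod
import Groth.Agent.L09.ModEt.Colim
import Groth.Agent.L09.ModEt.Generators
import Mathlib.RingTheory.Flat.EquationalCriterion
import Mathlib.RingTheory.Flat.FaithfullyFlat.Basic
import Mathlib.RingTheory.IsTensorProduct

/-!
# Flatness of an affine atlas over the ring of global functions, in the absence of first cohomology
-/

universe u

open CategoryTheory CategoryTheory.Limits AlgebraicGeometry Opposite AlgSp TensorProduct

set_option autoImplicit false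
set_option linter.style.haveILetI false
set_option backward.isDefEq.respectTransparency false
set_option backward.isDefEq.respectTransparency.types false

noncomputable section

namespace Groth.L23.GlobSec

open Groth.L09.ModEt

variable {S : Scheme.{u}} {X : Sp S} {a : Atlas X}

/-- Functions as sections of the structure sheaf. -/
def dn₀ {E : EtOver X} (x : sectModEt (unitModEt X) E) : Γ₀ E := x.down

/-- A function as a section of the structure sheaf. -/
def up₀ {E : EtOver X} (r : Γ₀ E) : sectModEt (unitModEt X) E := ULift.up r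

theorem ext₀ {E : EtOver X} {p q : sectModEt (unitModEt X) E} (h : dn₀ p = dn₀ q) : p = q := ULift.ext _ _ h

/-- Taking the function, additively. -/
def D₀ (E : EtOver X) : sectModEt (unitModEt X) E →+ Γ₀ E := AddMonoidHom.mk' dn₀ fun _ _ => rfl

theorem dn₀_smul {E : EtOver X} (r : Γ₀ E) (x : sectModEt (unitModEt X) E) : dn₀ (r • x) = r * dn₀ x := rfl

theorem dn₀_res {E E' : EtOver X} (g : E' ⟶ E) (x : sectModEt (unitModEt X) E) :
    dn₀ (res (unitModEt X) g x) = pb g (dn₀ x) := rfl

theorem dn₀_mem {x : sectModEt (unitModEt X) a.U} (hx : x ∈ GS a (unitModEt X)) : dn₀ x ∈ A₀ a :=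
  fun W _ g h => by rw [← dn₀_res, ← dn₀_res, hx W g h]

theorem up_mem {r : Γ₀ a.U} (hr : r ∈ A₀ a) : up₀ r ∈ GS a (unitModEt X) :=
  fun W _ g h => ULift.ext _ _ (hr W g h)

/-- The finite free module. -/
abbrev Fr (X : Sp S) (n : ℕ) : ModEt X := freeModEt X (ULift.{u + 1} (Fin n))

theorem isQuasicoherent_Fr (X : Sp S) (n : ℕ) : (Fr X n).IsQuasicoherent := by
  let D : Discrete (ULift.{u + 1} (Fin n)) ⥤ ModEt X := Discrete.functor fun _ => unitModEt X
  exact isQuasicoherent_colimit D fun _ => Groth.L23.FLF.isQuasicoherent_unit X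

/-- The basis of the finite free module. -/
def e₀ {n : ℕ} (i : ULift.{u + 1} (Fin n)) (E : EtOver X) : sectModEt (Fr X n) E :=
  (SheafOfModules.freeSection (R := OEtRing X) i).eval (op E)

theorem dn₀_proj_e₀ {n : ℕ} (i j : ULift.{u + 1} (Fin n)) (E : EtOver X) :
    dn₀ (CohNbhd.app₀ (Groth.L09.ModGen.proj (R := OEtRing X) i) E (e₀ j E)) = if j = i then 1 else 0 := by
  classical
  have h := Groth.L09.ModGen.proj_freeSection (R := OEtRing X) i j (op E)
  show ULift.down ((Groth.L09.ModGen.proj (R := OEtRing X) i).val.app (op E) _) = _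
  refine (congrArg ULift.down h).trans ?_
  split_ifs <;> rfl

/-- Every section of the finite free module is the combination of its coordinates. -/
theorem sum_coord {n : ℕ} (E : EtOver X) (z : sectModEt (Fr X n) E) :
    ∑ i, dn₀ (CohNbhd.app₀ (Groth.L09.ModGen.proj (R := OEtRing X) i) E z) • e₀ i E = z := by
  classical
  have hid : ∑ i : ULift.{u + 1} (Fin n), Groth.L09.ModGen.proj (R := OEtRing X) i ≫ SheafOfModules.ιFree i =
      𝟙 (Fr X n) := by
    refine Cofan.IsColimit.hom_ext (SheafOfModules.isColimitFreeCofan (R := OEtRing X) _) _ _ fun j => ?_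
    show SheafOfModules.ιFree j ≫ _ = SheafOfModules.ιFree j ≫ 𝟙 _
    rw [Category.comp_id, Preadditive.comp_sum, Finset.sum_eq_single j]
    · rw [← Category.assoc, show SheafOfModules.ιFree j ≫ Groth.L09.ModGen.proj (R := OEtRing X) j = 𝟙 _ from
        (Cofan.IsColimit.fac (SheafOfModules.isColimitFreeCofan _) _ j).trans (if_pos rfl), Category.id_comp]
    · intro i _ hij
      rw [← Category.assoc, show SheafOfModules.ιFree j ≫ Groth.L09.ModGen.proj (R := OEtRing X) i = 0 from
        (Cofan.IsColimit.fac (SheafOfModules.isColimitFreeCofan _) _ j).trans (if_neg (Ne.symm hij)), zero_comp]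
    · intro h
      exact absurd (Finset.mem_univ j) h
  let F : (Fr X n ⟶ Fr X n) →+ sectModEt (Fr X n) E :=
    AddMonoidHom.mk' (fun f => CohNbhd.app₀ f E z) fun _ _ => rfl
  conv_rhs => rw [show z = F (𝟙 _) from rfl, ← hid, map_sum]
  refine Finset.sum_congr rfl fun i _ => ?_
  show _ = CohNbhd.app₀ (Groth.L09.ModGen.proj (R := OEtRing X) i ≫ SheafOfModules.ιFree i) E z
  rw [QcClosure.app₀_comp]
  have e : e₀ i E = CohNbhd.app₀ (SheafOfModules.ιFree (R := OEtRing X) i) E (ULift.up 1) := by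
    show (SheafOfModules.freeSection (R := OEtRing X) i).eval (op E) = _
    simp [SheafOfModules.freeHomEquiv]
    rfl
  rw [e, ← map_smul]
  refine congrArg _ ?_
  exact ULift.ext _ _ (mul_one _)

variable (h1 : Lifting a) (hgen : Generates a)

include h1 hgen

set_option maxHeartbeats 1600000 in
/-- Relations between global sections come from global relations. -/
theorem relation_span (M : ModEt X) [M.IsQuasicoherent] {n : ℕ} (m : Fin n → sectModEt M a.U)
    (hm : ∀ i, m i ∈ GS a M) (c : Fin n → Γ₀ a.U) (hc : ∑ i, c i • m i = 0) :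
    c ∈ Submodule.span (Γ₀ a.U) {κ : Fin n → Γ₀ a.U | (∀ i, κ i ∈ A₀ a) ∧ ∑ i, κ i • m i = 0} := by
  classical
  let φ : Fr X n ⟶ M := M.freeHomEquiv.symm fun i => toSections (hm i.down)
  have hφ : ∀ i, CohNbhd.app₀ φ a.U (e₀ i a.U) = m i.down := fun i => by
    have h := congrArg (fun t => t.eval (op a.U))
      (SheafOfModules.sectionsMap_freeHomEquiv_symm_freeSection (fun i => toSections (hm i.down)) i)
    exact h.trans (val_self (hm i.down))
  have hcomb : ∀ z, CohNbhd.app₀ φ a.U z =
      ∑ i : Fin n, dn₀ (CohNbhd.app₀ (Groth.L09.ModGen.proj (R := OEtRing X) ⟨i⟩) a.U z) • m i := fun z => by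
    conv_lhs => rw [← sum_coord a.U z]
    rw [map_sum]
    refine (Fintype.sum_equiv Equiv.ulift _ _ fun i => ?_)
    rw [map_smul, hφ]
    rfl
  haveI := isQuasicoherent_Fr X n
  haveI hK := QcClosure.isQuasicoherent_kernel φ
  let L : sectModEt (kernel φ) a.U →ₗ[Γ₀ a.U] (Fin n → Γ₀ a.U) :=
    { toFun := fun x i => dn₀ (CohNbhd.app₀ (Groth.L09.ModGen.proj (R := OEtRing X) ⟨i⟩) a.U
        (CohNbhd.app₀ (kernel.ι φ) a.U x))
      map_add' := fun x y => funext fun i => by rw [map_add, map_add]; rfl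
      map_smul' := fun r x => funext fun i => by rw [map_smul, map_smul, dn₀_smul]; rfl }
  let z : sectModEt (Fr X n) a.U := ∑ i : Fin n, c i • e₀ ⟨i⟩ a.U
  have hz : CohNbhd.app₀ φ a.U z = 0 := by
    rw [map_sum, ← hc]
    exact Finset.sum_congr rfl fun i _ => by rw [map_smul, hφ]
  obtain ⟨z', hz'⟩ := Groth.L09.ModGen.exists_kernel_lift (R := OEtRing X) φ (Z := op a.U) z hz
  have hLz : L z' = c := funext fun i => by
    show dn₀ (CohNbhd.app₀ _ a.U (CohNbhd.app₀ (kernel.ι φ) a.U z')) = _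
    rw [show CohNbhd.app₀ (kernel.ι φ) a.U z' = z from hz', map_sum]
    let D : sectModEt (unitModEt X) a.U →+ Γ₀ a.U := AddMonoidHom.mk' dn₀ fun _ _ => rfl
    show D (∑ j, _) = _
    rw [map_sum, Finset.sum_eq_single i]
    · rw [map_smul]
      show dn₀ (c i • CohNbhd.app₀ _ a.U (e₀ ⟨i⟩ a.U)) = _
      rw [dn₀_smul, dn₀_proj_e₀, if_pos rfl, mul_one]
    · intro j _ hji
      rw [map_smul]
      show dn₀ (c j • CohNbhd.app₀ _ a.U (e₀ ⟨j⟩ a.U)) = _
      rw [dn₀_smul, dn₀_proj_e₀, if_neg (fun h => hji (congrArg ULift.down h)), mul_zero]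
    · exact fun h => absurd (Finset.mem_univ i) h
  have htop := span_GS_eq_top h1 hgen (kernel φ)
  rw [← hLz]
  have : L z' ∈ Submodule.map L (Submodule.span (Γ₀ a.U) (GS a (kernel φ) : Set (sectModEt (kernel φ) a.U))) :=
    ⟨z', htop ▸ Submodule.mem_top, rfl⟩
  rw [Submodule.map_span] at this
  refine Submodule.span_mono ?_ this
  rintro _ ⟨k, hk, rfl⟩
  refine ⟨fun i => dn₀_mem (app_mem_GS _ (app_mem_GS _ hk)), ?_⟩
  rw [show ∑ i, L k i • m i = CohNbhd.app₀ φ a.U (CohNbhd.app₀ (kernel.ι φ) a.U k) from (hcomb _).symm]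
  exact (QcClosure.app₀_comp (kernel.ι φ) φ a.U k).symm.trans
    (QcClosure.app₀_of_eq_zero _ (kernel.condition φ) a.U k)

set_option maxHeartbeats 1600000 in
/-- The atlas is flat over the global functions. -/
theorem flat : Module.Flat (A₀ a) (Γ₀ a.U) := by
  classical
  refine Module.Flat.of_forall_isTrivialRelation fun {l f x} h => ?_
  haveI := Groth.L23.FLF.isQuasicoherent_unit X
  have hrel := relation_span h1 hgen (unitModEt X) (fun i => up₀ (f i : Γ₀ a.U)) (fun i => up_mem (f i).2) x (by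
    let D : sectModEt (unitModEt X) a.U →+ Γ₀ a.U := AddMonoidHom.mk' dn₀ fun _ _ => rfl
    apply ext₀
    show D (∑ i, _) = 0
    rw [map_sum, ← h]
    exact Finset.sum_congr rfl fun i _ => mul_comm _ _)
  rw [Submodule.mem_span_set'] at hrel
  obtain ⟨k, d, κ, hd⟩ := hrel
  refine ⟨k, fun i j => ⟨(κ j).1 i, (κ j).2.1 i⟩, d, fun i => ?_, fun j => Subtype.ext ?_⟩
  · have := congrFun hd i
    rw [← this, Finset.sum_apply]
    exact Finset.sum_congr rfl fun j _ => (mul_comm _ _).trans rfl
  · rw [AddSubmonoidClass.coe_finsetSum]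
    have := congrArg dn₀ (κ j).2.2
    let D : sectModEt (unitModEt X) a.U →+ Γ₀ a.U := AddMonoidHom.mk' dn₀ fun _ _ => rfl
    have h2 : D (∑ i, (κ j).1 i • up₀ (E := a.U) (f i : Γ₀ a.U)) = D 0 := this
    rw [map_sum, map_zero] at h2
    refine (Finset.sum_congr rfl fun i _ => ?_).trans h2
    exact mul_comm _ _

set_option maxHeartbeats 1600000 in
/-- The atlas is faithfully flat over the global functions. -/
theorem faithfullyFlat : Module.FaithfullyFlat (A₀ a) (Γ₀ a.U) := by
  classical
  haveI := flat h1 hgen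
  refine { submodule_ne_top := fun {m} hm htop => ?_ }
  have h1m : (1 : Γ₀ a.U) ∈ (m • (⊤ : Submodule (A₀ a) (Γ₀ a.U))) := by
    rw [htop]; exact Submodule.mem_top
  rw [Ideal.smul_top_eq_map, Submodule.restrictScalars_mem, Ideal.map, Submodule.mem_span_image_iff_exists_fun] at h1m
  obtain ⟨t, htm, c, hc⟩ := h1m
  -- a relation between `t` and the global section `1`
  let e := Finset.equivFin t
  haveI := Groth.L23.FLF.isQuasicoherent_unit X
  haveI := isQuasicoherent_Fr X t.card
  let m' : Fin t.card → sectModEt (unitModEt X) a.U := fun i => up₀ (((e.symm i).1 : A₀ a) : Γ₀ a.U)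
  have hm' : ∀ i, m' i ∈ GS a (unitModEt X) := fun i => up_mem (e.symm i).1.2
  let φ : Fr X t.card ⟶ unitModEt X := (unitModEt X).freeHomEquiv.symm fun i => toSections (hm' i.down)
  have hφ : ∀ i, CohNbhd.app₀ φ a.U (e₀ i a.U) = m' i.down := fun i => by
    have h := congrArg (fun t => t.eval (op a.U))
      (SheafOfModules.sectionsMap_freeHomEquiv_symm_freeSection (fun i => toSections (hm' i.down)) i)
    exact h.trans (val_self (hm' i.down))
  let one : sectModEt (unitModEt X) a.U := up₀ (1 : Γ₀ a.U)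
  have hone : ∃ z, CohNbhd.app₀ φ a.U z = one := by
    refine ⟨∑ i : ULift.{u + 1} (Fin t.card), c (e.symm i.down) • e₀ i a.U, ?_⟩
    rw [map_sum]
    apply ext₀
    let D : sectModEt (unitModEt X) a.U →+ Γ₀ a.U := AddMonoidHom.mk' dn₀ fun _ _ => rfl
    show D (∑ i, _) = 1
    rw [map_sum]
    calc ∑ i : ULift.{u + 1} (Fin t.card), D (CohNbhd.app₀ φ a.U (c (e.symm i.down) • e₀ i a.U))
        = ∑ i : ULift.{u + 1} (Fin t.card), c (e.symm i.down) * (((e.symm i.down).1 : A₀ a) : Γ₀ a.U) :=
          Finset.sum_congr rfl fun i _ => by rw [map_smul, hφ]; rfl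
      _ = ∑ i, c i * ((i.1 : A₀ a) : Γ₀ a.U) :=
          (Equiv.ulift.trans e.symm).sum_comp (fun i => c i * ((i.1 : A₀ a) : Γ₀ a.U))
      _ = 1 := (Finset.sum_congr rfl fun i _ => rfl).trans hc
  haveI := QcClosure.isQuasicoherent_cokernel φ
  have hq : GS a (cokernel φ) = ⊥ := by
    refine (Submodule.eq_bot_iff _).2 fun q _ => ?_
    obtain ⟨z, hz⟩ := hone
    haveI := isQuasicoherent_Fr X t.card
    let C := ShortComplex.mk (kernel.ι (cokernel.π φ)) (cokernel.π φ) (kernel.condition _)
    have hC : C.ShortExact :=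
      { exact := ShortComplex.kernelSequence_exact _
        mono_f := inferInstanceAs (Mono (kernel.ι _))
        epi_g := inferInstanceAs (Epi (cokernel.π φ)) }
    haveI hK : C.X₁.IsQuasicoherent := QcClosure.isQuasicoherent_kernel (cokernel.π φ)
    have hw : CohNbhd.app₀ (cokernel.π φ) a.U one = 0 := by
      rw [← hz]
      exact (QcClosure.app₀_comp φ (cokernel.π φ) a.U z).symm.trans
        (QcClosure.app₀_of_eq_zero _ (cokernel.condition φ) a.U z)
    obtain ⟨l, -, rfl⟩ := h1 C hC hK (inferInstanceAs (unitModEt X).IsQuasicoherent) _ ‹_›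
    have : l = dn₀ l • one := ULift.ext _ _ (mul_one (dn₀ l)).symm
    show CohNbhd.app₀ (cokernel.π φ) a.U l = 0
    rw [this, map_smul, hw, smul_zero]
  haveI : Epi φ := Abelian.epi_of_cokernel_π_eq_zero _ ((hgen _ inferInstance hq).eq_of_tgt _ _)
  let C := ShortComplex.mk (kernel.ι φ) φ (kernel.condition φ)
  have hC : C.ShortExact :=
    { exact := ShortComplex.kernelSequence_exact _
      mono_f := inferInstanceAs (Mono (kernel.ι φ))
      epi_g := inferInstanceAs (Epi φ) }
  haveI hK : C.X₁.IsQuasicoherent := QcClosure.isQuasicoherent_kernel φ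
  obtain ⟨l, hl, hl1⟩ := h1 C hC hK (inferInstanceAs (Fr X t.card).IsQuasicoherent) one (up_mem (A₀ a).one_mem)
  have h2 : CohNbhd.app₀ φ a.U l = one := hl1
  rw [← sum_coord a.U l, map_sum] at h2
  have h3 := congrArg (AddMonoidHom.mk' (dn₀ (X := X) (E := a.U)) fun _ _ => rfl) h2
  rw [map_sum] at h3
  apply hm.ne_top
  rw [Ideal.eq_top_iff_one]
  have hco : ∀ i : ULift.{u + 1} (Fin t.card),
      dn₀ (CohNbhd.app₀ (Groth.L09.ModGen.proj (R := OEtRing X) i) a.U l) ∈ A₀ a :=
    fun i => dn₀_mem (app_mem_GS _ hl)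
  have hfin : (1 : A₀ a) = ∑ i : ULift.{u + 1} (Fin t.card), ⟨_, hco i⟩ * (e.symm i.down).1 := by
    refine Subtype.ext ?_
    rw [AddSubmonoidClass.coe_finsetSum]
    refine h3.symm.trans (Finset.sum_congr rfl fun i _ => ?_)
    rw [map_smul, hφ]
    rfl
  rw [hfin]
  exact sum_mem fun i _ => Ideal.mul_mem_left _ _ (htm (e.symm i.down).2)

end Groth.L23.GlobSec
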