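import Groth.Agent.L23.GaloisPts
import Mathlib.FieldTheory.IsSepClosed

/-!
# Geometric connectedness is tested by finite separable extensions
-/

universe u

open CategoryTheory CategoryTheory.Limits AlgebraicGeometry AlgSp Topology TensorProduct

set_option backward.isDefEq.respectTransparency.types false
set_option linter.style.haveILetI false

namespace Groth.L23.GConn

variable {k : Type u} [Field k]

theorem isClosedMap_prodMap (X : Sp (Spec (CommRingCat.of k))) {L K : Type u} [Field L] [Field K]
    [Algebra k L] [Algebra k K] (j : L →ₐ[k] K) (hj : j.toRingHom.IsIntegral) :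
    IsClosedMap (Points.map (prod.map (𝟙 X) ((yon (Spec (CommRingCat.of k))).map (specMor j)))) := by
  have sq : IsPullback (prod.snd : X ⨯ ext (k := k) K ⟶ _)
      (prod.map (𝟙 X) ((yon (Spec (CommRingCat.of k))).map (specMor j)))
      ((yon (Spec (CommRingCat.of k))).map (specMor j)) (prod.snd : X ⨯ ext (k := k) L ⟶ _) := by
    refine IsPullback.mk' (by rw [prod.map_snd]) (fun _ l l' h1 h2 => prod.hom_ext ?_ h1) fun W a b e => ?_
    · simpa using congrArg (· ≫ prod.fst) h2
    · exact ⟨prod.lift (b ≫ prod.fst) a, prod.lift_snd _ _,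
        prod.hom_ext (by rw [Category.assoc, prod.map_fst, Category.comp_id, prod.lift_fst])
          (by rw [Category.assoc, prod.map_snd, prod.lift_snd_assoc, e])⟩
  have h' : RepWith @IsIntegralHom (prod.map (𝟙 X) ((yon (Spec (CommRingCat.of k))).map (specMor j))) :=
    repWith_of_isPullback sq (repWith_map (IsIntegralHom.SpecMap_iff.2 hj))
  refine isClosedMap_map_of_representable h'.1 (fun U g => ?_)
  have : IsIntegralHom (h'.1.snd g).left := repWith_snd h' g
  exact (h'.1.snd g).left.isClosedMap

theorem isOpenMap_prodMap (X : Sp (Spec (CommRingCat.of k))) {L K : Type u} [Field L] [Field K]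
    [Algebra k L] [Algebra k K] (ψ : ext (k := k) K ⟶ ext (k := k) L) :
    IsOpenMap (Points.map (prod.map (𝟙 X) ψ)) := by
  have sq : IsPullback (prod.snd : X ⨯ ext (k := k) K ⟶ _) (prod.map (𝟙 X) ψ) ψ
      (prod.snd : X ⨯ ext (k := k) L ⟶ _) := by
    refine IsPullback.mk' (by rw [prod.map_snd]) (fun _ l l' h1 h2 => prod.hom_ext ?_ h1) fun W a b e => ?_
    · simpa using congrArg (· ≫ prod.fst) h2
    · exact ⟨prod.lift (b ≫ prod.fst) a, prod.lift_snd _ _,
        prod.hom_ext (by rw [Category.assoc, prod.map_fst, Category.comp_id, prod.lift_fst])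
          (by rw [Category.assoc, prod.map_snd, prod.lift_snd_assoc, e])⟩
  obtain ⟨φ, rfl⟩ := (yon (Spec (CommRingCat.of k))).map_surjective ψ
  have : IsField (CommRingCat.of L) := Field.toIsField L
  let φ' : Spec (CommRingCat.of K) ⟶ Spec (CommRingCat.of L) := φ.left
  have h' : RepWith @UniversallyOpen (prod.map (𝟙 X) ((yon (Spec (CommRingCat.of k))).map φ)) :=
    repWith_of_isPullback sq (repWith_map (show UniversallyOpen φ' from inferInstance))
  exact isOpenMap_map_of_universallyOpen h'

theorem isCompact_range_prodChart {X : Sp (Spec (CommRingCat.of k))} {R : Type u} [CommRing R] [Algebra k R]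
    (a : (yon (Spec (CommRingCat.of k))).obj (specA (k := k) R) ⟶ X) (K : Type u) [Field K] [Algebra k K] :
    IsCompact (Set.range (Points.map (prodChart X a K))) := by
  haveI : CompactSpace (specA (k := k) (R ⊗[k] K)).left :=
    inferInstanceAs (CompactSpace (PrimeSpectrum (R ⊗[k] K)))
  have : CompactSpace (Points ((yon (Spec (CommRingCat.of k))).obj (specA (k := k) (R ⊗[k] K)))) :=
    (Points.schemeHomeo (specA (k := k) (R ⊗[k] K))).compactSpace
  exact isCompact_range (Points.continuous_map _)

theorem conn_of_finite_separable (X : Space (Spec (CommRingCat.of k)))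
    (h : ∀ (k' : Type u) [Field k'] [Algebra k k'], Module.Finite k k' → Algebra.IsSeparable k k' →
      ConnectedSpace (Points (X.obj ⨯ ext (k := k) k'))) : Conn X.obj := by
  let K := SeparableClosure k
  rw [conn_iff_of_sepClosed X K]
  let p := Points.map (prod.fst : X.obj ⨯ ext (k := k) K ⟶ X.obj)
  have h0 : ConnectedSpace (Points (X.obj ⨯ ext (k := k) k)) := h k inferInstance inferInstance
  have := isIso_fst_self X.obj
  have hX : ConnectedSpace (Points X.obj) :=
    connectedSpace_of_surjective (pointsHomeoOfIso (asIso (prod.fst : X.obj ⨯ ext (k := k) k ⟶ X.obj))).continuous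
      (pointsHomeoOfIso _).surjective
  -- the projection to `X` factors through every level
  have hp : p = Points.map (prod.fst : X.obj ⨯ ext (k := k) k ⟶ X.obj) ∘
      Points.map (prod.map (𝟙 X.obj) ((yon (Spec (CommRingCat.of k))).map (specMor (Algebra.ofId k K)))) := by
    funext y
    rw [Function.comp_apply, ← Points.map_comp, prod.map_fst, Category.comp_id]
  have hpo : IsOpenMap p := by
    rw [hp]
    exact ((pointsHomeoOfIso (asIso (prod.fst : X.obj ⨯ ext (k := k) k ⟶ X.obj))).isOpenMap).comp
      (isOpenMap_prodMap X.obj _)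
  have hps : Function.Surjective p := by
    rw [hp]
    exact ((pointsHomeoOfIso (asIso (prod.fst : X.obj ⨯ ext (k := k) k ⟶ X.obj))).surjective).comp
      (surjective_prodMap X.obj _)
  obtain ⟨x₀⟩ := (inferInstance : Nonempty (Points X.obj))
  obtain ⟨y₀, -⟩ := hps x₀
  haveI : Nonempty (Points (X.obj ⨯ ext (k := k) K)) := ⟨y₀⟩
  haveI : PreconnectedSpace (Points (X.obj ⨯ ext (k := k) K)) := by
    refine preconnectedSpace_iff_clopen.2 fun W hW => ?_
    by_contra hne
    push_neg at hne
    obtain ⟨x, -, ⟨y, hy, rfl⟩, ⟨y', hy', hyy'⟩⟩ := PreconnectedSpace.isPreconnected_univ (p '' W) (p '' Wᶜ)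
      (hpo _ hW.isOpen) (hpo _ hW.compl.isOpen) (fun x _ => by
        obtain ⟨z, rfl⟩ := hps x
        by_cases hz : z ∈ W
        · exact Or.inl ⟨z, hz, rfl⟩
        · exact Or.inr ⟨z, hz, rfl⟩)
      (by simpa using hne.1.image p)
      (by simpa using (Set.nonempty_compl.2 hne.2).image p)
    obtain ⟨R, _, _, a, ha, r, hr⟩ := exists_affine_chart X.property (p y)
    let D : Set (Points (X.obj ⨯ ext (k := k) K)) := Set.range (Points.map (prodChart X.obj a K))
    have hmem : ∀ z, p z = p y → z ∈ D := fun z hz => by
      obtain ⟨w, -, hw⟩ := exists_of_isPullback (isPullback_prodChart a K) r z (hr.trans hz.symm)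
      exact ⟨w, hw⟩
    have hDo : IsOpen D :=
      (isOpenMap_map_of_universallyOpen
        (repWith_universallyOpen_of_etale (repWith_etale_prodChart ha K))).isOpen_range
    obtain ⟨E, hE, O, hO, hOW⟩ := exists_desc (k := k) X.property (hW.isOpen.inter hDo)
      ((isCompact_range_prodChart a K).inter_left hW.isClosed)
    let q := Points.map (prod.map (𝟙 X.obj) ((yon (Spec (CommRingCat.of k))).map (specMor E.val)))
    haveI : ConnectedSpace (Points (X.obj ⨯ ext (k := k) E)) := h E inferInstance inferInstance
    have hint : E.val.toRingHom.IsIntegral := by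
      intro c
      exact (Algebra.IsIntegral.isIntegral (R := k) c).tower_top (A := E)
    have huniv : q '' W = Set.univ :=
      IsClopen.eq_univ ⟨isClosedMap_prodMap X.obj E.val hint _ hW.isClosed, isOpenMap_prodMap X.obj _ _ hW.isOpen⟩
        (hne.1.image q)
    obtain ⟨w, hw, hwq⟩ := huniv.ge (Set.mem_univ (q y'))
    have hpq : ∀ z, p z = Points.map (prod.fst : X.obj ⨯ ext (k := k) E ⟶ X.obj) (q z) := fun z => by
      show _ = Points.map _ (Points.map _ z)
      rw [← Points.map_comp, prod.map_fst, Category.comp_id]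
    have hwD : w ∈ D := hmem w (by rw [hpq, hwq, ← hpq, hyy'])
    have hwO : q w ∈ O := hOW.ge ⟨hw, hwD⟩
    rw [hwq] at hwO
    exact hy' (hOW.le hwO).1
  exact ⟨inferInstance⟩

end Groth.L23.GConn
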