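import Groth.Agent.L23.IntCover.Finite
import Groth.Agent.L23.MorCalc
import Groth.Agent.L23.FiniteMor
import Groth.Agent.L09.OverMapSp.Equiv
import Groth.Agent.L09.OverMapSp.RepW
import Groth.Agent.L09.OverMapSp.Space
import Groth.Agent.L28.Ph.Cover
import Groth.Prelude.Def_W4stk3sptopologiesPh

/-!
# Proper surjective morphisms are ph coverings
-/

universe u

open CategoryTheory CategoryTheory.Limits AlgebraicGeometry Opposite AlgSp

set_option autoImplicit false
set_option linter.style.haveILetI false
set_option backward.isDefEq.respectTransparency false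
set_option backward.isDefEq.respectTransparency.types false

noncomputable section

namespace Groth.L23.PhProper

open Groth.L09.OverMapSp

variable {S S' : Scheme.{u}} (g : S' ⟶ S)

/-- The base of the smaller site inside the restriction of the scheme it is. -/
def unitBase : (yon S').obj (Over.mk (𝟙 S')) ⟶ (res g).obj ((yon S).obj (Over.mk g)) :=
  (homEquiv _).symm ((yon S).map (strMap (Over.mk (𝟙 S'))))

theorem homEquiv_comp_unitBase {T : Over S'} (t : (yon S').obj T ⟶ (yon S').obj (Over.mk (𝟙 S'))) :
    homEquiv T (t ≫ unitBase g) = (yon S).map (strMap T) := by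
  obtain ⟨t, rfl⟩ := (yon S').map_surjective t
  rw [homEquiv_naturality, unitBase, Equiv.apply_symm_apply, ← Functor.map_comp]
  exact congrArg _ (Over.OverMorphism.ext (Over.w t))

/-- A proper space over an affine scheme receives a proper surjection from a proper scheme. -/
theorem exists_scheme_proper_cover [IsAffine S'] {P : Sp S} (hP : IsAlgSpace P)
    (π : P ⟶ (yon S).obj (Over.mk g)) (hp : IsProperMor π) :
    ∃ (Q : Over S) (a : (yon S).obj Q ⟶ P) (m : Q ⟶ Over.mk g),
      (yon S).map m = a ≫ π ∧ IsProper m.left ∧ IsProperMor a ∧ IsSurjectiveMor a := by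
  let one : Over S' := Over.mk (𝟙 S')
  let X₀ : Sp S' := pullback ((res g).map π) (unitBase g)
  have hX₀ : IsAlgSpace X₀ := isAlgSpace_of_isPullback (isAlgSpace_res (IsAlgSpace.yon_obj (Over.mk g))).diag
    (isAlgSpace_res hP) (IsAlgSpace.yon_obj one) (IsPullback.of_hasPullback _ _)
  have ht : IsTerminal ((yon S').obj one) := Over.mkIdTerminal.isTerminalObj (yon S') one
  let D : Fibre g π X₀ :=
    { ι := fun {T} x => homEquiv T (x ≫ pullback.fst _ _)
      nat := fun b x => by rw [← homEquiv_naturality, Category.assoc]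
      ι_π := fun {T} x => by
        rw [← homEquiv_comp, Category.assoc, pullback.condition, ← Category.assoc, homEquiv_comp_unitBase]
      inj := fun {T x x'} h => pullback.hom_ext ((homEquiv T).injective h) (ht.hom_ext _ _)
      surj := fun {T} z hz => ⟨pullback.lift ((homEquiv T).symm z) (ht.from _)
        ((homEquiv T).injective (by
          rw [homEquiv_comp, Equiv.apply_symm_apply, hz, homEquiv_comp_unitBase])),
          by rw [pullback.lift_fst, Equiv.apply_symm_apply]⟩ }
  haveI : CompactSpace (Over.mk g).left := inferInstanceAs (CompactSpace S')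
  obtain ⟨W, p, hpe, hps, hW⟩ : IsQuasiCompactSp P :=
    hp.2.1.2 (IsAlgSpace.yon_obj _) isQuasiCompactSp_of_compactSpace (𝟙 _) (𝟙 _) π IsPullback.of_id_fst
  haveI := hW
  obtain ⟨θ, hθ, -⟩ := D.exists_iso
  haveI := hθ
  obtain ⟨T, e, x, hx⟩ := exists_incl (p ≫ inv θ)
  have hdesc : ∀ (Q : MorphismProperty Scheme.{u}) [Q.IsStableUnderBaseChange], RepWith Q p → RepWith Q x := by
    intro Q _ hQ
    have hincl : RepWith Q (incl g x) := by
      rw [← hx, ← Category.assoc]
      refine repWith_of_isPullback (f := p) (a := (yon S).map e.hom) (b := θ)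
        (IsPullback.of_horiz_isIso ⟨?_⟩) hQ
      rw [Category.assoc, Category.assoc, IsIso.inv_hom_id, Category.comp_id]
    refine repWith_of_exists fun T₀ y => ?_
    obtain ⟨V, a, i, sqV⟩ := exists_isPullback_of_representable (hX₀.representable_from_yon x) y
    exact ⟨V, (yon S').map a, i, sqV,
      repWith_prop hincl (U := (Over.map g).obj T₀) (V := (Over.map g).obj V) (isPullback_incl sqV)⟩
  have hxe : RepWith @Etale x := hdesc @Etale hpe
  have hxs : RepWith @Surjective x := hdesc @Surjective hps
  haveI : CompactSpace T.left := by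
    haveI : IsIso ((Over.forget S).map e.hom) := inferInstance
    haveI : CompactSpace ((Over.forget S).obj W) := hW
    exact ((Over.forget S).map e.hom).homeomorph.symm.compactSpace
  have hqc : IsQuasiCompactSp X₀ := ⟨T, x, hxe, hxs, ‹_›⟩
  have hqs : IsQuasiSeparatedSp X₀ := by
    have h0 : IsQuasiSeparatedSp ((yon S').obj one) := by
      show RepWith _ _
      rw [repWith_diag_yon_iff]
      show QuasiCompact (pullback.diagonal (𝟙 S'))
      infer_instance
    refine Groth.L09.SpLimit.qsSp_of_qsMor h0 (f := pullback.snd ((res g).map π) (unitBase g)) ?_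
    refine repWith_of_isPullback (isPullback_diagonal (IsPullback.of_hasPullback ((res g).map π) (unitBase g))) ?_
    have h₁ : RepWith @IsClosedImmersion (pullback.diagonal π) := hp.1
    have e : pullback.diagonal ((res g).map π) =
        (res g).map (pullback.diagonal π) ≫ (PreservesPullback.iso (res g) π π).hom := by
      apply pullback.hom_ext <;> simp [← Functor.map_comp]
    rw [e]
    exact repWith_comp (repWith_res _ (repWith_mono (fun φ (_ : IsClosedImmersion φ) =>
      inferInstanceAs (QuasiCompact φ)) h₁)) (repWith_of_isIso _)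
  haveI : QuasiSeparatedSpace S' := inferInstance
  obtain ⟨Y₀, g₀, hg₀, hg₀s, -⟩ := IntCover.exists_scheme_finite ⟨X₀, hX₀⟩ hqc hqs x hxe hxs
  have hgr : RepWith @IsFinite g₀ := isFiniteMor_iff.1 hg₀
  have hgs : RepWith @Surjective g₀ := repWith_surjective_of_map hgr.1 hg₀s
  have haf : RepWith @IsFinite (D.ι g₀) := D.repWith_ι _ hgr
  have has : RepWith @Surjective (D.ι g₀) := D.repWith_ι _ hgs
  obtain ⟨m, hm⟩ := (yon S).map_surjective (D.ι g₀ ≫ π)
  have hmp : IsProperMor ((yon S).map m) := hm ▸ isProperMor_comp (IsAlgSpace.yon_obj _) hP (IsAlgSpace.yon_obj _)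
    (isProperMor_of_repWith (repWith_mono (fun φ (_ : IsFinite φ) => inferInstanceAs (IsProper φ)) haf)) hp
  have hrep : Representable ((yon S).map m) := (IsAlgSpace.yon_obj _).representable_from_yon _
  refine ⟨_, D.ι g₀, m, hm, ?_,
    isProperMor_of_repWith (repWith_mono (fun φ (_ : IsFinite φ) => inferInstanceAs (IsProper φ)) haf),
    surjective_map_of_repWith has⟩
  haveI : UniversallyClosed m.left :=
    (repWith_yon_map_iff _ _).1 ((repWith_universallyClosed_iff hrep).2 hmp.2.2)
  haveI : IsSeparated m.left := (isSeparatedMor_yon_map_iff m).1 hmp.1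
  haveI : LocallyOfFiniteType m.left :=
    (repWith_yon_map_iff _ _).1 (repWith_of_locP etLocal_lft (IsAlgSpace.yon_obj _) hrep hmp.2.1.1)
  exact {}

/-- A proper surjective space over an affine scheme receives a proper surjection from a scheme. -/
theorem exists_scheme_proper_surjective [IsAffine S'] {P : Sp S} (hP : IsAlgSpace P)
    (π : P ⟶ (yon S).obj (Over.mk g)) (hp : IsProperMor π) (hs : IsSurjectiveMor π) :
    ∃ (Q : Over S) (a : (yon S).obj Q ⟶ P) (m : Q ⟶ Over.mk g),
      (yon S).map m = a ≫ π ∧ IsProper m.left ∧ Surjective m.left := by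
  obtain ⟨Q, a, m, hm, hmp, -, has⟩ := exists_scheme_proper_cover g hP π hp
  refine ⟨Q, a, m, hm, hmp, (repWith_yon_map_iff _ _).1
    (repWith_surjective_of_map ((IsAlgSpace.yon_obj _).representable_from_yon _) ?_)⟩
  rw [hm]
  intro y
  obtain ⟨z, rfl⟩ := hs y
  obtain ⟨w, rfl⟩ := has z
  exact ⟨w, Points.map_comp _ _ _⟩

/-- A proper surjective morphism is a ph covering. -/
theorem isPhCover_of_proper_surjective {X Y : Space S} (f : Y ⟶ X) (hf : IsProperMor f.hom)
    (hs : IsSurjectiveMor f.hom) : IsPhCover (fun _ : PUnit.{u + 1} => Y.obj) (fun _ => f.hom) := by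
  refine ⟨fun _ => hf.2.1.1, fun Z hZ k => ?_⟩
  haveI := hZ
  have sq := IsPullback.of_hasPullback f.hom k
  have hP : IsAlgSpace (pullback f.hom k) :=
    isAlgSpace_of_isPullback X.property.diag Y.property (IsAlgSpace.yon_obj Z) sq
  have hπs : IsSurjectiveMor (pullback.snd f.hom k) := fun z => by
    obtain ⟨y, hy⟩ := hs (Points.map k z)
    obtain ⟨q, -, hq⟩ := exists_of_isPullback sq y z hy
    exact ⟨q, hq⟩
  haveI : IsAffine (Over.mk Z.hom).left := hZ
  obtain ⟨Q, a, m, hm, hmp, hms⟩ := exists_scheme_proper_surjective Z.hom hP (pullback.snd f.hom k)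
    (isProperMor_of_isPullback Y.property X.property (IsAlgSpace.yon_obj Z) sq hf) hπs
  haveI := hmp
  haveI := hms
  haveI : IsAffine Z.left := hZ
  let E : PreZeroHypercover.{0} Z.left := { I₀ := PUnit, X := fun _ => Q.left, f := fun _ => m.left }
  obtain ⟨F, hF, ⟨φ⟩⟩ := Groth.L28.Ph.exists_isStandardPh_of_local m.left E fun q => by
    obtain ⟨_, ⟨W, hW, rfl⟩, hqW, -⟩ := Q.left.isBasis_affineOpens.exists_subset_of_mem_open (Set.mem_univ q) isOpen_univ
    change Q.left.Opens at W
    exact ⟨W, hW, hqW, PUnit.unit, W.ι, rfl⟩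
  refine ⟨F, hF, fun j => ?_⟩
  let n : Over.mk (F.f j ≫ Z.hom) ⟶ Q := Over.homMk (φ.h₀ j) (by
    show φ.h₀ j ≫ Q.hom = F.f j ≫ Z.hom
    rw [← φ.w₀ j, Category.assoc]
    exact congrArg (φ.h₀ j ≫ ·) (Over.w m).symm)
  refine ⟨PUnit.unit, (yon S).map n ≫ a ≫ pullback.fst f.hom k, ?_⟩
  rw [Category.assoc, Category.assoc, pullback.condition, ← reassoc_of% hm, ← Functor.map_comp_assoc]
  refine congrArg (fun v => (yon S).map v ≫ k) (Over.OverMorphism.ext ?_)
  exact φ.w₀ j

end Groth.L23.PhProper
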