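import Groth.Agent.L23.NormProps
import Groth.Agent.L23.NormGlobal
import Groth.Agent.L23.AffineMor
import Groth.Agent.L23.SourceReduced
import Groth.Agent.L01.NagataFiniteType
import Groth.Agent.L23.MorCalc

/-!
# Finiteness of relative normalizations over Nagata spaces
-/

universe u

open CategoryTheory CategoryTheory.Limits AlgebraicGeometry AlgSp

set_option autoImplicit false
set_option linter.style.haveILetI false
set_option backward.isDefEq.respectTransparency false
set_option backward.isDefEq.respectTransparency.types false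

noncomputable section

namespace Groth.L23.NormNagata

variable {S : Scheme.{u}}

theorem finite_of_isEqInt {A B C D : CommRingCat.{u}} {φ : A ⟶ C} {π₁ π₂ : C ⟶ D} {β : A ⟶ B} {val : B ⟶ C}
    (he : Norm.IsEqInt φ π₁ π₂ β val) (hA : CAlg.IsNagata A) [_root_.IsReduced C]
    (hft : φ.hom.FiniteType) : β.hom.Finite := by
  letI := φ.hom.toAlgebra
  letI := β.hom.toAlgebra
  haveI : Algebra.FiniteType A C := hft
  haveI := Groth.L01.Nagata.finite_integralClosure_of_isNagata (S := C) hA
  haveI := hA.1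
  let v : (B : Type u) →ₐ[(A : Type u)] (C : Type u) :=
    { val.hom with commutes' := fun a => congr($(he.comp).hom a) }
  let w : (B : Type u) →ₐ[(A : Type u)] integralClosure (A : Type u) (C : Type u) :=
    v.codRestrict _ fun b => ((he.mem_iff _).1 ⟨b, rfl⟩).1
  exact Module.Finite.of_injective w.toLinearMap fun x y e => he.inj (congrArg Subtype.val e)

/-- The normalization of an affine Nagata scheme in a reduced space of finite type over it is finite. -/
theorem isFinite_of_isNorm {P : Sp S} {Z N : Over S} [IsAffine Z.left] {q : P ⟶ (yon S).obj Z}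
    {ν : N ⟶ Z} {γ : P ⟶ (yon S).obj N} (h : Norm.IsNorm q ν γ) (hP : IsQuasiCompactSp P)
    (hqs : RepWith @QuasiCompact (pullback.diagonal q)) (hA : CAlg.IsNagata Γ(Z.left, ⊤))
    (hred : ∀ (U : Over S) (p : (yon S).obj U ⟶ P), RepWith @Etale p → IsReduced U.left)
    (hft : LocP @LocallyOfFiniteType q) : IsFinite ν.left := by
  obtain ⟨U, R, p, r₁, r₂, hU, hR, hp⟩ := Norm.exists_isPres q hP hqs
  obtain ⟨k, hk⟩ := (yon S).map_surjective (p ≫ q)
  haveI : LocallyOfFiniteType k.left :=
    hft p (𝟙 _) k hp.etale (repWith_id _ Z) (by rw [hk, Category.comp_id])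
  obtain ⟨N₀, ν₀, γ₀, n, hN₀, hn, he, hN₀'⟩ := Norm.exists_norm_of_pres q hp k hk
  obtain ⟨θ, hθ, -⟩ := h.exists_iso hN₀'
  haveI : IsReduced U.left := hred U p hp.etale
  haveI : IsFinite ν₀.left := (HasAffineProperty.iff_of_isAffine (P := @IsFinite)).2
    ⟨inferInstance, finite_of_isEqInt he hA (HasRingHomProperty.appTop @LocallyOfFiniteType _ inferInstance)⟩
  haveI : IsIso θ.hom.left := inferInstanceAs (IsIso ((Over.forget S).map θ.hom))
  rw [← hθ, Over.comp_left]
  exact (MorphismProperty.cancel_left_of_respectsIso @IsFinite θ.hom.left ν₀.left).2 ‹_›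

/-- All etale charts of a reduced space are reduced. -/
theorem isReduced_chart {X : Sp S} (h : EtaleLocally (fun U => IsReduced U) X) {U : Over S}
    {a : (yon S).obj U ⟶ X} (ha : RepWith @Etale a) : IsReduced U.left := by
  obtain ⟨U', a', ha', has', hU'⟩ := h
  obtain ⟨P, p, π, sP⟩ := exists_isPullback_of_representable ha.1 a'
  haveI : IsReduced U'.left := hU'
  haveI : Etale π.left := repWith_prop ha sP
  haveI : IsReduced P.left := isReduced_of_etale π.left
  haveI : Etale p.left := repWith_prop ha' sP.flip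
  haveI : Surjective p.left := repWith_prop has' sP.flip
  exact Groth.L20.isReduced_of_surjective_of_flat p.left

/-- Relative normalizations over Nagata spaces are finite. -/
theorem isFiniteMor_normalization {X Y Y' : Sp S} (hX : IsAlgSpace X) (hY : IsAlgSpace Y) (hY' : IsAlgSpace Y')
    {f : X ⟶ Y} (hN : EtaleLocally (fun U => ∀ V : U.Opens, IsAffineOpen V → CAlg.IsNagata ↑Γ(U, V)) Y)
    (hqs : IsQuasiSeparatedMor f) (hft : IsFiniteTypeMor f)
    (hred : EtaleLocally (fun U => IsReduced U) X) {ν : Y' ⟶ Y} {f' : X ⟶ Y'}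
    (hn : IsRelNormalization f ν f') : IsFiniteMor ν := by
  have hloc := Norm.isLocNorm_of_isRelNormalization hY hY' hft.2 hqs hn
  obtain ⟨U₀, p₀, hp₀, hps₀, hU₀⟩ := hN
  have hr : Representable ν := (isIntegralMor_iff.1 hn.2.1).1
  obtain ⟨M, fst, μ, sM⟩ : ∃ (M : Over S) (fst : (yon S).obj M ⟶ Y') (μ : M ⟶ U₀),
      IsPullback fst ((yon S).map μ) ν p₀ := ⟨_, _, _, hr.isPullback p₀⟩
  haveI := isLocalAtTarget_fppf (@IsFinite : MorphismProperty Scheme.{u})
  haveI := isLocallySurjective_of_etale p₀ hp₀ hps₀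
  refine isFiniteMor_iff.2 (repWith_of_locallySurjective hr sM (repWith_map ?_))
  rw [IsZariskiLocalAtTarget.iff_of_iSup_eq_top (P := @IsFinite) _ (iSup_affineOpens_eq_top U₀.left)]
  intro B
  let V : Over S := Over.mk (B.1.ι ≫ U₀.hom)
  let j : V ⟶ U₀ := Over.homMk B.1.ι rfl
  haveI : IsAffine V.left := B.2
  let c : Norm.Chart Y :=
    ⟨V, (yon S).map j ≫ p₀, repWith_comp (repWith_map (inferInstanceAs (Etale B.1.ι))) hp₀⟩
  have hA : CAlg.IsNagata Γ(V.left, ⊤) :=
    Groth.L01.Nagata.isNagata_of_surjective B.1.topIso.commRingCatIsoToRingEquiv.symm.toRingHom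
      B.1.topIso.commRingCatIsoToRingEquiv.symm.surjective (hU₀ B.1 B.2)
  have sN := IsPullback.paste_horiz ((IsPullback.of_hasPullback μ j).map (yon S)) sM
  have sq := IsPullback.of_hasPullback f c.v
  have hP : IsAlgSpace (pullback f c.v) := isAlgSpace_of_isPullback hY.diag hX (IsAlgSpace.yon_obj V) sq
  obtain ⟨γ, hγ₁, hγ₂⟩ := sN.exists_lift (pullback.fst f c.v ≫ f') (pullback.snd f c.v)
    (by rw [Category.assoc, hn.1, pullback.condition])
  have hnorm := hloc.norm c _ _ _ sq _ _ _ sN γ hγ₁ hγ₂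
  have hfst : RepWith @Etale (pullback.fst f c.v) := repWith_of_isPullback sq.flip c.etale
  have hfin := isFinite_of_isNorm hnorm (Norm.qcqs_chart hft.2 hqs c sq).1 (Norm.qcqs_chart hft.2 hqs c sq).2 hA
    (fun U p hp => isReduced_chart hred (repWith_comp hp hfst))
    (locP_of_isPullback etLocal_lft hX hY (IsAlgSpace.yon_obj V) sq hft.1)
  have sq₃ : IsPullback (pullback.fst μ j).left (pullback.snd μ j).left μ.left B.1.ι :=
    (IsPullback.of_hasPullback μ j).map (Over.forget S)
  exact (MorphismProperty.arrow_mk_iso_iff @IsFinite (Arrow.isoMk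
    (sq₃.flip.isoIsPullback _ _ (isPullback_morphismRestrict μ.left B.1)) (Iso.refl _)
    ((sq₃.flip.isoIsPullback_hom_fst _ _ _).trans (Category.comp_id _).symm))).1 hfin

end Groth.L23.NormNagata
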