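import Groth.Agent.L23.GeomConn
import Groth.Agent.L23.Compact
import Groth.Agent.L23.OpenSub
import Mathlib.LinearAlgebra.TensorProduct.Finiteness

/-!
# Connectedness of fibres over a field is tested at finite levels
-/

universe u

open CategoryTheory CategoryTheory.Limits AlgebraicGeometry AlgSp Topology TensorProduct

set_option autoImplicit false
set_option backward.isDefEq.respectTransparency.types false
set_option linter.style.haveILetI false

namespace Groth.L23.GFC

variable {S : Scheme.{u}} {R₀ : Type u} [CommRing R₀] (w₀ : Spec (CommRingCat.of R₀) ⟶ S)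

/-- An algebra over the affine base as a scheme over `S`. -/
noncomputable abbrev spA (A : Type u) [CommRing A] [Algebra R₀ A] : Over S :=
  Over.mk (Spec.map (CommRingCat.ofHom (algebraMap R₀ A)) ≫ w₀)

/-- The structure morphism. -/
noncomputable def str (A : Type u) [CommRing A] [Algebra R₀ A] : spA w₀ A ⟶ Over.mk w₀ :=
  Over.homMk (Spec.map (CommRingCat.ofHom (algebraMap R₀ A))) rfl

/-- The morphism of an algebra map. -/
noncomputable def specHom {A A' : Type u} [CommRing A] [Algebra R₀ A] [CommRing A'] [Algebra R₀ A']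
    (j : A →ₐ[R₀] A') : spA w₀ A' ⟶ spA w₀ A :=
  Over.homMk (Spec.map (CommRingCat.ofHom j.toRingHom))
    (by
      show Spec.map _ ≫ (Spec.map _ ≫ w₀) = Spec.map _ ≫ w₀
      rw [← Category.assoc, ← Spec.map_comp, ← CommRingCat.ofHom_comp]
      exact congrArg (fun r => Spec.map (CommRingCat.ofHom r) ≫ w₀) j.comp_algebraMap)

theorem specHom_str {A A' : Type u} [CommRing A] [Algebra R₀ A] [CommRing A'] [Algebra R₀ A']
    (j : A →ₐ[R₀] A') : specHom w₀ j ≫ str w₀ A = str w₀ A' := by
  refine Over.OverMorphism.ext ?_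
  show Spec.map _ ≫ Spec.map _ = Spec.map _
  rw [← Spec.map_comp, ← CommRingCat.ofHom_comp]
  exact congrArg (fun r => Spec.map (CommRingCat.ofHom r)) j.comp_algebraMap

theorem specHom_comp {A A' A'' : Type u} [CommRing A] [Algebra R₀ A] [CommRing A'] [Algebra R₀ A']
    [CommRing A''] [Algebra R₀ A''] (j : A →ₐ[R₀] A') (j' : A' →ₐ[R₀] A'') :
    specHom w₀ j' ≫ specHom w₀ j = specHom w₀ (j'.comp j) := by
  refine Over.OverMorphism.ext ?_
  show Spec.map _ ≫ Spec.map _ = Spec.map _
  rw [← Spec.map_comp]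
  rfl

theorem isPullback_tensor (R K : Type u) [CommRing R] [Algebra R₀ R] [CommRing K] [Algebra R₀ K] :
    IsPullback ((yon S).map (specHom w₀ (Algebra.TensorProduct.includeLeft : R →ₐ[R₀] R ⊗[R₀] K)))
      ((yon S).map (specHom w₀ (Algebra.TensorProduct.includeRight : K →ₐ[R₀] R ⊗[R₀] K)))
      ((yon S).map (str w₀ R)) ((yon S).map (str w₀ K)) := by
  refine IsPullback.map (yon S) (IsPullback.of_map (Over.forget S)
    (by rw [specHom_str, specHom_str]) ?_)
  exact isPullback_SpecMap_of_isPushout _ _ _ _ (CommRingCat.isPushout_tensorProduct R₀ R K)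

variable {w₀} {Z : Sp S} (b : Z ⟶ (yon S).obj (Over.mk w₀))

/-- The base change of `Z` to an algebra. -/
noncomputable abbrev bc (A : Type u) [CommRing A] [Algebra R₀ A] : Sp S := pullback b ((yon S).map (str w₀ A))

/-- The transition map. -/
noncomputable def trans {A A' : Type u} [CommRing A] [Algebra R₀ A] [CommRing A'] [Algebra R₀ A']
    (j : A →ₐ[R₀] A') : bc b A' ⟶ bc b A :=
  pullback.lift (pullback.fst _ _) (pullback.snd _ _ ≫ (yon S).map (specHom w₀ j))
    (by rw [pullback.condition, Category.assoc, ← Functor.map_comp, specHom_str])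

theorem isPullback_trans {A A' : Type u} [CommRing A] [Algebra R₀ A] [CommRing A'] [Algebra R₀ A']
    (j : A →ₐ[R₀] A') :
    IsPullback (pullback.snd b ((yon S).map (str w₀ A'))) (trans b j) ((yon S).map (specHom w₀ j))
      (pullback.snd b ((yon S).map (str w₀ A))) := by
  refine (IsPullback.of_right ?_ (pullback.lift_snd _ _ _) (IsPullback.of_hasPullback b ((yon S).map (str w₀ A)))).flip
  rw [pullback.lift_fst,
    ← Functor.map_comp, specHom_str]
  exact IsPullback.of_hasPullback b ((yon S).map (str w₀ A'))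

theorem surjective_trans {K L : Type u} [Field K] [Field L] [Algebra R₀ K] [Algebra R₀ L] (j : L →ₐ[R₀] K) :
    Function.Surjective (Points.map (trans b j)) := by
  refine surjective_snd_of_isPullback (isPullback_trans b j) fun y => ?_
  obtain ⟨z, rfl⟩ := (Points.schemeHomeo _).surjective y
  refine ⟨Points.schemeHomeo _ (⊥ : PrimeSpectrum K), ?_⟩
  rw [Points.map_yon_map_eq]
  have : Subsingleton (PrimeSpectrum L) := inferInstance
  simp only [Function.comp_apply, Homeomorph.symm_apply_apply]
  exact congrArg _ (this.elim _ _)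

theorem isClosedMap_trans {K L : Type u} [Field K] [Field L] [Algebra R₀ K] [Algebra R₀ L] (j : L →ₐ[R₀] K)
    (hj : j.toRingHom.IsIntegral) : IsClosedMap (Points.map (trans b j)) := by
  have h' : RepWith @IsIntegralHom (trans b j) :=
    repWith_of_isPullback (isPullback_trans b j) (repWith_map (IsIntegralHom.SpecMap_iff.2 hj))
  refine isClosedMap_map_of_representable h'.1 (fun U g => ?_)
  have : IsIntegralHom (h'.1.snd g).left := repWith_snd h' g
  exact (h'.1.snd g).left.isClosedMap

theorem isOpenMap_trans {K L : Type u} [Field K] [Field L] [Algebra R₀ K] [Algebra R₀ L] (j : L →ₐ[R₀] K) :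
    IsOpenMap (Points.map (trans b j)) := by
  have : IsField (CommRingCat.of L) := Field.toIsField L
  let φ' : Spec (CommRingCat.of K) ⟶ Spec (CommRingCat.of L) := (specHom w₀ j).left
  have h' : RepWith @UniversallyOpen (trans b j) :=
    repWith_of_isPullback (isPullback_trans b j) (repWith_map (show UniversallyOpen φ' from inferInstance))
  exact isOpenMap_map_of_universallyOpen h'

variable {b}

/-- The chart of a base change. -/
noncomputable def chart {R : Type u} [CommRing R] [Algebra R₀ R] {a : (yon S).obj (spA w₀ R) ⟶ Z}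
    (hab : a ≫ b = (yon S).map (str w₀ R)) (A : Type u) [CommRing A] [Algebra R₀ A] :
    (yon S).obj (spA w₀ (R ⊗[R₀] A)) ⟶ bc b A :=
  pullback.lift ((yon S).map (specHom w₀ Algebra.TensorProduct.includeLeft) ≫ a)
    ((yon S).map (specHom w₀ Algebra.TensorProduct.includeRight))
    (by rw [Category.assoc, hab]; exact (isPullback_tensor w₀ R A).w)

theorem isPullback_chart {R : Type u} [CommRing R] [Algebra R₀ R] {a : (yon S).obj (spA w₀ R) ⟶ Z}
    (hab : a ≫ b = (yon S).map (str w₀ R)) (A : Type u) [CommRing A] [Algebra R₀ A] :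
    IsPullback ((yon S).map (specHom w₀ (Algebra.TensorProduct.includeLeft : R →ₐ[R₀] R ⊗[R₀] A)))
      (chart hab A) a (pullback.fst b ((yon S).map (str w₀ A))) := by
  refine IsPullback.of_bot ?_ (pullback.lift_fst _ _ _).symm (IsPullback.of_hasPullback b ((yon S).map (str w₀ A)))
  rw [chart, pullback.lift_snd, hab]
  exact isPullback_tensor w₀ R A

theorem isPullback_chart_map {R : Type u} [CommRing R] [Algebra R₀ R] {a : (yon S).obj (spA w₀ R) ⟶ Z}
    (hab : a ≫ b = (yon S).map (str w₀ R)) {L K : Type u} [CommRing L] [CommRing K] [Algebra R₀ L] [Algebra R₀ K]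
    (j : L →ₐ[R₀] K) :
    IsPullback ((yon S).map (specHom w₀ (Algebra.TensorProduct.map (AlgHom.id R₀ R) j))) (chart hab K)
      (chart hab L) (trans b j) := by
  refine IsPullback.of_right ?_ ?_ (isPullback_chart hab L)
  · rw [trans, pullback.lift_fst, ← Functor.map_comp, specHom_comp,
      show (Algebra.TensorProduct.map (AlgHom.id R₀ R) j).comp Algebra.TensorProduct.includeLeft =
        Algebra.TensorProduct.includeLeft from AlgHom.ext fun r => by simp]
    exact isPullback_chart hab K
  · refine pullback.hom_ext ?_ ?_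
    · rw [Category.assoc, chart, pullback.lift_fst, Category.assoc, trans, pullback.lift_fst, chart,
        pullback.lift_fst, ← Functor.map_comp_assoc, specHom_comp]
      congr 3
      exact AlgHom.ext fun r => by simp
    · rw [Category.assoc, chart, pullback.lift_snd, Category.assoc, trans, pullback.lift_snd, chart,
        pullback.lift_snd_assoc, ← Functor.map_comp, specHom_comp, ← Functor.map_comp, specHom_comp]
      congr 2

theorem exists_chart (hZ : IsAlgSpace Z) (x : Points Z) :
    ∃ (R : Type u) (_ : CommRing R) (_ : Algebra R₀ R) (a : (yon S).obj (spA w₀ R) ⟶ Z),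
      a ≫ b = (yon S).map (str w₀ R) ∧ x ∈ Set.range (Points.map a) := by
  obtain ⟨W, a, hW, -, hx⟩ := exists_affine_etale_nhd hZ x
  obtain ⟨ψ, hψ⟩ := (yon S).map_surjective (a ≫ b)
  let ψ' : W.left ⟶ Spec (CommRingCat.of R₀) := ψ.left
  obtain ⟨φ, hφ⟩ := Spec.map_surjective (W.left.isoSpec.inv ≫ ψ')
  letI : Algebra R₀ Γ(W.left, ⊤) := φ.hom.toAlgebra
  have hw : ψ' ≫ w₀ = W.hom := Over.w ψ
  let e : spA w₀ Γ(W.left, ⊤) ≅ W := Over.isoMk W.left.isoSpec.symm (by
    show W.left.isoSpec.inv ≫ W.hom = Spec.map φ ≫ w₀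
    rw [hφ, Category.assoc, hw])
  refine ⟨Γ(W.left, ⊤), inferInstance, inferInstance, (yon S).map e.hom ≫ a, ?_, ?_⟩
  · rw [Category.assoc, ← hψ, ← Functor.map_comp]
    refine congrArg (yon S).map (Over.OverMorphism.ext ?_)
    show W.left.isoSpec.inv ≫ ψ' = Spec.map φ
    rw [hφ]
  · rw [← range_map_yon] at hx
    obtain ⟨z, rfl⟩ := hx
    refine ⟨Points.map ((yon S).map e.inv) z, ?_⟩
    rw [← Points.map_comp, ← Functor.map_comp_assoc, e.inv_hom_id, CategoryTheory.Functor.map_id, Category.id_comp]

variable (b) in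
/-- Connectedness descends to the limit of the levels. -/
theorem connectedSpace_bc (hZ : IsAlgSpace Z) (K : Type u) [Field K] [Algebra R₀ K]
    (h : ∀ s : Finset K, ∃ (L : Type u) (_ : Field L) (_ : Algebra R₀ L) (j : L →ₐ[R₀] K),
      j.toRingHom.IsIntegral ∧ (∀ x ∈ s, x ∈ Set.range j) ∧ ConnectedSpace (Points (bc b L))) :
    ConnectedSpace (Points (bc b K)) := by
  have hne : Nonempty (Points (bc b K)) := by
    obtain ⟨L, _, _, j, -, -, hL⟩ := h ∅
    obtain ⟨x⟩ := hL.toNonempty
    exact ⟨(surjective_trans b j x).choose⟩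
  haveI : PreconnectedSpace (Points (bc b K)) := by
    refine preconnectedSpace_iff_clopen.2 fun W hW => ?_
    by_contra hcon
    push Not at hcon
    obtain ⟨y, hy⟩ := hcon.1
    obtain ⟨R, _, _, a, hab, r, hr⟩ := exists_chart (b := b) hZ (Points.map (pullback.fst _ _) y)
    obtain ⟨p, -, hp⟩ := exists_of_isPullback (isPullback_chart hab K) r y hr
    obtain ⟨z, rfl⟩ := (Points.schemeHomeo _).surjective p
    have hcl : IsClopen ((fun w : PrimeSpectrum (R ⊗[R₀] K) =>
        Points.map (chart hab K) (Points.schemeHomeo (spA w₀ (R ⊗[R₀] K)) w)) ⁻¹' W) :=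
      hW.preimage ((Points.continuous_map _).comp (Points.schemeHomeo (spA w₀ (R ⊗[R₀] K))).continuous)
    obtain ⟨f, -, hf⟩ := PrimeSpectrum.exists_idempotent_basicOpen_eq_of_isClopen hcl
    classical
    obtain ⟨t, ht⟩ := TensorProduct.exists_finset (R := R₀) f
    obtain ⟨L, _, _, j, hint, hrange, hL⟩ := h (t.image Prod.snd)
    choose g hg using fun i : t => hrange i.1.2 (Finset.mem_image_of_mem _ i.2)
    let m := Algebra.TensorProduct.map (AlgHom.id R₀ R) j
    let f' : R ⊗[R₀] L := ∑ i ∈ t.attach, i.1.1 ⊗ₜ[R₀] g i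
    have hf' : m f' = f := by
      rw [ht, map_sum, ← Finset.sum_attach t]
      exact Finset.sum_congr rfl fun i _ => by simp [m, hg]
    let q := Points.map (trans b j)
    have huniv : q '' Wᶜ = Set.univ :=
      IsClopen.eq_univ ⟨isClosedMap_trans b j hint _ hW.compl.isClosed, isOpenMap_trans b j _ hW.compl.isOpen⟩
        ((Set.nonempty_compl.2 hcon.2).image q)
    obtain ⟨y', hy', hyy⟩ := huniv.ge (Set.mem_univ (q y))
    obtain ⟨p', hp'₁, hp'₂⟩ := exists_of_isPullback (isPullback_chart_map hab j)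
      (Points.map ((yon S).map (specHom w₀ m)) (Points.schemeHomeo _ z)) y'
      (by rw [← Points.map_comp, (isPullback_chart_map hab j).w, Points.map_comp, hp]; exact hyy.symm)
    obtain ⟨z', rfl⟩ := (Points.schemeHomeo _).surjective p'
    rw [Points.map_yon_map_eq] at hp'₁
    simp only [Function.comp_apply, Homeomorph.symm_apply_apply] at hp'₁
    have hm : PrimeSpectrum.comap m.toRingHom z' = PrimeSpectrum.comap m.toRingHom z :=
      (Points.schemeHomeo (spA w₀ (R ⊗[R₀] L))).injective hp'₁
    have hz : z ∈ (PrimeSpectrum.basicOpen f : Set (PrimeSpectrum (R ⊗[R₀] K))) := by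
      rw [← hf]; show Points.map _ _ ∈ W; rw [hp]; exact hy
    have hz' : z' ∈ (PrimeSpectrum.basicOpen f : Set (PrimeSpectrum (R ⊗[R₀] K))) := by
      have h1 := congrArg (fun P : PrimeSpectrum (R ⊗[R₀] L) => f' ∈ P.asIdeal) hm
      simp only [PrimeSpectrum.comap_asIdeal, Ideal.mem_comap, eq_iff_iff] at h1
      rw [show m.toRingHom f' = f from hf'] at h1
      show f ∉ (show PrimeSpectrum (R ⊗[R₀] K) from z').asIdeal
      exact fun hh => (show f ∉ (show PrimeSpectrum (R ⊗[R₀] K) from z).asIdeal from hz) (h1.1 hh)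
    rw [← hf] at hz'
    exact hy' (hp'₂ ▸ hz')
  exact ⟨hne⟩

end Groth.L23.GFC
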