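import Groth.Agent.L23.Gabber
import Groth.Prelude.Def_AlgSpCov

/-!
# Morphisms into algebraic spaces satisfy fpqc descent
-/

universe u

open CategoryTheory CategoryTheory.Limits AlgebraicGeometry AlgSp Opposite

set_option backward.isDefEq.respectTransparency.types false
set_option linter.style.haveILetI false

namespace Groth.L23.HomDescent

variable {S : Scheme.{u}} {ι : Type u} {T B : Sp S} {Ti : ι → Sp S} (g : ∀ i, Ti i ⟶ T)

/-- The arrows to `Z` along which `k` lifts through some member of the family. -/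
def liftSieve {Z : Over S} (k : (yon S).obj Z ⟶ T) : Sieve Z where
  arrows W c := ∃ (i : ι) (l : (yon S).obj W ⟶ Ti i), l ≫ g i = (yon S).map c ≫ k
  downward_closed := by
    rintro W W' c ⟨i, l, hl⟩ d
    exact ⟨i, (yon S).map d ≫ l, by rw [Category.assoc, hl, Functor.map_comp, Category.assoc]⟩

theorem liftSieve_mem (hcov : IsFpqcCover Ti g) {Z : Over S} (k : (yon S).obj Z ⟶ T) :
    liftSieve g k ∈ Scheme.fpqcTopology.over S Z := by
  refine (GrothendieckTopology.mem_over_iff _ _).2 ?_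
  let 𝒰 := Z.left.affineCover
  refine Scheme.fpqcTopology.transitive (S := Sieve.ofArrows 𝒰.X 𝒰.f)
    (Scheme.zariskiTopology_le_fpqcTopology _ (Precoverage.generate_mem_toGrothendieck 𝒰.mem₀)) _ ?_
  rintro Y _ ⟨_, b, _, ⟨n⟩, rfl⟩
  rw [Sieve.pullback_comp]
  refine Scheme.fpqcTopology.pullback_stable b ?_
  let Q : Over S := Over.mk (𝒰.f n ≫ Z.hom)
  let o : Q ⟶ Z := Over.homMk (𝒰.f n) rfl
  have hQ : IsAffine Q.left := inferInstanceAs (IsAffine (𝒰.X n))
  obtain ⟨m, W, c, hW, hc, hs, hl⟩ := hcov.2 Q hQ ((yon S).map o ≫ k)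
  let 𝒱 : Scheme.Cover.{u} (Scheme.precoverage @Flat) Q.left :=
    { I₀ := ULift.{u} (Fin m)
      X := fun j => (W j.down).left
      f := fun j => (c j.down).left
      mem₀ := by
        rw [Scheme.presieve₀_mem_precoverage_iff]
        exact ⟨fun x => by obtain ⟨j, hj⟩ := hs x; exact ⟨⟨j⟩, hj⟩, fun j => hc j.down⟩ }
  have : ∀ j, QuasiCompact (𝒱.f j) := fun j => by
    have : IsAffine (𝒱.X j) := hW j.down
    have := hQ
    infer_instance
  have : Finite 𝒱.I₀ := inferInstanceAs (Finite (ULift.{u} (Fin m)))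
  have : QuasiCompactCover 𝒱.toPreZeroHypercover := QuasiCompactCover.of_finite
  refine Scheme.fpqcTopology.superset_covering ?_ (Scheme.Cover.mem_propQCTopology 𝒱)
  rintro Y' _ ⟨_, d, _, ⟨j⟩, rfl⟩
  obtain ⟨i, l, hl⟩ := hl j.down
  refine (Sieve.overEquiv_iff _ _).2 ?_
  let d' : Over.mk (((d ≫ 𝒱.f j) ≫ 𝒰.f n) ≫ Z.hom) ⟶ W j.down := Over.homMk d (by
    show d ≫ (W j.down).hom = _
    rw [← Over.w (c j.down)]
    exact ((Category.assoc _ _ _).trans ((Category.assoc _ _ _).trans rfl)).symm)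
  refine ⟨i, (yon S).map d' ≫ l, ?_⟩
  refine (Category.assoc _ _ _).trans ((congrArg ((yon S).map d' ≫ ·) hl).trans ?_)
  refine (Functor.map_comp_assoc _ _ _ _).symm.trans ((Functor.map_comp_assoc _ _ _ _).symm.trans ?_)
  refine congrArg (fun φ => (yon S).map φ ≫ k) (Over.OverMorphism.ext ?_)
  rfl

section Glue

variable {g} (hB : IsAlgSpace B) (hcov : IsFpqcCover Ti g) (bi : ∀ i, Ti i ⟶ B)
  (hbi : ∀ i j, pullback.fst (g i) (g j) ≫ bi i = pullback.snd (g i) (g j) ≫ bi j)

theorem nat_equiv {Z W : Over S} (c : W ⟶ Z) (s : B.obj.obj (op Z)) :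
    (yon S).map c ≫ (GrothendieckTopology.uliftYonedaEquiv.{u + 1} (J S)).symm s =
      (GrothendieckTopology.uliftYonedaEquiv.{u + 1} (J S)).symm (B.obj.map c.op s) :=
  GrothendieckTopology.uliftYonedaEquiv_symm_naturality_left _ c B s

include hbi in
theorem lift_indep {W : Over S} {i j : ι} (l : (yon S).obj W ⟶ Ti i) (l' : (yon S).obj W ⟶ Ti j)
    (h : l ≫ g i = l' ≫ g j) : l ≫ bi i = l' ≫ bi j := by
  rw [← pullback.lift_fst l l' h, Category.assoc, hbi, ← Category.assoc, pullback.lift_snd]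

include hB hcov hbi in
theorem existsUnique_desc {Z : Over S} (k : (yon S).obj Z ⟶ T) :
    ∃! b : (yon S).obj Z ⟶ B, ∀ {W : Over S} (c : W ⟶ Z) (i : ι) (l : (yon S).obj W ⟶ Ti i),
      l ≫ g i = (yon S).map c ≫ k → (yon S).map c ≫ b = l ≫ bi i := by
  let e := fun W => GrothendieckTopology.uliftYonedaEquiv.{u + 1} (J S) (X := W) (F := B)
  let fam : Presieve.FamilyOfElements B.obj (liftSieve g k).arrows := fun W c hc =>
    e W (hc.choose_spec.choose ≫ bi hc.choose)
  have hfam : fam.Compatible := by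
    intro W₁ W₂ W d₁ d₂ c₁ c₂ h₁ h₂ w
    apply (e W).symm.injective
    rw [← nat_equiv, ← nat_equiv, Equiv.symm_apply_apply, Equiv.symm_apply_apply, ← Category.assoc,
      ← Category.assoc]
    refine lift_indep bi hbi _ _ ?_
    rw [Category.assoc, Category.assoc, h₁.choose_spec.choose_spec, h₂.choose_spec.choose_spec,
      ← Functor.map_comp_assoc, ← Functor.map_comp_assoc, w]
  obtain ⟨s, hs, hsu⟩ := Gabber.isSheaf_fpqc hB _ (liftSieve_mem g hcov k) fam hfam
  refine ⟨(e Z).symm s, fun {W} c i l hl => ?_, fun b hb => ?_⟩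
  · rw [nat_equiv, hs c ⟨i, l, hl⟩, Equiv.symm_apply_apply]
    exact lift_indep bi hbi _ _ ((Exists.choose_spec (Exists.choose_spec
      (⟨i, l, hl⟩ : ∃ (i : ι) (l : (yon S).obj W ⟶ Ti i), l ≫ g i = (yon S).map c ≫ k))).trans hl.symm)
  · refine ((e Z).symm_apply_apply b).symm.trans (congrArg (e Z).symm (hsu _ fun W c hc => ?_))
    apply (e W).symm.injective
    rw [← nat_equiv, Equiv.symm_apply_apply, Equiv.symm_apply_apply]
    exact hb c _ _ hc.choose_spec.choose_spec

include hB hcov hbi in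
theorem exists_desc : ∃ b : T ⟶ B, ∀ i, g i ≫ b = bi i := by
  choose β hβ hβu using fun (Z : Over S) (k : (yon S).obj Z ⟶ T) => existsUnique_desc hB hcov bi hbi k
  have hnat : ∀ {Z Z' : Over S} (d : Z' ⟶ Z) (k : (yon S).obj Z ⟶ T),
      (yon S).map d ≫ β Z k = β Z' ((yon S).map d ≫ k) := fun d k =>
    hβu _ _ _ fun c i l hl => by
      rw [← Functor.map_comp_assoc]
      exact hβ _ k _ i l (hl.trans (Functor.map_comp_assoc _ _ _ _).symm)
  let eT := fun W => GrothendieckTopology.uliftYonedaEquiv.{u + 1} (J S) (X := W) (F := T)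
  let eB := fun W => GrothendieckTopology.uliftYonedaEquiv.{u + 1} (J S) (X := W) (F := B)
  let φ : T.obj ⟶ B.obj :=
    { app := fun W => ↾fun s => eB W.unop (β W.unop ((eT W.unop).symm s))
      naturality := fun W W' d => by
        refine ConcreteCategory.hom_ext _ _ fun s => ?_
        show eB W'.unop (β W'.unop ((eT W'.unop).symm (T.obj.map d s))) =
          B.obj.map d (eB W.unop (β W.unop ((eT W.unop).symm s)))
        apply (eB W'.unop).symm.injective
        rw [Equiv.symm_apply_apply]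
        refine Eq.trans ?_ (nat_equiv d.unop _)
        rw [Equiv.symm_apply_apply, hnat]
        exact congrArg (β W'.unop) (GrothendieckTopology.uliftYonedaEquiv_symm_naturality_left _ d.unop T s).symm }
  refine ⟨⟨φ⟩, fun i => Groth.L23.hom_ext_yon fun W l => ?_⟩
  apply (eB W).injective
  show eB W (l ≫ g i ≫ ⟨φ⟩) = eB W (l ≫ bi i)
  rw [← Category.assoc]
  refine (GrothendieckTopology.uliftYonedaEquiv_comp.{u + 1} _ _ _).trans ?_
  show eB W (β W ((eT W).symm (eT W (l ≫ g i)))) = _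
  rw [Equiv.symm_apply_apply]
  have := hβ W (l ≫ g i) (𝟙 W) i l (by rw [CategoryTheory.Functor.map_id, Category.id_comp])
  rw [CategoryTheory.Functor.map_id, Category.id_comp] at this
  rw [this]

include hB hcov in
theorem hom_ext' {a b : T ⟶ B} (h : ∀ i, g i ≫ a = g i ≫ b) : a = b := by
  refine Groth.L23.hom_ext_yon fun Z k => ?_
  have hbi' : ∀ i j, pullback.fst (g i) (g j) ≫ (g i ≫ a) = pullback.snd (g i) (g j) ≫ (g j ≫ a) :=
    fun i j => by rw [← Category.assoc, pullback.condition, Category.assoc]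
  refine (existsUnique_desc hB hcov (fun i => g i ≫ a) hbi' k).unique (fun c i l hl => ?_) (fun c i l hl => ?_)
  · rw [← Category.assoc, ← hl, Category.assoc]
  · rw [← Category.assoc, ← hl, Category.assoc, h]

end Glue

end Groth.L23.HomDescent
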