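import Groth.Agent.L23.FpqcGlue
import Groth.Agent.L23.HomDescent
import Groth.Agent.L24.St.DiagSpace

/-!
# Morphisms into a separated space glue along a modification which is flat along its centre
-/

universe u

open CategoryTheory CategoryTheory.Limits AlgebraicGeometry AlgSp TensorProduct

set_option backward.isDefEq.respectTransparency.types false
set_option linter.style.haveILetI false

namespace Groth.L23.GlueHom

section Algebra

variable {A C D : Type u} [CommRing A] [CommRing C] [CommRing D] [Algebra A C] [Algebra A D]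
  [Module.Flat A C] [Module.Flat A D] (I : Ideal A) (φ : C →ₐ[A] D) (σ : D →ₐ[A] C ⧸ I.map (algebraMap A C))
  (h : σ.comp φ = Ideal.Quotient.mkₐ A _)

include h in
theorem eq_zero_of_annihilated (hI : I.FG) {x : C} (hx : ∀ i ∈ I, i • x = 0) (hφ : φ x = 0) : x = 0 := by
  classical
  obtain ⟨s, hs⟩ := hI
  let μ : A →ₗ[A] (s → A) := LinearMap.pi fun g => LinearMap.mulRight A (g : A)
  let ι := (LinearMap.ker μ).subtype
  have hμx : μ.lTensor C (x ⊗ₜ[A] (1 : A)) = 0 := by
    apply (TensorProduct.piScalarRight A A C s).injective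
    rw [map_zero, LinearMap.lTensor_tmul]
    funext g
    simp only [TensorProduct.piScalarRight_apply, TensorProduct.piScalarRightHom_tmul, μ, LinearMap.pi_apply,
      LinearMap.mulRight_apply, one_mul, Pi.zero_apply]
    exact hx _ (hs ▸ Ideal.subset_span g.2)
  obtain ⟨t, ht⟩ := (Module.Flat.lTensor_exact C (LinearMap.exact_subtype_ker_map μ) _).1 hμx
  have hI0 : ∀ i ∈ I, ∀ τ : LinearMap.ker μ, i • τ = 0 := by
    intro i hi τ
    rw [← hs] at hi
    refine Subtype.ext ?_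
    show i * (τ : A) = 0
    induction hi using Submodule.span_induction with
    | mem g hg =>
      have := congrFun (LinearMap.mem_ker.1 τ.2) ⟨g, hg⟩
      simpa [μ, mul_comm] using this
    | zero => simp
    | add a b _ _ ha hb => rw [add_mul, ha, hb, add_zero]
    | smul a b _ hb => rw [smul_eq_mul, mul_assoc, hb, mul_zero]
  have h1 : φ.toLinearMap.rTensor (LinearMap.ker μ) t = 0 := by
    apply Module.Flat.lTensor_preserves_injective_linearMap (M := D) ι (Submodule.injective_subtype _)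
    rw [map_zero]
    have e : ∀ t' : C ⊗[A] LinearMap.ker μ, ι.lTensor D (φ.toLinearMap.rTensor (LinearMap.ker μ) t') =
        φ.toLinearMap.rTensor A (ι.lTensor C t') := by
      intro t'
      induction t' using TensorProduct.induction_on with
      | zero => simp
      | tmul a b => simp
      | add a b ha hb => simp only [map_add, ha, hb]
    rw [e, ht, LinearMap.rTensor_tmul]
    show φ x ⊗ₜ[A] (1 : A) = 0
    rw [hφ, TensorProduct.zero_tmul]
  let J : Submodule A C := (I.map (algebraMap A C)).restrictScalars A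
  let mk : C →ₗ[A] C ⧸ I.map (algebraMap A C) := (Ideal.Quotient.mkₐ A _).toLinearMap
  have h2 : mk.rTensor (LinearMap.ker μ) t = 0 := by
    have : mk = σ.toLinearMap.comp φ.toLinearMap := by
      ext c; exact (AlgHom.congr_fun h c).symm
    rw [this, LinearMap.rTensor_comp_apply, h1, map_zero]
  have hex : Function.Exact J.subtype mk := by
    intro c
    refine ⟨fun hc => ⟨⟨c, Ideal.Quotient.eq_zero_iff_mem.1 hc⟩, rfl⟩, ?_⟩
    rintro ⟨⟨c, hc⟩, rfl⟩
    exact Ideal.Quotient.eq_zero_iff_mem.2 hc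
  obtain ⟨t', ht'⟩ := (rTensor_exact (LinearMap.ker μ) hex (Ideal.Quotient.mkₐ_surjective A _) t).1 h2
  have hz : ∀ t' : J ⊗[A] LinearMap.ker μ, J.subtype.rTensor (LinearMap.ker μ) t' = 0 := by
    intro t'
    induction t' using TensorProduct.induction_on with
    | zero => simp
    | tmul c τ =>
      obtain ⟨c, hc⟩ := c
      rw [LinearMap.rTensor_tmul]
      show c ⊗ₜ[A] τ = 0
      change c ∈ Ideal.span _ at hc
      induction hc using Submodule.span_induction generalizing τ with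
      | mem g hg =>
        obtain ⟨i, hi, rfl⟩ := hg
        rw [Algebra.algebraMap_eq_smul_one, TensorProduct.smul_tmul, hI0 i hi, TensorProduct.tmul_zero]
      | zero => simp
      | add a b _ _ ha hb => rw [TensorProduct.add_tmul, ha, hb, add_zero]
      | smul a b _ hb =>
        have := congrArg ((LinearMap.mulLeft A a).rTensor (LinearMap.ker μ)) (hb τ)
        rw [LinearMap.rTensor_tmul, map_zero] at this
        exact this
    | add a b ha hb => rw [map_add, ha, hb, add_zero]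
  rw [← ht', hz, map_zero] at ht
  have := congrArg (TensorProduct.rid A C) ht.symm
  simpa using this

include h in
theorem eq_zero_of_torsion (hI : I.FG) {n : ℕ} : ∀ {x : C}, (∀ i ∈ I ^ n, i • x = 0) → φ x = 0 → x = 0 := by
  induction n with
  | zero =>
    intro x hx _
    simpa using hx 1 (by simp)
  | succ n ih =>
    intro x hx hφ
    refine ih (fun i hi => eq_zero_of_annihilated I φ σ h hI (fun i' hi' => ?_) ?_) hφ
    · rw [smul_smul]
      exact hx _ (by rw [pow_succ']; exact Ideal.mul_mem_mul hi' hi)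
    · rw [map_smul, hφ, smul_zero]

end Algebra

section Affine

theorem mem_ker_of_factor {R S : CommRingCat.{u}} {E : Scheme.{u}} {e : E ⟶ Spec R} {K : Ideal R}
    (i : E ≅ Spec (.of (R ⧸ K))) (he : e = i.hom ≫ Spec.map (CommRingCat.ofHom (Ideal.Quotient.mk K)))
    (ψ : R ⟶ S) {v : Spec S ⟶ E} (hv : v ≫ e = Spec.map ψ) {x : R} (hx : x ∈ K) : ψ.hom x = 0 := by
  have hψ : ψ = CommRingCat.ofHom (Ideal.Quotient.mk K) ≫ Spec.preimage (v ≫ i.hom) := by
    apply Spec.map_injective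
    rw [Spec.map_comp, Spec.map_preimage, Category.assoc, ← he, hv]
  rw [hψ]
  show (Spec.preimage (v ≫ i.hom)).hom (Ideal.Quotient.mk K x) = 0
  rw [Ideal.Quotient.eq_zero_iff_mem.2 hx, map_zero]

/-- A closed subscheme of an affine flat scheme is everything if it contains the complement of `V(I)` and the
image of a flat scheme through which the closed part factors. -/
theorem isIso_of_contains {A C : CommRingCat.{u}} [Algebra A C] [Module.Flat A C] (I : Ideal A) (hI : I.FG)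
    {E R : Scheme.{u}} (e : E ⟶ Spec C) [IsClosedImmersion e] (r : R ⟶ Spec C)
    (hr : Flat (r ≫ Spec.map (CommRingCat.ofHom (algebraMap A C))))
    (re : R ⟶ E) (hre : re ≫ e = r)
    (s : Spec (.of (C ⧸ I.map (algebraMap A C))) ⟶ R)
    (hs : s ≫ r = Spec.map (CommRingCat.ofHom (Ideal.Quotient.mk _)))
    (hU : ∀ i ∈ I, ∃ v : Spec (.of (Localization.Away (algebraMap A C i))) ⟶ E,
      v ≫ e = Spec.map (CommRingCat.ofHom (algebraMap C (Localization.Away (algebraMap A C i))))) : IsIso e := by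
  obtain ⟨K, ie, he⟩ := IsClosedImmersion.Spec_iff.1 (show IsClosedImmersion e from inferInstance)
  suffices hK : K = ⊥ by
    subst hK
    have : IsIso (CommRingCat.ofHom (Ideal.Quotient.mk (⊥ : Ideal C))) :=
      (RingEquiv.toCommRingCatIso (RingEquiv.quotientBot C).symm).isIso_hom
    rw [he]; infer_instance
  rw [eq_bot_iff]
  intro x hx
  show x = 0
  have hloc : ∀ i ∈ I, ∃ k : ℕ, i ^ k • x = 0 := by
    intro i hi
    obtain ⟨v, hv⟩ := hU i hi
    have := mem_ker_of_factor ie he _ hv hx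
    obtain ⟨⟨_, k, rfl⟩, hk⟩ :=
      (IsLocalization.map_eq_zero_iff (Submonoid.powers (algebraMap A C i)) (Localization.Away _) x).1 this
    exact ⟨k, by rwa [Algebra.smul_def, map_pow]⟩
  obtain ⟨n, hn⟩ : ∃ n, ∀ i ∈ I ^ n, i • x = 0 := by
    let L : Ideal A := LinearMap.ker (LinearMap.toSpanSingleton A C x)
    obtain ⟨n, hn⟩ := Ideal.exists_pow_le_of_le_radical_of_fg (I := I) (J := L)
      (fun i hi => (hloc i hi).elim fun k hk => ⟨k, hk⟩) hI
    exact ⟨n, fun i hi => hn hi⟩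
  by_contra hne
  have hann : (Submodule.span C {x}).annihilator ≠ ⊤ := fun h => hne (by
    have := (Ideal.eq_top_iff_one _).1 h
    rwa [Submodule.mem_annihilator_span_singleton, one_smul] at this)
  obtain ⟨P, hP, hle⟩ := Ideal.exists_le_maximal _ hann
  have hnot : ∀ c : C, c ∉ P → c * x ≠ 0 := fun c hc h0 =>
    hc (hle (Submodule.mem_annihilator_span_singleton _ _ |>.2 h0))
  have hIP : I.map (algebraMap A C) ≤ P := by
    refine Ideal.map_le_iff_le_comap.2 fun i hi => ?_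
    by_contra hiP
    obtain ⟨k, hk⟩ := hloc i hi
    rw [Algebra.smul_def, map_pow] at hk
    exact hnot _ (fun hm => hiP (hP.isPrime.mem_of_pow_mem k hm)) hk
  let p₀ : Spec (.of (C ⧸ I.map (algebraMap A C))) :=
    ⟨P.map (Ideal.Quotient.mk _), Ideal.map_isPrime_of_surjective Ideal.Quotient.mk_surjective
      (by rwa [Ideal.mk_ker])⟩
  obtain ⟨_, ⟨G, hG, rfl⟩, hpG, -⟩ :=
    R.isBasis_affineOpens.exists_subset_of_mem_open (Set.mem_univ (s p₀)) isOpen_univ
  change R.Opens at G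
  obtain ⟨_, ⟨gb, rfl⟩, hgp, hgG⟩ := PrimeSpectrum.isTopologicalBasis_basic_opens.exists_subset_of_mem_open
    (show p₀ ∈ ((s ⁻¹ᵁ G : (Spec (.of (C ⧸ I.map (algebraMap A C)))).Opens) : Set _) from hpG) (s ⁻¹ᵁ G).isOpen
  obtain ⟨g, rfl⟩ := Ideal.Quotient.mk_surjective gb
  have hgP : g ∉ P := fun hm => hgp (Ideal.mem_map_of_mem _ hm)
  let C' := Localization.Away g
  let q : CommRingCat.of (C ⧸ I.map (algebraMap A C)) ⟶ CommRingCat.of (C' ⧸ I.map (algebraMap A C')) :=
    CommRingCat.ofHom (Ideal.quotientMap _ (algebraMap C C') (by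
      rw [← Ideal.map_le_iff_le_comap, Ideal.map_map, ← IsScalarTower.algebraMap_eq]))
  let v : Spec (.of (C' ⧸ I.map (algebraMap A C'))) ⟶ R := Spec.map q ≫ s
  have hv : Set.range v ⊆ (G : Set R) := by
    rintro _ ⟨y, rfl⟩
    refine hgG ?_
    show Ideal.Quotient.mk _ g ∉ (Spec.map q y).asIdeal
    intro hm
    have hm' : Ideal.Quotient.mk (I.map (algebraMap A C')) (algebraMap C C' g) ∈ y.asIdeal := hm
    exact y.isPrime.ne_top (y.asIdeal.eq_top_of_isUnit_mem hm'
      ((IsLocalization.Away.algebraMap_isUnit g).map _))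
  let R' := pullback r (Spec.map (CommRingCat.ofHom (algebraMap C C')))
  let v' : Spec (.of (C' ⧸ I.map (algebraMap A C'))) ⟶ R' :=
    pullback.lift v (Spec.map (CommRingCat.ofHom (Ideal.Quotient.mk _))) (by
      rw [Category.assoc, hs, ← Spec.map_comp, ← Spec.map_comp]
      congr 1)
  let G' : R'.Opens := pullback.fst r _ ⁻¹ᵁ G
  have : IsAffineHom (Spec.map (CommRingCat.ofHom (algebraMap C C'))) := isAffineHom_of_isAffine _
  have : IsAffineHom (pullback.fst r (Spec.map (CommRingCat.ofHom (algebraMap C C')))) :=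
    MorphismProperty.pullback_fst _ _ inferInstance
  have hG' : IsAffineOpen G' := hG.preimage (pullback.fst r _)
  have hv' : Set.range v' ⊆ Set.range hG'.fromSpec := by
    rw [hG'.range_fromSpec]
    rintro _ ⟨y, rfl⟩
    show (pullback.fst r _) (v' y) ∈ G
    rw [← Scheme.Hom.comp_apply, pullback.lift_fst]
    exact hv ⟨y, rfl⟩
  let D := Γ(R', G')
  let φ : CommRingCat.of C' ⟶ D := Spec.preimage (hG'.fromSpec ≫ pullback.snd _ _)
  let σ : D ⟶ CommRingCat.of (C' ⧸ I.map (algebraMap A C')) :=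
    Spec.preimage (IsOpenImmersion.lift hG'.fromSpec v' hv')
  letI : Algebra A D := (φ.hom.comp (algebraMap A C')).toAlgebra
  have hσφ : φ ≫ σ = CommRingCat.ofHom (Ideal.Quotient.mk _) := by
    apply Spec.map_injective
    rw [Spec.map_comp, Spec.map_preimage, Spec.map_preimage, IsOpenImmersion.lift_fac_assoc, pullback.lift_snd]
  let φ' : C' →ₐ[A] D := ⟨φ.hom, fun a => rfl⟩
  let σ' : D →ₐ[A] C' ⧸ I.map (algebraMap A C') := ⟨σ.hom, fun a => by
    exact RingHom.congr_fun (congrArg CommRingCat.Hom.hom hσφ) (algebraMap A C' a)⟩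
  have : Module.Flat A C' := Module.Flat.trans A C C'
  have : Module.Flat A D := by
    have h' : Flat ((pullback.fst r (Spec.map (CommRingCat.ofHom (algebraMap C C')))) ≫
        r ≫ Spec.map (CommRingCat.ofHom (algebraMap A C))) := by
      have : IsOpenImmersion (Spec.map (CommRingCat.ofHom (algebraMap C C'))) := inferInstance
      infer_instance
    have h'' : Flat (Spec.map (CommRingCat.ofHom (algebraMap A C') ≫ φ)) := by
      have e' : CommRingCat.ofHom (algebraMap A C') =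
          CommRingCat.ofHom (algebraMap A C) ≫ CommRingCat.ofHom (algebraMap C C') := by
        rw [← CommRingCat.ofHom_comp, ← IsScalarTower.algebraMap_eq]
      rw [Spec.map_comp, Spec.map_preimage, e', Spec.map_comp, Category.assoc,
        ← reassoc_of% (pullback.condition (f := r) (g := Spec.map (CommRingCat.ofHom (algebraMap C C'))))]
      infer_instance
    exact RingHom.flat_algebraMap_iff.1 ((HasRingHomProperty.Spec_iff (P := @Flat)).1 h'')
  have hzero : algebraMap C C' x = 0 := by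
    refine eq_zero_of_torsion I φ' σ' (AlgHom.ext fun c => RingHom.congr_fun (congrArg CommRingCat.Hom.hom hσφ) c) hI
      (n := n) (fun i hi => ?_) ?_
    · rw [Algebra.smul_def, IsScalarTower.algebraMap_apply A C C', ← map_mul, ← Algebra.smul_def, hn i hi, map_zero]
    · exact mem_ker_of_factor ie he (CommRingCat.ofHom (algebraMap C C') ≫ φ)
        (v := hG'.fromSpec ≫ pullback.fst r _ ≫ re) (by
          rw [Category.assoc, Category.assoc, hre, pullback.condition, Spec.map_comp, Spec.map_preimage,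
            Category.assoc]) hx
  obtain ⟨⟨_, k, rfl⟩, hk⟩ := (IsLocalization.map_eq_zero_iff (Submonoid.powers g) C' x).1 hzero
  exact hnot (g ^ k) (fun hm => hgP (hP.isPrime.mem_of_pow_mem k hm)) hk

end Affine

variable {S : Scheme.{u}}

/-- Maps out of a space are tested on affine schemes. -/
theorem hom_ext_affine {Z B : Sp S} (hB : IsAlgSpace B) {a b : Z ⟶ B}
    (h : ∀ (T : Over S), IsAffine T.left → ∀ x : (yon S).obj T ⟶ Z, x ≫ a = x ≫ b) : a = b := by
  refine hom_ext_yon fun T x => ?_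
  let 𝒰 := T.left.affineCover
  let o : ∀ n, (Over.mk (𝒰.f n ≫ T.hom) : Over S) ⟶ T := fun n => Over.homMk (𝒰.f n) rfl
  refine HomDescent.hom_ext' hB (g := fun n => (yon S).map (o n))
    (isFpqcCover_of_isFppfCover (IsAlgSpace.yon_obj T) (fun n => IsAlgSpace.yon_obj _)
      ⟨fun n => ⟨locP_of_repWith etLocal_flat (repWith_map (show Flat (𝒰.f n) from inferInstance)),
        locP_of_repWith etLocal_lfp (repWith_map (show LocallyOfFinitePresentation (𝒰.f n) from inferInstance))⟩,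
        fun z => ?_⟩) fun n => ?_
  · obtain ⟨t, rfl⟩ := (Points.schemeEquiv T).surjective z
    obtain ⟨n, y, hy⟩ := 𝒰.exists_eq t
    refine ⟨n, Points.ofScheme _ y, ?_⟩
    show Points.map ((yon S).map (o n)) _ = Points.ofScheme T t
    rw [← Points.ofPt_eq_map_ofScheme, ofPt_map]
    exact congrArg (Points.ofScheme T) hy
  · rw [← Category.assoc, ← Category.assoc]
    exact h _ (inferInstanceAs (IsAffine (𝒰.X n))) _

/-- A morphism with image in an open subspace lifts to it. -/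
theorem exists_lift {X U : Sp S} {j : U ⟶ X} (hj : RepWith @IsOpenImmersion j) {T : Over S}
    (φ : (yon S).obj T ⟶ X) (h : ∀ t, Points.ofPt φ t ∈ Set.range (Points.map j)) :
    ∃ o : (yon S).obj T ⟶ U, o ≫ j = φ := by
  have : IsOpenImmersion (hj.1.snd φ).left := repWith_snd hj φ
  have : Surjective (hj.1.snd φ).left := ⟨fun t => by
    obtain ⟨x, hx⟩ := h t
    obtain ⟨v, -, hv⟩ := exists_point_of_isPullback (hj.1.isPullback φ) hx
    exact ⟨v, hv⟩⟩
  have : IsIso (hj.1.snd φ).left :=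
    (isIso_iff_isOpenImmersion_and_surjective _).2 ⟨inferInstance, inferInstance⟩
  have : IsIso ((Over.forget S).map (hj.1.snd φ)) := this
  have := isIso_of_reflects_iso (hj.1.snd φ) (Over.forget S)
  refine ⟨(yon S).map (inv (hj.1.snd φ)) ≫ hj.1.fst φ, ?_⟩
  rw [Category.assoc, (hj.1.isPullback φ).w, ← Functor.map_comp_assoc, IsIso.inv_hom_id,
    CategoryTheory.Functor.map_id, Category.id_comp]

variable {X Y Z FZ U X₁ X₂ A₁U A₂U A₁Y A₂Y A₁V A₂V : Sp S}
  (hX : IsAlgSpace X) (hY : IsAlgSpace Y) (hX₂ : IsAlgSpace X₂)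
  {f : Y ⟶ X} {i : Z ⟶ X} (hi : RepWith @IsClosedImmersion i) (hifp : LocP @LocallyOfFinitePresentation i)
  {iY : FZ ⟶ Y} {fZ : FZ ⟶ Z} (hFZ : IsPullback iY fZ f i) [IsIso fZ]
  {j : U ⟶ X} (hj : RepWith @IsOpenImmersion j) (hjr : Set.range (Points.map j) = (Set.range (Points.map i))ᶜ)
  {p₁ : X₁ ⟶ X} {p₂ : X₂ ⟶ X} (hp₂ : IsSeparatedMor p₂)
  {a₁U : A₁U ⟶ X₁} {r₁U : A₁U ⟶ U} (h₁U : IsPullback a₁U r₁U p₁ j) {a₂U : A₂U ⟶ X₂}
  {a₁Y : A₁Y ⟶ X₁} {r₁Y : A₁Y ⟶ Y} (h₁Y : IsPullback a₁Y r₁Y p₁ f) {a₂Y : A₂Y ⟶ X₂} {r₂Y : A₂Y ⟶ Y}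
  (h₂Y : a₂Y ≫ p₂ = r₂Y ≫ f)
  {m₁U : A₁V ⟶ A₁U} {m₁Y : A₁V ⟶ A₁Y} (h₁V : IsPullback m₁U m₁Y a₁U a₁Y)
  {m₂U : A₂V ⟶ A₂U} {m₂Y : A₂V ⟶ A₂Y} (h₂V : m₂U ≫ a₂U = m₂Y ≫ a₂Y)
  {bU : A₁U ⟶ A₂U} {bY : A₁Y ⟶ A₂Y} (hbY : bY ≫ r₂Y = r₁Y)
  {bV : A₁V ⟶ A₂V} (hbV₁ : bV ≫ m₂U = m₁U ≫ bU) (hbV₂ : bV ≫ m₂Y = m₁Y ≫ bY)

include h₁V h₂V hbV₁ hbV₂ in
/-- Through `U` only the map over `U` matters. -/
theorem beta_eq {W : Sp S} (u : W ⟶ X₁) (y : W ⟶ Y) (hy : u ≫ p₁ = y ≫ f) (o : W ⟶ U) (ho : u ≫ p₁ = o ≫ j) :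
    h₁Y.lift u y hy ≫ bY ≫ a₂Y = h₁U.lift u o ho ≫ bU ≫ a₂U := by
  let v := h₁V.lift (h₁U.lift u o ho) (h₁Y.lift u y hy) (by rw [h₁U.lift_fst, h₁Y.lift_fst])
  calc h₁Y.lift u y hy ≫ bY ≫ a₂Y = v ≫ m₁Y ≫ bY ≫ a₂Y := by
        rw [← Category.assoc v, h₁V.lift_snd]
    _ = v ≫ m₁U ≫ bU ≫ a₂U := by
        rw [← reassoc_of% hbV₂, ← h₂V, reassoc_of% hbV₁]
    _ = h₁U.lift u o ho ≫ bU ≫ a₂U := by
        rw [← Category.assoc v, h₁V.lift_fst]

include h₂Y hbY in
theorem beta_over {W : Sp S} (u : W ⟶ X₁) (y : W ⟶ Y) (hy : u ≫ p₁ = y ≫ f) :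
    (h₁Y.lift u y hy ≫ bY ≫ a₂Y) ≫ p₂ = u ≫ p₁ := by
  rw [Category.assoc, Category.assoc, h₂Y, reassoc_of% hbY, ← Category.assoc, h₁Y.lift_snd, hy]

include hX hY hi hifp hFZ hj hjr hp₂ h₁U h₂Y h₁V h₂V hbY hbV₁ hbV₂ in
/-- The value does not depend on the lift to `Y`, one lift going through a member of the covering. -/
theorem agree {W : Over S} {l : (yon S).obj W ⟶ Y} (hl : LocP @Flat l) {w : (yon S).obj W ⟶ X}
    (hlw : l ≫ f = w) (hw : LocP @Flat w) {T : Over S} [IsAffine T.left] (u : (yon S).obj T ⟶ X₁)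
    (y : (yon S).obj T ⟶ Y) (z : (yon S).obj T ⟶ (yon S).obj W) (hy : u ≫ p₁ = y ≫ f)
    (hz : u ≫ p₁ = (z ≫ l) ≫ f) :
    h₁Y.lift u y hy ≫ bY ≫ a₂Y = h₁Y.lift u (z ≫ l) hz ≫ bY ≫ a₂Y := by
  -- the base `T = Spec A` and the centre
  have hlfp : LocallyOfFinitePresentation (hi.1.snd (y ≫ f)).left :=
    haveI := etLocal_lfp.{u}.stable
    repWith_snd (repWith_of_locP etLocal_lfp hX hi.1 hifp) _
  have hcl : IsClosedImmersion (hi.1.snd (y ≫ f)).left := repWith_snd hi _
  let ψT := (hi.1.snd (y ≫ f)).left ≫ T.left.isoSpec.hom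
  obtain ⟨I, eI, heI⟩ := IsClosedImmersion.Spec_iff.1 (show IsClosedImmersion ψT from inferInstance)
  have hIfg : I.FG := by
    have hlfp' : LocallyOfFinitePresentation ψT := inferInstance
    rw [heI, MorphismProperty.cancel_left_of_respectsIso @LocallyOfFinitePresentation,
      HasRingHomProperty.Spec_iff (P := @LocallyOfFinitePresentation)] at hlfp'
    have : Algebra.FinitePresentation Γ(T.left, ⊤) (Γ(T.left, ⊤) ⧸ I) := by
      rw [← RingHom.finitePresentation_algebraMap]; exact hlfp'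
    have := Algebra.FinitePresentation.ker_fG_of_surjective (Ideal.Quotient.mkₐ Γ(T.left, ⊤) I)
      Ideal.Quotient.mk_surjective
    exact (Ideal.mk_ker (I := I)) ▸ this
  have hzero : PrimeSpectrum.zeroLocus (I : Set Γ(T.left, ⊤)) ⊆
      T.left.isoSpec.hom '' Set.range (hi.1.snd (y ≫ f)).left := by
    intro p hp
    obtain ⟨p', rfl⟩ : p ∈ Set.range (Spec.map (CommRingCat.ofHom (Ideal.Quotient.mk I))) := by
      rw [show Set.range (Spec.map (CommRingCat.ofHom (Ideal.Quotient.mk I))) = PrimeSpectrum.zeroLocus (I : Set _) from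
        (range_comap_of_surjective _ (Ideal.Quotient.mk I) Ideal.Quotient.mk_surjective).trans (by rw [Ideal.mk_ker])]
      exact hp
    refine ⟨(hi.1.snd (y ≫ f)).left (eI.inv p'), ⟨_, rfl⟩, ?_⟩
    show ((hi.1.snd (y ≫ f)).left ≫ T.left.isoSpec.hom) (eI.inv p') = _
    rw [show (hi.1.snd (y ≫ f)).left ≫ T.left.isoSpec.hom = ψT from rfl, heI, ← Scheme.Hom.comp_apply,
      Iso.inv_hom_id_assoc]
  -- the two fibre products
  obtain ⟨Q, qT, qW, sqQ⟩ := exists_isPullback_of_representable (hX.representable_from_yon (y ≫ f)) w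
  obtain ⟨R, rT, rW, sqR⟩ := exists_isPullback_of_representable (hY.representable_from_yon y) l
  have hqT : Flat qT.left :=
    haveI := etLocal_flat.{u}.stable
    repWith_prop (repWith_of_locP etLocal_flat hX (hX.representable_from_yon w) hw) sqQ.flip
  have hrT : Flat rT.left :=
    haveI := etLocal_flat.{u}.stable
    repWith_prop (repWith_of_locP etLocal_flat hY (hY.representable_from_yon l) hl) sqR.flip
  obtain ⟨r, hr₁, hr₂⟩ := exists_lift_yon sqQ rT rW (by
    rw [← hlw, ← Category.assoc, ← Category.assoc, sqR.w])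
  -- the locus where the two values agree
  have hy' : ((yon S).map qT ≫ u) ≫ p₁ = ((yon S).map qT ≫ y) ≫ f := by rw [Category.assoc, Category.assoc, hy]
  have hl' : ((yon S).map qT ≫ u) ≫ p₁ = ((yon S).map qW ≫ l) ≫ f := by
    rw [hy', Category.assoc, Category.assoc, hlw, sqQ.w]
  let α := h₁Y.lift _ _ hy' ≫ bY ≫ a₂Y
  let β := h₁Y.lift _ _ hl' ≫ bY ≫ a₂Y
  have hαβ : α ≫ p₂ = β ≫ p₂ :=
    (beta_over h₁Y h₂Y hbY _ _ hy').trans (beta_over h₁Y h₂Y hbY _ _ hl').symm
  let pr := pullback.lift α β hαβ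
  have hpr₁ : pr ≫ pullback.fst p₂ p₂ = α := pullback.lift_fst _ _ _
  have hpr₂ : pr ≫ pullback.snd p₂ p₂ = β := pullback.lift_snd _ _ _
  have sqE := hp₂.1.isPullback pr
  have : IsClosedImmersion (hp₂.1.snd pr).left := repWith_snd hp₂ pr
  suffices hiso : IsIso (hp₂.1.snd pr).left by
    have : IsIso ((Over.forget S).map (hp₂.1.snd pr)) := hiso
    have := isIso_of_reflects_iso (hp₂.1.snd pr) (Over.forget S)
    have hab : α = β := by
      rw [← cancel_epi ((yon S).map (hp₂.1.snd pr))]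
      calc (yon S).map (hp₂.1.snd pr) ≫ α = ((yon S).map (hp₂.1.snd pr) ≫ pr) ≫ pullback.fst _ _ := by
            rw [Category.assoc, show pr ≫ pullback.fst p₂ p₂ = α from pullback.lift_fst _ _ _]
        _ = ((yon S).map (hp₂.1.snd pr) ≫ pr) ≫ pullback.snd _ _ := by
            rw [← sqE.w, Category.assoc, Category.assoc, pullback.diagonal_fst, pullback.diagonal_snd]
        _ = _ := by rw [Category.assoc, show pr ≫ pullback.snd p₂ p₂ = β from pullback.lift_snd _ _ _]
    let sec := sqQ.lift (𝟙 _) z (by rw [Category.id_comp, ← hlw, ← hy, hz, Category.assoc])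
    have e₁ : h₁Y.lift u y hy = sec ≫ h₁Y.lift _ _ hy' := h₁Y.hom_ext
      (by rw [Category.assoc, h₁Y.lift_fst, h₁Y.lift_fst, sqQ.lift_fst_assoc, Category.id_comp])
      (by rw [Category.assoc, h₁Y.lift_snd, h₁Y.lift_snd, sqQ.lift_fst_assoc, Category.id_comp])
    have e₂ : h₁Y.lift u (z ≫ l) hz = sec ≫ h₁Y.lift _ _ hl' := h₁Y.hom_ext
      (by rw [Category.assoc, h₁Y.lift_fst, h₁Y.lift_fst, sqQ.lift_fst_assoc, Category.id_comp])
      (by rw [Category.assoc, h₁Y.lift_snd, h₁Y.lift_snd, sqQ.lift_snd_assoc])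
    rw [e₁, e₂, Category.assoc, Category.assoc]
    exact congrArg (sec ≫ ·) hab
  -- a map along which the values agree factors through the locus
  have factor : ∀ {P : Over S} (π : P ⟶ Q), (yon S).map π ≫ α = (yon S).map π ≫ β →
      ∃ v : P.left ⟶ (hp₂.1.pullback pr).left, v ≫ (hp₂.1.snd pr).left = π.left := by
    intro P π e
    obtain ⟨v, hv⟩ := (yon S).map_surjective (sqE.lift ((yon S).map π ≫ α) ((yon S).map π) (by
      apply pullback.hom_ext
      · simp only [Category.assoc, pullback.diagonal_fst, Category.comp_id, hpr₁]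
      · simp only [Category.assoc, pullback.diagonal_snd, Category.comp_id, hpr₂, e]))
    exact ⟨v.left, congrArg CommaMorphism.left
      (show v ≫ hp₂.1.snd pr = π from (yon S).map_injective (by rw [Functor.map_comp, hv, sqE.lift_snd]))⟩
  refine IsZariskiLocalAtTarget.of_openCover (P := MorphismProperty.isomorphisms Scheme.{u})
    Q.left.affineOpenCover.openCover fun m => ?_
  let C : CommRingCat.{u} := Q.left.affineOpenCover.X m
  let c : Spec C ⟶ Q.left := Q.left.affineOpenCover.f m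
  show IsIso (pullback.snd (hp₂.1.snd pr).left c)
  let φ : Γ(T.left, ⊤) ⟶ C := Spec.preimage (c ≫ qT.left ≫ T.left.isoSpec.hom)
  letI : Algebra Γ(T.left, ⊤) C := φ.hom.toAlgebra
  have hφ : Spec.map (CommRingCat.ofHom (algebraMap Γ(T.left, ⊤) C)) = c ≫ qT.left ≫ T.left.isoSpec.hom :=
    Spec.map_preimage _
  have : Module.Flat Γ(T.left, ⊤) C := by
    have h : Flat (Spec.map φ) := by rw [Spec.map_preimage]; infer_instance
    exact (HasRingHomProperty.Spec_iff (P := @Flat)).1 h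
  let J := I.map (algebraMap Γ(T.left, ⊤) C)
  -- the closed part lifts to the second fibre product
  let toI : CommRingCat.of (Γ(T.left, ⊤) ⧸ I) ⟶ CommRingCat.of (C ⧸ J) :=
    CommRingCat.ofHom (Ideal.quotientMap J (algebraMap Γ(T.left, ⊤) C) Ideal.le_comap_map)
  let cJ : Spec (.of (C ⧸ J)) ⟶ Q.left := Spec.map (CommRingCat.ofHom (Ideal.Quotient.mk J)) ≫ c
  let P : Over S := Over.mk (cJ ≫ Q.hom)
  let π : P ⟶ Q := Over.homMk cJ rfl
  have hζ : (Spec.map toI ≫ eI.inv) ≫ (hi.1.snd (y ≫ f)).left = cJ ≫ qT.left := by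
    have h1 : (Spec.map toI ≫ eI.inv) ≫ ψT = Spec.map toI ≫ Spec.map (CommRingCat.ofHom (Ideal.Quotient.mk I)) := by
      rw [heI, Category.assoc, Iso.inv_hom_id_assoc]
    rw [← cancel_mono T.left.isoSpec.hom, Category.assoc, h1]
    simp only [cJ, Category.assoc]
    rw [← hφ, ← Spec.map_comp, ← Spec.map_comp]
    congr 1
  let ζ : P ⟶ hi.1.pullback (y ≫ f) := Over.homMk (Spec.map toI ≫ eI.inv) (by
    show _ = cJ ≫ Q.hom
    rw [← Over.w (hi.1.snd (y ≫ f)), ← Category.assoc, hζ, Category.assoc, Over.w qT])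
  have hζ' : ((yon S).map ζ ≫ hi.1.fst (y ≫ f)) ≫ i = (yon S).map (π ≫ qT) ≫ y ≫ f := by
    rw [Category.assoc, (hi.1.isPullback _).w, ← Functor.map_comp_assoc]
    exact congrArg (fun q => (yon S).map q ≫ y ≫ f) (Over.OverMorphism.ext hζ)
  have hyy : (yon S).map (π ≫ qT) ≫ y = (yon S).map (π ≫ qW) ≫ l := by
    have hw' : ((yon S).map (π ≫ qW) ≫ l) ≫ f = ((yon S).map ζ ≫ hi.1.fst (y ≫ f)) ≫ i := by
      rw [hζ', Category.assoc, hlw, Functor.map_comp_assoc, Functor.map_comp_assoc, sqQ.w]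
    have h1 := hFZ.lift_fst ((yon S).map (π ≫ qT) ≫ y) ((yon S).map ζ ≫ hi.1.fst (y ≫ f))
      (by rw [hζ', Category.assoc])
    have h2 := hFZ.lift_fst ((yon S).map (π ≫ qW) ≫ l) ((yon S).map ζ ≫ hi.1.fst (y ≫ f)) hw'
    rw [← h1, ← h2]
    congr 1
    rw [← cancel_mono fZ, hFZ.lift_snd, hFZ.lift_snd]
  obtain ⟨sR, hsR₁, hsR₂⟩ := exists_lift_yon sqR (π ≫ qT) (π ≫ qW) hyy
  have hsr : sR.left ≫ r.left = cJ := by
    have : sR ≫ r = π := (yon S).map_injective (sqQ.hom_ext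
      (by rw [← Functor.map_comp, ← Functor.map_comp, Category.assoc, hr₁, hsR₁])
      (by rw [← Functor.map_comp, ← Functor.map_comp, Category.assoc, hr₂, hsR₂]))
    exact congrArg CommaMorphism.left this
  have heq : (yon S).map r ≫ α = (yon S).map r ≫ β := by
    simp only [α, β, ← Category.assoc]
    congr 2
    apply h₁Y.hom_ext
    · simp only [Category.assoc, h₁Y.lift_fst]
    · simp only [Category.assoc, h₁Y.lift_snd, ← Functor.map_comp_assoc, hr₁, hr₂, sqR.w]
  obtain ⟨vr, hvr⟩ := factor r heq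
  refine isIso_of_contains (A := Γ(T.left, ⊤)) (C := C) I hIfg (pullback.snd (hp₂.1.snd pr).left c)
    (pullback.snd r.left c) ?_
    (pullback.lift (pullback.fst r.left c ≫ vr) (pullback.snd r.left c) (by
      rw [Category.assoc, hvr, pullback.condition]))
    (pullback.lift_snd _ _ _)
    (pullback.lift sR.left (Spec.map (CommRingCat.ofHom (Ideal.Quotient.mk J))) hsr) (pullback.lift_snd _ _ _) ?_
  · have hq : r.left ≫ qT.left = rT.left := congrArg CommaMorphism.left hr₁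
    rw [hφ, ← Category.assoc, ← pullback.condition, Category.assoc, reassoc_of% hq]
    infer_instance
  · intro i₀ hi₀
    let L := Localization.Away (algebraMap Γ(T.left, ⊤) C i₀)
    let cL : Spec (.of L) ⟶ Q.left := Spec.map (CommRingCat.ofHom (algebraMap C L)) ≫ c
    let PL : Over S := Over.mk (cL ≫ Q.hom)
    let πL : PL ⟶ Q := Over.homMk cL rfl
    obtain ⟨o, ho⟩ := exists_lift hj ((yon S).map (πL ≫ qT) ≫ y ≫ f) fun t => by
      rw [hjr]
      rintro ⟨ζ₀, hζ₀⟩
      rw [ofPt_comp] at hζ₀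
      obtain ⟨v₀, -, hv₀⟩ := exists_point_of_isPullback (hi.1.isPullback (y ≫ f)) hζ₀
      have hm : T.left.isoSpec.hom ((πL ≫ qT).left t) ∈ PrimeSpectrum.zeroLocus (I : Set Γ(T.left, ⊤)) := by
        rw [← hv₀, ← Scheme.Hom.comp_apply]
        show ψT v₀ ∈ _
        rw [heI]
        refine ((range_comap_of_surjective _ (Ideal.Quotient.mk I) Ideal.Quotient.mk_surjective).trans
          (by rw [Ideal.mk_ker])).subset ⟨eI.hom v₀, rfl⟩
      have hm' := hm hi₀
      have e : T.left.isoSpec.hom ((πL ≫ qT).left t) =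
          Spec.map (φ ≫ CommRingCat.ofHom (algebraMap C L)) t := by
        rw [Spec.map_comp, Spec.map_preimage, ← Scheme.Hom.comp_apply]
        simp [πL, cL]
        rfl
      rw [e] at hm'
      exact t.isPrime.ne_top (t.asIdeal.eq_top_of_isUnit_mem hm'
        (IsLocalization.Away.algebraMap_isUnit (algebraMap Γ(T.left, ⊤) C i₀)))
    have ho' : ((yon S).map πL ≫ (yon S).map qT ≫ u) ≫ p₁ = o ≫ j := by
      rw [ho, Functor.map_comp]
      simp only [Category.assoc, hy]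
    have hh : ∀ (y' : (yon S).obj Q ⟶ Y) (h' : ((yon S).map qT ≫ u) ≫ p₁ = y' ≫ f),
        (yon S).map πL ≫ h₁Y.lift _ y' h' ≫ bY ≫ a₂Y = h₁U.lift _ o ho' ≫ bU ≫ a₂U := fun y' h' => by
      have h'' : ((yon S).map πL ≫ (yon S).map qT ≫ u) ≫ p₁ = ((yon S).map πL ≫ y') ≫ f := by
        simp only [Category.assoc] at h' ⊢; rw [h']
      have e : (yon S).map πL ≫ h₁Y.lift _ y' h' = h₁Y.lift _ _ h'' := h₁Y.hom_ext
        (by rw [Category.assoc, h₁Y.lift_fst, h₁Y.lift_fst]) (by rw [Category.assoc, h₁Y.lift_snd, h₁Y.lift_snd])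
      rw [← Category.assoc, e]
      exact beta_eq h₁U h₁Y h₁V h₂V hbV₁ hbV₂ _ _ h'' o ho'
    obtain ⟨vL, hvL⟩ := factor πL ((hh _ hy').trans (hh _ hl').symm)
    exact ⟨pullback.lift vL (Spec.map (CommRingCat.ofHom (algebraMap C L))) hvL, pullback.lift_snd _ _ _⟩

include hX hY hX₂ hi hifp hFZ hj hjr hp₂ h₁U h₁Y h₂Y h₁V h₂V hbY hbV₁ hbV₂ in
/-- The glued morphism. -/
theorem existsUnique_glue {κ : Type u} (hX₁ : IsAlgSpace X₁) (hU : IsAlgSpace U) (hA₁Y : IsAlgSpace A₁Y)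
    {r₂U : A₂U ⟶ U} (h₂U : a₂U ≫ p₂ = r₂U ≫ j) (hbU : bU ≫ r₂U = r₁U) (W : κ → Over S)
    (w : ∀ n, (yon S).obj (W n) ⟶ X) (l : ∀ n, (yon S).obj (W n) ⟶ Y) (hl : ∀ n, l n ≫ f = w n)
    (hfl : ∀ n, LocP @Flat (l n)) (hfw : ∀ n, LocP @Flat (w n))
    (hcov : IsFpqcCover (fun k : Option κ => k.elim U fun n => (yon S).obj (W n))
      (fun k => match k with
        | none => j
        | some n => w n)) :
    ∃! a : X₁ ⟶ X₂, a ≫ p₂ = p₁ ∧ a₁U ≫ a = bU ≫ a₂U ∧ a₁Y ≫ a = bY ≫ a₂Y := by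
  let M : Option κ → Sp S := fun k => k.elim U fun n => (yon S).obj (W n)
  let mm : ∀ k, M k ⟶ X := fun k => match k with
    | none => j
    | some n => w n
  have hM : ∀ k, IsAlgSpace (M k) := by
    rintro (_ | n)
    · exact hU
    · exact IsAlgSpace.yon_obj _
  have hcovM : IsFpqcCover M mm := by
    convert! hcov using 2 with k
  have hcov' : ∀ {V : Sp S} (_ : IsAlgSpace V) (q : V ⟶ X),
      IsFpqcCover (fun k => pullback q (mm k)) (fun k => pullback.fst q (mm k)) := fun hV q =>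
    isFpqcCover_of_isPullback hX hV hM (fun k => IsPullback.of_hasPullback q (mm k)) hcovM
  let Pn := fun k => pullback p₁ (mm k)
  have hn : pullback.fst p₁ (mm none) ≫ p₁ = pullback.snd p₁ (mm none) ≫ j := pullback.condition
  have hs : ∀ n, pullback.fst p₁ (mm (some n)) ≫ p₁ = (pullback.snd p₁ (mm (some n)) ≫ l n) ≫ f := fun n => by
    exact pullback.condition.trans ((congrArg (pullback.snd p₁ (mm (some n)) ≫ ·) (hl n).symm).trans
      (Category.assoc _ _ _).symm)
  let b : ∀ k, Pn k ⟶ X₂ := fun k => match k with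
    | none => h₁U.lift _ _ hn ≫ bU ≫ a₂U
    | some n => h₁Y.lift _ _ (hs n) ≫ bY ≫ a₂Y
  have hbp : ∀ k, b k ≫ p₂ = pullback.fst p₁ (mm k) ≫ p₁ := by
    rintro (_ | n)
    · show (h₁U.lift _ _ hn ≫ bU ≫ a₂U) ≫ p₂ = _
      rw [Category.assoc, Category.assoc, h₂U, reassoc_of% hbU, ← Category.assoc, h₁U.lift_snd, hn]
      rfl
    · exact beta_over h₁Y h₂Y hbY _ _ (hs n)
  -- a point of `A₁Y` and one of a member over the same point of `X`
  have cmpY : ∀ {Q : Sp S} (x : Q ⟶ A₁Y) (n : κ) (z : Q ⟶ Pn (some n)),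
      x ≫ a₁Y = z ≫ pullback.fst p₁ (mm (some n)) → z ≫ b (some n) = x ≫ bY ≫ a₂Y := by
    intro Q x n z e
    refine hom_ext_affine hX₂ fun T hT t => ?_
    have := hT
    have hy : (t ≫ x ≫ a₁Y) ≫ p₁ = (t ≫ x ≫ r₁Y) ≫ f := by simp only [Category.assoc, h₁Y.w]
    have hz : (t ≫ x ≫ a₁Y) ≫ p₁ = ((t ≫ z ≫ pullback.snd p₁ (mm (some n))) ≫ l n) ≫ f := by
      rw [e]; simp only [Category.assoc]; rw [hs n]; simp only [Category.assoc]
    have key := agree hX hY hi hifp hFZ hj hjr hp₂ h₁U h₁Y h₂Y h₁V h₂V hbY hbV₁ hbV₂ (hfl n) (hl n) (hfw n)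
      (t ≫ x ≫ a₁Y) (t ≫ x ≫ r₁Y) (t ≫ z ≫ pullback.snd p₁ (mm (some n))) hy hz
    have e₁ : h₁Y.lift (t ≫ x ≫ a₁Y) (t ≫ x ≫ r₁Y) hy = t ≫ x := h₁Y.hom_ext
      (by rw [h₁Y.lift_fst, Category.assoc]) (by rw [h₁Y.lift_snd, Category.assoc])
    have e₂ : h₁Y.lift (t ≫ x ≫ a₁Y) _ hz = t ≫ z ≫ h₁Y.lift _ _ (hs n) := h₁Y.hom_ext
      (by rw [h₁Y.lift_fst, e, Category.assoc, Category.assoc, h₁Y.lift_fst])
      (by rw [h₁Y.lift_snd, Category.assoc, Category.assoc, Category.assoc, Category.assoc, h₁Y.lift_snd])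
    rw [e₁] at key
    have key' := (key.trans (congrArg (· ≫ bY ≫ a₂Y) e₂)).symm
    simp only [Category.assoc] at key'
    exact key'
  have cmpU : ∀ {Q : Sp S} (x : Q ⟶ A₁Y) (z : Q ⟶ Pn none),
      x ≫ a₁Y = z ≫ pullback.fst p₁ (mm none) → z ≫ b none = x ≫ bY ≫ a₂Y := by
    intro Q x z e
    have ho : (x ≫ a₁Y) ≫ p₁ = (z ≫ pullback.snd p₁ (mm none)) ≫ j := by
      rw [e, Category.assoc, hn, Category.assoc]
    have key := beta_eq h₁U h₁Y h₁V h₂V hbV₁ hbV₂ (x ≫ a₁Y) (x ≫ r₁Y)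
      (by simp only [Category.assoc, h₁Y.w]) _ ho
    have e₁ : h₁Y.lift (x ≫ a₁Y) (x ≫ r₁Y) (by simp only [Category.assoc, h₁Y.w]) = x := h₁Y.hom_ext
      (by rw [h₁Y.lift_fst]) (by rw [h₁Y.lift_snd])
    have e₂ : h₁U.lift (x ≫ a₁Y) _ ho = z ≫ h₁U.lift _ _ hn := h₁U.hom_ext
      (by rw [h₁U.lift_fst, e, Category.assoc, h₁U.lift_fst])
      (by rw [h₁U.lift_snd, Category.assoc, h₁U.lift_snd]; rfl)
    rw [e₁, e₂, Category.assoc] at key
    exact key.symm
  have hcompat : ∀ k k', pullback.fst (pullback.fst p₁ (mm k)) (pullback.fst p₁ (mm k')) ≫ b k =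
      pullback.snd (pullback.fst p₁ (mm k)) (pullback.fst p₁ (mm k')) ≫ b k' := by
    have toY : ∀ {Q : Sp S} (n : κ) (z : Q ⟶ Pn (some n)),
        ∃ x : Q ⟶ A₁Y, x ≫ a₁Y = z ≫ pullback.fst p₁ (mm (some n)) ∧ x ≫ bY ≫ a₂Y = z ≫ b (some n) :=
      fun n z => ⟨z ≫ h₁Y.lift _ _ (hs n), by rw [Category.assoc, h₁Y.lift_fst], Category.assoc _ _ _⟩
    intro k k'
    rcases k' with _ | n'
    · rcases k with _ | n
      · show pullback.fst _ _ ≫ h₁U.lift _ _ hn ≫ bU ≫ a₂U = pullback.snd _ _ ≫ h₁U.lift _ _ hn ≫ bU ≫ a₂U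
        rw [← Category.assoc, ← Category.assoc (pullback.snd _ _)]
        congr 1
        have : Mono j := mono_of_repWith (fun _ _ φ (_ : IsOpenImmersion φ) => (inferInstanceAs (Mono φ))) hj
        apply h₁U.hom_ext
        · rw [Category.assoc, Category.assoc, h₁U.lift_fst, pullback.condition]
        · rw [← cancel_mono j]
          simp only [Category.assoc]
          rw [← h₁U.w, h₁U.lift_fst_assoc, ← Category.assoc, pullback.condition,
            Category.assoc]
      · obtain ⟨x, hx₁, hx₂⟩ := toY n (pullback.fst (pullback.fst p₁ (mm (some n))) (pullback.fst p₁ (mm none)))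
        rw [← hx₂]
        exact (cmpU x _ (hx₁.trans pullback.condition)).symm
    · obtain ⟨x, hx₁, hx₂⟩ := toY n' (pullback.snd (pullback.fst p₁ (mm k)) (pullback.fst p₁ (mm (some n'))))
      rw [← hx₂]
      rcases k with _ | n
      · exact cmpU x _ (hx₁.trans pullback.condition.symm)
      · exact cmpY x n _ (hx₁.trans pullback.condition.symm)
  obtain ⟨a, ha⟩ := HomDescent.exists_desc hX₂ (hcov' hX₁ p₁) b hcompat
  have haU : a₁U ≫ a = bU ≫ a₂U := by
    let s : A₁U ⟶ Pn none := pullback.lift a₁U r₁U h₁U.w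
    have e : s ≫ h₁U.lift _ _ hn = 𝟙 _ := h₁U.hom_ext
      (by rw [Category.assoc, h₁U.lift_fst, pullback.lift_fst, Category.id_comp])
      (by rw [Category.assoc, h₁U.lift_snd, Category.id_comp]; exact pullback.lift_snd _ _ _)
    calc a₁U ≫ a = (s ≫ pullback.fst p₁ (mm none)) ≫ a := by rw [pullback.lift_fst]
      _ = s ≫ h₁U.lift _ _ hn ≫ bU ≫ a₂U := (Category.assoc _ _ _).trans (congrArg (s ≫ ·) (ha none))
      _ = _ := by rw [← Category.assoc, e, Category.id_comp]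
  refine ⟨a, ⟨?_, haU, ?_⟩, ?_⟩
  · refine HomDescent.hom_ext' hX (hcov' hX₁ p₁) fun k => ?_
    rw [← Category.assoc, ha, hbp]
  · refine HomDescent.hom_ext' hX₂ (hcov' hA₁Y (a₁Y ≫ p₁)) fun k => ?_
    let z : pullback (a₁Y ≫ p₁) (mm k) ⟶ Pn k := pullback.lift (pullback.fst _ _ ≫ a₁Y) (pullback.snd _ _)
      (by rw [Category.assoc]; exact pullback.condition)
    have e : pullback.fst (a₁Y ≫ p₁) (mm k) ≫ a₁Y = z ≫ pullback.fst p₁ (mm k) :=
      (pullback.lift_fst _ _ _).symm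
    rw [← Category.assoc, e, Category.assoc, ha]
    rcases k with _ | n
    · exact cmpU _ z e
    · exact cmpY _ n z e
  · rintro a' ⟨-, h2, h3⟩
    refine HomDescent.hom_ext' hX₂ (hcov' hX₁ p₁) fun k => ?_
    rw [ha]
    rcases k with _ | n
    · show _ = h₁U.lift _ _ hn ≫ bU ≫ a₂U
      rw [← h2, h₁U.lift_fst_assoc]
    · show _ = h₁Y.lift _ _ (hs n) ≫ bY ≫ a₂Y
      rw [← h3, h₁Y.lift_fst_assoc]

end Groth.L23.GlueHom
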