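import Groth.Agent.L23.GluePairHom
import Groth.Agent.L23.AffineMor
import Mathlib.RingTheory.TensorProduct.Maps

/-!
# Morphisms of spaces glue along glueing pairs
-/

universe u

open CategoryTheory CategoryTheory.Limits AlgebraicGeometry AlgSp TensorProduct

set_option linter.style.haveILetI false
set_option backward.isDefEq.respectTransparency.types false

namespace Groth.L23.GluePair

variable {R R' : Type u} [CommRing R] [CommRing R'] [Algebra R R'] {f : R}


variable {Y Z YU YX : Sp (Spec (CommRingCat.of R))} {uY : YU ⟶ Y} {xY : YX ⟶ Y} {aU : YU ⟶ Z} {bX : YX ⟶ Z}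

/-- A map on a chart is compatible with the given maps over both pieces. -/
def Comp (uY : YU ⟶ Y) (xY : YX ⟶ Y) (aU : YU ⟶ Z) (bX : YX ⟶ Z) {T : Over (Spec (CommRingCat.of R))} (c : (yon _).obj T ⟶ Y) (m : (yon _).obj T ⟶ Z) : Prop :=
  (∀ (T' : Over (Spec (CommRingCat.of R))) (τ : T' ⟶ T) (l : (yon _).obj T' ⟶ YU),
      l ≫ uY = (yon _).map τ ≫ c → (yon _).map τ ≫ m = l ≫ aU) ∧
    ∀ (T' : Over (Spec (CommRingCat.of R))) (τ : T' ⟶ T) (l : (yon _).obj T' ⟶ YX),
      l ≫ xY = (yon _).map τ ≫ c → (yon _).map τ ≫ m = l ≫ bX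


theorem Comp.restrict {T T' : Over (Spec (CommRingCat.of R))} {c : (yon _).obj T ⟶ Y} {m : (yon _).obj T ⟶ Z}
    (h : Comp uY xY aU bX c m) (σ : T' ⟶ T) : Comp uY xY aU bX ((yon _).map σ ≫ c) ((yon _).map σ ≫ m) := by
  refine ⟨fun T'' τ l hl => ?_, fun T'' τ l hl => ?_⟩
  · rw [← Functor.map_comp_assoc] at hl ⊢
    exact h.1 _ _ l hl
  · rw [← Functor.map_comp_assoc] at hl ⊢
    exact h.2 _ _ l hl

section Chart

variable {A : CommRingCat.{u}} [Algebra R A]


theorem exists_sA_hom {E F : Type u} [CommRing E] [Algebra A E] [CommRing F] [Algebra R F]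
    (j : sB (Spec.map (CommRingCat.ofHom (algebraMap R A))) E ⟶ Glueable.sA (R := R) F) :
    ∃ r : F →+* E, r.comp (algebraMap R F) = (algebraMap A E).comp (algebraMap R A) ∧
      j.left = Spec.map (CommRingCat.ofHom r) := by
  refine ⟨(Spec.preimage j.left).hom, ?_, (Spec.map_preimage _).symm⟩
  refine congrArg CommRingCat.Hom.hom (Spec.map_injective
    (?_ : Spec.map (CommRingCat.ofHom (algebraMap R F) ≫ Spec.preimage j.left) =
      Spec.map (CommRingCat.ofHom (algebraMap R A) ≫ CommRingCat.ofHom (algebraMap A E))))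
  rw [Spec.map_comp, Spec.map_comp, Spec.map_preimage]
  exact Over.w j

theorem subsingleton_U0 {E : Type u} [CommRing E] [Algebra A E] (j j' : sB (Spec.map (CommRingCat.ofHom (algebraMap R A))) E ⟶ (Glueable.sA (R := R) (Localization.Away f))) : j = j' := by
  obtain ⟨r, hr, e⟩ := exists_sA_hom j
  obtain ⟨r', hr', e'⟩ := exists_sA_hom j'
  refine Over.OverMorphism.ext ?_
  rw [e, e', IsLocalization.ringHom_ext (Submonoid.powers f) (hr.trans hr'.symm)]


attribute [local instance] Algebra.TensorProduct.rightAlgebra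

variable {sY : YU ⟶ (yon _).obj (Glueable.sA (R := R) (Localization.Away f))} {rY : YX ⟶ (yon _).obj (Glueable.sA (R := R) R')}
  {πY : Y ⟶ (yon _).obj (Over.mk (𝟙 (Spec (CommRingCat.of R))))} {inU : (Glueable.sA (R := R) (Localization.Away f)) ⟶ Over.mk (𝟙 (Spec (CommRingCat.of R)))} {inX : (Glueable.sA (R := R) R') ⟶ Over.mk (𝟙 (Spec (CommRingCat.of R)))}

theorem exists_lift_U (hYU : IsPullback uY sY πY ((yon _).map inU)) (c : (yon _).obj (Over.mk (Spec.map (CommRingCat.ofHom (algebraMap R A)))) ⟶ Y) :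
    ∃ lu : (yon _).obj (sB (Spec.map (CommRingCat.ofHom (algebraMap R A))) (Localization.Away (algebraMap R A f))) ⟶ YU, lu ≫ uY = (yon _).map (sπ (Spec.map (CommRingCat.ofHom (algebraMap R A))) (Localization.Away (algebraMap R A f))) ≫ c := by
  let j : sB (Spec.map (CommRingCat.ofHom (algebraMap R A))) (Localization.Away (algebraMap R A f)) ⟶ (Glueable.sA (R := R) (Localization.Away f)) := Over.homMk (Spec.map (CommRingCat.ofHom (Localization.awayMap (algebraMap R A) f))) (by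
    show Spec.map _ ≫ Spec.map _ = Spec.map _ ≫ Spec.map _
    rw [← Spec.map_comp, ← Spec.map_comp]
    congr 1
    ext r
    simp [Localization.awayMap, IsLocalization.Away.map, IsLocalization.map_eq])
  exact hYU.exists_lift _ ((yon _).map j) (Groth.L09.EtGlueSp.yon_terminal_subsingleton _ _ _) |>.imp fun _ h => h.1

theorem exists_lift_X (hYX : IsPullback xY rY πY ((yon _).map inX)) (c : (yon _).obj (Over.mk (Spec.map (CommRingCat.ofHom (algebraMap R A)))) ⟶ Y) :
    ∃ lv : (yon _).obj (sB (Spec.map (CommRingCat.ofHom (algebraMap R A))) (R' ⊗[R] A)) ⟶ YX, lv ≫ xY = (yon _).map (sπ (Spec.map (CommRingCat.ofHom (algebraMap R A))) (R' ⊗[R] A)) ≫ c ∧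
      ∀ j : sB (Spec.map (CommRingCat.ofHom (algebraMap R A))) (R' ⊗[R] A) ⟶ (Glueable.sA (R := R) R'), (yon _).map j = lv ≫ rY → j.left = Spec.map (CommRingCat.ofHom
        (Algebra.TensorProduct.includeLeftRingHom : R' →+* (R' ⊗[R] A))) := by
  let j : sB (Spec.map (CommRingCat.ofHom (algebraMap R A))) (R' ⊗[R] A) ⟶ (Glueable.sA (R := R) R') := Over.homMk (Spec.map (CommRingCat.ofHom
        (Algebra.TensorProduct.includeLeftRingHom : R' →+* (R' ⊗[R] A)))) (by
    show Spec.map _ ≫ Spec.map _ = Spec.map _ ≫ Spec.map _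
    rw [← Spec.map_comp, ← Spec.map_comp]
    congr 1
    ext r
    show algebraMap R R' r ⊗ₜ[R] (1 : A) = (1 : R') ⊗ₜ[R] algebraMap R A r
    rw [Algebra.algebraMap_eq_smul_one, Algebra.algebraMap_eq_smul_one, TensorProduct.smul_tmul])
  obtain ⟨lv, h₁, h₂⟩ := hYX.exists_lift ((yon _).map (sπ (Spec.map (CommRingCat.ofHom (algebraMap R A))) (R' ⊗[R] A)) ≫ c) ((yon _).map j)
    (Groth.L09.EtGlueSp.yon_terminal_subsingleton _ _ _)
  exact ⟨lv, h₁, fun j' e => congrArg CommaMorphism.left ((yon _).map_injective (e.trans h₂))⟩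

theorem away_factor (hYU : IsPullback uY sY πY ((yon _).map inU)) {c : (yon _).obj (Over.mk (Spec.map (CommRingCat.ofHom (algebraMap R A)))) ⟶ Y}
    {lu : (yon _).obj (sB (Spec.map (CommRingCat.ofHom (algebraMap R A))) (Localization.Away (algebraMap R A f))) ⟶ YU} (hlu : lu ≫ uY = (yon _).map (sπ (Spec.map (CommRingCat.ofHom (algebraMap R A))) (Localization.Away (algebraMap R A f))) ≫ c)
    {E : Type u} [CommRing E] [Algebra A E] (l : (yon _).obj (sB (Spec.map (CommRingCat.ofHom (algebraMap R A))) E) ⟶ YU)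
    (hl : l ≫ uY = (yon _).map (sπ (Spec.map (CommRingCat.ofHom (algebraMap R A))) E) ≫ c) :
    ∃ τ : (Localization.Away (algebraMap R A f)) →ₐ[A] E, (yon _).map (sMap (Spec.map (CommRingCat.ofHom (algebraMap R A))) τ) ≫ lu = l := by
  obtain ⟨j, hj⟩ := (yon _).map_surjective (l ≫ sY)
  obtain ⟨r, hr, -⟩ := exists_sA_hom j
  have hu : IsUnit (algebraMap A E (algebraMap R A f)) := by
    rw [show algebraMap A E (algebraMap R A f) = r (algebraMap R (Localization.Away f) f) from
      (RingHom.congr_fun hr f).symm]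
    exact (IsLocalization.Away.algebraMap_isUnit f).map r
  let τ : (Localization.Away (algebraMap R A f)) →ₐ[A] E :=
    IsLocalization.liftAlgHom (M := Submonoid.powers (algebraMap R A f)) (f := Algebra.ofId A E) (by
      rintro ⟨_, n, rfl⟩; simpa using hu.pow n)
  refine ⟨τ, hYU.hom_ext ?_ ?_⟩
  · rw [Category.assoc, hlu, hl, ← Functor.map_comp_assoc, sMap_π]
  · obtain ⟨j', hj'⟩ := (yon _).map_surjective (((yon _).map (sMap (Spec.map (CommRingCat.ofHom (algebraMap R A))) τ) ≫ lu) ≫ sY)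
    rw [← hj, ← hj', subsingleton_U0 j j']

theorem tensor_factor (hYX : IsPullback xY rY πY ((yon _).map inX)) {c : (yon _).obj (Over.mk (Spec.map (CommRingCat.ofHom (algebraMap R A)))) ⟶ Y}
    {lv : (yon _).obj (sB (Spec.map (CommRingCat.ofHom (algebraMap R A))) (R' ⊗[R] A)) ⟶ YX} (hlv : lv ≫ xY = (yon _).map (sπ (Spec.map (CommRingCat.ofHom (algebraMap R A))) (R' ⊗[R] A)) ≫ c)
    (hlv' : ∀ j : sB (Spec.map (CommRingCat.ofHom (algebraMap R A))) (R' ⊗[R] A) ⟶ (Glueable.sA (R := R) R'), (yon _).map j = lv ≫ rY → j.left = Spec.map (CommRingCat.ofHom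
        (Algebra.TensorProduct.includeLeftRingHom : R' →+* (R' ⊗[R] A))))
    {E : Type u} [CommRing E] [Algebra A E] (l : (yon _).obj (sB (Spec.map (CommRingCat.ofHom (algebraMap R A))) E) ⟶ YX)
    (hl : l ≫ xY = (yon _).map (sπ (Spec.map (CommRingCat.ofHom (algebraMap R A))) E) ≫ c) :
    ∃ τ : (R' ⊗[R] A) →ₐ[A] E, (yon _).map (sMap (Spec.map (CommRingCat.ofHom (algebraMap R A))) τ) ≫ lv = l := by
  obtain ⟨j, hj⟩ := (yon _).map_surjective (l ≫ rY)
  obtain ⟨r, hr, hjl⟩ := exists_sA_hom j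
  let _ : Algebra R E := ((algebraMap A E).comp (algebraMap R A)).toAlgebra
  have : IsScalarTower R A E := IsScalarTower.of_algebraMap_eq fun _ => rfl
  let r' : R' →ₐ[R] E := { r with commutes' := fun x => RingHom.congr_fun hr x }
  let τ₀ : (R' ⊗[R] A) →ₐ[R] E := Algebra.TensorProduct.productMap r' (IsScalarTower.toAlgHom R A E)
  have hτ₀ : ∀ x : A, τ₀ ((1 : R') ⊗ₜ[R] x) = algebraMap A E x := fun x => by simp [τ₀]
  let τ : (R' ⊗[R] A) →ₐ[A] E := { τ₀ with commutes' := hτ₀ }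
  refine ⟨τ, hYX.hom_ext ?_ ?_⟩
  · rw [Category.assoc, hlv, hl, ← Functor.map_comp_assoc, sMap_π]
  · obtain ⟨j₀, hj₀⟩ := (yon _).map_surjective (lv ≫ rY)
    rw [Category.assoc, ← hj, ← hj₀, ← Functor.map_comp]
    refine congrArg _ (Over.OverMorphism.ext ?_)
    rw [Over.comp_left, hlv' j₀ hj₀, hjl]
    show Spec.map _ ≫ Spec.map _ = _
    rw [← Spec.map_comp]
    congr 1
    ext x
    show τ₀ (x ⊗ₜ[R] (1 : A)) = r x
    simp [τ₀, r']

theorem comp_of_affine {T : Over (Spec (CommRingCat.of R))} {c : (yon _).obj T ⟶ Y} (m : (yon _).obj T ⟶ Z)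
    (hU : ∀ (T' : Over (Spec (CommRingCat.of R))) [IsAffine T'.left] (τ : T' ⟶ T) (l : (yon _).obj T' ⟶ YU),
      l ≫ uY = (yon _).map τ ≫ c → (yon _).map τ ≫ m = l ≫ aU)
    (hX : ∀ (T' : Over (Spec (CommRingCat.of R))) [IsAffine T'.left] (τ : T' ⟶ T) (l : (yon _).obj T' ⟶ YX),
      l ≫ xY = (yon _).map τ ≫ c → (yon _).map τ ≫ m = l ≫ bX) : Comp uY xY aU bX c m := by
  refine ⟨fun T' τ l hl => ?_, fun T' τ l hl => ?_⟩
  all_goals
    refine hom_ext_cover (fun B : T'.left.affineOpens => openOverι T' B.1) (fun t => ?_) fun B => ?_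
    · obtain ⟨O, hO, ht, -⟩ := exists_isAffineOpen_mem_and_subset (X := T'.left) (x := t) (U := ⊤) trivial
      exact ⟨⟨O, hO⟩, ⟨t, ht⟩, rfl⟩
    have : IsAffine (openOver T' B.1).left := B.2
    rw [← Functor.map_comp_assoc, ← Category.assoc]
  · exact hU _ _ _ (by rw [Category.assoc, hl, Functor.map_comp_assoc])
  · exact hX _ _ _ (by rw [Category.assoc, hl, Functor.map_comp_assoc])

/-- On an affine etale chart there is exactly one compatible map. -/
theorem existsUnique_comp_spec (hRR' : EtGlue.IsGlueingPair R R' f) (hZ : IsAlgSpace Z)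
    (hZd : IsAffineMor (Limits.diag Z)) (hA : EtGlue.IsGlueable R R' f A)
    (hYU : IsPullback uY sY πY ((yon _).map inU)) (hYX : IsPullback xY rY πY ((yon _).map inX))
    (hab : ∀ (P : Sp (Spec (CommRingCat.of R))) (l₁ : P ⟶ YU) (l₂ : P ⟶ YX), l₁ ≫ uY = l₂ ≫ xY → l₁ ≫ aU = l₂ ≫ bX)
    (c : (yon _).obj (Over.mk (Spec.map (CommRingCat.ofHom (algebraMap R A)))) ⟶ Y) : ∃! m, Comp uY xY aU bX c m := by
  let A' : CommRingCat.{u} := CommRingCat.of (R' ⊗[R] A)
  let _ : Algebra A A' := Algebra.TensorProduct.rightAlgebra (R := R) (A := R') (B := (A : Type u))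
  have hP : EtGlue.IsGlueingPair A A' (algebraMap R A f) := Groth.L05.Glue.isGlueingPair_algebra hRR' hA
  obtain ⟨lu, hlu⟩ := exists_lift_U hYU c
  obtain ⟨lv, hlv, hlv'⟩ := exists_lift_X hYX c
  obtain ⟨x, hxu, hxv⟩ := exists_desc_core (A' := A') (Spec.map (CommRingCat.ofHom (algebraMap R A))) hP hZ hZd (lu ≫ aU) (lv ≫ bX) (fun D _ _ τu τv => by
    rw [← Category.assoc, ← Category.assoc]
    refine hab _ _ _ ?_
    rw [Category.assoc, Category.assoc, hlu, hlv, ← Functor.map_comp_assoc, ← Functor.map_comp_assoc, sMap_π,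
      sMap_π])
  refine ⟨x, comp_of_affine x (fun T' _ τ l hl => ?_) (fun T' _ τ l hl => ?_), fun m hm => ?_⟩
  · obtain ⟨E, _, e, he⟩ := exists_iso_sB (Spec.map (CommRingCat.ofHom (algebraMap R A))) τ
    obtain ⟨σ, hσ⟩ := away_factor hYU hlu ((yon _).map e.hom ≫ l) (by
      rw [Category.assoc, hl, ← Functor.map_comp_assoc, he])
    rw [← cancel_epi ((yon _).map e.hom), ← Functor.map_comp_assoc, he, ← Category.assoc _ l, ← hσ,
      ← sMap_π (Spec.map (CommRingCat.ofHom (algebraMap R A))) σ, Functor.map_comp_assoc, hxu, Category.assoc]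
  · obtain ⟨E, _, e, he⟩ := exists_iso_sB (Spec.map (CommRingCat.ofHom (algebraMap R A))) τ
    obtain ⟨σ, hσ⟩ := tensor_factor hYX hlv hlv' ((yon _).map e.hom ≫ l) (by
      rw [Category.assoc, hl, ← Functor.map_comp_assoc, he])
    rw [← cancel_epi ((yon _).map e.hom), ← Functor.map_comp_assoc, he, ← Category.assoc _ l, ← hσ,
      ← sMap_π (Spec.map (CommRingCat.ofHom (algebraMap R A))) σ, Functor.map_comp_assoc]
    exact (congrArg ((yon _).map (sMap (Spec.map (CommRingCat.ofHom (algebraMap R A))) σ) ≫ ·) hxv).trans (Category.assoc _ _ _).symm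
  · exact Groth.L09.EtGlueSp.eq_of_charts (A := A) (A' := A') hZ (algebraMap R A f) hP (Spec.map (CommRingCat.ofHom (algebraMap R A))) m x
      ((hm.1 _ (sπ (Spec.map (CommRingCat.ofHom (algebraMap R A))) (Localization.Away (algebraMap R A f))) lu hlu).trans hxu.symm) ((hm.2 _ (sπ (Spec.map (CommRingCat.ofHom (algebraMap R A))) A') lv hlv).trans hxv.symm)

end Chart

section Global

variable {sY : YU ⟶ (yon _).obj (Glueable.sA (R := R) (Localization.Away f))} {rY : YX ⟶ (yon _).obj (Glueable.sA (R := R) R')}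
  {πY : Y ⟶ (yon _).obj (Over.mk (𝟙 (Spec (CommRingCat.of R))))} {inU : (Glueable.sA (R := R) (Localization.Away f)) ⟶ Over.mk (𝟙 (Spec (CommRingCat.of R)))} {inX : (Glueable.sA (R := R) R') ⟶ Over.mk (𝟙 (Spec (CommRingCat.of R)))}

/-- Morphisms glue along a glueing pair. -/
theorem existsUnique_glued_hom (hRR' : EtGlue.IsGlueingPair R R' f) (hY : IsAlgSpace Y) (hZ : IsAlgSpace Z)
    (hYg : ∀ (A : Type u) [CommRing A] [Algebra R A] (g : (yon _).obj (Glueable.sA (R := R) A) ⟶ Y),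
      RepWith @Etale g → EtGlue.IsGlueable R R' f A)
    (hZd : IsAffineMor (Limits.diag Z))
    (hYU : IsPullback uY sY πY ((yon _).map inU)) (hYX : IsPullback xY rY πY ((yon _).map inX))
    (hab : ∀ (P : Sp (Spec (CommRingCat.of R))) (l₁ : P ⟶ YU) (l₂ : P ⟶ YX), l₁ ≫ uY = l₂ ≫ xY → l₁ ≫ aU = l₂ ≫ bX) :
    ∃! φ : Y ⟶ Z, uY ≫ φ = aU ∧ xY ≫ φ = bX := by
  have haff : ∀ (T : Over (Spec (CommRingCat.of R))) [IsAffine T.left] (c : (yon _).obj T ⟶ Y), RepWith @Etale c →
      ∃! m, Comp uY xY aU bX c m := by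
    intro T _ c hc
    let φ := Spec.preimage (T.left.isoSpec.inv ≫ T.hom)
    let A : CommRingCat.{u} := Γ(T.left, ⊤)
    let _ : Algebra R A := φ.hom.toAlgebra
    have hφ : Spec.map (CommRingCat.ofHom (algebraMap R A)) = T.left.isoSpec.inv ≫ T.hom := Spec.map_preimage _
    let e : Glueable.sA (R := R) A ≅ T := Over.isoMk T.left.isoSpec.symm hφ.symm
    have : IsIso e.hom.left := inferInstanceAs (IsIso ((Over.forget _).map e.hom))
    obtain ⟨m, hm, hu⟩ := existsUnique_comp_spec (A := A) hRR' hZ hZd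
      (hYg A ((yon _).map e.hom ≫ c) (repWith_comp (repWith_map inferInstance) hc)) hYU hYX hab
      ((yon _).map e.hom ≫ c)
    refine ⟨(yon _).map e.inv ≫ m, ?_, fun m' hm' => ?_⟩
    · have := hm.restrict e.inv
      rwa [← Functor.map_comp_assoc, e.inv_hom_id, CategoryTheory.Functor.map_id, Category.id_comp] at this
    · rw [← hu _ (hm'.restrict e.hom), ← Functor.map_comp_assoc, e.inv_hom_id, CategoryTheory.Functor.map_id,
        Category.id_comp]
  have hcov : ∀ (T : Over (Spec (CommRingCat.of R))) (t : T.left), ∃ (B : T.left.affineOpens) (u : (openOver T B.1).left),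
      (openOverι T B.1).left u = t := fun T t => by
    obtain ⟨O, hO, ht, -⟩ := exists_isAffineOpen_mem_and_subset (X := T.left) (x := t) (U := ⊤) trivial
    exact ⟨⟨O, hO⟩, ⟨t, ht⟩, rfl⟩
  have huniq : ∀ {T : Over (Spec (CommRingCat.of R))} {c : (yon _).obj T ⟶ Y}, RepWith @Etale c →
      ∀ {m m'}, Comp uY xY aU bX c m → Comp uY xY aU bX c m' → m = m' := by
    intro T c hc m m' hm hm'
    refine hom_ext_cover (fun B : T.left.affineOpens => openOverι T B.1) (hcov T) fun B => ?_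
    have : IsAffine (openOver T B.1).left := B.2
    exact (haff _ _ (repWith_comp (repWith_map (inferInstanceAs (Etale (Scheme.Opens.ι B.1)))) hc)).unique
      (hm.restrict _) (hm'.restrict _)
  obtain ⟨V, p₀, hpe, hps⟩ := hY.atlas
  have : Epi p₀ := epi_of_repWith p₀ hpe hps
  have hopen : ∀ B : V.left.affineOpens, RepWith @Etale ((yon _).map (openOverι V B.1) ≫ p₀) := fun B =>
    repWith_comp (repWith_map (inferInstanceAs (Etale (Scheme.Opens.ι B.1)))) hpe
  have hB : ∀ B : V.left.affineOpens, ∃ m, Comp uY xY aU bX ((yon _).map (openOverι V B.1) ≫ p₀) m := fun B => by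
    have : IsAffine (openOver V B.1).left := B.2
    exact (haff _ _ (hopen B)).exists
  choose mB hmB using hB
  obtain ⟨m₀, hm₀, -⟩ := existsUnique_glue (fun B : V.left.affineOpens => openOverι V B.1) (hcov V) mB
    (fun W B B' a b hab' => by
      let P : Over (Spec (CommRingCat.of R)) := Over.mk (pullback.fst B.1.ι B'.1.ι ≫ (openOver V B.1).hom)
      let q₁ : P ⟶ openOver V B.1 := Over.homMk (pullback.fst B.1.ι B'.1.ι) rfl
      let q₂ : P ⟶ openOver V B'.1 := Over.homMk (pullback.snd B.1.ι B'.1.ι) (by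
        show _ ≫ B'.1.ι ≫ V.hom = _ ≫ B.1.ι ≫ V.hom
        rw [pullback.condition_assoc])
      let k : W ⟶ P := Over.homMk (pullback.lift a.left b.left (congrArg CommaMorphism.left hab')) (by
        show pullback.lift _ _ _ ≫ _ ≫ _ = W.hom
        rw [pullback.lift_fst_assoc]
        exact Over.w a)
      have hq : q₁ ≫ openOverι V B.1 = q₂ ≫ openOverι V B'.1 := Over.OverMorphism.ext pullback.condition
      rw [show a = k ≫ q₁ from Over.OverMorphism.ext (pullback.lift_fst _ _ _).symm,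
        show b = k ≫ q₂ from Over.OverMorphism.ext (pullback.lift_snd _ _ _).symm,
        Functor.map_comp_assoc, Functor.map_comp_assoc]
      refine congrArg _ (huniq ?_ ((hmB B).restrict q₁) ?_)
      · exact repWith_comp (repWith_map (inferInstanceAs (Etale (pullback.fst B.1.ι B'.1.ι)))) (hopen B)
      · rw [← Functor.map_comp_assoc, hq, Functor.map_comp_assoc]
        exact (hmB B').restrict q₂)
  have hm₀c : Comp uY xY aU bX p₀ m₀ := by
    refine ⟨fun T τ l hl => ?_, fun T τ l hl => ?_⟩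
    all_goals
      refine hom_ext_cover (fun O : {O : T.left.affineOpens // ∃ B : V.left.affineOpens,
        (O.1 : Set T.left) ⊆ τ.left ⁻¹' B.1} => openOverι T O.1.1) (fun t => ?_) fun ⟨O, B, hOB⟩ => ?_
      · obtain ⟨O', hO', ht', -⟩ := exists_isAffineOpen_mem_and_subset (X := V.left) (x := τ.left t) (U := ⊤) trivial
        obtain ⟨O, hO, ht, hsub⟩ := exists_isAffineOpen_mem_and_subset (X := T.left) (x := t)
          (U := τ.left ⁻¹ᵁ O') ht'
        exact ⟨⟨⟨O, hO⟩, ⟨O', hO'⟩, hsub⟩, ⟨t, ht⟩, rfl⟩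
      let j : openOver T O.1 ⟶ openOver V B.1 := Over.homMk
        (IsOpenImmersion.lift B.1.ι (O.1.ι ≫ τ.left) (by
          rintro _ ⟨z, rfl⟩
          exact B.1.range_ι ▸ hOB z.2)) (by
        show _ ≫ B.1.ι ≫ V.hom = O.1.ι ≫ T.hom
        rw [IsOpenImmersion.lift_fac_assoc, Category.assoc, Over.w τ])
      have hj : j ≫ openOverι V B.1 = openOverι T O.1 ≫ τ :=
        Over.OverMorphism.ext (IsOpenImmersion.lift_fac _ _ _)
      rw [← Functor.map_comp_assoc, ← hj, Functor.map_comp_assoc, hm₀ B, ← Category.assoc]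
    · exact (hmB B).1 _ j _ (by rw [Category.assoc, hl, ← Functor.map_comp_assoc, ← hj, Functor.map_comp_assoc])
    · exact (hmB B).2 _ j _ (by rw [Category.assoc, hl, ← Functor.map_comp_assoc, ← hj, Functor.map_comp_assoc])
  obtain ⟨W, p₁, p₂, sq⟩ := exists_isPullback_of_representable (hY.representable_from_yon p₀) p₀
  have heq : (yon _).map p₁ ≫ m₀ = (yon _).map p₂ ≫ m₀ :=
    huniq (repWith_comp (repWith_map (repWith_prop hpe sq.flip)) hpe) (hm₀c.restrict p₁)
      (sq.w ▸ hm₀c.restrict p₂)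
  obtain ⟨hcol⟩ := nonempty_isColimit_cofork p₀ sq
  let φ := hcol.desc (Cofork.ofπ m₀ heq)
  have hφ : p₀ ≫ φ = m₀ := hcol.fac (Cofork.ofπ m₀ heq) WalkingParallelPair.one
  have key : ∀ {P : Sp (Spec (CommRingCat.of R))} (u : P ⟶ Y) (n : P ⟶ Z),
      (∀ (T : Over (Spec (CommRingCat.of R))) (τ : T ⟶ V) (l : (yon _).obj T ⟶ P),
        l ≫ u = (yon _).map τ ≫ p₀ → (yon _).map τ ≫ m₀ = l ≫ n) → u ≫ φ = n := by
    intro P u n H
    refine hom_ext_yon fun T l => ?_
    obtain ⟨T', e, τ, w, he, hes, -⟩ := exists_refine hpe hps (l ≫ u)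
    obtain ⟨τ, rfl⟩ := (yon _).map_surjective τ
    have : Surjective e.left := ⟨hes⟩
    have : Epi ((yon _).map e) := epi_of_repWith _ (repWith_map he) (repWith_map this)
    rw [← cancel_epi ((yon _).map e), ← Category.assoc l, ← Category.assoc ((yon _).map e), ← w,
      Category.assoc, hφ, ← Category.assoc]
    exact H T' τ _ (by rw [Category.assoc, w])
  refine ⟨φ, ⟨key uY aU hm₀c.1, key xY bX hm₀c.2⟩, fun φ' ⟨h₁, h₂⟩ => ?_⟩
  rw [← cancel_epi p₀, hφ]
  refine huniq hpe ?_ hm₀c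
  exact ⟨fun T τ l hl => by rw [← reassoc_of% hl, h₁], fun T τ l hl => by rw [← reassoc_of% hl, h₂]⟩

end Global

end Groth.L23.GluePair
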