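import Groth.Agent.L23.GaloisPts
import Groth.Agent.L05.Glue.Torsion
import Groth.Agent.L23.SchemeLocus
import Mathlib.RingTheory.Flat.FaithfullyFlat.Algebra

/-!
# Glueability is etale local
-/

universe u

open CategoryTheory CategoryTheory.Limits AlgebraicGeometry AlgSp TensorProduct Groth.L05.Glue

set_option backward.isDefEq.respectTransparency.types false
set_option linter.style.haveILetI false

namespace Groth.L23.Glueable

variable {R : Type u} [CommRing R] {R' : Type u} [CommRing R'] [Algebra R R'] {f : R}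

theorem injTors_of_flat {A B : Type u} [CommRing A] [Algebra R A] [CommRing B] [Algebra R B] [Algebra A B]
    [IsScalarTower R A B] [Module.Flat A B] (h : InjTors f (TensorProduct.mk R R' A 1)) :
    InjTors f (TensorProduct.mk R R' B 1) := by
  rintro b ⟨n, hn⟩ hb
  let ψ : A →ₗ[A] (A ⊗[R] R') × A :=
    (LinearMap.toSpanSingleton A (A ⊗[R] R') ((1 : A) ⊗ₜ[R] (1 : R'))).prod
      (LinearMap.toSpanSingleton A A (f ^ n • (1 : A)))
  have hψ : Function.Injective ψ := by
    rw [← LinearMap.ker_eq_bot, LinearMap.ker_eq_bot']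
    intro a ha
    have h1 : a • ((1 : A) ⊗ₜ[R] (1 : R')) = 0 := congrArg Prod.fst ha
    have h2 : a • (f ^ n • (1 : A)) = 0 := congrArg Prod.snd ha
    rw [smul_tmul', smul_eq_mul, mul_one] at h1
    rw [smul_eq_mul, mul_smul_comm, mul_one] at h2
    refine h a ⟨n, h2⟩ ?_
    have := congrArg (TensorProduct.comm R A R') h1
    rwa [TensorProduct.comm_tmul, map_zero] at this
  have hB := Module.Flat.lTensor_preserves_injective_linearMap (M := B) ψ hψ
  have key : ψ.lTensor B (b ⊗ₜ[A] (1 : A)) = 0 := by
    apply (TensorProduct.prodRight A A B (A ⊗[R] R') A).injective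
    rw [map_zero, LinearMap.lTensor_tmul]
    refine Prod.ext ?_ ?_
    · simp only [ψ, LinearMap.prod_apply, Pi.prod, Function.prod, LinearMap.toSpanSingleton_apply, one_smul,
        TensorProduct.prodRight_tmul, Prod.fst_zero]
      apply (AlgebraTensorModule.cancelBaseChange R A A B R').injective
      rw [map_zero, AlgebraTensorModule.cancelBaseChange_tmul, one_smul]
      have h0 : (1 : R') ⊗ₜ[R] b = 0 := hb
      have := congrArg (TensorProduct.comm R R' B) h0
      rwa [TensorProduct.comm_tmul, map_zero] at this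
    · simp only [ψ, LinearMap.prod_apply, Pi.prod, Function.prod, LinearMap.toSpanSingleton_apply, one_smul,
        TensorProduct.prodRight_tmul, Prod.snd_zero]
      apply (TensorProduct.rid A B).injective
      rw [map_zero, TensorProduct.rid_tmul, smul_one_smul]
      exact hn
  have := congrArg (TensorProduct.rid A B) (hB (key.trans (map_zero _).symm))
  simpa using this

theorem not_annihilates {A B : Type u} [CommRing A] [CommRing B] [Algebra A B] [Module.Flat A B] (p : Ideal A)
    [p.IsPrime] {q : Ideal B} [q.IsPrime] [q.LiesOver p] {m : A} (hm : algebraMap A B m = 0) :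
    ∃ s : A, s ∉ p ∧ s * m = 0 := by
  by_contra! H
  let μ : A →ₗ[A] A := LinearMap.toSpanSingleton A A m
  have hex : Function.Exact ((LinearMap.ker μ).subtype) μ := LinearMap.exact_subtype_ker_map μ
  have h0 : μ.lTensor B ((1 : B) ⊗ₜ[A] (1 : A)) = 0 := by
    apply (TensorProduct.rid A B).injective
    rw [map_zero, LinearMap.lTensor_tmul, TensorProduct.rid_tmul]
    show ((1 : A) • m) • (1 : B) = 0
    rw [one_smul, Algebra.smul_def, mul_one, hm]
  obtain ⟨t, ht⟩ := (Module.Flat.lTensor_exact B hex _).1 h0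
  have hmem : ∀ t : B ⊗[A] LinearMap.ker μ,
      TensorProduct.rid A B ((LinearMap.ker μ).subtype.lTensor B t) ∈ q := by
    intro t
    induction t using TensorProduct.induction_on with
    | zero => simp
    | tmul b s =>
      rw [LinearMap.lTensor_tmul, TensorProduct.rid_tmul, Algebra.smul_def]
      apply q.mul_mem_right
      have hs : (s : A) ∈ p := by
        by_contra hs
        exact H s hs s.2
      exact (Ideal.mem_of_liesOver q p _).1 hs
    | add x y hx hy => rw [map_add, map_add]; exact q.add_mem hx hy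
  have h1 := hmem t
  rw [ht, TensorProduct.rid_tmul, one_smul] at h1
  exact Ideal.IsPrime.ne_top inferInstance ((Ideal.eq_top_iff_one q).2 h1)

theorem injTors_of_cover {A : Type u} [CommRing A] [Algebra R A]
    (H : ∀ p : PrimeSpectrum A, ∃ (B : Type u) (_ : CommRing B) (_ : Algebra A B) (_ : Algebra R B)
      (_ : IsScalarTower R A B) (_ : Module.Flat A B) (q : PrimeSpectrum B), q.comap (algebraMap A B) = p ∧
        InjTors f (TensorProduct.mk R R' B 1)) : InjTors f (TensorProduct.mk R R' A 1) := by
  rintro m ⟨n, hn⟩ hm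
  by_contra hne
  have hann : (Submodule.span A {m}).annihilator ≠ ⊤ := fun h => hne (by
    have := (Ideal.eq_top_iff_one _).1 h
    rw [Submodule.mem_annihilator_span_singleton, one_smul] at this
    exact this)
  obtain ⟨P, hP, hle⟩ := Ideal.exists_le_maximal _ hann
  obtain ⟨B, _, _, _, _, _, q, hq, hB⟩ := H ⟨P, hP.isPrime⟩
  have hmB : algebraMap A B m = 0 := by
    refine hB _ ⟨n, ?_⟩ ?_
    · rw [← IsScalarTower.toAlgHom_apply R A B, ← map_smul, hn, map_zero]
    · have h0 : (1 : R') ⊗ₜ[R] m = 0 := hm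
      have := congrArg (TensorProduct.map (LinearMap.id : R' →ₗ[R] R') (IsScalarTower.toAlgHom R A B).toLinearMap) h0
      rwa [TensorProduct.map_tmul, map_zero] at this
  haveI : q.asIdeal.LiesOver P := ⟨(congrArg PrimeSpectrum.asIdeal hq).symm⟩
  haveI := hP.isPrime
  obtain ⟨s, hs, hsm⟩ := not_annihilates P (q := q.asIdeal) hmB
  exact hs (hle (Submodule.mem_annihilator_span_singleton _ _ |>.2 hsm))

variable {Y : Sp (Spec (CommRingCat.of R))}

/-- An algebra as a scheme over the base. -/
noncomputable abbrev sA (A : Type u) [CommRing A] [Algebra R A] : Over (Spec (CommRingCat.of R)) :=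
  Over.mk (Spec.map (CommRingCat.ofHom (algebraMap R A)))

theorem injTors_of_charts (hY : IsAlgSpace Y) {ι : Type u} (A : ι → Type u) [∀ k, CommRing (A k)]
    [∀ k, Algebra R (A k)] (g : ∀ k, (yon _).obj (sA (R := R) (A k)) ⟶ Y) (hg : ∀ k, RepWith @Etale (g k))
    (hcov : ∀ y : Points Y, ∃ k, y ∈ Set.range (Points.map (g k)))
    (hglue : ∀ k, InjTors f (TensorProduct.mk R R' (A k) 1)) {C : Type u} [CommRing C] [Algebra R C]
    (c : (yon _).obj (sA (R := R) C) ⟶ Y) (hc : RepWith @Etale c) : InjTors f (TensorProduct.mk R R' C 1) := by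
  refine injTors_of_cover fun p => ?_
  obtain ⟨k, z, hz⟩ := hcov (Points.ofPt c (show (sA (R := R) C).left from p))
  obtain ⟨z, rfl⟩ := (Points.schemeEquiv (sA (R := R) (A k))).surjective z
  obtain ⟨W, p₁, p₂, sq⟩ := exists_isPullback_of_representable (hY.representable_from_yon c) (g k)
  obtain ⟨w, hw, -⟩ := (ofPt_eq_ofPt_iff sq (show (sA (R := R) C).left from p) z).1
    (hz.symm.trans (Points.ofPt_eq_map_ofScheme (g k) z).symm)
  obtain ⟨_, ⟨O, hO, rfl⟩, hwO, -⟩ :=
    W.left.isBasis_affineOpens.exists_subset_of_mem_open (Set.mem_univ w) isOpen_univ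
  change W.left.Opens at O
  haveI : Etale p₁.left := repWith_prop (hg k) sq.flip
  haveI : Etale p₂.left := repWith_prop hc sq
  have hr : w ∈ Set.range hO.fromSpec := by rw [hO.range_fromSpec]; exact hwO
  obtain ⟨q, hq⟩ := hr
  let j₁ : Spec Γ(W.left, O) ⟶ Spec (CommRingCat.of C) := hO.fromSpec ≫ p₁.left
  let j₂ : Spec Γ(W.left, O) ⟶ Spec (CommRingCat.of (A k)) := hO.fromSpec ≫ p₂.left
  let φ₁ := Spec.preimage j₁
  let φ₂ := Spec.preimage j₂
  letI : Algebra C Γ(W.left, O) := φ₁.hom.toAlgebra
  letI : Algebra (A k) Γ(W.left, O) := φ₂.hom.toAlgebra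
  letI : Algebra R Γ(W.left, O) := (φ₁.hom.comp (algebraMap R C)).toAlgebra
  haveI : IsScalarTower R C Γ(W.left, O) := IsScalarTower.of_algebraMap_eq fun _ => rfl
  have hR : CommRingCat.ofHom (algebraMap R (A k)) ≫ φ₂ = CommRingCat.ofHom (algebraMap R C) ≫ φ₁ := by
    apply Spec.map_injective
    rw [Spec.map_comp, Spec.map_comp, Spec.map_preimage, Spec.map_preimage, Category.assoc, Category.assoc]
    exact congrArg (hO.fromSpec ≫ ·) ((Over.w p₂).trans (Over.w p₁).symm)
  haveI : IsScalarTower R (A k) Γ(W.left, O) := IsScalarTower.of_algebraMap_eq fun x =>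
    (RingHom.congr_fun (congrArg CommRingCat.Hom.hom hR) x).symm
  haveI : Module.Flat C Γ(W.left, O) := by
    have h : Flat (Spec.map φ₁) := by rw [Spec.map_preimage]; infer_instance
    exact (HasRingHomProperty.Spec_iff (P := @Flat)).1 h
  haveI : Module.Flat (A k) Γ(W.left, O) := by
    have h : Flat (Spec.map φ₂) := by rw [Spec.map_preimage]; infer_instance
    exact (HasRingHomProperty.Spec_iff (P := @Flat)).1 h
  refine ⟨Γ(W.left, O), inferInstance, inferInstance, inferInstance, inferInstance, inferInstance, q, ?_,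
    injTors_of_flat (A := A k) (hglue k)⟩
  show (Spec.map φ₁) q = p
  rw [Spec.map_preimage, Scheme.Hom.comp_apply, hq]
  exact hw

end Groth.L23.Glueable
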