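import Groth.Agent.L05.Glue.Modules

/-!
# Glueing of algebras as a fibre product
-/

universe u

set_option linter.style.haveILetI false

open TensorProduct EtGlue Groth.L05.Glue

namespace Groth.L23.GluePair

variable {R R' : Type u} [CommRing R] [CommRing R'] [Algebra R R'] {f : R}

/-- Glueing of algebras, with the pullback property. -/
theorem exists_glued_algebra_pullback (h : IsGlueingPair R R' f) (A₁ : Type u) [CommRing A₁] [Algebra R A₁]
    (h₁ : IsUnit (algebraMap R A₁ f)) (A' : Type u) [CommRing A'] [Algebra R A'] [Algebra R' A']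
    [IsScalarTower R R' A']
    (φ : Localization.Away (algebraMap R A' f) ≃ₐ[R'] R' ⊗[R] A₁) :
    ∃ (A : Type u) (_ : CommRing A) (_ : Algebra R A) (_ : EtGlue.IsGlueable R R' f A)
      (e₁ : Localization.Away (algebraMap R A f) ≃ₐ[R] A₁) (e' : R' ⊗[R] A ≃ₐ[R'] A'),
      (∀ a : A, φ (algebraMap A' (Localization.Away (algebraMap R A' f)) (e' ((1 : R') ⊗ₜ[R] a))) =
        (1 : R') ⊗ₜ[R] e₁ (algebraMap A (Localization.Away (algebraMap R A f)) a)) ∧
      (∀ (x : A') (y : A₁), φ (algebraMap A' (Localization.Away (algebraMap R A' f)) x) = (1 : R') ⊗ₜ[R] y →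
        ∃ a : A, e' ((1 : R') ⊗ₜ[R] a) = x ∧ e₁ (algebraMap A (Localization.Away (algebraMap R A f)) a) = y) ∧
      ∀ a b : A, e' ((1 : R') ⊗ₜ[R] a) = e' ((1 : R') ⊗ₜ[R] b) →
        e₁ (algebraMap A (Localization.Away (algebraMap R A f)) a) =
          e₁ (algebraMap A (Localization.Away (algebraMap R A f)) b) → a = b := by
  set L := Localization.Away (algebraMap R A' f)
  let β : A' →ₐ[R'] R' ⊗[R] A₁ := φ.toAlgHom.comp (IsScalarTower.toAlgHom R' A' L)
  let Φ₁ : A' × A₁ →ₐ[R] R' ⊗[R] A₁ := (β.restrictScalars R).comp (AlgHom.fst R A' A₁)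
  let Φ₂ : A' × A₁ →ₐ[R] R' ⊗[R] A₁ :=
    Algebra.TensorProduct.includeRight.comp (AlgHom.snd R A' A₁)
  let A := ↥(AlgHom.equalizer Φ₁ Φ₂)
  let p : A →ₐ[R] A' := (AlgHom.fst R A' A₁).comp (AlgHom.equalizer Φ₁ Φ₂).val
  let q : A →ₐ[R] A₁ := (AlgHom.snd R A' A₁).comp (AlgHom.equalizer Φ₁ Φ₂).val
  obtain ⟨hloc, hbij, hgl⟩ := glued (M := A) h p.toLinearMap q.toLinearMap β.toLinearMap
    ⟨fun a b hab => h₁.mul_left_cancel (by simpa [Algebra.smul_def] using hab), fun b =>
      ⟨(↑h₁.unit⁻¹ : A₁) * b, by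
        show f • ((↑h₁.unit⁻¹ : A₁) * b) = b
        rw [Algebra.smul_def, ← mul_assoc, IsUnit.mul_val_inv, one_mul]⟩⟩
    (fun x hx => by
      obtain ⟨⟨_, n, rfl⟩, hn⟩ := (IsLocalization.map_eq_zero_iff
        (Submonoid.powers (algebraMap R A' f)) L _).mp (φ.injective (hx.trans (map_zero φ).symm))
      exact ⟨n, by rw [Algebra.smul_def, map_pow]; exact hn⟩)
    (fun z => by
      obtain ⟨⟨x, ⟨_, n, rfl⟩⟩, hx⟩ := IsLocalization.surj
        (Submonoid.powers (algebraMap R A' f)) (φ.symm z)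
      refine ⟨n, x, ?_⟩
      show φ (algebraMap A' L x) = _
      simp only at hx
      have hc : φ (algebraMap A' L (algebraMap R A' f ^ n)) =
          algebraMap R (R' ⊗[R] A₁) (f ^ n) := by
        rw [← map_pow (algebraMap R A'), IsScalarTower.algebraMap_apply R R' (R' ⊗[R] A₁),
          ← φ.commutes, IsScalarTower.algebraMap_apply R' A' L]
        exact congrArg (fun a => φ (algebraMap A' L a))
          (IsScalarTower.algebraMap_apply R R' A' (f ^ n))
      rw [← hx, map_mul, φ.apply_symm_apply, hc, mul_comm, ← Algebra.smul_def])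
    (fun m => m.2) (fun x y hxy => ⟨⟨(x, y), hxy⟩, rfl, rfl⟩)
    (fun m h1 h2 => Subtype.ext (Prod.ext h1 h2))
  letI : Algebra A A₁ := q.toRingHom.toAlgebra
  haveI : IsScalarTower R A A₁ := IsScalarTower.of_algebraMap_eq fun r => (q.commutes r).symm
  haveI hloc' : IsLocalization.Away (algebraMap R A f) A₁ := by
    haveI := hloc
    refine
      { map_units := ?_
        surj := fun z => ?_
        exists_of_eq := fun {a b} hab => ?_ }
    · rintro ⟨_, n, rfl⟩
      show IsUnit (q (algebraMap R A f ^ n))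
      rw [map_pow, AlgHom.commutes]
      exact h₁.pow n
    · obtain ⟨⟨m, ⟨_, n, rfl⟩⟩, hm⟩ := IsLocalizedModule.surj (Submonoid.powers f) q.toLinearMap z
      refine ⟨(m, ⟨algebraMap R A f ^ n, n, rfl⟩), ?_⟩
      show z * q (algebraMap R A f ^ n) = q m
      simp only [Submonoid.smul_def, AlgHom.toLinearMap_apply] at hm
      rw [← hm, map_pow, AlgHom.commutes, ← map_pow, Algebra.smul_def, mul_comm]
    · obtain ⟨⟨_, n, rfl⟩, hn⟩ := IsLocalizedModule.exists_of_eq (S := Submonoid.powers f)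
        (f := q.toLinearMap) hab
      refine ⟨⟨algebraMap R A f ^ n, n, rfl⟩, ?_⟩
      simpa [Submonoid.smul_def, Algebra.smul_def] using hn
  let P : R' ⊗[R] A →ₐ[R'] A' :=
    Algebra.TensorProduct.lift (Algebra.ofId R' A') p (fun _ _ => Commute.all _ _)
  have hP : ⇑P = ⇑(p.toLinearMap.liftBaseChange R') := by
    refine congrArg DFunLike.coe (show P.toLinearMap = p.toLinearMap.liftBaseChange R' from
      TensorProduct.AlgebraTensorModule.ext fun a m => ?_)
    simp [P, LinearMap.liftBaseChange_tmul, Algebra.smul_def, Algebra.ofId_apply]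
  have hP1 : ∀ a : A, P ((1 : R') ⊗ₜ[R] a) = p a := fun a => by simp [P]
  refine ⟨A, inferInstance, inferInstance, hgl,
    (IsLocalization.algEquiv (Submonoid.powers (algebraMap R A f))
      (Localization.Away (algebraMap R A f)) A₁).restrictScalars R,
    AlgEquiv.ofBijective P (hP ▸ hbij), fun a => ?_, fun x y hxy => ?_, fun a b h1 h2 => ?_⟩
  · rw [AlgEquiv.restrictScalars_apply, AlgEquiv.commutes, AlgEquiv.ofBijective_apply, hP1]
    exact a.2
  · refine ⟨⟨(x, y), hxy⟩, ?_, ?_⟩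
    · rw [AlgEquiv.ofBijective_apply, hP1]; rfl
    · rw [AlgEquiv.restrictScalars_apply, AlgEquiv.commutes]; rfl
  · rw [AlgEquiv.ofBijective_apply, AlgEquiv.ofBijective_apply, hP1, hP1] at h1
    rw [AlgEquiv.restrictScalars_apply, AlgEquiv.restrictScalars_apply, AlgEquiv.commutes, AlgEquiv.commutes] at h2
    exact Subtype.ext (Prod.ext h1 h2)
end Groth.L23.GluePair
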