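import Groth.Agent.L23.AffineMor
import Groth.Agent.L23.GlueableEtale
import Groth.Agent.L23.Glue
import Groth.Agent.L23.CoprodFinite
import Groth.Agent.L23.Epi
import Groth.Agent.L09.EtGlueSp.Hom
import Groth.Agent.L05.Glue.Algebra
import Groth.Agent.L05.Glue.Modules
import Groth.Agent.L23.GluedAlgebra
import Groth.Agent.S7065
import Groth.Agent.S10707
import Mathlib.Algebra.Category.Ring.Constructions

/-!
# Morphisms into spaces with affine diagonal glue along glueing pairs
-/

universe u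

open CategoryTheory CategoryTheory.Limits AlgebraicGeometry AlgSp TensorProduct

set_option linter.style.haveILetI false
set_option backward.isDefEq.respectTransparency.types false

namespace Groth.L23.GluePair

variable {R : CommRingCat.{u}} {Z : Sp (Spec R)}

/-- Two maps from affine schemes to a space with affine diagonal have an affine fibre product. -/
theorem exists_affine_pullback (hZd : IsAffineMor (Limits.diag Z)) {T W : Over (Spec R)} [IsAffine T.left]
    [IsAffine W.left] (x : (yon _).obj T ⟶ Z) (w : (yon _).obj W ⟶ Z) :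
    ∃ (P : Over (Spec R)) (p : P ⟶ T) (q : P ⟶ W), IsAffine P.left ∧
      IsPullback ((yon _).map p) ((yon _).map q) x w := by
  let Q : Over (Spec R) := Over.mk (pullback.fst T.hom W.hom ≫ T.hom)
  have : IsAffine Q.left := inferInstanceAs (IsAffine (pullback T.hom W.hom))
  let π₁ : Q ⟶ T := Over.homMk (pullback.fst T.hom W.hom) rfl
  let π₂ : Q ⟶ W := Over.homMk (pullback.snd T.hom W.hom) pullback.condition.symm
  obtain ⟨P, i, fst, sq, hP⟩ := hZd ‹IsAffine Q.left› (prod.lift ((yon _).map π₁ ≫ x) ((yon _).map π₂ ≫ w))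
  have e₁ : fst = (yon _).map (i ≫ π₁) ≫ x := by
    have h := sq.w =≫ prod.fst
    rw [Category.assoc, Category.assoc, prod.lift_fst, prod.lift_fst, Category.comp_id, ← Functor.map_comp_assoc] at h
    exact h
  have e₂ : fst = (yon _).map (i ≫ π₂) ≫ w := by
    have h := sq.w =≫ prod.snd
    rw [Category.assoc, Category.assoc, prod.lift_snd, prod.lift_snd, Category.comp_id, ← Functor.map_comp_assoc] at h
    exact h
  let one : Over (Spec R) := Over.mk (𝟙 (Spec R))
  let t₁ : T ⟶ one := Over.homMk T.hom (Category.comp_id _)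
  let t₂ : W ⟶ one := Over.homMk W.hom (Category.comp_id _)
  have hQ : IsPullback π₁ π₂ t₁ t₂ :=
    IsPullback.of_map (Over.forget _) (Over.OverMorphism.ext pullback.condition) (IsPullback.of_hasPullback T.hom W.hom)
  have hQy := hQ.map (yon _)
  have term : ∀ {A : Sp (Spec R)} (f g : A ⟶ (yon _).obj one), f = g := fun f g =>
    Groth.L23.hom_ext_yon fun U l => Groth.L09.EtGlueSp.yon_terminal_subsingleton _ _ _
  have hc : ((yon _).map (i ≫ π₁)) ≫ x = ((yon _).map (i ≫ π₂)) ≫ w := by rw [← e₁, ← e₂]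
  let k := fun (c : PullbackCone x w) => hQy.lift c.fst c.snd (term _ _)
  have hk₁ : ∀ c : PullbackCone x w, k c ≫ (yon _).map π₁ = c.fst := fun c => hQy.lift_fst _ _ _
  have hk₂ : ∀ c : PullbackCone x w, k c ≫ (yon _).map π₂ = c.snd := fun c => hQy.lift_snd _ _ _
  have hcd : ∀ c : PullbackCone x w, (c.fst ≫ x) ≫ Limits.diag Z =
      k c ≫ prod.lift ((yon _).map π₁ ≫ x) ((yon _).map π₂ ≫ w) := fun c => by
    apply Limits.prod.hom_ext
    · simp only [Category.assoc, prod.lift_fst, Category.comp_id, reassoc_of% hk₁ c]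
    · simp only [Category.assoc, prod.lift_snd, Category.comp_id, reassoc_of% hk₂ c, c.condition]
  refine ⟨P, i ≫ π₁, i ≫ π₂, hP, ⟨⟨hc⟩, ⟨PullbackCone.IsLimit.mk _ (fun c => sq.lift (c.fst ≫ x) (k c) (hcd c))
    (fun c => ?_) (fun c => ?_) (fun c l h₁ h₂ => ?_)⟩⟩⟩
  · rw [Functor.map_comp, sq.lift_snd_assoc, hk₁]
  · rw [Functor.map_comp, sq.lift_snd_assoc, hk₂]
  · refine sq.hom_ext ?_ ?_
    · rw [sq.lift_fst, e₁, ← h₁, Category.assoc]
    · rw [sq.lift_snd]
      refine hQy.hom_ext ?_ ?_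
      · rw [hk₁, Category.assoc, ← Functor.map_comp, h₁]
      · rw [hk₂, Category.assoc, ← Functor.map_comp, h₂]

theorem mem_range_of_lift {T T' P W V : Over (Spec R)} {x : (yon _).obj T ⟶ Z} {v : (yon _).obj V ⟶ Z} {p : P ⟶ T}
    {q : P ⟶ W} {j : W ⟶ V} (sq : IsPullback ((yon _).map p) ((yon _).map q) x ((yon _).map j ≫ v)) (e : T' ⟶ T)
    (m : T' ⟶ V) (h : (yon _).map m ≫ v = (yon _).map e ≫ x) (t' : T'.left) (hw : ∃ w, j.left w = m.left t') :
    ∃ a, p.left a = e.left t' := by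
  obtain ⟨w, hw⟩ := hw
  obtain ⟨z, hz₁, -⟩ := Scheme.Pullback.exists_preimage_pullback (f := m.left) (g := j.left) t' w hw.symm
  let K : Over (Spec R) := Over.mk (pullback.fst m.left j.left ≫ T'.hom)
  let k₁ : K ⟶ T' := Over.homMk (pullback.fst m.left j.left) rfl
  let k₂ : K ⟶ W := Over.homMk (pullback.snd m.left j.left) (by
    show _ ≫ W.hom = pullback.fst m.left j.left ≫ T'.hom
    rw [← Over.w j, ← pullback.condition_assoc, Over.w m])
  have hk : k₁ ≫ m = k₂ ≫ j := Over.OverMorphism.ext pullback.condition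
  obtain ⟨l, hl₁, -⟩ := sq.exists_lift ((yon _).map (k₁ ≫ e)) ((yon _).map k₂) (by
    rw [Functor.map_comp, Category.assoc, ← h, ← Functor.map_comp_assoc, hk, Functor.map_comp_assoc])
  obtain ⟨l, rfl⟩ := (yon _).map_surjective l
  rw [← Functor.map_comp] at hl₁
  exact ⟨l.left z, by
    rw [← Scheme.Hom.comp_apply, ← Over.comp_left, (yon _).map_injective hl₁, Over.comp_left,
      Scheme.Hom.comp_apply]
    exact congrArg e.left hz₁⟩

/-- An affine étale chart lifting two maps from affine schemes surjectively. -/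
theorem exists_affine_chart_two (hZ : IsAlgSpace Z) {T₁ T₂ : Over (Spec R)} [IsAffine T₁.left] [IsAffine T₂.left]
    (x₁ : (yon _).obj T₁ ⟶ Z) (x₂ : (yon _).obj T₂ ⟶ Z) :
    ∃ (W : Over (Spec R)) (w : (yon _).obj W ⟶ Z), IsAffine W.left ∧ RepWith @Etale w ∧
      (∀ {P : Over (Spec R)} {p : P ⟶ T₁} {q : P ⟶ W},
        IsPullback ((yon _).map p) ((yon _).map q) x₁ w → Surjective p.left) ∧
      (∀ {P : Over (Spec R)} {p : P ⟶ T₂} {q : P ⟶ W},
        IsPullback ((yon _).map p) ((yon _).map q) x₂ w → Surjective p.left) := by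
  obtain ⟨V, v, hv, hvs⟩ := hZ.atlas
  obtain ⟨T₁', e₁, m₁, hA₁, -, hs₁, w₁⟩ := exists_affine_refine hv hvs x₁
  obtain ⟨T₂', e₂, m₂, hA₂, -, hs₂, w₂⟩ := exists_affine_refine hv hvs x₂
  have hc : IsCompact (Set.range m₁.left ∪ Set.range m₂.left) :=
    (isCompact_range m₁.left.continuous).union (isCompact_range m₂.left.continuous)
  obtain ⟨s, hs⟩ := hc.elim_finite_subcover (fun O : V.left.affineOpens => ((O.1 : V.left.Opens) : Set V.left))
    (fun O => O.1.isOpen) fun z _ => by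
      obtain ⟨O, hO, hz, -⟩ := exists_isAffineOpen_mem_and_subset (X := V.left) (x := z) (U := ⊤) trivial
      exact Set.mem_iUnion.2 ⟨⟨O, hO⟩, hz⟩
  let F : s → Scheme.{u} := fun O => (O.1.1 : Scheme.{u})
  have : ∀ O, IsAffine (F O) := fun O => O.1.2
  let π : (∐ F) ⟶ V.left := Sigma.desc fun O => O.1.1.ι
  let W : Over (Spec R) := Over.mk (π ≫ V.hom)
  let j : W ⟶ V := Over.homMk π rfl
  have hj : Etale j.left := IsZariskiLocalAtSource.sigmaDesc fun i => inferInstanceAs (Etale (Scheme.Opens.ι _))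
  refine ⟨W, (yon _).map j ≫ v, inferInstanceAs (IsAffine (∐ F)), repWith_comp (repWith_map hj) hv, ?_, ?_⟩
  all_goals
    intro P p q sq
    refine ⟨fun t => ?_⟩
  · obtain ⟨t', rfl⟩ := hs₁.surj t
    obtain ⟨O, hO, hzO⟩ := Set.mem_iUnion₂.1 (hs (Or.inl ⟨t', rfl⟩))
    exact mem_range_of_lift sq e₁ m₁ w₁ t' ⟨(Sigma.ι F ⟨O, hO⟩) ⟨_, hzO⟩, by
      show π _ = _
      rw [← Scheme.Hom.comp_apply, Sigma.ι_desc]; rfl⟩
  · obtain ⟨t', rfl⟩ := hs₂.surj t
    obtain ⟨O, hO, hzO⟩ := Set.mem_iUnion₂.1 (hs (Or.inr ⟨t', rfl⟩))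
    exact mem_range_of_lift sq e₂ m₂ w₂ t' ⟨(Sigma.ι F ⟨O, hO⟩) ⟨_, hzO⟩, by
      show π _ = _
      rw [← Scheme.Hom.comp_apply, Sigma.ι_desc]; rfl⟩

section Core

variable {A : CommRingCat.{u}} (p : Spec A ⟶ Spec R)

/-- The scheme of an `A`-algebra, over the base. -/
noncomputable abbrev sB (B : Type u) [CommRing B] [Algebra A B] : Over (Spec R) :=
  Over.mk (Spec.map (CommRingCat.ofHom (algebraMap A B)) ≫ p)

/-- Its structure map. -/
noncomputable abbrev sπ (B : Type u) [CommRing B] [Algebra A B] : sB p B ⟶ Over.mk p :=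
  Over.homMk (Spec.map (CommRingCat.ofHom (algebraMap A B))) rfl

variable {B C : Type u} [CommRing B] [Algebra A B] [CommRing C] [Algebra A C]

/-- The map of schemes of a map of algebras. -/
noncomputable abbrev sMap (σ : B →ₐ[A] C) : sB p C ⟶ sB p B :=
  Over.homMk (Spec.map (CommRingCat.ofHom σ.toRingHom)) (by
    show Spec.map _ ≫ Spec.map _ ≫ p = Spec.map _ ≫ p
    rw [← Spec.map_comp_assoc, ← CommRingCat.ofHom_comp]
    rw [show σ.toRingHom.comp (algebraMap A B) = algebraMap A C from σ.comp_algebraMap])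

theorem sMap_π (σ : B →ₐ[A] C) : sMap p σ ≫ sπ p B = sπ p C :=
  Over.OverMorphism.ext (by
    show Spec.map _ ≫ Spec.map _ = Spec.map _
    rw [← Spec.map_comp, ← CommRingCat.ofHom_comp]
    rw [show σ.toRingHom.comp (algebraMap A B) = algebraMap A C from σ.comp_algebraMap])

theorem sMap_injective {σ σ' : B →ₐ[A] C} (h : sMap p σ = sMap p σ') : σ = σ' := by
  have := Spec.map_injective (congrArg CommaMorphism.left h : Spec.map (CommRingCat.ofHom σ.toRingHom) = Spec.map (CommRingCat.ofHom σ'.toRingHom))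
  exact AlgHom.ext fun b => RingHom.congr_fun (congrArg CommRingCat.Hom.hom this) b

theorem exists_algHom (k : sB p C ⟶ sB p B) (hk : k ≫ sπ p B = sπ p C) : ∃ σ : B →ₐ[A] C, sMap p σ = k := by
  have h : CommRingCat.ofHom (algebraMap A B) ≫ Spec.preimage k.left = CommRingCat.ofHom (algebraMap A C) :=
    Spec.map_injective (by rw [Spec.map_comp, Spec.map_preimage]; exact congrArg CommaMorphism.left hk)
  exact ⟨{ (Spec.preimage k.left).hom with commutes' := fun a => RingHom.congr_fun (congrArg CommRingCat.Hom.hom h) a },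
    Over.OverMorphism.ext (Spec.map_preimage _)⟩

theorem sMap_comp {D : Type u} [CommRing D] [Algebra A D] (σ : B →ₐ[A] C) (τ : C →ₐ[A] D) :
    sMap p τ ≫ sMap p σ = sMap p (τ.comp σ) :=
  Over.OverMorphism.ext (by
    show Spec.map _ ≫ Spec.map _ = Spec.map _
    rw [← Spec.map_comp, ← CommRingCat.ofHom_comp]; rfl)

/-- An affine scheme over `Spec A` is the scheme of an algebra. -/
theorem exists_iso_sB {T : Over (Spec R)} [IsAffine T.left] (k : T ⟶ Over.mk p) :
    ∃ (B : CommRingCat.{u}) (_ : Algebra A B) (e : sB p B ≅ T), e.hom ≫ k = sπ p B := by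
  let φ := Spec.preimage (T.left.isoSpec.inv ≫ k.left)
  let : Algebra A Γ(T.left, ⊤) := φ.hom.toAlgebra
  have hφ : Spec.map (CommRingCat.ofHom (algebraMap A Γ(T.left, ⊤))) = T.left.isoSpec.inv ≫ k.left := Spec.map_preimage _
  refine ⟨Γ(T.left, ⊤), inferInstance, Over.isoMk T.left.isoSpec.symm ?_, Over.OverMorphism.ext hφ.symm⟩
  show T.left.isoSpec.inv ≫ T.hom = Spec.map _ ≫ p
  rw [hφ, Category.assoc]
  exact congrArg (_ ≫ ·) (Over.w k).symm

theorem algHom_away_subsingleton {a : A} (σ τ : Localization.Away a →ₐ[A] B) : σ = τ :=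
  AlgHom.coe_ringHom_injective (IsLocalization.ringHom_ext (Submonoid.powers a) (by
    show (σ : Localization.Away a →+* B).comp _ = (τ : Localization.Away a →+* B).comp _
    rw [AlgHom.comp_algebraMap, AlgHom.comp_algebraMap]))

variable {A' : CommRingCat.{u}} [Algebra A A'] {g : A}

/-- The glued algebra of two charts. -/
theorem exists_glued_charts (h : EtGlue.IsGlueingPair A A' g) {B₁ B' : Type u} [CommRing B₁] [Algebra A B₁]
    [CommRing B'] [Algebra A B'] [Algebra A' B'] [IsScalarTower A A' B'] (ρu : Localization.Away g →ₐ[A] B₁)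
    (ρv : A' →ₐ[A] B') (hρv : ∀ a, ρv a = algebraMap A' B' a) (hu_et : ρu.toRingHom.Etale)
    (hv_et : ρv.toRingHom.Etale) (hu_s : Surjective (Spec.map (CommRingCat.ofHom ρu.toRingHom)))
    (hv_s : Surjective (Spec.map (CommRingCat.ofHom ρv.toRingHom))) (hgB : IsUnit (algebraMap A B₁ g))
    (φ : Localization.Away (algebraMap A B' g) ≃ₐ[A'] A' ⊗[A] B₁) :
    ∃ (B : Type u) (_ : CommRing B) (_ : Algebra A B) (qB : B →ₐ[A] B₁) (pB : B →ₐ[A] B'),
      EtGlue.IsGlueable A A' g B ∧ (algebraMap A B).Etale ∧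
      Surjective (Spec.map (CommRingCat.ofHom (algebraMap A B))) ∧
      (∀ (x : B') (y : B₁), φ (algebraMap B' _ x) = (1 : A') ⊗ₜ[A] y → ∃ b, pB b = x ∧ qB b = y) ∧
      (∀ a b, pB a = pB b → qB a = qB b → a = b) ∧
      (∀ (D : Type u) [CommRing D] [Algebra A D] (σ : B →ₐ[A] D) (τ : Localization.Away g →ₐ[A] D),
        ∃ σ' : B₁ →ₐ[A] D, σ'.comp qB = σ ∧ σ'.comp ρu = τ) ∧
      ∀ (D : Type u) [CommRing D] [Algebra A D] (σ : B →ₐ[A] D) (τ : A' →ₐ[A] D),
        ∃ σ' : B' →ₐ[A] D, σ'.comp pB = σ ∧ σ'.comp ρv = τ := by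
  obtain ⟨B, _, _, hB, e₁, e', hcompat, hpull, hinj⟩ := exists_glued_algebra_pullback h B₁ hgB B' φ
  let Bg := Localization.Away (algebraMap A B g)
  let qB : B →ₐ[A] B₁ := e₁.toAlgHom.comp (IsScalarTower.toAlgHom A B Bg)
  let iB : B →ₐ[A] A' ⊗[A] B := Algebra.TensorProduct.includeRight
  let pB : B →ₐ[A] B' := (e'.toAlgHom.restrictScalars A).comp iB
  -- the glued algebra is etale and surjective on spectra
  let j₁ : B →ₐ[A] Localization.Away g ⊗[A] B := Algebra.TensorProduct.includeRight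
  let j₀ : Localization.Away g →ₐ[A] Localization.Away g ⊗[A] B := Algebra.TensorProduct.includeLeft
  let τ₁ : B₁ →ₐ[A] Localization.Away g ⊗[A] B :=
    (IsLocalization.liftAlgHom (M := Submonoid.powers (algebraMap A B g)) (S := Bg) (f := j₁) (by
      rintro ⟨_, n, rfl⟩
      show IsUnit (j₁ (algebraMap A B g ^ n))
      rw [map_pow, j₁.commutes, ← j₀.commutes]
      exact ((IsLocalization.Away.algebraMap_isUnit g).map j₀).pow n)).comp e₁.symm.toAlgHom
  let σ₁ : Localization.Away g ⊗[A] B →ₐ[A] B₁ := Algebra.TensorProduct.productMap ρu qB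
  have hτ : ∀ b, τ₁ (qB b) = j₁ b := fun b => by simp [τ₁, qB, Bg]
  have hτσ : τ₁.comp σ₁ = AlgHom.id A (Localization.Away g ⊗[A] B) := by
    refine Algebra.TensorProduct.ext (algHom_away_subsingleton _ _) (AlgHom.ext fun b => ?_)
    show τ₁ (σ₁ ((1 : Localization.Away g) ⊗ₜ[A] b)) = (1 : Localization.Away g) ⊗ₜ[A] b
    rw [show σ₁ ((1 : Localization.Away g) ⊗ₜ[A] b) = qB b by simp [σ₁]]
    exact hτ b
  have hστ : σ₁.comp τ₁ = AlgHom.id A B₁ := by
    refine AlgHom.ext fun y => ?_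
    obtain ⟨z, rfl⟩ := e₁.surjective y
    refine RingHom.congr_fun (IsLocalization.ringHom_ext (Submonoid.powers (algebraMap A B g))
      (j := (σ₁.comp τ₁).toRingHom.comp e₁.toRingEquiv.toRingHom)
      (k := e₁.toRingEquiv.toRingHom) (RingHom.ext fun b => ?_)) z
    show σ₁ (τ₁ (qB b)) = qB b
    rw [hτ]
    simp [σ₁, j₁]
  have het : (algebraMap A B).Etale := by
    refine Groth.L05.Glue.etale_of_both B h ?_ ?_
    · rw [show algebraMap A' (A' ⊗[A] B) = e'.symm.toRingEquiv.toRingHom.comp ρv.toRingHom from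
        RingHom.ext fun a => (e'.symm.commutes a).symm.trans (congrArg e'.symm (hρv a).symm)]
      exact RingHom.Etale.respectsIso.1 _ _ hv_et
    · let eτ : B₁ ≃ₐ[A] Localization.Away g ⊗[A] B := AlgEquiv.ofAlgHom τ₁ σ₁ hτσ hστ
      rw [show algebraMap (Localization.Away g) (Localization.Away g ⊗[A] B) =
          eτ.toRingEquiv.toRingHom.comp ρu.toRingHom from
        congrArg AlgHom.toRingHom (algHom_away_subsingleton j₀ (τ₁.comp ρu))]
      exact RingHom.Etale.respectsIso.1 _ _ hu_et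
  have hsurj : Surjective (Spec.map (CommRingCat.ofHom (algebraMap A B))) := by
    refine ⟨fun (P : PrimeSpectrum A) => ?_⟩
    have hq1 := h.1 1 one_pos
    have hq : Function.Bijective (Ideal.quotientMap (Ideal.map (algebraMap A A') (Ideal.span {g}))
        (algebraMap A A') Ideal.le_comap_map) := pow_one g ▸ hq1
    rcases Groth.Agent.S7065.result g hq P with ⟨q, hq⟩ | ⟨q, hq⟩
    · obtain ⟨q', hq'⟩ := hv_s.surj q
      refine ⟨PrimeSpectrum.comap pB.toRingHom q', ?_⟩
      show PrimeSpectrum.comap (algebraMap A B) (PrimeSpectrum.comap pB.toRingHom q') = P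
      rw [← hq, ← hq']
      show _ = PrimeSpectrum.comap (algebraMap A A') (PrimeSpectrum.comap ρv.toRingHom q')
      rw [← PrimeSpectrum.comap_comp_apply, ← PrimeSpectrum.comap_comp_apply]
      exact congrArg (fun φ => PrimeSpectrum.comap φ q') (pB.comp_algebraMap.trans ρv.comp_algebraMap.symm)
    · obtain ⟨q', hq'⟩ := hu_s.surj q
      refine ⟨PrimeSpectrum.comap qB.toRingHom q', ?_⟩
      show PrimeSpectrum.comap (algebraMap A B) (PrimeSpectrum.comap qB.toRingHom q') = P
      rw [← hq, ← hq']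
      show _ = PrimeSpectrum.comap (algebraMap A (Localization.Away g)) (PrimeSpectrum.comap ρu.toRingHom q')
      rw [← PrimeSpectrum.comap_comp_apply, ← PrimeSpectrum.comap_comp_apply]
      exact congrArg (fun φ => PrimeSpectrum.comap φ q') (qB.comp_algebraMap.trans ρu.comp_algebraMap.symm)
  refine ⟨B, inferInstance, inferInstance, qB, pB, hB, het, hsurj, hpull, hinj, fun D _ _ σ τ => ?_, fun D _ _ σ τ => ?_⟩
  · let σ' : B₁ →ₐ[A] D := (IsLocalization.liftAlgHom (M := Submonoid.powers (algebraMap A B g)) (S := Bg) (f := σ) (by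
      rintro ⟨_, n, rfl⟩
      show IsUnit (σ (algebraMap A B g ^ n))
      rw [map_pow, σ.commutes, ← τ.commutes]
      exact ((IsLocalization.Away.algebraMap_isUnit g).map τ).pow n)).comp e₁.symm.toAlgHom
    exact ⟨σ', AlgHom.ext fun b => by simp [σ', qB, Bg], algHom_away_subsingleton _ _⟩
  · let σ' : B' →ₐ[A] D := (Algebra.TensorProduct.productMap τ σ).comp (e'.symm.toAlgHom.restrictScalars A)
    refine ⟨σ', AlgHom.ext fun b => by simp [σ', pB, iB], AlgHom.ext fun a => ?_⟩
    show Algebra.TensorProduct.productMap τ σ (e'.symm (ρv a)) = τ a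
    rw [hρv, show e'.symm (algebraMap A' B' a) = algebraMap A' (A' ⊗[A] B) a from e'.symm.commutes a]
    simp

/-- Two maps to an affine scheme that agree on the overlap glue. -/
theorem exists_lift_glued {B B₁ B' T : Type u} [CommRing B] [Algebra A B] [CommRing B₁] [Algebra A B₁]
    [CommRing B'] [Algebra A B'] [CommRing T] [Algebra A T] (β : B' →ₐ[A] T) (i₂ : B₁ →ₐ[A] T)
    (qB : B →ₐ[A] B₁) (pB : B →ₐ[A] B') (hpull' : ∀ x y, β x = i₂ y → ∃ b, pB b = x ∧ qB b = y)
    (hinj' : ∀ a b, pB a = pB b → qB a = qB b → a = b) {W : Over (Spec R)} [IsAffine W.left]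
    (Qu : sB p B₁ ⟶ W) (Qv : sB p B' ⟶ W) (hβ₂ : sMap p β ≫ Qv = sMap p i₂ ≫ Qu) :
    ∃ k : sB p B ⟶ W, sMap p qB ≫ k = Qu ∧ sMap p pB ≫ k = Qv := by
  -- the map from the glued algebra to the chart
  let cu : Γ(W.left, ⊤) →+* B₁ := (Spec.preimage (Qu.left ≫ W.left.isoSpec.hom)).hom
  let cv : Γ(W.left, ⊤) →+* B' := (Spec.preimage (Qv.left ≫ W.left.isoSpec.hom)).hom
  have hc : β.toRingHom.comp cv = i₂.toRingHom.comp cu := by
    have e : Spec.map (Spec.preimage (Qv.left ≫ W.left.isoSpec.hom) ≫ CommRingCat.ofHom β.toRingHom) =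
        Spec.map (Spec.preimage (Qu.left ≫ W.left.isoSpec.hom) ≫ CommRingCat.ofHom i₂.toRingHom) := by
      rw [Spec.map_comp, Spec.map_comp, Spec.map_preimage, Spec.map_preimage, ← Category.assoc, ← Category.assoc]
      exact congrArg (· ≫ W.left.isoSpec.hom) (congrArg CommaMorphism.left hβ₂)
    exact congrArg CommRingCat.Hom.hom (Spec.map_injective e)
  choose d hd₁ hd₂ using fun c => hpull' (cv c) (cu c) (RingHom.congr_fun hc c)
  let dh : Γ(W.left, ⊤) →+* B :=
    { toFun := d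
      map_one' := hinj' _ _ (by rw [hd₁, map_one, map_one]) (by rw [hd₂, map_one, map_one])
      map_mul' := fun a b => hinj' _ _ (by rw [map_mul, hd₁, hd₁, hd₁, map_mul]) (by rw [map_mul, hd₂, hd₂, hd₂, map_mul])
      map_zero' := hinj' _ _ (by rw [hd₁, map_zero, map_zero]) (by rw [hd₂, map_zero, map_zero])
      map_add' := fun a b => hinj' _ _ (by rw [map_add, hd₁, hd₁, hd₁, map_add]) (by rw [map_add, hd₂, hd₂, hd₂, map_add]) }
  let kl : (sB p B).left ⟶ W.left := Spec.map (CommRingCat.ofHom dh) ≫ W.left.isoSpec.inv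
  have hklu : (sMap p qB).left ≫ kl = Qu.left := by
    show Spec.map _ ≫ Spec.map _ ≫ _ = _
    rw [← Spec.map_comp_assoc, ← CommRingCat.ofHom_comp, show qB.toRingHom.comp dh = cu from RingHom.ext hd₂]
    show Spec.map (Spec.preimage _) ≫ _ = _
    rw [Spec.map_preimage, Category.assoc, Iso.hom_inv_id, Category.comp_id]
  have hklv : (sMap p pB).left ≫ kl = Qv.left := by
    show Spec.map _ ≫ Spec.map _ ≫ _ = _
    rw [← Spec.map_comp_assoc, ← CommRingCat.ofHom_comp, show pB.toRingHom.comp dh = cv from RingHom.ext hd₁]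
    show Spec.map (Spec.preimage _) ≫ _ = _
    rw [Spec.map_preimage, Category.assoc, Iso.hom_inv_id, Category.comp_id]
  have hklw : kl ≫ W.hom = (sB p B).hom := by
    have e₁ : (sMap p qB).left ≫ kl ≫ W.hom = (sMap p qB).left ≫ (sB p B).hom := by
      rw [reassoc_of% hklu, Over.w Qu, Over.w]
    have e₂ : (sMap p pB).left ≫ kl ≫ W.hom = (sMap p pB).left ≫ (sB p B).hom := by
      rw [reassoc_of% hklv, Over.w Qv, Over.w]
    obtain ⟨m, hm⟩ : ∃ m, Spec.map m = kl ≫ W.hom := ⟨_, Spec.map_preimage _⟩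
    obtain ⟨m', hm'⟩ : ∃ m', Spec.map m' = (sB p B).hom := ⟨_, Spec.map_preimage _⟩
    change Spec.map _ ≫ _ = Spec.map _ ≫ _ at e₁ e₂
    rw [← hm, ← hm', ← Spec.map_comp, ← Spec.map_comp] at e₁ e₂
    rw [← hm, ← hm']
    congr 1
    ext r
    exact hinj' _ _ (RingHom.congr_fun (congrArg CommRingCat.Hom.hom (Spec.map_injective e₂)) r)
      (RingHom.congr_fun (congrArg CommRingCat.Hom.hom (Spec.map_injective e₁)) r)
  let k : sB p B ⟶ W := Over.homMk kl hklw
  exact ⟨k, Over.OverMorphism.ext hklu, Over.OverMorphism.ext hklv⟩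

theorem restrict_eq {D E : Type u} [CommRing D] [Algebra A D] [CommRing E] [Algebra A E] {q : Spec (CommRingCat.of E) ⟶ Spec R}
    (s : D →ₐ[A] E) (j : Over.mk q ⟶ sB p D) (hj : j.left = Spec.map (CommRingCat.ofHom s.toRingHom))
    {x y : (yon _).obj (sB p D) ⟶ Z} (hxy : (yon _).map (sMap p s) ≫ x = (yon _).map (sMap p s) ≫ y) :
    (yon _).map j ≫ x = (yon _).map j ≫ y := by
  have hq : q = (sB p E).hom := by
    rw [← Over.w (sMap p s), show q = (Over.mk q).hom from rfl, ← Over.w j, hj]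
    rfl
  subst hq
  rw [show j = sMap p s from Over.OverMorphism.ext hj]
  exact hxy

/-- Maps from a glueable algebra agree if they agree over both pieces. -/
theorem eq_on_glueable (h : EtGlue.IsGlueingPair A A' g) (hZ : IsAlgSpace Z) {D : CommRingCat.{u}} [Algebra A D]
    (hDg : EtGlue.IsGlueable A A' g D) (x y : (yon _).obj (sB p D) ⟶ Z)
    (hu : ∀ (E : Type u) [CommRing E] [Algebra A E] (s : D →ₐ[A] E) (_ : Localization.Away g →ₐ[A] E),
      (yon _).map (sMap p s) ≫ x = (yon _).map (sMap p s) ≫ y)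
    (hv : ∀ (E : Type u) [CommRing E] [Algebra A E] (s : D →ₐ[A] E) (_ : A' →ₐ[A] E),
      (yon _).map (sMap p s) ≫ x = (yon _).map (sMap p s) ≫ y) : x = y := by
  let D' : CommRingCat.{u} := CommRingCat.of (A' ⊗[A] D)
  let _ : Algebra D D' := Algebra.TensorProduct.rightAlgebra (R := A) (A := A') (B := (D : Type u))
  refine Groth.L09.EtGlueSp.eq_of_charts (R := R) (A := D) (A' := D') hZ (algebraMap A D g)
    (Groth.L05.Glue.isGlueingPair_algebra h hDg) (Spec.map (CommRingCat.ofHom (algebraMap A D)) ≫ p) x y ?_ ?_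
  · let Dg := Localization.Away (algebraMap A D g)
    let s : D →ₐ[A] Dg := IsScalarTower.toAlgHom A D Dg
    have hgu : IsUnit (algebraMap A Dg g) := by
      rw [IsScalarTower.algebraMap_apply A D Dg]
      exact IsLocalization.Away.algebraMap_isUnit _
    let τ : Localization.Away g →ₐ[A] Dg :=
      IsLocalization.liftAlgHom (M := Submonoid.powers g) (f := Algebra.ofId A Dg) (by
        rintro ⟨_, n, rfl⟩; simpa using hgu.pow n)
    exact restrict_eq (D := (D : Type u)) (E := Dg) p s _ rfl (hu Dg s τ)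
  · let s : D →ₐ[A] A' ⊗[A] D := Algebra.TensorProduct.includeRight
    exact restrict_eq (D := (D : Type u)) (E := A' ⊗[A] D) p s _ rfl (hv _ s Algebra.TensorProduct.includeLeft)

/-- Descent along a glueable cover of a map known on both pieces. -/
theorem exists_desc_cover (h : EtGlue.IsGlueingPair A A' g) (hZ : IsAlgSpace Z) {B : Type u} [CommRing B] [Algebra A B]
    (hB : EtGlue.IsGlueable A A' g B) (het : (algebraMap A B).Etale)
    (hsurj : Surjective (sπ p B).left) (y : (yon _).obj (sB p B) ⟶ Z)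
    (xu : (yon _).obj (sB p (Localization.Away g)) ⟶ Z) (xv : (yon _).obj (sB p A') ⟶ Z)
    (Ku : ∀ (D : Type u) [CommRing D] [Algebra A D] (σ : B →ₐ[A] D) (τ : Localization.Away g →ₐ[A] D),
      (yon _).map (sMap p σ) ≫ y = (yon _).map (sMap p τ) ≫ xu)
    (Kv : ∀ (D : Type u) [CommRing D] [Algebra A D] (σ : B →ₐ[A] D) (τ : A' →ₐ[A] D),
      (yon _).map (sMap p σ) ≫ y = (yon _).map (sMap p τ) ≫ xv) :
    ∃ x : (yon _).obj (Over.mk p) ⟶ Z, (yon _).map (sπ p B) ≫ x = y := by
  have heta : Etale (sπ p B).left := (HasRingHomProperty.Spec_iff (P := @Etale) (φ := CommRingCat.ofHom (algebraMap A B))).2 het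
  -- descent
  let D := B ⊗[A] B
  let l : B →ₐ[A] D := Algebra.TensorProduct.includeLeft
  let r : B →ₐ[A] D := Algebra.TensorProduct.includeRight
  have hDs : IsPullback (sMap p l).left (sMap p r).left (sπ p B).left (sπ p B).left :=
    isPullback_SpecMap_of_isPushout _ _ _ _ (CommRingCat.isPushout_tensorProduct A B B)
  have hDo : IsPullback (sMap p l) (sMap p r) (sπ p B) (sπ p B) :=
    IsPullback.of_map (Over.forget _) (by rw [sMap_π, sMap_π]) hDs
  have hDg : EtGlue.IsGlueable A A' g D := by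
    rw [Groth.L05.Glue.isGlueable_iff_injTors h]
    have : Module.Flat A B := (RingHom.flat_algebraMap_iff).1 (RingHom.Etale.iff_flat_and_formallyUnramified.1 het).1
    exact Groth.L23.Glueable.injTors_of_flat (A := B) (B := D) ((Groth.L05.Glue.isGlueable_iff_injTors h B).1 hB)
  have hDD : (yon _).map (sMap p l) ≫ y = (yon _).map (sMap p r) ≫ y := by
    refine eq_on_glueable p h hZ (D := CommRingCat.of D) hDg _ _ (fun E _ _ s τ => ?_) (fun E _ _ s τ => ?_)
    · rw [← Functor.map_comp_assoc, ← Functor.map_comp_assoc, sMap_comp, sMap_comp, Ku E (s.comp l) τ, Ku E (s.comp r) τ]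
    · rw [← Functor.map_comp_assoc, ← Functor.map_comp_assoc, sMap_comp, sMap_comp, Kv E (s.comp l) τ, Kv E (s.comp r) τ]
  have : Epi ((yon _).map (sπ p B)) := epi_of_repWith _ (repWith_map heta) (repWith_map hsurj)
  obtain ⟨hcol⟩ := nonempty_isColimit_cofork ((yon _).map (sπ p B)) (hDo.map (yon _))
  let x := hcol.desc (Cofork.ofπ y hDD)
  have hx : (yon _).map (sπ p B) ≫ x = y := hcol.fac (Cofork.ofπ y hDD) WalkingParallelPair.one
  exact ⟨x, hx⟩

/-- Maps from the two pieces of a glueing pair glue. -/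
theorem exists_desc_core (h : EtGlue.IsGlueingPair A A' g) (hZ : IsAlgSpace Z)
    (hZd : IsAffineMor (Limits.diag Z)) (xu : (yon _).obj (sB p (Localization.Away g)) ⟶ Z)
    (xv : (yon _).obj (sB p A') ⟶ Z)
    (hag : ∀ (D : Type u) [CommRing D] [Algebra A D] (τu : Localization.Away g →ₐ[A] D) (τv : A' →ₐ[A] D),
      (yon _).map (sMap p τu) ≫ xu = (yon _).map (sMap p τv) ≫ xv) :
    ∃ x : (yon _).obj (Over.mk p) ⟶ Z,
      (yon _).map (sπ p (Localization.Away g)) ≫ x = xu ∧ (yon _).map (sπ p A') ≫ x = xv := by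
  have : IsAffine (sB p (Localization.Away g)).left := inferInstanceAs (IsAffine (Spec _))
  have : IsAffine (sB p A').left := inferInstanceAs (IsAffine (Spec _))
  obtain ⟨W, w, hWA, hw, hsu, hsv⟩ := exists_affine_chart_two hZ xu xv
  obtain ⟨Pu, pu, qu, hPu, squ⟩ := exists_affine_pullback hZd xu w
  obtain ⟨Pv, pv, qv, hPv, sqv⟩ := exists_affine_pullback hZd xv w
  have hsu := hsu squ
  have hsv := hsv sqv
  have heu : Etale pu.left := repWith_prop hw squ.flip
  have hev : Etale pv.left := repWith_prop hw sqv.flip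
  obtain ⟨B₁, _, eu, heu'⟩ := exists_iso_sB p (pu ≫ sπ p (Localization.Away g))
  obtain ⟨B', _, ev, hev'⟩ := exists_iso_sB p (pv ≫ sπ p A')
  obtain ⟨ρu, hρu⟩ := exists_algHom p (eu.hom ≫ pu) (by rw [Category.assoc]; exact heu')
  obtain ⟨ρv, hρv⟩ := exists_algHom p (ev.hom ≫ pv) (by rw [Category.assoc]; exact hev')
  have squ' : IsPullback ((yon _).map (sMap p ρu)) ((yon _).map (eu.hom ≫ qu)) xu w := by
    refine squ.of_iso ((yon _).mapIso eu.symm) (Iso.refl _) (Iso.refl _) (Iso.refl _) ?_ ?_ ?_ ?_ <;>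
      simp [hρu, ← Functor.map_comp]
  have sqv' : IsPullback ((yon _).map (sMap p ρv)) ((yon _).map (ev.hom ≫ qv)) xv w := by
    refine sqv.of_iso ((yon _).mapIso ev.symm) (Iso.refl _) (Iso.refl _) (Iso.refl _) ?_ ?_ ?_ ?_ <;>
      simp [hρv, ← Functor.map_comp]
  have : IsIso eu.hom.left := inferInstanceAs (IsIso ((Over.forget _).map eu.hom))
  have : IsIso ev.hom.left := inferInstanceAs (IsIso ((Over.forget _).map ev.hom))
  have hu_et : ρu.toRingHom.Etale := (HasRingHomProperty.Spec_iff (P := @Etale) (φ := CommRingCat.ofHom ρu.toRingHom)).1 (by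
    have : Etale (eu.hom.left ≫ pu.left) := inferInstance
    rw [show Spec.map (CommRingCat.ofHom ρu.toRingHom) = eu.hom.left ≫ pu.left from congrArg CommaMorphism.left hρu]
    exact this)
  have hv_et : ρv.toRingHom.Etale := (HasRingHomProperty.Spec_iff (P := @Etale) (φ := CommRingCat.ofHom ρv.toRingHom)).1 (by
    have : Etale (ev.hom.left ≫ pv.left) := inferInstance
    rw [show Spec.map (CommRingCat.ofHom ρv.toRingHom) = ev.hom.left ≫ pv.left from congrArg CommaMorphism.left hρv]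
    exact this)
  have hu_s : Surjective (Spec.map (CommRingCat.ofHom ρu.toRingHom)) := by
    have : Surjective (eu.hom.left ≫ pu.left) := inferInstance
    rw [show Spec.map (CommRingCat.ofHom ρu.toRingHom) = eu.hom.left ≫ pu.left from congrArg CommaMorphism.left hρu]
    exact this
  have hv_s : Surjective (Spec.map (CommRingCat.ofHom ρv.toRingHom)) := by
    have : Surjective (ev.hom.left ≫ pv.left) := inferInstance
    rw [show Spec.map (CommRingCat.ofHom ρv.toRingHom) = ev.hom.left ≫ pv.left from congrArg CommaMorphism.left hρv]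
    exact this
  set Qu := eu.hom ≫ qu
  set Qv := ev.hom ≫ qv
  clear_value Qu Qv
  clear hρu hρv heu' hev' squ sqv heu hev hsu hsv
  -- maps into the two charts
  have liftU : ∀ {D : Type u} [CommRing D] [Algebra A D] (τ : Localization.Away g →ₐ[A] D) (m : sB p D ⟶ W),
      (yon _).map (sMap p τ) ≫ xu = (yon _).map m ≫ w →
      ∃ σ : B₁ →ₐ[A] D, σ.comp ρu = τ ∧ sMap p σ ≫ Qu = m := by
    intro D _ _ τ m e
    obtain ⟨k, hk₁, hk₂⟩ := squ'.exists_lift _ _ e
    obtain ⟨k, rfl⟩ := (yon _).map_surjective k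
    rw [← Functor.map_comp] at hk₁ hk₂
    obtain ⟨σ, rfl⟩ := exists_algHom p k (by
      rw [← sMap_π p ρu, ← Category.assoc, (yon _).map_injective hk₁, sMap_π])
    exact ⟨σ, sMap_injective p (by rw [← sMap_comp, (yon _).map_injective hk₁]), (yon _).map_injective hk₂⟩
  have liftV : ∀ {D : Type u} [CommRing D] [Algebra A D] (τ : A' →ₐ[A] D) (m : sB p D ⟶ W),
      (yon _).map (sMap p τ) ≫ xv = (yon _).map m ≫ w →
      ∃ σ : B' →ₐ[A] D, σ.comp ρv = τ ∧ sMap p σ ≫ Qv = m := by
    intro D _ _ τ m e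
    obtain ⟨k, hk₁, hk₂⟩ := sqv'.exists_lift _ _ e
    obtain ⟨k, rfl⟩ := (yon _).map_surjective k
    rw [← Functor.map_comp] at hk₁ hk₂
    obtain ⟨σ, rfl⟩ := exists_algHom p k (by
      rw [← sMap_π p ρv, ← Category.assoc, (yon _).map_injective hk₁, sMap_π])
    exact ⟨σ, sMap_injective p (by rw [← sMap_comp, (yon _).map_injective hk₁]), (yon _).map_injective hk₂⟩
  have extU : ∀ {D : Type u} [CommRing D] [Algebra A D] (σ σ' : B₁ →ₐ[A] D),
      sMap p σ ≫ Qu = sMap p σ' ≫ Qu → σ = σ' := by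
    intro D _ _ σ σ' e
    refine sMap_injective p ((yon _).map_injective (squ'.hom_ext ?_ ?_))
    · rw [← Functor.map_comp, ← Functor.map_comp, sMap_comp, sMap_comp, algHom_away_subsingleton (σ.comp ρu) (σ'.comp ρu)]
    · rw [← Functor.map_comp, ← Functor.map_comp, e]
  let _ : Algebra A' B' := ρv.toRingHom.toAlgebra
  have : IsScalarTower A A' B' := IsScalarTower.of_algebraMap_eq fun a => (ρv.commutes a).symm
  -- the comparison on the overlap
  let X1 := Localization.Away (algebraMap A B' g)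
  let c1 : B' →ₐ[A] X1 := IsScalarTower.toAlgHom A B' X1
  have hg1 : IsUnit (algebraMap A X1 g) := by
    rw [IsScalarTower.algebraMap_apply A B' X1]
    exact IsLocalization.Away.algebraMap_isUnit _
  let u1 : Localization.Away g →ₐ[A] X1 :=
    IsLocalization.liftAlgHom (M := Submonoid.powers g) (f := Algebra.ofId A X1) (by
      rintro ⟨_, n, rfl⟩; simpa using hg1.pow n)
  obtain ⟨α, hα₁, hα₂⟩ := liftU u1 (sMap p c1 ≫ Qv) (by
    rw [hag X1 u1 (c1.comp ρv), ← sMap_comp, Functor.map_comp, Category.assoc, sqv'.w, ← Functor.map_comp_assoc])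
  have hgB : IsUnit (algebraMap A B₁ g) := by
    rw [← ρu.commutes g]
    exact (IsLocalization.Away.algebraMap_isUnit g).map ρu
  let i₂ : B₁ →ₐ[A] A' ⊗[A] B₁ := Algebra.TensorProduct.includeRight
  let i₁ : A' →ₐ[A] A' ⊗[A] B₁ := Algebra.TensorProduct.includeLeft
  obtain ⟨β, hβ₁, hβ₂⟩ := liftV i₁ (sMap p i₂ ≫ Qu) (by
    rw [← hag _ (i₂.comp ρu) i₁, ← sMap_comp, Functor.map_comp, Category.assoc, squ'.w, ← Functor.map_comp_assoc])
  have hg2 : IsUnit (β (algebraMap A B' g)) := by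
    rw [β.commutes, ← i₂.commutes g]
    exact hgB.map i₂
  let Φ : X1 →ₐ[A] A' ⊗[A] B₁ :=
    IsLocalization.liftAlgHom (M := Submonoid.powers (algebraMap A B' g)) (f := β) (by
      rintro ⟨_, n, rfl⟩; simpa using hg2.pow n)
  have hΦ : Φ.comp c1 = β := AlgHom.ext fun b => by simp [Φ, c1]
  let Ψ : A' ⊗[A] B₁ →ₐ[A] X1 := Algebra.TensorProduct.productMap (c1.comp ρv) α
  have hΨ₁ : Ψ.comp i₁ = c1.comp ρv := AlgHom.ext fun a => by simp [Ψ, i₁]
  have hΨ₂ : Ψ.comp i₂ = α := AlgHom.ext fun b => by simp [Ψ, i₂]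
  have hΨΦ : Ψ.comp Φ = AlgHom.id A X1 := by
    have key : Ψ.comp β = c1 := by
      refine sMap_injective p ((yon _).map_injective (sqv'.hom_ext ?_ ?_))
      · rw [← Functor.map_comp, ← Functor.map_comp, sMap_comp, sMap_comp, AlgHom.comp_assoc, hβ₁, hΨ₁]
      · rw [← Functor.map_comp, ← Functor.map_comp, ← sMap_comp, Category.assoc, hβ₂, ← Category.assoc, sMap_comp, hΨ₂, hα₂]
    refine AlgHom.coe_ringHom_injective (IsLocalization.ringHom_ext (Submonoid.powers (algebraMap A B' g)) (RingHom.ext fun b => ?_))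
    show Ψ (Φ (algebraMap B' X1 b)) = algebraMap B' X1 b
    rw [show Φ (algebraMap B' X1 b) = β b from AlgHom.congr_fun hΦ b]
    exact AlgHom.congr_fun key b
  have hΦΨ : Φ.comp Ψ = AlgHom.id A (A' ⊗[A] B₁) := by
    refine Algebra.TensorProduct.ext ?_ ?_
    · show (Φ.comp Ψ).comp i₁ = (AlgHom.id A _).comp i₁
      rw [AlgHom.comp_assoc, hΨ₁, ← AlgHom.comp_assoc, hΦ, hβ₁, AlgHom.id_comp]
    · show (Φ.comp Ψ).comp i₂ = (AlgHom.id A _).comp i₂
      rw [AlgHom.comp_assoc, hΨ₂, AlgHom.id_comp]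
      refine extU _ _ ?_
      rw [← sMap_comp, Category.assoc, hα₂, ← Category.assoc, sMap_comp, hΦ, hβ₂]
  let φA : X1 ≃ₐ[A] A' ⊗[A] B₁ := AlgEquiv.ofAlgHom Φ Ψ hΦΨ hΨΦ
  have hφA : ∀ a : A', φA (algebraMap A' X1 a) = algebraMap A' (A' ⊗[A] B₁) a := fun a => by
    show Φ (algebraMap A' X1 a) = _
    rw [IsScalarTower.algebraMap_apply A' B' X1]
    exact (AlgHom.congr_fun hΦ _).trans (AlgHom.congr_fun hβ₁ a)
  let φ : X1 ≃ₐ[A'] A' ⊗[A] B₁ := AlgEquiv.ofRingEquiv (f := φA.toRingEquiv) hφA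
  obtain ⟨B, _, _, qB, pB, hB, het, hsurj, hpull, hinj, extU', extV'⟩ :=
    exists_glued_charts h ρu ρv (fun _ => rfl) hu_et hv_et hu_s hv_s hgB φ
  obtain ⟨k, hku, hkv⟩ := exists_lift_glued p β i₂ qB pB
    (fun x y hxy => hpull x y ((AlgHom.congr_fun hΦ x).trans hxy)) hinj Qu Qv hβ₂
  let y : (yon _).obj (sB p B) ⟶ Z := (yon _).map k ≫ w
  have hyu : (yon _).map (sMap p qB) ≫ y = (yon _).map (sMap p ρu) ≫ xu := by
    rw [← Functor.map_comp_assoc, hku]
    exact squ'.w.symm
  have hyv : (yon _).map (sMap p pB) ≫ y = (yon _).map (sMap p ρv) ≫ xv := by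
    rw [← Functor.map_comp_assoc, hkv]
    exact sqv'.w.symm
  obtain ⟨x, hx⟩ := exists_desc_cover p h hZ hB het hsurj y xu xv
    (fun D _ _ σ τ => by
      obtain ⟨σ', rfl, rfl⟩ := extU' D σ τ
      rw [← sMap_comp, Functor.map_comp, Category.assoc, hyu, ← Functor.map_comp_assoc, sMap_comp])
    (fun D _ _ σ τ => by
      obtain ⟨σ', rfl, rfl⟩ := extV' D σ τ
      rw [← sMap_comp, Functor.map_comp, Category.assoc, hyv, ← Functor.map_comp_assoc, sMap_comp])
  refine ⟨x, ?_, ?_⟩
  · have : Etale (sMap p ρu).left := (HasRingHomProperty.Spec_iff (P := @Etale) (φ := CommRingCat.ofHom ρu.toRingHom)).2 hu_et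
    have : Epi ((yon _).map (sMap p ρu)) := epi_of_repWith _ (repWith_map inferInstance) (repWith_map hu_s)
    rw [← cancel_epi ((yon _).map (sMap p ρu)), ← hyu, ← Functor.map_comp_assoc, sMap_π, ← sMap_π p qB,
      Functor.map_comp_assoc, hx]
  · have : Etale (sMap p ρv).left := (HasRingHomProperty.Spec_iff (P := @Etale) (φ := CommRingCat.ofHom ρv.toRingHom)).2 hv_et
    have : Epi ((yon _).map (sMap p ρv)) := epi_of_repWith _ (repWith_map inferInstance) (repWith_map hv_s)
    rw [← cancel_epi ((yon _).map (sMap p ρv)), ← hyv, ← Functor.map_comp_assoc, sMap_π, ← sMap_π p pB,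
      Functor.map_comp_assoc, hx]


end Core

end Groth.L23.GluePair
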