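import Groth.Agent.L21.GorensteinSpace
import Groth.Agent.L23.GeomUnibranchSH
import Groth.Agent.L20.WeaklyEtale
import Groth.Agent.L27.IndEtalePerm
import Groth.Agent.L06.FibreComp

/-!
# Gorenstein points through strict henselizations
-/

universe u

open CategoryTheory AlgebraicGeometry IsLocalRing

set_option backward.isDefEq.respectTransparency.types false
set_option linter.style.haveILetI false

namespace Groth.L23.GorSH

/-- A flat local map with Gorenstein closed fibre, seen on strict henselizations. -/
theorem flat_gorenstein_iff {A B : Type u} [CommRing A] [IsLocalRing A] [CommRing B] [IsLocalRing B]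
    [Algebra A B] [IsLocalHom (algebraMap A B)] [IsNoetherianRing (EGA4.FibRing A B)]
    (R : Type u) [CommRing R] [IsLocalRing R] [Algebra B R] [IsLocalHom (algebraMap B R)]
    [Hensel.IsStrictHenselization B R]
    (R' : Type u) [CommRing R'] [IsLocalRing R'] [Algebra A R'] [IsLocalHom (algebraMap A R')]
    [Hensel.IsStrictHenselization A R']
    (φ : R' →+* R) (hφ : φ.comp (algebraMap A R') = (algebraMap B R).comp (algebraMap A B)) :
    (Module.Flat A B ∧ LocCoh.IsGorensteinLocalRing (EGA4.FibRing A B)) ↔
      φ.Flat ∧ LocCoh.IsGorensteinLocalRing (R ⧸ (maximalIdeal R').map φ) := by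
  letI : Algebra R' R := φ.toAlgebra
  letI : Algebra A R := ((algebraMap B R).comp (algebraMap A B)).toAlgebra
  haveI : IsScalarTower A B R := IsScalarTower.of_algebraMap_eq fun _ => rfl
  haveI : IsScalarTower A R' R := IsScalarTower.of_algebraMap_eq fun a => (RingHom.congr_fun hφ a).symm
  haveI hBR : Module.Flat B R := Groth.L05.Henselization.flat_of_isStrictHenselization B R
  haveI : Module.Flat A R' := Groth.L05.Henselization.flat_of_isStrictHenselization A R'
  haveI : Module.FaithfullyFlat B R := Module.FaithfullyFlat.of_flat_of_isLocalHom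
  haveI hwe : Algebra.WeaklyEtale A R' := Groth.L27.IndEtale.weaklyEtale _ _
    (Groth.L05.Henselization.isIndEtale_of_isStrictHenselization A R')
  -- flatness
  have hflat : Module.Flat A B ↔ φ.Flat := by
    constructor
    · intro _
      haveI : Module.Flat A R := Module.Flat.trans A B R
      exact (Groth.L20.flat_of_flat_of_flat_lmul (R := A) (T := R') (M := R)
        (Algebra.WeaklyEtale.flat_lmul' A R') : Module.Flat R' R)
    · intro h
      haveI : Module.Flat R' R := h
      haveI : Module.Flat A R := Module.Flat.trans A R' R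
      exact Groth.L06.FibreComp.flat_of_comp A B R
  -- closed fibres
  let I : Ideal B := (maximalIdeal A).map (algebraMap A B)
  have hI : I ≤ maximalIdeal B := ((IsLocalRing.local_hom_TFAE (algebraMap A B)).out 0 2).1 ‹_›
  have hJ : I.map (algebraMap B R) ≤ maximalIdeal R :=
    (Ideal.map_mono hI).trans (((IsLocalRing.local_hom_TFAE (algebraMap B R)).out 0 2).1 ‹_›)
  haveI : Nontrivial (B ⧸ I) :=
    Ideal.Quotient.nontrivial_iff.2 (ne_top_of_le_ne_top (maximalIdeal.isMaximal B).ne_top hI)
  haveI : Nontrivial (R ⧸ I.map (algebraMap B R)) :=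
    Ideal.Quotient.nontrivial_iff.2 (ne_top_of_le_ne_top (maximalIdeal.isMaximal R).ne_top hJ)
  haveI : IsLocalRing (B ⧸ I) := .of_surjective' _ Ideal.Quotient.mk_surjective
  haveI : IsLocalRing (R ⧸ I.map (algebraMap B R)) := .of_surjective' _ Ideal.Quotient.mk_surjective
  haveI : IsLocalHom (Ideal.Quotient.mk (I.map (algebraMap B R))) :=
    IsLocalHom.of_surjective _ Ideal.Quotient.mk_surjective
  haveI : IsLocalHom (algebraMap (B ⧸ I) (R ⧸ I.map (algebraMap B R))) := ⟨fun x hx => by
    obtain ⟨b, rfl⟩ := Ideal.Quotient.mk_surjective x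
    have h1 : IsUnit (Ideal.Quotient.mk (I.map (algebraMap B R)) (algebraMap B R b)) := hx
    exact (IsUnit.of_map (algebraMap B R) b (IsUnit.of_map _ _ h1)).map _⟩
  haveI : Hensel.IsStrictHenselization (B ⧸ I) (R ⧸ I.map (algebraMap B R)) :=
    Groth.L23.SH.isStrictHenselization_quotient I
  haveI : IsNoetherianRing (B ⧸ I) := ‹IsNoetherianRing (EGA4.FibRing A B)›
  haveI : Module.Flat (B ⧸ I) (R ⧸ I.map (algebraMap B R)) :=
    Groth.L05.Henselization.flat_of_isStrictHenselization _ _
  haveI : IsNoetherianRing (R ⧸ I.map (algebraMap B R)) :=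
    (Groth.L05.Henselization.isNoetherianRing_iff_strict (B ⧸ I) _).1 inferInstance
  have e : I.map (algebraMap B R) = (maximalIdeal R').map φ := by
    rw [← Groth.L05.Henselization.map_maximalIdeal_of_isStrictHenselization A R', Ideal.map_map,
      Ideal.map_map, hφ]
  rw [hflat]
  refine and_congr_right fun _ => ⟨fun h => ?_, fun h => ?_⟩
  · haveI : LocCoh.IsGorensteinLocalRing (B ⧸ I) := h
    exact Groth.L21.GorensteinAscend.isGorensteinLocalRing_of_ringEquiv (Ideal.quotEquivOfEq e)
      (Groth.L21.GorensteinSpace.isGorensteinLocalRing_strictHenselization (B ⧸ I) _)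
  · haveI : Module.FaithfullyFlat (B ⧸ I) (R ⧸ I.map (algebraMap B R)) :=
      Module.FaithfullyFlat.of_flat_of_isLocalHom
    haveI : LocCoh.IsGorensteinLocalRing (R ⧸ I.map (algebraMap B R)) :=
      Groth.L21.GorensteinAscend.isGorensteinLocalRing_of_ringEquiv (Ideal.quotEquivOfEq e.symm) h
    exact Groth.L21.GorensteinFlat.isGorensteinLocalRing_descend (R ⧸ I.map (algebraMap B R))

end Groth.L23.GorSH
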