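import Groth.Agent.L23.GpdBasic
import Groth.Agent.L23.Points
import Mathlib.FieldTheory.IsAlgClosed.Classification
import Mathlib.FieldTheory.IsAlgClosed.AlgebraicClosure
import Mathlib.RingTheory.MvPolynomial.Localization
import Mathlib.RingTheory.Localization.FractionRing
import Mathlib.SetTheory.Cardinal.Basic

/-!
# Lifting points of a groupoid over a field to a restriction along an algebraically closed field
-/

universe u

open CategoryTheory CategoryTheory.Limits AlgebraicGeometry AlgSp Cardinal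

set_option backward.isDefEq.respectTransparency.types false
set_option linter.style.haveILetI false

namespace Groth.L23.Gpd

/-- Large algebraically closed extensions of a field of the same cardinality are isomorphic. -/
theorem nonempty_algEquiv_of_big (k L₁ L₂ : Type u) [Field k] [Field L₁] [Field L₂] [Algebra k L₁] [Algebra k L₂]
    [IsAlgClosed L₁] [IsAlgClosed L₂] (h : #L₁ = #L₂) (hk : #k < #L₁) (h0 : ℵ₀ < #L₁) :
    Nonempty (L₁ ≃ₐ[k] L₂) := by
  obtain ⟨s, hs⟩ := exists_isTranscendenceBasis k L₁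
  obtain ⟨t, ht⟩ := exists_isTranscendenceBasis k L₂
  have key : ∀ (L : Type u) [Field L] [Algebra k L] [IsAlgClosed L] (b : Set L),
      IsTranscendenceBasis k ((↑) : b → L) → #k < #L → ℵ₀ < #L → #b = #L := by
    intro L _ _ _ b hb h1 h2
    refine le_antisymm (Cardinal.mk_set_le b) ?_
    have h3 := IsAlgClosed.cardinal_le_max_transcendence_basis' _ hb
    rcases le_max_iff.1 h3 with h4 | h4
    · rcases le_max_iff.1 h4 with h5 | h5
      · exact absurd h5 (not_le.2 h1)
      · exact h5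
    · exact absurd h4 (not_le.2 h2)
  have e0 : #s = #t := by rw [key L₁ s hs hk h0, key L₂ t ht (h ▸ hk) (h ▸ h0), h]
  obtain ⟨e⟩ := Cardinal.eq.1 e0
  letI := IsAlgClosed.isAlgClosure_of_transcendence_basis _ hs
  letI := IsAlgClosed.isAlgClosure_of_transcendence_basis _ ht
  let f : Algebra.adjoin k (Set.range ((↑) : s → L₁)) ≃ₐ[k] Algebra.adjoin k (Set.range ((↑) : t → L₂)) :=
    (hs.1.aevalEquiv.symm.trans (MvPolynomial.renameEquiv k e)).trans ht.1.aevalEquiv
  let g := IsAlgClosure.equivOfEquiv L₁ L₂ f.toRingEquiv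
  refine ⟨{ g with commutes' := fun r => ?_ }⟩
  show g (algebraMap k L₁ r) = algebraMap k L₂ r
  rw [IsScalarTower.algebraMap_apply k (Algebra.adjoin k (Set.range ((↑) : s → L₁))) L₁,
    IsAlgClosure.equivOfEquiv_algebraMap]
  show algebraMap _ L₂ (f (algebraMap k _ r)) = _
  rw [f.commutes, ← IsScalarTower.algebraMap_apply]

theorem exists_big_algClosed (Ω : Type u) [Field Ω] :
    ∃ (M : Type u) (_ : Field M) (_ : Ω →+* M), IsAlgClosed M ∧ #Ω < #M ∧ ℵ₀ < #M := by
  let J : Type u := Set (Ω × ℕ)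
  let F : Type u := FractionRing (MvPolynomial J Ω)
  let X : J → AlgebraicClosure F := fun j => algebraMap F _ (algebraMap (MvPolynomial J Ω) F (MvPolynomial.X j))
  have hX : Function.Injective X := (algebraMap F (AlgebraicClosure F)).injective.comp
    ((IsFractionRing.injective (MvPolynomial J Ω) F).comp (MvPolynomial.X_injective (R := Ω)))
  have h1 : #(Ω × ℕ) < #(AlgebraicClosure F) :=
    (by rw [Cardinal.mk_set]; exact Cardinal.cantor _ : #(Ω × ℕ) < #J).trans_le (Cardinal.mk_le_of_injective hX)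
  refine ⟨AlgebraicClosure F, inferInstance,
    (algebraMap F (AlgebraicClosure F)).comp ((algebraMap (MvPolynomial J Ω) F).comp MvPolynomial.C),
    inferInstance, ?_, ?_⟩
  · exact (Cardinal.mk_le_of_injective (f := fun x : Ω => (x, 0)) fun a b h => congrArg Prod.fst h).trans_lt h1
  · exact (Cardinal.aleph0_le_mk (Ω × ℕ)).trans_lt h1

variable {S : Scheme.{u}} {B : Sp S} (G : GroupoidSp B)

theorem exists_algClosed_point_over (k : Type u) [Field k] (σ : Spec (CommRingCat.of k) ⟶ S)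
    (eU : G.U ≅ (yon S).obj (Over.mk σ)) (r : Points G.R) :
    ∃ (k' : Type u) (_ : Field k') (_ : Algebra k k'), IsAlgClosed k' ∧
      ∀ (G' : GroupoidSp B) (φ : GroupoidSp.Hom G' G), φ.IsRestriction → IsAlgSpace G'.R →
        ∀ (eU' : G'.U ≅ (yon S).obj (Over.mk (Spec.map (CommRingCat.ofHom (algebraMap k k')) ≫ σ))),
          φ.fU = eU'.hom ≫ (yon S).map (Over.homMk (Spec.map (CommRingCat.ofHom (algebraMap k k'))) rfl :
            Over.mk (Spec.map (CommRingCat.ofHom (algebraMap k k')) ≫ σ) ⟶ Over.mk σ) ≫ eU.inv →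
          ∃ r' : G'.U ⟶ G'.R, (∀ x : Points G'.U, Points.map (r' ≫ φ.fR) x = r) ∧
            IsIso (r' ≫ G'.s) ∧ IsIso (r' ≫ G'.t) := by
  obtain ⟨p, -, hp⟩ := exists_eq_ofPt_field r
  obtain ⟨a, ha⟩ := (yon S).map_surjective (p.toHom ≫ G.s ≫ eU.hom)
  obtain ⟨b, hb⟩ := (yon S).map_surjective (p.toHom ≫ G.t ≫ eU.hom)
  obtain ⟨sp, hsp⟩ := Spec.map_surjective (show Spec (CommRingCat.of p.K) ⟶ Spec (CommRingCat.of k) from a.left)
  obtain ⟨tp, htp⟩ := Spec.map_surjective (show Spec (CommRingCat.of p.K) ⟶ Spec (CommRingCat.of k) from b.left)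
  obtain ⟨M, _, χ, hM, hΩM, h0⟩ := exists_big_algClosed p.K
  haveI := hM
  have hk : #k < #M := (Cardinal.mk_le_of_injective sp.hom.injective).trans_lt hΩM
  obtain ⟨ψ, hψ'⟩ : ∃ ψ : M ≃+* M, ∀ c, ψ (χ (sp.hom c)) = χ (tp.hom c) := by
    obtain ⟨e⟩ := @nonempty_algEquiv_of_big k M M _ _ _ (χ.comp sp.hom).toAlgebra (χ.comp tp.hom).toAlgebra
      hM hM rfl hk h0
    exact ⟨@AlgEquiv.toRingEquiv k M M _ _ _ (χ.comp sp.hom).toAlgebra (χ.comp tp.hom).toAlgebra e,
      @AlgEquiv.commutes k M M _ _ _ (χ.comp sp.hom).toAlgebra (χ.comp tp.hom).toAlgebra e⟩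
  letI : Algebra k M := (χ.comp sp.hom).toAlgebra
  refine ⟨M, inferInstance, inferInstance, hM, fun G' φ hφ _ eU' hfU => ?_⟩
  have hι : CommRingCat.ofHom (algebraMap k M) = sp ≫ CommRingCat.ofHom χ := rfl
  have wa : Spec.map sp ≫ σ = p.str := by rw [hsp]; exact Over.w a
  have wb : Spec.map tp ≫ σ = p.str := by rw [htp]; exact Over.w b
  let Mk : Over S := Over.mk (Spec.map (CommRingCat.ofHom (algebraMap k M)) ≫ σ)
  let incl : Mk ⟶ Over.mk σ := Over.homMk (Spec.map (CommRingCat.ofHom (algebraMap k M))) rfl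
  let c : Mk ⟶ p.pt := Over.homMk (Spec.map (CommRingCat.ofHom χ))
    (by show _ ≫ p.str = Spec.map _ ≫ σ; rw [hι, Spec.map_comp, Category.assoc, wa])
  let ψh : CommRingCat.of M ⟶ CommRingCat.of M := CommRingCat.ofHom ψ.toRingHom
  have hψ : CommRingCat.ofHom (algebraMap k M) ≫ ψh = tp ≫ CommRingCat.ofHom χ := CommRingCat.hom_ext (RingHom.ext hψ')
  let Ψ : Mk ⟶ Mk := Over.homMk (Spec.map ψh)
    (by
      show Spec.map ψh ≫ Spec.map _ ≫ σ = Spec.map _ ≫ σ
      rw [← Category.assoc, ← Spec.map_comp, hψ, hι, Spec.map_comp, Spec.map_comp, Category.assoc, Category.assoc,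
        wa, wb])
  haveI : IsIso Ψ := by
    haveI : IsIso ψh := (RingEquiv.toCommRingCatIso ψ).isIso_hom
    haveI : IsIso ((Over.forget S).map Ψ) := inferInstanceAs (IsIso (Spec.map ψh))
    exact isIso_of_reflects_iso Ψ (Over.forget S)
  have hca : c ≫ a = incl := Over.OverMorphism.ext (by
    show Spec.map _ ≫ (show Spec (CommRingCat.of p.K) ⟶ Spec (CommRingCat.of k) from a.left) = Spec.map _
    rw [← hsp, hι, Spec.map_comp])
  have hcb : c ≫ b = Ψ ≫ incl := Over.OverMorphism.ext (by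
    show Spec.map _ ≫ (show Spec (CommRingCat.of p.K) ⟶ Spec (CommRingCat.of k) from b.left) = Spec.map ψh ≫ Spec.map _
    rw [← htp, ← Spec.map_comp, ← Spec.map_comp, hψ])
  let y : G'.U ⟶ G'.U := eU'.hom ≫ (yon S).map Ψ ≫ eU'.inv
  let ρ : G'.U ⟶ G.R := eU'.hom ≫ (yon S).map c ≫ p.toHom
  have hρs : ρ ≫ G.s = 𝟙 _ ≫ φ.fU := by
    rw [Category.id_comp, hfU, ← cancel_mono eU.hom]
    simp only [ρ, Category.assoc, Iso.inv_hom_id, Category.comp_id, ← ha, ← Functor.map_comp, hca]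
    rfl
  have hρt : ρ ≫ G.t = y ≫ φ.fU := by
    rw [hfU, ← cancel_mono eU.hom]
    simp only [ρ, y, Category.assoc, Iso.inv_hom_id, Category.comp_id, Iso.inv_hom_id_assoc, ← hb,
      ← Functor.map_comp, hcb]
    rfl
  have hxy : y ≫ G'.pU = 𝟙 _ ≫ G'.pU := by
    rw [← φ.fU_over, ← Category.assoc, ← hρt, Category.assoc, G.t_over, ← G.s_over, ← Category.assoc, hρs,
      Category.assoc]
  obtain ⟨l, ⟨h1, h2, h3⟩, -⟩ := existsUnique_lift G φ hφ ρ (𝟙 _) y hρt hρs hxy
  refine ⟨l, fun x => ?_, by rw [h2]; infer_instance, by rw [h3]; infer_instance⟩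
  rw [h1]
  show Points.map (eU'.hom ≫ (yon S).map c ≫ p.toHom) x = r
  rw [← Category.assoc, Points.map_comp, ← hp, Points.ofPt_eq_map_ofScheme]
  obtain ⟨z, hz⟩ := (Points.schemeEquiv p.pt).surjective (Points.map (eU'.hom ≫ (yon S).map c) x)
  rw [← hz]
  have : Subsingleton p.pt.left := inferInstanceAs (Subsingleton (PrimeSpectrum p.K))
  rw [Subsingleton.elim z (IsLocalRing.closedPoint p.K)]
  rfl

end Groth.L23.Gpd
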