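import Groth.Prelude.Def_AlgSpGpd
import Groth.Agent.L23.LocP
import Groth.Agent.L23.OpenSub

/-!
# Elementary facts on groupoids in algebraic spaces
-/

universe u

open CategoryTheory CategoryTheory.Limits AlgebraicGeometry AlgSp

set_option backward.isDefEq.respectTransparency.types false
set_option linter.style.haveILetI false

namespace Groth.L23.Gpd

variable {S : Scheme.{u}} {B : Sp S} (G : GroupoidSp B)

/-- The composite of two arrows. -/
noncomputable def mul {T : Sp S} (α β : T ⟶ G.R) (h : α ≫ G.s = β ≫ G.t) : T ⟶ G.R :=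
  pullback.lift α β h ≫ G.c

theorem comp_mul {T T' : Sp S} (g : T' ⟶ T) (α β : T ⟶ G.R) (h : α ≫ G.s = β ≫ G.t) :
    g ≫ mul G α β h = mul G (g ≫ α) (g ≫ β) (by rw [Category.assoc, Category.assoc, h]) := by
  rw [mul, mul, ← Category.assoc]
  congr 1
  exact pullback.hom_ext (by rw [Category.assoc, pullback.lift_fst, pullback.lift_fst])
    (by rw [Category.assoc, pullback.lift_snd, pullback.lift_snd])

theorem mul_congr {T : Sp S} {α α' β β' : T ⟶ G.R} (h : α ≫ G.s = β ≫ G.t) (e : α = α') (e' : β = β') :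
    mul G α β h = mul G α' β' (e ▸ e' ▸ h) := by subst e e'; rfl

theorem inv_mul_cancel {T : Sp S} (α β : T ⟶ G.R) (h : α ≫ G.t = β ≫ G.t) (h' : (α ≫ G.i) ≫ G.s = β ≫ G.t) :
    mul G α (mul G (α ≫ G.i) β h') (by
      rw [mul, G.comp_t, Category.assoc, G.i_t]) = β := by
  have h0 : α ≫ G.s = (α ≫ G.i) ≫ G.t := by rw [Category.assoc, G.i_t]
  show pullback.lift α (pullback.lift (α ≫ G.i) β h' ≫ G.c) _ ≫ G.c = β
  rw [← G.assoc α (α ≫ G.i) β h0 h']
  refine (mul_congr G _ ((G.comp_i α).trans ?_) rfl).trans (G.e_comp β)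
  rw [← Category.assoc, h, Category.assoc]

theorem mul_inv_mul {T : Sp S} (α β : T ⟶ G.R) (h : α ≫ G.s = β ≫ G.t) :
    mul G (α ≫ G.i) (mul G α β h) (by rw [mul, G.comp_t, Category.assoc, G.i_s]) = β := by
  have h0 : (α ≫ G.i) ≫ G.s = α ≫ G.t := by rw [Category.assoc, G.i_s]
  show pullback.lift (α ≫ G.i) (pullback.lift α β h ≫ G.c) _ ≫ G.c = β
  rw [← G.assoc (α ≫ G.i) α β h0 h]
  refine (mul_congr G _ ((G.i_comp α).trans ?_) rfl).trans (G.e_comp β)
  rw [← Category.assoc, h, Category.assoc]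

theorem mul_mul_inv {T : Sp S} (α β : T ⟶ G.R) (h : α ≫ G.s = β ≫ G.t) :
    mul G (mul G α β h) (β ≫ G.i) (by rw [mul, G.comp_s, Category.assoc, G.i_t]) = α := by
  have h0 : β ≫ G.s = (β ≫ G.i) ≫ G.t := by rw [Category.assoc, G.i_t]
  show pullback.lift (pullback.lift α β h ≫ G.c) (β ≫ G.i) _ ≫ G.c = α
  rw [G.assoc α β (β ≫ G.i) h h0]
  refine (mul_congr G _ rfl ((G.comp_i β).trans ?_)).trans (G.comp_e α)
  rw [← Category.assoc, ← h, Category.assoc]

theorem mul_inv_cancel {T : Sp S} (α β : T ⟶ G.R) (h : α ≫ G.s = β ≫ G.s) (h' : α ≫ G.s = (β ≫ G.i) ≫ G.t) :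
    mul G (mul G α (β ≫ G.i) h') β (by rw [mul, G.comp_s, Category.assoc, G.i_s]) = α := by
  have h0 : (β ≫ G.i) ≫ G.s = β ≫ G.t := by rw [Category.assoc, G.i_s]
  show pullback.lift (pullback.lift α (β ≫ G.i) h' ≫ G.c) β _ ≫ G.c = α
  rw [G.assoc α (β ≫ G.i) β h' h0]
  refine (mul_congr G _ rfl ((G.i_comp β).trans ?_)).trans (G.comp_e α)
  rw [← Category.assoc, ← h, Category.assoc]

theorem cancel_inner {T : Sp S} (X a b : T ⟶ G.R) (h2 : X ≫ G.s = b ≫ G.t) (h3 : mul G X b h2 ≫ G.s = (b ≫ G.i) ≫ G.t)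
    (h4 : mul G (mul G X b h2) (b ≫ G.i) h3 ≫ G.s = a ≫ G.t) (h5 : X ≫ G.s = a ≫ G.t) :
    mul G (mul G (mul G X b h2) (b ≫ G.i) h3) a h4 = mul G X a h5 :=
  mul_congr G h4 (mul_mul_inv G X b h2) rfl

theorem cancel_four {T : Sp S} (ρ a b : T ⟶ G.R) (h : ρ ≫ G.s = a ≫ G.s) (h1 : ρ ≫ G.s = (a ≫ G.i) ≫ G.t)
    (h2 : mul G ρ (a ≫ G.i) h1 ≫ G.s = b ≫ G.t)
    (h3 : mul G (mul G ρ (a ≫ G.i) h1) b h2 ≫ G.s = (b ≫ G.i) ≫ G.t)
    (h4 : mul G (mul G (mul G ρ (a ≫ G.i) h1) b h2) (b ≫ G.i) h3 ≫ G.s = a ≫ G.t) :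
    mul G (mul G (mul G (mul G ρ (a ≫ G.i) h1) b h2) (b ≫ G.i) h3) a h4 = ρ :=
  (cancel_inner G (mul G ρ (a ≫ G.i) h1) a b h2 h3 h4
      (by rw [mul, G.comp_s, Category.assoc, G.i_s])).trans (mul_inv_cancel G ρ a h h1)

/-- The arrow from the fibre over `s ∘ r` given by `ρ ↦ ρ r⁻¹ r'`. -/
noncomputable def fibreArrow {T : Sp S} (r r' : T ⟶ G.R) (h : r ≫ G.t = r' ≫ G.t) :
    pullback (r ≫ G.s) G.s ⟶ G.R :=
  mul G (mul G (pullback.snd (r ≫ G.s) G.s) ((pullback.fst (r ≫ G.s) G.s ≫ r) ≫ G.i)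
      (by rw [Category.assoc, G.i_t, Category.assoc]; exact pullback.condition.symm))
    (pullback.fst (r ≫ G.s) G.s ≫ r')
    (by simp only [mul, G.comp_s, Category.assoc, G.i_s, h])

theorem fibreArrow_s {T : Sp S} (r r' : T ⟶ G.R) (h : r ≫ G.t = r' ≫ G.t) :
    fibreArrow G r r' h ≫ G.s = pullback.fst (r ≫ G.s) G.s ≫ r' ≫ G.s := by
  simp only [fibreArrow, mul, G.comp_s, Category.assoc]

/-- The fibre of the source over `s ∘ r` maps to that over `s ∘ r'` when `t ∘ r = t ∘ r'`. -/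
noncomputable def fibreHom {T : Sp S} (r r' : T ⟶ G.R) (h : r ≫ G.t = r' ≫ G.t) :
    Over.mk (pullback.fst (r ≫ G.s) G.s) ⟶ Over.mk (pullback.fst (r' ≫ G.s) G.s) :=
  Over.homMk (pullback.lift (pullback.fst (r ≫ G.s) G.s) (fibreArrow G r r' h)
    (fibreArrow_s G r r' h).symm) (pullback.lift_fst _ _ _)

theorem fibreHom_comp {T : Sp S} (r r' : T ⟶ G.R) (h : r ≫ G.t = r' ≫ G.t) :
    fibreHom G r r' h ≫ fibreHom G r' r h.symm = 𝟙 _ := by
  refine Over.OverMorphism.ext ?_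
  let L : pullback (r ≫ G.s) G.s ⟶ pullback (r' ≫ G.s) G.s :=
    pullback.lift (pullback.fst (r ≫ G.s) G.s) (fibreArrow G r r' h) (fibreArrow_s G r r' h).symm
  show L ≫ pullback.lift (pullback.fst (r' ≫ G.s) G.s) (fibreArrow G r' r h.symm)
    (fibreArrow_s G r' r h.symm).symm = 𝟙 _
  have l1 : L ≫ pullback.fst (r' ≫ G.s) G.s = pullback.fst (r ≫ G.s) G.s := pullback.lift_fst _ _ _
  have l2 : L ≫ pullback.snd (r' ≫ G.s) G.s = fibreArrow G r r' h := pullback.lift_snd _ _ _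
  refine pullback.hom_ext (by rw [Category.assoc, pullback.lift_fst, l1, Category.id_comp]) ?_
  rw [Category.assoc, pullback.lift_snd, Category.id_comp]
  clear_value L
  rw [fibreArrow, comp_mul]
  refine (mul_congr G _ ((comp_mul G _ _ _ _).trans (mul_congr G _ l2
    (show L ≫ (pullback.fst (r' ≫ G.s) G.s ≫ r') ≫ G.i = (pullback.fst (r ≫ G.s) G.s ≫ r') ≫ G.i by
      simp only [← Category.assoc, l1]))) (show L ≫ pullback.fst (r' ≫ G.s) G.s ≫ r =
        pullback.fst (r ≫ G.s) G.s ≫ r by rw [← Category.assoc, l1])).trans ?_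
  exact cancel_four G (pullback.snd (r ≫ G.s) G.s) (pullback.fst (r ≫ G.s) G.s ≫ r)
    (pullback.fst (r ≫ G.s) G.s ≫ r') (by rw [Category.assoc]; exact pullback.condition.symm) _ _ _ _

/-- The fibres over two arrows with the same target are isomorphic. -/
noncomputable def fibreIso {T : Sp S} (r r' : T ⟶ G.R) (h : r ≫ G.t = r' ≫ G.t) :
    Over.mk (pullback.fst (r ≫ G.s) G.s) ≅ Over.mk (pullback.fst (r' ≫ G.s) G.s) where
  hom := fibreHom G r r' h
  inv := fibreHom G r' r h.symm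
  hom_inv_id := fibreHom_comp G r r' h
  inv_hom_id := fibreHom_comp G r' r h.symm

/-- The saturation of an open subspace is invariant. -/
theorem isInvariant_saturation {W W' : Sp S} (w : W ⟶ G.U) (w' : W' ⟶ G.U)
    (hw' : RepWith @IsOpenImmersion w')
    (himg : Set.range (Points.map w') = Points.map G.s '' (Points.map G.t ⁻¹' Set.range (Points.map w))) :
    G.IsInvariant w' := by
  have key : ∀ (f g : G.R ⟶ G.U), (∀ q : Points G.R, Points.map f q ∈ Set.range (Points.map w') →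
      Points.map g q ∈ Set.range (Points.map w')) → ∀ {T : Sp S} (r : T ⟶ G.R),
      Set.range (Points.map (r ≫ f)) ⊆ Set.range (Points.map w') →
      Set.range (Points.map (r ≫ g)) ⊆ Set.range (Points.map w') := by
    intro f g H T r hr
    rintro _ ⟨z, rfl⟩
    rw [Points.map_comp]
    exact H _ (by rw [← Points.map_comp]; exact hr ⟨z, rfl⟩)
  have comp : ∀ q q' : Points G.R, Points.map G.s q = Points.map G.t q' →
      ∃ q'' : Points G.R, Points.map G.t q'' = Points.map G.t q ∧ Points.map G.s q'' = Points.map G.s q' := by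
    intro q q' e
    obtain ⟨p, hp1, hp2⟩ := exists_of_isPullback (IsPullback.of_hasPullback G.s G.t) q q' e
    have ht : G.c ≫ G.t = pullback.fst G.s G.t ≫ G.t := by
      have := G.comp_t (pullback.fst G.s G.t) (pullback.snd G.s G.t) pullback.condition
      rwa [show pullback.lift (pullback.fst G.s G.t) (pullback.snd G.s G.t) pullback.condition = 𝟙 _ from
        pullback.hom_ext (by simp) (by simp), Category.id_comp] at this
    have hs : G.c ≫ G.s = pullback.snd G.s G.t ≫ G.s := by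
      have := G.comp_s (pullback.fst G.s G.t) (pullback.snd G.s G.t) pullback.condition
      rwa [show pullback.lift (pullback.fst G.s G.t) (pullback.snd G.s G.t) pullback.condition = 𝟙 _ from
        pullback.hom_ext (by simp) (by simp), Category.id_comp] at this
    refine ⟨Points.map G.c p, ?_, ?_⟩
    · rw [← Points.map_comp, ht, Points.map_comp, hp1]
    · rw [← Points.map_comp, hs, Points.map_comp, hp2]
  have inv : ∀ q : Points G.R, Points.map G.t (Points.map G.i q) = Points.map G.s q ∧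
      Points.map G.s (Points.map G.i q) = Points.map G.t q := fun q =>
    ⟨by rw [← Points.map_comp, G.i_t], by rw [← Points.map_comp, G.i_s]⟩
  have hfwd : ∀ q : Points G.R, Points.map G.t q ∈ Set.range (Points.map w') →
      Points.map G.s q ∈ Set.range (Points.map w') := by
    intro q hq
    rw [himg] at hq ⊢
    obtain ⟨q1, hq1, e⟩ := hq
    obtain ⟨q2, h1, h2⟩ := comp q1 q e
    exact ⟨q2, show Points.map G.t q2 ∈ Set.range (Points.map w) from h1.symm ▸ hq1, h2⟩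
  have hbwd : ∀ q : Points G.R, Points.map G.s q ∈ Set.range (Points.map w') →
      Points.map G.t q ∈ Set.range (Points.map w') := fun q hq =>
    (inv q).2 ▸ hfwd _ ((inv q).1.symm ▸ hq)
  exact fun T r => ⟨fun h => (exists_factor_iff hw' _).2 (key _ _ hfwd r ((exists_factor_iff hw' _).1 h)),
    fun h => (exists_factor_iff hw' _).2 (key _ _ hbwd r ((exists_factor_iff hw' _).1 h))⟩

section Restriction

variable {G' : GroupoidSp B} (φ : GroupoidSp.Hom G' G)

/-- The target of a restriction is a base change of `R ×_{s,U} U' ⟶ U`. -/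
theorem isPullback_restriction {a b : G.R ⟶ G.U} {a' b' : G'.R ⟶ G'.U}
    (ha : φ.fR ≫ a = a' ≫ φ.fU) (hb : φ.fR ≫ b = b' ≫ φ.fU) (hab : a ≫ G.pU = b ≫ G.pU)
    (hext : ∀ {T : Sp S} (ρ : T ⟶ G.R) (x y : T ⟶ G'.U), ρ ≫ b = x ≫ φ.fU → ρ ≫ a = y ≫ φ.fU →
      x ≫ G'.pU = y ≫ G'.pU → ∃! l : T ⟶ G'.R, l ≫ φ.fR = ρ ∧ l ≫ b' = x ∧ l ≫ a' = y) :
    IsPullback (pullback.lift φ.fR b' hb) a' (pullback.fst b φ.fU ≫ a) φ.fU := by
  refine IsPullback.mk' (by rw [pullback.lift_fst_assoc, ha]) (fun T l l' h1 h2 => ?_) fun T p y e => ?_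
  · have e1 := congrArg (· ≫ pullback.fst b φ.fU) h1
    have e2 := congrArg (· ≫ pullback.snd b φ.fU) h1
    simp only [Category.assoc, pullback.lift_fst, pullback.lift_snd] at e1 e2
    obtain ⟨m, -, hm⟩ := hext (l ≫ φ.fR) (l ≫ b') (l ≫ a') (by simp [hb]) (by simp [ha])
      (by
        rw [← φ.fU_over]
        simp only [Category.assoc]
        rw [← reassoc_of% ha, ← reassoc_of% hb, hab])
    exact (hm l ⟨rfl, rfl, rfl⟩).trans (hm l' ⟨e1.symm, e2.symm, h2.symm⟩).symm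
  · have e' : p ≫ pullback.fst b φ.fU ≫ a = y ≫ φ.fU := by simpa using e
    have hp : p ≫ pullback.fst b φ.fU ≫ b = p ≫ pullback.snd b φ.fU ≫ φ.fU := by rw [pullback.condition]
    obtain ⟨m, ⟨h1, h2, h3⟩, -⟩ := hext (p ≫ pullback.fst b φ.fU) (p ≫ pullback.snd b φ.fU) y
      (by simpa using hp) (by simpa using e')
      (by
        rw [← φ.fU_over]
        simp only [Category.assoc]
        rw [← reassoc_of% e', ← reassoc_of% hp, hab])
    exact ⟨m, pullback.hom_ext (by rw [Category.assoc, pullback.lift_fst, h1])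
      (by rw [Category.assoc, pullback.lift_snd, h2]), h3⟩

theorem existsUnique_lift (hφ : φ.IsRestriction) {T : Sp S} (ρ : T ⟶ G.R) (x y : T ⟶ G'.U)
    (ht : ρ ≫ G.t = y ≫ φ.fU) (hs : ρ ≫ G.s = x ≫ φ.fU) (hxy : y ≫ G'.pU = x ≫ G'.pU) :
    ∃! l : T ⟶ G'.R, l ≫ φ.fR = ρ ∧ l ≫ G'.s = x ∧ l ≫ G'.t = y := by
  have w : ρ ≫ G.j = pullback.lift y x hxy ≫ φ.prodMap := by
    refine pullback.hom_ext ?_ ?_
    · simp only [Category.assoc, GroupoidSp.j_fst, GroupoidSp.Hom.prodMap, ht]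
      erw [pullback.lift_fst, ← Category.assoc, pullback.lift_fst]
    · simp only [Category.assoc, GroupoidSp.j_snd, GroupoidSp.Hom.prodMap, hs]
      erw [pullback.lift_snd, ← Category.assoc, pullback.lift_snd]
  refine ⟨hφ.lift ρ _ w, ⟨hφ.lift_fst _ _ _, ?_, ?_⟩, fun l ⟨h1, h2, h3⟩ => hφ.hom_ext ?_ ?_⟩
  · rw [← G'.j_snd, hφ.lift_snd_assoc, pullback.lift_snd]
  · rw [← G'.j_fst, hφ.lift_snd_assoc, pullback.lift_fst]
  · rw [hφ.lift_fst, h1]
  · rw [hφ.lift_snd]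
    exact pullback.hom_ext (by rw [Category.assoc, G'.j_fst, pullback.lift_fst, h3])
      (by rw [Category.assoc, G'.j_snd, pullback.lift_snd, h2])

theorem locP_restriction (hB : IsAlgSpace B) (hU : IsAlgSpace G.U) (hR : IsAlgSpace G.R) (hU' : IsAlgSpace G'.U)
    (hφ : φ.IsRestriction) {P : MorphismProperty Scheme.{u}} (hP : EtLocal P) (hs : LocP P G.s) (ht : LocP P G.t)
    (hf : LocP P φ.fU) : LocP P G'.s ∧ LocP P G'.t := by
  have key : ∀ {a b : G.R ⟶ G.U} {a' : G'.R ⟶ G'.U} {b' : G'.R ⟶ G'.U} (hb : φ.fR ≫ b = b' ≫ φ.fU),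
      IsPullback (pullback.lift φ.fR b' hb) a' (pullback.fst b φ.fU ≫ a) φ.fU →
      LocP P a → LocP P a' := by
    intro a b a' b' hb sq hla
    have hP2 : IsAlgSpace (pullback b φ.fU) :=
      isAlgSpace_of_isPullback hU.diag hR hU' (IsPullback.of_hasPullback b φ.fU)
    have h1 : LocP P (pullback.fst b φ.fU) :=
      locP_of_isPullback hP hU' hU hR (IsPullback.of_hasPullback b φ.fU).flip hf
    exact locP_of_isPullback hP hP2 hU hU' sq (locP_comp hP hP2 hR hU h1 hla)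
  refine ⟨key φ.comm_t (isPullback_restriction G φ φ.comm_s φ.comm_t (G.s_over.trans G.t_over.symm)
    fun ρ x y h1 h2 h3 => ?_) hs, key φ.comm_s (isPullback_restriction G φ φ.comm_t φ.comm_s
      (G.t_over.trans G.s_over.symm) fun ρ x y h1 h2 h3 => existsUnique_lift G φ hφ ρ x y h2 h1 h3.symm) ht⟩
  obtain ⟨l, ⟨e1, e2, e3⟩, hl⟩ := existsUnique_lift G φ hφ ρ y x h1 h2 h3
  exact ⟨l, ⟨e1, e3, e2⟩, fun l' ⟨f1, f2, f3⟩ => hl l' ⟨f1, f3, f2⟩⟩

end Restriction

end Groth.L23.Gpd
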