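import Groth.Agent.L23.GpdField
import Groth.Agent.L23.RelDim
import Groth.Agent.L23.FibreDimBC
import Groth.Agent.L23.LocalDimEtale
import Groth.Agent.L23.QFPoints
import Groth.Agent.S5792

/-!
# Homogeneity of the dimension of groups and groupoids over a field
-/

universe u

open CategoryTheory CategoryTheory.Limits AlgebraicGeometry AlgSp MonoidalCategory MonObj CartesianMonoidalCategory

set_option backward.isDefEq.respectTransparency.types false
set_option linter.style.haveILetI false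

namespace Groth.L23.Homog

variable {S : Scheme.{u}} {X P : Sp S} {k : Type u} [Field k] {σ : Spec (CommRingCat.of k) ⟶ S}

theorem fibreDimAt_eq_localDim {U : Scheme.{u}} (g : U ⟶ Spec (CommRingCat.of k)) (u : U) :
    FlatMor.fibreDimAt g u = FlatMor.localDim U u := by
  rw [fibreDimAt_eq_preimage]
  have h : g ⁻¹' {g u} = Set.univ :=
    Set.eq_univ_of_forall fun x => Subsingleton.elim (α := PrimeSpectrum k) _ _
  have := quasiSober_preimage_singleton g (g u)
  exact localDim_homeomorph ((Homeomorph.setCongr h).trans (Homeomorph.Set.univ U)) _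

/-- If any two points are the images of one point under two cartesian squares with the same base change, the
local dimension is constant and equal to the dimension. -/
theorem localDim_eq_dim (eP : P ≅ (yon S).obj (Over.mk σ)) (hX : IsAlgSpace X) {f : X ⟶ P}
    (hf : LocP @LocallyOfFiniteType f) {M Y : Sp S} (hY : IsAlgSpace Y) {p₁ p₂ : M ⟶ X} {f' : M ⟶ Y}
    {g₁ g₂ : Y ⟶ P} (sq₁ : IsPullback p₁ f' f g₁) (sq₂ : IsPullback p₂ f' f g₂) (x₀ : Points X)
    (hom : ∀ x, ∃ x', Points.map p₁ x' = x₀ ∧ Points.map p₂ x' = x) (x : Points X) :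
    HasAt (fun V v => FlatMor.localDim ↥V v = AlgSp.dim X) X x := by
  have hb : RepWith @Etale eP.inv := repWith_of_isIso _
  have key : ∀ (U : Over S) (a : (yon S).obj U ⟶ X), RepWith @Etale a → ∃ h : U ⟶ Over.mk σ,
      a ≫ f = (yon S).map h ≫ eP.inv ∧ LocallyOfFiniteType h.left := by
    intro U a ha
    obtain ⟨h, hh⟩ := (yon S).map_surjective (a ≫ f ≫ eP.hom)
    have w : a ≫ f = (yon S).map h ≫ eP.inv := by simp [hh]
    exact ⟨h, w, hf a eP.inv h ha hb w⟩
  have const : ∀ (U₀ U : Over S) (a₀ : (yon S).obj U₀ ⟶ X) (a : (yon S).obj U ⟶ X) (u₀ : U₀.left) (u : U.left),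
      RepWith @Etale a₀ → RepWith @Etale a → Points.ofPt a₀ u₀ = x₀ →
        FlatMor.localDim U.left u = FlatMor.localDim U₀.left u₀ := by
    intro U₀ U a₀ a u₀ u ha₀ ha e₀
    obtain ⟨h₀, w₀, hl₀⟩ := key U₀ a₀ ha₀
    obtain ⟨h, w, hl⟩ := key U a ha
    obtain ⟨x', e1, e2⟩ := hom (Points.ofPt a u)
    obtain ⟨U₁, V₁, a₁, b₁, h₁, q₁, r₁, z₁, ha₁, hb₁, w₁, s₁, hz₁, hx₁⟩ :=
      QFL.exists_chart_of_isPullback hY sq₁ ha₀ hb w₀ (u := u₀) (x' := x') (e₀.trans e1.symm)
    obtain ⟨U₂, V₂, a₂, b₂, h₂, q₂, r₂, z₂, ha₂, hb₂, w₂, s₂, hz₂, hx₂⟩ :=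
      QFL.exists_chart_of_isPullback hY sq₂ ha hb w (u := u) (x' := x') e2.symm
    have d₁ := @fibreDimAt_of_isPullback _ _ _ _ _ _ _ _ hl₀ s₁ z₁
    have d₂ := @fibreDimAt_of_isPullback _ _ _ _ _ _ _ _ hl s₂ z₂
    have d := fibreDimAt_of_other_chart ha₁ hb₁ ha₂ hb₂ w₁ w₂ (hx₂.trans hx₁.symm)
    rw [hz₁] at d₁
    rw [hz₂] at d₂
    have e3 := fibreDimAt_eq_localDim (k := k) (show U.left ⟶ Spec (CommRingCat.of k) from h.left) u
    have e4 := fibreDimAt_eq_localDim (k := k) (show U₀.left ⟶ Spec (CommRingCat.of k) from h₀.left) u₀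
    exact e3.symm.trans ((d₂.symm.trans (d.trans d₁)).trans e4)
  obtain ⟨U, a, ha, has⟩ := hX.atlas
  obtain ⟨u₀, hu₀⟩ := surjective_ofPt has x₀
  obtain ⟨u, hu⟩ := surjective_ofPt has x
  have hdim : AlgSp.dim X = FlatMor.localDim U.left u₀ := by
    refine le_antisymm (iSup_le fun W => iSup₂_le fun c hc => ?_) ?_
    · rw [Groth.Agent.S5792.result]
      exact iSup_le fun w => (const U W a c u₀ w ha hc hu₀).le
    · refine le_trans ?_ (le_iSup_of_le U (le_iSup₂_of_le a ha le_rfl))
      rw [Groth.Agent.S5792.result]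
      exact le_iSup (fun z : U.left => FlatMor.localDim U.left z) u₀
  exact ⟨U, a, u, ha, hu, by rw [hdim]; exact const U U a a u₀ u ha ha hu₀⟩

end Groth.L23.Homog

namespace Groth.L23.Gpd

variable {S : Scheme.{u}} {B : Sp S} (G : GroupoidSp B)

theorem localDim_eq_dim (hR : IsAlgSpace G.R) {k : Type u} [Field k] (σ : Spec (CommRingCat.of k) ⟶ S)
    (eU : G.U ≅ (yon S).obj (Over.mk σ)) (hs : LocP @LocallyOfFiniteType G.s) (r : Points G.R) :
    HasAt (fun V v => FlatMor.localDim ↥V v = AlgSp.dim G.R) G.R r := by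
  have hsub : Subsingleton (Points G.U) := by
    have : Subsingleton (Points ((yon S).obj (Over.mk σ))) :=
      (Points.schemeHomeo (Over.mk σ)).toEquiv.symm.subsingleton (β := PrimeSpectrum k)
    exact (pointsHomeoOfIso eU).toEquiv.subsingleton
  refine Homog.localDim_eq_dim eU hR hs hR (IsPullback.of_hasPullback G.s G.t) (isPullback_c G)
    (Points.map G.e (Points.map G.t r)) (fun r' => ?_) r
  refine ⟨Points.map (pullback.lift (G.t ≫ G.e) (𝟙 G.R)
    (by rw [Category.assoc, G.e_s, Category.comp_id, Category.id_comp])) r', ?_, ?_⟩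
  · rw [← Points.map_comp, pullback.lift_fst, Points.map_comp]
    exact congrArg _ (Subsingleton.elim _ _)
  · rw [← Points.map_comp]
    have e := G.e_comp (𝟙 G.R)
    simp only [Category.id_comp] at e
    rw [e, Points.map_id]

end Groth.L23.Gpd

namespace Groth.L23.GrpUnit

theorem localDim_eq_dim (k : Type u) [Field k]
    (G : Over ((yon (Spec (CommRingCat.of k))).obj (Over.mk (𝟙 _)))) [GrpObj G] (hG : IsAlgSpace G.left)
    (hlft : LocP @LocallyOfFiniteType G.hom) (g : Points G.left) :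
    HasAt (fun V v => FlatMor.localDim ↥V v = AlgSp.dim G.left) G.left g := by
  have hsub : Subsingleton (Points ((yon (Spec (CommRingCat.of k))).obj (Over.mk (𝟙 _)))) :=
    (Points.schemeHomeo (Over.mk (𝟙 (Spec (CommRingCat.of k))))).toEquiv.symm.subsingleton (β := PrimeSpectrum k)
  let σ' : G ⟶ (G ⊗ G : Over _) := lift (toUnit G ≫ η[G]) (𝟙 G)
  have sq : IsPullback (fst G G).left (snd G G).left G.hom G.hom := IsPullback.of_hasPullback G.hom G.hom
  refine Homog.localDim_eq_dim (Iso.refl _) hG hlft hG sq (isPullback_mul (G := G))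
    (Points.map (η[G]).left (Points.map G.hom g)) (fun g' => ⟨Points.map σ'.left g', ?_, ?_⟩) g
  · rw [← Points.map_comp, ← Over.comp_left, lift_fst, Over.comp_left, Over.toUnit_left, Points.map_comp]
    exact congrArg _ (@Subsingleton.elim _ hsub _ _)
  · rw [← Points.map_comp, ← Over.comp_left,
      show σ' ≫ μ[G] = 𝟙 G from by rw [← Hom.mul_def, ← Hom.one_def, _root_.one_mul], Over.id_left, Points.map_id]

end Groth.L23.GrpUnit
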