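import Groth.Agent.L23.GpdBasic
import Groth.Agent.L23.LargestOpen
import Mathlib.Tactic.IrreducibleDef

/-!
# Invariance of the largest open over which a morphism has a property local on the base
-/

universe u

open CategoryTheory CategoryTheory.Limits AlgebraicGeometry AlgSp TopologicalSpace

set_option backward.isDefEq.respectTransparency.types false
set_option linter.style.haveILetI false

namespace Groth.L23.Gpd

variable {S : Scheme.{u}} {B : Sp S} (G : GroupoidSp B)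

theorem isInvariant_of_largest {C P : MorphismProperty (Sp S)} (hC : LargestOpen.CovClass C)
    (hP : IsLocalOnBase (fun _ _ Y g => IsCover C Y g) P) (hU : IsAlgSpace G.U) (hR : IsAlgSpace G.R)
    (hs : C G.s) (ht : C G.t) {X : Sp S} (hX : IsAlgSpace X) (f : X ⟶ G.U) {M : Sp S} (p : M ⟶ G.R)
    {q₁ q₂ : M ⟶ X} (sq₁ : IsPullback q₁ p f G.t) (sq₂ : IsPullback q₂ p f G.s)
    {W : Sp S} (hW : IsAlgSpace W) (w : W ⟶ G.U) (hw : RepWith @IsOpenImmersion w)
    (hmax : ∀ (W' : Sp S) (w' : W' ⟶ G.U), IsAlgSpace W' → RepWith @IsOpenImmersion w' →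
      (P (pullback.snd f w') ↔ ∃ k : W' ⟶ W, k ≫ w = w')) :
    G.IsInvariant w := by
  have hM : IsAlgSpace M := isAlgSpace_of_isPullback hU.diag hX hR sq₁
  have hfw : P (pullback.snd f w) := (hmax W w hW hw).2 ⟨𝟙 W, Category.id_comp w⟩
  have hXW : IsAlgSpace (pullback f w) :=
    isAlgSpace_of_isPullback hU.diag hX hW (IsPullback.of_hasPullback f w)
  -- the open `V = t⁻¹ W` of `R`
  have sqV := IsPullback.of_hasPullback G.t w
  have hV : IsAlgSpace (pullback G.t w) := isAlgSpace_of_isPullback hU.diag hR hW sqV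
  have hCv : C (pullback.fst G.t w) := hC.openImm hV hR (repWith_of_isPullback sqV.flip hw)
  -- `M` over `V`
  have sqMV := IsPullback.of_hasPullback p (pullback.fst G.t w)
  have hMV : IsAlgSpace (pullback p (pullback.fst G.t w)) := isAlgSpace_of_isPullback hR.diag hM hV sqMV
  have sqL := IsPullback.of_hasPullback f w
  have hPV : P (pullback.snd p (pullback.fst G.t w)) := by
    refine LargestOpen.bc hC hP hXW hW hMV hV (g := pullback.snd G.t w)
      (g' := sqL.lift (pullback.fst p (pullback.fst G.t w) ≫ q₁)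
        (pullback.snd p (pullback.fst G.t w) ≫ pullback.snd G.t w)
        (by rw [Category.assoc, Category.assoc, sq₁.w, sqMV.w_assoc, sqV.w]))
      (IsPullback.of_right (by rw [sqL.lift_fst, ← sqV.w]; exact sqMV.paste_horiz sq₁)
        (sqL.lift_snd _ _ _) sqL) (hC.baseChange hR hU hV hW sqV ht) hfw
  -- its image under the source
  have hgood := LargestOpen.good_range hC hP hX hU hMV hV (sqMV.paste_horiz sq₂) (hC.comp hV hR hU hCv hs) hPV
  let D : Opens (Points G.U) :=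
    ⟨Set.range (Points.map (pullback.fst G.t w ≫ G.s)), hC.isOpen_range hV hU (hC.comp hV hR hU hCv hs)⟩
  have hD : IsAlgSpace (openSub D) := isAlgSpace_openSub D hU
  have hPD : P (pullback.snd f (openSubι D)) := hgood _ _ _ _ _ hD
    (isAlgSpace_of_isPullback hU.diag hX hD (IsPullback.of_hasPullback f (openSubι D)))
    (repWith_openSubι D) (range_openSubι D) (IsPullback.of_hasPullback f (openSubι D))
  obtain ⟨k, hk⟩ := (hmax _ _ hD (repWith_openSubι D)).1 hPD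
  obtain ⟨m, hm⟩ := (exists_factor_iff (repWith_openSubι D) (pullback.fst G.t w ≫ G.s)).2
    (by rw [range_openSubι]; rfl)
  have key : ∀ {T : Sp S} (r : T ⟶ G.R), (∃ a : T ⟶ W, a ≫ w = r ≫ G.t) → ∃ a : T ⟶ W, a ≫ w = r ≫ G.s := by
    rintro T r ⟨a, ha⟩
    exact ⟨pullback.lift r a ha.symm ≫ m ≫ k, by
      rw [Category.assoc, Category.assoc, hk, hm, pullback.lift_fst_assoc]⟩
  refine fun T r => ⟨key r, fun h => ?_⟩
  obtain ⟨a, ha⟩ := key (r ≫ G.i) (h.imp fun a e => by rw [e, Category.assoc, G.i_t])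
  exact ⟨a, by rw [ha, Category.assoc, G.i_s]⟩

theorem c_s : G.c ≫ G.s = pullback.snd G.s G.t ≫ G.s := by
  have := G.comp_s (pullback.fst G.s G.t) (pullback.snd G.s G.t) pullback.condition
  rwa [show pullback.lift (pullback.fst G.s G.t) (pullback.snd G.s G.t) pullback.condition = 𝟙 _ from
    pullback.hom_ext (by rw [pullback.lift_fst, Category.id_comp]) (by rw [pullback.lift_snd, Category.id_comp]),
    Category.id_comp] at this

theorem mul_fst_snd {T : Sp S} (l : T ⟶ pullback G.s G.t) :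
    mul G (l ≫ pullback.fst G.s G.t) (l ≫ pullback.snd G.s G.t)
      (by rw [Category.assoc, Category.assoc, pullback.condition]) = l ≫ G.c := by
  rw [mul]
  congr 1
  exact pullback.hom_ext (by rw [pullback.lift_fst]) (by rw [pullback.lift_snd])

/-- Composition makes `R ×_{s,U,t} R` the fibre product of the source with itself. -/
theorem isPullback_c : IsPullback G.c (pullback.snd G.s G.t) G.s G.s := by
  refine IsPullback.mk' (c_s G) (fun T l l' h1 h2 => ?_) fun T a b e => ?_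
  · refine pullback.hom_ext ?_ h2
    have e1 := mul_mul_inv G (l ≫ pullback.fst G.s G.t) (l ≫ pullback.snd G.s G.t)
      (by rw [Category.assoc, Category.assoc, pullback.condition])
    have e2 := mul_mul_inv G (l' ≫ pullback.fst G.s G.t) (l' ≫ pullback.snd G.s G.t)
      (by rw [Category.assoc, Category.assoc, pullback.condition])
    exact e1.symm.trans ((mul_congr G _ ((mul_fst_snd G l).trans (h1.trans (mul_fst_snd G l').symm))
      (by rw [h2])).trans e2)
  · have h' : a ≫ G.s = (b ≫ G.i) ≫ G.t := by rw [Category.assoc, G.i_t, e]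
    exact ⟨pullback.lift (mul G a (b ≫ G.i) h') b (by rw [mul, G.comp_s, Category.assoc, G.i_s]),
      mul_inv_cancel G a b e h', pullback.lift_snd _ _ _⟩

theorem stab_t : G.stabilizerι ≫ G.t = G.stabilizerToU := by
  have := congrArg (· ≫ pullback.fst G.pU G.pU) (pullback.condition (f := G.j) (g := G.diag))
  simp only [Category.assoc, GroupoidSp.j_fst] at this
  rw [show G.diag ≫ pullback.fst G.pU G.pU = 𝟙 _ from pullback.lift_fst _ _ _, Category.comp_id] at this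
  exact this

theorem stab_s : G.stabilizerι ≫ G.s = G.stabilizerToU := by
  have := congrArg (· ≫ pullback.snd G.pU G.pU) (pullback.condition (f := G.j) (g := G.diag))
  simp only [Category.assoc, GroupoidSp.j_snd] at this
  rw [show G.diag ≫ pullback.snd G.pU G.pU = 𝟙 _ from pullback.lift_snd _ _ _, Category.comp_id] at this
  exact this

theorem stab_hom_ext {T : Sp S} {k k' : T ⟶ G.stabilizer} (h : k ≫ G.stabilizerι = k' ≫ G.stabilizerι) :
    k = k' :=
  pullback.hom_ext h (by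
    show k ≫ G.stabilizerToU = k' ≫ G.stabilizerToU
    rw [← stab_s G, ← Category.assoc, h, Category.assoc])

theorem exists_stab_lift {T : Sp S} (γ : T ⟶ G.R) (h : γ ≫ G.t = γ ≫ G.s) :
    ∃ k : T ⟶ G.stabilizer, k ≫ G.stabilizerι = γ ∧ k ≫ G.stabilizerToU = γ ≫ G.s :=
  ⟨pullback.lift γ (γ ≫ G.s) (pullback.hom_ext
    (by simp only [Category.assoc, GroupoidSp.j_fst]; erw [pullback.lift_fst]; rw [Category.comp_id, h])
    (by simp only [Category.assoc, GroupoidSp.j_snd]; erw [pullback.lift_snd]; rw [Category.comp_id])),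
    pullback.lift_fst _ _ _, pullback.lift_snd _ _ _⟩

/-- The composite, kept opaque for the kernel. -/
noncomputable irreducible_def cmp {T : Sp S} (α β : T ⟶ G.R) (h : α ≫ G.s = β ≫ G.t) : T ⟶ G.R := mul G α β h

theorem cmp_s {T : Sp S} (α β : T ⟶ G.R) (h : α ≫ G.s = β ≫ G.t) : cmp G α β h ≫ G.s = β ≫ G.s := by
  rw [cmp_def, mul, G.comp_s]

theorem cmp_t {T : Sp S} (α β : T ⟶ G.R) (h : α ≫ G.s = β ≫ G.t) : cmp G α β h ≫ G.t = α ≫ G.t := by
  rw [cmp_def, mul, G.comp_t]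

theorem cmp_congr {T : Sp S} {α α' β β' : T ⟶ G.R} (h : α ≫ G.s = β ≫ G.t) (e : α = α') (e' : β = β') :
    cmp G α β h = cmp G α' β' (e ▸ e' ▸ h) := by subst e e'; rfl

theorem comp_cmp {T T' : Sp S} (g : T' ⟶ T) (α β : T ⟶ G.R) (h : α ≫ G.s = β ≫ G.t) :
    g ≫ cmp G α β h = cmp G (g ≫ α) (g ≫ β) (by rw [Category.assoc, Category.assoc, h]) := by
  rw [cmp_def, cmp_def]
  exact comp_mul G g α β h

theorem cmp_inv_cmp {T : Sp S} (α β : T ⟶ G.R) (h : α ≫ G.s = β ≫ G.t)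
    (h' : (α ≫ G.i) ≫ G.s = cmp G α β h ≫ G.t) : cmp G (α ≫ G.i) (cmp G α β h) h' = β := by
  simp only [cmp_def]
  exact mul_inv_mul G α β h

theorem cmp_cmp_inv {T : Sp S} (α β : T ⟶ G.R) (h : α ≫ G.s = β ≫ G.t)
    (h' : cmp G α β h ≫ G.s = (β ≫ G.i) ≫ G.t) : cmp G (cmp G α β h) (β ≫ G.i) h' = α := by
  simp only [cmp_def]
  exact mul_mul_inv G α β h

theorem inv_cmp_cancel {T : Sp S} (α β : T ⟶ G.R) (h : α ≫ G.t = β ≫ G.t) (h' : (α ≫ G.i) ≫ G.s = β ≫ G.t)
    (h'' : α ≫ G.s = cmp G (α ≫ G.i) β h' ≫ G.t) : cmp G α (cmp G (α ≫ G.i) β h') h'' = β := by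
  simp only [cmp_def]
  exact inv_mul_cancel G α β h h'

theorem cmp_inv_cancel {T : Sp S} (α β : T ⟶ G.R) (h : α ≫ G.s = β ≫ G.s) (h' : α ≫ G.s = (β ≫ G.i) ≫ G.t)
    (h'' : cmp G α (β ≫ G.i) h' ≫ G.s = β ≫ G.t) : cmp G (cmp G α (β ≫ G.i) h') β h'' = α := by
  simp only [cmp_def]
  exact mul_inv_cancel G α β h h'

/-- The conjugate `r⁻¹ g r`. -/
noncomputable def conj {T : Sp S} (g r : T ⟶ G.R) (hs : g ≫ G.s = r ≫ G.t) (ht : g ≫ G.t = r ≫ G.t) :
    T ⟶ G.R :=
  cmp G (r ≫ G.i) (cmp G g r hs) (by rw [cmp_t, Category.assoc, G.i_s, ht])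

theorem conj_s {T : Sp S} (g r : T ⟶ G.R) (hs : g ≫ G.s = r ≫ G.t) (ht : g ≫ G.t = r ≫ G.t) :
    conj G g r hs ht ≫ G.s = r ≫ G.s := by
  rw [conj, cmp_s, cmp_s]

theorem conj_t {T : Sp S} (g r : T ⟶ G.R) (hs : g ≫ G.s = r ≫ G.t) (ht : g ≫ G.t = r ≫ G.t) :
    conj G g r hs ht ≫ G.t = r ≫ G.s := by
  rw [conj, cmp_t, Category.assoc, G.i_t]

theorem conj_congr {T : Sp S} {g g' r r' : T ⟶ G.R} (hs : g ≫ G.s = r ≫ G.t) (ht : g ≫ G.t = r ≫ G.t)
    (e : g = g') (e' : r = r') :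
    conj G g r hs ht = conj G g' r' (e ▸ e' ▸ hs) (e ▸ e' ▸ ht) := by subst e e'; rfl

theorem comp_conj {T T' : Sp S} (m : T' ⟶ T) (g r : T ⟶ G.R) (hs : g ≫ G.s = r ≫ G.t) (ht : g ≫ G.t = r ≫ G.t) :
    m ≫ conj G g r hs ht = conj G (m ≫ g) (m ≫ r) (by rw [Category.assoc, hs, Category.assoc])
      (by rw [Category.assoc, ht, Category.assoc]) := by
  rw [conj, comp_cmp, conj]
  exact cmp_congr G _ (Category.assoc _ _ _).symm (comp_cmp G m g r hs)

theorem conj_inj {T : Sp S} {g g' r : T ⟶ G.R} (hs : g ≫ G.s = r ≫ G.t) (ht : g ≫ G.t = r ≫ G.t)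
    (hs' : g' ≫ G.s = r ≫ G.t) (ht' : g' ≫ G.t = r ≫ G.t) (e : conj G g r hs ht = conj G g' r hs' ht') :
    g = g' := by
  have q1 : r ≫ G.s = conj G g r hs ht ≫ G.t := (conj_t G g r hs ht).symm
  have p1 : cmp G g r hs ≫ G.s = (r ≫ G.i) ≫ G.t := by rw [cmp_s, Category.assoc, G.i_t]
  have p2 : cmp G g' r hs' ≫ G.s = (r ≫ G.i) ≫ G.t := by rw [cmp_s, Category.assoc, G.i_t]
  have e3 : cmp G g r hs = cmp G g' r hs' := by
    have x1 : r ≫ G.t = cmp G g r hs ≫ G.t := by rw [cmp_t, ht]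
    have x2 : r ≫ G.t = cmp G g' r hs' ≫ G.t := by rw [cmp_t, ht']
    have z1 : (r ≫ G.i) ≫ G.s = cmp G g r hs ≫ G.t := by rw [Category.assoc, G.i_s, x1]
    have z2 : (r ≫ G.i) ≫ G.s = cmp G g' r hs' ≫ G.t := by rw [Category.assoc, G.i_s, x2]
    have e' : cmp G (r ≫ G.i) (cmp G g r hs) z1 = cmp G (r ≫ G.i) (cmp G g' r hs') z2 := by
      rw [conj, conj] at e
      exact e
    have w1 : r ≫ G.s = cmp G (r ≫ G.i) (cmp G g r hs) z1 ≫ G.t := by rw [cmp_t, Category.assoc, G.i_t]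
    exact (inv_cmp_cancel G r _ x1 z1 w1).symm.trans
      ((cmp_congr G w1 rfl e').trans (inv_cmp_cancel G r _ x2 z2 _))
  exact (cmp_cmp_inv G g r hs p1).symm.trans ((cmp_congr G p1 e3 rfl).trans (cmp_cmp_inv G g' r hs' _))

theorem exists_conj_eq {T : Sp S} (γ r : T ⟶ G.R) (hs : γ ≫ G.s = r ≫ G.s) (ht : γ ≫ G.t = r ≫ G.s) :
    ∃ (g : T ⟶ G.R) (hg : g ≫ G.s = r ≫ G.t) (hg' : g ≫ G.t = r ≫ G.t), conj G g r hg hg' = γ := by
  have h0 : r ≫ G.s = γ ≫ G.t := ht.symm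
  have h1 : cmp G r γ h0 ≫ G.s = r ≫ G.s := by rw [cmp_s, hs]
  have h1' : cmp G r γ h0 ≫ G.s = (r ≫ G.i) ≫ G.t := by rw [h1, Category.assoc, G.i_t]
  have hg : cmp G (cmp G r γ h0) (r ≫ G.i) h1' ≫ G.s = r ≫ G.t := by rw [cmp_s, Category.assoc, G.i_s]
  have hg' : cmp G (cmp G r γ h0) (r ≫ G.i) h1' ≫ G.t = r ≫ G.t := by rw [cmp_t, cmp_t]
  refine ⟨_, hg, hg', ?_⟩
  rw [conj]
  exact (cmp_congr G _ rfl (cmp_inv_cancel G (cmp G r γ h0) r h1 h1' hg)).trans (cmp_inv_cmp G r γ h0 _)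

theorem stab_comp_s {T : Sp S} (k : T ⟶ G.stabilizer) :
    (k ≫ G.stabilizerι) ≫ G.s = k ≫ G.stabilizerToU := by rw [Category.assoc, stab_s]

theorem stab_comp_t {T : Sp S} (k : T ⟶ G.stabilizer) :
    (k ≫ G.stabilizerι) ≫ G.t = k ≫ G.stabilizerToU := by rw [Category.assoc, stab_t]

/-- Conjugation identifies the two pullbacks of the stabilizer to the arrows. -/
theorem exists_isPullback_conj :
    ∃ q : pullback G.stabilizerToU G.t ⟶ G.stabilizer,
      IsPullback q (pullback.snd G.stabilizerToU G.t) G.stabilizerToU G.s := by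
  generalize ha : pullback.fst G.stabilizerToU G.t = a
  generalize hb : pullback.snd G.stabilizerToU G.t = b
  have sq : IsPullback a b G.stabilizerToU G.t := ha ▸ hb ▸ IsPullback.of_hasPullback _ _
  have hs : (a ≫ G.stabilizerι) ≫ G.s = b ≫ G.t := (stab_comp_s G a).trans sq.w
  have ht : (a ≫ G.stabilizerι) ≫ G.t = b ≫ G.t := (stab_comp_t G a).trans sq.w
  obtain ⟨q, hq, hq'⟩ := exists_stab_lift G (conj G (a ≫ G.stabilizerι) b hs ht)
    ((conj_t G _ _ hs ht).trans (conj_s G _ _ hs ht).symm)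
  refine ⟨q, IsPullback.mk' (hq'.trans (conj_s G _ _ hs ht)) (fun T l l' h1 h2 => ?_) fun T k c e => ?_⟩
  · have hl : ∀ m : T ⟶ _, (m ≫ a ≫ G.stabilizerι) ≫ G.s = (m ≫ b) ≫ G.t ∧
        (m ≫ a ≫ G.stabilizerι) ≫ G.t = (m ≫ b) ≫ G.t := fun m =>
      ⟨by rw [Category.assoc, hs, Category.assoc], by rw [Category.assoc, ht, Category.assoc]⟩
    have H : conj G (l ≫ a ≫ G.stabilizerι) (l ≫ b) (hl l).1 (hl l).2 =
        conj G (l' ≫ a ≫ G.stabilizerι) (l ≫ b) (by rw [h2]; exact (hl l').1) (by rw [h2]; exact (hl l').2) := by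
      refine (comp_conj G l _ _ hs ht).symm.trans ((?_ : _ = l' ≫ conj G (a ≫ G.stabilizerι) b hs ht).trans
        ((comp_conj G l' _ _ hs ht).trans (conj_congr G _ _ rfl h2.symm)))
      rw [← hq, ← Category.assoc, h1, Category.assoc]
    refine sq.hom_ext (stab_hom_ext G ?_) h2
    rw [Category.assoc, Category.assoc]
    exact conj_inj G _ _ _ _ H
  · obtain ⟨g, hg, hg', hgc⟩ := exists_conj_eq G (k ≫ G.stabilizerι) c ((stab_comp_s G k).trans e)
      ((stab_comp_t G k).trans e)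
    obtain ⟨g₀, hg₀, hg₀'⟩ := exists_stab_lift G g (hg'.trans hg.symm)
    have la : sq.lift g₀ c (hg₀'.trans hg) ≫ a ≫ G.stabilizerι = g := by rw [sq.lift_fst_assoc, hg₀]
    have lb : sq.lift g₀ c (hg₀'.trans hg) ≫ b = c := sq.lift_snd _ _ _
    refine ⟨sq.lift g₀ c (hg₀'.trans hg), stab_hom_ext G ?_, lb⟩
    rw [Category.assoc, hq]
    exact (comp_conj G _ _ _ hs ht).trans ((conj_congr G _ _ la lb).trans hgc)

end Groth.L23.Gpd
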