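import Groth.Agent.L23.GpdBasic
import Groth.Agent.L23.SepLocal
import Groth.Agent.L23.Univ
import Groth.Agent.L23.GpdLargest

/-!
# Separation properties of `j`, of the stabilizer and of the unit section
-/

universe u

open CategoryTheory CategoryTheory.Limits AlgebraicGeometry AlgSp

namespace Groth.L23.Gpd

section Cat

variable {C : Type*} [Category C] [HasPullbacks C] {X T : C}

lemma isPullback_section (f : X ⟶ T) (s : T ⟶ X) (hs : s ≫ f = 𝟙 T) :
    IsPullback s s (pullback.diagonal f) (pullback.lift (𝟙 X) (f ≫ s) (by simp [hs])) := by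
  have hm : Mono s := mono_of_mono_fac hs
  refine IsPullback.mk' (by
      apply pullback.hom_ext
      · simp only [Category.assoc, pullback.diagonal_fst, Category.comp_id, pullback.lift_fst]
      · simp only [Category.assoc, pullback.diagonal_snd, Category.comp_id, pullback.lift_snd]
        rw [← Category.assoc, hs, Category.id_comp])
    (fun W φ φ' _ h₂ => (cancel_mono s).1 h₂) (fun W a b e => ?_)
  have e₁ : a = b := by
    simpa only [Category.assoc, pullback.diagonal_fst, pullback.lift_fst, Category.comp_id] using e =≫ pullback.fst _ _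
  have e₂ : a = b ≫ f ≫ s := by
    simpa only [Category.assoc, pullback.diagonal_snd, pullback.lift_snd, Category.comp_id] using e =≫ pullback.snd _ _
  exact ⟨b ≫ f, by simp [e₂], by rw [Category.assoc, ← e₂, e₁]⟩

end Cat

set_option backward.isDefEq.respectTransparency.types false
set_option linter.style.haveILetI false

variable {S : Scheme.{u}} {B : Sp S} (G : GroupoidSp B)

theorem j_hom_ext {T : Sp S} (α β : T ⟶ G.R) (h : α ≫ G.j = β ≫ G.j) :
    α ≫ G.t = β ≫ G.t ∧ α ≫ G.s = β ≫ G.s :=
  ⟨by rw [← G.j_fst, ← Category.assoc, h, Category.assoc], by rw [← G.j_snd, ← Category.assoc, h, Category.assoc]⟩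

/-- The diagonal of `j` is a base change of the unit section of the stabilizer. -/
theorem exists_isPullback_diagonal (eG : G.U ⟶ G.stabilizer) (heG : eG ≫ G.stabilizerι = G.e) :
    ∃ δ : pullback.diagonalObj G.j ⟶ G.stabilizer, IsPullback G.s (pullback.diagonal G.j) eG δ := by
  obtain ⟨ht, hs⟩ := j_hom_ext G (pullback.fst G.j G.j) (pullback.snd G.j G.j) pullback.condition
  have h1 : (pullback.fst G.j G.j ≫ G.i) ≫ G.s = pullback.snd G.j G.j ≫ G.t := by
    rw [Category.assoc, G.i_s, ht]
  obtain ⟨δ, hδ, -⟩ := exists_stab_lift G (cmp G (pullback.fst G.j G.j ≫ G.i) (pullback.snd G.j G.j) h1)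
    (by rw [cmp_s, cmp_t, Category.assoc, G.i_t, hs])
  refine ⟨δ, IsPullback.mk' (stab_hom_ext G ?_) (fun T φ φ' _ h₂ => ?_) fun T a b e => ?_⟩
  · rw [Category.assoc, heG, Category.assoc, hδ, comp_cmp, cmp_def, mul]
    refine (G.i_comp (𝟙 G.R) |>.trans (Category.id_comp _)).symm.trans ?_
    congr 1
    refine pullback.hom_ext ?_ ?_
    · rw [pullback.lift_fst, pullback.lift_fst, ← Category.assoc, pullback.diagonal_fst]
    · rw [pullback.lift_snd, pullback.lift_snd, pullback.diagonal_snd]
  · have := congrArg (· ≫ pullback.fst G.j G.j) h₂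
    simpa using this
  · generalize hα : b ≫ pullback.fst G.j G.j = α
    generalize hβ : b ≫ pullback.snd G.j G.j = β
    obtain ⟨t1, s1⟩ := j_hom_ext G α β (by rw [← hα, ← hβ, Category.assoc, Category.assoc, pullback.condition])
    have h2 : (α ≫ G.i) ≫ G.s = β ≫ G.t := by rw [Category.assoc, G.i_s, t1]
    have e' : a ≫ G.e = cmp G (α ≫ G.i) β h2 := by
      rw [← heG, ← Category.assoc, e, Category.assoc, hδ, comp_cmp]
      exact cmp_congr G _ (by rw [← Category.assoc, hα]) hβ
    have ha : a = α ≫ G.s := by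
      have := congrArg (· ≫ G.s) e'
      simpa [G.e_s, cmp_s, s1] using this
    have h4 : α ≫ G.s = (a ≫ G.e) ≫ G.t := by rw [Category.assoc, G.e_t, Category.comp_id, ha]
    have hαβ : α = β := by
      have h3 : α ≫ G.s = cmp G (α ≫ G.i) β h2 ≫ G.t := e' ▸ h4
      have h5 : cmp G α (a ≫ G.e) h4 = α := by
        rw [cmp_def, mul]
        refine Eq.trans ?_ (G.comp_e α)
        congr 1
        exact pullback.hom_ext (by rw [pullback.lift_fst, pullback.lift_fst])
          (by rw [pullback.lift_snd, pullback.lift_snd, ha, Category.assoc])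
      exact h5.symm.trans ((cmp_congr G h4 rfl e').trans (inv_cmp_cancel G α β t1 h2 h3))
    exact ⟨α, ha.symm, pullback.hom_ext (by rw [Category.assoc, pullback.diagonal_fst, Category.comp_id, hα])
      (by rw [Category.assoc, pullback.diagonal_snd, Category.comp_id, hβ, hαβ])⟩

theorem eG_toU (eG : G.U ⟶ G.stabilizer) (heG : eG ≫ G.stabilizerι = G.e) : eG ≫ G.stabilizerToU = 𝟙 G.U := by
  rw [← stab_s G, ← Category.assoc, heG, G.e_s]

variable {Q : MorphismProperty Scheme.{u}}

theorem repWith_diagonal_iff [Q.IsStableUnderBaseChange] (eG : G.U ⟶ G.stabilizer)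
    (heG : eG ≫ G.stabilizerι = G.e) :
    (RepWith Q (pullback.diagonal G.j) ↔ RepWith Q (pullback.diagonal G.stabilizerToU)) ∧
      (RepWith Q (pullback.diagonal G.j) ↔ RepWith Q eG) := by
  obtain ⟨δ, hδ⟩ := exists_isPullback_diagonal G eG heG
  have a1 : RepWith Q (pullback.diagonal G.j) → RepWith Q (pullback.diagonal G.stabilizerToU) :=
    fun h => repWith_of_isPullback (isPullback_diagonal (IsPullback.of_hasPullback G.j G.diag)) h
  have a2 : RepWith Q (pullback.diagonal G.stabilizerToU) → RepWith Q eG :=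
    fun h => repWith_of_isPullback (isPullback_section G.stabilizerToU eG (eG_toU G eG heG)) h
  have a3 : RepWith Q eG → RepWith Q (pullback.diagonal G.j) := fun h => repWith_of_isPullback hδ h
  exact ⟨⟨a1, fun h => a3 (a2 h)⟩, ⟨fun h => a2 (a1 h), a3⟩⟩

theorem separation_main (hB : IsAlgSpace B) (hU : IsAlgSpace G.U) (hR : IsAlgSpace G.R)
    (eG : G.U ⟶ G.stabilizer) (heG : eG ≫ G.stabilizerι = G.e) :
    ((IsSeparatedMor G.j ↔ IsSeparatedMor G.stabilizerToU) ∧
        (IsSeparatedMor G.j ↔ RepWith @IsClosedImmersion eG)) ∧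
      ((IsQuasiSeparatedMor G.j ↔ IsQuasiSeparatedMor G.stabilizerToU) ∧
        (IsQuasiSeparatedMor G.j ↔ IsQuasiCompactMor eG)) ∧
      ((IsLocallySeparatedMor G.j → RepWith @IsImmersion eG) ∧
        (IsLocallySeparatedMor G.stabilizerToU → RepWith @IsImmersion eG)) := by
  have hG : IsAlgSpace G.stabilizer :=
    isAlgSpace_of_isPullback (isAlgSpace_of_isPullback hB.diag hU hU (IsPullback.of_hasPullback G.pU G.pU)).diag
      hR hU (IsPullback.of_hasPullback G.j G.diag)
  have hrep : Representable eG :=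
    (repWith_of_isPullback (isPullback_section G.stabilizerToU eG (eG_toU G eG heG))
      (diagonal_properties hG G.stabilizerToU)).1
  obtain ⟨q1, q2⟩ := repWith_diagonal_iff G (Q := @QuasiCompact) eG heG
  obtain ⟨i1, i2⟩ := repWith_diagonal_iff G (Q := @IsImmersion) eG heG
  exact ⟨repWith_diagonal_iff G (Q := @IsClosedImmersion) eG heG,
    ⟨q1, q2.trans ⟨isQuasiCompactMor_of_repWith, repWith_quasiCompact_of_isQuasiCompactMor hrep⟩⟩,
    i2.1, fun h => i2.1 (i1.2 h)⟩

end Groth.L23.Gpd
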