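import Groth.Agent.L23.FieldSpace
import Groth.Agent.L23.GpdField
import Groth.Agent.L23.GpdSep
import Mathlib.AlgebraicGeometry.Morphisms.Finite

/-!
# Decent groupoids and groups over a field are separated
-/

universe u

open CategoryTheory CategoryTheory.Limits AlgebraicGeometry Opposite AlgSp Topology MonoidalCategory MonObj
  CartesianMonoidalCategory

set_option backward.isDefEq.respectTransparency.types false
set_option linter.style.haveILetI false

namespace Groth.L23.Pt

variable {S : Scheme.{u}} {X : Sp S}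

/-- A section of a map from a decent space to a field is finite. -/
theorem isFinite_section (hX : IsAlgSpace X) (hd : IsDecent X) {K : Type u} [Field K]
    {w : Spec (CommRingCat.of K) ⟶ S} (p : (yon S).obj (Over.mk w) ⟶ X) (f : X ⟶ (yon S).obj (Over.mk w))
    (hpf : p ≫ f = 𝟙 _) : RepWith @IsFinite p := by
  have := isLocalAtTarget_fppf (@IsFinite : MorphismProperty Scheme.{u})
  have hq : RepWith @QuasiCompact p := by
    have := qc_of_goodPt hX (hd (Points.ofPt p (IsLocalRing.closedPoint K))) (ofHom w p) (mk_ofHom w p _)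
    rwa [toHom_ofHom] at this
  obtain ⟨U, a, ha, has⟩ := hX.atlas
  have := isLocallySurjective_of_etale a ha has
  obtain ⟨T, c, t₂, sT⟩ := exists_isPullback_of_representable (hX.representable_from_yon p) a
  refine repWith_of_locallySurjective (hX.representable_from_yon p) sT (repWith_map ?_)
  obtain ⟨g, hg⟩ := (yon S).map_surjective (a ≫ f)
  have hcg : c = t₂ ≫ g := (yon S).map_injective (by
    rw [Functor.map_comp, hg, ← Category.assoc, ← sT.w, Category.assoc, hpf, Category.comp_id])
  let c₀ : T.left ⟶ Spec (CommRingCat.of K) := c.left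
  let g₀ : U.left ⟶ Spec (CommRingCat.of K) := g.left
  have hc₀ : c₀ = t₂.left ≫ g₀ := congrArg (fun φ => φ.left) hcg
  have : Etale c₀ := repWith_prop ha sT.flip
  have : QuasiCompact t₂.left := repWith_prop hq sT
  refine (IsZariskiLocalAtTarget.iff_of_iSup_eq_top (P := @IsFinite)
    (fun B : U.left.affineOpens => B.1) (iSup_affineOpens_eq_top _)).2 fun B => ?_
  let O := t₂.left ⁻¹ᵁ B.1
  have : IsAffine (B.1 : Scheme.{u}) := B.2
  have : CompactSpace (O : Scheme.{u}) := QuasiCompact.compactSpace_of_compactSpace (t₂.left ∣_ B.1)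
  have : Finite (O : Scheme.{u}) := finite_of_etale_field (O.ι ≫ c₀)
  have : QuasiCompact (O.ι ≫ c₀) := quasiCompact_of_finite _
  have : LocallyQuasiFinite (O.ι ≫ c₀) := lqf_of_etale _
  have : IsFinite (O.ι ≫ c₀) := IsFinite.of_locallyQuasiFinite _
  have : IsSeparated (B.1.ι ≫ g₀) := inferInstance
  have : IsFinite ((t₂.left ∣_ B.1) ≫ B.1.ι ≫ g₀) := by
    rw [morphismRestrict_ι_assoc, ← hc₀]
    infer_instance
  exact MorphismProperty.of_postcomp (W := @IsFinite) (W' := @IsSeparated) (t₂.left ∣_ B.1) (B.1.ι ≫ g₀) ‹_› ‹_›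

theorem closedImmersion_section {Y : Sp S} (hX : IsAlgSpace X) (hd : IsDecent X) {K : Type u} [Field K]
    {w : Spec (CommRingCat.of K) ⟶ S} (eY : Y ≅ (yon S).obj (Over.mk w)) (p : Y ⟶ X) (f : X ⟶ Y)
    (hpf : p ≫ f = 𝟙 _) : RepWith @IsClosedImmersion p := by
  have hp' : (eY.inv ≫ p) ≫ f ≫ eY.hom = 𝟙 _ := by
    rw [Category.assoc, reassoc_of% hpf, Iso.inv_hom_id]
  have hfin := isFinite_section hX hd (eY.inv ≫ p) (f ≫ eY.hom) hp'
  haveI : Mono (eY.inv ≫ p) := mono_of_mono_fac hp'
  have h : RepWith @IsClosedImmersion (eY.inv ≫ p) := by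
    refine ⟨hfin.1, fun {T U} g fst snd sq => ?_⟩
    have h1 : IsFinite snd.left := hfin.2 g fst snd sq
    have : Mono ((yon S).map snd) := sq.mono_snd_of_mono
    have : Mono snd := (yon S).mono_of_mono_map this
    have : Mono snd.left := inferInstanceAs (Mono ((Over.forget S).map snd))
    exact (IsClosedImmersion.iff_isFinite_and_mono _).2 ⟨h1, this⟩
  have := repWith_comp (repWith_of_isIso (P := (@IsClosedImmersion : MorphismProperty Scheme.{u})) eY.hom) h
  rwa [Iso.hom_inv_id_assoc] at this

end Groth.L23.Pt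

namespace Groth.L23.Gpd

variable {S : Scheme.{u}} {B : Sp S} (G : GroupoidSp B)

/-- The diagonal of the source is a base change of the identity section. -/
theorem repWith_diagonal_s {Q : MorphismProperty Scheme.{u}} [Q.IsStableUnderBaseChange] (h : RepWith Q G.e) :
    RepWith Q (pullback.diagonal G.s) := by
  have sqc := isPullback_c G
  let τ : pullback.diagonalObj G.s ⟶ G.R := sqc.isoPullback.inv ≫ pullback.fst G.s G.t
  have hτ : ∀ {T : Sp S} (b : T ⟶ pullback.diagonalObj G.s), ∃ (m : T ⟶ pullback G.s G.t),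
      b ≫ τ = m ≫ pullback.fst G.s G.t ∧ m ≫ G.c = b ≫ pullback.fst G.s G.s ∧
        m ≫ pullback.snd G.s G.t = b ≫ pullback.snd G.s G.s := fun b =>
    ⟨b ≫ sqc.isoPullback.inv, by simp only [τ, Category.assoc],
      by rw [Category.assoc, sqc.isoPullback_inv_fst],
      by rw [Category.assoc, sqc.isoPullback_inv_snd]⟩
  have sq : IsPullback G.t (pullback.diagonal G.s) G.e τ := by
    refine IsPullback.mk' ?_ (fun T l l' _ h₂ => ?_) fun T a b e => ?_
    · obtain ⟨m, h1, h2, h3⟩ := hτ (pullback.diagonal G.s)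
      rw [pullback.diagonal_fst] at h2
      rw [pullback.diagonal_snd] at h3
      have hm : m = pullback.lift (G.t ≫ G.e) (𝟙 G.R)
          (by rw [Category.assoc, G.e_s, Category.comp_id, Category.id_comp]) := by
        refine sqc.hom_ext ?_ (by rw [h3, pullback.lift_snd])
        rw [h2]
        refine (G.e_comp (𝟙 G.R)).symm.trans ?_
        congr 1
      rw [h1, hm, pullback.lift_fst]
    · have := congrArg (· ≫ pullback.fst G.s G.s) h₂
      simpa using this
    · obtain ⟨m, h1, h2, h3⟩ := hτ b
      have e1 : m ≫ pullback.fst G.s G.t = a ≫ G.e := h1.symm.trans e.symm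
      have hβ : a = (m ≫ pullback.snd G.s G.t) ≫ G.t := by
        rw [Category.assoc, ← pullback.condition, ← Category.assoc, e1, Category.assoc, G.e_s, Category.comp_id]
      have hc : m ≫ G.c = m ≫ pullback.snd G.s G.t := by
        refine Eq.trans ?_ (G.e_comp (m ≫ pullback.snd G.s G.t))
        congr 1
        refine pullback.hom_ext ?_ ?_
        · rw [pullback.lift_fst, e1, ← Category.assoc _ G.t, ← hβ]
        · rw [pullback.lift_snd]
      refine ⟨m ≫ pullback.snd G.s G.t, hβ.symm, pullback.hom_ext ?_ ?_⟩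
      · rw [Category.assoc, pullback.diagonal_fst, Category.comp_id, ← hc, h2]
      · rw [Category.assoc, pullback.diagonal_snd, Category.comp_id, h3]
  exact repWith_of_isPullback sq h

theorem isSeparatedSp_R (hR : IsAlgSpace G.R) {k : Type u} [Field k] (σ : Spec (CommRingCat.of k) ⟶ S)
    (eU : G.U ≅ (yon S).obj (Over.mk σ)) (hd : IsDecent G.R) : IsSeparatedSp G.R := by
  have he : RepWith @IsClosedImmersion G.e := Pt.closedImmersion_section hR hd eU G.e G.s G.e_s
  have hΔ := repWith_diagonal_s G (Q := @IsClosedImmersion) he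
  let incl : pullback.diagonalObj G.s ⟶ G.R ⨯ G.R := prod.lift (pullback.fst G.s G.s) (pullback.snd G.s G.s)
  have sq : IsPullback (pullback.fst G.s G.s ≫ G.s) incl (Limits.diag G.U) (prod.map G.s G.s) := by
    refine IsPullback.mk' (prod.hom_ext ?_ ?_) (fun T l l' _ h2 => pullback.hom_ext ?_ ?_) fun T a b e => ?_
    · simp only [Category.assoc, prod.map_fst, incl, Limits.diag]
      erw [prod.lift_fst, prod.lift_fst_assoc, Category.comp_id]
    · simp only [Category.assoc, prod.map_snd, incl, Limits.diag]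
      erw [prod.lift_snd, prod.lift_snd_assoc, Category.comp_id, pullback.condition]
    · have := congrArg (· ≫ prod.fst) h2
      simpa [incl, prod.lift_fst] using this
    · have := congrArg (· ≫ prod.snd) h2
      simpa [incl, prod.lift_snd] using this
    · have e1 := congrArg (· ≫ prod.fst) e
      have e2 := congrArg (· ≫ prod.snd) e
      simp only [Category.assoc, Limits.diag, prod.map_fst, prod.map_snd] at e1 e2
      erw [prod.lift_fst, Category.comp_id] at e1
      erw [prod.lift_snd, Category.comp_id] at e2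
      refine ⟨pullback.lift (b ≫ prod.fst) (b ≫ prod.snd) (by rw [Category.assoc, Category.assoc, ← e1, ← e2]),
        by rw [pullback.lift_fst_assoc, Category.assoc, ← e1], prod.hom_ext ?_ ?_⟩
      · rw [Category.assoc, prod.lift_fst, pullback.lift_fst]
      · rw [Category.assoc, prod.lift_snd, pullback.lift_snd]
  have hU : RepWith @IsClosedImmersion (Limits.diag G.U) := by
    have h0 : RepWith @IsClosedImmersion (Limits.diag ((yon S).obj (Over.mk σ))) :=
      (repWith_diag_yon_iff _ _).2 (by
        have : IsSeparated σ := inferInstance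
        show IsClosedImmersion (pullback.diagonal σ)
        infer_instance)
    have e1 : Limits.diag G.U = eU.hom ≫ Limits.diag ((yon S).obj (Over.mk σ)) ≫ (prod.mapIso eU eU).inv := by
      refine prod.hom_ext ?_ ?_ <;>
        simp [Limits.diag, prod.mapIso]
    rw [e1]
    exact repWith_comp (repWith_of_isIso _) (repWith_comp h0 (repWith_of_isIso _))
  have hd' : Limits.diag G.R = pullback.diagonal G.s ≫ incl := by
    refine prod.hom_ext ?_ ?_
    · simp only [Category.assoc, incl, Limits.diag]
      erw [prod.lift_fst, prod.lift_fst, pullback.diagonal_fst]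
    · simp only [Category.assoc, incl, Limits.diag]
      erw [prod.lift_snd, prod.lift_snd, pullback.diagonal_snd]
  show RepWith @IsClosedImmersion (Limits.diag G.R)
  rw [hd']
  exact repWith_comp hΔ (repWith_of_isPullback sq hU)

end Groth.L23.Gpd

namespace Groth.L23.GrpUnit

theorem isSeparatedSp_of_isDecent (k : Type u) [Field k]
    (G : Over ((yon (Spec (CommRingCat.of k))).obj (Over.mk (𝟙 _)))) [GrpObj G] (hG : IsAlgSpace G.left)
    (hd : IsDecent G.left) : IsSeparatedSp G.left := by
  have he : RepWith @IsClosedImmersion (η[G]).left :=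
    Pt.closedImmersion_section hG hd (Iso.refl _) (η[G]).left G.hom (Over.w η[G])
  let δ : (G ⊗ G : Over _) ⟶ G := fst G G * (snd G G)⁻¹
  have hδ : ∀ {T : Over _} (b : T ⟶ G ⊗ G), b ≫ δ = (b ≫ fst G G) * (b ≫ snd G G)⁻¹ := fun b => by
    simp [δ, comp_mul, GrpObj.comp_inv]
  have hT := IsTerminal.isTerminalObj (yon (Spec (CommRingCat.of k))) _ Over.mkIdTerminal
  have sqP : IsPullback (prod.fst : G.left ⨯ G.left ⟶ G.left) prod.snd G.hom G.hom :=
    IsPullback.mk' (hT.hom_ext _ _) (fun _ _ _ h1 h2 => prod.hom_ext h1 h2)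
      fun _ a b _ => ⟨prod.lift a b, prod.lift_fst _ _, prod.lift_snd _ _⟩
  obtain ⟨κ, hκ1, hκ2⟩ : ∃ κ : G.left ⨯ G.left ≅ pullback G.hom G.hom,
      κ.hom ≫ pullback.fst G.hom G.hom = prod.fst ∧ κ.hom ≫ pullback.snd G.hom G.hom = prod.snd :=
    ⟨sqP.isoPullback, sqP.isoPullback_hom_fst, sqP.isoPullback_hom_snd⟩
  have sq : IsPullback G.hom (Limits.diag G.left) (η[G]).left (κ.hom ≫ δ.left) := by
    have key : ∀ {T : Sp (Spec (CommRingCat.of k))} (a : T ⟶ (yon _).obj (Over.mk (𝟙 _))) (b : T ⟶ G.left ⨯ G.left),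
        a ≫ (η[G]).left = (b ≫ κ.hom) ≫ δ.left ↔ b ≫ prod.fst = b ≫ prod.snd := by
      intro T a b
      let T' : Over ((yon (Spec (CommRingCat.of k))).obj (Over.mk (𝟙 _))) := Over.mk a
      let b₁ : T' ⟶ G := Over.homMk (b ≫ prod.fst) (hT.hom_ext _ _)
      let b₂ : T' ⟶ G := Over.homMk (b ≫ prod.snd) (hT.hom_ext _ _)
      have eb : b ≫ κ.hom = (lift b₁ b₂).left := by
        refine pullback.hom_ext ?_ ?_
        · rw [Category.assoc, hκ1]
          exact (congrArg (fun φ => φ.left) (lift_fst b₁ b₂)).symm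
        · rw [Category.assoc, hκ2]
          exact (congrArg (fun φ => φ.left) (lift_snd b₁ b₂)).symm
      have e1 : (lift b₁ b₂) ≫ δ = b₁ * b₂⁻¹ := by rw [hδ, lift_fst, lift_snd]
      have e2 : a ≫ (η[G]).left = (1 : T' ⟶ G).left := by
        rw [Hom.one_def, Over.comp_left, Over.toUnit_left]; rfl
      rw [eb, ← Over.comp_left, e1, e2]
      constructor
      · intro h
        have h' : b₁ * b₂⁻¹ = 1 := (Over.OverMorphism.ext h).symm
        exact congrArg (fun φ => φ.left) (mul_inv_eq_one.1 h')
      · intro h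
        have h' : b₁ = b₂ := Over.OverMorphism.ext h
        rw [h', mul_inv_cancel]
    have d1 : Limits.diag G.left ≫ prod.fst = 𝟙 G.left := prod.lift_fst _ _
    have d2 : Limits.diag G.left ≫ prod.snd = 𝟙 G.left := prod.lift_snd _ _
    refine IsPullback.mk' ?_ (fun T l l' _ h2 => ?_) fun T a b e => ?_
    · rw [← Category.assoc]
      refine (key G.hom (Limits.diag G.left)).2 ?_
      rw [d1, d2]
    · have := congrArg (· ≫ prod.fst) h2
      simp only [Category.assoc, d1, Category.comp_id] at this
      exact this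
    · rw [← Category.assoc] at e
      refine ⟨b ≫ prod.fst, hT.hom_ext _ _, prod.hom_ext ?_ ?_⟩
      · rw [Category.assoc, d1, Category.comp_id]
      · rw [Category.assoc, d2, Category.comp_id]
        exact (key a b).1 e
  exact repWith_of_isPullback sq he

end Groth.L23.GrpUnit
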