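import Groth.Agent.L23.GpdDim
import Groth.Agent.L23.FieldUnits
import Groth.Agent.L23.DimDecent
import Groth.Agent.S10347

/-!
# The dimension of the stabilizer of a groupoid over a field
-/

universe u

open CategoryTheory CategoryTheory.Limits AlgebraicGeometry AlgSp Opposite

set_option backward.isDefEq.respectTransparency.types false
set_option linter.style.haveILetI false

namespace Groth.L23.GpdStab

variable {S : Scheme.{u}} {B : Sp S} (G : GroupoidSp B)

theorem diag_immersion (hB : IsAlgSpace B) {k : Type u} [Field k] (σ : Spec (CommRingCat.of k) ⟶ S)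
    (eU : G.U ≅ (yon S).obj (Over.mk σ)) : RepWith @IsImmersion G.diag := by
  let pU : (yon S).obj (Over.mk σ) ⟶ B := eU.inv ≫ G.pU
  obtain ⟨P, p₁, p₂, sq⟩ := exists_isPullback_of_representable (hB.representable_from_yon pU) pU
  obtain ⟨δ, hδ₁, hδ₂⟩ := exists_lift_yon (T := Over.mk σ) sq (𝟙 _) (𝟙 _) (by simp)
  have sq' : IsPullback ((yon S).map p₁ ≫ eU.inv) ((yon S).map p₂ ≫ eU.inv) G.pU G.pU :=
    sq.of_iso (Iso.refl _) eU.symm eU.symm (Iso.refl _) (by simp) (by simp) (by simp [pU]) (by simp [pU])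
  have e : G.diag = eU.hom ≫ (yon S).map δ ≫ sq'.isoPullback.hom := by
    apply pullback.hom_ext
    · rw [Category.assoc, Category.assoc, IsPullback.isoPullback_hom_fst, ← Functor.map_comp_assoc, hδ₁,
        CategoryTheory.Functor.map_id, Category.id_comp, Iso.hom_inv_id]
      exact pullback.lift_fst _ _ _
    · rw [Category.assoc, Category.assoc, IsPullback.isoPullback_hom_snd, ← Functor.map_comp_assoc, hδ₂,
        CategoryTheory.Functor.map_id, Category.id_comp, Iso.hom_inv_id]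
      exact pullback.lift_snd _ _ _
  have hδ : IsImmersion δ.left := by
    haveI : IsImmersion (δ.left ≫ p₁.left) := by
      rw [← Over.comp_left, hδ₁]
      infer_instance
    exact IsImmersion.of_comp δ.left p₁.left
  rw [e]
  exact repWith_comp (repWith_of_isIso _) (repWith_comp (repWith_map hδ) (repWith_of_isIso _))

theorem stabilizerι_immersion (hB : IsAlgSpace B) {k : Type u} [Field k] (σ : Spec (CommRingCat.of k) ⟶ S)
    (eU : G.U ≅ (yon S).obj (Over.mk σ)) : RepWith @IsImmersion G.stabilizerι :=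
  repWith_of_isPullback (IsPullback.of_hasPullback G.j G.diag).flip (diag_immersion G hB σ eU)

theorem stabilizer_isAlgSpace (hB : IsAlgSpace B) (hR : IsAlgSpace G.R) {k : Type u} [Field k]
    (σ : Spec (CommRingCat.of k) ⟶ S) (eU : G.U ≅ (yon S).obj (Over.mk σ)) : IsAlgSpace G.stabilizer :=
  isAlgSpace_of_representable_to hR (stabilizerι_immersion G hB σ eU).1

theorem lift_stabilizer {T : Sp S} (x : T ⟶ G.R) (h : x ≫ G.t = x ≫ G.s) :
    ∃ y : T ⟶ G.stabilizer, y ≫ G.stabilizerι = x :=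
  ⟨pullback.lift x (x ≫ G.s) (by
    apply pullback.hom_ext <;>
      simp only [GroupoidSp.diag, Category.assoc, GroupoidSp.j_fst, GroupoidSp.j_snd, pullback.lift_fst,
        pullback.lift_snd, Category.comp_id, h]), pullback.lift_fst _ _ _⟩

/-- Along the components through a field point where two maps to `Spec k` agree, they agree. -/
theorem localDim_le_of_agree (k : Type u) [Field k] {X : Scheme.{u}} [IsAffine X]
    (h h' : X ⟶ Spec (CommRingCat.of k)) [LocallyOfFiniteType h] {Ω : Type u} [Field Ω]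
    (z : Spec (CommRingCat.of Ω) ⟶ X) (hz : z ≫ h' = z ≫ h) {u : X}
    (hu : z (⊥ : PrimeSpectrum Ω) = u) {b : WithBot ℕ∞}
    (H : ∀ (V : Scheme.{u}) (i : V ⟶ X), IsClosedImmersion i → i ≫ h' = i ≫ h → topologicalKrullDim V ≤ b) :
    FlatMor.localDim X u ≤ b := by
  letI : X.Over (Spec (CommRingCat.of k)) := ⟨h⟩
  haveI : LocallyOfFiniteType (X ↘ Spec (CommRingCat.of k)) := inferInstanceAs (LocallyOfFiniteType h)
  rw [Groth.L22.FibreSemicont.localDim_eq_iSup k]
  refine iSup_le fun η => ?_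
  let ψ : CommRingCat.of k ⟶ Γ(X, ⊤) := Spec.preimage (X.isoSpec.inv ≫ h)
  let φ : CommRingCat.of k ⟶ Γ(X, ⊤) := Spec.preimage (X.isoSpec.inv ≫ h')
  letI : Algebra k Γ(X, ⊤) := ψ.hom.toAlgebra
  haveI hftA : Algebra.FiniteType k Γ(X, ⊤) := by
    show RingHom.FiniteType ψ.hom
    refine (HasRingHomProperty.Spec_iff (P := @LocallyOfFiniteType)).1 ?_
    rw [Spec.map_preimage]
    infer_instance
  let P : PrimeSpectrum Γ(X, ⊤) := X.isoSpec.hom η.1
  let q : Γ(X, ⊤) ⟶ CommRingCat.of (Γ(X, ⊤) ⧸ P.asIdeal) := CommRingCat.ofHom (Ideal.Quotient.mk P.asIdeal)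
  let i : Spec (CommRingCat.of (Γ(X, ⊤) ⧸ P.asIdeal)) ⟶ X := Spec.map q ≫ X.isoSpec.inv
  haveI : IsClosedImmersion (Spec.map q) := IsClosedImmersion.spec_of_surjective q Ideal.Quotient.mk_surjective
  let τ : Γ(X, ⊤) ⟶ CommRingCat.of Ω := Spec.preimage (z ≫ X.isoSpec.hom)
  have hτ : Spec.map τ = z ≫ X.isoSpec.hom := Spec.map_preimage _
  have hPτ : P.asIdeal ≤ RingHom.ker τ.hom := by
    have h1 : (X.isoSpec.hom η.1) ⤳ X.isoSpec.hom u := η.2.map X.isoSpec.hom.continuous
    have h2 : (Spec.map τ) (⊥ : PrimeSpectrum Ω) = X.isoSpec.hom u := by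
      rw [hτ, Scheme.Hom.comp_apply, hu]
    rw [← h2] at h1
    exact (PrimeSpectrum.le_iff_specializes P _).2 h1
  haveI : Algebra.FiniteType k (Γ(X, ⊤) ⧸ P.asIdeal) :=
    Algebra.FiniteType.of_surjective (Ideal.Quotient.mkₐ k P.asIdeal) Ideal.Quotient.mk_surjective
  have key : (Ideal.Quotient.mk P.asIdeal).comp φ.hom = algebraMap k (Γ(X, ⊤) ⧸ P.asIdeal) := by
    refine FieldUnits.eq_algebraMap _ (Ideal.Quotient.lift P.asIdeal τ.hom hPτ) ?_
    have hc : φ ≫ τ = ψ ≫ τ := by
      apply Spec.map_injective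
      rw [Spec.map_comp, Spec.map_comp, hτ, Spec.map_preimage, Spec.map_preimage]
      simp only [Category.assoc, Iso.hom_inv_id_assoc]
      exact hz
    ext c
    exact RingHom.congr_fun (congrArg CommRingCat.Hom.hom hc) c
  have hst : i ≫ h' = i ≫ h := by
    have e1 : φ ≫ q = ψ ≫ q := CommRingCat.hom_ext key
    have e2 := congrArg Spec.map e1
    rw [Spec.map_comp, Spec.map_comp, Spec.map_preimage, Spec.map_preimage] at e2
    simpa only [i, Category.assoc] using e2
  have hir : closure {η.1} ⊆ Set.range i := by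
    refine closure_minimal (Set.singleton_subset_iff.2 ⟨(⊥ : PrimeSpectrum (Γ(X, ⊤) ⧸ P.asIdeal)), ?_⟩)
      i.isClosedEmbedding.isClosed_range
    apply X.isoSpec.hom.isOpenEmbedding.injective
    simp only [i, ← Scheme.Hom.comp_apply, Category.assoc, Iso.inv_hom_id, Category.comp_id]
    refine PrimeSpectrum.ext ?_
    show Ideal.comap q.hom ⊥ = P.asIdeal
    exact Ideal.mk_ker
  exact (Groth.L22.SchemeDim.topologicalKrullDim_mono hir).trans
    ((i.isClosedEmbedding.isEmbedding.toHomeomorph.isHomeomorph.topologicalKrullDim_eq).ge.trans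
      (H _ i inferInstance hst))

/-- An immersed scheme on which source and target agree has dimension at most that of the stabilizer. -/
theorem dim_closed_le (hB : IsAlgSpace B) {k : Type u} [Field k]
    (σ : Spec (CommRingCat.of k) ⟶ S) (eU : G.U ≅ (yon S).obj (Over.mk σ)) (hR : IsAlgSpace G.R)
    {U : Over S} {a : (yon S).obj U ⟶ G.R} (ha : RepWith @Etale a) (h h' : U ⟶ Over.mk σ)
    (hh : (yon S).map h = a ≫ G.s ≫ eU.hom) (hh' : (yon S).map h' = a ≫ G.t ≫ eU.hom)
    {V : Scheme.{u}} (i : V ⟶ U.left) [IsImmersion i] (hst : i ≫ h'.left = i ≫ h.left) :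
    topologicalKrullDim V ≤ AlgSp.dim G.stabilizer := by
  have hι := stabilizerι_immersion G hB σ eU
  let v : Over.mk (i ≫ U.hom) ⟶ U := Over.homMk i rfl
  obtain ⟨y, hy⟩ := lift_stabilizer G ((yon S).map v ≫ a) (by
    rw [← cancel_mono eU.hom]
    simp only [Category.assoc]
    rw [← hh, ← hh', ← Functor.map_comp, ← Functor.map_comp]
    congr 1
    ext1
    exact hst)
  have sZ := hι.1.isPullback a
  have hZa : RepWith @Etale (hι.1.fst a) := repWith_of_isPullback sZ.flip ha
  haveI hZi : IsImmersion (hι.1.snd a).left := repWith_prop hι sZ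
  let l : Over.mk (i ≫ U.hom) ⟶ hι.1.pullback a := hι.1.lift y v hy
  haveI : LocallyQuasiFinite (l.left ≫ (hι.1.snd a).left) := by
    rw [← Over.comp_left, hι.1.lift_snd]
    show LocallyQuasiFinite i
    infer_instance
  haveI : LocallyQuasiFinite l.left := LocallyQuasiFinite.of_comp l.left (hι.1.snd a).left
  exact (Pt.dim_le_of_lqf l.left).trans
    (le_iSup_of_le (hι.1.pullback a) (le_iSup₂_of_le (hι.1.fst a) hZa le_rfl))

theorem dim_eq (hB : IsAlgSpace B) (hR : IsAlgSpace G.R) {k : Type u} [Field k]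
    (σ : Spec (CommRingCat.of k) ⟶ S) (eU : G.U ≅ (yon S).obj (Over.mk σ))
    (hs : LocP @LocallyOfFiniteType G.s) : AlgSp.dim G.R = AlgSp.dim G.stabilizer := by
  have hι := stabilizerι_immersion G hB σ eU
  have hG := stabilizer_isAlgSpace G hB hR σ eU
  refine le_antisymm ?_ (Groth.Agent.S10347.result (X := ⟨_, hG⟩) (Y := ⟨_, hR⟩)
    (ObjectProperty.homMk G.stabilizerι) (locP_of_repWith etLocal_lqfLft
      (repWith_mono (fun f hf => ⟨(haveI := hf; inferInstance), (haveI := hf; inferInstance)⟩) hι)))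
  let x₀ : Points G.U := Points.map eU.inv (Points.ofScheme (Over.mk σ) (default : PrimeSpectrum k))
  obtain ⟨U, a, u, ha, hu, hd⟩ := Groth.L23.Gpd.localDim_eq_dim G hR σ eU hs (Points.map G.e x₀)
  -- a field over `u` on which source and target agree
  obtain ⟨p, hp⟩ := Points.mk_surjective x₀
  rw [← hp, Points.map_mk] at hu
  obtain ⟨Ω, hΩ, w, c, d, hcd⟩ := (rel_iff_toHom _ _).1 (Points.mk_eq_mk_iff.1 hu)
  rw [FieldPt.toHom_map, FieldPt.toHom_ofPt] at hcd
  change Over.mk w ⟶ Over.mk (U.left.fromSpecResidueField u ≫ U.hom) at c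
  change Over.mk w ⟶ p.pt at d
  have hcd' : (yon S).map c ≫ (yon S).map (Over.homMk (U.left.fromSpecResidueField u) rfl) ≫ a =
      ((yon S).map d ≫ p.toHom) ≫ G.e := hcd.trans (Category.assoc _ _ _).symm
  let z : Over.mk w ⟶ U := c ≫ Over.homMk (U.left.fromSpecResidueField u) rfl
  have hz : ∀ (f : G.R ⟶ G.U), G.e ≫ f = 𝟙 _ → (yon S).map z ≫ a ≫ f = (yon S).map d ≫ p.toHom := by
    intro f hf
    have h2 : ((yon S).map c ≫ (yon S).map (Over.homMk (U.left.fromSpecResidueField u) rfl) ≫ a) ≫ f =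
        (((yon S).map d ≫ p.toHom) ≫ G.e) ≫ f := congrArg (· ≫ f) hcd'
    rw [Category.assoc ((yon S).map d ≫ p.toHom), hf, Category.comp_id] at h2
    rw [← h2]
    simp only [z, Functor.map_comp, Category.assoc]
  have hzst : (yon S).map z ≫ a ≫ G.t = (yon S).map z ≫ a ≫ G.s := (hz _ G.e_t).trans (hz _ G.e_s).symm
  have hzu : ∀ o, z.left o = u := fun o => by
    rw [show z.left = c.left ≫ U.left.fromSpecResidueField u from rfl, Scheme.Hom.comp_apply]
    exact Scheme.fromSpecResidueField_apply _ _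
  -- source and target in the affine chart
  obtain ⟨h, hh⟩ := (yon S).map_surjective (a ≫ G.s ≫ eU.hom)
  obtain ⟨h', hh'⟩ := (yon S).map_surjective (a ≫ G.t ≫ eU.hom)
  haveI hl : LocallyOfFiniteType h.left :=
    hs a eU.inv h ha (repWith_of_isIso _) (by rw [hh, Category.assoc, Category.assoc, Iso.hom_inv_id, Category.comp_id])
  obtain ⟨_, ⟨W, hW, rfl⟩, huW, -⟩ :=
    U.left.isBasis_affineOpens.exists_subset_of_mem_open (Set.mem_univ u) isOpen_univ
  change U.left.Opens at W
  haveI : IsAffine (W : Scheme.{u}) := hW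
  rw [← hd, ← show FlatMor.localDim (W : Scheme.{u}) ⟨u, huW⟩ = FlatMor.localDim U.left u from
    localDim_eq_of_etale W.ι ⟨u, huW⟩]
  have hl' : z.left ≫ h'.left = z.left ≫ h.left := by
    rw [← Over.comp_left, ← Over.comp_left]
    congr 1
    apply (yon S).map_injective
    rw [(yon S).map_comp z, (yon S).map_comp z, hh, hh', reassoc_of% hzst]
  let z₁ : Spec (CommRingCat.of Ω) ⟶ (W : Scheme.{u}) := IsOpenImmersion.lift W.ι z.left
    (by rintro _ ⟨o, rfl⟩; rw [hzu o, Scheme.Opens.range_ι]; exact huW)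
  have hz₁ : z₁ ≫ W.ι = z.left := IsOpenImmersion.lift_fac _ _ _
  have hz₁u : z₁ (⊥ : PrimeSpectrum Ω) = ⟨u, huW⟩ := by
    apply W.ι.isOpenEmbedding.injective
    rw [← Scheme.Hom.comp_apply, hz₁]
    exact hzu _
  refine localDim_le_of_agree k (X := (W : Scheme.{u})) (W.ι ≫ h.left) (W.ι ≫ h'.left) z₁
    (by rw [reassoc_of% hz₁, reassoc_of% hz₁]; exact hl') hz₁u fun V i hi hst => ?_
  exact dim_closed_le G hB σ eU hR ha h h' hh hh' (i ≫ W.ι) (by
    rw [Category.assoc, Category.assoc]; exact hst)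

end Groth.L23.GpdStab
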