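import Groth.Agent.L25.GeomIrred
import Mathlib.RingTheory.Ideal.GoingUp
import Mathlib.RingTheory.LocalRing.ResidueField.Ideal
import Mathlib.RingTheory.Nilpotent.Lemmas
import Mathlib.RingTheory.Jacobson.Ring
import Mathlib.RingTheory.Algebraic.Integral
import Mathlib.FieldTheory.IsAlgClosed.AlgebraicClosure
import Mathlib.LinearAlgebra.TensorProduct.Basis
import Mathlib.RingTheory.TensorProduct.Maps

/-!
# Algebra for geometrically irreducible fields
-/

universe u

open TensorProduct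

set_option autoImplicit false
set_option backward.isDefEq.respectTransparency.types false
set_option linter.style.haveILetI false

noncomputable section

namespace Groth.L23.GrpAlg

variable {k : Type u} [Field k]

section Fibre

variable {R B : Type u} [CommRing R] [Algebra k R] [CommRing B] [Algebra k B] {p₀ : Ideal R} [p₀.IsPrime]

/-- The map to the fibre over a prime. -/
abbrev toFibre (p₀ : Ideal R) [p₀.IsPrime] (B : Type u) [CommRing B] [Algebra k B] :
    R ⊗[k] B →ₐ[k] p₀.ResidueField ⊗[k] B :=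
  Algebra.TensorProduct.map (IsScalarTower.toAlgHom k R p₀.ResidueField) (AlgHom.id k B)

theorem exists_factor (P : Ideal (R ⊗[k] B)) [P.IsPrime]
    (h : P.comap (Algebra.TensorProduct.includeLeft : R →ₐ[k] R ⊗[k] B).toRingHom = p₀) :
    ∃ χ : p₀.ResidueField ⊗[k] B →ₐ[k] P.ResidueField,
      χ.comp (toFibre p₀ B) = IsScalarTower.toAlgHom k (R ⊗[k] B) P.ResidueField := by
  let ι := Ideal.ResidueField.mapₐ p₀ P (Algebra.TensorProduct.includeLeft : R →ₐ[k] R ⊗[k] B) h.symm
  refine ⟨Algebra.TensorProduct.lift ι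
    ((IsScalarTower.toAlgHom k (R ⊗[k] B) P.ResidueField).comp Algebra.TensorProduct.includeRight)
    (fun _ _ => Commute.all _ _), Algebra.TensorProduct.ext (AlgHom.ext fun r => ?_) (AlgHom.ext fun b => ?_)⟩
  · simp [toFibre, ι, ← Algebra.TensorProduct.one_def]
  · simp [toFibre]

theorem comap_toFibre_includeLeft (P : Ideal (p₀.ResidueField ⊗[k] B)) [P.IsPrime] :
    (P.comap (toFibre p₀ B).toRingHom).comap (Algebra.TensorProduct.includeLeft : R →ₐ[k] R ⊗[k] B).toRingHom =
      p₀ := by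
  ext r
  have hP : P.comap (Algebra.TensorProduct.includeLeft : p₀.ResidueField →ₐ[k] _).toRingHom = ⊥ :=
    Ideal.eq_bot_of_prime _
  have h1 : ((algebraMap R p₀.ResidueField r) ⊗ₜ[k] (1 : B)) ∈ P ↔ algebraMap R p₀.ResidueField r = 0 := by
    rw [← Ideal.mem_bot, ← hP]
    rfl
  rw [Ideal.mem_comap, Ideal.mem_comap]
  show toFibre p₀ B (r ⊗ₜ[k] (1 : B)) ∈ P ↔ _
  rw [Algebra.TensorProduct.map_tmul, map_one, IsScalarTower.coe_toAlgHom', h1,
    Ideal.algebraMap_residueField_eq_zero]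

theorem exists_denom (z : p₀.ResidueField ⊗[k] B) :
    ∃ r ∉ p₀, ∃ w : R ⊗[k] B, toFibre p₀ B (r ⊗ₜ[k] (1 : B)) * z = toFibre p₀ B w := by
  induction z using TensorProduct.induction_on with
  | zero => exact ⟨1, fun h => Ideal.IsPrime.ne_top' ((Ideal.eq_top_iff_one _).2 h), 0, by rw [map_zero, mul_zero]⟩
  | tmul c b =>
    obtain ⟨⟨x, r⟩, hxr⟩ := IsLocalization.surj (nonZeroDivisors (R ⧸ p₀)) c
    obtain ⟨x, rfl⟩ := Ideal.Quotient.mk_surjective x
    obtain ⟨r', hr'⟩ := Ideal.Quotient.mk_surjective r.1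
    refine ⟨r', fun h => nonZeroDivisors.ne_zero r.2 (hr' ▸ Ideal.Quotient.eq_zero_iff_mem.2 h), x ⊗ₜ b, ?_⟩
    rw [Algebra.TensorProduct.map_tmul, Algebra.TensorProduct.map_tmul, Algebra.TensorProduct.tmul_mul_tmul,
      map_one, one_mul, IsScalarTower.coe_toAlgHom', AlgHom.coe_id, id, mul_comm]
    simp only [← hr', Ideal.algebraMap_quotient_residueField_mk] at hxr
    rw [hxr]
  | add x y hx hy =>
    obtain ⟨r, hr, w, hw⟩ := hx
    obtain ⟨r', hr', w', hw'⟩ := hy
    refine ⟨r * r', fun h => (Ideal.IsPrime.mem_or_mem inferInstance h).elim hr hr',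
      (r' ⊗ₜ[k] (1 : B)) * w + (r ⊗ₜ[k] (1 : B)) * w', ?_⟩
    rw [map_add, map_mul, map_mul, ← hw, ← hw', show (r * r') ⊗ₜ[k] (1 : B) = (r ⊗ₜ[k] (1 : B)) * (r' ⊗ₜ[k] 1) by
      rw [Algebra.TensorProduct.tmul_mul_tmul, mul_one], map_mul]
    ring

theorem comap_toFibre_injective {P P' : Ideal (p₀.ResidueField ⊗[k] B)} [P.IsPrime] [P'.IsPrime]
    (h : P.comap (toFibre p₀ B).toRingHom = P'.comap (toFibre p₀ B).toRingHom) : P = P' := by
  suffices key : ∀ {P P' : Ideal (p₀.ResidueField ⊗[k] B)} [P'.IsPrime],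
      P.comap (toFibre p₀ B).toRingHom = P'.comap (toFibre p₀ B).toRingHom → P ≤ P' from
    le_antisymm (key h) (key h.symm)
  intro P P' _ h z hz
  obtain ⟨r, hr, w, hw⟩ := exists_denom z
  have hw' : w ∈ P'.comap (toFibre p₀ B).toRingHom := by
    rw [← h, Ideal.mem_comap]
    show toFibre p₀ B w ∈ P
    rw [← hw]
    exact P.mul_mem_left _ hz
  refine ((Ideal.IsPrime.mem_or_mem inferInstance (hw ▸ hw' : toFibre p₀ B (r ⊗ₜ[k] (1 : B)) * z ∈ P')).resolve_left
    fun hmem => hr ?_)
  exact (comap_toFibre_includeLeft P').le hmem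

/-- If only one prime lies over `p₀`, the fibre has irreducible spectrum. -/
theorem isPrime_nilradical_fibre [Nontrivial (p₀.ResidueField ⊗[k] B)]
    (h : ∀ P P' : Ideal (R ⊗[k] B), P.IsPrime → P'.IsPrime →
      P.comap (Algebra.TensorProduct.includeLeft : R →ₐ[k] R ⊗[k] B).toRingHom = p₀ →
      P'.comap (Algebra.TensorProduct.includeLeft : R →ₐ[k] R ⊗[k] B).toRingHom = p₀ → P = P') :
    (nilradical (p₀.ResidueField ⊗[k] B)).IsPrime := by
  obtain ⟨P, hP⟩ := Ideal.exists_maximal (p₀.ResidueField ⊗[k] B)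
  haveI : P.IsPrime := hP.isPrime
  have : nilradical (p₀.ResidueField ⊗[k] B) = P := by
    refine le_antisymm (nilradical_le_prime P) fun z hz => mem_nilradical.2 (nilpotent_iff_mem_prime.2 fun J hJ => ?_)
    haveI := hJ
    rwa [comap_toFibre_injective (P := J) (P' := P) (h _ _ (Ideal.IsPrime.comap _) (Ideal.IsPrime.comap _)
      (comap_toFibre_includeLeft J) (comap_toFibre_includeLeft P))]
  rw [this]
  infer_instance

theorem eq_of_le_of_comap {K' : Type u} [Field K'] [Algebra k K'] [Algebra.IsAlgebraic k K']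
    {P P' : Ideal (R ⊗[k] K')} [P.IsPrime] (hle : P ≤ P')
    (h : P.comap (algebraMap R (R ⊗[k] K')) = P'.comap (algebraMap R (R ⊗[k] K'))) : P = P' := by
  refine le_antisymm hle fun x hx => ?_
  by_contra hxP
  haveI : Algebra.IsIntegral k K' := Algebra.IsAlgebraic.isIntegral
  exact absurd h (Ideal.comap_lt_comap_of_integral_mem_sdiff hle ⟨hx, hxP⟩
    (Algebra.IsIntegral.isIntegral x)).ne

end Fibre

section Field

attribute [local instance] Algebra.TensorProduct.rightAlgebra

variable (kbar : Type u) [Field kbar] [Algebra k kbar] [IsAlgClosure k kbar]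
variable (K : Type u) [Field K] [Algebra k K]

/-- The reduced geometric fibre of a field. -/
abbrev geomRed : Type u := (K ⊗[k] kbar) ⧸ nilradical (K ⊗[k] kbar)

variable (k) {L : Type u} [Field L] [Algebra k L]

theorem exists_tensor_data (hK : (nilradical (K ⊗[k] kbar)).IsPrime) (L : Type u) [Field L] [Algebra k L] :
    ∃ (M : Type u) (_ : Field M) (_ : Algebra k M) (_ : Algebra L M) (_ : Algebra kbar M)
      (_ : IsScalarTower k L M) (_ : IsScalarTower k kbar M) (_ : IsAlgClosed M) (_ : Algebra.IsAlgebraic L M)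
      (_ : IsDomain (M ⊗[kbar] geomRed (k := k) kbar K)) (Φ : L ⊗[k] K →ₐ[k] M ⊗[kbar] geomRed (k := k) kbar K),
      (∀ l x, Φ (l ⊗ₜ x) = algebraMap L M l ⊗ₜ Ideal.Quotient.mk _ (x ⊗ₜ[k] (1 : kbar))) ∧
      RingHom.ker Φ = nilradical (L ⊗[k] K) := by
  haveI : IsAlgClosed kbar := IsAlgClosure.isAlgClosed k
  haveI : Algebra.IsAlgebraic k kbar := IsAlgClosure.isAlgebraic
  let M := AlgebraicClosure L
  let j₀ : kbar →ₐ[k] M := IsAlgClosed.lift
  letI : Algebra kbar M := j₀.toRingHom.toAlgebra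
  haveI : IsScalarTower k kbar M := IsScalarTower.of_algebraMap_eq fun r => (j₀.commutes r).symm
  haveI := hK
  haveI : IsDomain (geomRed (k := k) kbar K) := Ideal.Quotient.isDomain _
  haveI hd : IsDomain (M ⊗[kbar] geomRed (k := k) kbar K) :=
    Groth.L25.GeomIrred.isDomain_tensorProduct (k := kbar) (A := M) (B := geomRed (k := k) kbar K)
  letI := (inferInstance : CommRing (M ⊗[kbar] geomRed (k := k) kbar K))
  let Φ : L ⊗[k] K →ₐ[k] M ⊗[kbar] geomRed (k := k) kbar K := Algebra.TensorProduct.lift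
    ((Algebra.TensorProduct.includeLeft : M →ₐ[k] M ⊗[kbar] geomRed (k := k) kbar K).comp
      (IsScalarTower.toAlgHom k L M))
    (((Algebra.TensorProduct.includeRight : geomRed (k := k) kbar K →ₐ[kbar] M ⊗[kbar] geomRed (k := k) kbar K).restrictScalars k).comp
      ((Ideal.Quotient.mkₐ k _).comp Algebra.TensorProduct.includeLeft))
    (fun _ _ => by rw [commute_iff_eq]; exact mul_comm _ _)
  have hΦ : ∀ l x, Φ (l ⊗ₜ x) = algebraMap L M l ⊗ₜ Ideal.Quotient.mk _ (x ⊗ₜ[k] (1 : kbar)) := fun l x => by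
    simp [Φ, Algebra.TensorProduct.tmul_mul_tmul]
  refine ⟨M, inferInstance, inferInstance, inferInstance, inferInstance, inferInstance, inferInstance,
    inferInstance, inferInstance, hd, Φ, hΦ, le_antisymm (fun z hz => mem_nilradical.2 ?_) fun z hz => ?_⟩
  · refine nilpotent_iff_mem_prime.2 fun P hP => ?_
    haveI := hP
    let Ω := AlgebraicClosure P.ResidueField
    let χ : L ⊗[k] K →ₐ[k] Ω := (IsScalarTower.toAlgHom k P.ResidueField Ω).comp
      (IsScalarTower.toAlgHom k (L ⊗[k] K) P.ResidueField)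
    let γ := χ.comp Algebra.TensorProduct.includeRight
    let j : M →ₐ[L] Ω := IsAlgClosed.lift
    let jk : M →ₐ[k] Ω := j.restrictScalars k
    let β : kbar →ₐ[k] Ω := jk.comp (IsScalarTower.toAlgHom k kbar M)
    letI : Algebra kbar Ω := β.toRingHom.toAlgebra
    haveI : IsScalarTower k kbar Ω := IsScalarTower.of_algebraMap_eq fun r => (β.commutes r).symm
    let d₀ : K ⊗[k] kbar →ₐ[kbar] Ω :=
      { Algebra.TensorProduct.lift γ β (fun _ _ => Commute.all _ _) with
        commutes' := fun r => by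
          show Algebra.TensorProduct.lift γ β (fun _ _ => Commute.all _ _) ((1 : K) ⊗ₜ[k] r) = β r
          rw [Algebra.TensorProduct.lift_tmul, map_one, one_mul] }
    let d : geomRed (k := k) kbar K →ₐ[kbar] Ω := Ideal.Quotient.liftₐ _ d₀ fun x hx =>
      ((mem_nilradical.1 hx).map d₀).eq_zero
    let jK : M →ₐ[kbar] Ω := { jk with commutes' := fun r => rfl }
    let θ : M ⊗[kbar] geomRed (k := k) kbar K →ₐ[kbar] Ω :=
      Algebra.TensorProduct.lift jK d (fun _ _ => Commute.all _ _)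
    have key : ∀ w, θ (Φ w) = χ w := by
      intro w
      induction w using TensorProduct.induction_on with
      | zero => simp
      | tmul l x =>
        rw [hΦ, Algebra.TensorProduct.lift_tmul]
        show j (algebraMap L M l) * d₀ (x ⊗ₜ[k] (1 : kbar)) = _
        rw [j.commutes]
        show χ (l ⊗ₜ 1) * Algebra.TensorProduct.lift γ β (fun _ _ => Commute.all _ _) (x ⊗ₜ[k] (1 : kbar)) = _
        rw [Algebra.TensorProduct.lift_tmul, map_one, mul_one]
        show χ (l ⊗ₜ 1) * χ (1 ⊗ₜ x) = _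
        rw [← map_mul, Algebra.TensorProduct.tmul_mul_tmul, one_mul, mul_one]
      | add a b ha hb => simp only [map_add, ha, hb]
    have h0 : χ z = 0 := by rw [← key, RingHom.mem_ker.1 hz, map_zero]
    refine Ideal.algebraMap_residueField_eq_zero.1 ((algebraMap P.ResidueField Ω).injective ?_)
    rw [map_zero]
    exact h0
  · exact RingHom.mem_ker.2 ((mem_nilradical.1 hz).map Φ).eq_zero

/-- A geometrically irreducible field has irreducible tensor products with all fields. -/
theorem isPrime_nilradical_tensor (hK : (nilradical (K ⊗[k] kbar)).IsPrime) (L : Type u) [Field L] [Algebra k L] :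
    (nilradical (L ⊗[k] K)).IsPrime := by
  obtain ⟨M, _, _, _, _, _, _, _, _, _, Φ, -, hΦ⟩ := exists_tensor_data k kbar K hK L
  rw [← hΦ]
  exact RingHom.ker_isPrime _

/-- A non-nilpotent element of `L ⊗ A` avoids all conjugates of some algebraic point. -/
theorem exists_avoiding (hK : (nilradical (K ⊗[k] kbar)).IsPrime) {A : Type u} [CommRing A] [Algebra k A]
    [Algebra.FiniteType k A] (ι : A →ₐ[k] K) (hι : Function.Injective ι) {h : L ⊗[k] A}
    (hh : ¬ IsNilpotent (Algebra.TensorProduct.map (AlgHom.id k L) ι h)) :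
    ∃ σ : A →ₐ[k] kbar, ∀ w : PrimeSpectrum (L ⊗[k] kbar),
      Algebra.TensorProduct.map (AlgHom.id k L) σ h ∉ w.asIdeal := by
  classical
  haveI : IsAlgClosed kbar := IsAlgClosure.isAlgClosed k
  haveI : Algebra.IsAlgebraic k kbar := IsAlgClosure.isAlgebraic
  haveI : IsDomain A := hι.isDomain ι.toRingHom
  obtain ⟨M, _, _, _, _, _, _, _, _, _, Φ, hΦ, hker⟩ := exists_tensor_data k kbar K hK L
  let b := Module.Free.chooseBasis kbar M
  let e := TensorProduct.equivFinsuppOfBasisLeft b (N := geomRed (k := k) kbar K)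
  have hne : Φ (Algebra.TensorProduct.map (AlgHom.id k L) ι h) ≠ 0 := fun h0 =>
    hh (mem_nilradical.1 (hker ▸ RingHom.mem_ker.2 h0))
  obtain ⟨i, hi⟩ : ∃ i, e (Φ (Algebra.TensorProduct.map (AlgHom.id k L) ι h)) i ≠ 0 := by
    by_contra! hc
    exact hne (e.injective ((Finsupp.ext hc).trans (map_zero e).symm))
  let f : L →ₗ[k] kbar := ((b.coord i).restrictScalars k).comp (IsScalarTower.toAlgHom k L M).toLinearMap
  let r : A ⊗[k] kbar := Algebra.TensorProduct.comm k kbar A (f.rTensor A h)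
  let q : A ⊗[k] kbar →ₐ[k] geomRed (k := k) kbar K :=
    (Ideal.Quotient.mkₐ k _).comp (Algebra.TensorProduct.map ι (AlgHom.id k kbar))
  have hinjι : Function.Injective (Algebra.TensorProduct.map ι (AlgHom.id k kbar)) :=
    Module.Flat.rTensor_preserves_injective_linearMap (M := kbar) ι.toLinearMap hι
  have hsmul : ∀ (c : kbar) (x : K), c • Ideal.Quotient.mk (nilradical (K ⊗[k] kbar)) (x ⊗ₜ[k] (1 : kbar)) =
      Ideal.Quotient.mk _ (x ⊗ₜ[k] c) := fun c x => by
    rw [Algebra.smul_def]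
    show Ideal.Quotient.mk _ ((1 : K) ⊗ₜ[k] c) * _ = _
    rw [← map_mul, Algebra.TensorProduct.tmul_mul_tmul, one_mul, mul_one]
  have hqr : ∀ z : L ⊗[k] A, q (Algebra.TensorProduct.comm k kbar A (f.rTensor A z)) =
      e (Φ (Algebra.TensorProduct.map (AlgHom.id k L) ι z)) i := by
    intro z
    induction z using TensorProduct.induction_on with
    | zero => simp
    | tmul l a =>
      rw [LinearMap.rTensor_tmul, Algebra.TensorProduct.comm_tmul, Algebra.TensorProduct.map_tmul, hΦ,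
        TensorProduct.equivFinsuppOfBasisLeft_apply_tmul_apply, hsmul]
      rfl
    | add x y hx hy => simp only [map_add, Finsupp.add_apply, hx, hy]
  have hqr0 : q r ≠ 0 := by rw [hqr]; exact hi
  -- the image of `A ⊗ kbar`
  let 𝔭 : Ideal (A ⊗[k] kbar) := RingHom.ker q
  haveI := hK
  haveI : IsDomain (geomRed (k := k) kbar K) := Ideal.Quotient.isDomain _
  haveI : 𝔭.IsPrime := RingHom.ker_isPrime _
  haveI : Algebra.IsIntegral k kbar := Algebra.IsAlgebraic.isIntegral
  haveI : Algebra.IsIntegral A ((A ⊗[k] kbar) ⧸ 𝔭) := ⟨fun x => by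
    obtain ⟨x, rfl⟩ := Ideal.Quotient.mk_surjective x
    exact (Algebra.IsIntegral.isIntegral (R := A) x).map (Ideal.Quotient.mkₐ A 𝔭)⟩
  obtain ⟨G, hG, hdvd⟩ := (Algebra.IsIntegral.isIntegral (R := A)
      (Ideal.Quotient.mk 𝔭 r)).isAlgebraic.exists_nonzero_dvd (mem_nonZeroDivisors_of_ne_zero fun h0 =>
    hqr0 (RingHom.mem_ker.1 (Ideal.Quotient.eq_zero_iff_mem.1 h0)))
  obtain ⟨s, hs⟩ := hdvd
  obtain ⟨s, rfl⟩ := Ideal.Quotient.mk_surjective s
  have hrel : IsNilpotent (G ⊗ₜ[k] (1 : kbar) - r * s) := by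
    have h1 : G ⊗ₜ[k] (1 : kbar) - r * s ∈ 𝔭 := by
      rw [← Ideal.Quotient.eq_zero_iff_mem, map_sub, map_mul, ← hs]
      exact sub_eq_zero.2 rfl
    have h2 := Ideal.Quotient.eq_zero_iff_mem.1 (RingHom.mem_ker.1 h1)
    exact (IsNilpotent.map_iff hinjι).1 (mem_nilradical.1 h2)
  -- an algebraic point avoiding `G`
  haveI : IsJacobsonRing A := isJacobsonRing_of_finiteType (A := k)
  obtain ⟨m, hm, hGm⟩ : ∃ m : Ideal A, m.IsMaximal ∧ G ∉ m := by
    by_contra! hc
    refine hG ?_
    have h1 : G ∈ (⊥ : Ideal A).jacobson := Ideal.mem_sInf.2 fun J hJ => hc J hJ.2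
    rwa [isJacobsonRing_iff.1 inferInstance ⊥ Ideal.isPrime_bot.isRadical, Ideal.mem_bot] at h1
  letI := Ideal.Quotient.field m
  haveI : Algebra.FiniteType k (A ⧸ m) :=
    Algebra.FiniteType.of_surjective (Ideal.Quotient.mkₐ k m) Ideal.Quotient.mk_surjective
  haveI : Module.Finite k (A ⧸ m) := finite_of_finite_type_of_isJacobsonRing k (A ⧸ m)
  haveI : Algebra.IsAlgebraic k (A ⧸ m) := Algebra.IsAlgebraic.of_finite _ _
  let σ : A →ₐ[k] kbar := (IsAlgClosed.lift : A ⧸ m →ₐ[k] kbar).comp (Ideal.Quotient.mkₐ k m)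
  have hσG : σ G ≠ 0 := fun h0 => hGm (Ideal.Quotient.eq_zero_iff_mem.1
    ((IsAlgClosed.lift : A ⧸ m →ₐ[k] kbar).toRingHom.injective (h0.trans (map_zero _).symm)))
  refine ⟨σ, fun w hmem => hσG ?_⟩
  let Ω := AlgebraicClosure w.asIdeal.ResidueField
  let χ : L ⊗[k] kbar →ₐ[k] Ω := (IsScalarTower.toAlgHom k w.asIdeal.ResidueField Ω).comp
    (IsScalarTower.toAlgHom k (L ⊗[k] kbar) w.asIdeal.ResidueField)
  have hχ : χ (Algebra.TensorProduct.map (AlgHom.id k L) σ h) = 0 := by
    show algebraMap w.asIdeal.ResidueField Ω (algebraMap (L ⊗[k] kbar) _ _) = 0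
    rw [Ideal.algebraMap_residueField_eq_zero.2 hmem, map_zero]
  let β := χ.comp Algebra.TensorProduct.includeRight
  let j : M →ₐ[L] Ω := IsAlgClosed.lift
  let γ₀ : kbar →ₐ[k] Ω := (j.restrictScalars k).comp (IsScalarTower.toAlgHom k kbar M)
  have hmemγ : ∀ a, (β.comp σ) a ∈ γ₀.range := by
    intro a
    have hint : IsIntegral k (σ a) := Algebra.IsIntegral.isIntegral _
    obtain ⟨x, hx⟩ := (IsAlgClosed.splits ((minpoly k (σ a)).map (algebraMap k kbar))).mem_range_of_isRoot
      ((Polynomial.map_ne_zero_iff (algebraMap k kbar).injective).2 (minpoly.ne_zero hint))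
      (i := γ₀.toRingHom) (x := β (σ a)) (by
        rw [Polynomial.map_map, show γ₀.toRingHom.comp (algebraMap k kbar) = algebraMap k Ω from γ₀.comp_algebraMap,
          Polynomial.IsRoot.def, Polynomial.eval_map, ← Polynomial.aeval_def, Polynomial.aeval_algHom_apply,
          minpoly.aeval, map_zero])
    exact ⟨x, hx⟩
  let δ : A →ₐ[k] kbar := (AlgEquiv.ofInjective γ₀ γ₀.toRingHom.injective).symm.toAlgHom.comp
    ((β.comp σ).codRestrict γ₀.range hmemγ)
  have hδ : ∀ a, γ₀ (δ a) = β (σ a) := fun a =>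
    congrArg Subtype.val ((AlgEquiv.ofInjective γ₀ γ₀.toRingHom.injective).apply_symm_apply
      ((β.comp σ).codRestrict γ₀.range hmemγ a))
  let μ : L ⊗[k] A →ₐ[k] M := Algebra.TensorProduct.lift (IsScalarTower.toAlgHom k L M)
    ((IsScalarTower.toAlgHom k kbar M).comp δ) (fun _ _ => Commute.all _ _)
  have hμ : ∀ z, j (μ z) = χ (Algebra.TensorProduct.map (AlgHom.id k L) σ z) := by
    intro z
    induction z using TensorProduct.induction_on with
    | zero => simp
    | tmul l a =>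
      rw [Algebra.TensorProduct.lift_tmul, map_mul, Algebra.TensorProduct.map_tmul]
      show j (algebraMap L M l) * γ₀ (δ a) = χ (l ⊗ₜ σ a)
      rw [j.commutes, hδ]
      show χ (l ⊗ₜ 1) * χ (1 ⊗ₜ σ a) = _
      rw [← map_mul, Algebra.TensorProduct.tmul_mul_tmul, one_mul, mul_one]
    | add a b ha hb => simp only [map_add, ha, hb]
  have hμ0 : μ h = 0 := j.toRingHom.injective ((hμ h).trans (hχ.trans (map_zero _).symm))
  let ev : A ⊗[k] kbar →ₐ[k] kbar := Algebra.TensorProduct.lift δ (AlgHom.id k kbar) (fun _ _ => Commute.all _ _)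
  have hev : ∀ z : L ⊗[k] A, ev (Algebra.TensorProduct.comm k kbar A (f.rTensor A z)) = b.repr (μ z) i := by
    intro z
    induction z using TensorProduct.induction_on with
    | zero => simp
    | tmul l a =>
      rw [LinearMap.rTensor_tmul, Algebra.TensorProduct.comm_tmul, Algebra.TensorProduct.lift_tmul,
        Algebra.TensorProduct.lift_tmul]
      show δ a * b.repr (algebraMap L M l) i = b.repr (algebraMap L M l * algebraMap kbar M (δ a)) i
      rw [mul_comm (algebraMap L M l), ← Algebra.smul_def, map_smul, Finsupp.smul_apply, smul_eq_mul]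
    | add x y hx hy => simp only [map_add, Finsupp.add_apply, hx, hy]
  have hr0 : ev r = 0 := by rw [hev, hμ0, map_zero]; rfl
  have hδG : δ G = 0 := by
    have h1 : ev (G ⊗ₜ[k] (1 : kbar) - r * s) = 0 := (hrel.map ev).eq_zero
    rw [map_sub, map_mul, hr0, zero_mul, sub_zero, Algebra.TensorProduct.lift_tmul, map_one, mul_one] at h1
    exact h1
  refine β.toRingHom.injective ?_
  show β (σ G) = β 0
  rw [← hδ, hδG, map_zero, map_zero]

end Field

end Groth.L23.GrpAlg
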