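import Groth.Agent.L23.GroupPoints
import Mathlib.RingTheory.Ideal.GoingDown

/-!
# Group spaces over fields consist of schematic points
-/

universe u

open CategoryTheory CategoryTheory.Limits AlgebraicGeometry AlgSp Topology TensorProduct MonoidalCategory MonObj
  CartesianMonoidalCategory

set_option autoImplicit false
set_option backward.isDefEq.respectTransparency.types false
set_option backward.isDefEq.respectTransparency false
set_option linter.style.haveILetI false

noncomputable section

namespace Groth.L23.GrpPts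

open Groth.L23.GConn

variable {k : Type u} [Field k]

/-- The point of a chart. -/
abbrev pc {X : Sp (Spec (CommRingCat.of k))} {R : Type u} [CommRing R] [Algebra k R]
    (a : (yon (Spec (CommRingCat.of k))).obj (specA (k := k) R) ⟶ X) (p : PrimeSpectrum R) : Points X :=
  Points.map a (Points.schemeHomeo (specA (k := k) R) p)

theorem pc_specMor {R R' : Type u} [CommRing R] [Algebra k R] [CommRing R'] [Algebra k R'] (j : R →ₐ[k] R')
    (P : PrimeSpectrum R') :
    pc ((yon (Spec (CommRingCat.of k))).map (specMor j)) P =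
      Points.schemeHomeo (specA (k := k) R) (PrimeSpectrum.comap j.toRingHom P) := by
  rw [pc, Points.map_yon_map_eq]
  simp only [Function.comp_apply]
  rw [Homeomorph.symm_apply_apply (Points.schemeHomeo (specA (k := k) R'))]
  rfl

theorem pc_specMor_comp {X : Sp (Spec (CommRingCat.of k))} {R R' : Type u} [CommRing R] [Algebra k R] [CommRing R']
    [Algebra k R'] (j : R →ₐ[k] R') (a : (yon (Spec (CommRingCat.of k))).obj (specA (k := k) R) ⟶ X)
    (P : PrimeSpectrum R') :
    pc ((yon (Spec (CommRingCat.of k))).map (specMor j) ≫ a) P = pc a (PrimeSpectrum.comap j.toRingHom P) := by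
  rw [pc, Points.map_comp]
  exact congrArg _ (pc_specMor j P)

theorem pc_bot {X : Sp (Spec (CommRingCat.of k))} {R : Type u} [CommRing R] [Algebra k R] {Ω : Type u} [Field Ω]
    [Algebra k Ω] (a : (yon (Spec (CommRingCat.of k))).obj (specA (k := k) R) ⟶ X) (χ : R →ₐ[k] Ω)
    {p : PrimeSpectrum R} (hp : p.asIdeal = RingHom.ker χ) :
    Points.map ((yon (Spec (CommRingCat.of k))).map (specMor χ) ≫ a) (pnt Ω) = pc a p := by
  refine (pc_specMor_comp χ a _).trans (congrArg (pc a) (PrimeSpectrum.ext ?_))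
  rw [hp]
  rfl

theorem exists_specA_iso (U : Over (Spec (CommRingCat.of k))) [IsAffine U.left] :
    ∃ (R : Type u) (_ : CommRing R) (_ : Algebra k R), Nonempty (specA (k := k) R ≅ U) := by
  obtain ⟨φ, hφ⟩ := Spec.map_surjective (U.left.isoSpec.inv ≫ U.hom)
  letI : Algebra k Γ(U.left, ⊤) := φ.hom.toAlgebra
  refine ⟨Γ(U.left, ⊤), inferInstance, inferInstance, ⟨Over.isoMk U.left.isoSpec.symm ?_⟩⟩
  exact hφ.symm

theorem isOpenMap_pc {X : Sp (Spec (CommRingCat.of k))} {R : Type u} [CommRing R] [Algebra k R]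
    {a : (yon (Spec (CommRingCat.of k))).obj (specA (k := k) R) ⟶ X} (ha : RepWith @IsOpenImmersion a) :
    IsOpenEmbedding (pc a) := by
  refine IsOpenEmbedding.of_continuous_injective_isOpenMap
    ((Points.continuous_map a).comp (Points.schemeHomeo (specA (k := k) R)).continuous)
    ((injective_map_of_repWith (repWith_mono (Q := (@UniversallyInjective : MorphismProperty Scheme.{u}))
      (fun f (_ : IsOpenImmersion f) => inferInstanceAs (UniversallyInjective f)) ha)).comp
        (Points.schemeHomeo (specA (k := k) R)).injective) ?_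
  exact (isOpenMap_map_of_universallyOpen
    (repWith_mono (fun f (_ : IsOpenImmersion f) => (inferInstance : UniversallyOpen f)) ha)).comp
      (Points.schemeHomeo (specA (k := k) R)).isOpenMap

/-- A point without proper generalization in an étale chart has dimension zero. -/
theorem hasAt_zero_of {X : Sp (Spec (CommRingCat.of k))} {R : Type u} [CommRing R] [Algebra k R]
    {a : (yon (Spec (CommRingCat.of k))).obj (specA (k := k) R) ⟶ X} (ha : RepWith @Etale a) {p : PrimeSpectrum R}
    (hp : ∀ q, q ⤳ p → q = p) :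
    HasAt (fun U u => ringKrullDim (U.presheaf.stalk u) = 0) X (pc a p) := by
  refine ⟨specA (k := k) R, a, p, ha, Points.ofPt_eq_map_ofScheme a p, ?_⟩
  show ringKrullDim _ = 0
  rw [ringKrullDim_stalk_eq_coheight, WithBot.coe_eq_zero, Order.coheight_eq_zero]
  intro y hy
  have hy' : y ⤳ p := hy
  have h2 := hp y hy'
  show p ⤳ y
  rw [h2]

theorem eq_of_hasAt_zero {X : Sp (Spec (CommRingCat.of k))} (hX : IsAlgSpace X) {R : Type u} [CommRing R]
    [Algebra k R] {a : (yon (Spec (CommRingCat.of k))).obj (specA (k := k) R) ⟶ X} (ha : RepWith @Etale a)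
    {p : PrimeSpectrum R} (h : HasAt (fun U u => ringKrullDim (U.presheaf.stalk u) = 0) X (pc a p))
    {q : PrimeSpectrum R} (hq : q ⤳ p) : q = p := by
  have h' : HasAt (fun U u => ringKrullDim (U.presheaf.stalk u) = 0) X (Points.ofPt a p) := by
    rw [Points.ofPt_eq_map_ofScheme]; exact h
  have h0 := (Pt.hasAt_stalkDim_iff hX ha p (fun d => d = 0)).1 h'
  rw [ringKrullDim_stalk_eq_coheight, WithBot.coe_eq_zero, Order.coheight_eq_zero] at h0
  exact (hq.antisymm (h0 hq)).eq

theorem repWith_chartA {X : Sp (Spec (CommRingCat.of k))} {R : Type u} [CommRing R] [Algebra k R]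
    {a : (yon (Spec (CommRingCat.of k))).obj (specA (k := k) R) ⟶ X} {P : MorphismProperty Scheme.{u}}
    [P.IsStableUnderBaseChange] [P.RespectsIso] (ha : RepWith P a) (B : Type u) [CommRing B] [Algebra k B] :
    RepWith P (PureTr.chartA a B) :=
  repWith_of_isPullback (PureTr.isPullback_chartA a B) ha

theorem fst_pc_chartA {X : Sp (Spec (CommRingCat.of k))} {R : Type u} [CommRing R] [Algebra k R]
    (a : (yon (Spec (CommRingCat.of k))).obj (specA (k := k) R) ⟶ X) (B : Type u) [CommRing B] [Algebra k B]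
    (P : PrimeSpectrum (R ⊗[k] B)) :
    Points.map prod.fst (pc (PureTr.chartA a B) P) =
      pc a (PrimeSpectrum.comap (Algebra.TensorProduct.includeLeft : R →ₐ[k] R ⊗[k] B).toRingHom P) := by
  rw [← Points.map_comp, ← (PureTr.isPullback_chartA a B).w]
  exact pc_specMor_comp _ a P

variable {G : Over (pt k)} [GrpObj G]

/-- A point of dimension zero generalizing the unit. -/
theorem exists_minimal_unit (hG : IsAlgSpace G.left) (hqs : IsQuasiSeparatedSp G.left) :
    ∃ (R : Type u) (_ : CommRing R) (_ : Algebra k R)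
      (a₀ : (yon (Spec (CommRingCat.of k))).obj (specA (k := k) R) ⟶ G.left) (p₀ : PrimeSpectrum R),
      RepWith @IsOpenImmersion a₀ ∧ (∀ q, q ⤳ p₀ → q = p₀) ∧
      pc a₀ p₀ ⤳ Points.map (pone G (pt k)) (Points.schemeHomeo (Over.mk (𝟙 (Spec (CommRingCat.of k)))) (⊥ : PrimeSpectrum k)) := by
  classical
  let X : Space (Spec (CommRingCat.of k)) := ⟨G.left, hG⟩
  let e := Points.map (pone G (pt k)) (Points.schemeHomeo (Over.mk (𝟙 (Spec (CommRingCat.of k)))) (⊥ : PrimeSpectrum k))
  obtain ⟨W, a, hW, ha, hx⟩ := exists_affine_etale_nhd hG e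
  obtain ⟨w, hw⟩ := hx
  haveI := hW
  obtain ⟨gp, hgp⟩ := QuasiSober.sober (isIrreducible_irreducibleComponent (x := w))
    isClosed_irreducibleComponent
  have hgw : gp ⤳ w := specializes_iff_mem_closure.2 (by rw [hgp.def]; exact mem_irreducibleComponent)
  have h0 : HasAt (fun U u => ringKrullDim (U.presheaf.stalk u) = 0) G.left (Points.ofPt a gp) := by
    refine ⟨W, a, gp, ha, rfl, ?_⟩
    show ringKrullDim _ = 0
    rw [ringKrullDim_stalk_eq_coheight, WithBot.coe_eq_zero, Order.coheight_eq_zero]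
    intro y hy
    have hy' : y ⤳ gp := hy
    have hC := irreducibleComponent_mem_irreducibleComponents w
    have hsub : irreducibleComponent w ⊆ closure {y} := by
      rw [← hgp.def]
      exact hy'.closure_subset
    have hC' := hC.2 (isIrreducible_singleton.closure) hsub
    exact (specializes_iff_mem_closure.2 (by rw [hgp.def]; exact hC' (subset_closure rfl)) : gp ⤳ y)
  obtain ⟨A, a₁, t, ha₁, hat⟩ := SL.schemePt_qs hG hqs h0
  obtain ⟨V, hV, htV, -⟩ := exists_isAffineOpen_mem_and_subset (U := (⊤ : A.left.Opens)) (x := t) trivial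
  haveI : IsAffine (openOver A V).left := hV
  obtain ⟨R, _, _, ⟨i⟩⟩ := exists_specA_iso (openOver A V)
  let a₀ : (yon (Spec (CommRingCat.of k))).obj (specA (k := k) R) ⟶ G.left :=
    (yon _).map (i.hom ≫ openOverι A V) ≫ a₁
  have ha₀ : RepWith @IsOpenImmersion a₀ := by
    haveI : IsIso i.hom.left := inferInstanceAs (IsIso ((Over.forget _).map i.hom))
    haveI : IsOpenImmersion (openOverι A V).left := inferInstanceAs (IsOpenImmersion V.ι)
    exact repWith_comp (repWith_map (show IsOpenImmersion (i.hom.left ≫ (openOverι A V).left) from inferInstance)) ha₁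
  let p₀ : PrimeSpectrum R := i.inv.left (⟨t, htV⟩ : V)
  have hp : pc a₀ p₀ = Points.ofPt a gp := by
    rw [← hat, Points.ofPt_eq_map_ofScheme a₁ t]
    refine (Points.map_comp _ _ _).trans (congrArg (Points.map a₁) ?_)
    rw [Points.map_yon_map_eq]
    simp only [Function.comp_apply]
    rw [Homeomorph.symm_apply_apply (Points.schemeHomeo (specA (k := k) R))]
    refine congrArg (Points.schemeHomeo A) ?_
    show ((i.inv ≫ i.hom) ≫ openOverι A V).left (⟨t, htV⟩ : V) = t
    rw [i.inv_hom_id, Category.id_comp]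
    rfl
  refine ⟨R, inferInstance, inferInstance, a₀, p₀, ha₀, fun q hq => ?_, ?_⟩
  · exact eq_of_hasAt_zero hG (repWith_mono (Q := (@Etale : MorphismProperty Scheme.{u}))
      (fun f (_ : IsOpenImmersion f) => inferInstanceAs (Etale f)) ha₀) (hp.symm ▸ h0) hq
  · rw [hp]
    exact (hgw.map (Points.continuous_ofPt a)).trans (hw ▸ specializes_rfl)

theorem isPullback_unit (kbar : Type u) [Field kbar] [Algebra k kbar] :
    IsPullback ((isTerminalPt k).from (ext (k := k) kbar)) (prod.lift (pone G (ext (k := k) kbar)) (𝟙 _))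
      (pone G (pt k)) (prod.fst : G.left ⨯ ext (k := k) kbar ⟶ G.left) := by
  refine IsPullback.mk' (by rw [prod.lift_fst, comp_pone]) (fun T l l' _ h2 => ?_) fun T c b e => ?_
  · have h3 := congrArg (· ≫ prod.snd) h2
    simpa using h3
  · refine ⟨b ≫ prod.snd, (isTerminalPt k).hom_ext _ _, prod.hom_ext ?_ ?_⟩
    · rw [Category.assoc, prod.lift_fst, ← e, Category.assoc, comp_pone, comp_pone, comp_pone]
    · rw [Category.assoc, prod.lift_snd, Category.comp_id]

theorem isPrime_nilradical_unit {R : Type u} [CommRing R] [Algebra k R]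
    {a₀ : (yon (Spec (CommRingCat.of k))).obj (specA (k := k) R) ⟶ G.left} {p₀ : PrimeSpectrum R}
    (ha₀ : RepWith @IsOpenImmersion a₀) (hmin : ∀ q, q ⤳ p₀ → q = p₀)
    (hgen : pc a₀ p₀ ⤳ Points.map (pone G (pt k)) (Points.schemeHomeo (Over.mk (𝟙 (Spec (CommRingCat.of k)))) (⊥ : PrimeSpectrum k)))
    (kbar : Type u) [Field kbar] [Algebra k kbar] [IsAlgClosed kbar] [Algebra.IsAlgebraic k kbar] :
    (nilradical (p₀.asIdeal.ResidueField ⊗[k] kbar)).IsPrime := by
  classical
  haveI : Nontrivial (p₀.asIdeal.ResidueField ⊗[k] kbar) :=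
    (Algebra.TensorProduct.includeRight_injective (algebraMap k p₀.asIdeal.ResidueField).injective :
      Function.Injective (Algebra.TensorProduct.includeRight : kbar → p₀.asIdeal.ResidueField ⊗[k] kbar)).nontrivial
  let a := PureTr.chartA a₀ kbar
  have ha : RepWith @IsOpenImmersion a := repWith_chartA ha₀ kbar
  let eY := Points.map (prod.lift (pone G (ext (k := k) kbar)) (𝟙 _)) (pnt kbar)
  have key : ∀ (P : PrimeSpectrum (R ⊗[k] kbar)),
      PrimeSpectrum.comap (Algebra.TensorProduct.includeLeft : R →ₐ[k] R ⊗[k] kbar).toRingHom P = p₀ →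
      pc a P ⤳ eY ∧ ∀ y, y ⤳ pc a P → y = pc a P := by
    intro P hP
    refine ⟨?_, fun y hy => ?_⟩
    · have hfst : Points.map prod.fst (pc a P) = pc a₀ p₀ := by rw [fst_pc_chartA, hP]
      have hcl := PureTr.isClosedMap_fst (k' := kbar) G.left _ (isClosed_closure (s := {pc a P}))
      obtain ⟨z, hz, hze⟩ := (hfst ▸ hgen).mem_closed hcl ⟨_, subset_closure rfl, rfl⟩
      obtain ⟨r, -, rfl⟩ := exists_of_isPullback (isPullback_unit (G := G) kbar) _ z hze.symm
      rw [subsingleton_points kbar r (pnt kbar)] at hz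
      exact specializes_iff_mem_closure.2 hz
    · obtain ⟨Q, rfl⟩ := hy.mem_open (isOpenMap_pc ha).isOpen_range ⟨P, rfl⟩
      have hQP : Q ⤳ P := (isOpenMap_pc ha).isInducing.specializes_iff.1 hy
      have h1 := hmin _ (hP ▸ hQP.map (PrimeSpectrum.continuous_comap _))
      refine congrArg (pc a) (PrimeSpectrum.ext ?_)
      exact GrpAlg.eq_of_le_of_comap ((PrimeSpectrum.le_iff_specializes Q P).2 hQP)
        (congrArg PrimeSpectrum.asIdeal (h1.trans hP.symm))
  refine GrpAlg.isPrime_nilradical_fibre fun P P' hP hP' h h' => ?_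
  obtain ⟨h1, h2⟩ := key ⟨P, hP⟩ (PrimeSpectrum.ext h)
  obtain ⟨h1', h2'⟩ := key ⟨P', hP'⟩ (PrimeSpectrum.ext h')
  exact congrArg PrimeSpectrum.asIdeal ((isOpenMap_pc ha).injective (eq_of_generalize h1 h1' h2 h2'))

set_option maxHeartbeats 1600000 in
theorem schemePt_of_field (G : Over (pt k)) [GrpObj G] (hG : IsAlgSpace G.left)
    (hqs : IsQuasiSeparatedSp G.left) (x : Points G.left) : SL.SchemePt x := by
  classical
  let S₀ := Spec (CommRingCat.of k)
  let X : Space S₀ := ⟨G.left, hG⟩
  obtain ⟨R, _, _, a₀, p₀, ha₀, hmin, hgen⟩ := exists_minimal_unit (G := G) hG hqs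
  let kbar := AlgebraicClosure k
  have hK := isPrime_nilradical_unit ha₀ hmin hgen kbar
  let K := p₀.asIdeal.ResidueField
  obtain ⟨W, j, hj, hWqc, hWqs, w₀, hw₀⟩ := FieldLim.exists_qcqs_nhd X hqs x
  subst hw₀
  obtain ⟨⟨L, str, val⟩, rfl⟩ := Points.mk_surjective w₀
  obtain ⟨φ, rfl⟩ := Spec.map_surjective str
  letI : Algebra k L := φ.hom.toAlgebra
  let xp : FieldPt W.obj := ⟨L, Spec.map φ, val⟩
  let xW : (yon S₀).obj (specA (k := k) L) ⟶ W.obj := xp.toHom
  have hxW : ∀ r : Points ((yon S₀).obj (specA (k := k) L)), Points.map xW r = Points.mk xp := by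
    intro r
    obtain ⟨t, rfl⟩ := (Points.schemeHomeo _).surjective r
    rw [← Points.ofPt_toHom xp t]
    exact (Points.ofPt_eq_map_ofScheme xW t).symm
  let xL : ext (k := k) L ⟶ G.left := xW ≫ j.hom
  -- the generic point of the fibre
  haveI hKL : (nilradical (K ⊗[k] L)).IsPrime := by
    exact Groth.L02.SepClosedTensor.isPrime_nilradical_of_injective
      (Algebra.TensorProduct.comm k K L).toAlgHom.toRingHom (Algebra.TensorProduct.comm k K L).injective
      (GrpAlg.isPrime_nilradical_tensor k kbar K hK L)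
  let Ω := (nilradical (K ⊗[k] L)).ResidueField
  let χ : K ⊗[k] L →ₐ[k] Ω := IsScalarTower.toAlgHom k (K ⊗[k] L) Ω
  let jK : K →ₐ[k] Ω := χ.comp Algebra.TensorProduct.includeLeft
  let jL : L →ₐ[k] Ω := χ.comp Algebra.TensorProduct.includeRight
  let χR : R ⊗[k] L →ₐ[k] Ω := χ.comp (GrpAlg.toFibre p₀.asIdeal L)
  let Q₀ : PrimeSpectrum (R ⊗[k] L) := ⟨RingHom.ker χR, RingHom.ker_isPrime _⟩
  have hQ₀ : ∀ Q, Q ⤳ Q₀ → Q = Q₀ := by
    intro Q hQ
    have hle : Q.asIdeal ≤ Q₀.asIdeal := (PrimeSpectrum.le_iff_specializes Q Q₀).2 hQ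
    refine PrimeSpectrum.ext (le_antisymm hle fun z hz => ?_)
    have hQ₀c : (Q₀.asIdeal).comap (Algebra.TensorProduct.includeLeft : R →ₐ[k] R ⊗[k] L).toRingHom =
        p₀.asIdeal := by
      ext r
      show χ (GrpAlg.toFibre p₀.asIdeal L (r ⊗ₜ[k] (1 : L))) = 0 ↔ _
      rw [Algebra.TensorProduct.map_tmul, map_one]
      show jK (algebraMap R K r) = 0 ↔ _
      rw [map_eq_zero, Ideal.algebraMap_residueField_eq_zero]
    have hc : Q.asIdeal.comap (Algebra.TensorProduct.includeLeft : R →ₐ[k] R ⊗[k] L).toRingHom = p₀.asIdeal := by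
      exact congrArg PrimeSpectrum.asIdeal (hmin
        (PrimeSpectrum.comap (Algebra.TensorProduct.includeLeft : R →ₐ[k] R ⊗[k] L).toRingHom Q)
        ((PrimeSpectrum.le_iff_specializes _ _).1 ((Ideal.comap_mono hle).trans hQ₀c.le)))
    obtain ⟨χQ, hχQ⟩ := GrpAlg.exists_factor Q.asIdeal hc
    have hn : IsNilpotent (GrpAlg.toFibre p₀.asIdeal L z) :=
      mem_nilradical.1 (Ideal.algebraMap_residueField_eq_zero.1 hz)
    refine Ideal.algebraMap_residueField_eq_zero.1 ?_
    rw [← IsScalarTower.coe_toAlgHom' k (R ⊗[k] L) Q.asIdeal.ResidueField, ← hχQ]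
    exact (hn.map χQ).eq_zero
  let qg : ext (k := k) K ⟶ G.left := (yon S₀).map (specMor (IsScalarTower.toAlgHom k R K)) ≫ a₀
  let va : ext (k := k) Ω ⟶ G.left := (yon S₀).map (specMor jK) ≫ qg
  let vW : ext (k := k) Ω ⟶ W.obj := (yon S₀).map (specMor jL) ≫ xW
  let vx : ext (k := k) Ω ⟶ G.left := vW ≫ j.hom
  -- its translate
  let bP := PureTr.chartA a₀ L ≫ (rIso xL).hom
  have hbP : RepWith @IsOpenImmersion bP := repWith_comp (repWith_chartA ha₀ L) (repWith_of_isIso _)
  have hPt : pc bP Q₀ = Points.map (prod.lift (pmul va vx) ((yon S₀).map (specMor jL))) (pnt Ω) := by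
    rw [← pc_bot bP χR rfl]
    refine congrArg (fun f => Points.map f (pnt Ω)) ?_
    have h1 : (yon S₀).map (specMor χR) ≫ PureTr.chartA a₀ L = prod.lift va ((yon S₀).map (specMor jL)) := by
      refine prod.hom_ext ?_ ?_
      · rw [Category.assoc, PureTr.chartA, prod.lift_fst, prod.lift_fst, ← Functor.map_comp_assoc, specMor_comp]
        show _ = (yon S₀).map (specMor jK) ≫ (yon S₀).map (specMor (IsScalarTower.toAlgHom k R K)) ≫ a₀
        rw [← Functor.map_comp_assoc, specMor_comp]
        congr 3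
      · rw [Category.assoc, PureTr.chartA, prod.lift_snd, prod.lift_snd, ← Functor.map_comp, specMor_comp]
        congr 2
        exact AlgHom.ext fun r => by
          show χ (GrpAlg.toFibre p₀.asIdeal L ((1 : R) ⊗ₜ[k] r)) = χ ((1 : K) ⊗ₜ[k] r)
          rw [Algebra.TensorProduct.map_tmul, map_one]
          rfl
    show _ ≫ _ ≫ rHom xL = _
    rw [← Category.assoc, h1, lift_rHom]
    refine congrArg₂ prod.lift (congrArg (pmul va) ?_) rfl
    exact (Category.assoc _ _ _).symm
  let m := Points.map (pmul va vx) (pnt Ω)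
  have hm0 : HasAt (fun U u => ringKrullDim (U.presheaf.stalk u) = 0) G.left m := by
    obtain ⟨U, b, hU, hb, hmb⟩ := exists_affine_etale_nhd hG m
    haveI := hU
    obtain ⟨R', _, _, ⟨i⟩⟩ := exists_specA_iso U
    let b' := (yon S₀).map i.hom ≫ b
    have hb' : RepWith @Etale b' := by
      haveI : IsIso i.hom.left := inferInstanceAs (IsIso ((Over.forget _).map i.hom))
      exact repWith_comp (repWith_map (inferInstanceAs (Etale i.hom.left))) hb
    obtain ⟨u, hu⟩ := hmb
    let w : PrimeSpectrum R' := i.inv.left u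
    have hw : pc b' w = m := by
      rw [← hu, Points.ofPt_eq_map_ofScheme]
      refine (Points.map_comp _ _ _).trans (congrArg (Points.map b) ?_)
      rw [Points.map_yon_map_eq]
      simp only [Function.comp_apply]
      rw [Homeomorph.symm_apply_apply (Points.schemeHomeo (specA (k := k) R'))]
      refine congrArg (Points.schemeHomeo U) ?_
      show (i.inv ≫ i.hom).left u = u
      rw [i.inv_hom_id]
      rfl
    have hPm : Points.map prod.fst (pc bP Q₀) = m := by rw [hPt, ← Points.map_comp, prod.lift_fst]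
    obtain ⟨q, hq1, hq2⟩ := exists_of_isPullback (PureTr.isPullback_chartA b' L)
      (Points.schemeHomeo (specA (k := k) R') w) (pc bP Q₀) (hw.trans hPm.symm)
    obtain ⟨Q, rfl⟩ := (Points.schemeHomeo _).surjective q
    have hQw : PrimeSpectrum.comap (Algebra.TensorProduct.includeLeft : R' →ₐ[k] R' ⊗[k] L).toRingHom Q = w :=
      (Points.schemeHomeo (specA (k := k) R')).injective ((pc_specMor _ _).symm.trans hq1)
    have hY : IsAlgSpace (G.left ⨯ ext (k := k) L) :=
      isAlgSpace_of_isPullback (IsAlgSpace.yon_obj (Over.mk (𝟙 _))).diag hG (IsAlgSpace.yon_obj _)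
        (isPullback_prod_terminal (isTerminalPt k) ((isTerminalPt k).from _) ((isTerminalPt k).from _))
    have hP0 := hasAt_zero_of (repWith_mono (Q := (@Etale : MorphismProperty Scheme.{u}))
      (fun f (_ : IsOpenImmersion f) => inferInstanceAs (Etale f)) hbP) hQ₀
    rw [← hw]
    refine hasAt_zero_of hb' fun q' hq' => ?_
    have hle : q'.asIdeal ≤ w.asIdeal := (PrimeSpectrum.le_iff_specializes q' w).2 hq'
    haveI : Q.asIdeal.LiesOver w.asIdeal := ⟨(congrArg PrimeSpectrum.asIdeal hQw).symm⟩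
    obtain ⟨P', hP'le, hP', hlies⟩ := Ideal.exists_ideal_le_liesOver_of_le (S := R' ⊗[k] L) Q.asIdeal hle
    have hPQ : (⟨P', hP'⟩ : PrimeSpectrum (R' ⊗[k] L)) = Q :=
      eq_of_hasAt_zero hY (repWith_chartA hb' L) (by
        show HasAt (fun U u => ringKrullDim (U.presheaf.stalk u) = 0) _ (Points.map (PureTr.chartA b' L) _)
        rw [hq2]; exact hP0)
        ((PrimeSpectrum.le_iff_specializes _ _).1 hP'le)
    refine PrimeSpectrum.ext ?_
    rw [← hQw, hlies.over, show P' = Q.asIdeal from congrArg PrimeSpectrum.asIdeal hPQ]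
    rfl
  obtain ⟨A, a, t, ha, hat⟩ := SL.schemePt_qs hG hqs hm0
  obtain ⟨Va, hVa, htV, -⟩ := exists_isAffineOpen_mem_and_subset (U := (⊤ : A.left.Opens)) (x := t) trivial
  haveI : IsAffine (openOver A Va).left := hVa
  let a' : (yon S₀).obj (openOver A Va) ⟶ G.left := (yon S₀).map (openOverι A Va) ≫ a
  have ha' : RepWith @IsOpenImmersion a' :=
    repWith_comp (repWith_map (inferInstanceAs (IsOpenImmersion Va.ι))) ha
  have hma : m ∈ Set.range (Points.map a') := by
    refine ⟨Points.schemeHomeo (openOver A Va) (⟨t, htV⟩ : Va), ?_⟩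
    rw [← hat, Points.ofPt_eq_map_ofScheme, Points.map_comp, Points.map_yon_map_eq]
    simp only [Function.comp_apply]
    rw [Homeomorph.symm_apply_apply (Points.schemeHomeo (openOver A Va))]
    rfl
  have hφ : IsAffineHom (FieldDesc.ptMap k K).left := by
    haveI : IsAffine (Over.mk (Spec.map (CommRingCat.ofHom (algebraMap k K))) :
        Over (Spec (CommRingCat.of k))).left := inferInstanceAs (IsAffine (Spec (CommRingCat.of K)))
    haveI : IsAffine (Over.mk (𝟙 (Spec (CommRingCat.of k))) : Over (Spec (CommRingCat.of k))).left :=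
      inferInstanceAs (IsAffine (Spec (CommRingCat.of k)))
    exact isAffineHom_of_isAffine _
  have hp : RepWith @IsAffineHom (Limits.prod.fst : G.left ⨯ ext (k := k) K ⟶ G.left) :=
    repWith_of_isPullback (FieldDesc.isPullback_fst G.left) (repWith_map (P := @IsAffineHom) hφ)
  haveI : IsAffineHom (hp.1.snd a').left := repWith_snd hp a'
  haveI : IsAffine (hp.1.pullback a').left := isAffine_of_isAffineHom (hp.1.snd a').left
  let ιB : (yon S₀).obj (hp.1.pullback a') ⟶ G.left ⨯ ext (k := k) K := hp.1.fst a' ≫ (lIso qg).inv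
  have hιB : RepWith @IsOpenImmersion ιB :=
    repWith_comp (repWith_of_isPullback (hp.1.isPullback a').flip ha') (repWith_of_isIso _)
  let ξ := Points.map (prod.lift vx ((yon S₀).map (specMor jK))) (pnt Ω)
  have hξB : ξ ∈ Set.range (Points.map ιB) := by
    obtain ⟨b, hb⟩ := (range_fst_of_isPullback (hp.1.isPullback a')).ge
      (show Points.map (lIso qg).hom ξ ∈ Points.map prod.fst ⁻¹' Set.range (Points.map a') by
        rw [Set.mem_preimage, ← Points.map_comp, ← Points.map_comp]
        show Points.map (prod.lift vx _ ≫ lHom qg ≫ prod.fst) (pnt Ω) ∈ _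
        rw [← Category.assoc, lift_lHom, prod.lift_fst]
        exact hma)
    exact ⟨b, by rw [Points.map_comp, hb, ← Points.map_comp, Iso.hom_inv_id, Points.map_id]⟩
  let y := Points.map (prod.lift vW ((yon S₀).map (specMor jK))) (pnt Ω)
  have hy : Points.map (prod.map j.hom (𝟙 (ext (k := k) K))) y = ξ := by
    rw [← Points.map_comp, prod.lift_map, Category.comp_id]
  have hsqK : IsPullback (Limits.prod.fst : W.obj ⨯ ext (k := k) K ⟶ _) (prod.map j.hom (𝟙 _)) j.hom
      (Limits.prod.fst : G.left ⨯ ext (k := k) K ⟶ _) := by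
    refine IsPullback.mk' (by rw [prod.map_fst]) (fun _ l l' h1 h2 => prod.hom_ext h1 ?_) fun T a b e => ?_
    · simpa using congrArg (· ≫ prod.snd) h2
    · exact ⟨prod.lift a (b ≫ prod.snd), prod.lift_fst _ _,
        prod.hom_ext (by rw [Category.assoc, prod.map_fst, prod.lift_fst_assoc, e])
          (by rw [Category.assoc, prod.map_snd, Category.comp_id, prod.lift_snd])⟩
  have hjK : RepWith @IsOpenImmersion (prod.map j.hom (𝟙 (ext (k := k) K))) := repWith_of_isPullback hsqK hj
  have sqI := IsPullback.of_hasPullback (prod.map j.hom (𝟙 (ext (k := k) K))) ιB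
  obtain ⟨rB, hrB⟩ := hξB
  obtain ⟨c, hc, -⟩ := exists_of_isPullback sqI y rB (hy.trans hrB.symm)
  have hrep : (pullback (prod.map j.hom (𝟙 (ext (k := k) K))) ιB).obj.IsRepresentable :=
    FieldLim.isRepresentable_of_representable (repWith_of_isPullback sqI hjK).1
      (isRepresentable_iff_exists_iso.2 ⟨_, ⟨Iso.refl _⟩⟩)
  obtain ⟨B, a₂, hB, ha₂, -, hca⟩ := PureTr.exists_affine_open hrep c
  haveI := hB
  have hy₂ : y ∈ Set.range (Points.map (a₂ ≫ pullback.fst (prod.map j.hom (𝟙 (ext (k := k) K))) ιB)) := by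
    obtain ⟨s, hs⟩ := hca
    exact ⟨s, by rw [Points.map_comp, hs, hc]⟩
  obtain ⟨s, T', aA, hT', haA, hyA⟩ := FieldSpec.exists_affine_descend k k K W hWqc hWqs
    (a₂ ≫ pullback.fst (prod.map j.hom (𝟙 (ext (k := k) K))) ιB)
    (repWith_comp ha₂ (repWith_of_isPullback sqI.flip hιB)) hy₂
  haveI := hT'
  -- an algebraic specialization
  let Al := FieldSpec.lev k K s
  haveI : Algebra.FiniteType k Al := (Subalgebra.fg_iff_finiteType Al).1 ⟨s, rfl⟩
  let ιA : Al →ₐ[k] K := Al.val.restrictScalars k
  let χA : L ⊗[k] Al →ₐ[k] Ω := Algebra.TensorProduct.lift jL (jK.comp ιA) (fun _ _ => Commute.all _ _)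
  let z₀ : PrimeSpectrum (L ⊗[k] Al) := ⟨RingHom.ker χA, RingHom.ker_isPrime _⟩
  have hz₀ : pc (PureTr.chartA xW Al) z₀ ∈ Set.range (Points.map aA) := by
    rw [← pc_bot (PureTr.chartA xW Al) χA rfl]
    convert! hyA using 1
    rw [← Points.map_comp, prod.lift_map, Category.comp_id]
    refine congrArg (fun f => Points.map f (pnt Ω)) (prod.hom_ext ?_ ?_)
    · rw [Category.assoc, PureTr.chartA, prod.lift_fst, prod.lift_fst, ← Functor.map_comp_assoc, specMor_comp]
      congr 3
      exact AlgHom.ext fun r => by simp [χA]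
    · rw [Category.assoc, PureTr.chartA, prod.lift_snd, prod.lift_snd, ← Functor.map_comp, specMor_comp,
        ← Functor.map_comp, specMor_comp]
      congr 2
      exact AlgHom.ext fun r => by simp [χA, ιA]; rfl
  have haAo : IsOpen (Set.range (Points.map aA)) :=
    (isOpenMap_map_of_universallyOpen
      (repWith_mono (fun f (_ : IsOpenImmersion f) => (inferInstance : UniversallyOpen f)) haA)).isOpen_range
  obtain ⟨_, ⟨_, ⟨h, rfl⟩, rfl⟩, hzh, hsub⟩ := PrimeSpectrum.isBasis_basic_opens.exists_subset_of_mem_open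
    (show z₀ ∈ pc (PureTr.chartA xW Al) ⁻¹' Set.range (Points.map aA) from hz₀)
    (haAo.preimage ((Points.continuous_map (PureTr.chartA xW Al)).comp
      (Points.schemeHomeo (specA (k := k) (L ⊗[k] Al))).continuous))
  obtain ⟨σ, hσ⟩ := GrpAlg.exists_avoiding k kbar K hK ιA Subtype.val_injective (h := h) (fun hn => hzh (by
    show χA h = 0
    have h1 : ∀ z, Algebra.TensorProduct.lift jL jK (fun _ _ => Commute.all _ _)
        (Algebra.TensorProduct.map (AlgHom.id k L) ιA z) = χA z := fun z => by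
      induction z using TensorProduct.induction_on with
      | zero => simp
      | tmul l a => simp [χA]
      | add a b ha hb => simp only [map_add, ha, hb]
    rw [← h1]
    exact (hn.map _).eq_zero))
  have hmσ : RepWith @IsAffineHom (prod.map (𝟙 W.obj) ((yon S₀).map (specMor σ))) := by
    refine repWith_of_isPullback (FieldLim.isPullback_prodMap W.obj (specMor σ))
      (repWith_map (P := @IsAffineHom) ?_)
    exact (show IsAffineHom (Spec.map (CommRingCat.ofHom σ.toRingHom)) from inferInstance)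
  haveI : IsAffineHom (hmσ.1.snd aA).left := repWith_snd hmσ aA
  haveI : IsAffine (hmσ.1.pullback aA).left := isAffine_of_isAffineHom (hmσ.1.snd aA).left
  refine (PureTr.schemePt_of_affine_fibre W (k' := kbar) (x := Points.mk xp) (hmσ.1.fst aA)
    (repWith_of_isPullback (hmσ.1.isPullback aA).flip haA) fun z hz => ?_).map hj
  rw [range_fst_of_isPullback (hmσ.1.isPullback aA)]
  obtain ⟨q, -, rfl⟩ := exists_of_isPullback (PureTr.isPullback_chartA xW kbar) (pnt L) z
    ((hxW _).trans hz.symm)
  obtain ⟨w, rfl⟩ := (Points.schemeHomeo _).surjective q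
  rw [Set.mem_preimage, ← Points.map_comp, ← PureTr.chartA_map]
  show pc ((yon (Spec (CommRingCat.of k))).map (specMor (Algebra.TensorProduct.map (AlgHom.id k L) σ)) ≫
    PureTr.chartA xW Al) w ∈ Set.range (Points.map aA)
  rw [pc_specMor_comp (Algebra.TensorProduct.map (AlgHom.id k L) σ) (PureTr.chartA xW Al) w]
  exact hsub (hσ w)

end Groth.L23.GrpPts
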