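import Groth.Agent.L23.GroupScheme
import Groth.Agent.L23.GroupFieldAlg
import Groth.Agent.L02.SepClosedTensor

/-!
# Points of group spaces generalizing the unit
-/

universe u

open CategoryTheory CategoryTheory.Limits AlgebraicGeometry AlgSp Topology TensorProduct MonoidalCategory MonObj
  CartesianMonoidalCategory

set_option autoImplicit false
set_option backward.isDefEq.respectTransparency.types false
set_option backward.isDefEq.respectTransparency false
set_option linter.style.haveILetI false

noncomputable section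

namespace Groth.L23.GrpPts

open Groth.L23.GConn

variable {k : Type u} [Field k]

/-- A space as an object over the point. -/
abbrev ob (T : Sp (Spec (CommRingCat.of k))) : Over (pt k) := Over.mk ((isTerminalPt k).from T)

variable {G : Over (pt k)} [GrpObj G]

/-- A point as a morphism over the point. -/
def pmor {T : Sp (Spec (CommRingCat.of k))} (a : T ⟶ G.left) : ob T ⟶ G :=
  Over.homMk a ((isTerminalPt k).hom_ext _ _)

/-- The product of points. -/
def pmul {T : Sp (Spec (CommRingCat.of k))} (a b : T ⟶ G.left) : T ⟶ G.left := (pmor a * pmor b).left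

/-- The inverse of a point. -/
def pinv {T : Sp (Spec (CommRingCat.of k))} (a : T ⟶ G.left) : T ⟶ G.left := (pmor a)⁻¹.left

/-- The unit point. -/
def pone (G : Over (pt k)) [GrpObj G] (T : Sp (Spec (CommRingCat.of k))) : T ⟶ G.left := (1 : ob T ⟶ G).left

theorem pmor_left {T : Sp (Spec (CommRingCat.of k))} (x : ob T ⟶ G) : pmor x.left = x :=
  Over.OverMorphism.ext rfl

theorem comp_pmul {T' T : Sp (Spec (CommRingCat.of k))} (f : T' ⟶ T) (a b : T ⟶ G.left) :
    f ≫ pmul a b = pmul (f ≫ a) (f ≫ b) := by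
  let F : ob T' ⟶ ob T := Over.homMk f ((isTerminalPt k).hom_ext _ _)
  have h1 : ∀ c : T ⟶ G.left, pmor (f ≫ c) = F ≫ pmor c := fun c => Over.OverMorphism.ext rfl
  rw [pmul, pmul, h1, h1, ← MonObj.comp_mul]
  rfl

theorem comp_pone {T' T : Sp (Spec (CommRingCat.of k))} (f : T' ⟶ T) : f ≫ pone G T = pone G T' := by
  let F : ob T' ⟶ ob T := Over.homMk f ((isTerminalPt k).hom_ext _ _)
  exact congrArg (fun g => Over.Hom.left g) (MonObj.comp_one (M := G) F)

theorem pmul_assoc {T : Sp (Spec (CommRingCat.of k))} (a b c : T ⟶ G.left) :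
    pmul (pmul a b) c = pmul a (pmul b c) := by
  simp only [pmul, pmor_left, _root_.mul_assoc]

theorem pone_pmul {T : Sp (Spec (CommRingCat.of k))} (a : T ⟶ G.left) : pmul (pone G T) a = a := by
  simp only [pmul, pone, pmor_left, _root_.one_mul]
  rfl

theorem pmul_pone {T : Sp (Spec (CommRingCat.of k))} (a : T ⟶ G.left) : pmul a (pone G T) = a := by
  simp only [pmul, pone, pmor_left, _root_.mul_one]
  rfl

theorem pmul_pinv {T : Sp (Spec (CommRingCat.of k))} (a : T ⟶ G.left) : pmul a (pinv a) = pone G T := by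
  simp only [pmul, pinv, pone, pmor_left, mul_inv_cancel]

theorem pinv_pmul {T : Sp (Spec (CommRingCat.of k))} (a : T ⟶ G.left) : pmul (pinv a) a = pone G T := by
  simp only [pmul, pinv, pone, pmor_left, inv_mul_cancel]

variable {E : Sp (Spec (CommRingCat.of k))}

/-- Left translation. -/
def lHom (c : E ⟶ G.left) : G.left ⨯ E ⟶ G.left ⨯ E := prod.lift (pmul (prod.snd ≫ c) prod.fst) prod.snd

/-- Right translation. -/
def rHom (c : E ⟶ G.left) : G.left ⨯ E ⟶ G.left ⨯ E := prod.lift (pmul prod.fst (prod.snd ≫ c)) prod.snd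

theorem lift_lHom {T : Sp (Spec (CommRingCat.of k))} (u : T ⟶ G.left) (t : T ⟶ E) (c : E ⟶ G.left) :
    prod.lift u t ≫ lHom c = prod.lift (pmul (t ≫ c) u) t := by
  refine prod.hom_ext ?_ ?_
  · rw [Category.assoc, lHom, prod.lift_fst, comp_pmul, prod.lift_fst, prod.lift_fst, prod.lift_snd_assoc]
  · rw [Category.assoc, lHom, prod.lift_snd, prod.lift_snd, prod.lift_snd]

theorem lift_rHom {T : Sp (Spec (CommRingCat.of k))} (u : T ⟶ G.left) (t : T ⟶ E) (c : E ⟶ G.left) :
    prod.lift u t ≫ rHom c = prod.lift (pmul u (t ≫ c)) t := by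
  refine prod.hom_ext ?_ ?_
  · rw [Category.assoc, rHom, prod.lift_fst, comp_pmul, prod.lift_fst, prod.lift_fst, prod.lift_snd_assoc]
  · rw [Category.assoc, rHom, prod.lift_snd, prod.lift_snd, prod.lift_snd]

theorem lift_fst_snd {A B : Sp (Spec (CommRingCat.of k))} :
    prod.lift (prod.fst : A ⨯ B ⟶ A) prod.snd = 𝟙 (A ⨯ B) :=
  prod.hom_ext (by rw [prod.lift_fst, Category.id_comp]) (by rw [prod.lift_snd, Category.id_comp])

theorem lHom_lHom (c d : E ⟶ G.left) (h : pmul d c = pone G E) : lHom c ≫ lHom d = 𝟙 (G.left ⨯ E) := by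
  rw [lHom, lift_lHom, ← pmul_assoc, ← comp_pmul, h, comp_pone, pone_pmul, lift_fst_snd]

theorem rHom_rHom (c d : E ⟶ G.left) (h : pmul c d = pone G E) : rHom c ≫ rHom d = 𝟙 (G.left ⨯ E) := by
  rw [rHom, lift_rHom, pmul_assoc, ← comp_pmul, h, comp_pone, pmul_pone, lift_fst_snd]

/-- Left translation as an isomorphism. -/
def lIso (c : E ⟶ G.left) : (G.left ⨯ E) ≅ (G.left ⨯ E) :=
  ⟨lHom c, lHom (pinv c), lHom_lHom _ _ (pinv_pmul c), lHom_lHom _ _ (pmul_pinv c)⟩

/-- Right translation as an isomorphism. -/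
def rIso (c : E ⟶ G.left) : (G.left ⨯ E) ≅ (G.left ⨯ E) :=
  ⟨rHom c, rHom (pinv c), rHom_rHom _ _ (pmul_pinv c), rHom_rHom _ _ (pinv_pmul c)⟩

/-- The only point of the spectrum of a field. -/
abbrev pnt (K : Type u) [Field K] [Algebra k K] : Points (ext (k := k) K) :=
  Points.schemeHomeo (specA (k := k) K) (⊥ : PrimeSpectrum K)

theorem subsingleton_points (K : Type u) [Field K] [Algebra k K] (r r' : Points (ext (k := k) K)) : r = r' := by
  obtain ⟨t, rfl⟩ := (Points.schemeHomeo (specA (k := k) K)).surjective r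
  obtain ⟨t', rfl⟩ := (Points.schemeHomeo (specA (k := k) K)).surjective r'
  exact congrArg _ ((inferInstance : Subsingleton (PrimeSpectrum K)).elim t t')

theorem specMor_id (R : Type u) [CommRing R] [Algebra k R] : specMor (AlgHom.id k R) = 𝟙 (specA (k := k) R) :=
  Over.OverMorphism.ext (by
    show Spec.map (CommRingCat.ofHom (RingHom.id R)) = 𝟙 _
    rw [CommRingCat.ofHom_id, Spec.map_id])

variable {kbar : Type u} [Field kbar] [Algebra k kbar]

/-- The structure morphism to the intermediate field. -/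
abbrev strK (K : Type u) [CommRing K] [Algebra k K] [Algebra kbar K] [IsScalarTower k kbar K] :
    (yon (Spec (CommRingCat.of k))).obj (specA (k := k) K) ⟶ ext (k := k) kbar :=
  (yon (Spec (CommRingCat.of k))).map (specMor (IsScalarTower.toAlgHom k kbar K))

theorem exists_rep {X : Sp (Spec (CommRingCat.of k))} (y : Points (X ⨯ ext (k := k) kbar)) :
    ∃ (K : Type u) (_ : Field K) (_ : Algebra k K) (_ : Algebra kbar K) (_ : IsScalarTower k kbar K)
      (q : ext (k := k) K ⟶ X), ∀ r, Points.map (prod.lift q (strK (kbar := kbar) K)) r = y := by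
  obtain ⟨⟨K, str, val⟩, rfl⟩ := Points.mk_surjective y
  obtain ⟨φ, rfl⟩ := Spec.map_surjective str
  letI : Algebra k K := φ.hom.toAlgebra
  let qz : FieldPt (X ⨯ ext (k := k) kbar) := ⟨K, Spec.map φ, val⟩
  let zL : (yon (Spec (CommRingCat.of k))).obj (specA (k := k) K) ⟶ X ⨯ ext (k := k) kbar := qz.toHom
  obtain ⟨ψo, hψo⟩ := (yon (Spec (CommRingCat.of k))).map_surjective (zL ≫ prod.snd)
  obtain ⟨ψ', hψ'⟩ := Spec.map_surjective ψo.left
  let ψ : kbar →ₐ[k] K :=
    { ψ'.hom with
      commutes' := fun r => by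
        have hw : ψo.left ≫ Spec.map (CommRingCat.ofHom (algebraMap k kbar)) = Spec.map φ := Over.w ψo
        rw [← hψ', ← Spec.map_comp] at hw
        exact congrArg (fun F : CommRingCat.of k ⟶ CommRingCat.of K => F.hom r) (Spec.map_injective hw) }
  have hψ : ψo = specMor ψ := Over.OverMorphism.ext hψ'.symm
  letI : Algebra kbar K := ψ.toRingHom.toAlgebra
  haveI : IsScalarTower k kbar K := IsScalarTower.of_algebraMap_eq fun r => (ψ.commutes r).symm
  refine ⟨K, inferInstance, inferInstance, inferInstance, inferInstance, zL ≫ prod.fst, fun r => ?_⟩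
  have h1 : prod.lift (zL ≫ prod.fst) (strK (kbar := kbar) K) = zL := by
    refine prod.hom_ext (prod.lift_fst _ _) ?_
    rw [prod.lift_snd, ← hψo, hψ]
    rfl
  rw [h1]
  obtain ⟨t, rfl⟩ := (Points.schemeHomeo _).surjective r
  rw [← Points.ofPt_toHom qz t]
  exact (Points.ofPt_eq_map_ofScheme zL t).symm

theorem isPullback_specK (A B : Type u) [CommRing A] [Algebra k A] [Algebra kbar A] [IsScalarTower k kbar A]
    [CommRing B] [Algebra k B] [Algebra kbar B] [IsScalarTower k kbar B] :
    IsPullback (specMor ((Algebra.TensorProduct.includeLeft : A →ₐ[kbar] A ⊗[kbar] B).restrictScalars k))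
      (specMor ((Algebra.TensorProduct.includeRight : B →ₐ[kbar] A ⊗[kbar] B).restrictScalars k))
      (specMor (IsScalarTower.toAlgHom k kbar A)) (specMor (IsScalarTower.toAlgHom k kbar B)) := by
  refine IsPullback.of_map (Over.forget _) ?_
    (isPullback_SpecMap_of_isPushout _ _ _ _ (CommRingCat.isPushout_tensorProduct kbar A B))
  rw [specMor_comp, specMor_comp]
  refine congrArg specMor (AlgHom.ext fun r => ?_)
  show (algebraMap kbar A r) ⊗ₜ[kbar] (1 : B) = (1 : A) ⊗ₜ[kbar] (algebraMap kbar B r)
  rw [Algebra.algebraMap_eq_smul_one, Algebra.algebraMap_eq_smul_one, smul_tmul]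

/-- The fibre over a point generalizing the unit contains the generalizations of the unit. -/
theorem specializes_unit {A B Ω : Type u} [Field A] [Algebra k A] [Algebra kbar A] [IsScalarTower k kbar A]
    [Field B] [Algebra k B] [Algebra kbar B] [IsScalarTower k kbar B] [Field Ω] [Algebra k Ω] [Algebra kbar Ω]
    [IsScalarTower k kbar Ω] (jA : A →ₐ[kbar] Ω) (jB : B →ₐ[kbar] Ω)
    (hgen : ∀ z : B ⊗[kbar] A,
      Algebra.TensorProduct.lift jB jA (fun _ _ => Commute.all _ _) z = 0 → IsNilpotent z)
    (qb : ext (k := k) B ⟶ G.left)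
    (hb : Points.map (prod.lift qb (strK (kbar := kbar) B)) (pnt B) ⤳
      Points.map (prod.lift (pone G (ext (k := k) kbar)) (𝟙 _)) (pnt kbar)) :
    Points.map (prod.lift ((yon _).map (specMor (jB.restrictScalars k)) ≫ qb)
        ((yon _).map (specMor (jA.restrictScalars k)))) (pnt Ω) ⤳
      Points.map (prod.lift (pone G (ext (k := k) A)) (𝟙 _)) (pnt A) := by
  let S₀ := Spec (CommRingCat.of k)
  let u : G.left ⨯ ext (k := k) A ⟶ G.left ⨯ ext (k := k) kbar := prod.map (𝟙 _) (strK (kbar := kbar) A)
  have hu : IsOpenMap (Points.map u) := by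
    refine isOpenMap_map_of_universallyOpen (repWith_of_isPullback (FieldLim.isPullback_prodMap G.left _)
      (repWith_map (P := @UniversallyOpen) ?_))
    haveI : IsField (CommRingCat.of kbar) := Field.toIsField kbar
    exact (inferInstance :
      UniversallyOpen (Spec.map (CommRingCat.ofHom (IsScalarTower.toAlgHom k kbar A).toRingHom)))
  let qY : ext (k := k) B ⟶ G.left ⨯ ext (k := k) kbar := prod.lift qb (strK (kbar := kbar) B)
  let cB : (yon S₀).obj (specA (k := k) (B ⊗[kbar] A)) ⟶ G.left ⨯ ext (k := k) A :=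
    prod.lift ((yon S₀).map (specMor ((Algebra.TensorProduct.includeLeft : B →ₐ[kbar] B ⊗[kbar] A).restrictScalars k))
        ≫ qb)
      ((yon S₀).map (specMor ((Algebra.TensorProduct.includeRight : A →ₐ[kbar] B ⊗[kbar] A).restrictScalars k)))
  have h0 := (isPullback_specK (k := k) (kbar := kbar) B A).map (yon S₀)
  have sq : IsPullback
      ((yon S₀).map (specMor ((Algebra.TensorProduct.includeLeft : B →ₐ[kbar] B ⊗[kbar] A).restrictScalars k)))
      cB qY u := by
    refine IsPullback.mk' ?_ (fun T l l' h1 h2 => h0.hom_ext h1 ?_) fun T c z e => ?_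
    · refine prod.hom_ext ?_ ?_
      · rw [Category.assoc, prod.lift_fst, Category.assoc, prod.map_fst, Category.comp_id, prod.lift_fst]
      · rw [Category.assoc, prod.lift_snd, Category.assoc, prod.map_snd, prod.lift_snd_assoc]
        exact h0.w
    · have h3 := congrArg (· ≫ prod.snd) h2
      simp only [Category.assoc, cB, prod.lift_snd] at h3
      exact h3
    · have e1 := congrArg (· ≫ prod.fst) e
      have e2 := congrArg (· ≫ prod.snd) e
      simp only [Category.assoc, qY, u, prod.lift_fst, prod.lift_snd, prod.map_fst, prod.map_snd,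
        Category.comp_id] at e1 e2
      obtain ⟨l, hl1, hl2⟩ := h0.exists_lift c (z ≫ prod.snd) (by rw [Category.assoc]; exact e2)
      refine ⟨l, hl1, prod.hom_ext ?_ ?_⟩
      · rw [Category.assoc, prod.lift_fst, ← Category.assoc, hl1, e1]
      · rw [Category.assoc, prod.lift_snd, hl2]
  let χ : B ⊗[kbar] A →ₐ[kbar] Ω := Algebra.TensorProduct.lift jB jA (fun _ _ => Commute.all _ _)
  let P₀ : PrimeSpectrum (B ⊗[kbar] A) := ⟨RingHom.ker χ, RingHom.ker_isPrime _⟩
  have hP₀ : Points.map cB (Points.schemeHomeo (specA (k := k) (B ⊗[kbar] A)) P₀) =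
      Points.map (prod.lift ((yon S₀).map (specMor (jB.restrictScalars k)) ≫ qb)
        ((yon S₀).map (specMor (jA.restrictScalars k)))) (pnt Ω) := by
    have h1 : Points.map ((yon S₀).map (specMor (χ.restrictScalars k))) (pnt Ω) =
        Points.schemeHomeo (specA (k := k) (B ⊗[kbar] A)) P₀ := by
      rw [Points.map_yon_map_eq]
      simp only [pnt, Function.comp_apply]
      rw [Homeomorph.symm_apply_apply (Points.schemeHomeo (specA (k := k) Ω))]
      refine congrArg _ (PrimeSpectrum.ext ?_)
      show Ideal.comap χ.toRingHom (⊥ : Ideal Ω) = RingHom.ker χ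
      rfl
    rw [← h1, ← Points.map_comp]
    refine congrArg (fun f => Points.map f (pnt Ω)) (prod.hom_ext ?_ ?_)
    · rw [Category.assoc, prod.lift_fst, prod.lift_fst, ← Functor.map_comp_assoc, specMor_comp]
      congr 3
      exact AlgHom.ext fun r => by simp [χ]
    · rw [Category.assoc, prod.lift_snd, prod.lift_snd, ← Functor.map_comp, specMor_comp]
      congr 2
      exact AlgHom.ext fun r => by simp [χ]
  rw [specializes_iff_forall_open, ← hP₀]
  intro O hO hmem
  have hue : Points.map u (Points.map (prod.lift (pone G (ext (k := k) A)) (𝟙 _)) (pnt A)) =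
      Points.map (prod.lift (pone G (ext (k := k) kbar)) (𝟙 _)) (pnt kbar) := by
    rw [← Points.map_comp]
    have h1 : prod.lift (pone G (ext (k := k) A)) (𝟙 _) ≫ u =
        strK (kbar := kbar) A ≫ prod.lift (pone G (ext (k := k) kbar)) (𝟙 _) := by
      refine prod.hom_ext ?_ ?_
      · rw [Category.assoc, prod.map_fst, Category.comp_id, prod.lift_fst, Category.assoc, prod.lift_fst, comp_pone]
      · rw [Category.assoc, prod.map_snd, prod.lift_snd_assoc, Category.id_comp, Category.assoc, prod.lift_snd,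
          Category.comp_id]
    rw [h1, Points.map_comp]
    exact congrArg _ (subsingleton_points kbar _ _)
  obtain ⟨z, hzO, hz⟩ := hb.mem_open (hu O hO) ⟨_, hmem, hue⟩
  obtain ⟨p, -, rfl⟩ := exists_of_isPullback sq (pnt B) z hz.symm
  obtain ⟨P, rfl⟩ := (Points.schemeHomeo _).surjective p
  have hle : P₀ ⤳ (show PrimeSpectrum (B ⊗[kbar] A) from P) :=
    (PrimeSpectrum.le_iff_specializes _ _).1 fun z hz => by
      haveI : (show PrimeSpectrum (B ⊗[kbar] A) from P).asIdeal.IsPrime := PrimeSpectrum.isPrime _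
      exact nilradical_le_prime _ (mem_nilradical.2 (hgen z (RingHom.mem_ker.1 hz)))
  exact ((hle.map (Points.schemeHomeo _).continuous).map (Points.continuous_map cB)).mem_open hO hzO

theorem eq_of_generalize [IsAlgClosed kbar] {ηa ηb : Points (G.left ⨯ ext (k := k) kbar)}
    (ha : ηa ⤳ Points.map (prod.lift (pone G (ext (k := k) kbar)) (𝟙 _)) (pnt kbar))
    (hb : ηb ⤳ Points.map (prod.lift (pone G (ext (k := k) kbar)) (𝟙 _)) (pnt kbar))
    (hma : ∀ y, y ⤳ ηa → y = ηa) (hmb : ∀ y, y ⤳ ηb → y = ηb) : ηa = ηb := by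
  obtain ⟨A, _, _, _, _, qa, hqa⟩ := exists_rep ηa
  obtain ⟨B, _, _, _, _, qb, hqb⟩ := exists_rep ηb
  rw [← hqa (pnt A)] at ha
  rw [← hqb (pnt B)] at hb
  haveI hAp : (nilradical A).IsPrime := by rw [nilradical_eq_zero]; exact Ideal.isPrime_bot
  haveI hBp : (nilradical B).IsPrime := by rw [nilradical_eq_zero]; exact Ideal.isPrime_bot
  haveI hp := Groth.L02.SepClosedTensor.isPrime_nilradical_tensor_isAlgClosed (K := kbar) (A := B) (B := A)
  let Ω := (nilradical (B ⊗[kbar] A)).ResidueField
  let χ : B ⊗[kbar] A →ₐ[kbar] Ω := IsScalarTower.toAlgHom kbar (B ⊗[kbar] A) Ω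
  let jA : A →ₐ[kbar] Ω := χ.comp Algebra.TensorProduct.includeRight
  let jB : B →ₐ[kbar] Ω := χ.comp Algebra.TensorProduct.includeLeft
  have hgen : ∀ z : B ⊗[kbar] A,
      Algebra.TensorProduct.lift jB jA (fun _ _ => Commute.all _ _) z = 0 → IsNilpotent z := fun z hz => by
    rw [show Algebra.TensorProduct.lift jB jA (fun _ _ => Commute.all _ _) = χ from
      Algebra.TensorProduct.ext (AlgHom.ext fun _ => by simp [jB]) (AlgHom.ext fun _ => by simp [jA])] at hz
    exact mem_nilradical.1 (Ideal.algebraMap_residueField_eq_zero.1 hz)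
  have hgen' : ∀ z : A ⊗[kbar] B,
      Algebra.TensorProduct.lift jA jB (fun _ _ => Commute.all _ _) z = 0 → IsNilpotent z := fun z hz => by
    refine (IsNilpotent.map_iff (Algebra.TensorProduct.comm kbar A B).injective).1 (hgen _ ?_)
    rw [← hz]
    show ((Algebra.TensorProduct.lift jB jA (fun _ _ => Commute.all _ _)).comp (Algebra.TensorProduct.comm kbar A B).toAlgHom) z = _
    congr 1
    exact Algebra.TensorProduct.ext (AlgHom.ext fun _ => by simp) (AlgHom.ext fun _ => by simp)
  let va : ext (k := k) Ω ⟶ G.left := (yon _).map (specMor (jA.restrictScalars k)) ≫ qa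
  let vb : ext (k := k) Ω ⟶ G.left := (yon _).map (specMor (jB.restrictScalars k)) ≫ qb
  let m := Points.map (prod.lift (pmul va vb) (strK (kbar := kbar) Ω)) (pnt Ω)
  have hj : ∀ {C : Type u} [Field C] [Algebra k C] [Algebra kbar C] [IsScalarTower k kbar C] (j : C →ₐ[kbar] Ω),
      (yon _).map (specMor (j.restrictScalars k)) ≫ strK (kbar := kbar) C = strK (kbar := kbar) Ω := fun j => by
    rw [← Functor.map_comp, specMor_comp]
    exact congrArg (fun F => (yon _).map (specMor F)) (AlgHom.ext fun r => j.commutes r)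
  have hjA := hj jA
  have hjB := hj jB
  have h1 : m ⤳ ηa := by
    have h := (((specializes_unit jA jB hgen qb hb).map (Points.continuous_map (lHom qa))).map
      (Points.continuous_map (prod.map (𝟙 G.left) (strK (kbar := kbar) A))))
    rw [← Points.map_comp, ← Points.map_comp, ← Points.map_comp, ← Points.map_comp, ← Category.assoc, ← Category.assoc, lift_lHom, lift_lHom,
      prod.lift_map, prod.lift_map] at h
    simp only [Category.comp_id, Category.id_comp, pmul_pone] at h
    rw [hjA, hqa] at h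
    exact h
  have h2 : m ⤳ ηb := by
    have h := (((specializes_unit jB jA hgen' qa ha).map (Points.continuous_map (rHom qb))).map
      (Points.continuous_map (prod.map (𝟙 G.left) (strK (kbar := kbar) B))))
    rw [← Points.map_comp, ← Points.map_comp, ← Points.map_comp, ← Points.map_comp, ← Category.assoc, ← Category.assoc, lift_rHom, lift_rHom,
      prod.lift_map, prod.lift_map] at h
    simp only [Category.comp_id, Category.id_comp, pone_pmul] at h
    rw [hjB, hqb] at h
    exact h
  exact (hma m h1).symm.trans (hmb m h2)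

end Groth.L23.GrpPts
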