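import Groth.Agent.L23.FieldSpecialize
import Groth.Agent.L23.SchemeDecent
import Groth.Agent.L23.CutOutApps
import Mathlib.CategoryTheory.Monoidal.Cartesian.Grp

/-!
# Separated group spaces become schemes over the algebraic closure
-/

universe u

open CategoryTheory CategoryTheory.Limits AlgebraicGeometry AlgSp Topology TensorProduct MonoidalCategory MonObj
  CartesianMonoidalCategory

set_option autoImplicit false
set_option backward.isDefEq.respectTransparency.types false
set_option backward.isDefEq.respectTransparency false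
set_option linter.style.haveILetI false

noncomputable section

namespace Groth.L23.GrpScheme

open Groth.L23.GConn

variable {k : Type u} [Field k]

section Translate

variable {G P E : Over (pt k)} [GrpObj G] (p₁ : P ⟶ G) (p₂ : P ⟶ E)

/-- Twisting the first coordinate. -/
def twist (c : E ⟶ G) : P ⟶ G := p₁ * (p₂ ≫ c)

theorem twist_comp {Q : Over (pt k)} (m : Q ⟶ P) (c : E ⟶ G) :
    m ≫ twist p₁ p₂ c = (m ≫ p₁) * (m ≫ p₂ ≫ c) := by rw [twist, MonObj.comp_mul]

theorem twist_twist (τ : P ⟶ P) (a b : E ⟶ G) (h₁ : τ ≫ p₁ = twist p₁ p₂ a) (h₂ : τ ≫ p₂ = p₂) :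
    τ ≫ twist p₁ p₂ b = twist p₁ p₂ (a * b) := by
  rw [twist_comp, h₁, reassoc_of% h₂, twist, twist, MonObj.comp_mul, _root_.mul_assoc]

theorem twist_one : twist p₁ p₂ (1 : E ⟶ G) = p₁ := by
  rw [twist, MonObj.comp_one, _root_.mul_one]

end Translate

theorem exists_translate {G : Over (pt k)} [GrpObj G] (Ω : Type u) [Field Ω] [Algebra k Ω]
    (va vb : ext (k := k) Ω ⟶ G.left) :
    ∃ τ : (G.left ⨯ ext (k := k) Ω) ≅ (G.left ⨯ ext (k := k) Ω),
      prod.lift va (𝟙 _) ≫ τ.hom = prod.lift vb (𝟙 _) := by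
  let hT := isTerminalPt k
  let E : Over (pt k) := Over.mk (hT.from (ext (k := k) Ω))
  let P : Over (pt k) := Over.mk (hT.from (G.left ⨯ ext (k := k) Ω))
  let p₁ : P ⟶ G := Over.homMk prod.fst (hT.hom_ext _ _)
  let p₂ : P ⟶ E := Over.homMk prod.snd (hT.hom_ext _ _)
  let a : E ⟶ G := Over.homMk va (hT.hom_ext _ _)
  let b : E ⟶ G := Over.homMk vb (hT.hom_ext _ _)
  let m : ∀ c : E ⟶ G, P ⟶ P := fun c =>
    Over.homMk (prod.lift (twist p₁ p₂ c).left prod.snd) (hT.hom_ext _ _)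
  have hm₁ : ∀ c, m c ≫ p₁ = twist p₁ p₂ c := fun c => Over.OverMorphism.ext (prod.lift_fst _ _)
  have hm₂ : ∀ c, m c ≫ p₂ = p₂ := fun c => Over.OverMorphism.ext (prod.lift_snd _ _)
  have hinv : ∀ c d : E ⟶ G, c * d = 1 → m c ≫ m d = 𝟙 P := fun c d hcd => by
    refine Over.OverMorphism.ext (prod.hom_ext ?_ ?_)
    · have e : (m c ≫ m d) ≫ p₁ = p₁ := by
        rw [Category.assoc, hm₁, twist_twist p₁ p₂ (m c) c d (hm₁ c) (hm₂ c), hcd, twist_one]
      exact (congrArg (fun f => Over.Hom.left f) e).trans (Category.id_comp _).symm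
    · have e : (m c ≫ m d) ≫ p₂ = p₂ := by rw [Category.assoc, hm₂, hm₂]
      exact (congrArg (fun f => Over.Hom.left f) e).trans (Category.id_comp _).symm
  let c := a⁻¹ * b
  refine ⟨⟨(m c).left, (m c⁻¹).left,
    congrArg (fun f => Over.Hom.left f) (hinv c c⁻¹ (mul_inv_cancel c)),
    congrArg (fun f => Over.Hom.left f) (hinv c⁻¹ c (inv_mul_cancel c))⟩, ?_⟩
  let n : E ⟶ P := Over.homMk (prod.lift va (𝟙 _)) (hT.hom_ext _ _)
  have hn₁ : n ≫ p₁ = a := Over.OverMorphism.ext (prod.lift_fst _ _)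
  have hn₂ : n ≫ p₂ = 𝟙 E := Over.OverMorphism.ext (prod.lift_snd _ _)
  refine prod.hom_ext ?_ ?_
  · have e : (n ≫ m c) ≫ p₁ = b := by
      rw [Category.assoc, hm₁, twist_comp, hn₁, reassoc_of% hn₂, mul_inv_cancel_left]
    exact (congrArg (fun f => Over.Hom.left f) e).trans (prod.lift_fst _ _).symm
  · have e : (n ≫ m c) ≫ p₂ = 𝟙 E := by rw [Category.assoc, hm₂, hn₂]
    exact (congrArg (fun f => Over.Hom.left f) e).trans (prod.lift_snd _ _).symm

theorem exists_schemePt {S : Scheme.{u}} (X : Space S) (hqs : IsQuasiSeparatedSp X.obj) (x₀ : Points X.obj) :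
    ∃ u : Points X.obj, SL.SchemePt u := by
  obtain ⟨W, a, hW, ha, hx⟩ := exists_affine_etale_nhd X.property x₀
  obtain ⟨w, -⟩ := hx
  haveI := hW
  haveI : CompactSpace W.left := inferInstance
  haveI : Nonempty W.left := ⟨w⟩
  obtain ⟨C, hC⟩ : (irreducibleComponents W.left).Nonempty :=
    ⟨_, irreducibleComponent_mem_irreducibleComponents w⟩
  obtain ⟨gp, hgp⟩ := QuasiSober.sober hC.1 (isClosed_of_mem_irreducibleComponents C hC)
  refine ⟨Points.ofPt a gp, SL.schemePt_qs X.property hqs ?_⟩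
  refine ⟨W, a, gp, ha, rfl, ?_⟩
  show ringKrullDim _ = 0
  rw [ringKrullDim_stalk_eq_coheight, WithBot.coe_eq_zero, Order.coheight_eq_zero]
  intro y hy
  have hy' : y ⤳ gp := hy
  have hsub : C ⊆ closure {y} := by
    rw [← hgp.def]
    exact hy'.closure_subset
  have hC' := hC.2 (isIrreducible_singleton.closure) hsub
  have : gp ⤳ y := specializes_iff_mem_closure.2 (by rw [hgp.def]; exact hC' (subset_closure rfl))
  exact this

theorem schemePt_group (G : Over (pt k)) [GrpObj G] (hG : IsAlgSpace G.left) (hqs : IsQuasiSeparatedSp G.left)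
    (kbar : Type u) [Field kbar] [Algebra k kbar] [IsAlgClosed kbar]
    (z : Points (G.left ⨯ ext (k := k) kbar)) : SL.SchemePt z := by
  classical
  let S₀ := Spec (CommRingCat.of k)
  let X : Space S₀ := ⟨G.left, hG⟩
  obtain ⟨u, hu⟩ := exists_schemePt X hqs (Points.map prod.fst z)
  obtain ⟨W, j, hj, hWqc, hWqs, w₀, hw₀⟩ := FieldLim.exists_qcqs_nhd X hqs (Points.map prod.fst z)
  obtain ⟨⟨L₁, s₁, val₁⟩, rfl⟩ := Points.mk_surjective z
  obtain ⟨φ₁, rfl⟩ := Spec.map_surjective s₁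
  letI : Algebra k L₁ := φ₁.hom.toAlgebra
  let qz : FieldPt (G.left ⨯ ext (k := k) kbar) := ⟨L₁, Spec.map φ₁, val₁⟩
  let zL : (yon S₀).obj (specA (k := k) L₁) ⟶ G.left ⨯ ext (k := k) kbar := qz.toHom
  obtain ⟨⟨L₂, s₂, val₂⟩, rfl⟩ := Points.mk_surjective u
  obtain ⟨φ₂, rfl⟩ := Spec.map_surjective s₂
  letI : Algebra k L₂ := φ₂.hom.toAlgebra
  let qu : FieldPt G.left := ⟨L₂, Spec.map φ₂, val₂⟩
  let uL : (yon S₀).obj (specA (k := k) L₂) ⟶ G.left := qu.toHom
  obtain ⟨ψo, hψo⟩ := (yon S₀).map_surjective (zL ≫ prod.snd)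
  obtain ⟨ψ', hψ'⟩ := Spec.map_surjective ψo.left
  let ψ : kbar →ₐ[k] L₁ :=
    { ψ'.hom with
      commutes' := fun r => by
        have hw : ψo.left ≫ Spec.map (CommRingCat.ofHom (algebraMap k kbar)) = Spec.map φ₁ := Over.w ψo
        rw [← hψ', ← Spec.map_comp] at hw
        exact congrArg (fun F : CommRingCat.of k ⟶ CommRingCat.of L₁ => F.hom r) (Spec.map_injective hw) }
  have hψ : ψo = specMor ψ := Over.OverMorphism.ext hψ'.symm
  obtain ⟨M, _, _, ⟨j₁⟩, ⟨j₂⟩⟩ := exists_compositum (k := k) L₁ L₂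
  let Ω := AlgebraicClosure M
  let i : M →ₐ[k] Ω := IsScalarTower.toAlgHom k M Ω
  let J₁ : L₁ →ₐ[k] Ω := i.comp j₁
  let J₂ : L₂ →ₐ[k] Ω := i.comp j₂
  letI : Algebra kbar Ω := (J₁.comp ψ).toRingHom.toAlgebra
  haveI : IsScalarTower k kbar Ω := IsScalarTower.of_algebraMap_eq fun r => ((J₁.comp ψ).commutes r).symm
  let va : ext (k := k) Ω ⟶ G.left := ((yon S₀).map (specMor J₁) ≫ zL) ≫ prod.fst
  let vb : ext (k := k) Ω ⟶ G.left := (yon S₀).map (specMor J₂) ≫ uL
  obtain ⟨τ, hτ⟩ := exists_translate (G := G) Ω va vb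
  let r₀ := Points.schemeHomeo (specA (k := k) Ω) (⊥ : PrimeSpectrum Ω)
  have hpt : ∀ {F : Sp S₀} (q : FieldPt F) (r : Points ((yon S₀).obj q.pt)),
      Points.map q.toHom r = Points.mk q := by
    intro F q r
    obtain ⟨t, rfl⟩ := (Points.schemeHomeo _).surjective r
    rw [← Points.ofPt_toHom q t]
    exact (Points.ofPt_eq_map_ofScheme q.toHom t).symm
  -- the translate of the point is schematic
  obtain ⟨A, a, t, ha, hat⟩ := hu
  obtain ⟨Va, hVa, htV, -⟩ := exists_isAffineOpen_mem_and_subset (U := (⊤ : A.left.Opens)) (x := t) trivial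
  haveI : IsAffine (openOver A Va).left := hVa
  let a₀ : (yon S₀).obj (openOver A Va) ⟶ G.left := (yon S₀).map (openOverι A Va) ≫ a
  have ha₀ : RepWith @IsOpenImmersion a₀ :=
    repWith_comp (repWith_map (inferInstanceAs (IsOpenImmersion Va.ι))) ha
  have hφ : IsAffineHom (FieldDesc.ptMap k Ω).left := by
    haveI : IsAffine (Over.mk (Spec.map (CommRingCat.ofHom (algebraMap k Ω))) :
        Over (Spec (CommRingCat.of k))).left := inferInstanceAs (IsAffine (Spec (CommRingCat.of Ω)))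
    haveI : IsAffine (Over.mk (𝟙 (Spec (CommRingCat.of k))) : Over (Spec (CommRingCat.of k))).left :=
      inferInstanceAs (IsAffine (Spec (CommRingCat.of k)))
    exact isAffineHom_of_isAffine _
  have hp : RepWith @IsAffineHom (Limits.prod.fst : G.left ⨯ ext (k := k) Ω ⟶ G.left) :=
    repWith_of_isPullback (FieldDesc.isPullback_fst G.left) (repWith_map (P := @IsAffineHom) hφ)
  haveI : IsAffineHom (hp.1.snd a₀).left := repWith_snd hp a₀
  haveI : IsAffine (hp.1.pullback a₀).left := isAffine_of_isAffineHom (hp.1.snd a₀).left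
  let ιB : (yon S₀).obj (hp.1.pullback a₀) ⟶ G.left ⨯ ext (k := k) Ω := hp.1.fst a₀ ≫ τ.inv
  have hιB : RepWith @IsOpenImmersion ιB :=
    repWith_comp (repWith_of_isPullback (hp.1.isPullback a₀).flip ha₀) (repWith_of_isIso _)
  have hya : Points.map (prod.lift va (𝟙 _)) r₀ ∈ Set.range (Points.map ιB) := by
    have h1 : Points.map prod.fst (Points.map (prod.lift vb (𝟙 _)) r₀) ∈ Set.range (Points.map a₀) := by
      rw [← Points.map_comp, prod.lift_fst, Points.map_comp]
      refine ⟨Points.schemeHomeo (openOver A Va) (⟨t, htV⟩ : Va), ?_⟩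
      rw [Points.map_comp, Points.map_yon_map_eq]
      simp only [Function.comp_apply, Homeomorph.symm_apply_apply]
      rw [hpt qu]
      exact (Points.ofPt_eq_map_ofScheme a t).symm.trans hat
    obtain ⟨b, hb⟩ := (range_fst_of_isPullback (hp.1.isPullback a₀)).ge h1
    refine ⟨b, ?_⟩
    rw [Points.map_comp, hb, ← Points.map_comp, ← hτ, Category.assoc, τ.hom_inv_id, Category.comp_id]
  -- inside the quasi-compact neighbourhood
  have hsq : ∀ (L : Type u) [Field L] [Algebra k L],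
      IsPullback (Limits.prod.fst : W.obj ⨯ ext (k := k) L ⟶ _) (prod.map j.hom (𝟙 _)) j.hom
        (Limits.prod.fst : G.left ⨯ ext (k := k) L ⟶ _) := by
    intro L _ _
    refine IsPullback.mk' (by rw [prod.map_fst]) (fun _ l l' h1 h2 => prod.hom_ext h1 ?_) fun T a b e => ?_
    · simpa using congrArg (· ≫ prod.snd) h2
    · exact ⟨prod.lift a (b ≫ prod.snd), prod.lift_fst _ _,
        prod.hom_ext (by rw [Category.assoc, prod.map_fst, prod.lift_fst_assoc, e])
          (by rw [Category.assoc, prod.map_snd, Category.comp_id, prod.lift_snd])⟩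
  have hjΩ : RepWith @IsOpenImmersion (prod.map j.hom (𝟙 (ext (k := k) Ω))) := repWith_of_isPullback (hsq Ω) hj
  have hfstz : Points.map prod.fst (Points.map (prod.lift va (𝟙 _)) r₀) = Points.map prod.fst (Points.mk qz) := by
    rw [← Points.map_comp, prod.lift_fst, Points.map_comp, Points.map_comp, hpt qz]
  obtain ⟨y, -, hy⟩ := exists_of_isPullback (hsq Ω) w₀ (Points.map (prod.lift va (𝟙 _)) r₀) (hw₀.trans hfstz.symm)
  have sqI := IsPullback.of_hasPullback (prod.map j.hom (𝟙 (ext (k := k) Ω))) ιB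
  obtain ⟨rB, hrB⟩ := hya
  obtain ⟨c, hc, -⟩ := exists_of_isPullback sqI y rB (hy.trans hrB.symm)
  have hrep : (pullback (prod.map j.hom (𝟙 (ext (k := k) Ω))) ιB).obj.IsRepresentable :=
    FieldLim.isRepresentable_of_representable (repWith_of_isPullback sqI hjΩ).1
      (isRepresentable_iff_exists_iso.2 ⟨_, ⟨Iso.refl _⟩⟩)
  obtain ⟨B, a₂, hB, ha₂, -, hca⟩ := PureTr.exists_affine_open hrep c
  haveI := hB
  have hy₂ : y ∈ Set.range (Points.map (a₂ ≫ pullback.fst (prod.map j.hom (𝟙 (ext (k := k) Ω))) ιB)) := by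
    obtain ⟨s, hs⟩ := hca
    exact ⟨s, by rw [Points.map_comp, hs, hc]⟩
  have hfin := (FieldSpec.schemePt_descend (k' := kbar) (K := Ω) W hWqc hWqs y
    (a₂ ≫ pullback.fst (prod.map j.hom (𝟙 (ext (k := k) Ω))) ιB)
    (repWith_comp ha₂ (repWith_of_isPullback sqI.flip hιB)) hy₂).map (repWith_of_isPullback (hsq kbar) hj)
  rw [← Points.map_comp, prod.map_map, Category.id_comp, Category.comp_id] at hfin
  have heq : Points.map (prod.map j.hom ((yon S₀).map (specMor (IsScalarTower.toAlgHom k kbar Ω)))) y =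
      Points.mk qz := by
    rw [show prod.map j.hom ((yon S₀).map (specMor (IsScalarTower.toAlgHom k kbar Ω))) =
        prod.map j.hom (𝟙 _) ≫ prod.map (𝟙 _) ((yon S₀).map (specMor (IsScalarTower.toAlgHom k kbar Ω))) by
      rw [prod.map_map, Category.comp_id, Category.id_comp],
      Points.map_comp, hy, ← Points.map_comp]
    have h2 : prod.lift va (𝟙 _) ≫ prod.map (𝟙 _) ((yon S₀).map (specMor (IsScalarTower.toAlgHom k kbar Ω))) =
        (yon S₀).map (specMor J₁) ≫ zL := by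
      refine prod.hom_ext ?_ ?_
      · rw [Category.assoc, prod.map_fst, Category.comp_id, prod.lift_fst]
      · rw [Category.assoc, prod.map_snd, prod.lift_snd_assoc, Category.id_comp, Category.assoc, ← hψo, hψ,
          ← Functor.map_comp, specMor_comp]
        rfl
    rw [h2, Points.map_comp, hpt qz]
  exact heq ▸ hfin

end Groth.L23.GrpScheme
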