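import Mathlib.RingTheory.IsTensorProduct
import Mathlib.Algebra.Module.FinitePresentation
import Mathlib.LinearAlgebra.BilinearMap
import Mathlib.RingTheory.Noetherian.Basic

/-!
# Homomorphisms out of a finite algebra under flat base change
-/

universe u v

open TensorProduct

set_option autoImplicit false
set_option linter.style.haveILetI false

noncomputable section

namespace Groth.L23.HomBC

section Dom

variable (R De : Type u) [CommRing R] [CommRing De] [Algebra R De] (N : Type v) [AddCommGroup N] [Module R N]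

/-- An algebra acts on the linear maps out of it. -/
@[reducible] def domMod : Module De (De →ₗ[R] N) where
  smul e φ := φ.comp (LinearMap.mulLeft R e)
  one_smul φ := LinearMap.ext fun x => show φ (1 * x) = φ x by rw [one_mul]
  mul_smul e e' φ := LinearMap.ext fun x => show φ (e * e' * x) = φ (e' * (e * x)) by
    rw [mul_comm e e', mul_assoc]
  smul_zero e := LinearMap.zero_comp _
  smul_add e φ ψ := LinearMap.add_comp _ _ _
  add_smul e e' φ := LinearMap.ext fun x => show φ ((e + e') * x) = φ (e * x) + φ (e' * x) by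
    rw [add_mul, map_add]
  zero_smul φ := LinearMap.ext fun x => show φ (0 * x) = 0 by rw [zero_mul, map_zero]

variable (D : Type u) [CommRing D] [Algebra D De]

/-- A ring mapping to the algebra acts on the linear maps out of it. -/
@[reducible] def domModVia : Module D (De →ₗ[R] N) :=
  letI := domMod R De N
  Module.compHom _ (algebraMap D De)

end Dom

/-- Maps out of the pushout are determined on the algebra. -/
theorem ext_gen (R : Type u) {C De Dp : Type u} [CommRing R] [CommRing C] [CommRing De] [CommRing Dp] [Algebra R C]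
    [Algebra R De] [Algebra C Dp] [Algebra De Dp] [Algebra R Dp] [IsScalarTower R C Dp] [IsScalarTower R De Dp]
    [Algebra.IsPushout R C De Dp] {N' : Type v} [AddCommGroup N'] [Module C N']
    {ψ ψ' : Dp →ₗ[C] N'} (h : ∀ e : De, ψ (algebraMap De Dp e) = ψ' (algebraMap De Dp e)) : ψ = ψ' := by
  letI : Module R N' := Module.compHom N' (algebraMap R C)
  haveI : IsScalarTower R C N' := ⟨fun r c n => by
    show (r • c) • n = algebraMap R C r • c • n
    rw [Algebra.smul_def, mul_smul]⟩
  exact (Algebra.IsPushout.out (R := R) (S := C) (R' := De) (S' := Dp)).algHom_ext ψ ψ' h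

variable {R C De Dp : Type u} [CommRing R] [CommRing C] [CommRing De] [CommRing Dp] [Algebra R C] [Algebra R De]
  [Algebra C Dp] [Algebra De Dp] [Algebra R Dp] [IsScalarTower R C Dp] [IsScalarTower R De Dp]
  [Algebra.IsPushout R C De Dp]
  {N : Type v} [AddCommGroup N] [Module R N] {N' : Type v} [AddCommGroup N'] [Module C N']
  (ε : N →+ N')

/-- Maps extend to the pushout. -/
theorem exists_ext (hε : ∀ (r : R) (n : N), ε (r • n) = algebraMap R C r • ε n) (φ : De →ₗ[R] N) :
    ∃ ψ : Dp →ₗ[C] N', ∀ e, ψ (algebraMap De Dp e) = ε (φ e) := by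
  letI : Module R N' := Module.compHom N' (algebraMap R C)
  haveI : IsScalarTower R C N' := ⟨fun r c n => by
    show (r • c) • n = algebraMap R C r • c • n
    rw [Algebra.smul_def, mul_smul]⟩
  let εl : N →ₗ[R] N' := { ε with map_smul' := hε }
  let j := Algebra.IsPushout.out (R := R) (S := C) (R' := De) (S' := Dp)
  exact ⟨j.lift (εl ∘ₗ φ), fun e => j.lift_eq _ e⟩

variable [IsNoetherianRing R] [Module.Finite R De] [Module.Flat R C]

/-- Linear maps out of a finite algebra commute with flat base change. -/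
theorem bijective_hom (hε : ∀ (r : R) (n : N), ε (r • n) = algebraMap R C r • ε n)
    (θ : C ⊗[R] N →+ N') (hθ : Function.Bijective θ) (hθε : ∀ c n, θ (c ⊗ₜ n) = c • ε n)
    (r : (De →ₗ[R] N) → (Dp →ₗ[C] N')) (hr : ∀ φ e, r φ (algebraMap De Dp e) = ε (φ e))
    (Φ : C ⊗[R] (De →ₗ[R] N) →+ (Dp →ₗ[C] N')) (hΦ : ∀ c φ, Φ (c ⊗ₜ φ) = c • r φ) :
    Function.Bijective Φ := by
  letI : Module R N' := Module.compHom N' (algebraMap R C)
  haveI : IsScalarTower R C N' := ⟨fun r c n => by
    show (r • c) • n = algebraMap R C r • c • n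
    rw [Algebra.smul_def, mul_smul]⟩
  haveI : Module.FinitePresentation R De := Module.finitePresentation_of_finite R De
  let εl : N →ₗ[R] N' := { ε with map_smul' := hε }
  let θl : C ⊗[R] N →ₗ[C] N' :=
    { θ with
      map_smul' := fun c x => by
        show θ (c • x) = c • θ x
        induction x using TensorProduct.induction_on with
        | zero => simp
        | tmul d n => rw [TensorProduct.smul_tmul', hθε, hθε, smul_eq_mul, mul_smul]
        | add x y hx hy => rw [smul_add, map_add, map_add, hx, hy, smul_add] }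
  let eN : C ⊗[R] N ≃ₗ[C] N' := LinearEquiv.ofBijective θl hθ
  let j := Algebra.IsPushout.out (R := R) (S := C) (R' := De) (S' := Dp)
  let e₁ := (Module.FinitePresentation.isBaseChange_map (R := R) (M := De) (N := N) C).equiv
  let e₂ : (C ⊗[R] De →ₗ[C] C ⊗[R] N) ≃ₗ[C] (Dp →ₗ[C] N') := LinearEquiv.arrowCongr j.equiv eN
  have key : ∀ x, Φ x = e₂ (e₁ x) := fun x => by
    induction x using TensorProduct.induction_on with
    | zero => simp
    | tmul c φ =>
      rw [hΦ, IsBaseChange.equiv_tmul, map_smul]
      refine congrArg (c • ·) ((ext_gen R (De := De)) fun e => ?_)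
      rw [hr]
      show _ = eN (LinearMap.baseChange C φ (j.equiv.symm (algebraMap De Dp e)))
      rw [show j.equiv.symm (algebraMap De Dp e) = 1 ⊗ₜ e from j.equiv_symm_apply e, LinearMap.baseChange_tmul]
      show ε (φ e) = θ (1 ⊗ₜ φ e)
      rw [hθε, one_smul]
    | add x y hx hy => rw [map_add, map_add, map_add, hx, hy]
  rw [show (Φ : _ → _) = e₂ ∘ e₁ from funext key]
  exact e₂.bijective.comp e₁.bijective

variable {D D' : Type u} [CommRing D] [CommRing D'] [Algebra D D'] [Algebra D De] [Algebra D' Dp] [Algebra D Dp]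
  [IsScalarTower D D' Dp] [IsScalarTower D De Dp] [Algebra.IsPushout D D' De Dp]

set_option maxHeartbeats 800000 in
/-- The same base change, along another presentation of the pushout. -/
theorem bijective_twist (hε : ∀ (r : R) (n : N), ε (r • n) = algebraMap R C r • ε n)
    (θ : C ⊗[R] N →+ N') (hθ : Function.Bijective θ) (hθε : ∀ c n, θ (c ⊗ₜ n) = c • ε n)
    (r : (De →ₗ[R] N) → (Dp →ₗ[C] N')) (hr : ∀ φ e, r φ (algebraMap De Dp e) = ε (φ e)) :
    letI := domModVia R De N D
    ∀ (Φ : D' ⊗[D] (De →ₗ[R] N) →+ (Dp →ₗ[C] N'))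
      (_ : ∀ d φ, Φ (d ⊗ₜ φ) = (r φ).comp (LinearMap.mulLeft C (algebraMap D' Dp d))),
      Function.Bijective Φ := by
  letI := domModVia R De N D
  intro Φ hΦ
  letI iL := domMod R De N
  letI iP := domMod C Dp N'
  haveI : IsScalarTower D De (De →ₗ[R] N) := ⟨fun d e φ => LinearMap.ext fun x => by
    show φ ((d • e) * x) = φ (e * (algebraMap D De d * x))
    rw [Algebra.smul_def, mul_assoc, mul_left_comm]⟩
  haveI : IsScalarTower R De (De →ₗ[R] N) := ⟨fun a e φ => LinearMap.ext fun x => by
    show φ ((a • e) * x) = a • φ (e * x)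
    rw [Algebra.smul_mul_assoc, map_smul]⟩
  have hadd : ∀ φ φ', r (φ + φ') = r φ + r φ' := fun φ φ' => (ext_gen R (De := De)) fun e => by
    rw [LinearMap.add_apply, hr, hr, hr, LinearMap.add_apply, map_add]
  have hsemi : ∀ (e : De) φ, r (e • φ) = algebraMap De Dp e • r φ := fun e φ =>
    (ext_gen R (De := De)) fun x => by
      rw [hr]
      show ε (φ (e * x)) = r φ (algebraMap De Dp e * algebraMap De Dp x)
      rw [← map_mul, hr]
  let Ψ : Dp ⊗[De] (De →ₗ[R] N) →+ (Dp →ₗ[C] N') := TensorProduct.liftAddHom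
    (AddMonoidHom.mk' (fun z : Dp => AddMonoidHom.mk' (fun φ => z • r φ) fun φ φ' => by
        show z • r (φ + φ') = _
        rw [hadd, smul_add])
      fun z z' => AddMonoidHom.ext fun φ => add_smul z z' (r φ))
    fun e z φ => by
      show (e • z) • r φ = z • r (e • φ)
      rw [hsemi, ← mul_smul, Algebra.smul_def, mul_comm]
  have hΨ : Function.Bijective Ψ := by
    let eC := Algebra.IsPushout.cancelBaseChange R C De Dp (De →ₗ[R] N)
    let Φ₁ : C ⊗[R] (De →ₗ[R] N) →+ (Dp →ₗ[C] N') := Ψ.comp eC.symm.toLinearMap.toAddMonoidHom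
    have h₁ := bijective_hom ε hε θ hθ hθε r hr Φ₁ fun c φ => by
      show Ψ (eC.symm (c ⊗ₜ φ)) = _
      rw [Algebra.IsPushout.cancelBaseChange_symm_tmul]
      refine LinearMap.ext fun x => ?_
      show r φ (algebraMap C Dp c * x) = c • r φ x
      rw [← Algebra.smul_def, map_smul]
    rw [show (Ψ : _ → _) = Φ₁ ∘ eC from funext fun x => by
      show Ψ x = Ψ (eC.symm (eC x))
      rw [LinearEquiv.symm_apply_apply]]
    exact h₁.comp eC.bijective
  let eD := Algebra.IsPushout.cancelBaseChange D D' De Dp (De →ₗ[R] N)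
  rw [show (Φ : _ → _) = Ψ ∘ eD.symm from funext fun x => by
    induction x using TensorProduct.induction_on with
    | zero => simp
    | tmul d φ =>
      show Φ (d ⊗ₜ φ) = Ψ (eD.symm (d ⊗ₜ φ))
      rw [hΦ, Algebra.IsPushout.cancelBaseChange_symm_tmul]
      rfl
    | add x y hx hy => simp only [map_add, Function.comp_apply, hx, hy]]
  exact hΨ.comp eD.symm.bijective

end Groth.L23.HomBC
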