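import Groth.Agent.L23.GlobSec

/-!
# Morphisms of modules from compatible maps on the affine objects over an atlas
-/

universe u

open CategoryTheory CategoryTheory.Limits AlgebraicGeometry Opposite AlgSp

set_option autoImplicit false
set_option linter.style.haveILetI false
set_option backward.isDefEq.respectTransparency false
set_option backward.isDefEq.respectTransparency.types false

noncomputable section

namespace Groth.L23.HomGlue

open Groth.L09.ModEt Groth.L23.GlobSec

variable {S : Scheme.{u}} {X : Sp S} {a : Atlas X} {M N : ModEt X}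
  (Ψ : ∀ (V : EtOver X), IsAffine V.obj.left.left → (V ⟶ a.U) → (sectModEt M V →ₗ[Γ₀ V] sectModEt N V))

/-- The value of the glued map at a section. -/
def IsImg {E : EtOver X} (s : sectModEt M E) (t : sectModEt N E) : Prop :=
  ∀ (V : EtOver X) (hV : IsAffine V.obj.left.left) (g : V ⟶ E) (h : V ⟶ a.U), res N g t = Ψ V hV h (res M g s)

variable {Ψ}

theorem IsImg.unique {E : EtOver X} {s : sectModEt M E} {t t' : sectModEt N E} (ht : IsImg Ψ s t)
    (ht' : IsImg Ψ s t') : t = t' := by
  choose W hW g h hg using exists_nhd (a := a) E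
  exact eq_of_cover N (c := g) (fun e => ⟨e, hg e⟩) fun e =>
    (ht (W e) (hW e) (g e) (h e)).trans (ht' (W e) (hW e) (g e) (h e)).symm

theorem IsImg.res {E E' : EtOver X} {s : sectModEt M E} {t : sectModEt N E} (ht : IsImg Ψ s t) (k : E' ⟶ E) :
    IsImg Ψ (res M k s) (res N k t) := fun V hV g h => by
  rw [← res_comp, ← res_comp]; exact ht V hV _ h

theorem IsImg.add {E : EtOver X} {s s' : sectModEt M E} {t t' : sectModEt N E} (ht : IsImg Ψ s t)
    (ht' : IsImg Ψ s' t') : IsImg Ψ (s + s') (t + t') := fun V hV g h => by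
  rw [map_add, map_add, map_add, ht V hV g h, ht' V hV g h]

variable (hnat : ∀ (V V' : EtOver X) (hV : IsAffine V.obj.left.left) (hV' : IsAffine V'.obj.left.left)
    (g : V' ⟶ V) (h : V ⟶ a.U) (x : sectModEt M V), res N g (Ψ V hV h x) = Ψ V' hV' (g ≫ h) (res M g x))
  (hind : ∀ (V : EtOver X) (hV : IsAffine V.obj.left.left) (h h' : V ⟶ a.U), Ψ V hV h = Ψ V hV h')

include hnat hind

theorem res_eq {E : EtOver X} (s : sectModEt M E) {W W' V : EtOver X} (hW : IsAffine W.obj.left.left)
    (hW' : IsAffine W'.obj.left.left) (hV : IsAffine V.obj.left.left) (k : V ⟶ W) (k' : V ⟶ W') (g : W ⟶ E)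
    (g' : W' ⟶ E) (h : W ⟶ a.U) (h' : W' ⟶ a.U) (e : k ≫ g = k' ≫ g') :
    res N k (Ψ W hW h (res M g s)) = res N k' (Ψ W' hW' h' (res M g' s)) := by
  rw [hnat W V hW hV, hnat W' V hW' hV, ← res_comp, ← res_comp, e, hind V hV (k ≫ h) (k' ≫ h')]

theorem exists_img {E : EtOver X} (s : sectModEt M E) : ∃ t, IsImg Ψ s t := by
  choose W hW g h hg using exists_nhd (a := a) E
  have hc : IsCover g := fun e => ⟨e, hg e⟩
  obtain ⟨t, ht⟩ := exists_glue N hc (fun e => Ψ (W e) (hW e) (h e) (res M (g e) s)) fun i j => by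
    choose W' hW' g' h' hg' using exists_nhd (a := a) (EtOver.pullbackObj (g i) (g j))
    refine eq_of_cover N (c := g') (fun e => ⟨e, hg' e⟩) fun e => ?_
    rw [← res_comp, ← res_comp]
    exact res_eq hnat hind s (hW i) (hW j) (hW' e) _ _ _ _ _ _ (by
      rw [Category.assoc, Category.assoc, EtOver.pullback_condition])
  refine ⟨t, fun W' hW' g' h' => ?_⟩
  choose W'' hW'' p q hp using fun w => exists_nhd (a := a) (EtOver.pullbackObj g' (g w))
  refine eq_of_cover N (c := fun i : Σ e, (EtOver.pullbackObj g' (g e)).obj.left.left =>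
    p i.1 i.2 ≫ EtOver.pullbackFst g' (g i.1)) (fun w => ?_) fun i => ?_
  · obtain ⟨e, x, hx⟩ := hc.pullback g' w
    obtain ⟨y, hy⟩ := hp e x
    refine ⟨⟨e, x⟩, y, ?_⟩
    show ((p e x).hom.left.left ≫ (EtOver.pullbackFst g' (g e)).hom.left.left) y = w
    rw [Scheme.Hom.comp_apply, hy, hx]
  · rw [← res_comp, Category.assoc, EtOver.pullback_condition, ← Category.assoc, res_comp _ _ (g i.1), ht]
    exact res_eq hnat hind s (hW i.1) hW' (hW'' i.1 i.2) _ _ _ _ _ _ (by
      rw [Category.assoc, Category.assoc, EtOver.pullback_condition])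

set_option maxHeartbeats 800000 in
/-- Compatible maps on the affine objects over the atlas come from a morphism. -/
theorem exists_hom : ∃ ψ : M ⟶ N, ∀ (V : EtOver X) (hV : IsAffine V.obj.left.left) (h : V ⟶ a.U)
    (x : sectModEt M V), CohNbhd.app₀ ψ V x = Ψ V hV h x := by
  choose F hF using fun (E : EtOver X) (s : sectModEt M E) => exists_img hnat hind s
  have hadd : ∀ (E : EtOver X) (s s' : sectModEt M E), F E (s + s') = F E s + F E s' := fun E s s' =>
    (hF E (s + s')).unique ((hF E s).add (hF E s'))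
  have hres : ∀ {E E' : EtOver X} (k : E' ⟶ E) (s : sectModEt M E), F E' (res M k s) = res N k (F E s) :=
    fun k s => (hF _ _).unique ((hF _ s).res k)
  let φ : M.val.presheaf ⟶ N.val.presheaf :=
    { app := fun E => AddCommGrpCat.ofHom (AddMonoidHom.mk' (F E.unop) (hadd E.unop))
      naturality := fun E E' k => AddCommGrpCat.hom_ext (AddMonoidHom.ext fun s => hres k.unop s) }
  have hlin : ∀ (E : (EtOver X)ᵒᵖ) (r : (OEtRing X).obj.obj E) (s : M.val.obj E),
      φ.app E (r • s) = r • (show N.val.obj E from φ.app E s) := fun E r s => by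
    refine (hF E.unop _).unique fun V hV g h => ?_
    have e1 := M.val.map_smul g.op r s
    have e2 := N.val.map_smul g.op r (F E.unop s)
    refine e2.trans ?_
    rw [show res M g (r • s) = _ from e1]
    show _ = Ψ V hV h ((show Γ₀ V from ULift.down ((OEtRing X).obj.map g.op r)) • res M g s)
    rw [map_smul, ← hF E.unop s V hV g h]
    rfl
  refine ⟨⟨PresheafOfModules.homMk φ hlin⟩, fun V hV h x => ?_⟩
  show F V x = _
  have := hF V x V hV (𝟙 V) h
  rw [res_id, res_id] at this
  exact this

end Groth.L23.HomGlue
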