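import Groth.Agent.L23.HomBC
import Groth.Agent.L23.HomGlue
import Groth.Agent.L23.CritPush
import Groth.Agent.L23.PushAffine
import Groth.Agent.L23.QcohClosure
import Mathlib.RingTheory.Regular.LinearMap

/-!
# Non-zero maps out of the direct image of a finite surjective affine scheme

For `q : h_D ⟶ X` finite surjective with `D` affine, and `X` with affine products of affine etale objects, every
non-zero coherent module receives a non-zero map from `q_* O`: such maps form the descent of the modules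
`Hom(Γ(D ×_X E), Q(E))` along the faithfully flat map `Γ(D) → Γ(D ×_X U)`.
-/

universe u

open CategoryTheory CategoryTheory.Limits AlgebraicGeometry Opposite AlgSp TensorProduct

set_option autoImplicit false
set_option linter.style.haveILetI false
set_option backward.isDefEq.respectTransparency false
set_option backward.isDefEq.respectTransparency.types false

noncomputable section

namespace Groth.L23.HomDesc

open Groth.L09.ModEt Groth.L23.GlobSec

variable {S : Scheme.{u}} {X : Sp S} {D : Over S} {q : (yon S).obj D ⟶ X} (hq : Representable q)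

/-- Functions on an object act on functions on its base change. -/
scoped instance algBc (E : EtOver X) : Algebra (Γ₀ E) (Γ₀ (EtOver.bcObj hq E)) := (πbc hq E).toAlgebra

/-- The projection of a base change to the affine scheme. -/
def tD (E : EtOver X) : (EtOver.bcObj hq E).obj.left ⟶ D := (yon S).preimage (hq.fst E.obj.hom)

theorem bcMap_tD {E E' : EtOver X} (g : E' ⟶ E) : (EtOver.bcMap hq g).hom.left ≫ tD hq E = tD hq E' :=
  (yon S).map_injective (by
    rw [Functor.map_comp, tD, tD, Functor.map_preimage, Functor.map_preimage, EtOver.map_bcMap_fst])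

/-- Functions on the affine scheme act on functions on base changes. -/
scoped instance algD (E : EtOver X) : Algebra Γ(D.left, ⊤) (Γ₀ (EtOver.bcObj hq E)) :=
  ((tD hq E).left.appTop.hom).toAlgebra

theorem pb_algD {E E' : EtOver X} (g : E' ⟶ E) (d : Γ(D.left, ⊤)) :
    pb (EtOver.bcMap hq g) (algebraMap _ (Γ₀ (EtOver.bcObj hq E)) d) = algebraMap _ (Γ₀ (EtOver.bcObj hq E')) d := by
  show ((tD hq E).left.appTop ≫ (EtOver.bcMap hq g).hom.left.left.appTop) d = (tD hq E').left.appTop d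
  rw [← Scheme.Hom.comp_appTop, ← Over.comp_left, bcMap_tD]

theorem pb_bcMap_comp {E E' E'' : EtOver X} (h : E'' ⟶ E') (g : E' ⟶ E) (x : Γ₀ (EtOver.bcObj hq E)) :
    pb (EtOver.bcMap hq (h ≫ g)) x = pb (EtOver.bcMap hq h) (pb (EtOver.bcMap hq g) x) := by
  rw [show EtOver.bcMap hq (h ≫ g) = EtOver.bcMap hq h ≫ EtOver.bcMap hq g from (EtOver.bc hq).map_comp h g]
  rfl

variable (Q : ModEt X)

/-- The maps from functions on the base change to sections. -/
abbrev L (E : EtOver X) := Γ₀ (EtOver.bcObj hq E) →ₗ[Γ₀ E] sectModEt Q E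

/-- The action of the affine scheme on these maps. -/
scoped instance modD (E : EtOver X) : Module Γ(D.left, ⊤) (L hq Q E) :=
  HomBC.domModVia (Γ₀ E) (Γ₀ (EtOver.bcObj hq E)) (sectModEt Q E) Γ(D.left, ⊤)

theorem modD_apply {E : EtOver X} (d : Γ(D.left, ⊤)) (φ : L hq Q E) (x : Γ₀ (EtOver.bcObj hq E)) :
    (d • φ) x = φ (algebraMap _ (Γ₀ (EtOver.bcObj hq E)) d * x) := rfl

variable (hfa : RepWith @IsFinite q)

include hfa in
theorem isAffine_bc (E : EtOver X) [IsAffine E.obj.left.left] : IsAffine (EtOver.bcObj hq E).obj.left.left :=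
  isAffine_bcObj hq (repWith_mono (fun φ (_ : IsFinite φ) => inferInstanceAs (IsAffineHom φ)) hfa) E

include hfa in
theorem finite_bc (E : EtOver X) [IsAffine E.obj.left.left] :
    Module.Finite (Γ₀ E) (Γ₀ (EtOver.bcObj hq E)) := by
  haveI : IsFinite (EtOver.bcπ hq E).left := Groth.L23.repWith_snd hfa E.obj.hom
  exact RingHom.finite_algebraMap.1 ((HasAffineProperty.iff_of_isAffine (P := @IsFinite)).1 ‹_›).2

variable {E E' : EtOver X} [IsAffine E.obj.left.left] [IsAffine E'.obj.left.left] (g : E' ⟶ E)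

include hfa in
theorem isPushout_bc :
    letI := (pb g).toAlgebra
    letI := (pb (EtOver.bcMap hq g)).toAlgebra
    letI : Algebra (Γ₀ E) (Γ₀ (EtOver.bcObj hq E')) := ((πbc hq E').comp (pb g)).toAlgebra
    ∃ (_ : IsScalarTower (Γ₀ E) (Γ₀ E') (Γ₀ (EtOver.bcObj hq E')))
      (_ : IsScalarTower (Γ₀ E) (Γ₀ (EtOver.bcObj hq E)) (Γ₀ (EtOver.bcObj hq E'))),
      Algebra.IsPushout (Γ₀ E) (Γ₀ E') (Γ₀ (EtOver.bcObj hq E)) (Γ₀ (EtOver.bcObj hq E')) := by
  haveI := isAffine_bc hq hfa E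
  haveI := isAffine_bc hq hfa E'
  letI := (pb g).toAlgebra
  letI := (pb (EtOver.bcMap hq g)).toAlgebra
  letI : Algebra (Γ₀ E) (Γ₀ (EtOver.bcObj hq E')) := ((πbc hq E').comp (pb g)).toAlgebra
  have sq : IsPullback (EtOver.bcMap hq g).hom.left.left (EtOver.bcπ hq E').left (EtOver.bcπ hq E).left
      g.hom.left.left := EtOver.isPullback_bcMap_left hq g
  haveI h₁ : IsScalarTower (Γ₀ E) (Γ₀ E') (Γ₀ (EtOver.bcObj hq E')) := IsScalarTower.of_algebraMap_eq fun r => rfl
  haveI h₂ : IsScalarTower (Γ₀ E) (Γ₀ (EtOver.bcObj hq E)) (Γ₀ (EtOver.bcObj hq E')) :=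
    IsScalarTower.of_algebraMap_eq fun r => by
      show (g.hom.left.left.appTop ≫ (EtOver.bcπ hq E').left.appTop).hom r =
        ((EtOver.bcπ hq E).left.appTop ≫ (EtOver.bcMap hq g).hom.left.left.appTop).hom r
      rw [← Scheme.Hom.comp_appTop, ← Scheme.Hom.comp_appTop, sq.w]
  exact ⟨h₁, h₂, CommRingCat.isPushout_iff_isPushout.1 (isPushout_appTop_of_isPullback sq).flip⟩

include hfa in
theorem exists_resL (φ : L hq Q E) :
    ∃ ψ : L hq Q E', ∀ e, ψ (pb (EtOver.bcMap hq g) e) = res Q g (φ e) := by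
  letI := (pb g).toAlgebra
  letI := (pb (EtOver.bcMap hq g)).toAlgebra
  letI : Algebra (Γ₀ E) (Γ₀ (EtOver.bcObj hq E')) := ((πbc hq E').comp (pb g)).toAlgebra
  obtain ⟨h₁, h₂, h₃⟩ := isPushout_bc hq hfa g
  haveI := h₁; haveI := h₂; haveI := h₃
  exact HomBC.exists_ext (res Q g) (fun r n => res_smul Q g r n) φ

/-- Restriction of maps. -/
def resL (φ : L hq Q E) : L hq Q E' := (exists_resL hq Q hfa g φ).choose

theorem resL_apply (φ : L hq Q E) (e : Γ₀ (EtOver.bcObj hq E)) :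
    resL hq Q hfa g φ (pb (EtOver.bcMap hq g) e) = res Q g (φ e) := (exists_resL hq Q hfa g φ).choose_spec e

include hfa in
theorem extL {ψ ψ' : L hq Q E'} (h : ∀ e, ψ (pb (EtOver.bcMap hq g) e) = ψ' (pb (EtOver.bcMap hq g) e)) :
    ψ = ψ' := by
  letI := (pb g).toAlgebra
  letI := (pb (EtOver.bcMap hq g)).toAlgebra
  letI : Algebra (Γ₀ E) (Γ₀ (EtOver.bcObj hq E')) := ((πbc hq E').comp (pb g)).toAlgebra
  obtain ⟨h₁, h₂, h₃⟩ := isPushout_bc hq hfa g
  haveI := h₁; haveI := h₂; haveI := h₃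
  exact HomBC.ext_gen (Γ₀ E) (De := Γ₀ (EtOver.bcObj hq E)) h

theorem resL_add (φ φ' : L hq Q E) : resL hq Q hfa g (φ + φ') = resL hq Q hfa g φ + resL hq Q hfa g φ' :=
  extL hq Q hfa g fun e => by
    rw [LinearMap.add_apply, resL_apply, resL_apply, resL_apply, LinearMap.add_apply, map_add]

theorem resL_mul (φ : L hq Q E) (c : Γ₀ (EtOver.bcObj hq E)) :
    resL hq Q hfa g (φ.comp (LinearMap.mulLeft (Γ₀ E) c)) =
      (resL hq Q hfa g φ).comp (LinearMap.mulLeft (Γ₀ E') (pb (EtOver.bcMap hq g) c)) :=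
  extL hq Q hfa g fun e => by
    rw [resL_apply, LinearMap.comp_apply, LinearMap.comp_apply, LinearMap.mulLeft_apply, LinearMap.mulLeft_apply,
      ← map_mul, resL_apply]

theorem resL_smul (φ : L hq Q E) (d : Γ(D.left, ⊤)) :
    resL hq Q hfa g (d • φ) = d • resL hq Q hfa g φ :=
  extL hq Q hfa g fun e => by
    rw [resL_apply, modD_apply, modD_apply, ← pb_algD hq g d, ← map_mul, resL_apply]

/-- Restriction as a linear map over the affine scheme. -/
def resₗ : L hq Q E →ₗ[Γ(D.left, ⊤)] L hq Q E' where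
  toFun := resL hq Q hfa g
  map_add' := resL_add hq Q hfa g
  map_smul' d φ := resL_smul hq Q hfa g φ d

omit g in
theorem resL_comp {E'' : EtOver X} [IsAffine E''.obj.left.left] (h : E'' ⟶ E') (g : E' ⟶ E) (φ : L hq Q E) :
    resL hq Q hfa (h ≫ g) φ = resL hq Q hfa h (resL hq Q hfa g φ) :=
  extL hq Q hfa (h ≫ g) fun e => by
    rw [resL_apply, pb_bcMap_comp, resL_apply, resL_apply, res_comp]

omit g in
theorem resL_id (φ : L hq Q E) : resL hq Q hfa (𝟙 E) φ = φ :=
  extL hq Q hfa (𝟙 E) fun e => by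
    rw [resL_apply, res_id, show EtOver.bcMap hq (𝟙 E) = 𝟙 _ from (EtOver.bc hq).map_id E, pb_id]

section Prod

variable (a : Atlas X) [IsAffine D.left]

include hfa in
omit g [IsAffine E'.obj.left.left] in
theorem isPushout_prod [IsAffine (EtOver.prodObj a.U E).obj.left.left] :
    CategoryTheory.IsPushout (tD hq a.U).left.appTop (tD hq E).left.appTop
      (EtOver.bcMap hq (EtOver.prodFst a.U E)).hom.left.left.appTop
      (EtOver.bcMap hq (EtOver.prodSnd a.U E)).hom.left.left.appTop := by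
  haveI := isAffine_bc hq hfa E
  haveI := isAffine_bc hq hfa a.U
  let f₁ := EtOver.prodFst a.U E
  let f₂ := EtOver.prodSnd a.U E
  have hprod : IsPullback ((yon S).map f₁.hom.left) ((yon S).map f₂.hom.left) a.U.obj.hom E.obj.hom := by
    show IsPullback ((yon S).map (E.property.1.snd a.U.obj.hom)) ((yon S).map (E.property.1.fst' a.U.obj.hom)) _ _
    rw [Functor.relativelyRepresentable.map_fst']
    exact (E.property.1.isPullback a.U.obj.hom).flip
  have τ := ((EtOver.isPullback_map_bcMap hq f₁).paste_vert hprod).flip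
  rw [← Functor.map_comp, ← EtOver.bcMap_snd hq f₂, Functor.map_comp, ← (hq.isPullback a.U.obj.hom).w] at τ
  have hc : (EtOver.bcMap hq f₂).hom.left ≫ tD hq E = (EtOver.bcMap hq f₁).hom.left ≫ tD hq a.U := by
    rw [bcMap_tD, bcMap_tD]
  have T : IsPullback ((yon S).map (EtOver.bcMap hq f₂).hom.left) ((yon S).map (EtOver.bcMap hq f₁).hom.left)
      ((yon S).map (tD hq E)) ((yon S).map (tD hq a.U)) := by
    refine IsPullback.of_right (h₁₂ := (yon S).map (EtOver.bcπ hq E)) (h₂₂ := q) (v₁₃ := E.obj.hom) ?_ ?_ ?_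
    · simp only [tD, Functor.map_preimage]
      exact τ
    · rw [← Functor.map_comp, ← Functor.map_comp, hc]
    · simp only [tD, Functor.map_preimage]
      exact (hq.isPullback E.obj.hom).flip
  exact isPushout_appTop_of_isPullback ((IsPullback.of_map (yon S) hc T).map (Over.forget S)).flip

/-- Products of functions on the affine scheme with restrictions of maps. -/
def μ [IsAffine (EtOver.prodObj a.U E).obj.left.left] :
    Γ₀ (EtOver.bcObj hq a.U) ⊗[Γ(D.left, ⊤)] L hq Q E →+ L hq Q (EtOver.prodObj a.U E) :=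
  TensorProduct.liftAddHom
    (AddMonoidHom.mk' (fun c => AddMonoidHom.mk'
        (fun φ => (resL hq Q hfa (EtOver.prodSnd a.U E) φ).comp
          (LinearMap.mulLeft _ (pb (EtOver.bcMap hq (EtOver.prodFst a.U E)) c)))
        fun φ φ' => by rw [resL_add, LinearMap.add_comp])
      fun c c' => AddMonoidHom.ext fun φ => LinearMap.ext fun x => by
        show resL hq Q hfa _ φ (_ * x) = resL hq Q hfa _ φ (_ * x) + resL hq Q hfa _ φ (_ * x)
        rw [map_add, add_mul, map_add])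
    fun d c φ => LinearMap.ext fun x => by
      show resL hq Q hfa _ φ (pb _ (d • c) * x) = resL hq Q hfa _ (d • φ) (pb _ c * x)
      rw [resL_smul, modD_apply, Algebra.smul_def, RingHom.map_mul, pb_algD, mul_assoc]

omit [IsAffine D.left] in
theorem μ_tmul [IsAffine (EtOver.prodObj a.U E).obj.left.left] (c : Γ₀ (EtOver.bcObj hq a.U)) (φ : L hq Q E) :
    μ hq Q hfa a (c ⊗ₜ[Γ(D.left, ⊤)] φ) = (resL hq Q hfa (EtOver.prodSnd a.U E) φ).comp
      (LinearMap.mulLeft _ (pb (EtOver.bcMap hq (EtOver.prodFst a.U E)) c)) := rfl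

set_option maxHeartbeats 1600000 in
omit g [IsAffine E'.obj.left.left] in
theorem bijective_μ [Q.IsQuasicoherent] [IsNoetherianRing (Γ₀ E)]
    [IsAffine (EtOver.prodObj a.U E).obj.left.left] :
    Function.Bijective (μ (E := E) hq Q hfa a) := by
  let P := EtOver.prodObj a.U E
  let f₁ := EtOver.prodFst a.U E
  let f₂ := EtOver.prodSnd a.U E
  haveI := finite_bc hq hfa E
  letI := (pb f₂).toAlgebra
  letI := (pb (EtOver.bcMap hq f₂)).toAlgebra
  letI : Algebra (Γ₀ E) (Γ₀ (EtOver.bcObj hq P)) := ((πbc hq P).comp (pb f₂)).toAlgebra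
  obtain ⟨h₁, h₂, h₃⟩ := isPushout_bc hq hfa f₂
  haveI := h₁; haveI := h₂; haveI := h₃
  haveI : Module.Flat (Γ₀ E) (Γ₀ P) := flat_pb f₂
  letI := (pb (EtOver.bcMap hq f₁)).toAlgebra
  haveI : IsScalarTower Γ(D.left, ⊤) (Γ₀ (EtOver.bcObj hq a.U)) (Γ₀ (EtOver.bcObj hq P)) :=
    IsScalarTower.of_algebraMap_eq fun d => (pb_algD hq f₁ d).symm
  haveI : IsScalarTower Γ(D.left, ⊤) (Γ₀ (EtOver.bcObj hq E)) (Γ₀ (EtOver.bcObj hq P)) :=
    IsScalarTower.of_algebraMap_eq fun d => (pb_algD hq f₂ d).symm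
  haveI : Algebra.IsPushout Γ(D.left, ⊤) (Γ₀ (EtOver.bcObj hq a.U)) (Γ₀ (EtOver.bcObj hq E))
      (Γ₀ (EtOver.bcObj hq P)) := CommRingCat.isPushout_iff_isPushout.1 (isPushout_prod hq hfa a)
  exact HomBC.bijective_twist (res Q f₂) (fun r n => res_smul Q f₂ r n) (θ Q f₂)
    (bc_of_isQuasicoherent Q f₂) (fun c n => θ_tmul Q f₂ c n) (resL hq Q hfa f₂)
    (fun φ e => resL_apply hq Q hfa f₂ φ e) (μ hq Q hfa a) fun d φ => μ_tmul hq Q hfa a d φ

end Prod

section Main

omit g
omit E E'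

variable {a : Atlas X} [IsAffine D.left]
  (hnoeth : ∀ (E : EtOver X) [IsAffine E.obj.left.left], IsNoetherianRing (Γ₀ E))
  (hsurj : RepWith @Surjective q) [Q.IsFinitePresentation]

include hfa hsurj hnoeth in
omit [IsAffine D.left] in
/-- Over the atlas there are non-zero maps. -/
theorem exists_L_ne_zero (hne : ∃ s : sectModEt Q a.U, s ≠ 0) : ∃ φ : L hq Q a.U, φ ≠ 0 := by
  haveI := hnoeth a.U
  haveI := finite_sectModEt Q a.U
  haveI := finite_bc hq hfa a.U
  by_contra hno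
  push Not at hno
  have hsub : Subsingleton (L hq Q a.U) := ⟨fun x y => (hno x).trans (hno y).symm⟩
  obtain ⟨r, hr, hreg⟩ := IsSMulRegular.subsingleton_linearMap_iff.1 hsub
  have hr0 : πbc hq a.U r = 0 := by
    have h := Module.mem_annihilator.1 hr 1
    rwa [Algebra.smul_def, mul_one] at h
  haveI : Surjective (EtOver.bcπ hq a.U).left := Groth.L23.repWith_snd hsurj a.U.obj.hom
  have hnil : IsNilpotent r := nilpotent_iff_mem_prime.2 fun J hJ => by
    haveI := hJ
    obtain ⟨e, he⟩ := exists_primeAtPt a.U.obj.left.left J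
    obtain ⟨w, hw⟩ := (EtOver.bcπ hq a.U).left.surjective e
    rw [← he, ← hw, ← comap_primeAtPt]
    exact Ideal.mem_comap.2 (by
      show πbc hq a.U r ∈ _
      rw [hr0]
      exact zero_mem _)
  obtain ⟨k, hk⟩ := hnil
  obtain ⟨s, hs⟩ := hne
  exact hs ((IsSMulRegular.pow k hreg) (by simp [hk]))

variable (hP : ∀ (E E' : EtOver X), IsAffine E.obj.left.left → IsAffine E'.obj.left.left →
    IsAffine (EtOver.prodObj E E').obj.left.left)

include hfa hsurj hnoeth hP in
set_option maxHeartbeats 1600000 in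
/-- Some non-zero map over the atlas descends. -/
theorem exists_compat (hne : ∃ s : sectModEt Q a.U, s ≠ 0) :
    ∃ φ : L hq Q a.U, φ ≠ 0 ∧ ∀ (W : EtOver X) [IsAffine W.obj.left.left] (g h : W ⟶ a.U),
      resL hq Q hfa g φ = resL hq Q hfa h φ := by
  let R := EtOver.prodObj a.U a.U
  haveI hR : IsAffine R.obj.left.left := hP _ _ a.aff a.aff
  let PR := EtOver.prodObj a.U R
  haveI hPR : IsAffine PR.obj.left.left := hP _ _ a.aff hR
  let p₁ : R ⟶ a.U := EtOver.prodFst a.U a.U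
  let p₂ : R ⟶ a.U := EtOver.prodSnd a.U a.U
  have hlift : ∀ (W : EtOver X) (g h : W ⟶ a.U), ∃ l : W ⟶ R, l ≫ p₁ = g ∧ l ≫ p₂ = h := fun W g h =>
    ⟨(EtOver.prodIsLimit a.U a.U).lift (BinaryFan.mk g h), (EtOver.prodIsLimit a.U a.U).fac _ ⟨.left⟩,
      (EtOver.prodIsLimit a.U a.U).fac _ ⟨.right⟩⟩
  by_contra hno
  push Not at hno
  obtain ⟨φ, hφ⟩ := exists_L_ne_zero hq Q hfa hnoeth hsurj hne
  let δ : L hq Q a.U →ₗ[Γ(D.left, ⊤)] L hq Q R := resₗ hq Q hfa p₁ - resₗ hq Q hfa p₂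
  have hδ : Function.Injective δ := (injective_iff_map_eq_zero δ).2 fun ψ hψ => by
    by_contra h0
    obtain ⟨W, hW, g, h, hgh⟩ := hno ψ h0
    haveI := hW
    obtain ⟨l, rfl, rfl⟩ := hlift W g h
    refine hgh ?_
    rw [resL_comp, resL_comp]
    exact congrArg _ (sub_eq_zero.1 hψ)
  haveI : Module.Flat Γ(D.left, ⊤) (Γ₀ (EtOver.bcObj hq a.U)) := by
    haveI := isAffine_bc hq hfa a.U
    haveI : Etale (tD hq a.U).left := repWith_prop a.U.property (by
      have := (hq.isPullback a.U.obj.hom).flip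
      rwa [show hq.fst a.U.obj.hom = (yon S).map (tD hq a.U) from by rw [tD, Functor.map_preimage]] at this)
    haveI : Flat (tD hq a.U).left := inferInstance
    exact RingHom.flat_algebraMap_iff.1 ((HasRingHomProperty.iff_of_isAffine (P := @Flat)).1 this)
  have hlT : Function.Injective (δ.lTensor (Γ₀ (EtOver.bcObj hq a.U))) :=
    Module.Flat.lTensor_preserves_injective_linearMap δ hδ
  haveI := hnoeth a.U
  haveI := hnoeth R
  obtain ⟨y, hy⟩ := (bijective_μ hq Q hfa a (E := a.U)).2 (resL hq Q hfa p₁ φ)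
  obtain ⟨m₁, hm₁, hm₁'⟩ := hlift PR (EtOver.prodFst a.U R) (EtOver.prodSnd a.U R ≫ p₁)
  obtain ⟨m₂, hm₂, hm₂'⟩ := hlift PR (EtOver.prodFst a.U R) (EtOver.prodSnd a.U R ≫ p₂)
  have key : ∀ z, μ hq Q hfa a (δ.lTensor (Γ₀ (EtOver.bcObj hq a.U)) z) =
      resL hq Q hfa m₁ (μ hq Q hfa a z) - resL hq Q hfa m₂ (μ hq Q hfa a z) := fun z => by
    induction z using TensorProduct.induction_on with
    | zero =>
      rw [map_zero, map_zero, map_zero]
      exact ((congrArg₂ (· - ·) (resₗ hq Q hfa m₁).map_zero (resₗ hq Q hfa m₂).map_zero).trans (sub_self 0)).symm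
    | tmul c ψ =>
      rw [LinearMap.lTensor_tmul, LinearMap.sub_apply, TensorProduct.tmul_sub, map_sub]
      have h1 : ∀ (m : PR ⟶ R) (p : R ⟶ a.U), m ≫ p₁ = EtOver.prodFst a.U R → m ≫ p₂ = EtOver.prodSnd a.U R ≫ p →
          μ hq Q hfa a (c ⊗ₜ[Γ(D.left, ⊤)] resL hq Q hfa p ψ) =
            resL hq Q hfa m (μ hq Q hfa a (c ⊗ₜ[Γ(D.left, ⊤)] ψ)) := fun m p hm hm' => by
        rw [μ_tmul, μ_tmul, resL_mul, ← pb_bcMap_comp, ← resL_comp, ← resL_comp]
        rw [show m ≫ EtOver.prodFst a.U a.U = EtOver.prodFst a.U R from hm,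
          show m ≫ EtOver.prodSnd a.U a.U = EtOver.prodSnd a.U R ≫ p from hm']
      exact congrArg₂ (· - ·) (h1 m₁ p₁ hm₁ hm₁') (h1 m₂ p₂ hm₂ hm₂')
    | add z z' hz hz' =>
      rw [map_add, map_add, hz, hz', map_add, resL_add, resL_add]
      abel
  have hy0 : y = 0 := by
    refine hlT ((bijective_μ hq Q hfa a (E := R)).1 ?_)
    rw [key, hy, ← resL_comp, ← resL_comp, hm₁, hm₂, sub_self, map_zero, map_zero]
  rw [hy0, map_zero] at hy
  obtain ⟨Δ, hΔ, -⟩ := hlift a.U (𝟙 a.U) (𝟙 a.U)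
  refine hφ ?_
  have h := congrArg (resL hq Q hfa Δ) hy.symm
  rw [← resL_comp, hΔ, resL_id] at h
  exact h.trans (resₗ hq Q hfa Δ).map_zero

/-- Sections of the direct image as functions. -/
def fnE (V : EtOver X) : sectModEt (MD q hq) V →ₗ[Γ₀ V] Γ₀ (EtOver.bcObj hq V) where
  toFun x := x.down
  map_add' _ _ := rfl
  map_smul' _ _ := rfl

include hfa hsurj hnoeth hP in
set_option maxHeartbeats 800000 in
/-- A non-zero coherent module receives a non-zero map from the direct image of the functions. -/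
theorem exists_hom_ne_zero (hne : ∃ s : sectModEt Q a.U, s ≠ 0) : ∃ ψ : MD q hq ⟶ Q, ψ ≠ 0 := by
  obtain ⟨φ, hφ, hcompat⟩ := exists_compat hq Q hfa hnoeth hsurj hP hne
  let Ψ : ∀ (V : EtOver X), IsAffine V.obj.left.left → (V ⟶ a.U) →
      (sectModEt (MD q hq) V →ₗ[Γ₀ V] sectModEt Q V) := fun V hV h =>
    haveI := hV
    (resL hq Q hfa h φ).comp (fnE hq V)
  obtain ⟨ψ, hψ⟩ := HomGlue.exists_hom (a := a) (Ψ := Ψ)
    (fun V V' hV hV' g h x => by
      haveI := hV
      haveI := hV'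
      show res Q g (resL hq Q hfa h φ (fnE hq V x)) = resL hq Q hfa (g ≫ h) φ (fnE hq V' (res (MD q hq) g x))
      rw [show fnE hq V' (res (MD q hq) g x) = pb (EtOver.bcMap hq g) (fnE hq V x) from rfl, resL_comp, resL_apply])
    (fun V hV h h' => by
      haveI := hV
      exact congrArg (fun t : L hq Q V => t.comp (fnE hq V)) (hcompat V h h'))
  refine ⟨ψ, fun h0 => hφ (LinearMap.ext fun e => ?_)⟩
  have h := hψ a.U a.aff (𝟙 a.U) (ULift.up e)
  rw [h0, QcClosure.app₀_of_eq_zero _ rfl] at h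
  have h2 : (0 : sectModEt Q a.U) = resL hq Q hfa (𝟙 a.U) φ e := h
  rw [resL_id] at h2
  exact h2.symm

end Main

end Groth.L23.HomDesc
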