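import Groth.Agent.L23.SchImageChar
import Groth.Prelude.Def_AlgSpModX
import Mathlib.AlgebraicGeometry.Restrict

/-!
# Quasi-coherent ideal families and closed subspaces
-/

universe u

open CategoryTheory CategoryTheory.Limits AlgebraicGeometry Opposite AlgSp TopologicalSpace

set_option autoImplicit false
set_option linter.style.haveILetI false
set_option backward.isDefEq.respectTransparency.types false

namespace Groth.L23.CutOut

/-- The global ideal of an ideal sheaf on an affine scheme. -/
noncomputable def top {T : Scheme.{u}} [IsAffine T] (K : T.IdealSheafData) : Ideal Γ(T, ⊤) :=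
  K.ideal ⟨⊤, isAffineOpen_top T⟩

theorem top_ker {T' T : Scheme.{u}} [IsAffine T] (f : T' ⟶ T) [QuasiCompact f] :
    top f.ker = RingHom.ker f.appTop.hom := f.ker_apply _

theorem top_comap {T' T : Scheme.{u}} [IsAffine T] [IsAffine T'] (K : T.IdealSheafData) (g : T' ⟶ T) :
    top (K.comap g) = (top K).map g.appTop.hom := by
  refine le_antisymm ?_ ?_
  · let J := Scheme.IdealSheafData.ofIdealTop ((top K).map g.appTop.hom)
    have hJ : top J = (top K).map g.appTop.hom := by simp [top, J]
    have h : K.comap g ≤ J := by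
      rw [← Scheme.IdealSheafData.le_map_iff_comap_le]
      refine Scheme.IdealSheafData.le_of_isAffine ?_
      rw [Scheme.IdealSheafData.ideal_map_of_isAffineHom]
      intro x hx
      rw [Ideal.mem_comap]
      exact hJ.ge (Ideal.mem_map_of_mem _ hx)
    exact (h ⟨⊤, isAffineOpen_top T'⟩).trans hJ.le
  · rw [Ideal.map_le_iff_le_comap]
    have h := (K.le_map_comap g) ⟨⊤, isAffineOpen_top T⟩
    rw [Scheme.IdealSheafData.ideal_map_of_isAffineHom] at h
    exact h

theorem ext_of_comap {X : Scheme.{u}} {K K' : X.IdealSheafData} {ι : Type*} {T : ι → Scheme.{u}}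
    [∀ j, IsAffine (T j)] (e : ∀ j, T j ⟶ X) [∀ j, IsOpenImmersion (e j)] (hcov : ∀ x, ∃ j, x ∈ Set.range (e j))
    (h : ∀ j, top (K.comap (e j)) = top (K'.comap (e j))) : K = K' := by
  refine Scheme.IdealSheafData.ext_of_iSup_eq_top
    (fun j => ⟨e j ''ᵁ ⊤, (isAffineOpen_top (T j)).image_of_isOpenImmersion (e j)⟩) ?_ fun j => ?_
  · rw [eq_top_iff]
    intro x _
    obtain ⟨j, y, rfl⟩ := hcov x
    exact Opens.mem_iSup.2 ⟨j, y, trivial, rfl⟩
  · have := h j
    simp only [top, Scheme.IdealSheafData.ideal_comap_of_isOpenImmersion] at this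
    refine Ideal.comap_injective_of_surjective _ ?_ this
    exact (ConcreteCategory.bijective_of_isIso ((e j).appIso ⊤).inv).2

theorem map_hom_eq_comap_inv {A B : CommRingCat.{u}} (f : A ≅ B) (I : Ideal A) :
    I.map f.hom.hom = I.comap f.inv.hom := by
  refine le_antisymm (Ideal.map_le_iff_le_comap.2 fun a ha => ?_) fun x hx => ?_
  · show f.inv.hom (f.hom.hom a) ∈ I
    rw [← RingHom.comp_apply, ← CommRingCat.hom_comp, f.hom_inv_id]
    exact ha
  · have : f.hom.hom (f.inv.hom x) = x := by
      rw [← RingHom.comp_apply, ← CommRingCat.hom_comp, f.inv_hom_id]; rfl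
    rw [← this]
    exact Ideal.mem_map_of_mem _ hx

variable {S : Scheme.{u}} {X Z : Sp S}

theorem map_eq {I : IdealEt X} (hI : I.IsQCoh) {E E' : EtOver X} (g : E' ⟶ E)
    (hE : IsAffine E.obj.left.left) (hE' : IsAffine E'.obj.left.left) :
    I.ideal E' hE' = (I.ideal E hE).map g.hom.left.left.appTop.hom :=
  le_antisymm (hI g hE hE') (I.map_le g hE hE')

variable {U : Over S} {p : (yon S).obj U ⟶ X}

/-- The open piece of a chart. -/
noncomputable abbrev openPiece (U : Over S) (V : U.left.Opens) : Over S := Over.mk (V.ι ≫ U.hom)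

/-- The inclusion of the open piece. -/
noncomputable abbrev openPieceι (V : U.left.Opens) : openPiece U V ⟶ U := Over.homMk V.ι rfl

/-- The object of the small etale site of an affine open of a chart. -/
noncomputable def pieceE (hp : RepWith @Etale p) (V : U.left.Opens) : EtOver X :=
  EtOver.mk ((yon S).map (openPieceι V) ≫ p) (repWith_comp (repWith_etale_openMk V) hp)

/-- The ideal sheaf on a chart given by a quasi-coherent family. -/
noncomputable def sheafData (hp : RepWith @Etale p) (I : IdealEt X) (hI : I.IsQCoh) : U.left.IdealSheafData where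
  ideal V := (I.ideal (pieceE hp V.1) V.2).map V.1.topIso.hom.hom
  map_ideal_basicOpen V f := by
    let D := U.left.affineBasicOpen f
    have hle : D.1 ≤ V.1 := U.left.basicOpen_le f
    let g : pieceE hp D.1 ⟶ pieceE hp V.1 := EtOver.homMk
      (Over.homMk (U.left.homOfLE hle) (by
        show U.left.homOfLE hle ≫ V.1.ι ≫ U.hom = D.1.ι ≫ U.hom
        rw [Scheme.homOfLE_ι_assoc])) (by
        show (yon S).map _ ≫ (yon S).map _ ≫ p = (yon S).map _ ≫ p
        rw [← Functor.map_comp_assoc]
        congr 2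
        exact Over.OverMorphism.ext (Scheme.homOfLE_ι U.left hle))
    show _ = (I.ideal (pieceE hp D.1) D.2).map D.1.topIso.hom.hom
    rw [map_eq hI g V.2 D.2]
    refine (Ideal.map_map _ _).trans (Eq.trans ?_ (Ideal.map_map _ _).symm)
    refine congrArg (fun φ => Ideal.map φ (I.ideal (pieceE hp V.1) V.2)) ?_
    show (V.1.topIso.hom ≫ U.left.presheaf.map _).hom = ((U.left.homOfLE hle).appTop ≫ D.1.topIso.hom).hom
    refine congrArg CommRingCat.Hom.hom ?_
    rw [Scheme.homOfLE_appTop, Scheme.Opens.topIso_hom, Scheme.Opens.topIso_hom]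
    exact (U.left.presheaf.map_comp _ _).symm.trans
      ((congrArg (fun x => U.left.presheaf.map x) (Subsingleton.elim _ _)).trans (U.left.presheaf.map_comp _ _))

/-- Pulled back to an affine scheme landing in an affine open, the ideal sheaf gives the family back. -/
theorem top_comap_sheafData (hp : RepWith @Etale p) (I : IdealEt X) (hI : I.IsQCoh) {T : Over S} [hT : IsAffine T.left]
    (a : T ⟶ U) (V : U.left.affineOpens) (hV : Set.range a.left ⊆ (V.1 : Set U.left)) {φ : (yon S).obj T ⟶ X}
    (hφ : RepWith @Etale φ) (h : (yon S).map a ≫ p = φ) :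
    top ((sheafData hp I hI).comap a.left) = I.ideal (EtOver.mk φ hφ) hT := by
  let a' := IsOpenImmersion.lift V.1.ι a.left (by rwa [Scheme.Opens.range_ι])
  have ha' : a' ≫ V.1.ι = a.left := IsOpenImmersion.lift_fac _ _ _
  haveI : IsAffine (V.1 : Scheme.{u}) := V.2
  rw [← ha', Scheme.IdealSheafData.comap_comp, top_comap]
  let g : EtOver.mk φ hφ ⟶ pieceE hp V.1 := EtOver.homMk
    (Over.homMk a' (by
      show a' ≫ V.1.ι ≫ U.hom = T.hom
      rw [reassoc_of% ha', Over.w a])) (by
      show (yon S).map _ ≫ (yon S).map _ ≫ p = φ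
      refine Eq.trans ?_ h
      rw [← Functor.map_comp_assoc]
      congr 2
      exact Over.OverMorphism.ext ha')
  rw [map_eq hI g V.2 hT]
  congr 1
  simp only [top, Scheme.IdealSheafData.ideal_comap_of_isOpenImmersion]
  rw [← map_hom_eq_comap_inv]
  let W : U.left.affineOpens :=
    ⟨V.1.ι ''ᵁ ⊤, (isAffineOpen_top (V.1 : Scheme.{u})).image_of_isOpenImmersion V.1.ι⟩
  show ((I.ideal (pieceE hp W.1) W.2).map W.1.topIso.hom.hom).map (V.1.ι.appIso ⊤).hom.hom = I.ideal (pieceE hp V.1) V.2
  have hle : V.1 ≤ W.1 := by show V.1 ≤ V.1.ι ''ᵁ ⊤; simp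
  let e : pieceE hp V.1 ⟶ pieceE hp W.1 := EtOver.homMk
    (Over.homMk (U.left.homOfLE hle) (by
      show U.left.homOfLE hle ≫ W.1.ι ≫ U.hom = V.1.ι ≫ U.hom
      rw [Scheme.homOfLE_ι_assoc])) (by
      show (yon S).map _ ≫ (yon S).map _ ≫ p = (yon S).map _ ≫ p
      rw [← Functor.map_comp_assoc]
      congr 2
      exact Over.OverMorphism.ext (Scheme.homOfLE_ι U.left hle))
  rw [map_eq hI e W.2 V.2]
  refine (Ideal.map_map _ _).trans ?_
  refine congrArg (fun φ => Ideal.map φ (I.ideal (pieceE hp W.1) W.2)) ?_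
  show (W.1.topIso.hom ≫ (V.1.ι.appIso ⊤).hom).hom = (U.left.homOfLE hle).appTop.hom
  refine congrArg CommRingCat.Hom.hom ?_
  rw [Scheme.homOfLE_appTop, Scheme.Opens.topIso_hom, Scheme.Opens.ι_appIso]
  simp only [Iso.refl_hom]
  erw [Category.comp_id]
  rfl

theorem ker_snd_eq {i : Z ⟶ X} (hi : Representable i) {T V : Over S} {φ : (yon S).obj T ⟶ X}
    {fst : (yon S).obj V ⟶ Z} {v : V ⟶ T} (sq : IsPullback fst ((yon S).map v) i φ) :
    (hi.snd φ).left.ker = v.left.ker := by
  let e := sq.isoIsPullback _ _ (hi.isPullback φ)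
  let e' := (Functor.FullyFaithful.ofFullyFaithful (yon S)).preimageIso e
  have he : e'.hom ≫ hi.snd φ = v := (yon S).map_injective (by rw [Functor.map_comp]; simp [e', e])
  haveI : IsIso e'.hom.left := inferInstanceAs (IsIso ((Over.forget S).map e'.hom))
  conv_rhs => rw [← he, Over.comp_left, Scheme.Hom.ker_comp_of_isIso]

/-- The kernels of a representable morphism, pulled back along a morphism with good base change. -/
theorem comap_ker_snd_rep {i : Z ⟶ X} (hi : Representable i) {T T' : Over S} (g : T' ⟶ T) {φ : (yon S).obj T ⟶ X}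
    {φ' : (yon S).obj T' ⟶ X} (hg : (yon S).map g ≫ φ = φ') :
    (pullback.fst g.left (hi.snd φ).left).ker = (hi.snd φ').left.ker := by
  subst hg
  let P : Over S := Over.mk (pullback.fst g.left (hi.snd φ).left ≫ T'.hom)
  let v : P ⟶ T' := Over.homMk (pullback.fst g.left (hi.snd φ).left) rfl
  let m : P ⟶ _ := Over.homMk (pullback.snd g.left (hi.snd φ).left) (by
    show pullback.snd g.left (hi.snd φ).left ≫ _ = pullback.fst g.left (hi.snd φ).left ≫ T'.hom
    rw [← Over.w (hi.snd φ), ← Over.w g, reassoc_of% pullback.condition])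
  have hP : IsPullback v m g (hi.snd φ) := isPullback_over (IsPullback.of_hasPullback _ _)
  exact (ker_snd_eq hi ((hP.map (yon S)).flip.paste_horiz (hi.isPullback φ)) (v := v)).symm

theorem idealOfRep_eq_top {i : Z ⟶ X} (hi : Representable i) {T : Over S} [hT : IsAffine T.left]
    {φ : (yon S).obj T ⟶ X} (hφ : RepWith @Etale φ) [QuasiCompact (hi.snd φ).left] :
    (idealOfRep hi).ideal (EtOver.mk φ hφ) hT = top (hi.snd φ).left.ker := (@top_ker _ T.left hT (hi.snd φ).left _).symm

theorem map_comap_of_flat_surjective {A B : Scheme.{u}} (b : A ⟶ B) [Flat b] [Surjective b] (J : B.IdealSheafData) :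
    (J.comap b).map b = J := by
  show (pullback.fst b J.subschemeι).ker.map b = J
  rw [Scheme.IdealSheafData.map_ker, pullback.condition, SchKer.ker_comp_of_flat_surjective,
    Scheme.IdealSheafData.ker_subschemeι]

end Groth.L23.CutOut
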