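import Groth.Agent.L23.CutOutApps
import Groth.Agent.L23.LocP
import Mathlib.AlgebraicGeometry.Morphisms.FinitePresentation
import Mathlib.AlgebraicGeometry.Morphisms.ClosedImmersion

/-!
# Closed subspaces of finite presentation have ideals of finite type
-/

universe u

open CategoryTheory CategoryTheory.Limits AlgebraicGeometry Opposite AlgSp TopologicalSpace

set_option autoImplicit false
set_option linter.style.haveILetI false
set_option backward.isDefEq.respectTransparency.types false

namespace Groth.L23.CutOut

theorem lfp_iff_fg {A T : Scheme.{u}} (f : A ⟶ T) [IsClosedImmersion f] [IsAffine T] :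
    LocallyOfFinitePresentation f ↔ (top f.ker).FG := by
  haveI : IsAffine A := isAffine_of_isAffineHom f
  rw [top_ker, HasRingHomProperty.iff_of_isAffine (P := @LocallyOfFinitePresentation)]
  have hs := f.app_surjective ⊤ (isAffineOpen_top T)
  refine ⟨fun h => ?_, fun h => RingHom.FinitePresentation.of_surjective _ hs h⟩
  letI := f.appTop.hom.toAlgebra
  haveI : Algebra.FinitePresentation Γ(T, ⊤) Γ(A, ⊤) := h
  exact Algebra.FinitePresentation.ker_fG_of_surjective (Algebra.ofId _ _) hs

theorem locP_lfp_iff_fg {S : Scheme.{u}} {Z X : Sp S} (hX : IsAlgSpace X) {i : Z ⟶ X}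
    (hi : RepWith @IsClosedImmersion i) :
    LocP @LocallyOfFinitePresentation i ↔
      ∀ (E : EtOver X) (hE : IsAffine E.obj.left.left), ((idealOfRep hi.1).ideal E hE).FG := by
  constructor
  · intro h E hE
    haveI : IsClosedImmersion (hi.1.snd E.obj.hom).left := repWith_snd hi _
    haveI : LocallyOfFinitePresentation (hi.1.snd E.obj.hom).left :=
      repWith_snd (repWith_of_locP etLocal_lfp hX hi.1 h) _
    haveI := hE
    have h' := (lfp_iff_fg (hi.1.snd E.obj.hom).left).1 ‹_›
    rw [top_ker] at h'
    exact h'
  · intro h
    obtain ⟨V, p, hp, hps⟩ := hX.atlas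
    refine locP_of_chart etLocal_lfp (repWith_of_isPullback (hi.1.isPullback p).flip hp)
      (repWith_of_isPullback (hi.1.isPullback p).flip hps) hp (hi.1.isPullback p).w ?_
    haveI : IsClosedImmersion (hi.1.snd p).left := repWith_snd hi p
    refine IsZariskiLocalAtTarget.of_openCover (P := @LocallyOfFinitePresentation) V.left.affineCover fun j => ?_
    let e := V.left.affineCover.f j
    haveI : Etale e := inferInstance
    let T : Over S := Over.mk (e ≫ V.hom)
    haveI : IsAffine T.left := inferInstanceAs (IsAffine (V.left.affineCover.X j))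
    let g : T ⟶ V := Over.homMk e rfl
    let φ := (yon S).map g ≫ p
    have hφ : RepWith @Etale φ := repWith_comp (repWith_map (show Etale g.left from ‹Etale e›)) hp
    haveI : IsClosedImmersion (hi.1.snd φ).left := repWith_snd hi φ
    show LocallyOfFinitePresentation (pullback.snd (hi.1.snd p).left e)
    haveI : IsAffine (V.left.affineCover.X j) := inferInstance
    rw [lfp_iff_fg, ← pullbackSymmetry_hom_comp_fst, Scheme.Hom.ker_comp_of_isIso]
    have hk := comap_ker_snd_rep hi.1 g (φ := p) (φ' := φ) rfl
    have h' := idealOfRep_eq_top hi.1 (hT := ‹IsAffine T.left›) hφ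
    have h'' := (h' ▸ h (EtOver.mk φ hφ) ‹IsAffine T.left› :)
    rw [← hk] at h''
    exact h''

end Groth.L23.CutOut
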