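import Groth.Agent.L23.InfSpace
import Groth.Agent.L23.DeformChart

/-!
# Gluing lifts and lifting along thickenings of algebraic spaces
-/

universe u

open CategoryTheory CategoryTheory.Limits AlgebraicGeometry AlgSp Opposite

set_option backward.isDefEq.respectTransparency.types false

namespace Groth.L23

variable {S : Scheme.{u}}

theorem isFirstOrder_of_isFOThickMor {F G : Sp S} {i : F ⟶ G} (h : IsFOThickMor i)
    {V W : Over S} {b : (yon S).obj V ⟶ G} (hb : RepWith @Etale b) {c : (yon S).obj W ⟶ F}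
    {snd : W ⟶ V} (sq : IsPullback ((yon S).map snd) c b i) :
    MoreMor.IsFirstOrderThickening snd.left := by
  obtain ⟨hi, hn⟩ := (isNThickMor_one_iff i).2 h
  have hth := isThickening_of_isThickMor hi sq
  refine ⟨hth, ?_⟩
  have := hth.1
  rw [← pow_two]
  ext O : 2
  rw [Scheme.IdealSheafData.ideal_pow, Pi.pow_apply]
  let V₀ : Over S := Over.mk (O.1.ι ≫ V.hom)
  let W₀ : Over S := Over.mk ((snd.left ⁻¹ᵁ O.1).ι ≫ W.hom)
  let o : V₀ ⟶ V := Over.homMk O.1.ι rfl
  let o' : W₀ ⟶ W := Over.homMk (snd.left ⁻¹ᵁ O.1).ι rfl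
  let r : W₀ ⟶ V₀ := Over.homMk (snd.left ∣_ O.1) (by
    show _ ≫ _ ≫ V.hom = _ ≫ W.hom
    rw [morphismRestrict_ι_assoc, Over.w snd])
  have sqr : IsPullback r o' o snd :=
    IsPullback.of_map (Over.forget S) (Over.OverMorphism.ext (morphismRestrict_ι _ _))
      (isPullback_morphismRestrict snd.left O.1)
  have hE : RepWith @Etale ((yon S).map o ≫ b) :=
    repWith_comp (repWith_map (show Etale o.left from inferInstanceAs (Etale O.1.ι))) hb
  have hp : powZero 1 r.left := hn ((yon S).map o ≫ b) ((yon S).map o' ≫ c) r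
    (show IsAffine O.1.toScheme from O.2) hE
    ((sqr.map (yon S)).paste_vert sq).flip
  have hk : (snd.left ∣_ O.1).ker = snd.left.ker.comap O.1.ι :=
    Groth.L17.Thick.ker_of_isPullback (isPullback_morphismRestrict snd.left O.1)
  have h0 := congr(($(show (snd.left ∣_ O.1).ker ^ (1 + 1) = ⊥ from hp)).ideal ⟨⊤, @isAffineOpen_top _ O.2⟩)
  rw [hk, Scheme.IdealSheafData.ideal_pow, Pi.pow_apply, Groth.L22.Ideals.comap_ideal_ι, ← Ideal.map_pow,
    Scheme.IdealSheafData.ideal_bot, Pi.bot_apply,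
    Ideal.map_eq_bot_iff_of_injective] at h0
  · exact h0.trans (by simp [Scheme.IdealSheafData.ideal_bot])
  · exact (ConcreteCategory.bijective_of_isIso O.1.topIso.inv).1


theorem exists_lift_of_local {F G : Sp S} {f : F ⟶ G} (hf : IsFormallyUnramifiedMor f) {T T' : Over S}
    (j : T ⟶ T') (hj : MoreMor.IsFirstOrderThickening j.left)
    (top : (yon S).obj T ⟶ F) (bot : (yon S).obj T' ⟶ G)
    (hloc : ∀ x : T'.left, ∃ (W : Over S) (e : W ⟶ T') (l : (yon S).obj W ⟶ F), Etale e.left ∧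
      x ∈ Set.range e.left ∧ l ≫ f = (yon S).map e ≫ bot ∧
      (yon S).map (pullback.fst e j) ≫ l = (yon S).map (pullback.snd e j) ≫ top) :
    ∃ l, (yon S).map j ≫ l = top ∧ l ≫ f = bot := by
  choose W e l he hx hl₂ hl₁ using hloc
  obtain ⟨L, hL⟩ := exists_glue_etale W e he (fun x => ⟨x, hx x⟩) l (fun i k Z p q hpq => by
    obtain ⟨g, hg⟩ : ∃ g : Z ⟶ T', p ≫ e i = g := ⟨_, rfl⟩
    rw [hg] at hpq
    have sZ : IsPullback (pullback.fst g j) (pullback.snd g j) g j := IsPullback.of_hasPullback _ _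
    refine uniq_lift_scheme hf (pullback.fst g j)
      (isFirstOrder_of_isPullback hj (sZ.map (Over.forget S))) _ _ ?_ ?_
    · have w₁ : (pullback.fst g j ≫ p) ≫ e i = pullback.snd g j ≫ j := by
        rw [← sZ.w, Category.assoc, hg]
      have w₂ : (pullback.fst g j ≫ q) ≫ e k = pullback.snd g j ≫ j := by
        rw [← sZ.w, Category.assoc, ← hpq]
      rw [← Functor.map_comp_assoc, ← Functor.map_comp_assoc,
        ← pullback.lift_fst (pullback.fst g j ≫ p) (pullback.snd g j) w₁,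
        ← pullback.lift_fst (pullback.fst g j ≫ q) (pullback.snd g j) w₂,
        Functor.map_comp, Functor.map_comp, Category.assoc, Category.assoc, hl₁, hl₁,
        ← Functor.map_comp_assoc, ← Functor.map_comp_assoc, pullback.lift_snd, pullback.lift_snd]
    · rw [Category.assoc, Category.assoc, hl₂, hl₂, ← Functor.map_comp_assoc, ← Functor.map_comp_assoc, hg, ← hpq])
  have hLf : L ≫ f = bot := ext_of_etale_nhds _ _ fun x =>
    ⟨_, e x, he x, hx x, by rw [← Category.assoc, hL, hl₂]⟩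
  refine ⟨L, ext_of_etale_nhds _ _ fun x => ?_, hLf⟩
  have sP : IsPullback (pullback.fst (e (j.left x)) j).left (pullback.snd (e (j.left x)) j).left
      (e (j.left x)).left j.left :=
    (IsPullback.of_hasPullback (e (j.left x)) j).map (Over.forget S)
  obtain ⟨v, hv⟩ := hx (j.left x)
  have := hj.1.1
  obtain ⟨z, hz₁, hz₂⟩ := Scheme.exists_preimage_of_isPullback sP v x hv
  refine ⟨_, pullback.snd (e (j.left x)) j, MorphismProperty.of_isPullback (P := @Etale) sP (he _),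
    ⟨z, hz₂⟩, ?_⟩
  rw [← Functor.map_comp_assoc, ← pullback.condition, Functor.map_comp_assoc, hL, hl₁]

theorem existsUnique_lift_scheme {F G : Sp S} {f : F ⟶ G} (hf : IsFormallyEtaleMor f) {T T' : Over S}
    (j : T ⟶ T') (hj : MoreMor.IsFirstOrderThickening j.left)
    (top : (yon S).obj T ⟶ F) (bot : (yon S).obj T' ⟶ G) (w : top ≫ f = (yon S).map j ≫ bot) :
    ∃! l, (yon S).map j ≫ l = top ∧ l ≫ f = bot := by
  obtain ⟨hs, hu⟩ := (formallyEtale_iff f).1 hf
  obtain ⟨l, hl₁, hl₂⟩ := exists_lift_of_local hu j hj top bot fun x => by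
    obtain ⟨_, ⟨O₀, hO, rfl⟩, hxO, -⟩ :=
      T'.left.isBasis_affineOpens.exists_subset_of_mem_open (Set.mem_univ x) isOpen_univ
    let O : T'.left.Opens := O₀
    let T₁ : Over S := Over.mk (O.ι ≫ T'.hom)
    let o : T₁ ⟶ T' := Over.homMk O.ι rfl
    have : IsAffine T₁.left := hO
    have sq : IsPullback (pullback.fst o j) (pullback.snd o j) o j := IsPullback.of_hasPullback _ _
    obtain ⟨l, hl₁, hl₂⟩ := exists_lift_affine hs (pullback.fst o j)
      (isFirstOrder_of_isPullback hj (sq.map (Over.forget S))) ((yon S).map (pullback.snd o j) ≫ top)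
      ((yon S).map o ≫ bot) (by rw [Category.assoc, w, ← Functor.map_comp_assoc, ← Functor.map_comp_assoc, sq.w])
    exact ⟨T₁, o, l, inferInstanceAs (Etale O.ι), ⟨⟨x, hxO⟩, rfl⟩, hl₂, hl₁⟩
  exact ⟨l, ⟨hl₁, hl₂⟩, fun l' hl' => uniq_lift_scheme hu j hj l' l (hl'.1.trans hl₁.symm) (hl'.2.trans hl₂.symm)⟩

theorem isFormallyEtaleMor_of_etale_comp {F G H : Sp S} {a : F ⟶ G} {b : G ⟶ H} (ha : RepWith @Etale a)
    (has : RepWith @Surjective a) (h : IsFormallyEtaleMor (a ≫ b)) : IsFormallyEtaleMor b := by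
  obtain ⟨hs, hu⟩ := (formallyEtale_iff _).1 h
  have hb := isFormallyUnramifiedMor_of_etale_comp ha has hu
  refine (formallyEtale_iff b).2 ⟨fun sq => ?_, hb⟩
  refine exists_lift_of_local hb sq.j sq.firstOrder sq.top sq.bot fun x => ?_
  obtain ⟨_, _⟩ := sq.firstOrder.1
  have sP := ha.1.isPullback sq.top
  have hρ : Etale (ha.1.snd sq.top).left := repWith_prop ha sP
  have hρs : Surjective (ha.1.snd sq.top).left := repWith_prop has sP
  obtain ⟨t, rfl⟩ := sq.j.left.surjective x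
  obtain ⟨π, rfl⟩ := (ha.1.snd sq.top).left.surjective t
  obtain ⟨V₁, P₁, e, m, j₁, he, haff, sq₁, hr⟩ :=
    exists_local_etale_lift (ha.1.snd sq.top).left sq.j.left sq.firstOrder.1 π
  let W : Over S := Over.mk (e ≫ sq.ptT'.hom)
  let eW : W ⟶ sq.ptT' := Over.homMk e rfl
  let W₀ : Over S := Over.mk (j₁ ≫ W.hom)
  let jW : W₀ ⟶ W := Over.homMk j₁ rfl
  let mW : W₀ ⟶ ha.1.pullback sq.top := Over.homMk m (by
    show m ≫ _ = j₁ ≫ e ≫ sq.ptT'.hom
    rw [← Over.w (ha.1.snd sq.top), ← Over.w sq.j, ← Category.assoc, ← Category.assoc, sq₁.w, Category.assoc])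
  have sqW : IsPullback (mW ≫ ha.1.snd sq.top) jW sq.j eW :=
    IsPullback.of_map (Over.forget S) (Over.OverMorphism.ext sq₁.w) sq₁
  have : IsAffine W.left := haff
  obtain ⟨l, hl₁, hl₂⟩ := exists_lift_affine hs jW (isFirstOrder_of_isPullback sq.firstOrder sq₁.flip)
    ((yon S).map mW ≫ ha.1.fst sq.top) ((yon S).map eW ≫ sq.bot) (by
      rw [Category.assoc, ← Category.assoc (ha.1.fst sq.top) a b, sP.w, ← Category.assoc, ← Category.assoc,
        ← Functor.map_comp, Category.assoc, sq.comm, ← Functor.map_comp_assoc, ← Functor.map_comp_assoc,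
        sqW.w])
  refine ⟨W, eW, l ≫ a, he, hr, (Category.assoc _ _ _).trans hl₂, ?_⟩
  obtain ⟨z, hz₁, hz₂⟩ : ∃ z : pullback eW sq.j ⟶ W₀, z ≫ (mW ≫ ha.1.snd sq.top) = pullback.snd eW sq.j ∧
      z ≫ jW = pullback.fst eW sq.j :=
    ⟨sqW.lift (pullback.snd _ _) (pullback.fst _ _) pullback.condition.symm, sqW.lift_fst _ _ _, sqW.lift_snd _ _ _⟩
  rw [← hz₁, ← hz₂, Functor.map_comp, Category.assoc, reassoc_of% hl₁, sP.w, Functor.map_comp_assoc,
    Functor.map_comp_assoc]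

theorem existsUnique_lift_space {X Y : Sp S} {f : X ⟶ Y} (hf : IsFormallyEtaleMor f) {T T' : Sp S}
    (hT' : IsAlgSpace T') (j : T ⟶ T') (hj : IsFOThickMor j) (top : T ⟶ X) (bot : T' ⟶ Y)
    (w : top ≫ f = j ≫ bot) : ∃! l : T' ⟶ X, j ≫ l = top ∧ l ≫ f = bot := by
  obtain ⟨-, hu⟩ := (formallyEtale_iff f).1 hf
  obtain ⟨V, c, hc, hcs⟩ := hT'.atlas
  obtain ⟨V₀, jV, cT, sqV⟩ : ∃ (V₀ : Over S) (jV : V₀ ⟶ V) (cT : (yon S).obj V₀ ⟶ T),
      IsPullback ((yon S).map jV) cT c j := ⟨_, _, _, (hj.1.1.isPullback c).flip⟩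
  have hjV := isFirstOrder_of_isFOThickMor hj hc sqV
  have := epi_of_repWith c hc hcs
  have : Epi cT := epi_of_repWith cT (repWith_of_isPullback sqV hc) (repWith_of_isPullback sqV hcs)
  obtain ⟨l, ⟨hl₁, hl₂⟩, -⟩ := existsUnique_lift_scheme hf jV hjV (cT ≫ top) (c ≫ bot) (by
    rw [Category.assoc, w, ← Category.assoc, ← sqV.w, Category.assoc])
  obtain ⟨R, p, q, sR⟩ := exists_isPullback_of_representable hc.1 c
  have hR : Etale p.left := repWith_prop hc sR.flip
  obtain ⟨hcol⟩ := nonempty_isColimit_cofork c sR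
  have hcompat : (yon S).map p ≫ l = (yon S).map q ≫ l := by
    have sZ : IsPullback (pullback.fst p jV) (pullback.snd p jV) p jV := IsPullback.of_hasPullback _ _
    refine uniq_lift_scheme hu (pullback.fst p jV)
      (isFirstOrder_of_isPullback hjV (sZ.map (Over.forget S))) _ _ ?_ ?_
    · obtain ⟨z, hz⟩ := (yon S).map_surjective (sqV.lift ((yon S).map (pullback.fst p jV ≫ q))
        ((yon S).map (pullback.snd p jV) ≫ cT) (by
          rw [Functor.map_comp, Category.assoc, ← sR.w, ← Functor.map_comp_assoc, sZ.w, Functor.map_comp,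
            Category.assoc, sqV.w, Category.assoc]))
      have hz₂ : z ≫ jV = pullback.fst p jV ≫ q :=
        (yon S).map_injective (by rw [(yon S).map_comp, hz, sqV.lift_fst])
      have hz₁ : (yon S).map z ≫ cT = (yon S).map (pullback.snd p jV) ≫ cT := by rw [hz, sqV.lift_snd]
      rw [← Functor.map_comp_assoc, ← Functor.map_comp_assoc, sZ.w, ← hz₂, Functor.map_comp_assoc,
        Functor.map_comp_assoc, hl₁, reassoc_of% hz₁]
    · rw [Category.assoc, Category.assoc, hl₂, ← Category.assoc, sR.w, Category.assoc]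
  obtain ⟨L, hL⟩ : ∃ L : T' ⟶ X, c ≫ L = l :=
    ⟨hcol.desc (Cofork.ofπ l hcompat), hcol.fac (Cofork.ofπ l hcompat) WalkingParallelPair.one⟩
  refine ⟨L, ⟨?_, ?_⟩, ?_⟩
  · rw [← cancel_epi cT, ← Category.assoc, ← sqV.w, Category.assoc, hL, hl₁]
  · rw [← cancel_epi c, ← Category.assoc, hL, hl₂]
  · rintro L' ⟨h₁, h₂⟩
    rw [← cancel_epi c, hL]
    refine uniq_lift_scheme hu jV hjV _ _ ?_ ?_
    · rw [sqV.w_assoc, h₁, hl₁]
    · rw [Category.assoc, h₂, hl₂]

theorem unique_lift_space {X Y : Sp S} {f : X ⟶ Y} (hf : IsFormallyUnramifiedMor f) {T T' : Sp S}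
    (hT' : IsAlgSpace T') (j : T ⟶ T') (hj : IsFOThickMor j) (l l' : T' ⟶ X) (e₁ : j ≫ l = j ≫ l')
    (e₂ : l ≫ f = l' ≫ f) : l = l' := by
  obtain ⟨V, c, hc, hcs⟩ := hT'.atlas
  obtain ⟨V₀, jV, cT, sqV⟩ : ∃ (V₀ : Over S) (jV : V₀ ⟶ V) (cT : (yon S).obj V₀ ⟶ T),
      IsPullback ((yon S).map jV) cT c j := ⟨_, _, _, (hj.1.1.isPullback c).flip⟩
  have := epi_of_repWith c hc hcs
  rw [← cancel_epi c]
  refine uniq_lift_scheme hf jV (isFirstOrder_of_isFOThickMor hj hc sqV) _ _ ?_ ?_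
  · rw [sqV.w_assoc, sqV.w_assoc, e₁]
  · rw [Category.assoc, Category.assoc, e₂]

end Groth.L23
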