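import Groth.Agent.L23.SepEtale
import Groth.Agent.L23.FibreConditions
import Groth.Agent.L23.EtaleMono
import Groth.Agent.L23.StLocal
import Mathlib.AlgebraicGeometry.Morphisms.QuasiFinite

/-!
# Morphisms injective after every etale base change
-/

universe u

open CategoryTheory CategoryTheory.Limits AlgebraicGeometry AlgSp Topology

set_option backward.isDefEq.respectTransparency.types false
set_option linter.style.haveILetI false

namespace Groth.L23.InjEt

variable {S : Scheme.{u}}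

/-- A field-valued point lifts to a chart after a field extension. -/
theorem exists_lift {G : Sp S} {W : Over S} {C : (yon S).obj W ⟶ G} (hC : Representable C) {K : Type u} [Field K]
    {str : Spec (CommRingCat.of K) ⟶ S} (ξ : (yon S).obj (Over.mk str) ⟶ G) {w : W.left}
    (hw : Points.ofPt C w = Points.ofPt ξ (IsLocalRing.closedPoint K)) :
    ∃ (L : Type u) (_ : Field L) (str' : Spec (CommRingCat.of L) ⟶ S) (e : Over.mk str' ⟶ Over.mk str)
      (c : Over.mk str' ⟶ W), (yon S).map e ≫ ξ = (yon S).map c ≫ C := by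
  obtain ⟨T, t₁, t₂, sq⟩ : ∃ (T : Over S) (t₁ : T ⟶ W) (t₂ : T ⟶ Over.mk str),
      IsPullback ((yon S).map t₁) ((yon S).map t₂) C ξ := exists_isPullback_of_representable hC ξ
  obtain ⟨t, -, -⟩ := exists_point_of_isPullback sq (x := Points.ofScheme W w)
    (by rw [← Points.ofPt_eq_map_ofScheme]; exact hw)
  let ι : Over.mk (T.left.fromSpecResidueField t ≫ T.hom) ⟶ T := Over.homMk (T.left.fromSpecResidueField t)
  exact ⟨T.left.residueField t, inferInstance, T.left.fromSpecResidueField t ≫ T.hom, ι ≫ t₂, ι ≫ t₁,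
    by rw [Functor.map_comp, Category.assoc, ← sq.w, Functor.map_comp, Category.assoc]⟩

/-- A point of a space injective over a scheme has a quasi-finite affine chart. -/
theorem exists_lqf_nbhd {P : Sp S} (hP : IsAlgSpace P) {V : Over S} {q : P ⟶ (yon S).obj V}
    (hq : LocP @LocallyOfFiniteType q) (hinj : Function.Injective (Points.map q)) (z : Points P) :
    ∃ (W : Over S) (C : (yon S).obj W ⟶ P) (m : W ⟶ V), IsAffine W.left ∧ RepWith @Etale C ∧
      C ≫ q = (yon S).map m ∧ LocallyQuasiFinite m.left ∧ z ∈ Set.range (Points.ofPt C) := by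
  let P' : AlgSp.Space S := ⟨P, hP⟩
  let V' : AlgSp.Space S := ⟨(yon S).obj V, IsAlgSpace.yon_obj V⟩
  obtain ⟨v, hv⟩ := (Points.schemeEquiv V).surjective (Points.map q z)
  obtain ⟨r, hr, hrm, -⟩ := Pt.exists_mono_of_scheme (𝟙 ((yon S).obj V)) v
  have sq := IsPullback.of_hasPullback q r.toHom
  let Xk : AlgSp.Space S :=
    ⟨_, isAlgSpace_of_isPullback (IsAlgSpace.yon_obj V).diag hP (IsAlgSpace.yon_obj _) sq⟩
  haveI : Mono (pullback.fst q r.toHom) := sq.mono_fst_of_mono hrm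
  haveI : Subsingleton (Points Xk.obj) := ⟨fun z₁ z₂ => QFL.map_injective_of_mono (pullback.fst q r.toHom)
    (hinj (((Pt.range_map_fst sq).le ⟨z₁, rfl⟩ : _ = Points.mk r).trans
      ((Pt.range_map_fst sq).le ⟨z₂, rfl⟩ : _ = Points.mk r).symm))⟩
  have hz : Points.map q z = Points.mk r := by
    rw [hr, ← hv, Points.ofPt_eq_map_ofScheme, Points.map_id]; rfl
  obtain ⟨ζ, hζ⟩ : z ∈ Set.range (Points.map (pullback.fst q r.toHom)) := (Pt.range_map_fst sq).ge hz
  have hqf : HasAtMor QFL.qfAt q z := hζ ▸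
    (FibCond.isOpen_singleton_iff (X := P') (Y := V') (Xk := Xk) hq sq ζ).1 (by
      rw [show ({ζ} : Set (Points Xk.obj)) = Set.univ from Set.eq_univ_of_forall fun y => Subsingleton.elim _ _]
      exact isOpen_univ)
  obtain ⟨U, C, hC, hCs⟩ := hP.atlas
  obtain ⟨u, rfl⟩ := surjective_ofPt hCs z
  obtain ⟨m, hm⟩ := (yon S).map_surjective (C ≫ q)
  have hid : RepWith @Etale (𝟙 ((yon S).obj V)) := repWith_of_isIso _
  have w : C ≫ q = (yon S).map m ≫ 𝟙 _ := by rw [Category.comp_id, hm]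
  haveI : LocallyOfFiniteType m.left := hq C (𝟙 _) m hC hid w
  rw [FibCond.hasAtMor_qf_iff hq, hasAtMor_fibreDim_iff (· = 0) hC hid w u,
    ← FibCond.qfAt_iff_fibreDimAt] at hqf
  obtain ⟨O, hu, hO, -⟩ := hqf
  obtain ⟨B, hB, huB, hBO⟩ := exists_isAffineOpen_mem_and_subset (x := u) (U := O) hu
  haveI : LocallyQuasiFinite (B.ι ≫ m.left) := by
    rw [← Scheme.homOfLE_ι _ hBO, Category.assoc]
    haveI := hO
    infer_instance
  let W : Over S := Over.mk (B.ι ≫ U.hom)
  let j : W ⟶ U := Over.homMk B.ι rfl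
  refine ⟨W, (yon S).map j ≫ C, j ≫ m, hB, repWith_comp (repWith_etale_openMk B) hC,
    by rw [Category.assoc, ← hm, Functor.map_comp], ‹LocallyQuasiFinite (B.ι ≫ m.left)›, ⟨u, huB⟩, ?_⟩
  exact ofPt_openMk B C ⟨u, huB⟩

theorem eq_SpecMap {K : Type u} [Field K] {V : Scheme.{u}} [IsAffine V] (c : Spec (CommRingCat.of K) ⟶ V) :
    c = Spec.map (c.appTop ≫ (Scheme.ΓSpecIso (CommRingCat.of K)).hom) ≫ V.isoSpec.inv := by
  rw [Spec.map_comp, Category.assoc, Scheme.isoSpec_inv_naturality, ← Scheme.isoSpec_Spec_hom,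
    Iso.hom_inv_id_assoc]

theorem isUnivInjectiveMor {X Y : AlgSp.Space S} (f : X ⟶ Y) (hft : LocP @LocallyOfFiniteType f.hom)
    (hinj : ∀ (V : AlgSp.Space S) (g : V ⟶ Y), IsEtaleMor g.hom →
      ∀ (P : Sp S) (fst : P ⟶ X.obj) (snd : P ⟶ V.obj), IsPullback fst snd f.hom g.hom →
        Function.Injective (Points.map snd)) : IsUnivInjectiveMor f.hom := by
  refine isUnivInjectiveMor_of_surjective_diagonal fun z => ?_
  obtain ⟨p, rfl⟩ := Points.mk_surjective z
  let a₀ : (yon S).obj p.pt ⟶ X.obj := p.toHom ≫ pullback.fst f.hom f.hom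
  let b₀ : (yon S).obj p.pt ⟶ X.obj := p.toHom ≫ pullback.snd f.hom f.hom
  have hab₀ : a₀ ≫ f.hom = b₀ ≫ f.hom := by simp only [a₀, b₀, Category.assoc, pullback.condition]
  -- a chart of `Y`
  obtain ⟨V, B, hV, hB, v₀, hv₀⟩ :=
    exists_affine_etale_nhd Y.property (Points.ofPt (b₀ ≫ f.hom) (IsLocalRing.closedPoint p.K))
  obtain ⟨K, _, strK, e₁, v, hv⟩ := exists_lift hB.1 (K := p.K) (b₀ ≫ f.hom) hv₀
  have sq := IsPullback.of_hasPullback f.hom B
  have hP : IsAlgSpace (pullback f.hom B) := isAlgSpace_of_isPullback Y.property.diag X.property (IsAlgSpace.yon_obj V) sq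
  let a₁ := sq.lift ((yon S).map e₁ ≫ a₀) ((yon S).map v) (by rw [Category.assoc, hab₀, hv])
  let b₁ := sq.lift ((yon S).map e₁ ≫ b₀) ((yon S).map v) (by rw [Category.assoc, hv])
  -- a quasi-finite chart at the second point
  have hVinj : Function.Injective (Points.map (pullback.snd f.hom B)) :=
    hinj ⟨_, IsAlgSpace.yon_obj V⟩ ⟨B⟩ (StLocal.isEtaleMor_of_repWith (IsAlgSpace.yon_obj V) Y.property hB) _ _ _ sq
  obtain ⟨W, C, m, hW, hC, hCm, hmq, u, hu⟩ := exists_lqf_nbhd hP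
    (locP_of_isPullback etLocal_lft X.property Y.property (IsAlgSpace.yon_obj V) sq hft) hVinj
    (Points.ofPt b₁ (IsLocalRing.closedPoint K))
  obtain ⟨Ω, _, strΩ, e₂, β, hβ⟩ := exists_lift hC.1 b₁ hu
  -- the rings
  let χ₀ : Γ(W.left, ⊤) ⟶ CommRingCat.of Ω := β.left.appTop ≫ (Scheme.ΓSpecIso (CommRingCat.of Ω)).hom
  letI : Algebra Γ(V.left, ⊤) Γ(W.left, ⊤) := m.left.appTop.hom.toAlgebra
  letI : Algebra Γ(V.left, ⊤) Ω := (m.left.appTop ≫ χ₀).hom.toAlgebra
  haveI : Algebra.QuasiFinite Γ(V.left, ⊤) Γ(W.left, ⊤) :=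
    HasRingHomProperty.appTop @LocallyQuasiFinite m.left hmq
  let χ : Γ(W.left, ⊤) →ₐ[Γ(V.left, ⊤)] Ω := { χ₀.hom with commutes' := fun _ => rfl }
  obtain ⟨R', _, _, _, ψ, hψ⟩ := SepEt.exists_etale χ χ
  let g₀ : Spec (CommRingCat.of R') ⟶ V.left :=
    Spec.map (CommRingCat.ofHom (algebraMap Γ(V.left, ⊤) R')) ≫ V.left.isoSpec.inv
  haveI : Etale g₀ := by
    haveI : Etale (Spec.map (CommRingCat.ofHom (algebraMap Γ(V.left, ⊤) R'))) :=
      (HasRingHomProperty.Spec_iff (P := @Etale)).2 (RingHom.etale_algebraMap.2 inferInstance)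
    infer_instance
  let V' : Over S := Over.mk (g₀ ≫ V.hom)
  let g : V' ⟶ V := Over.homMk g₀ rfl
  have hg : RepWith @Etale ((yon S).map g ≫ B) := repWith_comp (repWith_map (show Etale g.left from ‹Etale g₀›)) hB
  let τ₀ : Spec (CommRingCat.of Ω) ⟶ Spec (CommRingCat.of R') := Spec.map (CommRingCat.ofHom ψ.toRingHom)
  have hτ₀ : τ₀ ≫ g₀ = β.left ≫ m.left := by
    rw [eq_SpecMap (β.left ≫ m.left), Scheme.Hom.comp_appTop, Category.assoc]
    show τ₀ ≫ _ ≫ _ = _
    rw [← Spec.map_comp_assoc]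
    congr 2
    exact CommRingCat.hom_ext ψ.comp_algebraMap
  let τ : Over.mk strΩ ⟶ V' := Over.homMk τ₀ (by
    show τ₀ ≫ g₀ ≫ V.hom = strΩ
    rw [reassoc_of% hτ₀, Over.w m, Over.w β]; rfl)
  have hτ : τ ≫ g = β ≫ m := Over.OverMorphism.ext hτ₀
  -- the two points over the etale cover
  have sq' := IsPullback.of_hasPullback (pullback.snd f.hom B) ((yon S).map g)
  have hP' : IsAlgSpace (pullback (pullback.snd f.hom B) ((yon S).map g)) :=
    isAlgSpace_of_isPullback (IsAlgSpace.yon_obj V).diag hP (IsAlgSpace.yon_obj V') sq'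
  have hcmp : (yon S).map τ ≫ (yon S).map g = (yon S).map e₂ ≫ (yon S).map v := by
    rw [← Functor.map_comp, hτ, Functor.map_comp, ← hCm, ← Category.assoc, ← hβ, Category.assoc, sq.lift_snd]
  let a₂ := sq'.lift ((yon S).map e₂ ≫ a₁) ((yon S).map τ) (by rw [Category.assoc, sq.lift_snd, hcmp])
  let b₂ := sq'.lift ((yon S).map e₂ ≫ b₁) ((yon S).map τ) (by rw [Category.assoc, sq.lift_snd, hcmp])
  have hpt : Points.ofPt a₂ (IsLocalRing.closedPoint Ω) = Points.ofPt b₂ (IsLocalRing.closedPoint Ω) := by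
    refine hinj ⟨_, IsAlgSpace.yon_obj V'⟩ ⟨(yon S).map g ≫ B⟩
      (StLocal.isEtaleMor_of_repWith (IsAlgSpace.yon_obj V') Y.property hg) _ _ _ (sq'.paste_horiz sq) ?_
    rw [Points.map_ofPt, Points.map_ofPt, sq'.lift_snd, sq'.lift_snd]
  obtain ⟨Ω', _, strΩ', e₃, c, hc⟩ := exists_lift (hP'.representable_from_yon a₂) b₂ hpt
  have hτc : e₃ ≫ τ = c ≫ τ := by
    apply (yon S).map_injective
    have := hc =≫ pullback.snd (pullback.snd f.hom B) ((yon S).map g)
    simpa [a₂, b₂, sq'.lift_snd] using this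
  obtain ⟨i, hi⟩ := Spec.map_surjective (R := CommRingCat.of Ω) (S := CommRingCat.of Ω') e₃.left
  obtain ⟨j, hj⟩ := Spec.map_surjective (R := CommRingCat.of Ω) (S := CommRingCat.of Ω') c.left
  have hij : i.hom.comp ψ.toRingHom = j.hom.comp ψ.toRingHom := by
    have h := congrArg (fun φ => φ.left) hτc
    simp only [Over.comp_left] at h
    rw [← hi, ← hj] at h
    change Spec.map i ≫ Spec.map _ = Spec.map j ≫ Spec.map _ at h
    rw [← Spec.map_comp, ← Spec.map_comp] at h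
    exact congrArg CommRingCat.Hom.hom (Spec.map_injective h)
  have hβc : e₃ ≫ β = c ≫ β := by
    refine Over.OverMorphism.ext ?_
    rw [Over.comp_left, Over.comp_left, ← hi, ← hj, eq_SpecMap β.left]
    show Spec.map i ≫ _ ≫ _ = Spec.map j ≫ _ ≫ _
    rw [← Spec.map_comp_assoc, ← Spec.map_comp_assoc]
    congr 2
    exact CommRingCat.hom_ext (hψ Ω' i.hom j.hom hij).1
  let ε : Over.mk strΩ' ⟶ p.pt := c ≫ e₂ ≫ e₁
  have key : (yon S).map ε ≫ a₀ = (yon S).map ε ≫ b₀ := by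
    have h₁ := hc =≫ (pullback.fst (pullback.snd f.hom B) ((yon S).map g) ≫ pullback.fst f.hom B)
    have h₂ : (yon S).map e₃ ≫ (yon S).map e₂ ≫ b₁ = (yon S).map c ≫ (yon S).map e₂ ≫ b₁ := by
      rw [hβ, ← Functor.map_comp_assoc, ← Functor.map_comp_assoc, hβc]
    have h₂' := h₂ =≫ pullback.fst f.hom B
    simp only [a₂, b₂, Category.assoc, sq'.lift_fst_assoc, a₁, b₁, sq.lift_fst] at h₁ h₂'
    simp only [ε, Functor.map_comp, Category.assoc]
    exact h₁.symm.trans h₂'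
  refine ⟨Points.ofPt ((yon S).map ε ≫ a₀) (IsLocalRing.closedPoint Ω'), ?_⟩
  rw [Points.map_ofPt]
  have e : ((yon S).map ε ≫ a₀) ≫ pullback.diagonal f.hom = (yon S).map ε ≫ p.toHom := by
    apply pullback.hom_ext
    · simp [a₀]
    · simp only [Category.assoc, pullback.diagonal_snd, Category.comp_id]
      exact key
  rw [e, ofPt_comp, Points.ofPt_toHom]

end Groth.L23.InjEt
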