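import Groth.Agent.L23.SubQcoh
import Groth.Agent.L09.ModEt.Main
import Mathlib.RingTheory.Smooth.IntegralClosure
import Mathlib.AlgebraicGeometry.Morphisms.Etale
import Mathlib.Algebra.Category.ModuleCat.Sheaf.ChangeOfRings
import Mathlib.Algebra.Category.ModuleCat.Sheaf.Limits

/-!
# The integral closure in a quasi-coherent algebra
-/

universe u

open CategoryTheory CategoryTheory.Limits AlgebraicGeometry Opposite AlgSp TensorProduct

set_option autoImplicit false
set_option linter.style.haveILetI false
set_option backward.isDefEq.respectTransparency false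
set_option backward.isDefEq.respectTransparency.types false

noncomputable section

namespace Groth.L23.IntCl

open Groth.L09.ModEt Groth.L23.SubQcoh

variable {S : Scheme.{u}} {X : Sp S} {A : EtSh X CommRingCat.{u + 1}} (φ : OEt X ⟶ A)

/-- The sheaf of rings morphism. -/
abbrev φR : OEtRing X ⟶ (sheafCompose (etTop X) (forget₂ CommRingCat.{u + 1} RingCat.{u + 1})).obj A :=
  (sheafCompose (etTop X) (forget₂ CommRingCat.{u + 1} RingCat.{u + 1})).map φ

/-- The algebra as a module. -/
abbrev algMod : ModEt X :=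
  (SheafOfModules.restrictScalars (φR φ)).obj
    (SheafOfModules.unit ((sheafCompose (etTop X) (forget₂ CommRingCat.{u + 1} RingCat.{u + 1})).obj A))

/-- Sections of the algebra. -/
abbrev Sec (A : EtSh X CommRingCat.{u + 1}) (E : EtOver X) : CommRingCat.{u + 1} := A.obj.obj (op E)

/-- Restriction in the algebra. -/
abbrev resA (A : EtSh X CommRingCat.{u + 1}) {E E' : EtOver X} (g : E' ⟶ E) : Sec A E →+* Sec A E' :=
  (A.obj.map g.op).hom

/-- Functions to sections. -/
def alg (E : EtOver X) : Γ₀ E →+* Sec A E := (φ.hom.app (op E)).hom.comp ULift.ringEquiv.symm.toRingHom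

theorem res_alg {E E' : EtOver X} (g : E' ⟶ E) (a : Γ₀ E) :
    resA A g (alg φ E a) = alg φ E' (pb g a) :=
  (ConcreteCategory.congr_hom (φ.hom.naturality g.op) (ULift.up a : ULift.{u + 1} Γ(E.obj.left.left, ⊤))).symm

/-- Integral sections, as a submodule. -/
def P (E : EtOver X) : Submodule (Γ₀ E) (sectModEt (algMod φ) E) where
  carrier := {s | (alg φ E).IsIntegralElem (show Sec A E from s)}
  add_mem' ha hb := RingHom.IsIntegralElem.add _ ha hb
  zero_mem' := RingHom.isIntegralElem_zero _
  smul_mem' r s hs := by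
    show (alg φ E).IsIntegralElem (alg φ E r * (show Sec A E from s))
    exact RingHom.IsIntegralElem.mul _ (RingHom.isIntegralElem_map _) hs

theorem integral_res {E E' : EtOver X} (g : E' ⟶ E) {x : Sec A E} (hx : (alg φ E).IsIntegralElem x) :
    (alg φ E').IsIntegralElem (resA A g x) := by
  letI := (alg φ E).toAlgebra
  letI := ((alg φ E').comp (pb g)).toAlgebra
  let ρ : Sec A E →ₐ[Γ₀ E] Sec A E' := { resA A g with commutes' := fun a => res_alg φ g a }
  exact RingHom.IsIntegralElem.of_comp (f := pb g) ((IsIntegral.map ρ hx : IsIntegral (Γ₀ E) (ρ x)))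

set_option maxHeartbeats 1600000 in
/-- Integral sections commute with etale base change. -/
theorem mem_span_integral [(algMod φ).IsQuasicoherent] {E E' : EtOver X} [IsAffine E.obj.left.left]
    [IsAffine E'.obj.left.left] (g : E' ⟶ E) {z : sectModEt (algMod φ) E'} (hz : z ∈ P φ E') :
    z ∈ Submodule.span (Γ₀ E') (res (algMod φ) g '' (P φ E : Set (sectModEt (algMod φ) E))) := by
  haveI := EtOver.etale_left g
  have het : (pb g).Etale := (HasRingHomProperty.iff_of_isAffine (P := @Etale)).1 ‹_›
  letI := (pb g).toAlgebra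
  haveI : Algebra.Etale (Γ₀ E) (Γ₀ E') := RingHom.etale_algebraMap.1 het
  letI := (alg φ E).toAlgebra
  letI := (alg φ E').toAlgebra
  letI : Algebra (Γ₀ E) (Sec A E') := ((alg φ E').comp (pb g)).toAlgebra
  haveI : IsScalarTower (Γ₀ E) (Γ₀ E') (Sec A E') := IsScalarTower.of_algebraMap_eq fun _ => rfl
  let ρ : Sec A E →ₐ[Γ₀ E] Sec A E' := { resA A g with commutes' := fun a => res_alg φ g a }
  let e : Γ₀ E' ⊗[Γ₀ E] Sec A E →ₐ[Γ₀ E'] Sec A E' :=
    Algebra.TensorProduct.lift (Algebra.ofId _ _) ρ fun _ _ => Commute.all _ _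
  have he : ∀ y : Γ₀ E' ⊗[Γ₀ E] Sec A E, e y = (θ (algMod φ) g y : sectModEt (algMod φ) E') := fun y => by
    induction y using TensorProduct.induction_on with
    | zero => rw [map_zero]; exact (map_zero (θ (algMod φ) g)).symm
    | tmul b m =>
      rw [Algebra.TensorProduct.lift_tmul]
      rfl
    | add p q hp hq => rw [map_add, hp, hq]; exact (map_add (θ (algMod φ) g) p q).symm
  have hbc := bc_of_isQuasicoherent (algMod φ) g
  obtain ⟨y, hy⟩ : ∃ y : Γ₀ E' ⊗[Γ₀ E] Sec A E, e y = (show Sec A E' from z) := by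
    obtain ⟨y, hy⟩ := hbc.2 z
    exact ⟨y, (he y).trans hy⟩
  have hinj : Function.Injective e := fun p q h => hbc.1 (((he p).symm.trans h).trans (he q))
  have hint : IsIntegral (Γ₀ E') y := (isIntegral_algHom_iff e hinj).1 (by rw [hy]; exact hz)
  obtain ⟨x, hx⟩ := (TensorProduct.toIntegralClosure_bijective_of_smooth (R := Γ₀ E) (S := Γ₀ E')
    (B := Sec A E)).2 ⟨y, hint⟩
  have hz' : z = θ (algMod φ) g
      (Algebra.TensorProduct.map (AlgHom.id (Γ₀ E') (Γ₀ E')) (integralClosure (Γ₀ E) (Sec A E)).val x) := by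
    have h1 := congrArg Subtype.val hx
    exact (hy.symm.trans (he y)).trans (congrArg (θ (algMod φ) g) h1.symm)
  rw [hz']
  clear hx hz'
  induction x using TensorProduct.induction_on with
  | zero => rw [map_zero]; exact (map_zero (θ (algMod φ) g)).symm ▸ zero_mem _
  | tmul b m =>
    rw [Algebra.TensorProduct.map_tmul]
    exact (θ_tmul (algMod φ) g b (show sectModEt (algMod φ) E from m.1)) ▸
      Submodule.smul_mem _ b (Submodule.subset_span ⟨_, m.2, rfl⟩)
  | add p q hp hq =>
    rw [map_add]
    exact (map_add (θ (algMod φ) g) _ _).symm ▸ add_mem hp hq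

/-- The integral closure on affine objects. -/
def affSub [(algMod φ).IsQuasicoherent] : AffSub (algMod φ) where
  P E _ := P φ E
  res_mem {E E'} hE hE' g {s} hs := integral_res φ g hs
  mem_span {E E'} hE hE' g {z} hz := @mem_span_integral _ _ A φ _ E E' hE hE' g z hz

variable [(algMod φ).IsQuasicoherent]

/-- The subring of locally integral sections. -/
def subRing (E : EtOver X) : Subring (Sec A E) where
  carrier := {x | (show sectModEt (algMod φ) E from x) ∈ (affSub φ).sub.obj (op E)}
  mul_mem' {a b} ha hb := fun W _ g => by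
    show (alg φ W).IsIntegralElem (resA A g (a * b))
    rw [map_mul]
    exact RingHom.IsIntegralElem.mul _ (ha W g) (hb W g)
  one_mem' := fun W _ g => by
    show (alg φ W).IsIntegralElem (resA A g 1)
    rw [map_one]
    exact RingHom.isIntegralElem_one _
  add_mem' {a b} ha hb := ((affSub φ).sub.obj (op E)).add_mem ha hb
  zero_mem' := ((affSub φ).sub.obj (op E)).zero_mem
  neg_mem' {a} ha := fun W _ g => by
    show (alg φ W).IsIntegralElem (resA A g (-a))
    rw [map_neg]
    exact RingHom.IsIntegralElem.neg _ (ha W g)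

/-- The presheaf of subrings. -/
def subPre : (EtOver X)ᵒᵖ ⥤ CommRingCat.{u + 1} where
  obj E := CommRingCat.of (subRing φ E.unop)
  map {E E'} f := CommRingCat.ofHom
    (((A.obj.map f).hom.comp (subRing φ E.unop).subtype).codRestrict (subRing φ E'.unop)
      fun x => (affSub φ).sub.map f x.2)
  map_id E := CommRingCat.hom_ext (RingHom.ext fun x => Subtype.ext
    (ConcreteCategory.congr_hom (A.obj.map_id E) x.1))
  map_comp f g := CommRingCat.hom_ext (RingHom.ext fun x => Subtype.ext
    (ConcreteCategory.congr_hom (A.obj.map_comp f g) x.1))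

theorem isSheaf_subPre : Presheaf.IsSheaf (etTop X) (subPre φ) := by
  rw [Presheaf.isSheaf_iff_isSheaf_forget _ _ (CategoryTheory.forget CommRingCat.{u + 1})]
  refine Presheaf.isSheaf_of_iso_iff ?_ |>.1 ((Presheaf.isSheaf_iff_isSheaf_forget _ _
    (CategoryTheory.forget AddCommGrpCat.{u + 1})).1 (affSub φ).isSheaf)
  exact NatIso.ofComponents (fun E => Iso.refl _) fun f => rfl

/-- The sheaf of locally integral sections. -/
def sheaf : EtSh X CommRingCat.{u + 1} := ⟨subPre φ, isSheaf_subPre φ⟩

/-- The inclusion. -/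
def incl : sheaf φ ⟶ A :=
  ObjectProperty.homMk { app := fun E => CommRingCat.ofHom (subRing φ E.unop).subtype }

theorem alg_mem (E : EtOver X) (x : (OEt X).obj.obj (op E)) : (φ.hom.app (op E)).hom x ∈ subRing φ E :=
  fun W _ g => by
    show (alg φ W).IsIntegralElem (resA A g (alg φ E (ULift.ringEquiv x)))
    rw [res_alg]
    exact RingHom.isIntegralElem_map _

/-- The structure map. -/
def struct : OEt X ⟶ sheaf φ :=
  ObjectProperty.homMk
    { app := fun E => CommRingCat.ofHom ((φ.hom.app E).hom.codRestrict (subRing φ E.unop) (alg_mem φ E.unop))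
      naturality := fun E E' f => CommRingCat.hom_ext (RingHom.ext fun x => Subtype.ext
        (ConcreteCategory.congr_hom (φ.hom.naturality f) x)) }

theorem struct_incl : struct φ ≫ incl φ = φ :=
  ObjectProperty.hom_ext _ (NatTrans.ext (funext fun _ => CommRingCat.hom_ext (RingHom.ext fun _ => rfl)))

theorem mem_range_incl (E : EtOver X) [IsAffine E.obj.left.left] (x : Sec A E) :
    x ∈ Set.range ((incl φ).hom.app (op E)) ↔ (alg φ E).IsIntegralElem x := by
  refine Iff.trans ?_ ((affSub φ).mem_sub_iff (show sectModEt (algMod φ) E from x))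
  exact ⟨fun ⟨t, ht⟩ => ht ▸ t.2, fun h => ⟨⟨x, h⟩, rfl⟩⟩

/-- The subalgebra as a module is the submodule. -/
def modIso : (affSub φ).mod ≅ algMod (struct φ) :=
  (SheafOfModules.fullyFaithfulForget (OEtRing X)).preimageIso
    (PresheafOfModules.isoMk (fun E =>
      (LinearEquiv.toModuleIso (R := (OEtRing X).obj.obj E)
        (X₁ := (affSub φ).mod.val.obj E) (X₂ := (algMod (struct φ)).val.obj E)
        ({ toFun := fun x => (⟨x.1, x.2⟩ : subRing φ E.unop)
           map_add' := fun _ _ => rfl
           map_smul' := fun _ _ => Subtype.ext rfl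
           invFun := fun x => ⟨x.1, x.2⟩
           left_inv := fun _ => rfl
           right_inv := fun _ => rfl } :
          ((affSub φ).mod.val.obj E) ≃ₗ[(OEtRing X).obj.obj E] ((algMod (struct φ)).val.obj E))))
      fun _ _ _ => rfl)

end Groth.L23.IntCl
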