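import Groth.Agent.L23.NormRing
import Groth.Agent.L23.Epi
import Groth.Agent.L23.AffineMor
import Groth.Agent.L23.Refined

/-!
# Normalization of an affine scheme in a quasi-compact quasi-separated space
-/

universe u

open CategoryTheory CategoryTheory.Limits AlgebraicGeometry Opposite AlgSp

set_option backward.isDefEq.respectTransparency.types false

namespace Groth.L23.Norm

variable {S : Scheme.{u}}

/-- The universal property of the normalization of an affine scheme in a space over it. -/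
structure IsNorm {P : Sp S} {Z N : Over S} (q : P ⟶ (yon S).obj Z) (ν : N ⟶ Z)
    (γ : P ⟶ (yon S).obj N) : Prop where
  integral : IsIntegralHom ν.left
  fac : γ ≫ (yon S).map ν = q
  desc : ∀ (M : Over S) (μ : M ⟶ Z), IsIntegralHom μ.left → ∀ g : P ⟶ (yon S).obj M,
    g ≫ (yon S).map μ = q → ∃! h : N ⟶ M, h ≫ μ = ν ∧ γ ≫ (yon S).map h = g

theorem IsNorm.isAffine {P : Sp S} {Z N : Over S} [IsAffine Z.left] {q : P ⟶ (yon S).obj Z} {ν : N ⟶ Z}
    {γ : P ⟶ (yon S).obj N} (h : IsNorm q ν γ) : IsAffine N.left :=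
  have := h.integral
  isAffine_of_isAffineHom ν.left

theorem IsNorm.hom_ext {P : Sp S} {Z N : Over S} {q : P ⟶ (yon S).obj Z} {ν : N ⟶ Z}
    {γ : P ⟶ (yon S).obj N} (h : IsNorm q ν γ) {M : Over S} {μ : M ⟶ Z} (hμ : IsIntegralHom μ.left)
    {a b : N ⟶ M} (ha : a ≫ μ = ν) (hb : b ≫ μ = ν) (e : γ ≫ (yon S).map a = γ ≫ (yon S).map b) : a = b :=
  (h.desc M μ hμ (γ ≫ (yon S).map a) (by rw [Category.assoc, ← Functor.map_comp, ha, h.fac])).unique
    ⟨ha, rfl⟩ ⟨hb, e.symm⟩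

/-- Normalizations are unique. -/
theorem IsNorm.exists_iso {P : Sp S} {Z N N' : Over S} {q : P ⟶ (yon S).obj Z} {ν : N ⟶ Z}
    {γ : P ⟶ (yon S).obj N} {ν' : N' ⟶ Z} {γ' : P ⟶ (yon S).obj N'} (h : IsNorm q ν γ)
    (h' : IsNorm q ν' γ') : ∃ θ : N ≅ N', θ.hom ≫ ν' = ν ∧ γ ≫ (yon S).map θ.hom = γ' := by
  obtain ⟨a, ⟨ha₁, ha₂⟩, -⟩ := h.desc N' ν' h'.integral γ' h'.fac
  obtain ⟨b, ⟨hb₁, hb₂⟩, -⟩ := h'.desc N ν h.integral γ h.fac
  refine ⟨⟨a, b, h.hom_ext h.integral (by rw [Category.assoc, hb₁, ha₁]) (Category.id_comp _) ?_,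
    h'.hom_ext h'.integral (by rw [Category.assoc, ha₁, hb₁]) (Category.id_comp _) ?_⟩, ha₁, ha₂⟩
  · rw [Functor.map_comp, ← Category.assoc, ha₂, hb₂, (yon S).map_id, Category.comp_id]
  · rw [Functor.map_comp, ← Category.assoc, hb₂, ha₂, (yon S).map_id, Category.comp_id]

theorem IsNorm.of_iso {P : Sp S} {Z N N' : Over S} {q : P ⟶ (yon S).obj Z} {ν : N ⟶ Z}
    {γ : P ⟶ (yon S).obj N} {ν' : N' ⟶ Z} {γ' : P ⟶ (yon S).obj N'} (h : IsNorm q ν γ)
    (θ : N ≅ N') (h₁ : θ.hom ≫ ν' = ν) (h₂ : γ ≫ (yon S).map θ.hom = γ') : IsNorm q ν' γ' := by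
  subst h₁ h₂
  refine ⟨?_, by rw [Category.assoc, ← Functor.map_comp]; exact h.fac, fun M μ hμ g hg => ?_⟩
  · have := h.integral
    rw [Over.comp_left] at this
    have : IsIso θ.hom.left := inferInstanceAs (IsIso ((Over.forget S).map θ.hom))
    exact (MorphismProperty.cancel_left_of_respectsIso @IsIntegralHom θ.hom.left ν'.left).1 ‹_›
  obtain ⟨k, ⟨hk₁, hk₂⟩, hku⟩ := h.desc M μ hμ g hg
  refine ⟨θ.inv ≫ k, ⟨by rw [Category.assoc, hk₁, θ.inv_hom_id_assoc],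
    by rw [Category.assoc, ← Functor.map_comp, θ.hom_inv_id_assoc, hk₂]⟩, fun k' hk' => ?_⟩
  rw [← hku (θ.hom ≫ k') ⟨by rw [Category.assoc, hk'.1], by
    rw [Functor.map_comp, ← Category.assoc]; exact hk'.2⟩, θ.inv_hom_id_assoc]

/-- An affine presentation of a space. -/
structure IsPres {P : Sp S} {U R : Over S} (p : (yon S).obj U ⟶ P) (r₁ r₂ : R ⟶ U) : Prop where
  etale : RepWith @Etale p
  surj : RepWith @Surjective p
  cover : ∃ (R₀ : Over S) (s₁ s₂ : R₀ ⟶ U) (e : R ⟶ R₀),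
    IsPullback ((yon S).map s₁) ((yon S).map s₂) p p ∧ Etale e.left ∧ Surjective e.left ∧
      e ≫ s₁ = r₁ ∧ e ≫ s₂ = r₂

theorem IsPres.epi {P : Sp S} {U R : Over S} {p : (yon S).obj U ⟶ P} {r₁ r₂ : R ⟶ U}
    (h : IsPres p r₁ r₂) : Epi p := epi_of_repWith p h.etale h.surj

theorem IsPres.w {P : Sp S} {U R : Over S} {p : (yon S).obj U ⟶ P} {r₁ r₂ : R ⟶ U}
    (h : IsPres p r₁ r₂) : (yon S).map r₁ ≫ p = (yon S).map r₂ ≫ p := by
  obtain ⟨R₀, s₁, s₂, e, sq, -, -, rfl, rfl⟩ := h.cover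
  rw [Functor.map_comp_assoc, Functor.map_comp_assoc, sq.w]

theorem IsPres.exists_desc {P : Sp S} {U R : Over S} {p : (yon S).obj U ⟶ P} {r₁ r₂ : R ⟶ U}
    (h : IsPres p r₁ r₂) {G : Sp S} (g : (yon S).obj U ⟶ G)
    (hg : (yon S).map r₁ ≫ g = (yon S).map r₂ ≫ g) : ∃ g' : P ⟶ G, p ≫ g' = g := by
  obtain ⟨R₀, s₁, s₂, e, sq, he, hes, rfl, rfl⟩ := h.cover
  have := h.epi
  have : Epi ((yon S).map e) := epi_of_repWith _ (repWith_map he) (repWith_map hes)
  have hg' : (yon S).map s₁ ≫ g = (yon S).map s₂ ≫ g := by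
    rw [← cancel_epi ((yon S).map e), ← Functor.map_comp_assoc, ← Functor.map_comp_assoc, hg]
  obtain ⟨hc⟩ := nonempty_isColimit_cofork p sq
  exact ⟨hc.desc (Cofork.ofπ g hg'), hc.fac (Cofork.ofπ g hg') WalkingParallelPair.one⟩

theorem isoSpec_inv_appTop' (M : Scheme.{u}) [IsAffine M] :
    M.isoSpec.inv.appTop = (Scheme.ΓSpecIso Γ(M, ⊤)).inv := by
  rw [← Iso.hom_comp_eq_id, ← Scheme.toSpecΓ_appTop M, show M.toSpecΓ = M.isoSpec.hom from rfl,
    ← Scheme.Hom.comp_appTop, Iso.inv_hom_id, Scheme.Hom.id_appTop]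

theorem exists_hom_of_ring {X M : Over S} [IsAffine M.left] {Z : Over S} (x : X ⟶ Z) (μ : M ⟶ Z)
    [IsAffine Z.left] (ψ : Γ(M.left, ⊤) ⟶ Γ(X.left, ⊤)) (hψ : μ.left.appTop ≫ ψ = x.left.appTop) :
    ∃ k : X ⟶ M, k ≫ μ = x ∧ k.left.appTop = ψ := by
  let k₀ : X.left ⟶ M.left := X.left.toSpecΓ ≫ Spec.map ψ ≫ M.left.isoSpec.inv
  have hk₀ : k₀.appTop = ψ := by
    simp only [k₀, Scheme.Hom.comp_appTop, isoSpec_inv_appTop', Category.assoc,
      Scheme.toSpecΓ_appTop]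
    rw [← Scheme.ΓSpecIso_inv_naturality_assoc, Iso.inv_hom_id, Category.comp_id]
  have e : k₀ ≫ μ.left = x.left := ext_of_isAffine (by rw [Scheme.Hom.comp_appTop, hk₀, hψ])
  exact ⟨Over.homMk k₀ (by rw [← Over.w μ, reassoc_of% e, Over.w x]), Over.OverMorphism.ext e, hk₀⟩

theorem appTop_comp_eq {X Y Z : Over S} {a : X ⟶ Y} {b : Y ⟶ Z} {c : X ⟶ Z} (h : a ≫ b = c) :
    b.left.appTop ≫ a.left.appTop = c.left.appTop := by
  rw [← h, Over.comp_left, Scheme.Hom.comp_appTop]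

theorem hom_ext_appTop {X M : Over S} [IsAffine M.left] {a b : X ⟶ M}
    (h : a.left.appTop = b.left.appTop) : a = b :=
  Over.OverMorphism.ext (ext_of_isAffine h)

/-- Normalization through rings of global functions. -/
theorem isNorm_of_eqInt {P : Sp S} {Z N U R : Over S} [IsAffine Z.left] [IsAffine N.left]
    {q : P ⟶ (yon S).obj Z} {ν : N ⟶ Z} {γ : P ⟶ (yon S).obj N}
    {p : (yon S).obj U ⟶ P} {r₁ r₂ : R ⟶ U} {h : U ⟶ Z} {n : U ⟶ N}
    (hp : IsPres p r₁ r₂) (hh : (yon S).map h = p ≫ q) (hn : (yon S).map n = p ≫ γ)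
    (he : IsEqInt h.left.appTop r₁.left.appTop r₂.left.appTop ν.left.appTop n.left.appTop) :
    IsNorm q ν γ := by
  have := hp.epi
  have hν : IsIntegralHom ν.left :=
    (HasAffineProperty.iff_of_isAffine (P := @IsIntegralHom)).2 ⟨inferInstance, he.isIntegral⟩
  have hnν : n ≫ ν = h := hom_ext_appTop (by rw [Over.comp_left, Scheme.Hom.comp_appTop]; exact he.comp)
  refine ⟨hν, by rw [← cancel_epi p, ← Category.assoc, ← hn, ← Functor.map_comp, hnν, hh], ?_⟩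
  intro M μ hμ g hg
  have : IsAffine M.left := isAffine_of_isAffineHom μ.left
  obtain ⟨m, hm⟩ := (yon S).map_surjective (p ≫ g)
  have hmμ : m ≫ μ = h := (yon S).map_injective (by rw [Functor.map_comp, hm, Category.assoc, hg, hh])
  have hr : r₁ ≫ m = r₂ ≫ m := (yon S).map_injective (by
    rw [Functor.map_comp, Functor.map_comp, hm, ← Category.assoc, hp.w, Category.assoc])
  have hint := ((HasAffineProperty.iff_of_isAffine (P := @IsIntegralHom) (f := μ.left)).1 hμ).2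
  have hmem : ∀ x, ∃ b, n.left.appTop.hom b = m.left.appTop.hom x := fun x => by
    refine (he.mem_iff _).2 ⟨?_, congr($((appTop_comp_eq hr).trans (appTop_comp_eq rfl).symm).hom x)⟩
    obtain ⟨F, hF, hF0⟩ := hint x
    refine ⟨F, hF, ?_⟩
    rw [← appTop_comp_eq hmμ, CommRingCat.hom_comp]
    rw [← Polynomial.hom_eval₂]
    exact (congr_arg _ hF0).trans (map_zero _)
  let eB : Γ(N.left, ⊤) ≃+* n.left.appTop.hom.range := RingEquiv.ofBijective n.left.appTop.hom.rangeRestrict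
    ⟨fun x y e => he.inj (congr_arg Subtype.val e), n.left.appTop.hom.rangeRestrict_surjective⟩
  let ψ : Γ(M.left, ⊤) ⟶ Γ(N.left, ⊤) := CommRingCat.ofHom
    (eB.symm.toRingHom.comp (m.left.appTop.hom.codRestrict _ hmem))
  have hψ : ψ ≫ n.left.appTop = m.left.appTop := by
    ext x
    exact congr_arg Subtype.val (eB.apply_symm_apply _)
  have hmono : Mono n.left.appTop := ConcreteCategory.mono_of_injective _ he.inj
  obtain ⟨k, hk, hkψ⟩ := exists_hom_of_ring ν μ ψ (by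
    rw [← cancel_mono n.left.appTop, Category.assoc, hψ, appTop_comp_eq hmμ, he.comp])
  have hnk : n ≫ k = m := hom_ext_appTop (by rw [Over.comp_left, Scheme.Hom.comp_appTop, hkψ, hψ])
  refine ⟨k, ⟨hk, ?_⟩, fun k' ⟨_, hk₂⟩ => ?_⟩
  · rw [← cancel_epi p, ← Category.assoc, ← hn, ← Functor.map_comp, hnk, hm]
  · refine hom_ext_appTop ((cancel_mono n.left.appTop).1 ?_)
    rw [hkψ, hψ]
    refine appTop_comp_eq ((yon S).map_injective ?_)
    rw [Functor.map_comp, hn, Category.assoc, hk₂, hm]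

/-- Normalizations exist over presented spaces. -/
theorem exists_norm_of_pres {P : Sp S} {Z U R : Over S} [IsAffine Z.left] [IsAffine U.left]
    (q : P ⟶ (yon S).obj Z) {p : (yon S).obj U ⟶ P} {r₁ r₂ : R ⟶ U} (hp : IsPres p r₁ r₂) (h : U ⟶ Z)
    (hh : (yon S).map h = p ≫ q) :
    ∃ (N : Over S) (ν : N ⟶ Z) (γ : P ⟶ (yon S).obj N) (n : U ⟶ N), IsAffine N.left ∧
      (yon S).map n = p ≫ γ ∧ IsEqInt h.left.appTop r₁.left.appTop r₂.left.appTop ν.left.appTop n.left.appTop ∧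
      IsNorm q ν γ := by
  have hr : r₁ ≫ h = r₂ ≫ h := (yon S).map_injective (by
    rw [Functor.map_comp, Functor.map_comp, hh, ← Category.assoc, hp.w, Category.assoc])
  obtain ⟨B, β, val, hB⟩ := exists_isEqInt h.left.appTop r₁.left.appTop r₂.left.appTop
    ((appTop_comp_eq hr).trans (appTop_comp_eq rfl).symm)
  let e : B ≅ Γ(Spec B, ⊤) := (Scheme.ΓSpecIso B).symm
  let ν' : Spec B ⟶ Z.left := Spec.map β ≫ Z.left.isoSpec.inv
  let N : Over S := Over.mk (ν' ≫ Z.hom)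
  let ν : N ⟶ Z := Over.homMk ν'
  have : IsAffine N.left := inferInstanceAs (IsAffine (Spec B))
  have hν : ν.left.appTop = β ≫ e.hom := by
    show (Spec.map β ≫ Z.left.isoSpec.inv).appTop = _
    simp only [Scheme.Hom.comp_appTop, isoSpec_inv_appTop']
    exact (Scheme.ΓSpecIso_inv_naturality β).symm
  obtain ⟨n, hn₁, hn₂⟩ := exists_hom_of_ring h ν (e.inv ≫ val) (by
    rw [hν, Category.assoc, e.hom_inv_id_assoc, hB.comp])
  have hB' : IsEqInt h.left.appTop r₁.left.appTop r₂.left.appTop ν.left.appTop n.left.appTop := by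
    refine ⟨appTop_comp_eq hn₁, hB.comp_eq, ?_, fun c => ?_⟩
    · rw [hn₂]; exact hB.inj.comp (ConcreteCategory.bijective_of_isIso e.inv).1
    · rw [← hB.mem_iff, hn₂]
      exact ⟨fun ⟨b, hb⟩ => ⟨_, hb⟩, fun ⟨b, hb⟩ => ⟨e.hom.hom b, by
        rw [CommRingCat.hom_comp, RingHom.comp_apply,
          show e.inv.hom (e.hom.hom b) = b from congr($(e.hom_inv_id).hom b), hb]⟩⟩
  have hrn : r₁ ≫ n = r₂ ≫ n := hom_ext_appTop (by
    simp only [Over.comp_left, Scheme.Hom.comp_appTop]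
    ext b
    exact ((hB'.mem_iff _).1 ⟨b, rfl⟩).2)
  obtain ⟨γ, hγ⟩ := hp.exists_desc ((yon S).map n) (by rw [← Functor.map_comp, ← Functor.map_comp, hrn])
  exact ⟨N, ν, γ, n, inferInstance, hγ.symm, hB', isNorm_of_eqInt hp hh hγ.symm hB'⟩

theorem compactSpace_of_qc {X Y : Scheme.{u}} (f : X ⟶ Y) [QuasiCompact f] [CompactSpace Y] :
    CompactSpace X := QuasiCompact.compactSpace_of_compactSpace f

/-- A quasi-compact space, quasi-separated over an affine scheme, has an affine presentation. -/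
theorem exists_isPres {P : Sp S} {Z : Over S} [IsAffine Z.left] (q : P ⟶ (yon S).obj Z)
    (hP : IsQuasiCompactSp P) (hqs : RepWith @QuasiCompact (pullback.diagonal q)) :
    ∃ (U R : Over S) (p : (yon S).obj U ⟶ P) (r₁ r₂ : R ⟶ U),
      IsAffine U.left ∧ IsAffine R.left ∧ IsPres p r₁ r₂ := by
  obtain ⟨D, s, p, hp, hps⟩ := exists_affine_atlas hP
  let U : Over S := Over.mk s
  obtain ⟨h, hh⟩ := (yon S).map_surjective (p ≫ q)
  obtain ⟨R₀, s₁, s₂, sR⟩ : ∃ (R₀ : Over S) (s₁ s₂ : R₀ ⟶ U),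
      IsPullback ((yon S).map s₁) ((yon S).map s₂) p p := exists_isPullback_of_representable hp.1 p
  have hs : s₁ ≫ h = s₂ ≫ h := (yon S).map_injective (by
    rw [Functor.map_comp, Functor.map_comp, hh, ← Category.assoc, sR.w, Category.assoc])
  have : IsAffine U.left := inferInstanceAs (IsAffine (Spec D))
  obtain ⟨N, n₁, n₂, sN⟩ : ∃ (N : Over S) (n₁ n₂ : N ⟶ U), IsPullback n₁ n₂ h h :=
    ⟨_, _, _, IsPullback.of_hasPullback h h⟩
  have hN : ((yon S).map n₁ ≫ p) ≫ q = ((yon S).map n₂ ≫ p) ≫ q := by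
    rw [Category.assoc, Category.assoc, ← hh, ← Functor.map_comp, ← Functor.map_comp, sN.w]
  obtain ⟨r, hr₁, hr₂⟩ := sN.exists_lift s₁ s₂ hs
  have sd : IsPullback ((yon S).map s₁ ≫ p) ((yon S).map r) (pullback.diagonal q)
      (pullback.lift ((yon S).map n₁ ≫ p) ((yon S).map n₂ ≫ p) hN) := by
    have hn₁ : (yon S).map r ≫ (yon S).map n₁ = (yon S).map s₁ := by rw [← Functor.map_comp, hr₁]
    have hn₂ : (yon S).map r ≫ (yon S).map n₂ = (yon S).map s₂ := by rw [← Functor.map_comp, hr₂]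
    refine IsPullback.mk' ?_ (fun X k k' h₁ h₂ => ?_) fun X x y hxy => ?_
    · refine pullback.hom_ext ?_ ?_
      · simp only [Category.assoc, pullback.diagonal_fst, Category.comp_id, pullback.lift_fst]
        rw [reassoc_of% hn₁]
      · simp only [Category.assoc, pullback.diagonal_snd, Category.comp_id, pullback.lift_snd]
        rw [reassoc_of% hn₂, sR.w]
    · exact sR.hom_ext (by rw [← hn₁, reassoc_of% h₂]) (by rw [← hn₂, reassoc_of% h₂])
    · have e₁ := hxy =≫ pullback.fst q q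
      have e₂ := hxy =≫ pullback.snd q q
      simp only [Category.assoc, pullback.diagonal_fst, pullback.diagonal_snd, Category.comp_id,
        pullback.lift_fst, pullback.lift_snd] at e₁ e₂
      refine ⟨sR.lift (y ≫ (yon S).map n₁) (y ≫ (yon S).map n₂)
        (by rw [Category.assoc, Category.assoc, ← e₁, ← e₂]), by rw [sR.lift_fst_assoc, Category.assoc, ← e₁],
        (sN.map (yon S)).hom_ext ?_ ?_⟩
      · rw [Category.assoc, hn₁, sR.lift_fst]
      · rw [Category.assoc, hn₂, sR.lift_snd]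
  have : QuasiCompact r.left := repWith_prop hqs sd
  have : IsAffine ((Over.forget S).obj U) := ‹IsAffine U.left›
  have : IsAffineHom ((Over.forget S).map h) := isAffineHom_of_isAffine (X := U.left) (Y := Z.left) h.left
  have : IsAffine N.left := IsAffine.of_isPullback (sN.map (Over.forget S))
  have : CompactSpace R₀.left := compactSpace_of_qc r.left
  let 𝒰 := R₀.left.affineCover.finiteSubcover
  let j : (∐ fun i : 𝒰.I₀ => 𝒰.X i) ⟶ R₀.left := Sigma.desc fun i => 𝒰.f i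
  have : Surjective j := ⟨fun x => by
    obtain ⟨i, y, rfl⟩ := 𝒰.exists_eq x
    exact ⟨Sigma.ι 𝒰.X i y, by rw [← Scheme.Hom.comp_apply, Sigma.ι_desc]⟩⟩
  have : Etale j := IsZariskiLocalAtSource.sigmaDesc fun i => inferInstance
  let e : Over.mk (j ≫ R₀.hom) ⟶ R₀ := Over.homMk j
  exact ⟨U, _, p, e ≫ s₁, e ≫ s₂, inferInstance,
    inferInstanceAs (IsAffine (∐ fun i : 𝒰.I₀ => 𝒰.X i)), hp, hps,
    R₀, s₁, s₂, e, sR, inferInstanceAs (Etale j), inferInstanceAs (Surjective j), rfl, rfl⟩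

/-- Normalizations exist over quasi-compact quasi-separated spaces. -/
theorem exists_norm {P : Sp S} {Z : Over S} [IsAffine Z.left] (q : P ⟶ (yon S).obj Z)
    (hP : IsQuasiCompactSp P) (hqs : RepWith @QuasiCompact (pullback.diagonal q)) :
    ∃ (N : Over S) (ν : N ⟶ Z) (γ : P ⟶ (yon S).obj N), IsNorm q ν γ := by
  obtain ⟨U, R, p, r₁, r₂, hU, hR, hp⟩ := exists_isPres q hP hqs
  obtain ⟨h, hh⟩ := (yon S).map_surjective (p ≫ q)
  obtain ⟨N, ν, γ, -, -, -, -, hN⟩ := exists_norm_of_pres q hp h hh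
  exact ⟨N, ν, γ, hN⟩

set_option maxHeartbeats 800000 in
/-- Normalization commutes with smooth base change. -/
theorem IsNorm.baseChange {P P' : Sp S} {Z Z' N N' : Over S} [IsAffine Z.left] [IsAffine Z'.left]
    {q : P ⟶ (yon S).obj Z} (hP : IsQuasiCompactSp P) (hqs : RepWith @QuasiCompact (pullback.diagonal q))
    {ν : N ⟶ Z} {γ : P ⟶ (yon S).obj N} (hN : IsNorm q ν γ) (a : Z' ⟶ Z) [Smooth a.left]
    {fp : P' ⟶ P} {q' : P' ⟶ (yon S).obj Z'} (sP : IsPullback fp q' q ((yon S).map a))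
    {fn : N' ⟶ N} {ν' : N' ⟶ Z'} (sN : IsPullback fn ν' ν a) {γ' : P' ⟶ (yon S).obj N'}
    (h₁ : γ' ≫ (yon S).map fn = fp ≫ γ) (h₂ : γ' ≫ (yon S).map ν' = q') : IsNorm q' ν' γ' := by
  obtain ⟨U, R, p, r₁, r₂, hU, hR, hp⟩ := exists_isPres q hP hqs
  obtain ⟨h, hh⟩ := (yon S).map_surjective (p ≫ q)
  obtain ⟨N₀, ν₀, γ₀, n, hN₀, hn, he, hN₀'⟩ := exists_norm_of_pres q hp h hh
  obtain ⟨θ, hθ₁, hθ₂⟩ := hN.exists_iso hN₀'
  have sN₀ : IsPullback (fn ≫ θ.hom) ν' ν₀ a :=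
    sN.of_iso (Iso.refl _) θ (Iso.refl _) (Iso.refl _) (by simp) (by simp) (by simp [hθ₁]) (by simp)
  have h₁' : γ' ≫ (yon S).map (fn ≫ θ.hom) = fp ≫ γ₀ := by
    rw [Functor.map_comp, reassoc_of% h₁, hθ₂]
  obtain ⟨fn₀, hfn₀⟩ : ∃ f : N' ⟶ N₀, f = fn ≫ θ.hom := ⟨_, rfl⟩
  rw [← hfn₀] at sN₀ h₁'
  clear h₁ sN hN hθ₁ hθ₂ hfn₀
  have hr : r₁ ≫ h = r₂ ≫ h := (yon S).map_injective (by
    rw [Functor.map_comp, Functor.map_comp, hh, ← Category.assoc, hp.w, Category.assoc])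
  obtain ⟨U', u, h', sU⟩ : ∃ (U' : Over S) (u : U' ⟶ U) (h' : U' ⟶ Z'), IsPullback u h' h a :=
    ⟨_, _, _, IsPullback.of_hasPullback h a⟩
  obtain ⟨R₀, s₁, s₂, e, sR, he₁, he₂, hes₁, hes₂⟩ := hp.cover
  have hs : s₁ ≫ h = s₂ ≫ h := (yon S).map_injective (by
    rw [Functor.map_comp, Functor.map_comp, hh, ← Category.assoc, sR.w, Category.assoc])
  obtain ⟨R₀', u₀, t₀, sR₀⟩ : ∃ (R' : Over S) (u₀ : R' ⟶ R₀) (t₀ : R' ⟶ Z'), IsPullback u₀ t₀ (s₁ ≫ h) a :=
    ⟨_, _, _, IsPullback.of_hasPullback (s₁ ≫ h) a⟩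
  obtain ⟨R', uR, e', sE⟩ : ∃ (R' : Over S) (uR : R' ⟶ R) (e' : R' ⟶ R₀'), IsPullback uR e' e u₀ :=
    ⟨_, _, _, IsPullback.of_hasPullback e u₀⟩
  obtain ⟨t₁, ht₁u, ht₁h⟩ := sU.exists_lift (u₀ ≫ s₁) t₀ (by rw [Category.assoc]; exact sR₀.w)
  obtain ⟨t₂, ht₂u, ht₂h⟩ := sU.exists_lift (u₀ ≫ s₂) t₀ (by rw [Category.assoc, ← hs]; exact sR₀.w)
  have sR' : IsPullback uR (e' ≫ t₀) (r₁ ≫ h) a := by
    have := sE.paste_vert sR₀
    rwa [← Category.assoc, hes₁] at this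
  obtain ⟨p', hp'₁, hp'₂⟩ := sP.exists_lift ((yon S).map u ≫ p) ((yon S).map h') (by
    rw [Category.assoc, ← hh, ← Functor.map_comp, ← Functor.map_comp, sU.w])
  have sp : IsPullback ((yon S).map u) p' p fp := by
    refine IsPullback.of_bot ?_ hp'₁.symm sP
    rw [hp'₂, ← hh]
    exact sU.map (yon S)
  have sp' : IsPullback ((yon S).map t₁) ((yon S).map t₂) p' p' := by
    have hw₁ : ∀ {t : R₀' ⟶ U'} {s : R₀ ⟶ U}, t ≫ u = u₀ ≫ s →
        ((yon S).map t ≫ p') ≫ fp = (yon S).map u₀ ≫ (yon S).map s ≫ p := fun {t s} e => by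
      rw [Category.assoc, hp'₁, ← Functor.map_comp_assoc, e, Functor.map_comp_assoc]
    refine IsPullback.mk' ?_ (fun X k k' e₁ e₂ => (sR₀.map (yon S)).hom_ext (sR.hom_ext ?_ ?_) ?_)
      fun X x y hxy => ?_
    · refine sP.hom_ext (by rw [hw₁ ht₁u, hw₁ ht₂u, sR.w]) ?_
      rw [Category.assoc, Category.assoc, hp'₂, ← Functor.map_comp, ← Functor.map_comp, ht₁h, ht₂h]
    · rw [Category.assoc, Category.assoc, ← Functor.map_comp, ← ht₁u, Functor.map_comp, reassoc_of% e₁]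
    · rw [Category.assoc, Category.assoc, ← Functor.map_comp, ← ht₂u, Functor.map_comp, reassoc_of% e₂]
    · rw [← ht₁h, Functor.map_comp, reassoc_of% e₁]
    · have e₁ := hxy =≫ fp
      have e₂ := hxy =≫ q'
      simp only [Category.assoc, hp'₁, hp'₂] at e₁ e₂
      obtain ⟨z, hz₁, hz₂⟩ := sR.exists_lift (x ≫ (yon S).map u) (y ≫ (yon S).map u)
        (by rw [Category.assoc, Category.assoc]; exact e₁)
      obtain ⟨l, hl₁, hl₂⟩ := (sR₀.map (yon S)).exists_lift z (x ≫ (yon S).map h') (by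
        rw [Functor.map_comp, reassoc_of% hz₁, Category.assoc, ← Functor.map_comp, ← Functor.map_comp, sU.w])
      refine ⟨l, (sU.map (yon S)).hom_ext ?_ ?_, (sU.map (yon S)).hom_ext ?_ ?_⟩
      · rw [Category.assoc, ← Functor.map_comp, ht₁u, Functor.map_comp, reassoc_of% hl₁, hz₁]
      · rw [Category.assoc, ← Functor.map_comp, ht₁h, hl₂]
      · rw [Category.assoc, ← Functor.map_comp, ht₂u, Functor.map_comp, reassoc_of% hl₁, hz₂]
      · rw [Category.assoc, ← Functor.map_comp, ht₂h, hl₂, e₂]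
  have hp' : IsPres p' (e' ≫ t₁) (e' ≫ t₂) :=
    ⟨repWith_of_isPullback sp hp.etale, repWith_of_isPullback sp hp.surj,
      R₀', t₁, t₂, e', sp', MorphismProperty.of_isPullback (sE.map (Over.forget S)) he₁,
      MorphismProperty.of_isPullback (sE.map (Over.forget S)) he₂, rfl, rfl⟩
  have : IsAffine ((Over.forget S).obj U) := hU
  have : IsAffine ((Over.forget S).obj R) := hR
  have : IsAffine ((Over.forget S).obj N₀) := hN₀
  have : IsAffine ((Over.forget S).obj Z) := ‹IsAffine Z.left›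
  have : IsAffine ((Over.forget S).obj Z') := ‹IsAffine Z'.left›
  have : IsAffine N'.left := IsAffine.of_isPullback (sN₀.map (Over.forget S))
  obtain ⟨n', hn'₁, hn'₂⟩ := sN₀.exists_lift (u ≫ n) h' (by
    rw [Category.assoc, ← sU.w]; congr 1
    exact (hom_ext_appTop (by rw [Over.comp_left, Scheme.Hom.comp_appTop]; exact he.comp)))
  refine isNorm_of_eqInt hp' hp'₂.symm (n := n') ((sN₀.map (yon S)).hom_ext ?_ ?_) ?_
  · rw [← Functor.map_comp, hn'₁, Functor.map_comp, hn, Category.assoc, h₁', reassoc_of% hp'₁]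
  · rw [← Functor.map_comp, hn'₂, Category.assoc, h₂, hp'₂]
  have hsm : a.left.appTop.hom.Smooth :=
    (HasRingHomProperty.iff_of_isAffine (P := @Smooth)).1 ‹Smooth a.left›
  have pC : IsPushout a.left.appTop h.left.appTop h'.left.appTop u.left.appTop :=
    (isPushout_appTop_of_isPullback (sU.map (Over.forget S))).flip
  have pD : IsPushout a.left.appTop (h.left.appTop ≫ r₁.left.appTop) (e' ≫ t₀).left.appTop uR.left.appTop := by
    rw [appTop_comp_eq rfl]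
    exact (isPushout_appTop_of_isPullback (sR'.map (Over.forget S))).flip
  have pB : IsPushout a.left.appTop ν₀.left.appTop ν'.left.appTop fn₀.left.appTop :=
    (isPushout_appTop_of_isPullback (sN₀.map (Over.forget S))).flip
  refine he.baseChange a.left.appTop hsm pC pD pB (appTop_comp_eq (by rw [Category.assoc, ht₁h]))
    ((appTop_comp_eq rfl).trans (appTop_comp_eq ?_).symm)
    (appTop_comp_eq (by rw [Category.assoc, ht₂h]))
    ((appTop_comp_eq rfl).trans (appTop_comp_eq ?_).symm)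
    (appTop_comp_eq hn'₂) ((appTop_comp_eq hn'₁).trans (appTop_comp_eq rfl).symm)
  · rw [Category.assoc, ht₁u, ← hes₁, reassoc_of% sE.w]
  · rw [Category.assoc, ht₂u, ← hes₂, reassoc_of% sE.w]

end Groth.L23.Norm
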