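import Groth.Agent.L23.IntegralSpace
import Mathlib.RingTheory.Polynomial.ScaleRoots
import Mathlib.Topology.Sheaves.SheafCondition.UniqueGluing
import Mathlib.CategoryTheory.Limits.Types.Limits

/-!
# Global functions of a normal integral space form a normal domain
-/

universe u

open CategoryTheory CategoryTheory.Limits AlgebraicGeometry Opposite AlgSp Topology TopologicalSpace Polynomial

set_option backward.isDefEq.respectTransparency.types false
set_option linter.style.haveILetI false

namespace Groth.L23.IntSp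

section Ring

theorem dvd_of_scaleRoots {R : Type*} [CommRing R] [IsDomain R] [IsIntegrallyClosed R] {f g : R} (hg : g ≠ 0)
    {q : R[X]} (hq : q.Monic) (h : (q.scaleRoots g).eval f = 0) : g ∣ f := by
  let K := FractionRing R
  have hg' : algebraMap R K g ≠ 0 := fun e => hg (IsFractionRing.injective R K (e.trans (map_zero _).symm))
  obtain ⟨y, hy⟩ : ∃ y : R, algebraMap R K y = algebraMap R K f / algebraMap R K g := by
    refine IsIntegrallyClosed.isIntegral_iff.1 ⟨q, hq, ?_⟩
    have h1 := scaleRoots_eval₂_mul (p := q) (algebraMap R K) (algebraMap R K f / algebraMap R K g) g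
    rw [mul_div_cancel₀ _ hg', eval₂_at_apply, h, map_zero] at h1
    exact (mul_eq_zero.1 h1.symm).resolve_left (pow_ne_zero _ hg')
  refine ⟨y, IsFractionRing.injective R K ?_⟩
  rw [map_mul, hy, mul_div_cancel₀ _ hg']

end Ring

/-- Division of global functions, stalk by stalk. -/
theorem existsUnique_div (U : Scheme.{u}) (f g : Γ(U, ⊤)) (hdom : ∀ v, IsDomain (U.presheaf.stalk v))
    (hg : ∀ v, U.presheaf.germ ⊤ v trivial g ≠ 0)
    (hdvd : ∀ v, U.presheaf.germ ⊤ v trivial g ∣ U.presheaf.germ ⊤ v trivial f) :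
    ∃! s : Γ(U, ⊤), g * s = f := by
  have cancel : ∀ (W : U.Opens) (s t : Γ(U, W)),
      (U.presheaf.map (homOfLE le_top).op g) * s = (U.presheaf.map (homOfLE le_top).op g) * t → s = t := by
    intro W s t e
    refine TopCat.Presheaf.section_ext U.sheaf W s t fun v hv => ?_
    have e' := congrArg (U.presheaf.germ W v hv) e
    rw [map_mul, map_mul, TopCat.Presheaf.germ_res_apply] at e'
    have := hdom v
    exact mul_left_cancel₀ (M₀ := ↥(U.presheaf.stalk v)) (hg v) e'
  have hloc : ∀ v : U, ∃ (W : U.Opens) (_ : v ∈ W) (s : Γ(U, W)),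
      U.presheaf.map (homOfLE le_top).op g * s = U.presheaf.map (homOfLE (le_top (a := W))).op f := by
    intro v
    obtain ⟨z, hz⟩ := hdvd v
    obtain ⟨W, hvW, s, rfl⟩ := U.presheaf.exists_germ_eq z
    have e : U.presheaf.germ W v hvW (U.presheaf.map (homOfLE (le_top (a := W))).op f) =
        U.presheaf.germ W v hvW (U.presheaf.map (homOfLE le_top).op g * s) := by
      rw [map_mul, TopCat.Presheaf.germ_res_apply, TopCat.Presheaf.germ_res_apply, hz]
    obtain ⟨W', hv', i₁, i₂, e'⟩ := U.presheaf.germ_eq v hvW hvW _ _ e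
    refine ⟨W', hv', U.presheaf.map i₁.op s, ?_⟩
    have hi : i₁ = i₂ := Subsingleton.elim _ _
    subst hi
    rw [map_mul, ← ConcreteCategory.comp_apply, ← Functor.map_comp, ← ConcreteCategory.comp_apply,
      ← Functor.map_comp] at e'
    exact e'.symm
  choose W hW s hs using hloc
  have hc : TopCat.Presheaf.IsCompatible U.sheaf.1 W s := by
    intro a b
    refine cancel (W a ⊓ W b) _ _ ?_
    have ha := congrArg (U.presheaf.map (Opens.infLELeft (W a) (W b)).op) (hs a)
    have hb := congrArg (U.presheaf.map (Opens.infLERight (W a) (W b)).op) (hs b)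
    rw [map_mul, ← ConcreteCategory.comp_apply, ← Functor.map_comp, ← ConcreteCategory.comp_apply,
      ← Functor.map_comp] at ha hb
    exact ha.trans hb.symm
  obtain ⟨t, ht, -⟩ := U.sheaf.existsUnique_gluing' W ⊤ (fun v => homOfLE le_top)
    (fun v _ => Opens.mem_iSup.2 ⟨v, hW v⟩) s hc
  change Γ(U, ⊤) at t
  refine ⟨t, ?_, fun t' ht' => ?_⟩
  · refine TopCat.Presheaf.section_ext U.sheaf ⊤ _ _ fun v _ => ?_
    show U.presheaf.germ ⊤ v trivial (g * t) = U.presheaf.germ ⊤ v trivial f
    rw [map_mul, ← TopCat.Presheaf.germ_res_apply U.presheaf (homOfLE le_top) v (hW v) t,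
      ← TopCat.Presheaf.germ_res_apply U.presheaf (homOfLE le_top) v (hW v) g,
      ← TopCat.Presheaf.germ_res_apply U.presheaf (homOfLE le_top) v (hW v) f, ← map_mul]
    exact congrArg _ ((congrArg _ (ht v)).trans (hs v))
  · refine TopCat.Presheaf.section_ext U.sheaf ⊤ _ _ fun v _ => ?_
    have := hdom v
    refine mul_left_cancel₀ (M₀ := ↥(U.presheaf.stalk v)) (hg v) ?_
    show U.presheaf.germ ⊤ v trivial g * U.presheaf.germ ⊤ v trivial t' =
      U.presheaf.germ ⊤ v trivial g * U.presheaf.germ ⊤ v trivial t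
    rw [← map_mul, ← map_mul, ht']
    refine Eq.symm ?_
    rw [map_mul, ← TopCat.Presheaf.germ_res_apply U.presheaf (homOfLE le_top) v (hW v) t,
      ← TopCat.Presheaf.germ_res_apply U.presheaf (homOfLE le_top) v (hW v) g,
      ← TopCat.Presheaf.germ_res_apply U.presheaf (homOfLE le_top) v (hW v) f, ← map_mul]
    exact congrArg _ ((congrArg _ (ht v)).trans (hs v))

variable {S : Scheme.{u}}

theorem isIntegrallyClosed_gsect (X : Space S) (hi : IsIntegralSp X.obj)
    (hn : EtaleLocally (fun U => ∀ u : ↥U, IsDomain ↥(U.presheaf.stalk u) ∧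
      IsIntegrallyClosed ↥(U.presheaf.stalk u)) X.obj) :
    IsIntegrallyClosed ↥(gsectEt (OEt X.obj)) := by
  haveI := isDomain_gsect X hi
  obtain ⟨ξ, hξ⟩ := exists_genericPoint X.property hi.2.1 hi.2.2
  let π : ∀ (E : EtOver X.obj), ↥(gsectEt (OEt X.obj)) →+* Γ(E.obj.left.left, ⊤) := fun E =>
    { toFun := fun f => ((limit.π (OEt X.obj).obj (op E)) f).down
      map_one' := congrArg ULift.down (map_one (limit.π (OEt X.obj).obj (op E)).hom)
      map_zero' := congrArg ULift.down (map_zero (limit.π (OEt X.obj).obj (op E)).hom)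
      map_mul' := fun a b => congrArg ULift.down (map_mul (limit.π (OEt X.obj).obj (op E)).hom a b)
      map_add' := fun a b => congrArg ULift.down (map_add (limit.π (OEt X.obj).obj (op E)).hom a b) }
  have hnat : ∀ (f : ↥(gsectEt (OEt X.obj))) {F E : EtOver X.obj} (g : F ⟶ E),
      g.hom.left.left.appTop (π E f) = π F f := fun f F E g =>
    congrArg (fun φ => (φ f).down) (limit.w (OEt X.obj).obj g.op)
  have hne : ∀ g : ↥(gsectEt (OEt X.obj)), g ≠ 0 → ∀ (E : EtOver X.obj) (v : E.obj.left.left),
      E.obj.left.left.presheaf.germ ⊤ v trivial (π E g) ≠ 0 := by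
    intro g hg
    have hgen : ∃ (E : EtOver X.obj) (v : E.obj.left.left), v ∈ E.obj.left.left.basicOpen (π E g) ∧
        Points.ofPt E.obj.hom v = ξ := by
      by_contra hc
      push Not at hc
      refine hg (Concrete.limit_ext _ _ _ fun E => ?_)
      refine (ULift.down_injective ?_).trans (map_zero (limit.π (OEt X.obj).obj E).hom).symm
      refine (@basicOpen_eq_bot_iff _ (Supp.isReduced_obj hi.1 E.unop) _ _).1 (eq_bot_iff.2 fun z hz => ?_)
      obtain ⟨w, -, hwz, hwξ⟩ := exists_minimal X.property hi.2.1 hξ E.unop.property z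
      exact absurd hwξ (hc E.unop w (hwz.mem_open (E.unop.obj.left.left.basicOpen _).isOpen hz))
    obtain ⟨E', v', hv', hvξ⟩ := hgen
    intro E v e
    obtain ⟨w, -, hwv, hwξ⟩ := exists_minimal X.property hi.2.1 hξ E.property v
    obtain ⟨F, p, p', r, hr, hr'⟩ := exists_common E E' w v' (hwξ.trans hvξ.symm)
    have h1 : r ∈ F.obj.left.left.basicOpen (π F g) := by
      rw [← hnat g p', ← Scheme.preimage_basicOpen_top]
      show p'.hom.left.left r ∈ E'.obj.left.left.basicOpen (π E' g)
      rw [hr']; exact hv'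
    rw [← hnat g p, ← Scheme.preimage_basicOpen_top] at h1
    have h2 : w ∈ E.obj.left.left.basicOpen (π E g) := by rw [← hr]; exact h1
    have h3 := congrArg (E.obj.left.left.presheaf.stalkSpecializes hwv) e
    rw [map_zero, TopCat.Presheaf.germ_stalkSpecializes_apply] at h3
    rw [Scheme.mem_basicOpen E.obj.left.left (π E g) w trivial, h3] at h2
    haveI := (normal_chart X.property hn E.property w).1
    exact not_isUnit_zero h2
  refine (isIntegrallyClosed_iff (FractionRing ↥(gsectEt (OEt X.obj)))).2 fun {x} hx => ?_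
  obtain ⟨f, g, hg, rfl⟩ := IsFractionRing.div_surjective (A := ↥(gsectEt (OEt X.obj))) x
  replace hg : g ≠ 0 := nonZeroDivisors.ne_zero hg
  obtain ⟨q, hq, hroot⟩ := hx
  have hK : algebraMap _ (FractionRing ↥(gsectEt (OEt X.obj))) g ≠ 0 :=
    fun e => hg (IsFractionRing.injective ↥(gsectEt (OEt X.obj)) (FractionRing ↥(gsectEt (OEt X.obj))) (e.trans (map_zero _).symm))
  have hfg : (q.scaleRoots g).eval f = 0 := by
    refine IsFractionRing.injective ↥(gsectEt (OEt X.obj)) (FractionRing ↥(gsectEt (OEt X.obj))) ?_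
    have h1 := scaleRoots_eval₂_mul (p := q) (algebraMap _ (FractionRing ↥(gsectEt (OEt X.obj))))
      (algebraMap _ _ f / algebraMap _ _ g) g
    rw [mul_div_cancel₀ _ hK, eval₂_at_apply, hroot, mul_zero] at h1
    rw [h1, map_zero]
  have hdiv : ∀ (E : EtOver X.obj), ∃! s : Γ(E.obj.left.left, ⊤), π E g * s = π E f := fun E => by
    refine existsUnique_div _ _ _ (fun v => (normal_chart X.property hn E.property v).1) (hne g hg E) fun v => ?_
    haveI := (normal_chart X.property hn E.property v).1
    haveI := (normal_chart X.property hn E.property v).2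
    let φ : ↥(gsectEt (OEt X.obj)) →+* ↥(E.obj.left.left.presheaf.stalk v) :=
      RingHom.comp (E.obj.left.left.presheaf.germ ⊤ v trivial).hom (π E)
    refine dvd_of_scaleRoots (hne g hg E v) (hq.map φ) ?_
    have h1 : (q.scaleRoots g).map φ = (q.map φ).scaleRoots (φ g) :=
      map_scaleRoots q g φ (by rw [hq.leadingCoeff, map_one]; exact one_ne_zero)
    show ((q.map φ).scaleRoots (φ g)).eval (φ f) = 0
    rw [← h1, eval_map, eval₂_at_apply, hfg, map_zero]
  choose s hs hsu using hdiv
  obtain ⟨h, hh, -⟩ := (Types.isLimit_iff _).1 ⟨isLimitOfPreserves (forget CommRingCat.{u + 1})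
    (limit.isLimit (OEt X.obj).obj)⟩ (fun E => (ULift.up (s E.unop) : ULift.{u + 1} Γ(E.unop.obj.left.left, ⊤)))
    (fun {E F} p => by
      refine ULift.down_injective (hsu F.unop _ ?_)
      show π F.unop g * p.unop.hom.left.left.appTop (s E.unop) = π F.unop f
      rw [← hnat g p.unop, ← hnat f p.unop, ← map_mul, hs])
  change ↥(gsectEt (OEt X.obj)) at h
  refine ⟨h, ?_⟩
  have hgh : g * h = f := by
    refine Concrete.limit_ext _ _ _ fun E => ULift.down_injective ?_
    show π E.unop (g * h) = π E.unop f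
    rw [map_mul, ← hs E.unop]
    exact congrArg (π E.unop g * ·) (congrArg ULift.down (hh E))
  rw [eq_div_iff hK, ← map_mul, mul_comm, hgh]

end Groth.L23.IntSp
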