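import Groth.Agent.L23.LocP
import Groth.Agent.L23.DimDecent
import Groth.Agent.L23.SchemeLocus
import Mathlib.Topology.JacobsonSpace
import Mathlib.AlgebraicGeometry.Morphisms.Finite
import Mathlib.AlgebraicGeometry.Morphisms.FiniteType

/-!
# Jacobson algebraic spaces
-/

universe u

open CategoryTheory CategoryTheory.Limits AlgebraicGeometry Opposite AlgSp Topology

set_option backward.isDefEq.respectTransparency.types false
set_option linter.style.haveILetI false

namespace Groth.L23.Jac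

/-- Locally closed discrete sets of a Jacobson space consist of closed points. -/
theorem isClosed_singleton_of_mem {A : Type*} [TopologicalSpace A] [JacobsonSpace A] {F : Set A}
    (hF : IsLocallyClosed F) (hd : IsDiscrete F) {z : A} (hz : z ∈ F) : IsClosed ({z} : Set A) := by
  obtain ⟨O, hO, hOz⟩ := isDiscrete_iff_forall_mem_exists_isOpen.1 hd z hz
  refine isClosed_singleton_of_isLocallyClosed_singleton ?_
  have : ({z} : Set A) = O ∩ F := hOz.symm
  rw [this]
  exact hO.isLocallyClosed.inter hF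

/-- Fibres of finitely many points in an affine open, for a quasi-finite morphism. -/
theorem finite_fibre_inter {A B : Scheme.{u}} (f : A ⟶ B) [LocallyQuasiFinite f] (y : A) (x : B) :
    ∃ W : A.Opens, y ∈ W ∧ (f ⁻¹' {x} ∩ (W : Set A)).Finite := by
  obtain ⟨_, ⟨V, hV, rfl⟩, hyV, -⟩ :=
    B.isBasis_affineOpens.exists_subset_of_mem_open (Set.mem_univ (f y)) isOpen_univ
  change B.Opens at V
  obtain ⟨_, ⟨W, hW, rfl⟩, hyW, hWV⟩ :=
    A.isBasis_affineOpens.exists_subset_of_mem_open (show y ∈ f ⁻¹ᵁ V from hyV) (f ⁻¹ᵁ V).isOpen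
  change A.Opens at W
  refine ⟨W, hyW, ?_⟩
  have : IsAffine (V : Scheme.{u}) := hV
  have : IsAffine (W : Scheme.{u}) := hW
  let g : (W : Scheme.{u}) ⟶ (V : Scheme.{u}) :=
    IsOpenImmersion.lift V.ι (W.ι ≫ f) (by rintro _ ⟨w, rfl⟩; rw [Scheme.Opens.range_ι]; exact hWV w.2)
  have hg : g ≫ V.ι = W.ι ≫ f := IsOpenImmersion.lift_fac _ _ _
  have : LocallyQuasiFinite (g ≫ V.ι) := by rw [hg]; infer_instance
  have : LocallyQuasiFinite g := LocallyQuasiFinite.of_comp g V.ι
  have : QuasiCompact g := (HasAffineProperty.iff_of_isAffine (P := @QuasiCompact)).2 inferInstance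
  refine ((g.finite_preimage (s := V.ι ⁻¹' {x})
    (Set.Finite.preimage (V.ι.isOpenEmbedding.injective.injOn) (Set.finite_singleton x))).image W.ι).subset ?_
  rintro a ⟨ha, haW⟩
  refine ⟨⟨a, haW⟩, ?_, rfl⟩
  show V.ι (g ⟨a, haW⟩) ∈ ({x} : Set B)
  rw [← Scheme.Hom.comp_apply, hg]
  exact ha

/-- Jacobson schemes descend along open quasi-finite surjections. -/
theorem jacobsonSpace_of_surjective {A B : Scheme.{u}} (f : A ⟶ B) [LocallyQuasiFinite f] [Surjective f]
    (ho : IsOpenMap f) [JacobsonSpace A] : JacobsonSpace B := by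
  rw [jacobsonSpace_iff_locallyClosed]
  rintro Z ⟨z, hz⟩ ⟨U, C, hU, hC, rfl⟩
  obtain ⟨_, ⟨V, hV, rfl⟩, hzV, hVU⟩ := B.isBasis_affineOpens.exists_subset_of_mem_open hz.1 hU
  change B.Opens at V
  have : IsAffine (V : Scheme.{u}) := hV
  obtain ⟨v, hvC, hv⟩ := (hC.preimage V.ι.continuous).exists_closed_singleton (S := V.ι ⁻¹' C) ⟨⟨z, hzV⟩, hz.2⟩
  let x : B := V.ι v
  refine ⟨x, ⟨hVU v.2, hvC⟩, ?_⟩
  have hVx : closure {x} ∩ (V : Set B) ⊆ {x} := fun w hw => by
    have : (⟨w, hw.2⟩ : ↥(V : Scheme.{u})) ∈ closure {v} := by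
      rw [V.ι.isOpenEmbedding.isInducing.closure_eq_preimage_closure_image, Set.image_singleton]
      exact hw.1
    rw [hv.closure_eq] at this
    exact congrArg V.ι this
  have hF : IsLocallyClosed (f ⁻¹' {x}) := by
    have : f ⁻¹' {x} = (f ⁻¹' closure {x}) ∩ f ⁻¹' (V : Set B) := Set.Subset.antisymm
      (fun a ha => ⟨subset_closure ha, by show f a ∈ (V : Set B); rw [Set.mem_singleton_iff.1 ha]; exact v.2⟩) fun a ha => hVx ha
    rw [this]
    exact (isClosed_closure.preimage f.continuous).isLocallyClosed.inter (V.2.preimage f.continuous).isLocallyClosed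
  have hcl : ∀ a ∈ f ⁻¹' {x}, IsClosed ({a} : Set A) := fun a ha =>
    isClosed_singleton_of_mem hF (f.isDiscrete_preimage_singleton x) ha
  show IsClosed {x}
  rw [← closure_subset_iff_isClosed]
  intro w hw
  obtain ⟨y, rfl⟩ := f.surjective w
  have hy : y ∈ closure (f ⁻¹' {x}) := by
    rw [← ho.preimage_closure_eq_closure_preimage f.continuous]; exact hw
  obtain ⟨W, hyW, hfin⟩ := finite_fibre_inter f y x
  have hc : IsClosed (f ⁻¹' {x} ∩ (W : Set A)) := by
    rw [← Set.biUnion_of_singleton (f ⁻¹' {x} ∩ (W : Set A))]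
    exact hfin.isClosed_biUnion fun a ha => hcl a ha.1
  have := closure_minimal (le_refl (f ⁻¹' {x} ∩ (W : Set A))) hc
  exact (this ((W.2.inter_closure ⟨hyW, hy⟩ : y ∈ closure ((W : Set A) ∩ f ⁻¹' {x})) |> fun h => by
    rwa [Set.inter_comm] at h)).1

variable {S : Scheme.{u}} {X : Sp S}

/-- Every chart of a Jacobson space is Jacobson. -/
theorem jacobsonSpace_chart (hX : IsAlgSpace X) (hJ : EtaleLocally (fun U => JacobsonSpace ↥U) X) {W : Over S}
    {a : (yon S).obj W ⟶ X} (ha : RepWith @Etale a) : JacobsonSpace W.left := by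
  obtain ⟨V, b, hb, hbs, hV⟩ := hJ
  obtain ⟨R, p, q, sq⟩ := exists_isPullback_of_representable (hX.representable_from_yon a) b
  have : Etale p.left := repWith_prop hb sq.flip
  have : Surjective p.left := repWith_prop hbs sq.flip
  have : Etale q.left := repWith_prop ha sq
  have : JacobsonSpace V.left := hV
  have : JacobsonSpace R.left := LocallyOfFiniteType.jacobsonSpace q.left
  have := lqf_of_etale p.left
  exact jacobsonSpace_of_surjective p.left p.left.isOpenMap

/-- Schemes locally of finite type over Jacobson spaces are Jacobson. -/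
theorem jacobsonSpace_of_locP (hX : IsAlgSpace X) (hJ : EtaleLocally (fun U => JacobsonSpace ↥U) X)
    {Y : Sp S} (hY : IsAlgSpace Y) (f : Y ⟶ X) (hf : LocP @LocallyOfFiniteType f) :
    EtaleLocally (fun U => JacobsonSpace ↥U) Y := by
  obtain ⟨V, b, hb, hbs, hV⟩ := hJ
  obtain ⟨U, a, h, ha, w, has⟩ := exists_chart_over hY hX f hb
  have : LocallyOfFiniteType h.left := hf a b h ha hb w
  have : JacobsonSpace V.left := hV
  exact ⟨U, a, ha, has hbs, LocallyOfFiniteType.jacobsonSpace h.left⟩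

/-- All preimages of finite type points in etale charts are closed; some preimage in lft charts is closed. -/
theorem exists_closed_over (hX : IsAlgSpace X) (hJ : EtaleLocally (fun U => JacobsonSpace ↥U) X)
    {x : Points X} (hx : HasAt (fun U u => IsClosed ({u} : Set ↥U)) X x) {W : Over S} (g : (yon S).obj W ⟶ X)
    (hg : LocP @LocallyOfFiniteType g) :
    (x ∈ Set.range (Points.ofPt g) → ∃ w, IsClosed ({w} : Set W.left) ∧ Points.ofPt g w = x) ∧
      (RepWith @Etale g → ∀ w, Points.ofPt g w = x → IsClosed ({w} : Set W.left)) := by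
  obtain ⟨U, a, u, ha, rfl, hu⟩ := hx
  obtain ⟨R, p, q, sq⟩ := exists_isPullback_of_representable (hX.representable_from_yon g) a
  have : Etale p.left := repWith_prop ha sq.flip
  have hpa : RepWith @Etale ((yon S).map p) := repWith_map ‹Etale p.left›
  have hW := jacobsonSpace_chart (IsAlgSpace.yon_obj W)
    (jacobsonSpace_of_locP hX hJ (IsAlgSpace.yon_obj W) g hg) (repWith_of_isIso (𝟙 ((yon S).obj W)))
  have hU := jacobsonSpace_chart hX hJ ha
  have : LocallyOfFiniteType q.left := hg ((yon S).map p) a q hpa ha sq.w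
  have : JacobsonSpace R.left := LocallyOfFiniteType.jacobsonSpace q.left
  constructor
  · rintro ⟨w, hw⟩
    obtain ⟨r₀, hr₀, hr₀'⟩ := (ofPt_eq_ofPt_iff sq w u).1 hw
    obtain ⟨r, hr, hrc⟩ := nonempty_inter_closedPoints (Z := q.left ⁻¹' {u}) ⟨r₀, hr₀'⟩
      (hu.preimage q.left.continuous).isLocallyClosed
    exact ⟨p.left r, p.left.closePoints_subset_preimage_closedPoints hrc,
      (ofPt_eq_ofPt_iff sq _ _).2 ⟨r, rfl, hr⟩⟩
  · intro hge w hw
    obtain ⟨r, hr, hr'⟩ := (ofPt_eq_ofPt_iff sq w u).1 hw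
    have : Etale q.left := repWith_prop hge sq
    have := lqf_of_etale q.left
    rw [← hr]
    exact p.left.closePoints_subset_preimage_closedPoints
      (isClosed_singleton_of_mem (hu.preimage q.left.continuous).isLocallyClosed
        (q.left.isDiscrete_preimage_singleton u) hr')

/-- Finite type points of decent Jacobson spaces are the closed points. -/
theorem hasAt_closed_iff (hX : IsAlgSpace X) (hd : IsDecent X) (hJ : EtaleLocally (fun U => JacobsonSpace ↥U) X)
    (x : Points X) : HasAt (fun U u => IsClosed ({u} : Set ↥U)) X x ↔ IsClosed ({x} : Set (Points X)) := by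
  obtain ⟨V, b, hb, hbs, hV⟩ := id hJ
  have : JacobsonSpace V.left := hV
  constructor
  · intro hx
    rw [← ((isOpenQuotientMap_ofPt hb hbs).isQuotientMap).isClosed_preimage, ← closure_subset_iff_isClosed]
    intro y hy
    obtain ⟨_, ⟨B, hB, rfl⟩, hyB, -⟩ :=
      V.left.isBasis_affineOpens.exists_subset_of_mem_open (Set.mem_univ y) isOpen_univ
    change V.left.Opens at B
    let W : Over S := Over.mk (B.ι ≫ V.hom)
    let c : (yon S).obj W ⟶ X := (yon S).map (Over.homMk B.ι rfl : W ⟶ V) ≫ b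
    have hc : RepWith @Etale c := repWith_comp (repWith_etale_openMk B) hb
    obtain ⟨m, hm, hmm, hq⟩ := hd x
    have hfin := (Pt.qc_iff_finite_fibres hX m).1 hq W c hB hc
    have hfin' : (Points.ofPt b ⁻¹' {x} ∩ (B : Set V.left)).Finite := by
      refine (hfin.image B.ι).subset ?_
      rintro a ⟨ha, haB⟩
      refine ⟨⟨a, haB⟩, ?_, rfl⟩
      show Points.ofPt c ⟨a, haB⟩ ∈ ({Points.mk m} : Set (Points X))
      rw [hm, ofPt_openMk B b ⟨a, haB⟩]
      exact ha
    have hclosed : IsClosed (Points.ofPt b ⁻¹' {x} ∩ (B : Set V.left)) := by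
      rw [← Set.biUnion_of_singleton (Points.ofPt b ⁻¹' {x} ∩ (B : Set V.left))]
      exact hfin'.isClosed_biUnion fun a ha =>
        (exists_closed_over hX hJ hx b (locP_mono (fun φ (_ : Etale φ) => inferInstanceAs (LocallyOfFiniteType φ))
          (locP_of_repWith etLocal_etale hb))).2 hb a ha.1
    have h1 : y ∈ closure ((B : Set V.left) ∩ Points.ofPt b ⁻¹' {x}) := B.2.inter_closure ⟨hyB, hy⟩
    rw [Set.inter_comm, hclosed.closure_eq] at h1
    exact h1.1
  · intro hx
    obtain ⟨v, hv⟩ := surjective_ofPt hbs x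
    obtain ⟨w, hw, hwc⟩ := nonempty_inter_closedPoints (Z := Points.ofPt b ⁻¹' {x}) ⟨v, hv⟩
      (hx.preimage (Points.continuous_ofPt b)).isLocallyClosed
    exact ⟨V, b, w, hb, hw, hwc⟩

/-- Jacobson is a property of the points for decent spaces. -/
theorem jacobson_iff (hX : IsAlgSpace X) (hd : IsDecent X) :
    EtaleLocally (fun U => JacobsonSpace ↥U) X ↔ JacobsonSpace (Points X) := by
  constructor
  · intro hJ
    obtain ⟨V, b, hb, hbs, hV⟩ := id hJ
    have : JacobsonSpace V.left := hV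
    rw [jacobsonSpace_iff_locallyClosed]
    rintro Z ⟨z, hz⟩ hZ
    obtain ⟨v, rfl⟩ := surjective_ofPt hbs z
    obtain ⟨w, hw, hwc⟩ := nonempty_inter_closedPoints (Z := Points.ofPt b ⁻¹' Z) ⟨v, hz⟩
      (hZ.preimage (Points.continuous_ofPt b))
    exact ⟨_, hw, (hasAt_closed_iff hX hd hJ _).1 ⟨V, b, w, hb, rfl, hwc⟩⟩
  · intro hP
    obtain ⟨U, a, ha, has⟩ := hX.atlas
    refine ⟨U, a, ha, has, ?_⟩
    show JacobsonSpace U.left
    rw [jacobsonSpace_iff_locallyClosed]
    rintro Z ⟨z, hz⟩ ⟨O, C, hO, hC, rfl⟩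
    obtain ⟨_, ⟨B, hB, rfl⟩, hzB, hBO⟩ := U.left.isBasis_affineOpens.exists_subset_of_mem_open hz.1 hO
    change U.left.Opens at B
    let W : Over S := Over.mk (B.ι ≫ U.hom)
    let c : (yon S).obj W ⟶ X := (yon S).map (Over.homMk B.ι rfl : W ⟶ U) ≫ a
    have hc : RepWith @Etale c := repWith_comp (repWith_etale_openMk B) ha
    have : IsAffine W.left := hB
    let ι' : W.left ⟶ U.left := B.ι
    obtain ⟨u, huC, hu⟩ := (hC.preimage ι'.continuous).exists_closed_singleton (S := ι' ⁻¹' C) ⟨⟨z, hzB⟩, hz.2⟩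
    refine ⟨ι' u, ⟨hBO u.2, huC⟩, ?_⟩
    obtain ⟨m, hm, hmm, hq⟩ := hd (Points.ofPt c u)
    have hfin := (Pt.qc_iff_finite_fibres hX m).1 hq W c inferInstance hc
    rw [hm] at hfin
    let F := Points.ofPt c ⁻¹' {Points.ofPt c u} \ {u}
    have hFc : IsClosed (⋃ w ∈ F, closure ({w} : Set W.left)) :=
      (hfin.subset Set.sdiff_subset).isClosed_biUnion fun _ _ => isClosed_closure
    let W' : Set W.left := (⋃ w ∈ F, closure ({w} : Set W.left))ᶜ
    have huW' : u ∈ W' := by
      simp only [W', Set.mem_compl_iff, Set.mem_iUnion, not_exists]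
      rintro w ⟨hw, hwu⟩ hcl
      exact hwu (Pt.ofPt_strict hX hd hc w u (specializes_iff_mem_closure.2 hcl) hw)
    have hsep : ∀ w ∈ W', Points.ofPt c w = Points.ofPt c u → w = u := fun w hw e => by
      by_contra hne
      exact hw (Set.mem_biUnion (show w ∈ F from ⟨e, hne⟩) (subset_closure rfl))
    have hx : IsClosed ({Points.ofPt c u} : Set (Points X)) := by
      refine isClosed_singleton_of_isLocallyClosed_singleton ?_
      refine ⟨Points.ofPt c '' W', (Points.ofPt c '' (W' \ {u}))ᶜ, isOpenMap_ofPt hc _ hFc.isOpen_compl,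
        (isOpenMap_ofPt hc _ (hFc.isOpen_compl.sdiff hu)).isClosed_compl, Set.Subset.antisymm ?_ ?_⟩
      · rintro _ rfl
        refine ⟨⟨u, huW', rfl⟩, ?_⟩
        rintro ⟨w, hw, e⟩
        exact hw.2 (hsep w hw.1 e)
      · rintro _ ⟨⟨w, hw, rfl⟩, hn⟩
        by_cases h : w = u
        · rw [h]; rfl
        · exact absurd ⟨w, ⟨hw, h⟩, rfl⟩ hn
    show IsClosed {ι' u}
    rw [← closure_subset_iff_isClosed]
    intro y hy
    have hya : Points.ofPt a y = Points.ofPt c u :=
      closure_minimal (Set.singleton_subset_iff.2 (show ι' u ∈ Points.ofPt a ⁻¹' {Points.ofPt c u} from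
        (ofPt_openMk B a u).symm)) (hx.preimage (Points.continuous_ofPt a)) hy
    exact (Pt.ofPt_strict hX hd ha (ι' u) y (specializes_iff_mem_closure.2 hy)
      ((ofPt_openMk B a u).symm.trans hya.symm)).symm

end Groth.L23.Jac
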