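import Groth.Agent.L23.LqfPiece
import Groth.Agent.L23.EtaleMono

/-!
# Finite pieces of a separated quasi-finite space over an affine scheme
-/

universe u

open CategoryTheory CategoryTheory.Limits AlgebraicGeometry Opposite AlgSp TopologicalSpace

set_option backward.isDefEq.respectTransparency.types false

namespace Groth.L23.Lqf

variable {S : Scheme.{u}} {X : Sp S} {U R W : Over S}

theorem exists_piece_sp' [IsAffine U.left] [IsAffine W.left] (q : X ⟶ (yon S).obj W)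
    (hd : RepWith @IsClosedImmersion (pullback.diagonal q)) (p : (yon S).obj U ⟶ X) (hp : RepWith @Etale p)
    {p₁ p₂ : R ⟶ U} (sR : IsPullback ((yon S).map p₁) ((yon S).map p₂) p p)
    (h : U ⟶ W) (hpq : (yon S).map h = p ≫ q) [LocallyQuasiFinite h.left] [LocallyOfFiniteType h.left]
    (u : U.left) :
    ∃ (T U₁ : Over S) (v : T ⟶ W) (f : U₁ ⟶ T) (k : U₁ ⟶ U) (w : k.left ≫ h.left = f.left ≫ v.left),
      IsAffine T.left ∧ IsAffine U₁.left ∧ Etale v.left ∧ IsFinite f.left ∧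
      (∀ {Q : Scheme.{u}} (fst : Q ⟶ U.left) (snd : Q ⟶ T.left) (sq : IsPullback fst snd h.left v.left),
        IsOpenImmersion (sq.lift k.left f.left w)) ∧
      (∃ z : U₁.left, k.left z = u ∧ ∀ (Ω : Type u) [Field Ω] (a b : Spec (CommRingCat.of Ω) ⟶ U₁.left)
        (x : ↥(Spec (CommRingCat.of Ω))), a ≫ f.left = b ≫ f.left → f.left (a x) = f.left z → a = b) ∧
      ∀ {Z : Over S} (a b : Z ⟶ U₁), a ≫ f = b ≫ f →
        (yon S).map (a ≫ k) ≫ p = (yon S).map (b ≫ k) ≫ p → a = b := by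
  obtain ⟨T', U₁', v', t, f', k', w', hT', hU₁', hv', hf', hk', ⟨z₀, hz₀t, hz₀u⟩, hdiag⟩ :=
    exists_piece h.left u
  let T₀ : Over S := Over.mk (v' ≫ W.hom)
  let U₀ : Over S := Over.mk (f' ≫ v' ≫ W.hom)
  let v₀ : T₀ ⟶ W := Over.homMk v'
  let f₀ : U₀ ⟶ T₀ := Over.homMk f'
  let k₀ : U₀ ⟶ U := Over.homMk k' (by
    show k' ≫ U.hom = f' ≫ v' ≫ W.hom
    rw [← Over.w h, reassoc_of% w'])
  have w₀ : k₀ ≫ h = f₀ ≫ v₀ := Over.OverMorphism.ext w'
  obtain ⟨P, a₁, a₂, sP⟩ : ∃ (P : Over S) (a₁ a₂ : P ⟶ U₀), IsPullback a₁ a₂ f₀ f₀ :=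
    ⟨_, _, _, IsPullback.of_hasPullback f₀ f₀⟩
  have haq : (yon S).map (a₁ ≫ k₀) ≫ p ≫ q = (yon S).map (a₂ ≫ k₀) ≫ p ≫ q := by
    rw [← hpq, ← Functor.map_comp, ← Functor.map_comp, Category.assoc, Category.assoc, w₀, reassoc_of% sP.w]
  obtain ⟨E, e, fstE, sE⟩ : ∃ (E : Over S) (e : E ⟶ P) (fstE : (yon S).obj E ⟶ X),
      IsPullback fstE ((yon S).map e) (pullback.diagonal q)
        (pullback.lift ((yon S).map (a₁ ≫ k₀) ≫ p) ((yon S).map (a₂ ≫ k₀) ≫ p)
          (by rw [Category.assoc, Category.assoc]; exact haq)) := ⟨_, _, _, hd.1.isPullback _⟩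
  have : IsClosedImmersion e.left := repWith_prop hd sE
  have hE : ∀ {Z : Over S} (z : Z ⟶ P), (yon S).map (z ≫ a₁ ≫ k₀) ≫ p = (yon S).map (z ≫ a₂ ≫ k₀) ≫ p →
      ∃ z' : Z ⟶ E, z' ≫ e = z := fun {Z} z hz => by
    obtain ⟨z', hz'⟩ := (yon S).map_surjective (sE.lift ((yon S).map (z ≫ a₁ ≫ k₀) ≫ p) ((yon S).map z) (by
      refine pullback.hom_ext ?_ ?_
      · simp only [Category.assoc, pullback.diagonal_fst, Category.comp_id, pullback.lift_fst,
          Functor.map_comp]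
      · simp only [Category.assoc, pullback.diagonal_snd, Category.comp_id, pullback.lift_snd]
        rw [hz]
        simp only [Functor.map_comp, Category.assoc]))
    exact ⟨z', (yon S).map_injective (by rw [Functor.map_comp, hz', sE.lift_snd])⟩
  have hEe : (yon S).map (e ≫ a₁ ≫ k₀) ≫ p = (yon S).map (e ≫ a₂ ≫ k₀) ≫ p := by
    have h₁ := sE.w =≫ pullback.fst q q
    have h₂ := sE.w =≫ pullback.snd q q
    simp only [Category.assoc, pullback.diagonal_fst, pullback.diagonal_snd, Category.comp_id,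
      pullback.lift_fst, pullback.lift_snd] at h₁ h₂
    rw [Functor.map_comp, Functor.map_comp _ e, Category.assoc, Category.assoc, ← h₁, ← h₂]
  obtain ⟨r, hr⟩ := (yon S).map_surjective (sR.lift ((yon S).map (e ≫ a₁ ≫ k₀)) ((yon S).map (e ≫ a₂ ≫ k₀)) hEe)
  have hr₁ : r ≫ p₁ = e ≫ a₁ ≫ k₀ := (yon S).map_injective (by rw [Functor.map_comp, hr, sR.lift_fst])
  have hr₂ : r ≫ p₂ = e ≫ a₂ ≫ k₀ := (yon S).map_injective (by rw [Functor.map_comp, hr, sR.lift_snd])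
  obtain ⟨Δ, hΔ⟩ := (yon S).map_surjective (sR.lift (𝟙 _) (𝟙 _) rfl)
  have hΔ₁ : Δ ≫ p₁ = 𝟙 U := (yon S).map_injective (by rw [Functor.map_comp, hΔ, sR.lift_fst, (yon S).map_id])
  have hΔ₂ : Δ ≫ p₂ = 𝟙 U := (yon S).map_injective (by rw [Functor.map_comp, hΔ, sR.lift_snd, (yon S).map_id])
  have : Etale p₁.left := repWith_prop hp sR.flip
  have hΔ₁' : Δ.left ≫ p₁.left = 𝟙 U.left := congr_arg CommaMorphism.left hΔ₁
  have : Etale (Δ.left ≫ p₁.left) := by rw [hΔ₁']; infer_instance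
  have : Etale Δ.left := Etale.of_comp Δ.left p₁.left
  have : Mono Δ.left := ⟨fun a b hab => by
    have := congr_arg (· ≫ p₁.left) hab
    simpa [Category.assoc, hΔ₁'] using this⟩
  have : IsOpenImmersion Δ.left := IsOpenImmersion.of_flat_of_mono Δ.left
  let O : E.left.Opens := r.left ⁻¹ᵁ Δ.left.opensRange
  have hmono : ∀ {Q : Scheme.{u}} (x y : Q ⟶ U₁'), x ≫ f' = y ≫ f' → x ≫ k' = y ≫ k' → x = y := by
    intro Q x y h₁ h₂
    have sq := IsPullback.of_hasPullback h.left v'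
    have := hk' _ _ sq
    rw [← cancel_mono (sq.lift k' f' w')]
    exact sq.hom_ext (by simpa using h₂) (by simpa using h₁)
  have hext : ∀ {Z : Over S} (z : Z ⟶ E), Set.range z.left ⊆ (O : Set E.left) → z ≫ e ≫ a₁ = z ≫ e ≫ a₂ := by
    intro Z z hz
    obtain ⟨l, hl⟩ : ∃ l : Z.left ⟶ U.left, l ≫ Δ.left = z.left ≫ r.left :=
      ⟨_, IsOpenImmersion.lift_fac Δ.left (z.left ≫ r.left) (by
        rintro _ ⟨x, rfl⟩
        exact hz ⟨x, rfl⟩)⟩
    have hk : (z ≫ e ≫ a₁ ≫ k₀).left = (z ≫ e ≫ a₂ ≫ k₀).left := by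
      have g₁ : (z ≫ e ≫ a₁ ≫ k₀).left = z.left ≫ r.left ≫ p₁.left := by
        rw [← hr₁]; rfl
      have g₂ : (z ≫ e ≫ a₂ ≫ k₀).left = z.left ≫ r.left ≫ p₂.left := by
        rw [← hr₂]; rfl
      have hΔ₂' : Δ.left ≫ p₂.left = 𝟙 U.left := congr_arg CommaMorphism.left hΔ₂
      rw [g₁, g₂, ← reassoc_of% hl, ← reassoc_of% hl, hΔ₁', hΔ₂']
    refine Over.OverMorphism.ext (hmono _ _ ?_ ?_)
    · exact congr_arg CommaMorphism.left
        (show (z ≫ e ≫ a₁) ≫ f₀ = (z ≫ e ≫ a₂) ≫ f₀ by simp only [Category.assoc, sP.w])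
    · simpa [k₀] using hk
  have : IsFinite a₁.left :=
    MorphismProperty.of_isPullback (sP.map (Over.forget S)).flip (show IsFinite f₀.left from hf')
  have hcl : IsClosedMap (e.left ≫ a₁.left ≫ f') := by
    have : IsFinite (e.left ≫ a₁.left ≫ f') := inferInstance
    exact (e.left ≫ a₁.left ≫ f').isClosedMap
  have hD : IsClosed ((e.left ≫ a₁.left ≫ f') '' (O : Set E.left)ᶜ) := hcl _ O.isOpen.isClosed_compl
  have ht : t ∉ (e.left ≫ a₁.left ≫ f') '' (O : Set E.left)ᶜ := by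
    rintro ⟨y, hy, hyt⟩
    apply hy
    have sP' : IsPullback a₁.left a₂.left f' f' := sP.map (Over.forget S)
    let g := sP'.isoPullback
    have hy' : (pullback.fst f' f' ≫ f') (g.hom (e.left y)) = t := by
      have : g.hom ≫ pullback.fst f' f' = a₁.left := sP'.isoPullback_hom_fst
      rw [← Scheme.Hom.comp_apply, reassoc_of% this, ← hyt, ← Scheme.Hom.comp_apply]
    obtain ⟨x, hx⟩ := hdiag _ hy'
    obtain ⟨d, hd⟩ : ∃ d : U₀ ⟶ P, d ≫ a₁ = 𝟙 _ ∧ d ≫ a₂ = 𝟙 _ :=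
      ⟨sP.lift (𝟙 _) (𝟙 _) rfl, sP.lift_fst _ _ _, sP.lift_snd _ _ _⟩
    obtain ⟨d', hd'⟩ := hE d (by rw [reassoc_of% hd.1, reassoc_of% hd.2])
    have hdg : d.left ≫ g.hom = pullback.diagonal f' := by
      refine pullback.hom_ext ?_ ?_
      · rw [Category.assoc, IsPullback.isoPullback_hom_fst, pullback.diagonal_fst]
        exact congr_arg CommaMorphism.left hd.1
      · rw [Category.assoc, IsPullback.isoPullback_hom_snd, pullback.diagonal_snd]
        exact congr_arg CommaMorphism.left hd.2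
    have hxy : d'.left x = y := by
      refine e.left.isClosedEmbedding.injective ?_
      rw [← Scheme.Hom.comp_apply, ← Over.comp_left, hd']
      refine g.hom.isOpenEmbedding.injective ?_
      rw [← Scheme.Hom.comp_apply, hdg]
      exact hx
    rw [← hxy]
    show r.left (d'.left x) ∈ Set.range Δ.left
    refine ⟨k' x, ?_⟩
    have : k₀ ≫ Δ = d' ≫ r := (yon S).map_injective (sR.hom_ext
      (by rw [← Functor.map_comp, ← Functor.map_comp, Category.assoc, Category.assoc, hΔ₁, Category.comp_id,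
        hr₁, reassoc_of% hd', reassoc_of% hd.1])
      (by rw [← Functor.map_comp, ← Functor.map_comp, Category.assoc, Category.assoc, hΔ₂, Category.comp_id,
        hr₂, reassoc_of% hd', reassoc_of% hd.2]))
    have := congr_arg (fun m : U₀ ⟶ R => m.left x) this
    simpa [k₀] using this
  obtain ⟨B, hB, htB, hBsub⟩ : ∃ B : T'.Opens, IsAffineOpen B ∧ t ∈ B ∧
      (B : Set T') ⊆ ((e.left ≫ a₁.left ≫ f') '' (O : Set E.left)ᶜ)ᶜ := by
    obtain ⟨_, ⟨B, hB, rfl⟩, htB, hBsub⟩ :=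
      T'.isBasis_affineOpens.exists_subset_of_mem_open (show t ∈ _ from ht) hD.isOpen_compl
    exact ⟨B, hB, htB, hBsub⟩
  let T : Over S := Over.mk (B.ι ≫ T₀.hom)
  let U₁ : Over S := Over.mk ((f' ⁻¹ᵁ B).ι ≫ U₀.hom)
  let jT : T ⟶ T₀ := Over.homMk B.ι
  let jU : U₁ ⟶ U₀ := Over.homMk (f' ⁻¹ᵁ B).ι
  let f : U₁ ⟶ T := Over.homMk (f' ∣_ B) (by
    show (f' ∣_ B) ≫ B.ι ≫ v' ≫ W.hom = (f' ⁻¹ᵁ B).ι ≫ f' ≫ v' ≫ W.hom
    rw [morphismRestrict_ι_assoc])
  have hjf : jU ≫ f₀ = f ≫ jT := Over.OverMorphism.ext (morphismRestrict_ι f' B).symm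
  refine ⟨T, U₁, jT ≫ v₀, f, jU ≫ k₀, congr_arg CommaMorphism.left
    (show (jU ≫ k₀) ≫ h = f ≫ jT ≫ v₀ by rw [Category.assoc, w₀, reassoc_of% hjf]), hB, ?_, ?_, ?_, ?_, ?_, ?_⟩
  · exact IsAffineOpen.preimage hB f'
  · show Etale (B.ι ≫ v'); infer_instance
  · show IsFinite (f' ∣_ B); infer_instance
  · intro Q fst snd sq
    have sq₀ := IsPullback.of_hasPullback h.left v'
    have := hk' _ _ sq₀
    let m := sq₀.lift fst (snd ≫ B.ι) (sq.w.trans (Category.assoc _ _ _).symm)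
    have sm : IsPullback m snd (pullback.snd h.left v') B.ι :=
      IsPullback.of_right (by rw [show m ≫ pullback.fst h.left v' = fst from sq₀.lift_fst _ _ _]; exact sq)
        (sq₀.lift_snd _ _ _) sq₀
    have : IsOpenImmersion m := MorphismProperty.of_isPullback sm.flip (inferInstanceAs (IsOpenImmersion B.ι))
    have hfac : sq.lift (jU ≫ k₀).left f.left (congr_arg CommaMorphism.left
        (show (jU ≫ k₀) ≫ h = f ≫ jT ≫ v₀ by rw [Category.assoc, w₀, reassoc_of% hjf])) ≫ m =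
        (f' ⁻¹ᵁ B).ι ≫ sq₀.lift k' f' w' := by
      refine sq₀.hom_ext ?_ ?_
      · simp only [Category.assoc, m, IsPullback.lift_fst]; rfl
      · simp only [Category.assoc, m, IsPullback.lift_snd, IsPullback.lift_snd_assoc]
        exact morphismRestrict_ι f' B
    have : IsOpenImmersion (sq.lift (jU ≫ k₀).left f.left (congr_arg CommaMorphism.left
        (show (jU ≫ k₀) ≫ h = f ≫ jT ≫ v₀ by rw [Category.assoc, w₀, reassoc_of% hjf])) ≫ m) := by
      rw [hfac]; infer_instance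
    exact IsOpenImmersion.of_comp _ m
  · refine ⟨⟨z₀, by show f' z₀ ∈ B; rw [hz₀t]; exact htB⟩, hz₀u, fun Ω _ a b x hab hx => ?_⟩
    change Spec (CommRingCat.of Ω) ⟶ ↑(f' ⁻¹ᵁ B) at a b
    change a ≫ (f' ∣_ B) = b ≫ (f' ∣_ B) at hab
    rw [← cancel_mono (f' ⁻¹ᵁ B).ι]
    have hab' : (a ≫ (f' ⁻¹ᵁ B).ι) ≫ f' = (b ≫ (f' ⁻¹ᵁ B).ι) ≫ f' := by
      rw [Category.assoc, Category.assoc, ← morphismRestrict_ι, reassoc_of% hab]
    let l := pullback.lift (a ≫ (f' ⁻¹ᵁ B).ι) (b ≫ (f' ⁻¹ᵁ B).ι) hab'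
    have hl : ∀ x', (pullback.fst f' f' ≫ f') (l x') = t := fun x' => by
      rw [show x' = x from Subsingleton.elim (α := PrimeSpectrum Ω) x' x, ← Scheme.Hom.comp_apply,
        pullback.lift_fst_assoc, ← hz₀t]
      have h' := congr_arg B.ι hx
      rw [← Scheme.Hom.comp_apply, ← Scheme.Hom.comp_apply, ← Scheme.Hom.comp_apply] at h'
      change (a ≫ (f' ∣_ B) ≫ B.ι) x = ((f' ∣_ B) ≫ B.ι) ⟨z₀, _⟩ at h'
      rw [morphismRestrict_ι] at h'
      exact h'
    obtain ⟨c, hc⟩ : ∃ c, c ≫ pullback.diagonal f' = l := by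
      have : Surjective (pullback.snd (pullback.diagonal f') l) := ⟨fun x' => by
        obtain ⟨y, hy⟩ := hdiag _ (hl x')
        obtain ⟨w, -, hw⟩ := Scheme.Pullback.exists_preimage_pullback y x' hy
        exact ⟨w, hw⟩⟩
      have := isIso_of_isClosedImmersion_of_surjective (pullback.snd (pullback.diagonal f') l)
      exact ⟨inv (pullback.snd (pullback.diagonal f') l) ≫ pullback.fst _ _, by
        rw [Category.assoc, pullback.condition, IsIso.inv_hom_id_assoc]⟩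
    have h₁ := hc =≫ pullback.fst f' f'
    have h₂ := hc =≫ pullback.snd f' f'
    simp only [Category.assoc, pullback.diagonal_fst, pullback.diagonal_snd, Category.comp_id, l,
      pullback.lift_fst, pullback.lift_snd] at h₁ h₂
    exact h₁.symm.trans h₂
  · intro Z a b hab hp'
    obtain ⟨z, hz₁, hz₂⟩ := sP.exists_lift (a ≫ jU) (b ≫ jU)
      (by rw [Category.assoc, Category.assoc, hjf, reassoc_of% hab])
    obtain ⟨z', hz'⟩ := hE z (by
      rw [reassoc_of% hz₁, reassoc_of% hz₂]; exact hp')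
    have hmem : Set.range z'.left ⊆ (O : Set E.left) := by
      rintro _ ⟨x, rfl⟩
      by_contra hx
      refine hBsub ?_ ⟨_, hx, rfl⟩
      show (z'.left ≫ e.left ≫ a₁.left ≫ f') x ∈ B
      rw [← Category.assoc, ← Over.comp_left, hz', ← Category.assoc, ← Over.comp_left, hz₁, Over.comp_left,
        Category.assoc]
      exact (a.left x).2
    have := hext z' hmem
    rw [reassoc_of% hz', reassoc_of% hz', hz₁, hz₂] at this
    have : (a.left ≫ (f' ⁻¹ᵁ B).ι) = b.left ≫ (f' ⁻¹ᵁ B).ι := congr_arg CommaMorphism.left this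
    exact Over.OverMorphism.ext ((cancel_mono _).1 this)

theorem exists_piece_sp [IsAffine U.left] [IsAffine W.left] (q : X ⟶ (yon S).obj W)
    (hd : RepWith @IsClosedImmersion (pullback.diagonal q)) (p : (yon S).obj U ⟶ X) (hp : RepWith @Etale p)
    {p₁ p₂ : R ⟶ U} (sR : IsPullback ((yon S).map p₁) ((yon S).map p₂) p p)
    (h : U ⟶ W) (hpq : (yon S).map h = p ≫ q) [LocallyQuasiFinite h.left] [LocallyOfFiniteType h.left]
    (u : U.left) :
    ∃ (T U₁ : Over S) (v : T ⟶ W) (f : U₁ ⟶ T) (k : U₁ ⟶ U) (w : k.left ≫ h.left = f.left ≫ v.left),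
      IsAffine T.left ∧ IsAffine U₁.left ∧ Etale v.left ∧ IsFinite f.left ∧
      (∀ {Q : Scheme.{u}} (fst : Q ⟶ U.left) (snd : Q ⟶ T.left) (sq : IsPullback fst snd h.left v.left),
        IsOpenImmersion (sq.lift k.left f.left w)) ∧
      (∃ z : U₁.left, k.left z = u) ∧
      ∀ {Z : Over S} (a b : Z ⟶ U₁), a ≫ f = b ≫ f →
        (yon S).map (a ≫ k) ≫ p = (yon S).map (b ≫ k) ≫ p → a = b := by
  obtain ⟨T, U₁, v, f, k, w, h₁, h₂, h₃, h₄, h₅, ⟨z, hz, -⟩, h₆⟩ := exists_piece_sp' q hd p hp sR h hpq u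
  exact ⟨T, U₁, v, f, k, w, h₁, h₂, h₃, h₄, h₅, ⟨z, hz⟩, h₆⟩

end Groth.L23.Lqf
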