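import Groth.Agent.L23.LqfRing
import Groth.Agent.L23.LqfSpacePiece
import Groth.Agent.L23.Epi
import Groth.Agent.L23.UHPush

/-!
# Open charts of a separated quasi-finite space from a finite piece
-/

universe u

open CategoryTheory CategoryTheory.Limits AlgebraicGeometry Opposite AlgSp TopologicalSpace TensorProduct

set_option backward.isDefEq.respectTransparency.types false
set_option linter.style.haveILetI false

namespace Groth.L23.Lqf

variable {S : Scheme.{u}}

/-- An affine scheme over `S`. -/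
noncomputable abbrev spO (A : CommRingCat.{u}) (σ : Spec A ⟶ S) : Over S := Over.mk σ

/-- The spectrum of an affine object over `A`. -/
noncomputable abbrev spA {A B : CommRingCat.{u}} (σ : Spec A ⟶ S) (φ : A ⟶ B) : Over S := spO B (Spec.map φ ≫ σ)

/-- The structure map. -/
noncomputable abbrev spHom {A B : CommRingCat.{u}} (σ : Spec A ⟶ S) (φ : A ⟶ B) : spA σ φ ⟶ spO A σ :=
  Over.homMk (Spec.map φ)

/-- A morphism of affine objects over `A`. -/
noncomputable abbrev spMap {A B C : CommRingCat.{u}} (σ : Spec A ⟶ S) {φ : A ⟶ B} {χ : A ⟶ C} (ρ : B ⟶ C) (h : φ ≫ ρ = χ) :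
    spA σ χ ⟶ spA σ φ :=
  Over.homMk (Spec.map ρ) (show Spec.map ρ ≫ Spec.map φ ≫ σ = Spec.map χ ≫ σ by rw [← Spec.map_comp_assoc, h])

lemma idem_eq_of_basicOpen {R : Type u} [CommRing R] {e e' : R} (he : IsIdempotentElem e)
    (he' : IsIdempotentElem e') (h : PrimeSpectrum.basicOpen e = PrimeSpectrum.basicOpen e') : e = e' :=
  PrimeSpectrum.basicOpen_injOn_isIdempotentElem he he' h

lemma range_specLoc {R : Type u} [CommRing R] (L : Type u) [CommRing L] [Algebra R L] (r : R)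
    [IsLocalization.Away r L] :
    Set.range (Spec.map (CommRingCat.ofHom (algebraMap R L))) =
      (PrimeSpectrum.basicOpen r : Set (PrimeSpectrum R)) :=
  PrimeSpectrum.localization_away_comap_range L r

/-- A square with an identity is cartesian if this holds on points with values in schemes. -/
lemma isPullback_id_yon {P C : Over S} {A : Sp S} (fst : (yon S).obj P ⟶ A) (f : A ⟶ (yon S).obj C) (g : P ⟶ C)
    (w : fst ≫ f = (yon S).map g)
    (h : ∀ (Z : Over S) (x : (yon S).obj Z ⟶ A) (c : Z ⟶ P), x ≫ f = (yon S).map c ≫ (yon S).map g →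
      x = (yon S).map c ≫ fst) : IsPullback fst (𝟙 _) f ((yon S).map g) :=
  UHPush.isPullback_of_yon (by rw [w, Category.id_comp]) (fun Z k k' _ h₂ => by simpa using h₂) fun Z x y hxy => by
    obtain ⟨c, rfl⟩ := (yon S).map_surjective y
    exact ⟨(yon S).map c, (h Z x c hxy).symm, Category.comp_id _⟩

set_option maxHeartbeats 1600000 in
/-- The chart of one piece. -/
theorem exists_chart_open {X : Sp S} {A C D A' C₁ : CommRingCat.{u}} (σ : Spec A ⟶ S) (φ : A ⟶ C)
    (π₁ π₂ : C ⟶ D) (hπ : φ ≫ π₁ = φ ≫ π₂) (q : X ⟶ (yon S).obj (spO A σ))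
    (hd : RepWith @IsClosedImmersion (pullback.diagonal q))
    (p : (yon S).obj (spA σ φ) ⟶ X) (hp : RepWith @Etale p) (hps : RepWith @Surjective p)
    (hpq : (yon S).map (spHom σ φ) = p ≫ q)
    (sR : IsPullback ((yon S).map (spMap σ (χ := φ ≫ π₁) π₁ rfl))
      ((yon S).map (spMap σ (χ := φ ≫ π₁) π₂ hπ.symm)) p p)
    (χ : A ⟶ A') [Etale (Spec.map χ)] (f : A' ⟶ C₁) [IsFinite (Spec.map f)] (k : C ⟶ C₁) (w : φ ≫ k = χ ≫ f)
    (hopen : ∀ {Q : Scheme.{u}} (fst : Q ⟶ Spec C) (snd : Q ⟶ Spec A')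
      (sq : IsPullback fst snd (Spec.map φ) (Spec.map χ)),
      IsOpenImmersion (sq.lift (Spec.map k) (Spec.map f) (by rw [← Spec.map_comp, ← Spec.map_comp, w])))
    (hmono : ∀ {Z : Over S} (a b : Z ⟶ spA σ (χ ≫ f)),
      a ≫ spMap σ f rfl = b ≫ spMap σ f rfl →
      (yon S).map (a ≫ spMap σ k w) ≫ p = (yon S).map (b ≫ spMap σ k w) ≫ p → a = b)
    (B : CommRingCat.{u}) (β : A ⟶ B) (val : B ⟶ C) (hval : β ≫ val = φ)
    (hB : letI := φ.hom.toAlgebra; letI := (φ ≫ π₁).hom.toAlgebra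
      ∃ (e : B ≃+* (eqInt (A := (A : Type u)) (C := (C : Type u))
        ({ π₁.hom with commutes' := fun _ => rfl } : (C : Type u) →ₐ[(A : Type u)] (D : Type u))
        ({ π₂.hom with commutes' := fun a => (congr($(hπ).hom a)).symm } : (C : Type u) →ₐ[(A : Type u)] (D : Type u)))),
        ∀ b, (e b : C) = val.hom b)
    (j : X ⟶ (yon S).obj (spA σ β)) (hj : p ≫ j = (yon S).map (spMap σ val hval)) :
    ∃ (O : Over S) (ι : O ⟶ spA σ β) (_ : IsOpenImmersion ι.left) (a : (yon S).obj O ⟶ X),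
      IsPullback a (𝟙 _) j ((yon S).map ι) ∧ Set.range (Spec.map (val ≫ k)) ⊆ Set.range ι.left := by
  letI := φ.hom.toAlgebra
  letI : Algebra (A : Type u) (D : Type u) := (φ ≫ π₁).hom.toAlgebra
  letI : Algebra (A : Type u) (A' : Type u) := χ.hom.toAlgebra
  letI : Algebra (A' : Type u) (C₁ : Type u) := f.hom.toAlgebra
  letI : Algebra (A : Type u) (C₁ : Type u) := (χ ≫ f).hom.toAlgebra
  haveI : IsScalarTower (A : Type u) (A' : Type u) (C₁ : Type u) := IsScalarTower.of_algebraMap_eq' rfl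
  haveI : Algebra.Etale (A : Type u) (A' : Type u) :=
    RingHom.etale_algebraMap.1 ((HasRingHomProperty.Spec_iff (P := @Etale)).1 (inferInstanceAs (Etale (Spec.map χ))))
  let pA : (C : Type u) →ₐ[(A : Type u)] (D : Type u) := { π₁.hom with commutes' := fun _ => rfl }
  let qA : (C : Type u) →ₐ[(A : Type u)] (D : Type u) :=
    { π₂.hom with commutes' := fun a => (congr($(hπ).hom a)).symm }
  obtain ⟨eB, heB⟩ := hB
  letI : Algebra (A : Type u) (B : Type u) := β.hom.toAlgebra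
  let valA : (B : Type u) →ₐ[(A : Type u)] (C : Type u) :=
    { val.hom with commutes' := fun a => congr($(hval).hom a) }
  let C' := CommRingCat.of ((A' : Type u) ⊗[(A : Type u)] (C : Type u))
  let D' := CommRingCat.of ((A' : Type u) ⊗[(A : Type u)] (D : Type u))
  let B' := CommRingCat.of ((A' : Type u) ⊗[(A : Type u)] (B : Type u))
  let lC : A' ⟶ C' := CommRingCat.ofHom Algebra.TensorProduct.includeLeftRingHom
  let rC : C ⟶ C' := CommRingCat.ofHom Algebra.TensorProduct.includeRight.toRingHom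
  let lD : A' ⟶ D' := CommRingCat.ofHom Algebra.TensorProduct.includeLeftRingHom
  let rD : D ⟶ D' := CommRingCat.ofHom Algebra.TensorProduct.includeRight.toRingHom
  let lB : A' ⟶ B' := CommRingCat.ofHom Algebra.TensorProduct.includeLeftRingHom
  let rB : B ⟶ B' := CommRingCat.ofHom Algebra.TensorProduct.includeRight.toRingHom
  have pC : IsPushout χ φ lC rC := CommRingCat.isPushout_tensorProduct A A' C
  have pD : IsPushout χ (φ ≫ π₁) lD rD := CommRingCat.isPushout_tensorProduct A A' D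
  have pB : IsPushout χ β lB rB := CommRingCat.isPushout_tensorProduct A A' B
  let P₀ : C' ⟶ D' := CommRingCat.ofHom (Algebra.TensorProduct.map (AlgHom.id (A' : Type u) (A' : Type u)) pA).toRingHom
  let Q₀ : C' ⟶ D' := CommRingCat.ofHom (Algebra.TensorProduct.map (AlgHom.id (A' : Type u) (A' : Type u)) qA).toRingHom
  let V : B' ⟶ C' := CommRingCat.ofHom (Algebra.TensorProduct.map (AlgHom.id (A' : Type u) (A' : Type u)) valA).toRingHom
  have hlP : lC ≫ P₀ = lD := by ext a; exact congrArg (a ⊗ₜ ·) (map_one pA)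
  have hlQ : lC ≫ Q₀ = lD := by ext a; exact congrArg (a ⊗ₜ ·) (map_one qA)
  have hrP : rC ≫ P₀ = π₁ ≫ rD := by ext c; rfl
  have hrQ : rC ≫ Q₀ = π₂ ≫ rD := by ext c; rfl
  have hlV : lB ≫ V = lC := by ext a; exact congrArg (a ⊗ₜ ·) (map_one valA)
  have hrV : rB ≫ V = val ≫ rC := by ext c; rfl
  have hvv : val ≫ π₁ = val ≫ π₂ := by
    ext b
    exact (congr_arg π₁.hom (heB b).symm).trans ((eB b).2.2.trans (congr_arg π₂.hom (heB b)))
  have hVPQ : V ≫ P₀ = V ≫ Q₀ := by
    refine pB.hom_ext ?_ ?_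
    · rw [reassoc_of% hlV, reassoc_of% hlV, hlP, hlQ]
    · rw [reassoc_of% hrV, reassoc_of% hrV, hrP, hrQ, reassoc_of% hvv]
  -- the objects over `S`
  let T := spA σ χ
  let U := spA σ φ
  let R := spA σ (φ ≫ π₁)
  let U₁ := spA σ (χ ≫ f)
  let QU := spA σ (χ ≫ lC)
  let QR := spA σ (χ ≫ lD)
  let fU : U₁ ⟶ T := spMap σ f rfl
  let kU : U₁ ⟶ U := spMap σ k w
  let p₁ : R ⟶ U := spMap σ π₁ rfl
  let p₂ : R ⟶ U := spMap σ π₂ hπ.symm
  let uF : QU ⟶ U := spMap σ rC pC.w.symm
  let tF : QU ⟶ T := spMap σ lC rfl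
  let rF : QR ⟶ R := spMap σ rD pD.w.symm
  let tR : QR ⟶ T := spMap σ lD rfl
  let PQ : QR ⟶ QU := spMap σ P₀ (by rw [Category.assoc, hlP])
  let QQ : QR ⟶ QU := spMap σ Q₀ (by rw [Category.assoc, hlQ])
  have sU : IsPullback uF tF (spHom σ φ) (spHom σ χ) :=
    IsPullback.of_map_of_faithful (Over.forget S) (isPullback_SpecMap_of_isPushout _ _ _ _ pC).flip
  have sD : IsPullback rF tR (spHom σ (φ ≫ π₁)) (spHom σ χ) :=
    IsPullback.of_map_of_faithful (Over.forget S) (isPullback_SpecMap_of_isPushout _ _ _ _ pD).flip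
  have hP₁ : PQ ≫ uF = rF ≫ p₁ := by
    ext1; show Spec.map P₀ ≫ Spec.map rC = Spec.map rD ≫ Spec.map π₁
    rw [← Spec.map_comp, ← Spec.map_comp, hrP]
  have hQ₁ : QQ ≫ uF = rF ≫ p₂ := by
    ext1; show Spec.map Q₀ ≫ Spec.map rC = Spec.map rD ≫ Spec.map π₂
    rw [← Spec.map_comp, ← Spec.map_comp, hrQ]
  have hPt : PQ ≫ tF = tR := by
    ext1; show Spec.map P₀ ≫ Spec.map lC = Spec.map lD
    rw [← Spec.map_comp, hlP]
  have hQt : QQ ≫ tF = tR := by
    ext1; show Spec.map Q₀ ≫ Spec.map lC = Spec.map lD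
    rw [← Spec.map_comp, hlQ]
  have hkh : kU ≫ spHom σ φ = fU ≫ spHom σ χ := by
    ext1; show Spec.map k ≫ Spec.map φ = Spec.map f ≫ Spec.map χ
    rw [← Spec.map_comp, ← Spec.map_comp, w]
  have : Etale p₁.left := repWith_prop hp sR.flip
  have : Etale p₂.left := repWith_prop hp sR
  have : Etale uF.left :=
    MorphismProperty.of_isPullback (sU.map (Over.forget S)).flip (inferInstanceAs (Etale (Spec.map χ)))
  -- the piece
  obtain ⟨ψ, hψl, hψr⟩ : ∃ ψ : C' ⟶ C₁, lC ≫ ψ = f ∧ rC ≫ ψ = k :=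
    ⟨pC.desc f k w.symm, pC.inl_desc _ _ _, pC.inr_desc _ _ _⟩
  let i : U₁ ⟶ QU := spMap σ ψ (by rw [Category.assoc, hψl])
  have hiu : i ≫ uF = kU := by
    ext1; show Spec.map ψ ≫ Spec.map rC = Spec.map k
    rw [← Spec.map_comp, hψr]
  have hit : i ≫ tF = fU := by
    ext1; show Spec.map ψ ≫ Spec.map lC = Spec.map f
    rw [← Spec.map_comp, hψl]
  have : IsOpenImmersion i.left := by
    have := hopen _ _ (sU.map (Over.forget S))
    have hw : Spec.map k ≫ Spec.map φ = Spec.map f ≫ Spec.map χ := by rw [← Spec.map_comp, ← Spec.map_comp, w]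
    have e : (sU.map (Over.forget S)).lift (Spec.map k) (Spec.map f) hw = i.left :=
      (sU.map (Over.forget S)).hom_ext
        (((sU.map (Over.forget S)).lift_fst _ _ _).trans (congr_arg CommaMorphism.left hiu).symm)
        (((sU.map (Over.forget S)).lift_snd _ _ _).trans (congr_arg CommaMorphism.left hit).symm)
    exact e ▸ this
  obtain ⟨N, n₁, n₂, sN⟩ : ∃ (N : Over S) (n₁ : N ⟶ QU) (n₂ : N ⟶ U₁), IsPullback n₁ n₂ tF fU :=
    ⟨_, _, _, IsPullback.of_hasPullback tF fU⟩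
  have : IsFinite n₁.left :=
    MorphismProperty.of_isPullback (sN.map (Over.forget S)).flip (inferInstanceAs (IsFinite (Spec.map f)))
  have hNq : (yon S).map (n₁ ≫ uF) ≫ p ≫ q = (yon S).map (n₂ ≫ kU) ≫ p ≫ q := by
    rw [← hpq, ← Functor.map_comp, ← Functor.map_comp, Category.assoc, Category.assoc, hkh, sU.w,
      reassoc_of% sN.w]
  obtain ⟨E, eE, fstE, sE⟩ : ∃ (E : Over S) (eE : E ⟶ N) (fstE : (yon S).obj E ⟶ X),
      IsPullback fstE ((yon S).map eE) (pullback.diagonal q)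
        (pullback.lift ((yon S).map (n₁ ≫ uF) ≫ p) ((yon S).map (n₂ ≫ kU) ≫ p)
          (by rw [Category.assoc, Category.assoc]; exact hNq)) := ⟨_, _, _, hd.1.isPullback _⟩
  have : IsClosedImmersion eE.left := repWith_prop hd sE
  obtain ⟨π, hπdef⟩ : ∃ π : E ⟶ QU, π = eE ≫ n₁ := ⟨_, rfl⟩
  obtain ⟨a, hadef⟩ : ∃ a : E ⟶ U₁, a = eE ≫ n₂ := ⟨_, rfl⟩
  have hπa : π ≫ tF = a ≫ fU := by simp only [hπdef, hadef, Category.assoc, sN.w]
  have hEe : (yon S).map (π ≫ uF) ≫ p = (yon S).map (a ≫ kU) ≫ p := by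
    have h₁ := sE.w =≫ pullback.fst q q
    have h₂ := sE.w =≫ pullback.snd q q
    simp only [Category.assoc, pullback.diagonal_fst, pullback.diagonal_snd, Category.comp_id,
      pullback.lift_fst, pullback.lift_snd] at h₁ h₂
    simp only [hπdef, hadef, Category.assoc]
    rw [Functor.map_comp, Functor.map_comp _ eE, Category.assoc, Category.assoc, ← h₁, ← h₂]
  have hP : ∀ {Z : Over S} (x : Z ⟶ QU) (a' : Z ⟶ U₁), x ≫ tF = a' ≫ fU →
      (yon S).map (x ≫ uF) ≫ p = (yon S).map (a' ≫ kU) ≫ p → ∃ m : Z ⟶ E, m ≫ π = x ∧ m ≫ a = a' := by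
    intro Z x a' h₁ h₂
    obtain ⟨n, hn₁, hn₂⟩ := sN.exists_lift x a' h₁
    obtain ⟨m, hm⟩ := (yon S).map_surjective (sE.lift ((yon S).map (x ≫ uF) ≫ p) ((yon S).map n) (by
      refine pullback.hom_ext ?_ ?_
      · simp only [Category.assoc, pullback.diagonal_fst, Category.comp_id, pullback.lift_fst]
        rw [← Functor.map_comp_assoc, reassoc_of% hn₁]
      · simp only [Category.assoc, pullback.diagonal_snd, Category.comp_id, pullback.lift_snd]
        rw [h₂, ← Functor.map_comp_assoc, reassoc_of% hn₂]))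
    have hme : m ≫ eE = n := (yon S).map_injective (by rw [Functor.map_comp, hm, sE.lift_snd])
    exact ⟨m, by rw [hπdef, reassoc_of% hme, hn₁], by rw [hadef, reassoc_of% hme, hn₂]⟩
  have : Mono eE := (Over.forget S).mono_of_mono_map (inferInstanceAs (Mono eE.left))
  have hmonoπ : Mono π := ⟨fun {Z} m m' h => by
    have ha : m ≫ a = m' ≫ a := hmono _ _
      (by
        show (m ≫ a) ≫ fU = (m' ≫ a) ≫ fU
        rw [Category.assoc, Category.assoc, ← hπa, reassoc_of% h])
      (by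
        show (yon S).map ((m ≫ a) ≫ kU) ≫ p = (yon S).map ((m' ≫ a) ≫ kU) ≫ p
        simp only [Functor.map_comp, Category.assoc] at hEe ⊢
        rw [← hEe, ← Category.assoc, ← Functor.map_comp, h, Functor.map_comp, Category.assoc])
    rw [← cancel_mono eE]
    exact sN.hom_ext (by simpa [hπdef] using h) (by simpa [hadef] using ha)⟩
  obtain ⟨s, hs⟩ := (yon S).map_surjective (sR.lift ((yon S).map (π ≫ uF)) ((yon S).map (a ≫ kU)) hEe)
  have hs₁ : s ≫ p₁ = π ≫ uF := (yon S).map_injective (by rw [Functor.map_comp, hs]; exact sR.lift_fst _ _ _)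
  have hs₂ : s ≫ p₂ = a ≫ kU := (yon S).map_injective (by rw [Functor.map_comp, hs]; exact sR.lift_snd _ _ _)
  have hRq : p₂ ≫ spHom σ φ = spHom σ (φ ≫ π₁) := by
    ext1; show Spec.map π₂ ≫ Spec.map φ = Spec.map (φ ≫ π₁)
    rw [← Spec.map_comp, hπ]
  have hRq₁ : p₁ ≫ spHom σ φ = spHom σ (φ ≫ π₁) := by
    ext1; show Spec.map π₁ ≫ Spec.map φ = Spec.map (φ ≫ π₁)
    rw [← Spec.map_comp]
  have hRX : (yon S).map p₁ ≫ p = (yon S).map p₂ ≫ p := sR.w
  have sEU : IsPullback s a p₂ kU := by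
    refine IsPullback.mk' hs₂ (fun Z m m' h₁ h₂ => (cancel_mono π).1 ?_) fun Z r a' h => ?_
    · refine sU.hom_ext ?_ ?_
      · rw [Category.assoc, Category.assoc, ← hs₁, reassoc_of% h₁]
      · rw [Category.assoc, Category.assoc, hπa, reassoc_of% h₂]
    · obtain ⟨x, hx₁, hx₂⟩ := sU.exists_lift (r ≫ p₁) (a' ≫ fU) (by
        rw [Category.assoc, Category.assoc, hRq₁, ← hRq, reassoc_of% h, hkh])
      obtain ⟨m, hm₁, hm₂⟩ := hP x a' hx₂ (by
        rw [hx₁, ← h, Functor.map_comp_assoc, Functor.map_comp_assoc, hRX])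
      refine ⟨m, (yon S).map_injective (sR.hom_ext ?_ ?_), hm₂⟩
      · show (yon S).map (m ≫ s) ≫ (yon S).map p₁ = (yon S).map r ≫ (yon S).map p₁
        rw [← Functor.map_comp, ← Functor.map_comp, Category.assoc, hs₁, reassoc_of% hm₁, hx₁]
      · show (yon S).map (m ≫ s) ≫ (yon S).map p₂ = (yon S).map r ≫ (yon S).map p₂
        rw [← Functor.map_comp, ← Functor.map_comp, Category.assoc, hs₂, reassoc_of% hm₂, h]
  have : Etale π.left := by
    have : Etale kU.left := by rw [← hiu, Over.comp_left]; infer_instance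
    have : Etale s.left := MorphismProperty.of_isPullback (sEU.map (Over.forget S)).flip ‹Etale kU.left›
    have : Etale (π.left ≫ uF.left) := by rw [← Over.comp_left, ← hs₁, Over.comp_left]; infer_instance
    exact Etale.of_comp π.left uF.left
  have : Mono π.left := (Over.forget S).map_mono π
  have : IsOpenImmersion π.left := IsOpenImmersion.of_flat_of_mono π.left
  have hcl : IsClopen (Set.range π.left) := by
    refine ⟨?_, π.left.isOpenEmbedding.isOpen_range⟩
    have : IsFinite (eE.left ≫ n₁.left) := inferInstance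
    rw [hπdef]
    exact (eE.left ≫ n₁.left).isClosedMap.isClosed_range
  obtain ⟨e₀, e₀', he₀, he₀', hrange⟩ := PrimeSpectrum.isClopen_iff_mul_add.1 hcl
  have heI : IsIdempotentElem e₀ := (IsIdempotentElem.of_mul_add he₀ he₀').1
  have hfac : ∀ {Z : Over S} (x : Z ⟶ QU), (∀ z, x.left z ∈ Set.range π.left) → ∃ m : Z ⟶ E, m ≫ π = x := by
    intro Z x hx
    refine ⟨Over.homMk (IsOpenImmersion.lift π.left x.left (by rintro _ ⟨z, rfl⟩; exact hx z)) ?_, ?_⟩
    · show _ ≫ E.hom = _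
      rw [← Over.w π, IsOpenImmersion.lift_fac_assoc, Over.w x]
    · ext1; exact IsOpenImmersion.lift_fac _ _ _
  have hflip : ∀ {Z : Over S} (x y : Z ⟶ QU), x ≫ tF = y ≫ tF →
      (yon S).map (x ≫ uF) ≫ p = (yon S).map (y ≫ uF) ≫ p → ∀ m : Z ⟶ E, m ≫ π = x →
      ∃ m' : Z ⟶ E, m' ≫ π = y ∧ m' ≫ a = m ≫ a := by
    intro Z x y h₁ h₂ m hm
    refine hP y (m ≫ a) (by rw [← h₁, ← hm, Category.assoc, Category.assoc, hπa]) ?_
    rw [← h₂, ← hm]
    simp only [Functor.map_comp, Category.assoc] at hEe ⊢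
    rw [hEe]
  have hPQX : ∀ {Z : Over S} (x : Z ⟶ QR),
      (yon S).map ((x ≫ PQ) ≫ uF) ≫ p = (yon S).map ((x ≫ QQ) ≫ uF) ≫ p := fun x => by
    rw [Category.assoc, Category.assoc, hP₁, hQ₁]
    simp only [Functor.map_comp, Category.assoc, hRX]
  -- the two preimages agree
  have heq : P₀.hom e₀ = Q₀.hom e₀ := by
    refine idem_eq_of_basicOpen (heI.map P₀.hom) (heI.map Q₀.hom) (TopologicalSpace.Opens.ext ?_)
    rw [← PrimeSpectrum.comap_basicOpen, ← PrimeSpectrum.comap_basicOpen]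
    show PQ.left ⁻¹' (PrimeSpectrum.basicOpen e₀ : Set (PrimeSpectrum C')) =
      QQ.left ⁻¹' (PrimeSpectrum.basicOpen e₀ : Set (PrimeSpectrum C'))
    rw [← hrange]
    have key : ∀ (F G : QR ⟶ QU), F ≫ tF = G ≫ tF →
        (∀ {Z : Over S} (x : Z ⟶ QR), (yon S).map ((x ≫ F) ≫ uF) ≫ p = (yon S).map ((x ≫ G) ≫ uF) ≫ p) →
        F.left ⁻¹' Set.range π.left ⊆ G.left ⁻¹' Set.range π.left := by
      intro F G h₁ h₂ z hz
      let O₁ : Over S := Over.mk ((F.left ⁻¹ᵁ π.left.opensRange).ι ≫ QR.hom)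
      let o : O₁ ⟶ QR := Over.homMk (F.left ⁻¹ᵁ π.left.opensRange).ι
      obtain ⟨m, hm⟩ := hfac (o ≫ F) (fun y => y.2)
      obtain ⟨m', hm', -⟩ := hflip (o ≫ F) (o ≫ G) (by rw [Category.assoc, Category.assoc, h₁]) (h₂ o) m hm
      refine ⟨m'.left ⟨z, hz⟩, ?_⟩
      have := congr_arg (fun g : O₁ ⟶ QU => g.left ⟨z, hz⟩) hm'
      exact this
    exact Set.Subset.antisymm (key _ _ (hPt.trans hQt.symm) hPQX)
      (key _ _ (hQt.trans hPt.symm) fun x => (hPQX x).symm)
  let L := CommRingCat.of (Localization.Away e₀)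
  let lmap : C' ⟶ L := CommRingCat.ofHom (algebraMap _ _)
  let EL := spA σ (χ ≫ lC ≫ lmap)
  let lL : EL ⟶ QU := spMap σ lmap (Category.assoc _ _ _)
  have hlLr : Set.range lL.left = Set.range π.left := by
    rw [hrange]; exact range_specLoc (Localization.Away e₀) e₀
  obtain ⟨πr, hπr⟩ := hfac lL (fun z => hlLr.le ⟨z, rfl⟩)
  let α : C₁ ⟶ L := Spec.preimage (πr ≫ a).left
  have hα : Spec.map α = (πr ≫ a).left := Spec.map_preimage _
  have hαA : f ≫ α = lC ≫ lmap := Spec.map_injective (by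
    rw [Spec.map_comp, Spec.map_comp, hα]
    have := congr_arg CommaMorphism.left (show (πr ≫ a) ≫ fU = lL ≫ tF by
      rw [Category.assoc, ← hπa, reassoc_of% hπr])
    exact this)
  obtain ⟨sr, hsr₁, hsr₂⟩ := sD.exists_lift (πr ≫ s) (πr ≫ a ≫ fU) (by
    rw [← hRq₁]
    simp only [Category.assoc]
    rw [reassoc_of% hs₁, sU.w, reassoc_of% hπa])
  have hsrP : sr ≫ PQ = lL := sU.hom_ext
    (by rw [Category.assoc, hP₁, reassoc_of% hsr₁, hs₁, reassoc_of% hπr])
    (by rw [Category.assoc, hPt, hsr₂, ← hπa, reassoc_of% hπr])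
  have hsrQ : sr ≫ QQ = (πr ≫ a) ≫ i := sU.hom_ext
    (by rw [Category.assoc, hQ₁, reassoc_of% hsr₁, hs₂]; simp only [Category.assoc, hiu])
    (by rw [Category.assoc, hQt, hsr₂]; simp only [Category.assoc, hit])
  let σD : D' ⟶ L := Spec.preimage sr.left
  have hσD : Spec.map σD = sr.left := Spec.map_preimage _
  have hσP : P₀ ≫ σD = lmap := Spec.map_injective (by
    rw [Spec.map_comp, hσD]; exact congr_arg CommaMorphism.left hsrP)
  have hσQ : Q₀ ≫ σD = ψ ≫ α := Spec.map_injective (by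
    rw [Spec.map_comp, Spec.map_comp, hσD, hα]; exact congr_arg CommaMorphism.left hsrQ)
  let L' := CommRingCat.of (Localization.Away (P₀.hom e₀))
  let lmap' : D' ⟶ L' := CommRingCat.ofHom (algebraMap _ _)
  let EL' := spA σ (χ ≫ lD ≫ lmap')
  let o' : EL' ⟶ QR := spMap σ lmap' (Category.assoc _ _ _)
  have hin : ∀ z, (o' ≫ PQ).left z ∈ Set.range π.left := fun z => by
    rw [hrange]
    show PQ.left (o'.left z) ∈ (PrimeSpectrum.basicOpen e₀ : Set (PrimeSpectrum C'))
    have : o'.left z ∈ (PrimeSpectrum.basicOpen (P₀.hom e₀) : Set (PrimeSpectrum D')) := by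
      rw [← range_specLoc (Localization.Away (P₀.hom e₀)) (P₀.hom e₀)]; exact ⟨z, rfl⟩
    exact this
  obtain ⟨m₁, hm₁⟩ := hfac (o' ≫ PQ) hin
  obtain ⟨m₂, hm₂, hm₂a⟩ := hflip (o' ≫ PQ) (o' ≫ QQ)
    (by rw [Category.assoc, Category.assoc, hPt, hQt]) (hPQX o') m₁ hm₁
  have hEL : ∀ {Z : Over S} (m : Z ⟶ E), ∃ l : Z ⟶ EL, l ≫ πr = m := fun {Z} m => by
    have hr : Set.range (m ≫ π).left ⊆ Set.range lL.left := by
      rw [hlLr]; rintro _ ⟨z, rfl⟩; exact ⟨m.left z, rfl⟩
    have : IsOpenImmersion lL.left := IsOpenImmersion.of_isLocalization (S := Localization.Away e₀) e₀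
    refine ⟨Over.homMk (IsOpenImmersion.lift lL.left (m ≫ π).left hr) ?_, (cancel_mono π).1 ?_⟩
    · show _ ≫ EL.hom = _
      rw [← Over.w lL, IsOpenImmersion.lift_fac_assoc, Over.w (m ≫ π)]
    · rw [Category.assoc, hπr]; ext1; exact IsOpenImmersion.lift_fac _ _ _
  obtain ⟨l₁, hl₁⟩ := hEL m₁
  obtain ⟨l₂, hl₂⟩ := hEL m₂
  have hl₁' : l₁ ≫ lL = o' ≫ PQ := by rw [← hπr, reassoc_of% hl₁, hm₁]
  have hl₂' : l₂ ≫ lL = o' ≫ QQ := by rw [← hπr, reassoc_of% hl₂, hm₂]
  let γ₁ : L ⟶ L' := Spec.preimage l₁.left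
  let γ₂ : L ⟶ L' := Spec.preimage l₂.left
  have hγ₁ : lmap ≫ γ₁ = P₀ ≫ lmap' := Spec.map_injective (by
    rw [Spec.map_comp, Spec.map_comp, Spec.map_preimage]; exact congr_arg CommaMorphism.left hl₁')
  have hγ₂ : lmap ≫ γ₂ = Q₀ ≫ lmap' := Spec.map_injective (by
    rw [Spec.map_comp, Spec.map_comp, Spec.map_preimage]; exact congr_arg CommaMorphism.left hl₂')
  have hγ : α ≫ γ₁ = α ≫ γ₂ := Spec.map_injective (by
    rw [Spec.map_comp, Spec.map_comp, hα, show Spec.map γ₁ = l₁.left from Spec.map_preimage _,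
      show Spec.map γ₂ = l₂.left from Spec.map_preimage _]
    have := congr_arg CommaMorphism.left (show l₁ ≫ πr ≫ a = l₂ ≫ πr ≫ a by
      rw [reassoc_of% hl₁, reassoc_of% hl₂, hm₂a])
    exact this)
  obtain ⟨s₀, hs₀, hs₀a⟩ := hP i (𝟙 U₁) (by rw [hit, Category.id_comp]) (by rw [hiu, Category.id_comp])
  obtain ⟨l₀, hl₀⟩ := hEL s₀
  let ω : L ⟶ C₁ := Spec.preimage l₀.left
  have hω : lmap ≫ ω = ψ := Spec.map_injective (by
    rw [Spec.map_comp, Spec.map_preimage]
    exact congr_arg CommaMorphism.left (show l₀ ≫ lL = i by rw [← hπr, reassoc_of% hl₀, hs₀]))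
  have hωα : α ≫ ω = 𝟙 C₁ := Spec.map_injective (by
    rw [Spec.map_comp, Spec.map_preimage, hα, Spec.map_id]
    exact congr_arg CommaMorphism.left (show l₀ ≫ πr ≫ a = 𝟙 U₁ by rw [reassoc_of% hl₀, hs₀a]))
  have hint : (ψ.hom.comp (algebraMap (A' : Type u) ((A' : Type u) ⊗[(A : Type u)] (C : Type u)))).IsIntegral := by
    have : f.hom.Finite := (IsFinite.SpecMap_iff f).1 inferInstance
    have e : ψ.hom.comp (algebraMap (A' : Type u) ((A' : Type u) ⊗[(A : Type u)] (C : Type u))) = f.hom :=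
      congr_arg CommRingCat.Hom.hom hψl
    rw [e]; exact this.to_isIntegral
  obtain ⟨ε', hε', hloc⟩ := split_data (A' : Type u) pA qA P₀.hom Q₀.hom rfl rfl heI heq
    (Localization.Away e₀) ψ.hom hint α.hom (congr_arg CommRingCat.Hom.hom
      (show lC ≫ ψ ≫ α = lC ≫ lmap by rw [reassoc_of% hψl, hαA]))
    σD.hom (congr_arg CommRingCat.Hom.hom hσP) (congr_arg CommRingCat.Hom.hom hσQ)
    (Localization.Away (P₀.hom e₀)) γ₁.hom γ₂.hom (congr_arg CommRingCat.Hom.hom hγ₁)
    (congr_arg CommRingCat.Hom.hom hγ₂) (congr_arg CommRingCat.Hom.hom hγ)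
    ω.hom (congr_arg CommRingCat.Hom.hom hω) (congr_arg CommRingCat.Hom.hom hωα)
  letI : Algebra ((A' : Type u) ⊗[(A : Type u)] eqInt pA qA) (C₁ : Type u) :=
    (ψ.hom.comp (Algebra.TensorProduct.map (AlgHom.id (A' : Type u) (A' : Type u)) (eqInt pA qA).val).toRingHom).toAlgebra
  haveI : IsLocalization.Away ε' (C₁ : Type u) := hloc
  -- transport to `B`
  let eA : (B : Type u) ≃ₐ[(A : Type u)] eqInt pA qA :=
    AlgEquiv.ofRingEquiv (f := eB) fun r => Subtype.ext ((heB _).trans congr($(hval).hom r))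
  let E' := Algebra.TensorProduct.congr (AlgEquiv.refl (R := (A : Type u)) (A₁ := (A' : Type u))) eA
  let ε : (A' : Type u) ⊗[(A : Type u)] (B : Type u) := E'.symm ε'
  have hVE : ∀ x, Algebra.TensorProduct.map (AlgHom.id (A' : Type u) (A' : Type u)) (eqInt pA qA).val (E' x) =
      V.hom x := fun x => by
    induction x using TensorProduct.induction_on with
    | zero => simp
    | add a b ha hb => simp only [map_add, ha, hb]
    | tmul a b => exact congrArg (a ⊗ₜ[(A : Type u)] ·) (heB b)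
  have hVε : V.hom ε = e₀ := by rw [← hVE, show E' ε = ε' from E'.apply_symm_apply ε', hε']
  letI : Algebra ((A' : Type u) ⊗[(A : Type u)] (B : Type u)) (C₁ : Type u) := (V ≫ ψ).hom.toAlgebra
  haveI : IsLocalization.Away ε (C₁ : Type u) := by
    have hmap : ∀ x, algebraMap _ (C₁ : Type u) x =
        algebraMap ((A' : Type u) ⊗[(A : Type u)] eqInt pA qA) (C₁ : Type u) (E' x) := fun x => by
      show ψ.hom (V.hom x) = _
      rw [← hVE]; rfl
    have hone : algebraMap ((A' : Type u) ⊗[(A : Type u)] eqInt pA qA) (C₁ : Type u) ε' = 1 := by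
      show ψ.hom _ = 1
      rw [show (Algebra.TensorProduct.map (AlgHom.id (A' : Type u) (A' : Type u)) (eqInt pA qA).val).toRingHom ε' = e₀
        from hε']
      exact eq_one_of_idempotent_unit (heI.map _) (by
        rw [← congr_arg CommRingCat.Hom.hom hω]
        exact (IsLocalization.Away.algebraMap_isUnit (S := Localization.Away e₀) e₀).map ω.hom)
    refine isLocalizationAway_of_split ε (by rw [hmap, show E' ε = ε' from E'.apply_symm_apply ε', hone])
      (fun c => ?_) fun x hx => ?_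
    · obtain ⟨z, hz⟩ := IsLocalization.Away.surj (S := (C₁ : Type u)) ε' c |>.imp fun n hn => hn
      obtain ⟨b, hb⟩ := hz
      refine ⟨E'.symm b, ?_⟩
      rw [hmap, AlgEquiv.apply_symm_apply, ← hb, hone, one_pow, mul_one]
    · rw [hmap] at hx
      obtain ⟨⟨_, n, rfl⟩, hn⟩ := (IsLocalization.eq_iff_exists (Submonoid.powers ε') (C₁ : Type u)).1
        (hx.trans (map_zero _).symm)
      have hεI : IsIdempotentElem ε' := by
        refine (eqInt_baseChange (A' : Type u) pA qA).1 ?_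
        rw [map_mul, show Algebra.TensorProduct.map (AlgHom.id (A' : Type u) (A' : Type u)) (eqInt pA qA).val ε' = e₀
          from hε', heI.eq]
      have := congr_arg (ε' * ·) hn
      dsimp only at this
      rw [mul_zero, mul_zero, ← mul_assoc, ← pow_succ', hεI.pow_succ_eq] at this
      apply E'.injective
      rw [map_mul, show E' ε = ε' from E'.apply_symm_apply ε', this, map_zero]
  let QY := spA σ (χ ≫ lB)
  let inc : QU ⟶ QY := spMap σ V (by rw [Category.assoc, hlV])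
  let pr : QY ⟶ spA σ β := spMap σ rB pB.w.symm
  let tY : QY ⟶ T := spMap σ lB rfl
  have sY : IsPullback pr tY (spHom σ β) (spHom σ χ) :=
    IsPullback.of_map_of_faithful (Over.forget S) (isPullback_SpecMap_of_isPushout _ _ _ _ pB).flip
  have hincpr : inc ≫ pr = uF ≫ spMap σ val hval := by
    ext1; show Spec.map V ≫ Spec.map rB = Spec.map rC ≫ Spec.map val
    rw [← Spec.map_comp, ← Spec.map_comp, hrV]
  have hinct : inc ≫ tY = tF := by
    ext1; show Spec.map V ≫ Spec.map lB = Spec.map lC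
    rw [← Spec.map_comp, hlV]
  have : Etale pr.left :=
    MorphismProperty.of_isPullback (sY.map (Over.forget S)).flip (inferInstanceAs (Etale (Spec.map χ)))
  have : IsOpenImmersion (i ≫ inc).left := by
    show IsOpenImmersion (Spec.map ψ ≫ Spec.map V)
    rw [← Spec.map_comp]
    exact IsOpenImmersion.of_isLocalization (R := (A' : Type u) ⊗[(A : Type u)] (B : Type u)) (S := (C₁ : Type u)) ε
  have hj₁r : Set.range (i ≫ inc).left = (PrimeSpectrum.basicOpen ε : Set (PrimeSpectrum B')) := by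
    show Set.range (Spec.map ψ ≫ Spec.map V) = _
    rw [← Spec.map_comp]
    exact range_specLoc (C₁ : Type u) ε
  obtain ⟨J, hJdef⟩ : ∃ J : U₁ ⟶ spA σ β, J = (i ≫ inc) ≫ pr := ⟨_, rfl⟩
  have hJ : J = kU ≫ spMap σ val hval := by
    rw [hJdef, Category.assoc, hincpr, reassoc_of% hiu]
  have : Etale J.left := by rw [hJdef]; show Etale ((i ≫ inc).left ≫ pr.left); infer_instance
  let O₀ : (Spec B).Opens := ⟨Set.range J.left, J.left.isOpenMap.isOpen_range⟩
  let O : Over S := Over.mk (O₀.ι ≫ (spA σ β).hom)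
  let ι : O ⟶ spA σ β := Over.homMk O₀.ι
  have hJr : Set.range J.left ⊆ Set.range O₀.ι := by rw [Scheme.Opens.range_ι]; exact le_rfl
  let J' : U₁ ⟶ O := Over.homMk (IsOpenImmersion.lift O₀.ι J.left hJr) (by
    show _ ≫ O₀.ι ≫ (spA σ β).hom = _
    rw [IsOpenImmersion.lift_fac_assoc, Over.w J])
  have hJ' : J' ≫ ι = J := Over.OverMorphism.ext (IsOpenImmersion.lift_fac _ _ _)
  have : Etale J'.left := by
    have : Etale (J'.left ≫ O₀.ι) := by
      rw [show J'.left ≫ O₀.ι = J.left from congr_arg CommaMorphism.left hJ']; infer_instance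
    exact Etale.of_comp J'.left O₀.ι
  have : Surjective J'.left := ⟨fun z => by
    obtain ⟨u₀, hu₀⟩ := z.2
    refine ⟨u₀, O₀.ι.isOpenEmbedding.injective ?_⟩
    rw [← Scheme.Hom.comp_apply, show J'.left ≫ O₀.ι = J.left from congr_arg CommaMorphism.left hJ', hu₀]
    rfl⟩
  have hjq : ∀ {Z : Over S} (x : Z ⟶ U),
      x ≫ spHom σ φ = (x ≫ spMap σ val hval) ≫ spHom σ β := fun x => by
    rw [Category.assoc]; congr 1
    ext1; show Spec.map φ = Spec.map val ≫ Spec.map β
    rw [← Spec.map_comp, hval]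
  have key : IsPullback ((yon S).map kU ≫ p) (𝟙 _) j ((yon S).map J) := by
    refine isPullback_id_yon _ _ _ (by rw [Category.assoc, hj, hJ, Functor.map_comp]) fun Z x c hxc => ?_
    obtain ⟨Z', g, u', sg⟩ : ∃ (Z' : Over S) (g : Z' ⟶ Z) (u' : Z' ⟶ U),
        IsPullback ((yon S).map u') ((yon S).map g) p x := by
      obtain ⟨Z', p', q', sq⟩ := exists_isPullback_of_representable hp.1 x
      exact ⟨Z', q', p', sq⟩
    have : Epi ((yon S).map g) :=
      epi_of_repWith _ (repWith_map (repWith_prop hp sg)) (repWith_map (repWith_prop hps sg))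
    have hu : u' ≫ spMap σ val hval = g ≫ c ≫ J := (yon S).map_injective (by
      rw [Functor.map_comp, ← hj, ← Category.assoc, sg.w, Category.assoc, hxc, Functor.map_comp,
        Functor.map_comp])
    obtain ⟨z, hz₁, hz₂⟩ := sU.exists_lift u' (g ≫ c ≫ fU) (by
      rw [hjq, hu, hJ]
      simp only [Category.assoc]
      rw [← hjq kU |>.trans (Category.assoc _ _ _), hkh])
    have hzY : z ≫ inc = (g ≫ c) ≫ i ≫ inc := sY.hom_ext
      (by
        rw [Category.assoc, hincpr, reassoc_of% hz₁, hu]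
        simp only [hJdef, Category.assoc])
      (by
        simp only [Category.assoc, hinct]
        rw [hz₂, hit])
    have hzr : ∀ y, z.left y ∈ Set.range π.left := fun y => by
      rw [hrange]
      have h₁ : inc.left (z.left y) ∈ (PrimeSpectrum.basicOpen ε : Set (PrimeSpectrum B')) := by
        rw [← hj₁r]
        exact ⟨(g ≫ c).left y, (congr_arg (fun t : Z' ⟶ QY => t.left y) hzY).symm⟩
      have h₂ : z.left y ∈ (PrimeSpectrum.basicOpen (V.hom ε) : Set (PrimeSpectrum C')) := h₁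
      rwa [hVε] at h₂
    obtain ⟨m, hm⟩ := hfac z hzr
    obtain ⟨l, hl⟩ := hEL m
    have hm' : (m ≫ a) ≫ i ≫ inc = z ≫ inc := by
      rw [← hm, ← hl]
      have hh : sr ≫ PQ ≫ inc = sr ≫ QQ ≫ inc := by
        congr 1
        ext1; show Spec.map P₀ ≫ Spec.map V = Spec.map Q₀ ≫ Spec.map V
        rw [← Spec.map_comp, ← Spec.map_comp, hVPQ]
      rw [reassoc_of% hsrP, reassoc_of% hsrQ] at hh
      simp only [Category.assoc]
      rw [reassoc_of% hπr, hh]
    have hmc : m ≫ a = g ≫ c := by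
      have : Mono (i ≫ inc) := (Over.forget S).mono_of_mono_map (inferInstanceAs (Mono (i ≫ inc).left))
      rw [← cancel_mono (i ≫ inc), hm', hzY]
    rw [← cancel_epi ((yon S).map g), ← sg.w, ← hz₁, ← hm]
    simp only [Functor.map_comp, Category.assoc] at hEe ⊢
    rw [hEe, ← Functor.map_comp_assoc, hmc, Functor.map_comp_assoc]
  have sG := IsPullback.of_hasPullback j ((yon S).map ι)
  let θ : (yon S).obj U₁ ⟶ pullback j ((yon S).map ι) := sG.lift ((yon S).map kU ≫ p) ((yon S).map J')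
    (by rw [Category.assoc, hj, ← Functor.map_comp, ← Functor.map_comp, hJ', hJ])
  have sθ : IsPullback θ (𝟙 _) (pullback.snd j ((yon S).map ι)) ((yon S).map J') := by
    refine IsPullback.of_right ?_ (by rw [Category.id_comp]; exact sG.lift_snd _ _ _) sG
    rw [show θ ≫ pullback.fst _ _ = (yon S).map kU ≫ p from sG.lift_fst _ _ _, ← Functor.map_comp, hJ']
    exact key
  have hJe : RepWith @Etale ((yon S).map J') := repWith_map ‹_›
  have hJs : RepWith @Surjective ((yon S).map J') := repWith_map ‹_›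
  have := mono_of_cover _ _ hJe hJs sθ
  have : Epi ((yon S).map J') := epi_of_repWith _ hJe hJs
  have : Epi (pullback.snd j ((yon S).map ι)) :=
    epi_of_epi_fac (f := θ) (h := (yon S).map J') (by rw [sθ.w, Category.id_comp])
  have : IsIso (pullback.snd j ((yon S).map ι)) := isIso_of_mono_of_epi _
  refine ⟨O, ι, inferInstanceAs (IsOpenImmersion O₀.ι), inv (pullback.snd j ((yon S).map ι)) ≫ pullback.fst _ _,
    sG.of_iso (asIso (pullback.snd j ((yon S).map ι))) (Iso.refl _) (Iso.refl _) (Iso.refl _)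
      (by simp) (by simp) (by simp) (by simp), ?_⟩
  rintro _ ⟨y, rfl⟩
  show _ ∈ Set.range O₀.ι
  rw [Scheme.Opens.range_ι]
  refine ⟨y, ?_⟩
  rw [hJ]
  show (Spec.map k ≫ Spec.map val) y = _
  rw [← Spec.map_comp]

end Groth.L23.Lqf
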