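import Groth.Agent.L23.MonoField
import Groth.Agent.L23.Subspace
import Groth.Agent.L23.AffineQuot
import Groth.Agent.L23.AffineMor
import Groth.Agent.L23.OpenCharts
import Groth.Agent.L23.FieldSpace
import Mathlib.AlgebraicGeometry.Artinian
import Mathlib.AlgebraicGeometry.ZariskisMainTheorem

/-!
# Algebraic spaces with a monomorphism to a scheme with discrete space
-/

universe u

open CategoryTheory CategoryTheory.Limits AlgebraicGeometry Opposite AlgSp TopologicalSpace

set_option autoImplicit false
set_option linter.style.haveILetI false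
set_option backward.isDefEq.respectTransparency.types false

namespace Groth.L23.MonoDiscrete

variable {S : Scheme.{u}} {X : Sp S}

theorem injective_map_of_mono (hX : IsAlgSpace X) {T : Over S} (f : X ⟶ (yon S).obj T) [Mono f] :
    Function.Injective (Points.map f) :=
  (isUnivInjectiveMor_of_surjective_diagonal
    (surjective_diagonal_of_fieldInjective fun K _ str' a b e => (cancel_mono f).1 e))
    (IsAlgSpace.yon_obj T) (𝟙 _) (𝟙 _) f IsPullback.of_id_fst

theorem isFinite_of_etale_to_point {R U : Scheme.{u}} (t : R ⟶ U) [Etale t] [IsAffine U] [IsAffine R]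
    [Subsingleton U] (u : U) : IsFinite t := by
  have hcl : IsClosed ({u} : Set U) := by
    convert isClosed_univ
    exact Set.eq_univ_of_forall fun v => Subsingleton.elim v u
  haveI : IsClosedImmersion (U.fromSpecResidueField u) := isClosed_singleton_iff_isClosedImmersion.1 hcl
  haveI : Surjective (U.fromSpecResidueField u) :=
    ⟨fun v => ⟨IsLocalRing.closedPoint _, Subsingleton.elim _ _⟩⟩
  haveI : LocallyQuasiFinite (pullback.snd t (U.fromSpecResidueField u)) := lqf_of_etale _
  haveI : QuasiCompact (pullback.snd t (U.fromSpecResidueField u)) :=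
    MorphismProperty.pullback_snd _ _ (inferInstance : QuasiCompact t)
  haveI : IsFinite (pullback.snd t (U.fromSpecResidueField u)) := IsFinite.of_locallyQuasiFinite _
  haveI : UniversallyClosed (pullback.fst t (U.fromSpecResidueField u) ≫ t) := by
    rw [pullback.condition]
    infer_instance
  haveI : UniversallyClosed t := UniversallyClosed.of_comp_surjective (pullback.fst t (U.fromSpecResidueField u)) t
  haveI : IsProper t := ⟨⟩
  haveI := lqf_of_etale t
  exact (IsFinite.iff_isProper_and_locallyQuasiFinite t).2 ⟨inferInstance, inferInstance⟩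

theorem discrete_of_etale_chart (hX : IsAlgSpace X) {T : Over S} [IsAffine T.left] [Subsingleton T.left]
    (f : X ⟶ (yon S).obj T) [Mono f] {U : Over S} [IsAffine U.left] {a : (yon S).obj U ⟶ X}
    (ha : RepWith @Etale a) (u₀ : U.left) : DiscreteTopology U.left := by
  obtain ⟨m, hm⟩ := (yon S).map_surjective (a ≫ f)
  let y : T.left := m.left u₀
  have hcl : IsClosed ({y} : Set T.left) := by
    convert isClosed_univ
    exact Set.eq_univ_of_forall fun v => Subsingleton.elim v y
  haveI : IsClosedImmersion (T.left.fromSpecResidueField y) := isClosed_singleton_iff_isClosedImmersion.1 hcl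
  haveI : Surjective (T.left.fromSpecResidueField y) :=
    ⟨fun v => ⟨IsLocalRing.closedPoint _, Subsingleton.elim _ _⟩⟩
  let K : Over S := Over.mk (T.left.fromSpecResidueField y ≫ T.hom)
  let ι : K ⟶ T := Over.homMk (T.left.fromSpecResidueField y) rfl
  haveI : Subsingleton K.left := inferInstanceAs (Subsingleton (Spec (T.left.residueField y)))
  have sqZ := IsPullback.of_hasPullback f ((yon S).map ι)
  have hZ : IsAlgSpace (pullback f ((yon S).map ι)) :=
    isAlgSpace_of_isPullback (IsAlgSpace.yon_obj T).diag hX (IsAlgSpace.yon_obj K) sqZ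
  let W : Over S := Over.mk (pullback.fst m.left ι.left ≫ U.hom)
  let w₁ : W ⟶ U := Over.homMk (pullback.fst m.left ι.left) rfl
  let w₂ : W ⟶ K := Over.homMk (pullback.snd m.left ι.left) (by
    show pullback.snd m.left ι.left ≫ K.hom = pullback.fst m.left ι.left ≫ U.hom
    rw [← Over.w m, ← Over.w ι, reassoc_of% pullback.condition])
  have sW : IsPullback w₁ w₂ m ι := isPullback_over (IsPullback.of_hasPullback _ _)
  let l := sqZ.lift ((yon S).map w₁ ≫ a) ((yon S).map w₂) (by
    rw [Category.assoc, ← hm, ← Functor.map_comp, sW.w, Functor.map_comp])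
  have sl : IsPullback ((yon S).map w₁) l a (pullback.fst f ((yon S).map ι)) := by
    refine IsPullback.of_bot ?_ (sqZ.lift_fst _ _ _).symm sqZ
    rw [sqZ.lift_snd, ← hm]
    exact sW.map (yon S)
  haveI hsurj : Surjective w₁.left := MorphismProperty.pullback_fst _ _ ‹Surjective (T.left.fromSpecResidueField y)›
  obtain ⟨w, -⟩ := w₁.left.surjective u₀
  haveI : Mono (pullback.snd f ((yon S).map ι)) := inferInstance
  haveI : IsIso (pullback.snd f ((yon S).map ι)) :=
    (isEmpty_or_isIso_of_mono_to_field (k := T.left.residueField y) _ hZ (pullback.snd f ((yon S).map ι))).resolve_left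
      fun h => h.false (Points.ofPt l w)
  have hw₂ : RepWith @Etale ((yon S).map w₂) := by
    rw [show (yon S).map w₂ = l ≫ pullback.snd f ((yon S).map ι) from (sqZ.lift_snd _ _ _).symm]
    exact repWith_comp (repWith_of_isPullback sl.flip.flip ha) (repWith_of_isIso _)
  haveI : Etale w₂.left := (repWith_yon_map_iff _ _).1 hw₂
  haveI : IsAffine K.left := inferInstanceAs (IsAffine (Spec (T.left.residueField y)))
  haveI : IsAffine W.left := inferInstanceAs (IsAffine (pullback m.left ι.left))
  haveI : LocallyQuasiFinite w₂.left := lqf_of_etale _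
  haveI : QuasiCompact w₂.left := inferInstance
  haveI hfin : IsFinite w₂.left := by
    haveI : IsLocallyArtinian K.left := inferInstanceAs (IsLocallyArtinian (Spec (T.left.residueField y)))
    exact IsFinite.of_locallyQuasiFinite _
  haveI hd : DiscreteTopology W.left := by
    have := w₂.left.isDiscrete_preimage_singleton (w₂.left w)
    rw [show w₂.left ⁻¹' {w₂.left w} = Set.univ from Set.eq_univ_of_forall fun z => Subsingleton.elim _ _] at this
    exact (Homeomorph.Set.univ W.left).discreteTopology_iff.1 this.to_subtype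
  haveI : IsClosedImmersion w₁.left := MorphismProperty.pullback_fst _ _ ‹IsClosedImmersion (T.left.fromSpecResidueField y)›
  refine discreteTopology_iff_forall_isClosed.2 fun s => ?_
  rw [← Set.image_preimage_eq s w₁.left.surjective]
  exact w₁.left.isClosedEmbedding.isClosedMap _ (isClosed_discrete _)

theorem exists_iso_affine_of_mono (hX : IsAlgSpace X) {T : Over S} [IsAffine T.left] [Subsingleton T.left]
    (f : X ⟶ (yon S).obj T) [Mono f] (x : Points X) :
    ∃ (M : Over S) (θ : (yon S).obj M ⟶ X), IsIso θ := by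
  haveI : Subsingleton (Points ((yon S).obj T)) := (Points.schemeEquiv T).symm.subsingleton
  haveI hsub : Subsingleton (Points X) := (injective_map_of_mono hX f).subsingleton
  obtain ⟨U₀, a₀, ha₀, has₀⟩ := hX.atlas
  obtain ⟨u₀, -⟩ := surjective_ofPt has₀ x
  obtain ⟨O, hO, hu₀, -⟩ := exists_isAffineOpen_mem_and_subset (x := u₀) (U := ⊤) trivial
  let U₁ : Over S := Over.mk (O.ι ≫ U₀.hom)
  haveI : IsAffine U₁.left := hO
  let a₁ : (yon S).obj U₁ ⟶ X := (yon S).map (Over.homMk O.ι rfl : U₁ ⟶ U₀) ≫ a₀
  have ha₁ : RepWith @Etale a₁ := repWith_comp (repWith_map (show Etale O.ι from inferInstance)) ha₀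
  haveI := discrete_of_etale_chart hX f ha₁ ⟨u₀, hu₀⟩
  let P : U₁.left.Opens := ⟨{⟨u₀, hu₀⟩}, isOpen_discrete _⟩
  have hP : IsAffineOpen P := by
    obtain ⟨O', hO', hmem, hle⟩ := exists_isAffineOpen_mem_and_subset (x := (⟨u₀, hu₀⟩ : U₁.left)) (U := P) rfl
    have : O' = P := Opens.ext (hle.antisymm (Set.singleton_subset_iff.2 hmem))
    exact this ▸ hO'
  let U : Over S := Over.mk (P.ι ≫ U₁.hom)
  haveI : IsAffine U.left := hP
  haveI : Subsingleton U.left := ⟨fun p q => Subtype.ext (p.2.trans q.2.symm)⟩
  let a : (yon S).obj U ⟶ X := (yon S).map (Over.homMk P.ι rfl : U ⟶ U₁) ≫ a₁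
  have ha : RepWith @Etale a := repWith_comp (repWith_map (show Etale P.ι from inferInstance)) ha₁
  let u : U.left := ⟨⟨u₀, hu₀⟩, rfl⟩
  have has : RepWith @Surjective a := repWith_surjective_of_map ha.1 fun y =>
    ⟨Points.ofScheme U u, Subsingleton.elim _ _⟩
  obtain ⟨m, hm⟩ := (yon S).map_surjective (a ≫ f)
  let R : Over S := Over.mk (pullback.fst m.left m.left ≫ U.hom)
  let r₁ : R ⟶ U := Over.homMk (pullback.fst m.left m.left) rfl
  let r₂ : R ⟶ U := Over.homMk (pullback.snd m.left m.left) (by
    show pullback.snd m.left m.left ≫ U.hom = pullback.fst m.left m.left ≫ U.hom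
    rw [← Over.w m, reassoc_of% pullback.condition])
  have sR : IsPullback r₁ r₂ m m := isPullback_over (IsPullback.of_hasPullback _ _)
  have sR' := sR.map (yon S)
  rw [hm] at sR'
  have hw : (yon S).map r₁ ≫ a = (yon S).map r₂ ≫ a := by
    rw [← cancel_mono f, Category.assoc, Category.assoc]
    exact sR'.w
  have sq : IsPullback ((yon S).map r₁) ((yon S).map r₂) a a :=
    IsPullback.mk' hw (fun W φ φ' h₁ h₂ => sR'.hom_ext h₁ h₂)
      fun W p q e => ⟨sR'.lift p q (by rw [← Category.assoc, e, Category.assoc]), sR'.lift_fst _ _ _, sR'.lift_snd _ _ _⟩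
  haveI : Etale r₂.left := repWith_prop ha sq
  haveI : IsAffine R.left := inferInstanceAs (IsAffine (pullback m.left m.left))
  have := isLocallySurjective_of_etale a ha has
  have := isLocalAtTarget_fppf (@IsFinite : MorphismProperty Scheme.{u})
  obtain ⟨M, θ, -, hθ⟩ := AQ.exists_iso_of_affine_cover hX
    ((repWith_iff_of_chart ha.1 sq).2 (isFinite_of_etale_to_point r₂.left u)) ha has
  exact ⟨M, θ, hθ⟩

theorem isRepresentable_of_mono_discrete (hX : IsAlgSpace X) {Y : Over S} [DiscreteTopology Y.left]
    (f : X ⟶ (yon S).obj Y) [Mono f] : X.obj.IsRepresentable := by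
  obtain ⟨G, θ, hθ⟩ := OpenCharts.exists_scheme_of_open_charts hX fun x => by
    obtain ⟨y, hy⟩ := (Points.schemeEquiv Y).surjective (Points.map f x)
    let P : Y.left.Opens := ⟨{y}, isOpen_discrete _⟩
    have hP : IsAffineOpen P := by
      obtain ⟨O', hO', hmem, hle⟩ := exists_isAffineOpen_mem_and_subset (x := y) (U := P) rfl
      have : O' = P := Opens.ext (hle.antisymm (Set.singleton_subset_iff.2 hmem))
      exact this ▸ hO'
    let T : Over S := openOver Y P
    haveI : IsAffine T.left := hP
    haveI : Subsingleton T.left := ⟨fun p q => Subtype.ext (p.2.trans q.2.symm)⟩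
    have sq := IsPullback.of_hasPullback f ((yon S).map (openOverι Y P))
    have hj : RepWith @IsOpenImmersion ((yon S).map (openOverι Y P)) :=
      repWith_map (show IsOpenImmersion P.ι from inferInstance)
    haveI : Mono (pullback.snd f ((yon S).map (openOverι Y P))) := inferInstance
    let y' : T.left := ⟨y, Set.mem_singleton y⟩
    obtain ⟨x', hx', -⟩ := exists_of_isPullback sq x (Points.ofScheme T y') (by
      rw [← hy, ← Points.ofPt_eq_map_ofScheme, ofPt_map]
      rfl)
    obtain ⟨M, θ, hθ⟩ := exists_iso_affine_of_mono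
      (isAlgSpace_of_isPullback (IsAlgSpace.yon_obj Y).diag hX (IsAlgSpace.yon_obj T) sq)
      (pullback.snd f ((yon S).map (openOverι Y P))) x'
    obtain ⟨t, ht⟩ := surjective_ofPt (repWith_of_isIso θ) x'
    exact ⟨M, θ ≫ pullback.fst f ((yon S).map (openOverι Y P)), t,
      repWith_comp (repWith_of_isIso θ) (repWith_of_isPullback sq.flip hj),
      by rw [← Points.map_ofPt, ht, hx']⟩
  exact Pt.isRepresentable_of_iso (asIso θ)

end Groth.L23.MonoDiscrete
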