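import Groth.Agent.L23.DimZeroSpace
import Groth.Agent.L23.MonoDiscrete
import Groth.Agent.L23.SchemeRep
import Mathlib.Algebra.Category.Ring.Epi
import Mathlib.AlgebraicGeometry.Artinian
import Mathlib.AlgebraicGeometry.Morphisms.QuasiFinite

/-!
# Spaces locally quasi-finite over a field
-/

universe u

open CategoryTheory CategoryTheory.Limits AlgebraicGeometry Opposite AlgSp TopologicalSpace
open scoped TensorProduct

set_option backward.isDefEq.respectTransparency.types false
set_option linter.style.haveILetI false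

namespace Groth.L23.LqfField

theorem surjective_of_isEpi_field (K C : Type u) [Field K] [CommRing C] [Algebra K C] [Algebra.IsEpi K C] :
    Function.Surjective (algebraMap K C) := by
  intro c
  rcases subsingleton_or_nontrivial C with h | h
  · exact ⟨0, Subsingleton.elim _ _⟩
  obtain ⟨φ, hφ⟩ : ∃ φ : C →ₗ[K] K, φ 1 = 1 := by
    obtain ⟨φ, hφ⟩ := Module.Projective.exists_dual_ne_zero K (V := C) (one_ne_zero : (1 : C) ≠ 0)
    exact ⟨(φ 1)⁻¹ • φ, by simp [hφ]⟩
  refine ⟨φ c, ?_⟩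
  have h1 := congrArg (fun z => TensorProduct.lid K C (TensorProduct.map φ LinearMap.id z))
    ((Algebra.isEpi_iff_forall_one_tmul_eq K C).1 inferInstance c)
  simp only [TensorProduct.map_tmul, hφ, LinearMap.id_coe, id_eq, TensorProduct.lid_tmul, one_smul] at h1
  rw [Algebra.algebraMap_eq_smul_one]
  exact h1.symm

theorem surjective_of_isEpi_artinian (A B : Type u) [CommRing A] [IsLocalRing A] [IsArtinianRing A]
    [CommRing B] [Algebra A B] [Algebra.IsEpi A B] : Function.Surjective (algebraMap A B) := by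
  let m := IsLocalRing.maximalIdeal A
  let C := B ⧸ m.map (algebraMap A B)
  letI : Field (A ⧸ m) := Ideal.Quotient.field m
  letI : Algebra (A ⧸ m) C := (Ideal.quotientMap (m.map (algebraMap A B)) (algebraMap A B) Ideal.le_comap_map).toAlgebra
  haveI : Epi (CommRingCat.ofHom (algebraMap A B)) := CommRingCat.epi_iff_epi.2 inferInstance
  haveI : Epi (CommRingCat.ofHom (Ideal.Quotient.mk (m.map (algebraMap A B)))) :=
    ConcreteCategory.epi_of_surjective _ Ideal.Quotient.mk_surjective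
  have hc : CommRingCat.ofHom (Ideal.Quotient.mk m) ≫ CommRingCat.ofHom (algebraMap (A ⧸ m) C) =
      CommRingCat.ofHom (algebraMap A B) ≫ CommRingCat.ofHom (Ideal.Quotient.mk (m.map (algebraMap A B))) := rfl
  haveI : Epi (CommRingCat.ofHom (Ideal.Quotient.mk m) ≫ CommRingCat.ofHom (algebraMap (A ⧸ m) C)) := by
    rw [hc]; infer_instance
  haveI : Epi (CommRingCat.ofHom (algebraMap (A ⧸ m) C)) := epi_of_epi (CommRingCat.ofHom (Ideal.Quotient.mk m)) _
  haveI : Algebra.IsEpi (A ⧸ m) C := CommRingCat.epi_iff_epi.1 inferInstance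
  have h1 : ∀ b : B, ∃ a : A, b - algebraMap A B a ∈ m.map (algebraMap A B) := fun b => by
    obtain ⟨z, hz⟩ := surjective_of_isEpi_field (A ⧸ m) C (Ideal.Quotient.mk _ b)
    obtain ⟨a, rfl⟩ := Ideal.Quotient.mk_surjective z
    exact ⟨a, Ideal.Quotient.eq.1 hz.symm⟩
  have h2 : ∀ (k : ℕ) (b : B), ∃ a : A, b - algebraMap A B a ∈ (m.map (algebraMap A B)) ^ k := by
    intro k
    induction k with
    | zero => exact fun b => ⟨0, by simp⟩
    | succ k ih =>
      have step : ∀ z ∈ (m ^ k).map (algebraMap A B), ∃ a : A,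
          z - algebraMap A B a ∈ (m.map (algebraMap A B)) ^ (k + 1) := by
        intro z hz
        refine Submodule.span_induction (p := fun z _ => ∀ c : B, ∃ a : A,
          c * z - algebraMap A B a ∈ (m.map (algebraMap A B)) ^ (k + 1)) ?_ ?_ ?_ ?_ hz 1 |>.imp fun a ha => by
            simpa using ha
        · rintro _ ⟨x, hx, rfl⟩ c
          obtain ⟨a, ha⟩ := h1 c
          refine ⟨a * x, ?_⟩
          have hx' : algebraMap A B x ∈ (m.map (algebraMap A B)) ^ k := by
            rw [← Ideal.map_pow]; exact Ideal.mem_map_of_mem _ hx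
          rw [show c * algebraMap A B x - algebraMap A B (a * x) = algebraMap A B x * (c - algebraMap A B a) by
            rw [map_mul]; ring, pow_succ]
          exact Ideal.mul_mem_mul hx' ha
        · exact fun c => ⟨0, by simp⟩
        · intro x y _ _ hx hy c
          obtain ⟨a, ha⟩ := hx c
          obtain ⟨b, hb⟩ := hy c
          exact ⟨a + b, by simpa [mul_add, add_sub_add_comm] using add_mem ha hb⟩
        · intro r x _ hx c
          obtain ⟨a, ha⟩ := hx (c * r)
          exact ⟨a, by simpa [mul_assoc] using ha⟩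
      intro b
      obtain ⟨a, ha⟩ := ih b
      obtain ⟨a', ha'⟩ := step (b - algebraMap A B a) (by rw [Ideal.map_pow]; exact ha)
      exact ⟨a + a', by simpa [sub_sub] using ha'⟩
  obtain ⟨n, hn⟩ : IsNilpotent m := by
    have := IsArtinianRing.isNilpotent_jacobson_bot (R := A)
    rwa [IsLocalRing.jacobson_eq_maximalIdeal ⊥ bot_ne_top] at this
  intro b
  obtain ⟨a, ha⟩ := h2 n b
  rw [← Ideal.map_pow, hn, Submodule.zero_eq_bot, Ideal.map_bot, Ideal.mem_bot, sub_eq_zero] at ha
  exact ⟨a, ha.symm⟩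

variable {k : Type u} [Field k]

/-- A monomorphism into a spectrum of an Artinian local ring is a closed immersion. -/
theorem isClosedImmersion_of_mono {T V : Scheme.{u}} (g : T ⟶ V) [Mono g] [IsAffine V]
    [IsArtinianRing Γ(V, ⊤)] [IsLocalRing Γ(V, ⊤)] : IsClosedImmersion g := by
  haveI : Subsingleton (PrimeSpectrum Γ(V, ⊤)) := ⟨fun p q => PrimeSpectrum.ext
    ((IsLocalRing.eq_maximalIdeal inferInstance).trans (IsLocalRing.eq_maximalIdeal inferInstance).symm)⟩
  haveI : Subsingleton ↥(Spec Γ(V, ⊤)) := inferInstanceAs (Subsingleton (PrimeSpectrum Γ(V, ⊤)))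
  haveI : Subsingleton V := V.isoSpec.hom.homeomorph.injective.subsingleton
  haveI : Subsingleton T := g.injective.subsingleton
  haveI : IsAffine T := inferInstance
  obtain ⟨φ, hφ⟩ := Spec.map_surjective (T.isoSpec.inv ≫ g ≫ V.isoSpec.hom)
  haveI : Mono (Spec.map φ) := by rw [hφ]; infer_instance
  haveI : Epi φ := ⟨fun a b h => Spec.map_injective ((cancel_mono (Spec.map φ)).1 (by
    rw [← Spec.map_comp, ← Spec.map_comp, h]))⟩
  letI := φ.hom.toAlgebra
  haveI : Algebra.IsEpi Γ(V, ⊤) Γ(T, ⊤) := CommRingCat.epi_iff_epi.1 (inferInstanceAs (Epi φ))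
  have : IsClosedImmersion (Spec.map φ) :=
    IsClosedImmersion.spec_of_surjective φ (surjective_of_isEpi_artinian Γ(V, ⊤) Γ(T, ⊤))
  have e : g = T.isoSpec.hom ≫ Spec.map φ ≫ V.isoSpec.inv := by simp [hφ]
  rw [e]; infer_instance

/-- A disjoint union of finite Artinian local schemes stays one after a monomorphism. -/
theorem lqfLft_of_mono {T U : Scheme.{u}} (g : T ⟶ U) [Mono g] (h : U ⟶ Spec (CommRingCat.of k))
    (hU : ∀ u : U, ∃ V : U.Opens, u ∈ V ∧ IsAffineOpen V ∧ IsArtinianRing Γ(U, V) ∧ IsLocalRing Γ(U, V) ∧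
      IsFinite (V.ι ≫ h)) :
    ((@LocallyQuasiFinite : MorphismProperty Scheme.{u}) ⊓ @LocallyOfFiniteType) (g ≫ h) := by
  choose V hV hVa hA hL hF using hU
  have hloc : ∀ u, IsFinite ((g ⁻¹ᵁ V u).ι ≫ g ≫ h) := fun u => by
    haveI := hF u
    haveI : IsAffine (V u).toScheme := hVa u
    haveI := hA u
    haveI := hL u
    haveI : IsArtinianRing Γ((V u).toScheme, ⊤) :=
      ((V u).topIso.symm.commRingCatIsoToRingEquiv).isArtinianRing
    haveI : IsLocalRing Γ((V u).toScheme, ⊤) :=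
      ((V u).topIso.symm.commRingCatIsoToRingEquiv).isLocalRing
    haveI : Mono ((g ⁻¹ᵁ V u).ι ≫ g) := inferInstance
    haveI : Mono ((g ∣_ V u) ≫ (V u).ι) := by rw [morphismRestrict_ι]; infer_instance
    haveI : Mono (g ∣_ V u) := mono_of_mono (g ∣_ V u) (V u).ι
    haveI := isClosedImmersion_of_mono (g ∣_ V u)
    rw [← morphismRestrict_ι_assoc]
    infer_instance
  let 𝒰 := T.openCoverOfIsOpenCover (fun u : U => g ⁻¹ᵁ V u) (by
    rw [TopologicalSpace.IsOpenCover, eq_top_iff]
    exact fun t _ => TopologicalSpace.Opens.mem_iSup.2 ⟨g t, hV (g t)⟩)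
  refine ⟨(IsZariskiLocalAtSource.iff_of_openCover (P := @LocallyQuasiFinite) 𝒰).2 fun u => ?_,
    (IsZariskiLocalAtSource.iff_of_openCover (P := @LocallyOfFiniteType) 𝒰).2 fun u => ?_⟩
  · haveI : IsFinite (𝒰.f u ≫ g ≫ h) := hloc u
    exact inferInstanceAs (LocallyQuasiFinite (𝒰.f u ≫ g ≫ h))
  · haveI : IsFinite (𝒰.f u ≫ g ≫ h) := hloc u
    exact inferInstanceAs (LocallyOfFiniteType (𝒰.f u ≫ g ≫ h))

variable {X Y : Sp (Spec (CommRingCat.of k))}

/-- Locally quasi-finite and locally of finite type. -/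
abbrev P₀ : MorphismProperty Scheme.{u} := @LocallyQuasiFinite ⊓ @LocallyOfFiniteType

theorem chart_prop {p : X ⟶ (yon (Spec (CommRingCat.of k))).obj (Over.mk (𝟙 _))} (hp : LocP P₀ p)
    {U : Over (Spec (CommRingCat.of k))} {a : (yon _).obj U ⟶ X} (ha : RepWith @Etale a) : P₀ U.hom := by
  obtain ⟨φ, hφ⟩ := (yon (Spec (CommRingCat.of k))).map_surjective (a ≫ p)
  have h := hp a (𝟙 _) φ ha (repWith_id _ _) (by rw [Category.comp_id, hφ])
  rwa [show φ.left = U.hom by simpa using Over.w φ] at h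

theorem discrete_of_prop {U : Scheme.{u}} {h : U ⟶ Spec (CommRingCat.of k)} (hh : P₀ h) : DiscreteTopology U := by
  have := hh.1
  refine discreteTopology_iff_isOpen_singleton.2 fun z => ?_
  have hd := h.isDiscrete_preimage_singleton (h z)
  rw [show h ⁻¹' {h z} = Set.univ from Set.eq_univ_of_forall fun w => Subsingleton.elim (α := PrimeSpectrum k) _ _] at hd
  have := (Homeomorph.Set.univ U).discreteTopology_iff.1 hd.to_subtype
  exact isOpen_discrete _

/-- The local structure of schemes locally quasi-finite over a field. -/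
theorem artinian_nhd {U : Scheme.{u}} {h : U ⟶ Spec (CommRingCat.of k)} (hh : P₀ h) (u : U) :
    ∃ V : U.Opens, u ∈ V ∧ IsAffineOpen V ∧ IsArtinianRing Γ(U, V) ∧ IsLocalRing Γ(U, V) ∧ IsFinite (V.ι ≫ h) := by
  have := discrete_of_prop hh
  have := hh.1
  have := hh.2
  let V : U.Opens := ⟨{u}, isOpen_discrete _⟩
  haveI : Subsingleton V.toScheme := ⟨fun a b => Subtype.ext (a.2.trans b.2.symm)⟩
  haveI : IsAffine V.toScheme := inferInstance
  have hV : IsAffineOpen V := ‹_›
  haveI : IsLocallyNoetherian U := LocallyOfFiniteType.isLocallyNoetherian h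
  haveI : IsLocallyArtinian U := IsLocallyArtinian.iff_isLocallyNoetherian_and_discreteTopology.2 ⟨‹_›, ‹_›⟩
  haveI : IsArtinianRing Γ(U, V) := IsLocallyArtinian.isArtinianRing_presheaf_obj ⟨V, hV⟩
  have hn : Nonempty (PrimeSpectrum Γ(U, V)) := ⟨hV.isoSpec.hom (⟨u, rfl⟩ : V)⟩
  haveI : Nontrivial Γ(U, V) := PrimeSpectrum.nonempty_iff_nontrivial.1 hn
  haveI : Subsingleton (PrimeSpectrum Γ(U, V)) := hV.isoSpec.inv.homeomorph.injective.subsingleton
  have hloc : IsLocalRing Γ(U, V) := by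
    obtain ⟨M, hM⟩ := Ideal.exists_maximal Γ(U, V)
    exact IsLocalRing.of_unique_max_ideal ⟨M, hM, fun N hN =>
      congrArg PrimeSpectrum.asIdeal (Subsingleton.elim (⟨N, hN.isPrime⟩ : PrimeSpectrum Γ(U, V)) ⟨M, hM.isPrime⟩)⟩
  haveI : QuasiCompact (V.ι ≫ h) := (HasAffineProperty.iff_of_isAffine (P := @QuasiCompact)).2 inferInstance
  haveI : IsLocallyArtinian (Spec (CommRingCat.of k)) := Scheme.isLocallyArtinianScheme_Spec.2 inferInstance
  exact ⟨V, rfl, hV, inferInstance, hloc, IsFinite.of_locallyQuasiFinite _⟩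

theorem exists_scheme (hX : IsAlgSpace X) {p : X ⟶ (yon (Spec (CommRingCat.of k))).obj (Over.mk (𝟙 _))}
    (hp : LocP P₀ p) :
    ∃ (U : Over (Spec (CommRingCat.of k))) (_ : (yon _).obj U ≅ X), P₀ U.hom := by
  have hd : AlgSp.dim X ≤ 0 := iSup_le fun U => iSup_le fun a => iSup_le fun ha => by
    have := discrete_of_prop (chart_prop hp ha)
    exact topologicalKrullDim_zero_of_discreteTopology U.left
  obtain ⟨G, θ, hθ⟩ := OpenCharts.exists_scheme_of_open_charts hX
    (DimZero.schemePt_of_field hX hd fun U a ha => (chart_prop hp ha).2)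
  exact ⟨G, asIso θ, chart_prop hp (repWith_of_isIso (P := (@Etale : MorphismProperty Scheme.{u})) θ)⟩

theorem locP_of_iso (p : X ⟶ (yon (Spec (CommRingCat.of k))).obj (Over.mk (𝟙 _)))
    {U : Over (Spec (CommRingCat.of k))} (e : (yon _).obj U ≅ X) (hU : P₀ U.hom) : LocP P₀ p := by
  obtain ⟨φ, hφ⟩ := (yon (Spec (CommRingCat.of k))).map_surjective (e.hom ≫ p)
  refine locP_of_chart etLocal_lqfLft (h := φ) (repWith_of_isIso (P := (@Etale : MorphismProperty Scheme.{u})) e.hom)
    (repWith_of_isIso (P := (@Surjective : MorphismProperty Scheme.{u})) e.hom) (repWith_id _ _)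
    (by rw [Category.comp_id, hφ]) ?_
  rwa [show φ.left = U.hom by simpa using Over.w φ]

theorem iff_union_artinian (hX : IsAlgSpace X) (p : X ⟶ (yon (Spec (CommRingCat.of k))).obj (Over.mk (𝟙 _))) :
    LocP P₀ p ↔ ∃ (U : Over (Spec (CommRingCat.of k))) (_ : (yon _).obj U ≅ X), ∀ u : U.left, ∃ V : U.left.Opens,
        u ∈ V ∧ IsAffineOpen V ∧ IsArtinianRing Γ(U.left, V) ∧ IsLocalRing Γ(U.left, V) ∧ IsFinite (V.ι ≫ U.hom) := by
  refine ⟨fun hp => ?_, fun ⟨U, e, hU⟩ => locP_of_iso p e ?_⟩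
  · obtain ⟨U, e, hU⟩ := exists_scheme hX hp
    exact ⟨U, e, artinian_nhd hU⟩
  · simpa using lqfLft_of_mono (𝟙 U.left) U.hom hU

theorem lqf_of_mono (hX : IsAlgSpace X) (hY : IsAlgSpace Y) (f : X ⟶ Y) [Mono f]
    {q : Y ⟶ (yon (Spec (CommRingCat.of k))).obj (Over.mk (𝟙 _))} (hq : LocP P₀ q) : LocP P₀ (f ≫ q) := by
  obtain ⟨U, e, hU⟩ := exists_scheme hY hq
  have := discrete_of_prop hU
  obtain ⟨T, ⟨eT⟩⟩ := isRepresentable_iff_exists_iso.1
    (MonoDiscrete.isRepresentable_of_mono_discrete hX (f ≫ e.inv))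
  obtain ⟨g, hg⟩ := (yon (Spec (CommRingCat.of k))).map_surjective (eT.hom ≫ f ≫ e.inv)
  haveI : Mono ((yon (Spec (CommRingCat.of k))).map g) := by rw [hg]; infer_instance
  haveI : Mono g := (yon (Spec (CommRingCat.of k))).mono_of_mono_map ‹_›
  haveI : Mono g.left := Over.mono_left_of_mono g
  refine locP_of_iso (f ≫ q) eT ?_
  rw [← Over.w g]
  exact lqfLft_of_mono g.left U.hom (artinian_nhd hU)

end Groth.L23.LqfField
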