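import Groth.Agent.L23.LqfRing
import Groth.Agent.L20.Weight.SplitAlg
import Mathlib.FieldTheory.IsAlgClosed.AlgebraicClosure
import Mathlib.AlgebraicGeometry.Morphisms.QuasiFinite
import Mathlib.AlgebraicGeometry.Morphisms.Finite
import Mathlib.AlgebraicGeometry.Morphisms.Etale
import Mathlib.AlgebraicGeometry.Pullbacks

/-!
# Finite pieces with one geometric point of a quasi-finite affine morphism
-/

universe u

open CategoryTheory CategoryTheory.Limits AlgebraicGeometry TensorProduct

set_option backward.isDefEq.respectTransparency.types false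
set_option linter.style.haveILetI false

namespace Groth.L23.Lqf

/-- An etale neighbourhood splitting off a finite piece without off-diagonal pairs over the point. -/
theorem exists_piece_alg {A C : Type u} [CommRing A] [CommRing C] [Algebra A C] [Algebra.FiniteType A C]
    (q : Ideal C) [q.IsPrime] [Algebra.QuasiFiniteAt A q] :
    ∃ (A' : Type u) (_ : CommRing A') (_ : Algebra A A') (_ : Algebra.Etale A A') (P : Ideal A')
      (_ : P.IsPrime) (e : A' ⊗[A] C), IsIdempotentElem e ∧ Module.Finite A' (Localization.Away e) ∧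
      (∃ Q : Ideal (Localization.Away e), Q.IsPrime ∧ Q.comap (algebraMap A' _) = P ∧
        Q.comap ((algebraMap (A' ⊗[A] C) _).comp
          (Algebra.TensorProduct.includeRight : C →ₐ[A] A' ⊗[A] C).toRingHom) = q) ∧
      ∀ Q : Ideal (Localization.Away e ⊗[A'] Localization.Away e), Q.IsPrime → Q.comap (algebraMap A' _) = P →
        RingHom.ker (Algebra.TensorProduct.lmul' A' (S := Localization.Away e)).toRingHom ≤ Q := by
  let Ω := AlgebraicClosure q.ResidueField
  let φ : C →ₐ[A] Ω := IsScalarTower.toAlgHom A C Ω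
  have hφ : RingHom.ker φ = q := by
    ext x
    rw [RingHom.mem_ker]
    show algebraMap C Ω x = 0 ↔ _
    rw [IsScalarTower.algebraMap_apply C q.ResidueField Ω, map_eq_zero, Ideal.algebraMap_residueField_eq_zero]
  have : (RingHom.ker φ).IsPrime := RingHom.ker_isPrime _
  have : Algebra.QuasiFiniteAt A (RingHom.ker φ) := by
    convert ‹Algebra.QuasiFiniteAt A q›
  obtain ⟨A', _, _, _, χ, e, he, hfin, hφe, huniq⟩ := Groth.L20.Weight.exists_etale_idem_single φ
  let P := RingHom.ker χ
  have : P.IsPrime := RingHom.ker_isPrime _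
  let C₁ := Localization.Away e
  letI := χ.toRingHom.toAlgebra
  haveI : IsScalarTower A A' Ω := IsScalarTower.of_algebraMap_eq fun r => (χ.commutes r).symm
  let E : ∀ θ : C →ₐ[A] Ω, A' ⊗[A] C →ₐ[A'] Ω := fun θ =>
    { toRingHom := (Groth.L20.Weight.ev χ θ).toRingHom
      commutes' := fun r => by simp [Groth.L20.Weight.ev, RingHom.algebraMap_toAlgebra] }
  let E₁ : C₁ →ₐ[A'] Ω := IsLocalization.Away.liftAlgHom e (f := E φ) (Ne.isUnit hφe)
  have hsingle : ∀ θ : C₁ →ₐ[A'] Ω, θ = E₁ := fun θ => by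
    let θ' : A' ⊗[A] C →ₐ[A'] Ω := θ.comp (IsScalarTower.toAlgHom A' (A' ⊗[A] C) C₁)
    let ψ : C →ₐ[A] Ω := (θ'.restrictScalars A).comp Algebra.TensorProduct.includeRight
    have hψ : ∀ z, Groth.L20.Weight.ev χ ψ z = θ' z := fun z => by
      induction z using TensorProduct.induction_on with
      | zero => simp
      | add a b ha hb => simp only [map_add, ha, hb]
      | tmul a c =>
        have : θ' (a ⊗ₜ c) = χ a * θ' (1 ⊗ₜ c) := by
          rw [show (a ⊗ₜ[A] c : A' ⊗[A] C) = a • ((1 : A') ⊗ₜ c) by simp [TensorProduct.smul_tmul'],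
            map_smul, Algebra.smul_def]
          rfl
        rw [this]
        simp [Groth.L20.Weight.ev, ψ]
    have hψe : Groth.L20.Weight.ev χ ψ e ≠ 0 := by
      rw [hψ]
      exact (IsUnit.map θ.toRingHom (IsLocalization.Away.algebraMap_isUnit (S := C₁) e)).ne_zero
    refine AlgHom.coe_ringHom_injective (IsLocalization.ringHom_ext (Submonoid.powers e) ?_)
    refine RingHom.ext fun z => ?_
    refine ((hψ z).symm.trans ?_).trans
      (IsLocalization.Away.lift_eq (S := C₁) e (g := (E φ).toRingHom) (Ne.isUnit hφe) z).symm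
    rw [huniq ψ hψe]
    rfl
  refine ⟨A', inferInstance, inferInstance, inferInstance, P, inferInstance, e, he, hfin, ⟨RingHom.ker E₁,
    RingHom.ker_isPrime _, ?_, ?_⟩, fun Q hQ hQP => ?_⟩
  · ext a
    simp [P, RingHom.algebraMap_toAlgebra]
  · refine Eq.trans ?_ hφ
    ext c
    simp only [Ideal.mem_comap, RingHom.mem_ker, RingHom.comp_apply, E₁]
    rw [IsLocalization.Away.coe_liftAlgHom, IsLocalization.Away.lift_eq]
    simp [E, Groth.L20.Weight.ev]
  · let T := C₁ ⊗[A'] C₁
    haveI : Q.LiesOver P := ⟨hQP.symm⟩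
    haveI : Algebra.IsIntegral A' T := inferInstance
    letI : Algebra (A' ⧸ P) Ω := (Ideal.Quotient.lift P (algebraMap A' Ω) fun a ha => ha).toAlgebra
    haveI : IsScalarTower A' (A' ⧸ P) Ω := IsScalarTower.of_algebraMap_eq fun a => rfl
    haveI : FaithfulSMul (A' ⧸ P) Ω := (faithfulSMul_iff_algebraMap_injective _ _).2
      (RingHom.lift_injective_of_ker_le_ideal P (f := algebraMap A' Ω) (fun a ha => ha) le_rfl)
    haveI : FaithfulSMul (A' ⧸ P) (T ⧸ Q) := inferInstance
    haveI : Algebra.IsIntegral (A' ⧸ P) (T ⧸ Q) := inferInstance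
    let τ₀ : T ⧸ Q →ₐ[A' ⧸ P] Ω := IsAlgClosed.lift (R := A' ⧸ P) (S := T ⧸ Q) (M := Ω)
    let τ : T →ₐ[A'] Ω := (τ₀.restrictScalars A').comp (Ideal.Quotient.mkₐ A' Q)
    have hl : τ.comp Algebra.TensorProduct.includeLeft = E₁ := hsingle _
    have hr : τ.comp Algebra.TensorProduct.includeRight = E₁ := hsingle _
    have hτ : τ = E₁.comp (Algebra.TensorProduct.lmul' A' (S := C₁)) := by
      refine Algebra.TensorProduct.ext ?_ ?_
      · rw [hl]; ext x; simp
      · show τ.comp Algebra.TensorProduct.includeRight =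
          (E₁.comp (Algebra.TensorProduct.lmul' A' (S := C₁))).comp Algebra.TensorProduct.includeRight
        rw [hr]; ext x; simp
    intro z hz
    have h0 : τ₀ (Ideal.Quotient.mk Q z) = 0 := by
      show τ z = 0
      rw [hτ]
      show E₁ (Algebra.TensorProduct.lmul' A' z) = 0
      rw [show Algebra.TensorProduct.lmul' A' z = 0 from hz, map_zero]
    have hinj : Function.Injective τ₀ := by
      refine (RingHom.injective_iff_ker_eq_bot τ₀.toRingHom).2 ?_
      have := RingHom.ker_isPrime τ₀.toRingHom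
      refine Ideal.eq_bot_of_comap_eq_bot (R := A' ⧸ P) (S := T ⧸ Q) ?_
      refine (RingHom.comap_ker _ _).trans ((RingHom.injective_iff_ker_eq_bot _).1 ?_)
      rw [τ₀.toRingHom_eq_coe, AlgHom.comp_algebraMap]
      exact FaithfulSMul.algebraMap_injective _ _
    exact Ideal.Quotient.eq_zero_iff_mem.1 (hinj (h0.trans (map_zero τ₀).symm))

end Groth.L23.Lqf

namespace Groth.L23.Lqf

/-- Finite pieces of a quasi-finite morphism of affine schemes. -/
theorem exists_piece {U W : Scheme.{u}} [IsAffine U] [IsAffine W] (h : U ⟶ W) [LocallyQuasiFinite h]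
    [LocallyOfFiniteType h] (u : U) :
    ∃ (T' U₁ : Scheme.{u}) (v : T' ⟶ W) (t : T') (f : U₁ ⟶ T') (k₁ : U₁ ⟶ U) (w : k₁ ≫ h = f ≫ v),
      IsAffine T' ∧ IsAffine U₁ ∧ Etale v ∧ IsFinite f ∧
      (∀ {Q : Scheme.{u}} (fst : Q ⟶ U) (snd : Q ⟶ T') (sq : IsPullback fst snd h v),
        IsOpenImmersion (sq.lift k₁ f w)) ∧
      (∃ z : U₁, f z = t ∧ k₁ z = u) ∧
      ∀ y : ↑(pullback f f), (pullback.fst f f ≫ f) y = t → y ∈ Set.range (pullback.diagonal f) := by
  let A : Type u := Γ(W, ⊤)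
  let C : Type u := Γ(U, ⊤)
  letI : Algebra A C := h.appTop.hom.toAlgebra
  have : Algebra.FiniteType A C :=
    (HasRingHomProperty.iff_of_isAffine (P := @LocallyOfFiniteType)).1 (inferInstanceAs (LocallyOfFiniteType h))
  have : Algebra.QuasiFinite A C :=
    (HasRingHomProperty.iff_of_isAffine (P := @LocallyQuasiFinite)).1 (inferInstanceAs (LocallyQuasiFinite h))
  let p : PrimeSpectrum C := U.isoSpec.hom u
  obtain ⟨A', _, _, _, P, _, e, -, hfin, ⟨Q₀, hQ₀, hQP, hQu⟩, hdiag⟩ :=
    exists_piece_alg (A := A) (C := C) p.asIdeal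
  let C₁ := Localization.Away e
  let ia : Spec (CommRingCat.of A') ⟶ Spec (CommRingCat.of A) := Spec.map (CommRingCat.ofHom (algebraMap A A'))
  let ic : Spec (CommRingCat.of C) ⟶ Spec (CommRingCat.of A) := Spec.map (CommRingCat.ofHom (algebraMap A C))
  let v : Spec (CommRingCat.of A') ⟶ W := ia ≫ W.isoSpec.inv
  have hv : Etale v := by
    have : Etale ia := (HasRingHomProperty.Spec_iff (P := @Etale)).2 (RingHom.etale_algebraMap.2 inferInstance)
    show Etale (ia ≫ W.isoSpec.inv)
    infer_instance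
  let f : Spec (CommRingCat.of C₁) ⟶ Spec (CommRingCat.of A') := Spec.map (CommRingCat.ofHom (algebraMap A' C₁))
  let jC : C →+* C₁ := (algebraMap (A' ⊗[A] C) C₁).comp
    (Algebra.TensorProduct.includeRight : C →ₐ[A] A' ⊗[A] C).toRingHom
  let k₁ : Spec (CommRingCat.of C₁) ⟶ U := Spec.map (CommRingCat.ofHom jC) ≫ U.isoSpec.inv
  have hh : h = U.isoSpec.hom ≫ ic ≫ W.isoSpec.inv := by
    rw [← Category.assoc, Iso.eq_comp_inv]
    exact (Scheme.isoSpec_hom_naturality h).symm
  have w : k₁ ≫ h = f ≫ v := by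
    simp only [k₁, v, f, ia, ic, hh, Category.assoc, Iso.inv_hom_id_assoc]
    rw [← Spec.map_comp_assoc, ← Spec.map_comp_assoc]
    congr 2
    ext a
    show algebraMap (A' ⊗[A] C) C₁ ((1 : A') ⊗ₜ algebraMap A C a) = algebraMap A' C₁ (algebraMap A A' a)
    rw [IsScalarTower.algebraMap_apply A' (A' ⊗[A] C) C₁]
    congr 1
    exact (Algebra.TensorProduct.includeRight.commutes a).trans
      (IsScalarTower.algebraMap_apply A A' (A' ⊗[A] C) a)
  refine ⟨_, _, v, ⟨P, inferInstance⟩, f, k₁, w, inferInstance, inferInstance, hv, ?_, ?_,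
    ⟨⟨Q₀, hQ₀⟩, PrimeSpectrum.ext hQP, ?_⟩, fun y hy => ?_⟩
  · rw [IsFinite.SpecMap_iff, CommRingCat.hom_ofHom, RingHom.finite_algebraMap]
    exact hfin
  · intro Q fst snd sq
    have sq₀ : IsPullback ((pullbackSpecIso A A' C).inv ≫ pullback.snd _ _ ≫ U.isoSpec.inv)
        ((pullbackSpecIso A A' C).inv ≫ pullback.fst _ _) h v := by
      refine (IsPullback.of_hasPullback ia ic).flip.of_iso (pullbackSpecIso A A' C) U.isoSpec.symm (Iso.refl _)
        W.isoSpec.symm (by simp [ia, ic]) (by simp [ia, ic]) (by simp [hh]) (by simp [v])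
    let i : Spec (CommRingCat.of C₁) ⟶ Spec (CommRingCat.of (A' ⊗[A] C)) :=
      Spec.map (CommRingCat.ofHom (algebraMap (A' ⊗[A] C) C₁))
    have : IsOpenImmersion i := IsOpenImmersion.of_isLocalization e
    have e₁ : sq.lift k₁ f w = i ≫ (sq₀.isoIsPullback _ _ sq).hom := by
      refine sq.hom_ext ?_ ?_
      · rw [sq.lift_fst, Category.assoc, IsPullback.isoIsPullback_hom_fst, pullbackSpecIso_inv_snd_assoc]
        simp only [i, k₁, jC, ← Spec.map_comp_assoc]
        rfl
      · rw [sq.lift_snd, Category.assoc, IsPullback.isoIsPullback_hom_snd, pullbackSpecIso_inv_fst']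
        simp only [i, f, ← Spec.map_comp]
        congr 1
    rw [e₁]
    infer_instance
  · show U.isoSpec.inv (Spec.map (CommRingCat.ofHom jC) ⟨Q₀, hQ₀⟩) = u
    have : Spec.map (CommRingCat.ofHom jC) ⟨Q₀, hQ₀⟩ = p := PrimeSpectrum.ext hQu
    rw [this]
    show (U.isoSpec.hom ≫ U.isoSpec.inv) u = u
    rw [Iso.hom_inv_id]
    rfl
  · obtain ⟨Q, rfl⟩ : ∃ Q, (pullbackSpecIso A' C₁ C₁).inv Q = y :=
      ⟨(pullbackSpecIso A' C₁ C₁).hom y, by rw [← Scheme.Hom.comp_apply, Iso.hom_inv_id]; rfl⟩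
    have hQ : Q.asIdeal.comap (algebraMap A' (C₁ ⊗[A'] C₁)) = P := by
      rw [← Scheme.Hom.comp_apply, pullbackSpecIso_inv_fst'_assoc] at hy
      simp only [f, ← Spec.map_comp] at hy
      have := congr_arg PrimeSpectrum.asIdeal hy
      refine Eq.trans ?_ this
      rfl
    have hsurj : Function.Surjective (Algebra.TensorProduct.lmul' A' (S := C₁)).toRingHom :=
      fun x => ⟨x ⊗ₜ 1, by simp⟩
    obtain ⟨z, hz⟩ := (range_comap_of_surjective _ _ hsurj).ge
      (show Q ∈ PrimeSpectrum.zeroLocus ↑(RingHom.ker (Algebra.TensorProduct.lmul' A' (S := C₁)).toRingHom) from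
        hdiag Q.asIdeal Q.2 hQ)
    refine ⟨z, ?_⟩
    rw [show pullback.diagonal f = _ from diagonal_SpecMap (R := A') (S := C₁), Scheme.Hom.comp_apply]
    exact congr_arg _ hz

end Groth.L23.Lqf
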