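import Mathlib.RingTheory.Smooth.IntegralClosure
import Mathlib.RingTheory.Etale.Basic
import Mathlib.RingTheory.Flat.Basic
import Mathlib.RingTheory.RingHom.Integral
import Mathlib.RingTheory.LocalRing.ResidueField.Basic

/-!
# The equalised integral closure and its etale base change
-/

universe u

open TensorProduct

namespace Groth.L23.Lqf

variable {A C D : Type u} [CommRing A] [CommRing C] [CommRing D] [Algebra A C] [Algebra A D]

/-- The integral elements equalised by two maps. -/
def eqInt (p q : C →ₐ[A] D) : Subalgebra A C := integralClosure A C ⊓ AlgHom.equalizer p q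

lemma mem_eqInt {p q : C →ₐ[A] D} {x : C} : x ∈ eqInt p q ↔ IsIntegral A x ∧ p x = q x := Iff.rfl

/-- The equalised integral closure commutes with smooth base change. -/
theorem eqInt_baseChange (A' : Type u) [CommRing A'] [Algebra A A'] [Algebra.Smooth A A'] (p q : C →ₐ[A] D) :
    Function.Injective (Algebra.TensorProduct.map (AlgHom.id A' A') (eqInt p q).val) ∧
      ∀ x : A' ⊗[A] C, x ∈ (Algebra.TensorProduct.map (AlgHom.id A' A') (eqInt p q).val).range ↔
        IsIntegral A' x ∧ Algebra.TensorProduct.map (AlgHom.id A' A') p x =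
          Algebra.TensorProduct.map (AlgHom.id A' A') q x := by
  have hfl : Module.Flat A A' := inferInstance
  refine ⟨?_, fun x => ⟨?_, ?_⟩⟩
  · exact Module.Flat.lTensor_preserves_injective_linearMap (M := A') (eqInt p q).val.toLinearMap
      Subtype.val_injective
  · rintro ⟨y, rfl⟩
    induction y using TensorProduct.induction_on with
    | zero => simp [isIntegral_zero]
    | add a b ha hb => exact ⟨by rw [map_add]; exact ha.1.add hb.1, by simp only [map_add, ha.2, hb.2]⟩
    | tmul a b =>
      refine ⟨?_, ?_⟩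
      · have h1 : IsIntegral A' ((1 : A') ⊗ₜ[A] (b : C)) :=
          (b.2.1.map (Algebra.TensorProduct.includeRight (R := A) (A := A'))).tower_top
        have := h1.smul a
        simpa [TensorProduct.smul_tmul'] using this
      · simp [show p (b : C) = q b from b.2.2]
  · rintro ⟨hx, he⟩
    obtain ⟨z, hz⟩ := (TensorProduct.toIntegralClosure_bijective_of_smooth (R := A) (S := A') (B := C)).2
      ⟨x, hx⟩
    let ι : eqInt p q →ₗ[A] integralClosure A C :=
      (Subalgebra.inclusion (inf_le_left : eqInt p q ≤ integralClosure A C)).toLinearMap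
    let f : integralClosure A C →ₗ[A] D :=
      (p.toLinearMap - q.toLinearMap) ∘ₗ (integralClosure A C).val.toLinearMap
    have hex : Function.Exact ι f := fun c => by
      simp only [f, ι, LinearMap.comp_apply, LinearMap.sub_apply, AlgHom.toLinearMap_apply, sub_eq_zero,
        Subalgebra.coe_val, Set.mem_range]
      exact ⟨fun h => ⟨⟨c.1, c.2, h⟩, Subtype.ext rfl⟩, by rintro ⟨y, rfl⟩; exact y.2.2⟩
    have hxz : Algebra.TensorProduct.map (AlgHom.id A' A') (integralClosure A C).val z = x := by
      simpa [TensorProduct.toIntegralClosure] using congr_arg Subtype.val hz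
    have hz0 : f.lTensor A' z = 0 := by
      have : ∀ w, f.lTensor A' w = Algebra.TensorProduct.map (AlgHom.id A' A') p
          (Algebra.TensorProduct.map (AlgHom.id A' A') (integralClosure A C).val w) -
          Algebra.TensorProduct.map (AlgHom.id A' A') q
            (Algebra.TensorProduct.map (AlgHom.id A' A') (integralClosure A C).val w) := fun w => by
        induction w using TensorProduct.induction_on with
        | zero => simp
        | add a b ha hb => simp only [map_add, ha, hb]; abel
        | tmul a b => simp [f, TensorProduct.tmul_sub]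
      rw [this, hxz, he, sub_self]
    obtain ⟨y, rfl⟩ := ((Module.Flat.lTensor_exact A' hex) z).1 hz0
    refine ⟨y, ?_⟩
    rw [← hxz]
    have : ∀ y, Algebra.TensorProduct.map (AlgHom.id A' A') (eqInt p q).val y =
        Algebra.TensorProduct.map (AlgHom.id A' A') (integralClosure A C).val (ι.lTensor A' y) := fun y => by
      induction y using TensorProduct.induction_on with
      | zero => simp
      | add a b ha hb => simp only [map_add, ha, hb]
      | tmul a b => rfl
    exact this y

/-- The piece split off by an idempotent. -/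
theorem isLocalizationAway_of_split {B C₁ : Type u} [CommRing B] [CommRing C₁] [Algebra B C₁] (ε : B)
    (h1 : algebraMap B C₁ ε = 1) (hsurj : Function.Surjective (algebraMap B C₁))
    (hker : ∀ x, algebraMap B C₁ x = 0 → ε * x = 0) : IsLocalization.Away ε C₁ := by
  refine ⟨?_, fun z => ?_, fun {x y} h => ?_⟩
  · rintro ⟨_, n, rfl⟩
    simp [h1]
  · obtain ⟨x, rfl⟩ := hsurj z
    exact ⟨(x, ⟨ε, 1, pow_one ε⟩), by simp [h1]⟩
  · exact ⟨⟨ε, 1, pow_one ε⟩, sub_eq_zero.1 (by rw [← mul_sub]; exact hker _ (by rw [map_sub, h, sub_self]))⟩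

lemma eq_one_of_idempotent_unit {R : Type*} [CommRing R] {x : R} (h : IsIdempotentElem x) (hu : IsUnit x) :
    x = 1 :=
  hu.mul_left_cancel (by rw [mul_one]; exact h)

lemma mul_eq_mul_of_away {R L : Type*} [CommRing R] [CommRing L] [Algebra R L] (g : R) [IsLocalization.Away g L]
    (hg : IsIdempotentElem g) {x y : R} (h : algebraMap R L x = algebraMap R L y) : g * x = g * y := by
  obtain ⟨⟨_, n, rfl⟩, hn⟩ := (IsLocalization.eq_iff_exists (Submonoid.powers g) L).1 h
  have := congr_arg (g * ·) hn
  dsimp only at this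
  rwa [← mul_assoc, ← mul_assoc, ← pow_succ', hg.pow_succ_eq] at this

/-- The ring-theoretic core of the splitting of the equalised integral closure. -/
theorem split_data (A' : Type u) [CommRing A'] [Algebra A A'] [Algebra.Smooth A A'] (p q : C →ₐ[A] D)
    (P Q : A' ⊗[A] C →+* A' ⊗[A] D) (hP : P = (Algebra.TensorProduct.map (AlgHom.id A' A') p).toRingHom)
    (hQ : Q = (Algebra.TensorProduct.map (AlgHom.id A' A') q).toRingHom)
    {e : A' ⊗[A] C} (he : IsIdempotentElem e) (heq : P e = Q e)
    (L : Type u) [CommRing L] [Algebra (A' ⊗[A] C) L] [IsLocalization.Away e L]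
    {C₁ : Type u} [CommRing C₁] (ψ : A' ⊗[A] C →+* C₁) (hint : (ψ.comp (algebraMap A' _)).IsIntegral)
    (α : C₁ →+* L) (hα : (α.comp ψ).comp (algebraMap A' _) = (algebraMap (A' ⊗[A] C) L).comp (algebraMap A' (A' ⊗[A] C)))
    (σ : A' ⊗[A] D →+* L) (hσP : σ.comp P = algebraMap (A' ⊗[A] C) L) (hσQ : σ.comp Q = α.comp ψ)
    (L' : Type u) [CommRing L'] [Algebra (A' ⊗[A] D) L'] [IsLocalization.Away (P e) L']
    (γ₁ γ₂ : L →+* L') (hγ₁ : γ₁.comp (algebraMap (A' ⊗[A] C) L) = (algebraMap (A' ⊗[A] D) L').comp P)
    (hγ₂ : γ₂.comp (algebraMap (A' ⊗[A] C) L) = (algebraMap (A' ⊗[A] D) L').comp Q) (hγ : γ₁.comp α = γ₂.comp α)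
    (ω : L →+* C₁) (hω : ω.comp (algebraMap (A' ⊗[A] C) L) = ψ) (hωα : ω.comp α = RingHom.id C₁) :
    ∃ ε : A' ⊗[A] eqInt p q, (Algebra.TensorProduct.map (AlgHom.id A' A') (eqInt p q).val) ε = e ∧
      letI := (ψ.comp (Algebra.TensorProduct.map (AlgHom.id A' A') (eqInt p q).val).toRingHom).toAlgebra
      IsLocalization.Away ε C₁ := by
  obtain ⟨-, hrange⟩ := eqInt_baseChange A' p q
  have heint : IsIntegral A' e := by
    refine ⟨Polynomial.X ^ 2 - Polynomial.X, Polynomial.monic_X_pow_sub (Polynomial.degree_X_le.trans_lt (by norm_num)), ?_⟩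
    simp [sq, he.eq]
  obtain ⟨ε, hε⟩ := (hrange e).2 ⟨heint, by subst hP hQ; exact heq⟩
  refine ⟨ε, hε, ?_⟩
  let := (ψ.comp (Algebra.TensorProduct.map (AlgHom.id A' A') (eqInt p q).val).toRingHom).toAlgebra
  have hψe : ψ e = 1 := by
    refine eq_one_of_idempotent_unit (he.map ψ) ?_
    rw [← hω]
    exact (IsLocalization.Away.algebraMap_isUnit (S := L) e).map ω
  refine isLocalizationAway_of_split ε (by
    rw [RingHom.algebraMap_toAlgebra, RingHom.comp_apply]
    exact (congr_arg ψ hε).trans hψe) (fun c₁ => ?_)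
    fun x hx => ?_
  · obtain ⟨l, hl⟩ := IsLocalization.Away.algebraMap_surjective_of_isIdempotentElem (S := L) e he (α c₁)
    have hPQ : P e * P l = P e * Q l := by
      refine mul_eq_mul_of_away (L := L') (P e) (he.map P) ?_
      have := RingHom.congr_fun hγ c₁
      rw [RingHom.comp_apply, RingHom.comp_apply, ← hl] at this
      exact (RingHom.congr_fun hγ₁ l).symm.trans (this.trans (RingHom.congr_fun hγ₂ l))
    have hint' : IsIntegral A' (e * l) := by
      obtain ⟨F, hF, hF0⟩ := hint c₁
      refine ⟨Polynomial.X * F, Polynomial.monic_X.mul hF, ?_⟩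
      have hLF : algebraMap (A' ⊗[A] C) L (F.eval₂ (algebraMap A' _) (e * l)) = 0 := by
        rw [Polynomial.hom_eval₂, ← hα, map_mul, hl, RingHom.comp_assoc,
          show algebraMap (A' ⊗[A] C) L e = 1 from eq_one_of_idempotent_unit (he.map _)
            (IsLocalization.Away.algebraMap_isUnit e), one_mul, ← Polynomial.hom_eval₂, hF0, map_zero]
      have := mul_eq_mul_of_away (L := L) e he (x := F.eval₂ (algebraMap A' _) (e * l)) (y := 0)
        (by rw [hLF, map_zero])
      rw [Polynomial.eval₂_mul, Polynomial.eval₂_X, mul_comm e l, mul_assoc, mul_comm l e, this, mul_zero,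
        mul_zero]
    obtain ⟨c, hc⟩ := (hrange (e * l)).2 ⟨hint', by
      have : P (e * l) = Q (e * l) := by rw [map_mul, map_mul, ← heq, hPQ]
      subst hP hQ
      exact this⟩
    refine ⟨c, ?_⟩
    rw [RingHom.algebraMap_toAlgebra, RingHom.comp_apply]
    show ψ (Algebra.TensorProduct.map _ _ c) = _
    rw [show Algebra.TensorProduct.map (AlgHom.id A' A') (eqInt p q).val c = e * l from hc, map_mul, hψe, one_mul,
      ← hω, RingHom.comp_apply, hl]
    exact RingHom.congr_fun hωα c₁
  · rw [RingHom.algebraMap_toAlgebra, RingHom.comp_apply] at hx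
    let X := Algebra.TensorProduct.map (AlgHom.id A' A') (eqInt p q).val x
    have hXeq : P X = Q X := by
      have := ((hrange X).1 ⟨x, rfl⟩).2
      subst hP hQ
      exact this
    have : algebraMap (A' ⊗[A] C) L X = algebraMap (A' ⊗[A] C) L 0 := by
      rw [← hσP, RingHom.comp_apply, hXeq, ← RingHom.comp_apply, hσQ, RingHom.comp_apply,
        show ψ X = 0 from hx]
      simp
    refine (eqInt_baseChange A' p q).1 ?_
    rw [map_mul, show Algebra.TensorProduct.map (AlgHom.id A' A') (eqInt p q).val ε = e from hε, map_zero]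
    exact (mul_eq_mul_of_away (L := L) e he this).trans (mul_zero e)

end Groth.L23.Lqf
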