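import Groth.Agent.L23.MVCover
import Groth.Prelude.Def_W4SpPerfMV

/-!
# The Mayer–Vietoris sequence of direct images
-/

universe u

open CategoryTheory CategoryTheory.Limits AlgebraicGeometry Opposite AlgSp

set_option autoImplicit false
set_option linter.style.haveILetI false
set_option backward.isDefEq.respectTransparency false
set_option backward.isDefEq.respectTransparency.types false

noncomputable section

namespace Groth.L23.MV

open Groth.L09.ModEt

variable {S : Scheme.{u}}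

section Sp

variable {X : Sp S} (F : ModEt X)

/-- `j_* (F|_U)`. -/
abbrev pushRes (U : EtOver X) : ModEt X := (pushOnModEt U).obj ((resModEt U).obj F)

theorem sapp_unit (U E : EtOver X) (a : sectModEt F E) :
    sapp ((resPushAdjEt U).unit.app F) E a = res F (prod.snd : U ⨯ E ⟶ E) a := by
  show F.val.map ((Over.forgetAdjStar U).counit.app E).op a = _
  rw [Over.forgetAdjStar_counit_app]
  rfl

theorem sapp_pushRes {U U' : EtOver X} (g : U' ⟶ U) (E : EtOver X) (a : sectModEt F (U ⨯ E)) :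
    sapp ((pushResNatTrans g).app F) E a = res F (prod.map g (𝟙 E)) a := rfl

theorem res_pushRes (U : EtOver X) {E E' : EtOver X} (g : E' ⟶ E) (a : sectModEt F (U ⨯ E)) :
    res (pushRes F U) g a = res F (prod.map (𝟙 U) g) a := rfl

theorem res_congr' {A B C : EtOver X} {a : A ⟶ B} {b : B ⟶ C} {c : A ⟶ C} (h : a ≫ b = c) (m : sectModEt F C) :
    res F a (res F b m) = res F c m := by
  rw [← res_comp, h]

theorem shortExact_lift_desc {M A B C : ModEt X} (f₁ : M ⟶ A) (f₂ : M ⟶ B) (g₁ : A ⟶ C) (g₂ : B ⟶ C)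
    (h₀ : ∀ E x, sapp g₁ E (sapp f₁ E x) = sapp g₂ E (sapp f₂ E x))
    (hi : ∀ E x y, sapp f₁ E x = sapp f₁ E y → sapp f₂ E x = sapp f₂ E y → x = y)
    (he : ∀ E a b, sapp g₁ E a = sapp g₂ E b → ∃ s, sapp f₁ E s = a ∧ sapp f₂ E s = b)
    (hs : ∀ (E : EtOver X) (z : sectModEt C E), ∃ (ι : Type) (V : ι → EtOver X) (c : ∀ i, V i ⟶ E),
      IsCover c ∧ ∀ i, ∃ a b, sapp g₁ (V i) a - sapp g₂ (V i) b = res C (c i) z) :
    ∃ h : biprod.lift f₁ f₂ ≫ biprod.desc g₁ (-g₂) = 0, (ShortComplex.mk _ _ h).ShortExact := by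
  have hd : ∀ E x, sapp (biprod.desc g₁ (-g₂)) E x =
      sapp g₁ E (sapp biprod.fst E x) - sapp g₂ E (sapp biprod.snd E x) := fun E x => by
    rw [sapp_desc, sapp_neg, sub_eq_add_neg]
  refine ⟨hom_ext_sapp fun E x => ?_, shortExact_mk_of_sapp _ _ _ (fun E x y e => ?_) (fun E x hx => ?_) fun E z => ?_⟩
  · rw [sapp_comp, hd, sapp_zero, (sapp_lift _ _ E x).1, (sapp_lift _ _ E x).2, h₀, sub_self]
  · have e' : sapp (biprod.lift f₁ f₂) E x = sapp (biprod.lift f₁ f₂) E y := e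
    refine hi E x y ?_ ?_
    · rw [← (sapp_lift f₁ f₂ E x).1, ← (sapp_lift f₁ f₂ E y).1, e']
    · rw [← (sapp_lift f₁ f₂ E x).2, ← (sapp_lift f₁ f₂ E y).2, e']
  · obtain ⟨s, hs₁, hs₂⟩ := he E _ _ (sub_eq_zero.1 ((hd E x).symm.trans hx))
    exact ⟨s, sapp_biprod_ext ((sapp_lift _ _ E s).1.trans hs₁) ((sapp_lift _ _ E s).2.trans hs₂)⟩
  · obtain ⟨ι, W, c, hc, hab⟩ := hs E z
    refine ⟨ι, W, c, hc, fun i => ?_⟩
    obtain ⟨a, b, h⟩ := hab i
    obtain ⟨x, hx₁, hx₂⟩ := exists_sapp_biprod (A := A) (B := B) (W i) a b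
    exact ⟨x, (hd _ x).trans (by rw [hx₁, hx₂, h])⟩

end Sp

section Square

variable {X : AlgSp.Space S} {U V : EtOver X.obj} (F : ModEt X.obj)

/-- Maps to the product of the two parts. -/
theorem exists_lift_prodObj {T : EtOver X.obj} (a : T ⟶ U) (b : T ⟶ V) :
    ∃ l : T ⟶ EtOver.prodObj U V, l ≫ EtOver.prodFst U V = a ∧ l ≫ EtOver.prodSnd U V = b := by
  obtain ⟨l, h₁, h₂⟩ := BinaryFan.IsLimit.lift' (EtOver.prodIsLimit U V) a b
  exact ⟨l, h₁, h₂⟩

theorem hom_ext_prodObj (hsq : IsElemDistSq U.obj.hom V.obj.hom) {T : EtOver X.obj} {a b : T ⟶ EtOver.prodObj U V}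
    (h : a ≫ EtOver.prodSnd U V = b ≫ EtOver.prodSnd U V) : a = b :=
  BinaryFan.IsLimit.hom_ext (EtOver.prodIsLimit U V) (subsingleton_hom_open hsq _ _) h

/-- The two parts, pulled back. -/
abbrev part (U V : EtOver X.obj) : Bool → EtOver X.obj := fun i => bif i then U else V

theorem isCover_parts (hsq : IsElemDistSq U.obj.hom V.obj.hom) (E : EtOver X.obj) :
    IsCover (fun i => (prod.snd : part U V i ⨯ E ⟶ E)) := fun x => by
  rcases mem_range_of_square hsq E x with h | h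
  exacts [⟨true, h⟩, ⟨false, h⟩]

variable (hsq : IsElemDistSq U.obj.hom V.obj.hom) {E : EtOver X.obj}
  {a : sectModEt F (U ⨯ E)} {b : sectModEt F (V ⨯ E)}
include hsq

theorem injective_unit {s t : sectModEt F E}
    (hU : res F (prod.snd : U ⨯ E ⟶ E) s = res F (prod.snd : U ⨯ E ⟶ E) t)
    (hV : res F (prod.snd : V ⨯ E ⟶ E) s = res F (prod.snd : V ⨯ E ⟶ E) t) : s = t := by
  refine eq_of_cover F (isCover_parts hsq E) fun i => ?_
  cases i
  exacts [hV, hU]

theorem res_eq_of_compatible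
    (h : res F (prod.map (EtOver.prodFst U V) (𝟙 E)) a = res F (prod.map (EtOver.prodSnd U V) (𝟙 E)) b)
    {T : EtOver X.obj} (p : T ⟶ U ⨯ E) (q : T ⟶ V ⨯ E) (e : p ≫ prod.snd = q ≫ prod.snd) :
    res F p a = res F q b := by
  obtain ⟨l, h₁, h₂⟩ := exists_lift_prodObj (p ≫ prod.fst) (q ≫ prod.fst)
  let m : T ⟶ EtOver.prodObj U V ⨯ E := prod.lift l (p ≫ prod.snd)
  have hp : m ≫ prod.map (EtOver.prodFst U V) (𝟙 E) = p := by
    apply prod.hom_ext <;> simp [m, h₁]
  have hq : m ≫ prod.map (EtOver.prodSnd U V) (𝟙 E) = q := by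
    apply prod.hom_ext <;> simp [m, h₂, e]
  rw [← hp, ← hq, res_comp, res_comp, h]

theorem exists_unit_preimage
    (h : res F (prod.map (EtOver.prodFst U V) (𝟙 E)) a = res F (prod.map (EtOver.prodSnd U V) (𝟙 E)) b) :
    ∃ s : sectModEt F E, res F (prod.snd : U ⨯ E ⟶ E) s = a ∧ res F (prod.snd : V ⨯ E ⟶ E) s = b := by
  let t : ∀ i, sectModEt F (part U V i ⨯ E) := fun i => match i with
    | true => a
    | false => b
  have hUU : ∀ {T : EtOver X.obj} (p p' : T ⟶ U ⨯ E), p ≫ prod.snd = p' ≫ prod.snd → res F p a = res F p' a :=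
    fun p p' e => congrArg (fun k => res F k a) (prod.hom_ext (subsingleton_hom_open hsq _ _) e)
  have hVV : ∀ {T : EtOver X.obj} (q q' : T ⟶ V ⨯ E), q ≫ prod.snd = q' ≫ prod.snd → res F q b = res F q' b := by
    intro T q q' e
    choose O hO hO' using exists_cover_of_maps hsq (q ≫ prod.fst) (q' ≫ prod.fst)
    refine eq_of_cover F (c := fun x => openι T (O x)) (fun x => ⟨x, ⟨x, hO x⟩, rfl⟩) fun x => ?_
    rw [← res_comp, ← res_comp]
    rcases hO' x with he | ⟨⟨u⟩⟩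
    · refine congrArg (fun k => res F k b) (prod.hom_ext ?_ ?_)
      · simpa using he
      · simp [e]
    · rw [← res_eq_of_compatible F hsq h (prod.lift u (openι T (O x) ≫ q ≫ prod.snd)) (openι T (O x) ≫ q) (by simp),
        ← res_eq_of_compatible F hsq h (prod.lift u (openι T (O x) ≫ q ≫ prod.snd)) (openι T (O x) ≫ q') (by simp [e])]
  obtain ⟨s, hs⟩ := exists_glue F (isCover_parts hsq E) t fun i j => by
    have e := EtOver.pullback_condition (prod.snd : part U V i ⨯ E ⟶ E) (prod.snd : part U V j ⨯ E ⟶ E)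
    cases i <;> cases j
    · exact hVV _ _ e
    · exact (res_eq_of_compatible F hsq h _ _ e.symm).symm
    · exact res_eq_of_compatible F hsq h _ _ e
    · exact hUU _ _ e
  exact ⟨s, hs true, hs false⟩

/-- Over the open part every section is a restriction from the chart. -/
theorem exists_lift_over_open (c : sectModEt F (EtOver.prodObj U V ⨯ E)) :
    ∃ b' : sectModEt F (V ⨯ (U ⨯ E)),
      res F (prod.map (EtOver.prodSnd U V) (𝟙 (U ⨯ E))) b' =
        res F (prod.map (𝟙 (EtOver.prodObj U V)) (prod.snd : U ⨯ E ⟶ E)) c := by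
  obtain ⟨l, h₁, h₂⟩ := exists_lift_prodObj (U := U) (V := V) (prod.snd ≫ prod.fst : V ⨯ (U ⨯ E) ⟶ U)
    (prod.fst : V ⨯ (U ⨯ E) ⟶ V)
  refine ⟨res F (prod.lift l (prod.snd ≫ prod.snd)) c, res_congr' F (prod.hom_ext ?_ ?_) c⟩
  · refine hom_ext_prodObj hsq ?_
    simp [h₂]
  · simp

/-- Over the chart every section is a difference. -/
theorem exists_lift_over_chart (c : sectModEt F (EtOver.prodObj U V ⨯ E)) :
    ∃ (a' : sectModEt F (U ⨯ (V ⨯ E))) (b' : sectModEt F (V ⨯ (V ⨯ E))),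
      res F (prod.map (EtOver.prodFst U V) (𝟙 (V ⨯ E))) a' -
          res F (prod.map (EtOver.prodSnd U V) (𝟙 (V ⨯ E))) b' =
        res F (prod.map (𝟙 (EtOver.prodObj U V)) (prod.snd : V ⨯ E ⟶ E)) c := by
  obtain ⟨l, h₁, h₂⟩ := exists_lift_prodObj (U := U) (V := V) (prod.fst : U ⨯ (V ⨯ E) ⟶ U)
    (prod.snd ≫ prod.fst : U ⨯ (V ⨯ E) ⟶ V)
  let ψ : U ⨯ (V ⨯ E) ⟶ EtOver.prodObj U V ⨯ E := prod.lift l (prod.snd ≫ prod.snd)
  let d := res F (prod.map (EtOver.prodFst U V) (𝟙 (V ⨯ E))) (res F ψ c) -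
    res F (prod.map (𝟙 (EtOver.prodObj U V)) (prod.snd : V ⨯ E ⟶ E)) c
  let Δ : V ⨯ E ⟶ V ⨯ (V ⨯ E) := prod.lift prod.fst (𝟙 _)
  let q : EtOver.prodObj U V ⨯ (V ⨯ E) ⟶ V ⨯ (V ⨯ E) := prod.map (EtOver.prodSnd U V) (𝟙 _)
  let W : Bool → EtOver X.obj := fun i => bif i then V ⨯ E else EtOver.prodObj U V ⨯ (V ⨯ E)
  let w : ∀ i, W i ⟶ V ⨯ (V ⨯ E) := fun i => match i with
    | true => Δ
    | false => q
  have hw : IsCover w := fun x => by
    obtain ⟨O, hO, he | ⟨⟨u⟩⟩⟩ := exists_cover_of_maps hsq (prod.fst : V ⨯ (V ⨯ E) ⟶ V) (prod.snd ≫ prod.fst) x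
    · have e : openι (V ⨯ (V ⨯ E)) O = (openι (V ⨯ (V ⨯ E)) O ≫ prod.snd) ≫ Δ := by
        apply prod.hom_ext
        · simpa [Δ] using he
        · simp [Δ]
      refine ⟨true, (openι (V ⨯ (V ⨯ E)) O ≫ prod.snd).hom.left.left ⟨x, hO⟩, ?_⟩
      exact (congrArg (fun k => k.hom.left.left ⟨x, hO⟩) e).symm
    · obtain ⟨l', -, h₂'⟩ := exists_lift_prodObj u (openι (V ⨯ (V ⨯ E)) O ≫ prod.fst)
      have e : openι (V ⨯ (V ⨯ E)) O = prod.lift l' (openι (V ⨯ (V ⨯ E)) O ≫ prod.snd) ≫ q := by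
        apply prod.hom_ext
        · simp [q, h₂']
        · simp [q]
      refine ⟨false, (prod.lift l' (openι (V ⨯ (V ⨯ E)) O ≫ prod.snd)).hom.left.left ⟨x, hO⟩, ?_⟩
      exact (congrArg (fun k => k.hom.left.left ⟨x, hO⟩) e).symm
  let t : ∀ i, sectModEt F (W i) := fun i => match i with
    | true => 0
    | false => d
  have hmix : ∀ {T : EtOver X.obj} (α : T ⟶ V ⨯ E) (β : T ⟶ EtOver.prodObj U V ⨯ (V ⨯ E)),
      α ≫ Δ = β ≫ q → res F β d = 0 := by
    intro T α β e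
    have e₁ : α ≫ prod.fst = β ≫ prod.fst ≫ EtOver.prodSnd U V := by simpa [Δ, q] using e =≫ prod.fst
    have e₂ : α = β ≫ prod.snd := by simpa [Δ, q] using e =≫ prod.snd
    rw [map_sub, sub_eq_zero, ← res_comp, ← res_comp, ← res_comp]
    refine congrArg (fun k => res F k c) (prod.hom_ext (hom_ext_prodObj hsq ?_) ?_)
    · simp [ψ, h₂, ← e₁]
      rw [e₂]
      simp
    · simp [ψ]
  obtain ⟨b', hb'⟩ := exists_glue F hw t fun i j => by
    have e := EtOver.pullback_condition (w i) (w j)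
    cases i <;> cases j
    · refine congrArg (fun k => res F k d) (prod.hom_ext (hom_ext_prodObj hsq ?_) ?_)
      · simpa [w, q] using e =≫ prod.fst
      · simpa [w, q] using e =≫ prod.snd
    · exact (hmix _ _ e.symm).trans (map_zero _).symm
    · exact (map_zero _).trans (hmix _ _ e).symm
    · exact (map_zero _).trans (map_zero _).symm
  refine ⟨res F ψ c, b', ?_⟩
  rw [show res F (prod.map (EtOver.prodSnd U V) (𝟙 (V ⨯ E))) b' = d from hb' false]
  exact sub_sub_self _ _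

omit hsq in
set_option maxHeartbeats 1600000 in
theorem shortExact_of_square (hsq : IsElemDistSq U.obj.hom V.obj.hom) :
    ∃ h : biprod.lift ((resPushAdjEt U).unit.app F) ((resPushAdjEt V).unit.app F) ≫
        biprod.desc ((pushResNatTrans (EtOver.prodFst U V)).app F)
          (-((pushResNatTrans (EtOver.prodSnd U V)).app F)) = 0,
      (ShortComplex.mk _ _ h).ShortExact := by
  refine shortExact_lift_desc _ _ _ _ (fun E x => ?_) (fun E x y h₁ h₂ => ?_) (fun E a b h => ?_) fun E z =>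
    ⟨Bool, fun i => part U V i ⨯ E, fun i => prod.snd, isCover_parts hsq E, fun i => ?_⟩
  · rw [sapp_unit, sapp_unit, sapp_pushRes, sapp_pushRes]
    exact res_congr F (by simp) x
  · exact injective_unit F hsq ((sapp_unit F U E x).symm.trans (h₁.trans (sapp_unit F U E y)))
      ((sapp_unit F V E x).symm.trans (h₂.trans (sapp_unit F V E y)))
  · obtain ⟨s, hs₁, hs₂⟩ := exists_unit_preimage (E := E) (a := a) (b := b) F hsq
      ((sapp_pushRes F (EtOver.prodFst U V) E a).symm.trans (h.trans (sapp_pushRes F (EtOver.prodSnd U V) E b)))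
    exact ⟨s, (sapp_unit F U E s).trans hs₁, (sapp_unit F V E s).trans hs₂⟩
  · cases i
    · exact exists_lift_over_chart F hsq z
    · obtain ⟨b', h'⟩ := exists_lift_over_open F hsq z
      refine ⟨0, -b', ?_⟩
      rw [map_zero, map_neg, zero_sub, neg_neg]
      exact h'

end Square

end Groth.L23.MV
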