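import Groth.Agent.L23.MVSeq
import Groth.Agent.L23.ModEtGroth
import Mathlib.CategoryTheory.Adjunction.Mates
import Mathlib.CategoryTheory.Adjunction.Additive
import Mathlib.CategoryTheory.Preadditive.Injective.Basic

/-!
# The Mayer–Vietoris sequence of extensions by zero
-/

universe u v w

open CategoryTheory CategoryTheory.Limits AlgebraicGeometry Opposite AlgSp

set_option autoImplicit false
set_option linter.style.haveILetI false
set_option backward.isDefEq.respectTransparency false
set_option backward.isDefEq.respectTransparency.types false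

noncomputable section

namespace Groth.L23.MV

section Dual

variable {A : Type w} [Category.{v} A] [Abelian A] [EnoughInjectives A]
  {LU LV LW RU RV RW : A ⥤ A} [RU.Additive] [RV.Additive] [RW.Additive]
  (aU : LU ⊣ RU) (aV : LV ⊣ RV) (aW : LW ⊣ RW) (ηU : ∀ G, G ⟶ RU.obj G) (ηV : ∀ G, G ⟶ RV.obj G) (α : RU ⟶ RW) (β : RV ⟶ RW)

/-- A short exact sequence of right adjoints, natural in the object, dualizes. -/
theorem shortExact_dual
    (H : ∀ G, ∃ h : biprod.lift (ηU G) (ηV G) ≫ biprod.desc (α.app G) (-β.app G) = 0,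
      (ShortComplex.mk _ _ h).ShortExact)
    (F : A) (εU : LU.obj F ⟶ F) (εV : LV.obj F ⟶ F) (sU : LW.obj F ⟶ LU.obj F) (sV : LW.obj F ⟶ LV.obj F)
    (hεU : ∀ {G : A} (k : F ⟶ G), aU.homEquiv F G (εU ≫ k) = k ≫ ηU G)
    (hεV : ∀ {G : A} (k : F ⟶ G), aV.homEquiv F G (εV ≫ k) = k ≫ ηV G)
    (hsU : ∀ {G : A} (k : LU.obj F ⟶ G), aW.homEquiv F G (sU ≫ k) = aU.homEquiv F G k ≫ α.app G)
    (hsV : ∀ {G : A} (k : LV.obj F ⟶ G), aW.homEquiv F G (sV ≫ k) = aV.homEquiv F G k ≫ β.app G) :
    ∃ h : biprod.lift (sU) (-sV) ≫ biprod.desc (εU) (εV) = 0,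
      (ShortComplex.mk _ _ h).ShortExact := by
  have hsub : ∀ {G : A} (p q : LW.obj F ⟶ G),
      aW.homEquiv F G (p - q) = aW.homEquiv F G p - aW.homEquiv F G q := fun p q => by
    simp only [Adjunction.homEquiv_unit, Functor.map_sub, Preadditive.comp_sub]
  have hkey : ∀ {G : A} (p : LU.obj F ⊞ LV.obj F ⟶ G),
      aW.homEquiv F G (biprod.lift (sU) (-sV) ≫ p) =
        aU.homEquiv F G (biprod.inl ≫ p) ≫ α.app G - aV.homEquiv F G (biprod.inr ≫ p) ≫ β.app G := fun p => by
    rw [← hsU, ← hsV, ← hsub]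
    congr 1
    conv_lhs => rw [biprod.lift_eq]
    simp [sub_eq_add_neg]
  obtain ⟨hF, -⟩ := H F
  have hz : biprod.lift (sU) (-sV) ≫ biprod.desc (εU) (εV) = 0 := by
    have h₁ := hεU (𝟙 F)
    have h₂ := hεV (𝟙 F)
    simp only [Category.comp_id, Category.id_comp] at h₁ h₂
    apply (aW.homEquiv F F).injective
    rw [hkey, biprod.inl_desc, biprod.inr_desc, h₁, h₂, ← sub_self (0 : LW.obj F ⟶ F), hsub, sub_self]
    simpa [biprod.lift_desc, sub_eq_add_neg] using hF
  have hepi : Epi (biprod.desc (εU) (εV)) := ⟨fun {G} k k' e => by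
    obtain ⟨hG, hSE⟩ := H G
    haveI := hSE.mono_f
    have eU : εU ≫ k = εU ≫ k' := by simpa using biprod.inl ≫= e
    have eV : εV ≫ k = εV ≫ k' := by simpa using biprod.inr ≫= e
    apply (cancel_mono (biprod.lift (ηU G) (ηV G))).1
    apply biprod.hom_ext
    · simp only [Category.assoc, biprod.lift_fst]
      rw [← hεU, ← hεU, eU]
    · simp only [Category.assoc, biprod.lift_snd]
      rw [← hεV, ← hεV, eV]⟩
  haveI := hepi
  have hmono : Mono (biprod.lift (sU) (-sV)) := by
    refine Preadditive.mono_of_cancel_zero _ fun {P} k hk => ?_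
    let I := Injective.under (LW.obj F)
    obtain ⟨hI, hSE⟩ := H I
    haveI : Mono (biprod.lift (ηU I) (ηV I)) := hSE.mono_f
    haveI : Epi (biprod.desc (α.app I) (-β.app I)) := hSE.epi_g
    let sp := hSE.splittingOfInjective
    let w := aW.homEquiv F I (Injective.ι (LW.obj F))
    let x := w ≫ sp.s
    let p : LU.obj F ⊞ LV.obj F ⟶ I := biprod.desc ((aU.homEquiv F I).symm (x ≫ biprod.fst))
      ((aV.homEquiv F I).symm (x ≫ biprod.snd))
    have hp : biprod.lift (sU) (-sV) ≫ p = Injective.ι (LW.obj F) := by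
      apply (aW.homEquiv F I).injective
      rw [hkey, biprod.inl_desc, biprod.inr_desc, Equiv.apply_symm_apply, Equiv.apply_symm_apply]
      have := w ≫= sp.s_g
      simp only [Category.comp_id] at this
      refine Eq.trans ?_ this
      conv_rhs => rw [← Category.assoc]
      simp [x, biprod.desc_eq, sub_eq_add_neg]
    rw [← cancel_mono (Injective.ι (LW.obj F)), zero_comp, ← hp, reassoc_of% hk, zero_comp]
  haveI := hmono
  refine ⟨hz, { exact := ?_ }⟩
  refine ShortComplex.exact_of_g_is_cokernel _ (CokernelCofork.IsColimit.ofπ' _ hz fun {G} p hp => ?_)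
  have hSE := (H G).choose_spec
  haveI := hSE.mono_f
  let x : F ⟶ RU.obj G ⊞ RV.obj G :=
    biprod.lift (aU.homEquiv F G (biprod.inl ≫ p)) (aV.homEquiv F G (biprod.inr ≫ p))
  have hx : x ≫ biprod.desc (α.app G) (-β.app G) = 0 := by
    rw [biprod.lift_desc, Preadditive.comp_neg, ← sub_eq_add_neg, ← hkey, hp]
    simp [Adjunction.homEquiv_unit]
  let m := hSE.exact.lift x hx
  have hm : m ≫ biprod.lift (ηU G) (ηV G) = x := hSE.exact.lift_f x hx
  refine ⟨m, biprod.hom_ext' _ _ ?_ ?_⟩
  · rw [biprod.inl_desc_assoc]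
    apply (aU.homEquiv F G).injective
    rw [hεU]
    simpa [x] using hm =≫ biprod.fst
  · rw [biprod.inr_desc_assoc]
    apply (aV.homEquiv F G).injective
    rw [hεV]
    simpa [x] using hm =≫ biprod.snd

end Dual

variable {S : Scheme.{u}}

theorem homEquiv_shriekResNatTrans {X : Sp S} {U' U : EtOver X} (g : U' ⟶ U)
    [(resModEt U).IsRightAdjoint] [(resModEt U').IsRightAdjoint] {F G : ModEt X} (k : (shriekRes U).obj F ⟶ G) :
    (shriekResAdj U').homEquiv F G ((shriekResNatTrans g).app F ≫ k) =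
      (shriekResAdj U).homEquiv F G k ≫ (pushResNatTrans g).app G := by
  rw [Adjunction.homEquiv_unit, Adjunction.homEquiv_unit, Category.assoc, Functor.map_comp]
  exact ((Category.assoc _ _ _).symm.trans (congrArg (· ≫ (resModEt U' ⋙ pushOnModEt U').map k)
    (unit_conjugateEquiv_symm (shriekResAdj U) (shriekResAdj U') (pushResNatTrans g) F).symm)).trans
    ((Category.assoc _ _ _).trans (congrArg ((shriekResAdj U).unit.app F ≫ ·) ((pushResNatTrans g).naturality k).symm))

theorem homEquiv_counit_shriek {X : Sp S} (U : EtOver X) [(resModEt U).IsRightAdjoint] {F G : ModEt X} (k : F ⟶ G) :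
    (shriekResAdj U).homEquiv F G ((Adjunction.ofIsRightAdjoint (resModEt U)).counit.app F ≫ k) =
      k ≫ (resPushAdjEt U).unit.app G := by
  have h : (Adjunction.ofIsRightAdjoint (resModEt U)).homEquiv _ G
      ((Adjunction.ofIsRightAdjoint (resModEt U)).counit.app F ≫ k) = (resModEt U).map k := by
    rw [Adjunction.homEquiv_naturality_right, Adjunction.homEquiv_unit, Adjunction.right_triangle_components,
      Category.id_comp]
  refine Eq.trans ?_ ((resPushAdjEt U).unit.naturality k).symm
  rw [shriekResAdj, Adjunction.comp_homEquiv]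
  exact (congrArg ((resPushAdjEt U).homEquiv F _) h).trans ((resPushAdjEt U).homEquiv_unit _ _ _)

theorem shortExact_shriek_of_square {X : AlgSp.Space S} {U V : EtOver X.obj}
    (hsq : IsElemDistSq U.obj.hom V.obj.hom) [(resModEt U).IsRightAdjoint] [(resModEt V).IsRightAdjoint]
    [(resModEt (EtOver.prodObj U V)).IsRightAdjoint] (F : ModEt X.obj) :
    ∃ h : biprod.lift ((shriekResNatTrans (EtOver.prodFst U V)).app F)
          (-((shriekResNatTrans (EtOver.prodSnd U V)).app F)) ≫
        biprod.desc ((Adjunction.ofIsRightAdjoint (resModEt U)).counit.app F)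
          ((Adjunction.ofIsRightAdjoint (resModEt V)).counit.app F) = 0,
      (ShortComplex.mk _ _ h).ShortExact := by
  haveI := ModEtGroth.isGrothendieckAbelian (X := X.obj)
  exact shortExact_dual (shriekResAdj U) (shriekResAdj V) (shriekResAdj (EtOver.prodObj U V))
    (resPushAdjEt U).unit.app (resPushAdjEt V).unit.app (pushResNatTrans (EtOver.prodFst U V))
    (pushResNatTrans (EtOver.prodSnd U V)) (fun G => shortExact_of_square G hsq)
    F ((Adjunction.ofIsRightAdjoint (resModEt U)).counit.app F) ((Adjunction.ofIsRightAdjoint (resModEt V)).counit.app F)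
    ((shriekResNatTrans (EtOver.prodFst U V)).app F) ((shriekResNatTrans (EtOver.prodSnd U V)).app F)
    (homEquiv_counit_shriek U) (homEquiv_counit_shriek V) (homEquiv_shriekResNatTrans _) (homEquiv_shriekResNatTrans _)

end Groth.L23.MV
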