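import Groth.Agent.L09.EtCoh.Free
import Mathlib.Algebra.Category.ModuleCat.Presheaf.Free
import Mathlib.Algebra.Category.ModuleCat.Presheaf.Abelian
import Mathlib.Algebra.Category.ModuleCat.Sheaf

/-!
# Injective modules have exact Cech complexes
-/

universe u

open CategoryTheory CategoryTheory.Limits Opposite

set_option autoImplicit false
set_option linter.style.haveILetI false
set_option backward.isDefEq.respectTransparency false
set_option backward.isDefEq.respectTransparency.types false

noncomputable section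

namespace Groth.L23.ModCok

open Groth.L09.EtCoh

variable {C : Type (u + 1)} [Category.{u} C] {R : Cᵒᵖ ⥤ RingCat.{u + 1}}

variable (R) in
/-- The free presheaf of modules on an object. -/
abbrev fm (U : C) : PresheafOfModules.{u + 1} R := PresheafOfModules.freeObj (uliftYoneda.{u + 1}.obj U)

variable (R) in
/-- A generator. -/
def gm {U W : C} (f : W ⟶ U) : (fm R U).obj (op W) := ModuleCat.freeMk (ULift.up.{u + 1} f)

theorem fm_map_gm {U W W' : C} (h : W' ⟶ W) (f : W ⟶ U) : (fm R U).map h.op (gm R f) = gm R (h ≫ f) :=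
  ModuleCat.freeDesc_apply _ _

/-- Additive maps out of the free module are determined on multiples of generators. -/
theorem fm_induction {U W : C} {P : (fm R U).obj (op W) → Prop} (h0 : P 0)
    (hadd : ∀ x y, P x → P y → P (x + y)) (hsmul : ∀ (r : R.obj (op W)) (f : W ⟶ U), P (r • gm R f))
    (c : (fm R U).obj (op W)) : P c := by
  induction c using Finsupp.induction_linear with
  | zero => exact h0
  | add x y hx hy => exact hadd _ _ hx hy
  | single f r =>
    have := hsmul r f.down
    rwa [gm, ModuleCat.freeMk, Finsupp.smul_single, smul_eq_mul, mul_one] at this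

/-- The map out of a free module with given value. -/
def fromGm {U : C} {P : PresheafOfModules.{u + 1} R} (s : P.obj (op U)) : fm R U ⟶ P :=
  PresheafOfModules.freeObjDesc (uliftYonedaEquiv.{u + 1}.symm
    (show (P.presheaf ⋙ CategoryTheory.forget Ab).obj (op U) from s))

theorem fromGm_gm {U W : C} {P : PresheafOfModules.{u + 1} R} (s : P.obj (op U)) (f : W ⟶ U) :
    (fromGm s).app (op W) (gm R f) = P.map f.op s :=
  (ModuleCat.freeDesc_apply _ _).trans rfl

theorem fm_hom_ext {U : C} {P : PresheafOfModules.{u + 1} R} {g g' : fm R U ⟶ P}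
    (h : g.app (op U) (gm R (𝟙 U)) = g'.app (op U) (gm R (𝟙 U))) : g = g' := by
  refine PresheafOfModules.hom_ext fun W => ModuleCat.free_hom_ext fun f => ?_
  have e : ∀ k : fm R U ⟶ P, k.app W (gm R f.down) = P.map f.down.op (k.app (op U) (gm R (𝟙 U))) := fun k => by
    rw [← PresheafOfModules.naturality_apply, fm_map_gm, Category.comp_id]
  exact (e g).trans ((congrArg (P.map f.down.op) h).trans (e g').symm)

variable [HasPullbacks C] {E V : C} (d : V ⟶ E)

variable (R) in
/-- The Cech differential on free modules. -/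
def fdm (n : ℕ) : fm R (pow d (n + 1)) ⟶ fm R (pow d n) :=
  fromGm (∑ j : Fin (n + 2), (-1 : ℤ) ^ (j : ℕ) • gm R (face d n j))

theorem fdm_gm (n : ℕ) {W : C} (t : W ⟶ pow d (n + 1)) :
    (fdm R d n).app (op W) (gm R t) = ∑ j : Fin (n + 2), (-1 : ℤ) ^ (j : ℕ) • gm R (t ≫ face d n j) := by
  rw [fdm, fromGm_gm, map_sum]
  exact Finset.sum_congr rfl fun j _ => (map_zsmul ((fm R (pow d n)).map t.op).hom _ _).trans
    (congrArg _ (fm_map_gm t (face d n j)))

/-- Generators that lift to the cover. -/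
def liftGens (R : Cᵒᵖ ⥤ RingCat.{u + 1}) (n : ℕ) (W : C) : Submodule (R.obj (op W)) ((fm R (pow d n)).obj (op W)) :=
  Submodule.span _ {x | ∃ t : W ⟶ pow d n, Liftable d t ∧ gm R t = x}

open Classical in
/-- The homotopy on generators. -/
def sgm {W : C} (L : (W ⟶ E) → (W ⟶ V)) {n : ℕ} (t : W ⟶ pow d n) : (fm R (pow d (n + 1))).obj (op W) :=
  if h : L (t ≫ pstr d n) ≫ d = t ≫ pstr d n then gm R (cons d (L (t ≫ pstr d n)) t h) else 0

/-- The homotopy. -/
def som {W : C} (L : (W ⟶ E) → (W ⟶ V)) (n : ℕ) :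
    (fm R (pow d n)).obj (op W) →ₗ[R.obj (op W)] (fm R (pow d (n + 1))).obj (op W) :=
  (Finsupp.lift _ _ _ fun f => sgm d L f.down)

theorem som_gm {W : C} (L : (W ⟶ E) → (W ⟶ V)) {n : ℕ} (t : W ⟶ pow d n) :
    som (R := R) d L n (gm R t) = sgm d L t := by
  show (Finsupp.lift _ _ _ _) (Finsupp.single _ 1) = _
  erw [Finsupp.lift_apply, Finsupp.sum_single_index]
  · exact one_smul _ _
  · exact zero_smul _ _

theorem homotopy_gm {W : C} (L : (W ⟶ E) → (W ⟶ V)) {n : ℕ} (t : W ⟶ pow d (n + 1))
    (ht : L (t ≫ pstr d (n + 1)) ≫ d = t ≫ pstr d (n + 1)) :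
    (fdm R d (n + 1)).app (op W) (som d L (n + 1) (gm R t)) + som d L n ((fdm R d n).app (op W) (gm R t)) = gm R t := by
  rw [som_gm, sgm, dif_pos ht, fdm_gm, fdm_gm, map_sum, Fin.sum_univ_succ, cons_face_zero, Fin.val_zero,
    pow_zero, one_smul, add_assoc, ← Finset.sum_add_distrib]
  refine (congrArg _ (Finset.sum_eq_zero fun j _ => ?_)).trans (add_zero _)
  have e : (t ≫ face d n j) ≫ pstr d n = t ≫ pstr d (n + 1) := by rw [Category.assoc, face_pstr]
  have ht' : L ((t ≫ face d n j) ≫ pstr d n) ≫ d = (t ≫ face d n j) ≫ pstr d n := by rw [e]; exact ht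
  rw [map_zsmul, som_gm, sgm, dif_pos ht', cons_face_succ, Fin.val_succ, pow_succ, mul_neg_one, neg_smul]
  simp only [e]
  exact neg_add_cancel _

variable {J : GrothendieckTopology C}

theorem exists_liftGens_cover (hd : ∀ (W : C) (e : W ⟶ E), ∃ R' ∈ J W, ∀ ⦃W' : C⦄ (a : W' ⟶ W), R' a →
      ∃ l : W' ⟶ V, l ≫ d = a ≫ e) {W : C} {n : ℕ} (c : (fm R (pow d n)).obj (op W)) :
    ∃ R' ∈ J W, ∀ ⦃W' : C⦄ (a : W' ⟶ W), R' a → (fm R (pow d n)).map a.op c ∈ liftGens d R n W' := by
  induction c using fm_induction with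
  | h0 => exact ⟨⊤, J.top_mem W, fun W' a _ => by rw [map_zero]; exact zero_mem _⟩
  | hsmul r f =>
    obtain ⟨R', hR, hl⟩ := hd W (f ≫ pstr d n)
    refine ⟨R', hR, fun W' a ha => ?_⟩
    rw [PresheafOfModules.map_smul, fm_map_gm]
    obtain ⟨l, hl⟩ := hl a ha
    exact Submodule.smul_mem _ _ (Submodule.subset_span ⟨a ≫ f, ⟨l, hl.trans (Category.assoc _ _ _).symm⟩, rfl⟩)
  | hadd x y hx hy =>
    obtain ⟨R₁, hR, hx⟩ := hx
    obtain ⟨R₂, hR', hy⟩ := hy
    exact ⟨R₁ ⊓ R₂, J.intersection_covering hR hR', fun W' a ha => by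
      rw [map_add]; exact add_mem (hx a ha.1) (hy a ha.2)⟩

theorem exists_preimage_of_cycle {W : C} {n : ℕ} {c : (fm R (pow d (n + 1))).obj (op W)}
    (hc : c ∈ liftGens d R (n + 1) W) (h0 : (fdm R d n).app (op W) c = 0) :
    ∃ c', (fdm R d (n + 1)).app (op W) c' = c := by
  classical
  cases isEmpty_or_nonempty (W ⟶ V) with
  | inl hV =>
    refine ⟨0, ?_⟩
    have : {x | ∃ t : W ⟶ pow d (n + 1), Liftable d t ∧ gm R t = x} = ∅ :=
      Set.eq_empty_of_forall_notMem fun x ⟨t, ⟨l, _⟩, _⟩ => hV.false l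
    rw [liftGens, this, Submodule.span_empty, Submodule.mem_bot] at hc
    rw [hc, map_zero]
  | inr hV =>
    let L : (W ⟶ E) → (W ⟶ V) := fun e => if h : ∃ l, l ≫ d = e then h.choose else Classical.arbitrary _
    have key : ∀ x ∈ liftGens d R (n + 1) W,
        (fdm R d (n + 1)).app (op W) (som d L (n + 1) x) + som d L n ((fdm R d n).app (op W) x) = x := fun x hx => by
      clear hc h0
      induction hx using Submodule.span_induction with
      | mem y hy =>
        obtain ⟨t, ht, rfl⟩ := hy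
        refine homotopy_gm d L t ?_
        have ht' : ∃ l : W ⟶ V, l ≫ d = t ≫ pstr d (n + 1) := ht
        simp only [L]
        rw [dif_pos ht']
        exact ht'.choose_spec
      | zero => simp only [map_zero, add_zero]
      | add y z _ _ hy hz => rw [map_add, map_add, map_add, map_add, add_add_add_comm, hy, hz]
      | smul r y _ hy => rw [map_smul, map_smul, map_smul, map_smul, ← smul_add, hy]
    refine ⟨som d L (n + 1) c, ?_⟩
    have := key c hc
    rwa [h0, map_zero, add_zero] at this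

variable {O : Sheaf J RingCat.{u + 1}}

/-- The Cech complex of an injective module is exact. -/
theorem cechExact_of_injective (M : SheafOfModules.{u + 1} O) [Injective M.val]
    (hd : ∀ (W : C) (e : W ⟶ E), ∃ R' ∈ J W, ∀ ⦃W' : C⦄ (a : W' ⟶ W), R' a → ∃ l : W' ⟶ V, l ≫ d = a ≫ e) :
    CechExact d M.val.presheaf := by
  intro p z hz
  let φ : fm O.obj (pow d (p + 1)) ⟶ M.val := fromGm z
  have hcomp : fdm O.obj d (p + 1) ≫ φ = 0 := fm_hom_ext (by
    show φ.app _ ((fdm O.obj d (p + 1)).app _ (gm O.obj (𝟙 _))) = 0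
    rw [fdm_gm, map_sum]
    refine Eq.trans ?_ hz
    rw [dC_apply]
    refine Finset.sum_congr rfl fun j _ => ?_
    rw [map_zsmul, Category.id_comp]
    exact congrArg _ (fromGm_gm _ _))
  have hker : kernel.ι (fdm O.obj d p) ≫ φ = 0 := by
    refine PresheafOfModules.hom_ext fun W => ModuleCat.hom_ext (LinearMap.ext fun k => ?_)
    let c := (kernel.ι (fdm O.obj d p)).app W k
    have h0 : (fdm O.obj d p).app W c = 0 :=
      ConcreteCategory.congr_hom ((PresheafOfModules.evaluation O.obj W).congr_map (kernel.condition (fdm O.obj d p))) k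
    obtain ⟨R', hR, hmem⟩ := exists_liftGens_cover d hd c
    have hsep := ((isSheaf_iff_isSheaf_of_type _ _).1
      (Presheaf.isSheaf_comp_of_isSheaf J _ (CategoryTheory.forget AddCommGrpCat.{u + 1}) M.isSheaf) R' hR).isSeparatedFor
    refine hsep.ext fun W' a ha => ?_
    show M.val.map a.op (φ.app W c) = M.val.map a.op 0
    rw [← PresheafOfModules.naturality_apply, map_zero]
    obtain ⟨c', hc'⟩ := exists_preimage_of_cycle d (hmem a ha) (by rw [PresheafOfModules.naturality_apply, h0, map_zero])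
    rw [← hc']
    exact ConcreteCategory.congr_hom ((PresheafOfModules.evaluation O.obj (op W')).congr_map hcomp) c'
  let m := Abelian.factorThruCoimage (fdm O.obj d p)
  let ψ : fm O.obj (pow d p) ⟶ M.val := Injective.factorThru (cokernel.desc _ φ hker) m
  have hψ : fdm O.obj d p ≫ ψ = φ := by
    have e : fdm O.obj d p = cokernel.π (kernel.ι (fdm O.obj d p)) ≫ m := (Abelian.coimage.fac (fdm O.obj d p)).symm
    rw [e, Category.assoc, Injective.comp_factorThru, cokernel.π_desc]
  refine ⟨ψ.app _ (gm O.obj (𝟙 _)), ?_⟩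
  have := ConcreteCategory.congr_hom ((PresheafOfModules.evaluation O.obj (op (pow d (p + 1)))).congr_map hψ) (gm O.obj (𝟙 _))
  change ψ.app _ ((fdm O.obj d p).app _ (gm O.obj (𝟙 _))) = φ.app _ (gm O.obj (𝟙 _)) at this
  rw [fdm_gm, map_sum] at this
  refine Eq.trans ?_ (this.trans ((fromGm_gm z (𝟙 _)).trans (ConcreteCategory.congr_hom (M.val.presheaf.map_id _) z)))
  rw [dC_apply]
  refine Finset.sum_congr rfl fun j _ => ?_
  rw [map_zsmul]
  refine congrArg _ (Eq.trans ?_ (congrArg (ψ.app _) ((fm_map_gm (face d p j) (𝟙 _)).trans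
    (congrArg (gm O.obj) ((Category.comp_id _).trans (Category.id_comp _).symm)))))
  exact (PresheafOfModules.naturality_apply ψ (face d p j).op (gm O.obj (𝟙 _))).symm

end Groth.L23.ModCok
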