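import Groth.Prelude.Def_StCoarse
import Groth.Prelude.Def_AlgSt4
import Groth.Agent.L23.RedInd
import Groth.Agent.L24.St.Chart
import Groth.Agent.L24.St.Stack
import Groth.Agent.L09.FibYoneda
import Groth.Agent.L09.FibBasic
import Mathlib.AlgebraicGeometry.Sites.Fpqc

/-!
# The moduli space of a reduced stack is reduced
-/

set_option autoImplicit false
set_option backward.isDefEq.respectTransparency false
set_option backward.isDefEq.respectTransparency.types false
set_option linter.style.haveILetI false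
set_option linter.unusedVariables false
set_option linter.unusedSectionVars false

universe u v w

open CategoryTheory CategoryTheory.Limits AlgebraicGeometry Opposite AlgSt

noncomputable section

namespace Groth.L23.ModuliReduced

variable {S : Scheme.{u}} {M Z : AlgSp.Sp S} {i : Z ⟶ M}

/-- Yoneda for sheaves over `S`. -/
abbrev yE {T : Over S} {F : AlgSp.Sp S} : ((AlgSp.yon S).obj T ⟶ F) ≃ F.obj.obj (op T) :=
  (AlgSp.J S).uliftYonedaEquiv.{u + 1}

/-- The section `s` of `M` factors through `i`. -/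
def InImage (i : Z ⟶ M) {T : Over S} (s : M.obj.obj (op T)) : Prop :=
  ∃ z : Z.obj.obj (op T), i.hom.app (op T) z = s

theorem InImage.map {T W : Over S} {s : M.obj.obj (op T)} (h : InImage i s) (g : W ⟶ T) :
    InImage i (M.obj.map g.op s) := by
  obtain ⟨z, rfl⟩ := h
  exact ⟨Z.obj.map g.op z, NatTrans.naturality_apply i.hom g.op z⟩

theorem InImage.of_map {T W : Over S} {s : M.obj.obj (op T)} (g : W ⟶ T) [IsIso g]
    (h : InImage i (M.obj.map g.op s)) : InImage i s := by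
  have := h.map (inv g)
  rwa [← Functor.map_comp_apply, ← op_comp, IsIso.inv_hom_id, op_id,
    CategoryTheory.Functor.map_id] at this

theorem inImage_of_factor {T : Over S} {s : M.obj.obj (op T)} (g : (AlgSp.yon S).obj T ⟶ Z)
    (h : g ≫ i = (yE).symm s) : InImage i s := by
  refine ⟨(yE) g, ?_⟩
  have := congrArg (yE) h
  rw [Equiv.apply_symm_apply, GrothendieckTopology.uliftYonedaEquiv_comp] at this
  exact this

theorem exists_factor_of_inImage {T : Over S} {s : M.obj.obj (op T)} (h : InImage i s) :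
    ∃ g : (AlgSp.yon S).obj T ⟶ Z, g ≫ i = (yE).symm s := by
  obtain ⟨z, rfl⟩ := h
  exact ⟨(yE).symm z, (yE).injective (by
    rw [Equiv.apply_symm_apply, GrothendieckTopology.uliftYonedaEquiv_comp, Equiv.apply_symm_apply])⟩

/-- Lying in a closed subspace is local for smooth surjections. -/
theorem InImage.of_smooth (hi : AlgSp.RepWith @IsClosedImmersion i) {T W : Over S} (ψ : W ⟶ T)
    [Smooth ψ.left] [Surjective ψ.left] {s : M.obj.obj (op T)} (h : InImage i (M.obj.map ψ.op s)) :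
    InImage i s := by
  obtain ⟨g, hg⟩ := exists_factor_of_inImage h
  let s' : (AlgSp.yon S).obj T ⟶ M := (yE).symm s
  have hg' : g ≫ i = (AlgSp.yon S).map ψ ≫ s' :=
    hg.trans (GrothendieckTopology.uliftYonedaEquiv_symm_naturality_left.{u + 1} _ ψ M s).symm
  have sq := hi.1.isPullback s'
  obtain ⟨l, hl, hl'⟩ := sq.exists_lift g ((AlgSp.yon S).map ψ) hg'
  obtain ⟨l₀, rfl⟩ := (AlgSp.yon S).map_surjective l
  rw [← Functor.map_comp] at hl'
  have hfac : l₀.left ≫ (hi.1.snd s').left = ψ.left :=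
    congrArg CommaMorphism.left ((AlgSp.yon S).map_injective hl')
  haveI : IsClosedImmersion (hi.1.snd s').left := Groth.L23.repWith_snd hi s'
  let d : T.left ⟶ (hi.1.pullback s').left := EffectiveEpi.desc ψ.left l₀.left (fun g₁ g₂ w => by
    rw [← cancel_mono (hi.1.snd s').left, Category.assoc, Category.assoc, hfac, w])
  have hd : d ≫ (hi.1.snd s').left = 𝟙 T.left := by
    rw [← cancel_epi ψ.left, ← Category.assoc, EffectiveEpi.fac, hfac, Category.comp_id]
  haveI : IsSplitEpi (hi.1.snd s').left := IsSplitEpi.mk' ⟨d, hd⟩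
  haveI : IsIso (hi.1.snd s').left := isIso_of_mono_of_isSplitEpi _
  haveI : IsIso ((Over.forget S).map (hi.1.snd s')) := ‹IsIso (hi.1.snd s').left›
  haveI : IsIso (hi.1.snd s') := isIso_of_reflects_iso _ (Over.forget S)
  refine inImage_of_factor (inv ((AlgSp.yon S).map (hi.1.snd s')) ≫ hi.1.fst s') ?_
  rw [Category.assoc, sq.w, IsIso.inv_hom_id_assoc]

variable {𝒳 : BasedCategory.{v, w} (Over S)} {𝒴 : BasedCategory.{v, w} (Over S)}

/-- Every object goes into the image of `i`. -/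
def LandsIn (i : Z ⟶ M) (Φ : 𝒳 ⥤ᵇ AlgSt.ofSp M) : Prop :=
  ∀ x : 𝒳.obj, InImage i (Groth.L24.St.secAt Φ x)

theorem secAt_comp_left {𝒰 : BasedCategory.{v, w} (Over S)} (z : 𝒰 ⥤ᵇ 𝒳) (Φ : 𝒳 ⥤ᵇ AlgSt.ofSp M)
    (a : 𝒰.obj) : Groth.L24.St.secAt (BasedFunctor.comp z Φ) a =
      M.obj.map (eqToHom (z.w_obj a).symm).op (Groth.L24.St.secAt Φ (z.obj a)) := by
  unfold Groth.L24.St.secAt
  rw [Groth.L24.St.map_eqToHom_trans]
  rfl

theorem injective_app [Mono i] (T : Over S) {a b : Z.obj.obj (op T)}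
    (h : i.hom.app (op T) a = i.hom.app (op T) b) : a = b := by
  refine (yE (F := Z)).symm.injective ((cancel_mono i).1 (yE.injective ?_))
  rw [GrothendieckTopology.uliftYonedaEquiv_comp, GrothendieckTopology.uliftYonedaEquiv_comp,
    Equiv.apply_symm_apply, Equiv.apply_symm_apply, h]

theorem landsIn_of_idObj {U : Over S} (Φ : FibCat.overCat U ⥤ᵇ AlgSt.ofSp M)
    (h : InImage i (Groth.L24.St.secAt Φ (L24.St.idObj U))) : LandsIn i Φ := fun a => by
  rw [Groth.L24.St.secAt_eq_map_id Φ a]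
  exact h.map a.hom

theorem LandsIn.comp {𝒰 : BasedCategory.{v, w} (Over S)} {Φ : 𝒳 ⥤ᵇ AlgSt.ofSp M} (h : LandsIn i Φ)
    (z : 𝒰 ⥤ᵇ 𝒳) : LandsIn i (BasedFunctor.comp z Φ) := fun a => by
  rw [secAt_comp_left]
  exact (h (z.obj a)).map _

/-- The functor to `Z` through which a functor landing in `i` factors. -/
def factor [Mono i] {Φ : 𝒳 ⥤ᵇ AlgSt.ofSp M} (h : LandsIn i Φ) : 𝒳 ⥤ᵇ AlgSt.ofSp Z where
  toFunctor :=
    { obj := fun x => ⟨𝒳.p.obj x, (h x).choose⟩
      map := fun {x y} φ => ⟨𝒳.p.map φ, injective_app (i := i) _ (by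
        dsimp only
        rw [NatTrans.naturality_apply, (h x).choose_spec, (h y).choose_spec]
        exact Groth.L24.St.secAt_natural Φ φ)⟩
      map_id := fun x => Stk.EltObj.hom_ext (𝒳.p.map_id x)
      map_comp := fun φ ψ => Stk.EltObj.hom_ext (𝒳.p.map_comp φ ψ) }
  w := rfl

theorem secAt_factor [Mono i] {Φ : 𝒳 ⥤ᵇ AlgSt.ofSp M} (h : LandsIn i Φ) (x : 𝒳.obj) :
    i.hom.app (op (𝒳.p.obj x)) (Groth.L24.St.secAt (factor h) x) = Groth.L24.St.secAt Φ x := by
  refine Eq.trans ?_ (h x).choose_spec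
  congr 1
  show Z.obj.map (eqToHom (rfl : 𝒳.p.obj x = 𝒳.p.obj x)).op (h x).choose = _
  simp

/-- A categorical moduli space of a reduced stack is reduced. -/
theorem etaleLocally_isReduced_of_isCatModuli {S : Scheme.{u}} {𝒳 : AlgSt.Cat S}
    (h𝒳 : AlgSt.IsAlgStack Scheme.fppfPrecoverage 𝒳)
    (hred : AlgSt.SmoothLocally (fun X => AlgebraicGeometry.IsReduced X) 𝒳)
    {M : AlgSp.Sp S} (π : 𝒳 ⥤ᵇ AlgSt.ofSp M) (hπ : AlgSt.IsCatModuli π) :
    AlgSp.EtaleLocally (fun U => AlgebraicGeometry.IsReduced U) M := by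
  obtain ⟨Z, hZ, i, hi, hrange, hZr⟩ := Groth.L23.exists_isRedInduced hπ.1 isClosed_univ
  haveI := Groth.L23.mono_of_closedImmersion hi
  obtain ⟨U, x, hx, hxs⟩ := h𝒳.atlas
  haveI : IsReduced U.left := hred U x hx
  have hxp : LandsIn i (BasedFunctor.comp x π) := landsIn_of_idObj _ (by
    obtain ⟨g, hg⟩ := Groth.L23.exists_factor_of_range_subset hi
      ⟨U, 𝟙 ((AlgSp.yon S).obj U), Groth.L23.repWith_of_isIso _, Groth.L23.repWith_of_isIso _, inferInstance⟩
      (yE.symm (Groth.L24.St.secAt (BasedFunctor.comp x π) (L24.St.idObj U)))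
      (by rw [hrange]; exact Set.subset_univ _)
    exact inImage_of_factor g hg)
  have hland : LandsIn i π := fun ξ => by
    haveI := Groth.L09.Fib.isFibered_of_isFibGrpd _ h𝒳.isStack.1
    let y : FibCat.overCat (𝒳.p.obj ξ) ⥤ᵇ 𝒳 := L09.Fib.ofObj (rfl : 𝒳.p.obj ξ = 𝒳.p.obj ξ)
    obtain ⟨W, ψ, z, hψ, ⟨e⟩, hs⟩ := Groth.L24.St.exists_chart_cover (Q := @Smooth) h𝒳.isStack.1
      (Groth.L24.St.overCat_isFibGrpd U) hx y
    haveI : Smooth ψ.left := hψ
    haveI : Surjective ψ.left := ⟨fun t => by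
      obtain ⟨p, hp⟩ := Groth.L24.St.isSurjective_of_repWith (Groth.L24.St.overCat_isFibGrpd U)
        h𝒳.isStack.1 hxs (AlgSt.Points.ofChart y t)
      obtain ⟨w, hw, -⟩ := hs t p hp.symm
      exact ⟨w, hw⟩⟩
    have h1 := (hxp.comp z) (L24.St.idObj W)
    rw [show BasedFunctor.comp z (BasedFunctor.comp x π) = BasedFunctor.comp (BasedFunctor.comp z x) π from rfl,
      ← Groth.L24.St.secAt_congr (Groth.L24.St.whiskerR e π) (L24.St.idObj W)] at h1
    have h2 : InImage i (M.obj.map ψ.op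
        (Groth.L24.St.secAt (BasedFunctor.comp y π) (L24.St.idObj (𝒳.p.obj ξ)))) := by
      rw [show BasedFunctor.comp (BasedFunctor.comp (AlgSt.overMap ψ) y) π =
        BasedFunctor.comp (AlgSt.overMap ψ) (BasedFunctor.comp y π) from rfl, secAt_comp_left,
        Groth.L24.St.secAt_eq_map_id] at h1
      have h1' := InImage.of_map _ h1
      have hid : ((AlgSt.overMap ψ).obj (L24.St.idObj W)).hom = ψ := Category.id_comp ψ
      exact hid ▸ h1' 
    have h3 := InImage.of_smooth hi ψ h2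
    rw [secAt_comp_left] at h3
    have h4 := InImage.of_map _ h3
    let φ : y.obj (L24.St.idObj (𝒳.p.obj ξ)) ⟶ ξ :=
      Functor.IsPreFibered.pullbackMap (p := 𝒳.p) (rfl : 𝒳.p.obj ξ = 𝒳.p.obj ξ) (𝟙 _)
    haveI : IsIso (𝒳.p.map φ) := by
      rw [IsHomLift.fac' 𝒳.p (𝟙 (𝒳.p.obj ξ)) φ]
      infer_instance
    rw [← Groth.L24.St.secAt_natural π φ] at h4
    exact InImage.of_map _ h4
  obtain ⟨g, ⟨eg⟩, -⟩ := hπ.2 Z hZ (factor hland)
  have h1 : g ≫ i = 𝟙 M := (hπ.2 M hπ.1 π).unique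
    ⟨Groth.L24.St.isoOfSecAt fun ξ => by
      rw [Groth.L24.St.secAt_ofPshMap_comp]
      show i.hom.app _ (g.hom.app _ (Groth.L24.St.secAt π ξ)) = _
      rw [← Groth.L24.St.secAt_ofPshMap_comp, Groth.L24.St.secAt_congr eg, secAt_factor]⟩
    ⟨Groth.L24.St.isoOfSecAt fun ξ => by
      rw [Groth.L24.St.secAt_ofPshMap_comp]
      rfl⟩
  haveI : IsSplitEpi i := IsSplitEpi.mk' ⟨g, h1⟩
  haveI : IsIso i := isIso_of_mono_of_isSplitEpi _
  exact Groth.L23.isReducedSp_of_iso i hZr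

end Groth.L23.ModuliReduced
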