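import Groth.Agent.L23.LocP
import Groth.Agent.L23.OpenSub
import Groth.Prelude.Def_AlgSpDec
import Mathlib.AlgebraicGeometry.Morphisms.Smooth
import Mathlib.AlgebraicGeometry.Morphisms.QuasiFinite

/-!
# Properties of morphisms of spaces at a point, in the neighbourhood sense
-/

universe u

open CategoryTheory CategoryTheory.Limits AlgebraicGeometry Opposite AlgSp TopologicalSpace

set_option backward.isDefEq.respectTransparency.types false

namespace Groth.L23

variable {S : Scheme.{u}}

theorem iSup_of_etLocal_cases {P : MorphismProperty Scheme.{u}}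
    (hP : P = @LocallyOfFiniteType ∨ P = @LocallyOfFinitePresentation ∨ P = @Flat ∨ P = @Smooth ∨
      P = @Etale ∨ (∀ ⦃A B : Scheme.{u}⦄ (g : A ⟶ B), P g ↔ (LocallyQuasiFinite g ∧ LocallyOfFiniteType g)) ∨
      (∀ ⦃A B : Scheme.{u}⦄ (g : A ⟶ B), P g ↔ (LocallyOfFiniteType g ∧ FormallyUnramified g)))
    {A B : Scheme.{u}} (g : A ⟶ B) {ι : Type u} (U : ι → A.Opens) (hU : iSup U = ⊤)
    (h : ∀ i, P ((U i).ι ≫ g)) : P g := by
  have aux : ∀ Q : MorphismProperty Scheme.{u}, IsZariskiLocalAtSource Q →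
      (∀ i, Q ((U i).ι ≫ g)) → Q g := fun Q _ hQ =>
    IsZariskiLocalAtSource.of_openCover (P := Q)
      (Scheme.openCoverOfIsOpenCover A U (IsOpenCover.mk hU)) hQ
  rcases hP with rfl | rfl | rfl | rfl | rfl | hh | hh
  · exact aux _ inferInstance h
  · exact aux _ inferInstance h
  · exact aux _ inferInstance h
  · exact aux _ inferInstance h
  · exact aux _ inferInstance h
  · exact (hh g).2 ⟨aux @LocallyQuasiFinite inferInstance fun i => ((hh _).1 (h i)).1,
      aux @LocallyOfFiniteType inferInstance fun i => ((hh _).1 (h i)).2⟩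
  · exact (hh g).2 ⟨aux @LocallyOfFiniteType inferInstance fun i => ((hh _).1 (h i)).1,
      aux @FormallyUnramified inferInstance fun i => ((hh _).1 (h i)).2⟩

/-- `Nbhd`-pointwise property. -/
abbrev HasNbhd (P : MorphismProperty Scheme.{u}) {X Y : Sp S} (f : X ⟶ Y) (x : Points X) : Prop :=
  HasAtMor (fun U _ h u => ∃ W : U.Opens, u ∈ W ∧ P (W.ι ≫ h)) f x

theorem hasNbhd_iff_exists_open {P : MorphismProperty Scheme.{u}} (hP : EtLocal P)
    {X Y : AlgSp.Space S} (f : X ⟶ Y) (x : Points X.obj) :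
    HasNbhd P f.hom x ↔ ∃ (X' : AlgSp.Space S) (j : X' ⟶ X), RepWith @IsOpenImmersion j.hom ∧
      x ∈ Set.range (Points.map j.hom) ∧ LocP P (j ≫ f).hom := by
  constructor
  · rintro ⟨U, V, a, b, h, u, ha, hb, w, rfl, W, huW, hW⟩
    let UW : Over S := Over.mk (W.ι ≫ U.hom)
    let i : UW ⟶ U := Over.homMk W.ι rfl
    let aW : (yon S).obj UW ⟶ X.obj := (yon S).map i ≫ a
    have haW : RepWith @Etale aW :=
      repWith_comp ((repWith_yon_map_iff _ _).2 (inferInstanceAs (Etale W.ι))) ha
    let O : Opens (Points X.obj) := ⟨Set.range (Points.ofPt aW), (isOpenMap_ofPt haW).isOpen_range⟩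
    obtain ⟨a', ha'⟩ := (exists_factor_openSub_iff O aW).2 fun t => ⟨t, rfl⟩
    have sq : IsPullback (𝟙 ((yon S).obj UW)) a' aW (openSubι O) :=
      IsPullback.mk' ((Category.id_comp _).trans ha'.symm)
        (fun _ φ φ' h₁ _ => by simpa using h₁)
        (fun _ p q e => ⟨p, Category.comp_id _, by rw [← cancel_mono (openSubι O), Category.assoc, ha', e]⟩)
    have ha'e : RepWith @Etale a' := repWith_of_isPullback sq haW
    have ha's : RepWith @Surjective a' := repWith_surjective_of_map ha'e.1 fun y => by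
      have hy : Points.map (openSubι O) y ∈ (O : Set (Points X.obj)) := by
        rw [← range_openSubι O]; exact ⟨y, rfl⟩
      obtain ⟨t, ht⟩ := hy
      refine ⟨Points.ofScheme UW t, ?_⟩
      have := mono_openSubι O
      refine injective_map_of_repWith (repWith_mono (fun φ (hφ : IsOpenImmersion φ) => by
        haveI := hφ; infer_instance) (repWith_openSubι O)) ?_
      rw [← Points.ofPt_eq_map_ofScheme, Points.map_ofPt, ha', ht]
    refine ⟨⟨openSub O, isAlgSpace_openSub O X.property⟩, ObjectProperty.homMk (openSubι O),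
      repWith_openSubι O, ?_, ?_⟩
    · show Points.ofPt a u ∈ Set.range (Points.map (openSubι O))
      rw [range_openSubι]
      exact ⟨⟨u, huW⟩, ofPt_comp i a ⟨u, huW⟩⟩
    · refine locP_of_chart hP (h := i ≫ h) ha'e ha's hb ?_ hW
      show a' ≫ openSubι O ≫ f.hom = _
      rw [reassoc_of% ha', Category.assoc, w, Functor.map_comp, Category.assoc]
  · rintro ⟨X', j, hj, ⟨y, rfl⟩, hjf⟩
    obtain ⟨U, V, a, b, k, ha, has, hb, -, w⟩ := exists_chart X'.property Y.property (j ≫ f).hom
    obtain ⟨u, rfl⟩ := surjective_ofPt has y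
    refine ⟨U, V, a ≫ j.hom, b, k, u, repWith_comp ha (repWith_mono (fun φ (hφ : IsOpenImmersion φ) => by
      haveI := hφ; exact inferInstanceAs (Etale φ)) hj), hb, by rw [Category.assoc]; exact w,
      (Points.map_ofPt a j.hom u).symm, ⊤, trivial, ?_⟩
    have := hP.comp
    exact P.comp_mem _ _ (hP.etale _ inferInstance) (hjf a b k ha hb w)

theorem locP_iff_forall_hasNbhd {P : MorphismProperty Scheme.{u}}
    (hP : P = @LocallyOfFiniteType ∨ P = @LocallyOfFinitePresentation ∨ P = @Flat ∨ P = @Smooth ∨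
      P = @Etale ∨ (∀ ⦃A B : Scheme.{u}⦄ (g : A ⟶ B), P g ↔ (LocallyQuasiFinite g ∧ LocallyOfFiniteType g)) ∨
      (∀ ⦃A B : Scheme.{u}⦄ (g : A ⟶ B), P g ↔ (LocallyOfFiniteType g ∧ FormallyUnramified g)))
    {X Y : AlgSp.Space S} (f : X ⟶ Y) :
    LocP P f.hom ↔ ∀ x, HasNbhd P f.hom x := by
  have hP' := etLocal_cases hP
  constructor
  · intro hf x
    exact (hasNbhd_iff_exists_open hP' f x).2 ⟨X, 𝟙 X, repWith_of_isIso (P := @IsOpenImmersion) (𝟙 X.obj), ⟨x, Points.map_id x⟩,
      by rw [Category.id_comp]; exact hf⟩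
  · intro H
    obtain ⟨U, V, a, b, h, ha, has, hb, -, w⟩ := exists_chart X.property Y.property f.hom
    choose X' j hj hx hjf using fun u : U.left => (hasNbhd_iff_exists_open hP' f (Points.ofPt a u)).1 (H _)
    refine locP_of_chart hP' ha has hb w ?_
    let q := fun u => (hj u).1.snd a
    have sq := fun u => (hj u).1.isPullback a
    haveI hq : ∀ u, IsOpenImmersion (q u).left := fun u => repWith_prop (hj u) (sq u)
    refine iSup_of_etLocal_cases hP h.left (fun u => (q u).left.opensRange)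
      (eq_top_iff.2 fun u _ => Opens.mem_iSup.2 ⟨u, ?_⟩) fun u => ?_
    · obtain ⟨y, hy⟩ := hx u
      obtain ⟨t, -, ht⟩ := exists_point_of_isPullback (sq u) (x := y) (u := u) hy
      exact ⟨t, ht⟩
    · have h1 : P ((q u).left ≫ h.left) :=
        hjf u ((hj u).1.fst a) b (q u ≫ h) (repWith_of_isPullback (sq u).flip ha) hb (by
          show (hj u).1.fst a ≫ (j u).hom ≫ f.hom = _
          rw [reassoc_of% (sq u).w, w, Functor.map_comp, Category.assoc])
      have := hP'.comp
      rw [← (q u).left.isoOpensRange_inv_comp, Category.assoc]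
      exact P.comp_mem _ _ (hP'.etale _ inferInstance) h1

end Groth.L23
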