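import Groth.Agent.L23.NilModel
import Mathlib.RingTheory.Ideal.Quotient.Operations

/-!
# Etale groupoids of rings which are effective modulo a nil ideal are effective
-/

universe u

open scoped TensorProduct

set_option backward.isDefEq.respectTransparency.types false

namespace Groth.L23.NilEffective

open NilGpd NilModel

lemma bijective_tensor {T E A B₀ : Type u} [CommRing T] [CommRing E] [CommRing A] [CommRing B₀]
    [Algebra T E] [Algebra T A] [Algebra T B₀] [Algebra A B₀] [IsScalarTower T A B₀]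
    (Φ : A ⊗[T] E ≃+* B₀) (u₀ : E → B₀) (hΦ : ∀ a e, Φ (a ⊗ₜ e) = algebraMap A B₀ a * u₀ e)
    (ι : E ⊗[T] B₀ →+ B₀ ⊗[A] B₀) (hι : ∀ e b, ι (e ⊗ₜ b) = u₀ e ⊗ₜ b) : Function.Bijective ι := by
  let Φ' : A ⊗[T] E ≃ₐ[A] B₀ := AlgEquiv.ofRingEquiv (f := Φ) fun a => by
    have h0 : algebraMap A (A ⊗[T] E) a = (a ⊗ₜ (1 : E)) := rfl
    have h1 : Φ ((1 : A) ⊗ₜ (1 : E)) = 1 := map_one Φ
    rw [hΦ, map_one, one_mul] at h1
    rw [h0, hΦ, h1, mul_one]
  let g := (((TensorProduct.comm T E B₀).toAddEquiv.trans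
    (Algebra.TensorProduct.cancelBaseChange T A A B₀ E).symm.toRingEquiv.toAddEquiv).trans
    (Algebra.TensorProduct.congr (AlgEquiv.refl (R := A) (A₁ := B₀)) Φ').toRingEquiv.toAddEquiv).trans
    (TensorProduct.comm A B₀ B₀).toAddEquiv
  have : ι = g.toAddMonoidHom := AddMonoidHom.ext fun z => by
    induction z with
    | zero => simp
    | tmul e b =>
      rw [hι]
      show _ = TensorProduct.comm A B₀ B₀ (Algebra.TensorProduct.congr _ Φ'
        ((Algebra.TensorProduct.cancelBaseChange T A A B₀ E).symm (b ⊗ₜ e)))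
      rw [Algebra.TensorProduct.cancelBaseChange_symm_tmul]
      show _ = Φ ((1 : A) ⊗ₜ e) ⊗ₜ b
      rw [hΦ, map_one, one_mul]
    | add x y hx hy => simp only [map_add, hx, hy]
  rw [this]; exact g.bijective

variable {A B C : Type u} [CommRing A] [CommRing B] [CommRing C]

lemma le_comap_p {p q : B →+* C} {I : Ideal B} (h : I.map p = I.map q) : I ≤ (I.map q).comap p :=
  fun _ hx => map_p_le h.le hx

/-- The first end modulo `I`. -/
abbrev pbar {p q : B →+* C} {I : Ideal B} (h : I.map p = I.map q) : B ⧸ I →+* C ⧸ I.map q :=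
  Ideal.quotientMap _ p (le_comap_p h)

/-- The second end modulo `I`. -/
abbrev qbar (q : B →+* C) (I : Ideal B) : B ⧸ I →+* C ⧸ I.map q :=
  Ideal.quotientMap _ q Ideal.le_comap_map

/-- Ideals which are invariant. -/
lemma inv_pow {p q : B →+* C} {K : Ideal B} (h : K.map p = K.map q) (n : ℕ) :
    (K ^ n).map p = (K ^ n).map q := by rw [Ideal.map_pow, Ideal.map_pow, h]

/-- A groupoid which modulo a nil ideal is the descent datum of a faithfully flat etale algebra is
effective. -/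
theorem effective (p q : B →+* C) (hg : IsEqvRing p q) (I : Ideal B) (hnil : ∀ x ∈ I, IsNilpotent x)
    (hinv : I.map p = I.map q) (a : A →+* B ⧸ I) (hae : a.Etale) (haf : a.FaithfullyFlat)
    (ha : ∀ x, pbar hinv (a x) = qbar q I (a x))
    (hdesc : letI := a.toAlgebra
      ∀ φ : (B ⧸ I) ⊗[A] (B ⧸ I) →+ C ⧸ I.map q,
        (∀ x y, φ (x ⊗ₜ y) = pbar hinv x * qbar q I y) → Function.Bijective φ) :
    ((p.eqLocus q).subtype).FaithfullyFlat ∧
      ∀ {D : Type u} [CommRing D] (f g : B →+* D),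
        f.comp (p.eqLocus q).subtype = g.comp (p.eqLocus q).subtype →
        ∃ k : C →+* D, k.comp p = f ∧ k.comp q = g := by
  letI := a.toAlgebra
  haveI : Algebra.Etale A (B ⧸ I) := hae
  haveI : Module.FaithfullyFlat A (B ⧸ I) := haf
  obtain ⟨N⟩ := exists_model A (B ⧸ I)
  haveI := N.noeth
  haveI := N.finT
  haveI := N.etale
  haveI := N.ff
  -- the data attached to a lift of the parameters
  have hctx : ∀ τ : N.T →+* B, (Ideal.Quotient.mk I).comp τ = a.comp N.ψ →
      letI := τ.toAlgebra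
      Ctx (T := N.T) p q I N.u₀ := by
    intro τ hτ
    letI := τ.toAlgebra
    letI : Algebra N.T A := N.ψ.toAlgebra
    haveI : IsScalarTower N.T A (B ⧸ I) := IsScalarTower.of_algebraMap_eq fun t => congr($hτ t)
    obtain ⟨Φ, hΦ⟩ : ∃ Φ : A ⊗[N.T] N.E ≃+* B ⧸ I, ∀ x e, Φ (x ⊗ₜ e) = algebraMap A (B ⧸ I) x * N.u₀ e :=
      N.bij
    letI : Algebra A (C ⧸ I.map q) := ((qbar q I).comp a).toAlgebra
    let ψ : (B ⧸ I) ⊗[A] (B ⧸ I) →ₐ[A] C ⧸ I.map q := Algebra.TensorProduct.lift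
      { pbar hinv with commutes' := ha } { qbar q I with commutes' := fun _ => rfl }
      fun _ _ => Commute.all _ _
    have hψ : ∀ x y, ψ (x ⊗ₜ y) = pbar hinv x * qbar q I y := fun x y =>
      Algebra.TensorProduct.lift_tmul _ _ _ x y
    have hb := hdesc ψ.toRingHom.toAddMonoidHom hψ
    let ua : N.E →ₐ[N.T] B ⧸ I := { N.u₀ with commutes' := fun t => congr($(N.comm) t).trans congr($hτ.symm t) }
    let ι : N.E ⊗[N.T] (B ⧸ I) →ₐ[N.T] (B ⧸ I) ⊗[A] (B ⧸ I) := Algebra.TensorProduct.lift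
      ((Algebra.TensorProduct.includeLeft (R := A) (S := A)).restrictScalars N.T |>.comp ua)
      ((Algebra.TensorProduct.includeRight (R := A)).restrictScalars N.T) fun _ _ => Commute.all _ _
    have hι : ∀ e b, ι (e ⊗ₜ b) = N.u₀ e ⊗ₜ b := fun e b => by
      rw [Algebra.TensorProduct.lift_tmul]
      show ((N.u₀ e) ⊗ₜ[A] (1 : B ⧸ I)) * ((1 : B ⧸ I) ⊗ₜ[A] b) = _
      rw [Algebra.TensorProduct.tmul_mul_tmul, mul_one, one_mul]
    have hιb := bijective_tensor Φ N.u₀ hΦ ι.toRingHom.toAddMonoidHom hι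
    have hfac : ∀ φ : N.E ⊗[N.T] B →+ C ⧸ I.map q, (∀ e b w, Ideal.Quotient.mk I w = N.u₀ e →
        φ (e ⊗ₜ b) = Ideal.Quotient.mk (I.map q) (p w * q b)) →
        ∀ z, φ z = ψ (ι ((Ideal.Quotient.mkₐ N.T I).toLinearMap.lTensor N.E z)) := fun φ hφ z => by
      induction z with
      | zero => simp
      | tmul e b =>
        obtain ⟨w, hw⟩ := Ideal.Quotient.mk_surjective (N.u₀ e)
        rw [hφ e b w hw, LinearMap.lTensor_tmul, hι, hψ, ← hw, map_mul]
        rfl
      | add x y hx hy => simp only [map_add, hx, hy]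
    refine ⟨hg, hnil, hinv, RingHom.ext fun t => congr($(N.comm) t).trans congr($hτ.symm t), fun t => ?_,
      fun φ hφ c => ?_, fun φ hφ y hy => ?_⟩
    · rw [← Ideal.Quotient.eq]
      have := ha (N.ψ t)
      rwa [show a (N.ψ t) = Ideal.Quotient.mk I (τ t) from congr($hτ.symm t)] at this
    · obtain ⟨x, rfl⟩ := hb.2 c
      obtain ⟨z, rfl⟩ := hιb.2 x
      obtain ⟨z, rfl⟩ := LinearMap.lTensor_surjective N.E
        (g := (Ideal.Quotient.mkₐ N.T I).toLinearMap) Ideal.Quotient.mk_surjective z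
      exact ⟨z, hfac φ hφ z⟩
    · rw [hfac φ hφ] at hy
      exact hιb.1 ((hb.1 (hy.trans (map_zero ψ).symm)).trans (map_zero ι).symm)
  -- an invariant nilpotent ideal of error terms
  obtain ⟨τ₀, hτ₀⟩ := N.lift I hnil a
  have hδ : ∀ t, p (τ₀ t) - q (τ₀ t) ∈ I.map q := fun t => by
    letI := τ₀.toAlgebra
    exact (hctx τ₀ hτ₀).inv_param t
  have hfin : ∀ c ∈ I.map q, ∃ xs : Finset B, (∀ x ∈ xs, x ∈ I) ∧ c ∈ (Ideal.span (xs : Set B)).map q := by
    classical
    intro c hc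
    induction hc using Submodule.span_induction with
    | mem c hc =>
      obtain ⟨x, hx, rfl⟩ := hc
      exact ⟨{x}, by simpa using hx, Ideal.mem_map_of_mem q (Ideal.subset_span (by simp))⟩
    | zero => exact ⟨∅, by simp, zero_mem _⟩
    | add x y _ _ hx hy =>
      obtain ⟨xs, h1, h2⟩ := hx
      obtain ⟨ys, h3, h4⟩ := hy
      refine ⟨xs ∪ ys, by simpa [or_imp, forall_and] using And.intro h1 h3, add_mem ?_ ?_⟩
      · exact Ideal.map_mono (Ideal.span_mono (by simp)) h2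
      · exact Ideal.map_mono (Ideal.span_mono (by simp)) h4
    | smul r x _ hx =>
      obtain ⟨xs, h1, h2⟩ := hx
      exact ⟨xs, h1, Ideal.mul_mem_left _ r h2⟩
  choose xs hxsI hxs using fun t => hfin _ (hδ t)
  classical
  obtain ⟨K, hKI, hKinv, hKnil, hK⟩ :
      ∃ K : Ideal B, K ≤ I ∧ K.map p = K.map q ∧ IsNilpotent K ∧ ∀ x ∈ N.gens.biUnion xs, x ∈ K := by
    letI := τ₀.toAlgebra
    exact (hctx τ₀ hτ₀).exists_invariant _ fun x hx => by
      obtain ⟨t, -, ht⟩ := Finset.mem_biUnion.1 hx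
      exact hxsI t x ht
  have hclosed : ∀ (τ : N.T →+* B) (L : Ideal C), (∀ g ∈ N.gens, p (τ g) - q (τ g) ∈ L) →
      ∀ t, p (τ t) - q (τ t) ∈ L := fun τ L h t => by
    let S : Subring N.T := RingHom.eqLocus ((Ideal.Quotient.mk L).comp (p.comp τ)) ((Ideal.Quotient.mk L).comp (q.comp τ))
    have : S = ⊤ := N.closure S (fun g hg => Ideal.Quotient.eq.2 (h g hg)) fun x y hx hxy => by
      set f := (Ideal.Quotient.mk L).comp (p.comp τ)
      set g := (Ideal.Quotient.mk L).comp (q.comp τ)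
      calc f y = f y * g (x * y) := by rw [hxy, map_one, mul_one]
        _ = f (x * y) * g y := by rw [map_mul, map_mul, (hx : f x = g x)]; ring
        _ = g y := by rw [hxy, map_one, one_mul]
    exact Ideal.Quotient.eq.1 (this.ge trivial : t ∈ S)
  have hstep : ∀ n : ℕ, ∃ τ : N.T →+* B, (Ideal.Quotient.mk I).comp τ = a.comp N.ψ ∧
      ∀ t, p (τ t) - q (τ t) ∈ (K ^ 2 ^ n).map q := by
    intro n
    induction n with
    | zero =>
      refine ⟨τ₀, hτ₀, hclosed τ₀ _ fun g hg => ?_⟩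
      rw [pow_zero, pow_one]
      exact Ideal.map_mono (Ideal.span_le.2 fun x hx => hK x (Finset.mem_biUnion.2 ⟨g, hg, hx⟩)) (hxs g)
    | succ n ih =>
      obtain ⟨τ, hτ, hpar⟩ := ih
      have hJI : K ^ 2 ^ n ≤ I := (Ideal.pow_le_self (by positivity)).trans hKI
      have hc : ∀ g : N.T, ∃ m ∈ K ^ 2 ^ n, p (τ g - m) - q (τ g - m) ∈ (K ^ 2 ^ n * K ^ 2 ^ n).map q := by
        letI := τ.toAlgebra
        exact fun g => (hctx τ hτ).exists_correction hJI (inv_pow hKinv _) hpar _ (hpar g)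
      choose m hm hm' using hc
      obtain ⟨τ', hτ'⟩ := N.free (K ^ 2 ^ n) (fun x hx => hnil x (hJI hx)) τ m fun g _ => hm g
      refine ⟨τ', ?_, hclosed τ' _ fun g hg => ?_⟩
      · rw [← hτ]
        refine RingHom.ext fun t => (?_ : t ∈ RingHom.eqLocus _ _)
        rw [N.closure (RingHom.eqLocus ((Ideal.Quotient.mk I).comp τ') ((Ideal.Quotient.mk I).comp τ))
          (fun g hg => ?_) fun x y hx hxy => ?_]
        · trivial
        · show Ideal.Quotient.mk I (τ' g) = Ideal.Quotient.mk I (τ g)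
          rw [hτ' g hg, map_sub, Ideal.Quotient.eq_zero_iff_mem.2 (hJI (hm g)), sub_zero]
        · set f := (Ideal.Quotient.mk I).comp τ'
          set g := (Ideal.Quotient.mk I).comp τ
          calc f y = f y * g (x * y) := by rw [hxy, map_one, mul_one]
            _ = f (x * y) * g y := by rw [map_mul, map_mul, (hx : f x = g x)]; ring
            _ = g y := by rw [hxy, map_one, one_mul]
      · rw [hτ' g hg, pow_succ, mul_two, pow_add]
        exact hm' g
  obtain ⟨k, hk⟩ := hKnil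
  obtain ⟨τ, hτ, hpar⟩ := hstep k
  have hpar' : ∀ t, p (τ t) = q (τ t) := fun t => sub_eq_zero.1 (by
    have := hpar t
    rwa [le_bot_iff.1 ((Ideal.pow_le_pow_right Nat.lt_two_pow_self.le).trans hk.le), Ideal.map_bot,
      Submodule.mem_bot] at this)
  letI := τ.toAlgebra
  exact (hctx τ hτ).effective hpar'

end Groth.L23.NilEffective
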