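import Groth.Agent.L23.NilLift
import Groth.Agent.L23.AffineDescent
import Mathlib.RingTheory.RingHom.Etale
import Mathlib.RingTheory.Flat.FaithfullyFlat.Algebra
import Mathlib.RingTheory.TensorProduct.Quotient
import Mathlib.RingTheory.Noetherian.Basic
import Mathlib.LinearAlgebra.TensorProduct.RightExactness

/-!
# Etale groupoids of affine schemes which are thickenings of effective ones

For an etale groupoid `p q : B → C` of rings and an invariant ideal `I` of nilpotent elements such that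
modulo `I` the groupoid is the descent datum of a faithfully flat etale `T`-algebra `E`: lifts of the
parameters of `T` can be corrected to invariant ones, and then the groupoid itself is effective.
-/

universe u

open scoped TensorProduct

set_option backward.isDefEq.respectTransparency.types false

namespace Groth.L23.NilGpd

variable {B C : Type u} [CommRing B] [CommRing C]

/-- An etale groupoid of rings: `p`, `q` are the two ends. -/
structure IsEqvRing (p q : B →+* C) : Prop where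
  etale : q.Etale
  refl : ∃ e : C →+* B, e.comp p = RingHom.id B ∧ e.comp q = RingHom.id B
  symm : ∃ σ : C →+* C, σ.comp p = q ∧ σ.comp q = p
  trans : ∀ {D : Type u} [CommRing D] (f g : C →+* D), f.comp q = g.comp p →
    ∃ h : C →+* D, h.comp p = f.comp p ∧ h.comp q = g.comp q

/-- `C`, seen through `f`. -/
@[nolint unusedArguments]
def Tw (_f : B →+* C) : Type u := C

noncomputable instance (f : B →+* C) : CommRing (Tw f) := inferInstanceAs (CommRing C)

/-- The identity. -/
def toTw (f : B →+* C) : C →+* Tw f := RingHom.id C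

/-- The identity. -/
def ofTw (f : B →+* C) : Tw f →+* C := RingHom.id C

noncomputable instance (f : B →+* C) : Algebra B (Tw f) := ((toTw f).comp f).toAlgebra

variable {T E : Type u} [CommRing T] [CommRing E] [Algebra T B] [Algebra T E]

noncomputable instance (f : B →+* C) : Algebra T (Tw f) :=
  (((toTw f).comp f).comp (algebraMap T B)).toAlgebra

instance (f : B →+* C) : IsScalarTower T B (Tw f) := IsScalarTower.of_algebraMap_eq fun _ => rfl

/-- `f` as an algebra map. -/
noncomputable def twHom (f : B →+* C) : B →ₐ[T] Tw f := IsScalarTower.toAlgHom T B (Tw f)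

/-- The datum: modulo `I` the groupoid is descent along `T → E`. -/
structure Ctx (p q : B →+* C) (I : Ideal B) (u₀ : E →+* B ⧸ I) : Prop where
  gpd : IsEqvRing p q
  nil : ∀ x ∈ I, IsNilpotent x
  inv : I.map p = I.map q
  hu : u₀.comp (algebraMap T E) = (Ideal.Quotient.mk I).comp (algebraMap T B)
  inv_param : ∀ t : T, p (algebraMap T B t) - q (algebraMap T B t) ∈ I.map q
  surj : ∀ φ : E ⊗[T] B →+ C ⧸ I.map q, (∀ e b w, Ideal.Quotient.mk I w = u₀ e →
    φ (e ⊗ₜ b) = Ideal.Quotient.mk (I.map q) (p w * q b)) → Function.Surjective φ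
  inj : ∀ φ : E ⊗[T] B →+ C ⧸ I.map q, (∀ e b w, Ideal.Quotient.mk I w = u₀ e →
    φ (e ⊗ₜ b) = Ideal.Quotient.mk (I.map q) (p w * q b)) →
      ∀ y, φ y = 0 → (Ideal.Quotient.mkₐ T I).toLinearMap.lTensor E y = 0

variable {p q : B →+* C} {I : Ideal B} {u₀ : E →+* B ⧸ I}

lemma nil_map (hnil : ∀ x ∈ I, IsNilpotent x) (f : B →+* C) : ∀ x ∈ I.map f, IsNilpotent x := fun _ hx =>
  mem_nilradical.1 ((Ideal.map_le_iff_le_comap.2 fun y hy =>
    Ideal.mem_comap.2 (mem_nilradical.2 ((hnil y hy).map f))) hx)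

lemma map_p_le {J : Ideal B} (hJ : J.map p ≤ J.map q) {m : B} (hm : m ∈ J) : p m ∈ J.map q :=
  hJ (Ideal.mem_map_of_mem p hm)

lemma ker_lTensor_mk (J : Ideal B) (z : E ⊗[T] B)
    (hz : (Ideal.Quotient.mkₐ T J).toLinearMap.lTensor E z = 0) :
    ∃ y, (J.subtype.restrictScalars T).lTensor E y = z := by
  have hex : Function.Exact (J.subtype.restrictScalars T) (Ideal.Quotient.mkₐ T J).toLinearMap := fun b => by
    constructor
    · intro hb
      exact ⟨⟨b, Ideal.Quotient.eq_zero_iff_mem.1 hb⟩, rfl⟩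
    · rintro ⟨⟨b, hb⟩, rfl⟩
      exact Ideal.Quotient.eq_zero_iff_mem.2 hb
  exact (lTensor_exact E hex Ideal.Quotient.mk_surjective z).1 hz

variable [Algebra.Etale T E]

/-- A lift of `u₀` to `B`. -/
lemma Ctx.exists_u (h : Ctx (T := T) p q I u₀) : ∃ u : E →ₐ[T] B, ∀ e, Ideal.Quotient.mk I (u e) = u₀ e := by
  obtain ⟨u, hu⟩ := NilLift.exists_lift I h.nil
    ({ u₀ with commutes' := fun t => congr($(h.hu) t) } : E →ₐ[T] B ⧸ I)
  exact ⟨u, fun e => congr($hu e)⟩

/-- The lift to `C`, over the second end. -/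
lemma Ctx.exists_beta (h : Ctx (T := T) p q I u₀) (u : E →ₐ[T] B) :
    ∃ β : E →ₐ[T] Tw q, ∀ e, ofTw q (β e) - p (u e) ∈ I.map q := by
  let IC : Ideal (Tw q) := I.map ((toTw q).comp q)
  let g : E →ₐ[T] Tw q ⧸ IC :=
    { (Ideal.Quotient.mk IC).comp ((toTw q).comp (p.comp u.toRingHom)) with
      commutes' := fun t => by
        refine Ideal.Quotient.eq.2 ?_
        show p (u (algebraMap T E t)) - q (algebraMap T B t) ∈ I.map q
        rw [u.commutes]
        exact h.inv_param t }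
  obtain ⟨β, hβ⟩ := NilLift.exists_lift IC (nil_map h.nil q) g
  exact ⟨β, fun e => Ideal.Quotient.eq.1 congr($hβ e)⟩

lemma Ctx.beta_sub (h : Ctx (T := T) p q I u₀) {u : E →ₐ[T] B} {β : E →ₐ[T] Tw q}
    (hβ : ∀ e, ofTw q (β e) - p (u e) ∈ I.map q) {J : Ideal B} (hJI : J ≤ I)
    (hpar : ∀ t : T, p (algebraMap T B t) - q (algebraMap T B t) ∈ J.map q) (e : E) :
    ofTw q (β e) - p (u e) ∈ J.map q := by
  let JC : Ideal (Tw q) := J.map ((toTw q).comp q)
  let g₁ : E →ₐ[T] Tw q ⧸ JC := (Ideal.Quotient.mkₐ T JC).comp β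
  let g₂ : E →ₐ[T] Tw q ⧸ JC :=
    { (Ideal.Quotient.mk JC).comp ((toTw q).comp (p.comp u.toRingHom)) with
      commutes' := fun t => by
        refine Ideal.Quotient.eq.2 ?_
        show p (u (algebraMap T E t)) - q (algebraMap T B t) ∈ J.map q
        rw [u.commutes]
        exact hpar t }
  have : g₁ = g₂ := by
    refine NilLift.lift_unique ((I.map ((toTw q).comp q)).map (Ideal.Quotient.mk JC))
      (fun x hx => ?_) fun e => ?_
    · obtain ⟨y, hy, rfl⟩ := (Ideal.mem_map_iff_of_surjective _ Ideal.Quotient.mk_surjective).1 hx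
      exact (nil_map h.nil q y hy).map _
    · show Ideal.Quotient.mk JC (β e) - Ideal.Quotient.mk JC (toTw q (p (u e))) ∈ _
      rw [← map_sub]
      exact Ideal.mem_map_of_mem _ (hβ e)
  exact Ideal.Quotient.eq.1 congr($this e)

/-- `E ⊗[T] B ≅ C`. -/
noncomputable def theta (β : E →ₐ[T] Tw q) : E ⊗[T] B →ₐ[T] Tw q := mulMap β (twHom q)

lemma theta_tmul (β : E →ₐ[T] Tw q) (e : E) (b : B) : theta β (e ⊗ₜ b) = β e * toTw q (q b) :=
  mulMap_tmul _ _ _ _

lemma Ctx.bijective_theta (h : Ctx (T := T) p q I u₀) {u : E →ₐ[T] B} (hu : ∀ e, Ideal.Quotient.mk I (u e) = u₀ e)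
    {β : E →ₐ[T] Tw q} (hβ : ∀ e, ofTw q (β e) - p (u e) ∈ I.map q) : Function.Bijective (theta β) := by
  haveI : Algebra.Etale B (Tw q) := h.gpd.etale
  let φ : B ⊗[T] E →ₐ[B] Tw q :=
    Algebra.TensorProduct.lift (Algebra.ofId B (Tw q)) β fun _ _ => Commute.all _ _
  have hφ : ∀ y, φ y = theta β (Algebra.TensorProduct.comm T B E y) := fun y => by
    induction y with
    | zero => simp
    | tmul b e =>
      rw [Algebra.TensorProduct.comm_tmul, theta_tmul, Algebra.TensorProduct.lift_tmul, mul_comm]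
      rfl
    | add y y' h₁ h₂ => simp [h₁, h₂]
  let θ : E ⊗[T] B →+ C ⧸ I.map q :=
    ((Ideal.Quotient.mk (I.map q)).comp ((ofTw q).comp (theta β).toRingHom)).toAddMonoidHom
  have hθ : ∀ e b w, Ideal.Quotient.mk I w = u₀ e → θ (e ⊗ₜ b) = Ideal.Quotient.mk (I.map q) (p w * q b) :=
    fun e b w hw => by
    refine Ideal.Quotient.eq.2 ?_
    show ofTw q (theta β (e ⊗ₜ b)) - _ ∈ _
    rw [theta_tmul, map_mul]
    show ofTw q (β e) * q b - _ ∈ _
    rw [← sub_mul]
    refine Ideal.mul_mem_right _ _ ?_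
    have : p (u e) - p w ∈ I.map q := by
      rw [← map_sub]
      exact map_p_le h.inv.le (Ideal.Quotient.eq.1 ((hu e).trans hw.symm))
    simpa using (I.map q).add_mem (hβ e) this
  have hb : Function.Bijective φ := by
    refine NilLift.bijective_of_mod I h.nil φ (fun c => ?_) fun x hx => ?_
    · obtain ⟨y, hy⟩ := h.surj θ hθ (Ideal.Quotient.mk _ (ofTw q c))
      refine ⟨(Algebra.TensorProduct.comm T B E).symm y, ?_⟩
      rw [hφ, AlgEquiv.apply_symm_apply]
      exact Ideal.Quotient.eq.1 hy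
    · have h1 : θ (Algebra.TensorProduct.comm T B E x) = 0 := by
        refine Ideal.Quotient.eq_zero_iff_mem.2 ?_
        show ofTw q (theta β (Algebra.TensorProduct.comm T B E x)) ∈ _
        rw [← hφ]; exact hx
      obtain ⟨y, hy⟩ := ker_lTensor_mk I _ (h.inj θ hθ _ h1)
      rw [← (Algebra.TensorProduct.comm T B E).symm_apply_apply x, ← hy]
      clear hy h1
      induction y with
      | zero => simp
      | tmul e m =>
        have : (Algebra.TensorProduct.comm T B E).symm ((I.subtype.restrictScalars T).lTensor E (e ⊗ₜ m)) =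
            algebraMap B (B ⊗[T] E) m.1 * ((1 : B) ⊗ₜ e) := by
          rw [LinearMap.lTensor_tmul, AlgEquiv.symm_apply_eq, Algebra.TensorProduct.algebraMap_apply,
            Algebra.TensorProduct.tmul_mul_tmul, Algebra.TensorProduct.comm_tmul]
          simp
        rw [this]
        exact Ideal.mul_mem_right _ _ (Ideal.mem_map_of_mem _ m.2)
      | add y y' h₁ h₂ => simpa using Ideal.add_mem _ h₁ h₂
  have : (φ : B ⊗[T] E → Tw q) = theta β ∘ Algebra.TensorProduct.comm T B E := funext hφ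
  rw [this] at hb
  exact (Function.Bijective.of_comp_iff _ (Algebra.TensorProduct.comm T B E).bijective).1 hb

variable (T E) in
/-- Triples of points. -/
abbrev C₂ (p : B →+* C) : Type u := E ⊗[T] Tw p

/-- The last two points. -/
noncomputable def jHom (p : B →+* C) : C →+* C₂ T E p :=
  (Algebra.TensorProduct.includeRight : Tw p →ₐ[T] C₂ T E p).toRingHom.comp (toTw p)

lemma jHom_apply (c : C) : jHom (T := T) (E := E) p c = (1 : E) ⊗ₜ toTw p c := rfl

/-- The first two points. -/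
noncomputable def lHom {β : E →ₐ[T] Tw q} (hb : Function.Bijective (theta β)) (p : B →+* C) :
    C →+* C₂ T E p :=
  ((Algebra.TensorProduct.map (AlgHom.id T E) (twHom p)).comp
    (AlgEquiv.ofBijective (theta β) hb).symm.toAlgHom).toRingHom.comp (toTw q)

lemma lHom_theta {β : E →ₐ[T] Tw q} (hb : Function.Bijective (theta β)) (y : E ⊗[T] B) :
    lHom hb p (ofTw q (theta β y)) = Algebra.TensorProduct.map (AlgHom.id T E) (twHom p) y := by
  show Algebra.TensorProduct.map (AlgHom.id T E) (twHom p)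
    ((AlgEquiv.ofBijective (theta β) hb).symm (theta β y)) = _
  congr 1
  exact (AlgEquiv.ofBijective (theta β) hb).symm_apply_apply y

lemma lHom_q {β : E →ₐ[T] Tw q} (hb : Function.Bijective (theta β)) (b : B) :
    lHom hb p (q b) = jHom p (p b) := by
  have : q b = ofTw q (theta β ((1 : E) ⊗ₜ b)) := by
    rw [theta_tmul, map_one, one_mul]; rfl
  rw [this, lHom_theta, Algebra.TensorProduct.map_tmul, jHom_apply]
  rfl

lemma lHom_beta {β : E →ₐ[T] Tw q} (hb : Function.Bijective (theta β)) (e : E) :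
    lHom hb p (ofTw q (β e)) = e ⊗ₜ 1 := by
  have : β e = theta β (e ⊗ₜ (1 : B)) := by
    rw [theta_tmul, map_one, map_one, mul_one]
  rw [this, lHom_theta, Algebra.TensorProduct.map_tmul, map_one]
  rfl

/-- The composition `(1,3)`. -/
lemma Ctx.exists_c13 (h : Ctx (T := T) p q I u₀) {β : E →ₐ[T] Tw q} (hb : Function.Bijective (theta β)) :
    ∃ m : C →+* C₂ T E p, (∀ b, m (p b) = lHom hb p (p b)) ∧ ∀ b, m (q b) = jHom p (q b) := by
  obtain ⟨m, h₁, h₂⟩ := h.gpd.trans (lHom hb p) (jHom p) (RingHom.ext fun b => lHom_q hb b)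
  exact ⟨m, fun b => congr($h₁ b), fun b => congr($h₂ b)⟩

lemma map_lHom_le {β : E →ₐ[T] Tw q} (hb : Function.Bijective (theta β)) {J : Ideal B}
    (hJ : J.map p ≤ J.map q) : (J.map q).map (lHom hb p) ≤ (J.map q).map (jHom p) := by
  rw [Ideal.map_map, Ideal.map_le_iff_le_comap]
  intro m hm
  rw [Ideal.mem_comap, RingHom.comp_apply, lHom_q]
  exact Ideal.mem_map_of_mem _ (map_p_le hJ hm)

lemma exists_theta_eq {β : E →ₐ[T] Tw q} (hb : Function.Bijective (theta β)) (J : Ideal B) {c : C}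
    (hc : c ∈ J.map q) :
    ∃ y, ofTw q (theta β ((J.subtype.restrictScalars T).lTensor E y)) = c := by
  let Φ := AlgEquiv.ofBijective (theta β) hb
  let inv : C →+* E ⊗[T] B := Φ.symm.toRingEquiv.toRingHom.comp (toTw q)
  have hle : J.map q ≤ (RingHom.ker (Algebra.TensorProduct.map (AlgHom.id T E)
      (Ideal.Quotient.mkₐ T J)).toRingHom).comap inv := Ideal.map_le_iff_le_comap.2 fun m hm => by
    show Algebra.TensorProduct.map (AlgHom.id T E) (Ideal.Quotient.mkₐ T J) (Φ.symm (toTw q (q m))) = 0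
    have : toTw q (q m) = Φ ((1 : E) ⊗ₜ m) := by
      rw [show Φ ((1 : E) ⊗ₜ m) = theta β ((1 : E) ⊗ₜ m) from rfl, theta_tmul, map_one, one_mul]
    rw [this, Φ.symm_apply_apply, Algebra.TensorProduct.map_tmul, Ideal.Quotient.mkₐ_eq_mk,
      Ideal.Quotient.eq_zero_iff_mem.2 hm, TensorProduct.tmul_zero]
  have h0 : (Ideal.Quotient.mkₐ T J).toLinearMap.lTensor E (inv c) = 0 := hle hc
  obtain ⟨y, hy⟩ := ker_lTensor_mk J _ h0
  refine ⟨y, ?_⟩
  rw [hy]
  exact congr_arg (ofTw q) (Φ.apply_symm_apply (toTw q c))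

/-- Newton step: a parameter which is invariant modulo `J` can be corrected modulo `J ^ 2`. -/
theorem Ctx.exists_correction (h : Ctx (T := T) p q I u₀) [Module.FaithfullyFlat T E] {J : Ideal B} (hJI : J ≤ I)
    (hJ : J.map p = J.map q) (hpar : ∀ t : T, p (algebraMap T B t) - q (algebraMap T B t) ∈ J.map q)
    (b : B) (hb : p b - q b ∈ J.map q) : ∃ m ∈ J, p (b - m) - q (b - m) ∈ (J * J).map q := by
  obtain ⟨u, hu⟩ := h.exists_u
  obtain ⟨β, hβ⟩ := h.exists_beta u
  have hΘ := h.bijective_theta hu hβ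
  obtain ⟨c₁₃, hc₁, hc₂⟩ := h.exists_c13 hΘ
  let J₂ : Ideal (C₂ T E p) := (J.map q).map (jHom p)
  have hmap₁₃ : (J.map q).map c₁₃ ≤ J₂ := by
    rw [Ideal.map_map, Ideal.map_le_iff_le_comap]
    intro m hm
    show c₁₃ (q m) ∈ J₂
    rw [hc₂]
    exact Ideal.mem_map_of_mem _ (Ideal.mem_map_of_mem _ hm)
  have hε : ∀ e, c₁₃ (ofTw q (β e)) - e ⊗ₜ (1 : Tw p) ∈ J₂ := fun e => by
    have h1 := h.beta_sub hβ hJI hpar e
    rw [← lHom_beta (p := p) hΘ e]
    have h2 : c₁₃ (p (u e)) = lHom hΘ p (p (u e)) := hc₁ _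
    have h3 : c₁₃ (ofTw q (β e)) - lHom hΘ p (ofTw q (β e)) =
        c₁₃ (ofTw q (β e) - p (u e)) - lHom hΘ p (ofTw q (β e) - p (u e)) := by
      rw [map_sub, map_sub, h2]; ring
    rw [h3]
    exact J₂.sub_mem (hmap₁₃ (Ideal.mem_map_of_mem _ h1))
      (map_lHom_le hΘ hJ.le (Ideal.mem_map_of_mem _ h1))
  let Q : Ideal (Tw p) := ((J * J).map q).map (toTw p)
  have hQ : Q = ((J * J).map q : Ideal C) := Ideal.map_id _
  let π : C₂ T E p →ₗ[T] E ⊗[T] (Tw p ⧸ Q) := (Ideal.Quotient.mkₐ T Q).toLinearMap.lTensor E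
  have hπ : ∀ x ∈ J₂ * J₂, π x = 0 := fun x hx => by
    have hle : J₂ * J₂ ≤ RingHom.ker (Algebra.TensorProduct.map (AlgHom.id T E)
        (Ideal.Quotient.mkₐ T Q)).toRingHom := by
      rw [← Ideal.map_mul, ← Ideal.map_mul, Ideal.map_le_iff_le_comap]
      intro c hc
      show Algebra.TensorProduct.map (AlgHom.id T E) (Ideal.Quotient.mkₐ T Q) (jHom p c) = 0
      rw [jHom_apply, Algebra.TensorProduct.map_tmul, Ideal.Quotient.mkₐ_eq_mk,
        Ideal.Quotient.eq_zero_iff_mem.2 (Ideal.mem_map_of_mem _ hc), TensorProduct.tmul_zero]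
    exact hle hx
  let fp : J →ₗ[T] Tw p ⧸ Q := (Ideal.Quotient.mkₐ T Q).toLinearMap ∘ₗ (twHom p).toLinearMap ∘ₗ
    (J.subtype.restrictScalars T)
  let fq : J →ₗ[T] Tw p ⧸ Q :=
    { toFun := fun m => Ideal.Quotient.mk Q (toTw p (q m.1))
      map_add' := fun m m' => by simp
      map_smul' := fun t m => by
        show Ideal.Quotient.mk Q (toTw p (q (t • m.1))) = t • Ideal.Quotient.mk Q (toTw p (q m.1))
        rw [Algebra.smul_def, Algebra.smul_def, ← Ideal.Quotient.mk_algebraMap]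
        refine Eq.trans ?_ (map_mul (Ideal.Quotient.mk Q) _ _)
        rw [Ideal.Quotient.eq, map_mul q]
        show q (algebraMap T B t) * q m.1 - p (algebraMap T B t) * q m.1 ∈ Q
        rw [hQ, ← sub_mul, Ideal.map_mul, ← neg_sub, neg_mul]
        exact neg_mem (Ideal.mul_mem_mul (hpar t) (Ideal.mem_map_of_mem _ m.2)) }
  obtain ⟨y, hy⟩ := exists_theta_eq hΘ J hb
  have hl : π (lHom hΘ p (p b - q b)) = fp.lTensor E y := by
    rw [← hy, lHom_theta]
    clear hy
    induction y with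
    | zero => simp
    | tmul e m => rfl
    | add y y' h₁ h₂ => simp [h₁, h₂]
  have hm : π (c₁₃ (p b - q b)) = fq.lTensor E y := by
    rw [← hy]
    clear hy hl
    induction y with
    | zero => simp
    | tmul e m =>
      rw [LinearMap.lTensor_tmul, theta_tmul, map_mul, map_mul]
      show π (c₁₃ (ofTw q (β e)) * c₁₃ (q m.1)) = _
      rw [hc₂, LinearMap.lTensor_tmul]
      have : c₁₃ (ofTw q (β e)) * jHom p (q m.1) =
          (e ⊗ₜ (1 : Tw p)) * jHom p (q m.1) + (c₁₃ (ofTw q (β e)) - e ⊗ₜ 1) * jHom p (q m.1) := by ring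
      rw [this, map_add, hπ _ (Ideal.mul_mem_mul (hε e)
        (Ideal.mem_map_of_mem _ (Ideal.mem_map_of_mem _ m.2))), add_zero, jHom_apply,
        Algebra.TensorProduct.tmul_mul_tmul, mul_one, one_mul]
      rfl
    | add y y' h₁ h₂ => simp [h₁, h₂]
  have hkey : (1 : E) ⊗ₜ[T] Ideal.Quotient.mk Q (toTw p (p b - q b)) = (fq - fp).lTensor E y := by
    rw [LinearMap.lTensor_sub, LinearMap.sub_apply, ← hl, ← hm, ← map_sub]
    have : c₁₃ (p b - q b) - lHom hΘ p (p b - q b) = jHom p (p b - q b) := by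
      simp only [map_sub, hc₁, hc₂, lHom_q]; abel
    rw [this]
    rfl
  let N := LinearMap.range (fq - fp)
  have hz : (1 : E) ⊗ₜ[T] N.mkQ (Ideal.Quotient.mk Q (toTw p (p b - q b))) = 0 := by
    have := congr(N.mkQ.lTensor E $hkey)
    rw [LinearMap.lTensor_tmul, ← LinearMap.lTensor_comp_apply,
      show N.mkQ ∘ₗ (fq - fp) = 0 from LinearMap.range_mkQ_comp _] at this
    simpa using this
  obtain ⟨m, hm'⟩ := (Submodule.Quotient.mk_eq_zero N).1 ((Module.FaithfullyFlat.one_tmul_eq_zero_iff T _ _).1 hz)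
  refine ⟨-m.1, J.neg_mem m.2, ?_⟩
  have : toTw p (p b - q b) - (toTw p (q m.1) - toTw p (p m.1)) ∈ Q :=
    by
    refine Ideal.Quotient.eq.1 ?_
    rw [← hm', LinearMap.sub_apply, map_sub]
    rfl
  rw [hQ] at this
  rw [sub_neg_eq_add, map_add, map_add]
  have e : p b + p m.1 - (q b + q m.1) = (p b - q b) - (q m.1 - p m.1) := by ring
  rw [e]
  exact this

/-- An ideal of nilpotency of bounded order, invariant, containing given elements of `I`. -/
theorem Ctx.exists_invariant (h : Ctx (T := T) p q I u₀) [IsNoetherianRing T] [Algebra.FiniteType ℤ T]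
    (xs : Finset B) (hxs : ∀ x ∈ xs, x ∈ I) :
    ∃ K : Ideal B, K ≤ I ∧ K.map p = K.map q ∧ IsNilpotent K ∧ ∀ x ∈ xs, x ∈ K := by
  classical
  obtain ⟨u, hu⟩ := h.exists_u
  obtain ⟨β, hβ⟩ := h.exists_beta u
  have hΘ := h.bijective_theta hu hβ
  obtain ⟨c₁₃, hc₁, hc₂⟩ := h.exists_c13 hΘ
  obtain ⟨ε, hεp, hεq⟩ := h.gpd.refl
  obtain ⟨σ, hσp, hσq⟩ := h.gpd.symm
  obtain ⟨gE, hgE⟩ := (Algebra.FiniteType.out : (⊤ : Subalgebra T E).FG)
  obtain ⟨gT, hgT⟩ := (Algebra.FiniteType.out : (⊤ : Subalgebra ℤ T).FG)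
  -- the coefficients
  choose cs hcs using fun e : E => TensorProduct.exists_finset (c₁₃ (ofTw q (β e)))
  choose ds hds using fun c : C => TensorProduct.exists_finset ((AlgEquiv.ofBijective (theta β) hΘ).symm (toTw q c))
  let cC : Finset C := (gE.biUnion fun e => (cs e).image fun r => ofTw p r.2) ∪
    (gT.image fun t => p (algebraMap T B t)) ∪ (xs.image p)
  let gB : Finset B := (cC.biUnion fun c => (ds c).image fun r => r.2) ∪ gE.image fun e => ε (ofTw q (β e))
  let T₂ : Subalgebra T B := Algebra.adjoin T (gB : Set B)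
  let θ₂ : E ⊗[T] T₂ →ₐ[T] Tw q := (theta β).comp (Algebra.TensorProduct.map (AlgHom.id T E) T₂.val)
  let W : Subring C := ((ofTw q).comp θ₂.toRingHom).range
  have hW₁ : ∀ b ∈ T₂, q b ∈ W := fun b hb => by
    refine ⟨(1 : E) ⊗ₜ ⟨b, hb⟩, ?_⟩
    show ofTw q (theta β ((1 : E) ⊗ₜ b)) = q b
    rw [theta_tmul, map_one, one_mul]; rfl
  have hW₂ : ∀ c ∈ cC, c ∈ W := fun c hc => by
    have hmem : ∀ r ∈ ds c, r.2 ∈ T₂ := fun r hr => Algebra.subset_adjoin (by
      simp only [gB, Finset.coe_union, Set.mem_union, Finset.mem_coe, Finset.mem_biUnion, Finset.mem_image]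
      exact Or.inl ⟨c, hc, r, hr, rfl⟩)
    refine ⟨∑ r ∈ (ds c).attach, r.1.1 ⊗ₜ ⟨r.1.2, hmem r.1 r.2⟩, ?_⟩
    show ofTw q (θ₂ _) = c
    rw [map_sum]
    have : ∑ r ∈ (ds c).attach, θ₂ (r.1.1 ⊗ₜ ⟨r.1.2, hmem r.1 r.2⟩) =
        ∑ r ∈ (ds c).attach, theta β (r.1.1 ⊗ₜ r.1.2) := Finset.sum_congr rfl fun r _ => rfl
    rw [this, Finset.sum_attach (ds c) (fun r => theta β (r.1 ⊗ₜ r.2)), ← map_sum, ← hds c]
    exact congr_arg (ofTw q) ((AlgEquiv.ofBijective (theta β) hΘ).apply_symm_apply _)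
  have hWT : ∀ t, p (algebraMap T B t) ∈ W := fun t => by
    have ht : t ∈ Algebra.adjoin ℤ (gT : Set T) := by rw [hgT]; trivial
    induction ht using Algebra.adjoin_induction with
    | mem t ht => exact hW₂ _ (by simp only [cC, Finset.mem_union, Finset.mem_image]; exact Or.inl (Or.inr ⟨t, ht, rfl⟩))
    | algebraMap k => simp [intCast_mem]
    | add s t _ _ hs ht => rw [map_add, map_add]; exact W.add_mem hs ht
    | mul s t _ _ hs ht => rw [map_mul, map_mul]; exact W.mul_mem hs ht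
  have hεW : ∀ w ∈ W, ε w ∈ T₂ := by
    rintro _ ⟨y, rfl⟩
    have hεE : ∀ e, ε (ofTw q (β e)) ∈ T₂ := fun e => by
      have he : e ∈ Algebra.adjoin T (gE : Set E) := by rw [hgE]; trivial
      induction he using Algebra.adjoin_induction with
      | mem e he => exact Algebra.subset_adjoin (by
          simp only [gB, Finset.coe_union, Set.mem_union, Finset.mem_coe, Finset.mem_image]
          exact Or.inr ⟨e, he, rfl⟩)
      | algebraMap t =>
        rw [β.commutes]
        show ε (q (algebraMap T B t)) ∈ T₂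
        rw [show ε (q (algebraMap T B t)) = algebraMap T B t from congr($hεq _)]
        exact T₂.algebraMap_mem t
      | add a b _ _ ha hb => rw [map_add, map_add, map_add]; exact T₂.add_mem ha hb
      | mul a b _ _ ha hb => rw [map_mul, map_mul, map_mul]; exact T₂.mul_mem ha hb
    show ε (ofTw q (θ₂ y)) ∈ T₂
    induction y with
    | zero => simp [T₂.zero_mem]
    | tmul e b =>
      show ε (ofTw q (theta β (e ⊗ₜ b.1))) ∈ T₂
      rw [theta_tmul, map_mul, map_mul]
      refine T₂.mul_mem (hεE e) ?_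
      show ε (q b.1) ∈ T₂
      rw [show ε (q b.1) = b.1 from congr($hεq _)]
      exact b.2
    | add y y' h₁ h₂ => rw [map_add, map_add, map_add]; exact T₂.add_mem h₁ h₂
  let Vm : Submodule T B :=
    { carrier := {b | p b ∈ W}
      add_mem' := fun {a b} ha hb => by
        show p (a + b) ∈ W
        rw [map_add]; exact W.add_mem ha hb
      zero_mem' := by show p 0 ∈ W; rw [map_zero]; exact W.zero_mem
      smul_mem' := fun t b hb => by
        show p (t • b) ∈ W
        rw [Algebra.smul_def, map_mul]; exact W.mul_mem (hWT t) hb }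
  have hVT : ∀ b ∈ Vm, b ∈ T₂ := fun b hb => by
    have := hεW _ hb
    rwa [show ε (p b) = b from congr($hεp b)] at this
  -- `W` as a `T`-module through the first end
  let Wm : Submodule T (Tw p) :=
    { carrier := {c | ofTw p c ∈ W}
      add_mem' := fun {a b} ha hb => W.add_mem ha hb
      zero_mem' := W.zero_mem
      smul_mem' := fun t c hc => by
        show ofTw p (t • c) ∈ W
        rw [Algebra.smul_def, map_mul]; exact W.mul_mem (hWT t) hc }
  let fV : B →ₗ[T] Tw p ⧸ Wm := Wm.mkQ ∘ₗ (twHom p).toLinearMap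
  have hexV : Function.Exact Vm.subtype fV := fun b => by
    constructor
    · intro hb
      exact ⟨⟨b, (Submodule.Quotient.mk_eq_zero Wm).1 hb⟩, rfl⟩
    · rintro ⟨⟨b, hb⟩, rfl⟩
      exact (Submodule.Quotient.mk_eq_zero Wm).2 hb
  let Ws : Subalgebra T (Tw p) :=
    { toSubsemiring := (W.comap (ofTw p)).toSubsemiring, algebraMap_mem' := hWT }
  let R₂ : Subalgebra T (C₂ T E p) := (Algebra.TensorProduct.map (AlgHom.id T E) Ws.val).range
  have hR₂ : ∀ z ∈ R₂, Wm.mkQ.lTensor E z = 0 := by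
    rintro _ ⟨y, rfl⟩
    induction y with
    | zero => simp
    | tmul e c =>
      show e ⊗ₜ[T] Wm.mkQ c.1 = 0
      rw [Submodule.mkQ_apply, (Submodule.Quotient.mk_eq_zero Wm).2 c.2, TensorProduct.tmul_zero]
    | add y y' h₁ h₂ => rw [map_add, map_add, h₁, h₂, add_zero]
  have hR₂j : ∀ w ∈ W, jHom p w ∈ R₂ := fun w hw => ⟨(1 : E) ⊗ₜ ⟨toTw p w, hw⟩, rfl⟩
  have hR₂β : ∀ e, c₁₃ (ofTw q (β e)) ∈ R₂ := fun e => by
    have he : e ∈ Algebra.adjoin T (gE : Set E) := by rw [hgE]; trivial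
    induction he using Algebra.adjoin_induction with
    | mem e he =>
      rw [hcs e]
      refine Subalgebra.sum_mem _ fun r hr => ⟨r.1 ⊗ₜ ⟨r.2, hW₂ _ ?_⟩, rfl⟩
      simp only [cC, Finset.mem_union, Finset.mem_biUnion, Finset.mem_image]
      exact Or.inl (Or.inl ⟨e, he, r, hr, rfl⟩)
    | algebraMap t =>
      rw [β.commutes]
      show c₁₃ (q (algebraMap T B t)) ∈ R₂
      rw [hc₂]
      exact hR₂j _ (hW₁ _ (T₂.algebraMap_mem t))
    | add a b _ _ ha hb => rw [map_add, map_add, map_add]; exact R₂.add_mem ha hb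
    | mul a b _ _ ha hb => rw [map_mul, map_mul, map_mul]; exact R₂.mul_mem ha hb
  -- the coaction preserves `Vm`
  have hcoact : ∀ b ∈ Vm, ∃ y, ofTw q (theta β (Vm.subtype.lTensor E y)) = p b := by
    intro b hb
    obtain ⟨y, hy⟩ := hb
    have h0 : fV.lTensor E (Algebra.TensorProduct.map (AlgHom.id T E) T₂.val y) = 0 := by
      have e1 : fV.lTensor E (Algebra.TensorProduct.map (AlgHom.id T E) T₂.val y) =
          Wm.mkQ.lTensor E (Algebra.TensorProduct.map (AlgHom.id T E) (twHom p)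
            (Algebra.TensorProduct.map (AlgHom.id T E) T₂.val y)) := by
        clear hy
        induction y with
        | zero => simp
        | tmul e b => rfl
        | add y y' h₁ h₂ => simp [h₁, h₂]
      rw [e1, ← lHom_theta hΘ]
      change Wm.mkQ.lTensor E (lHom hΘ p (ofTw q (θ₂ y))) = 0
      change ofTw q (θ₂ y) = p b at hy
      rw [hy, ← hc₁, ← hy]
      refine hR₂ _ ?_
      clear hy e1
      induction y with
      | zero => simp [R₂.zero_mem]
      | tmul e b =>
        show c₁₃ (ofTw q (theta β (e ⊗ₜ b.1))) ∈ R₂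
        rw [theta_tmul, map_mul, map_mul]
        refine R₂.mul_mem (hR₂β e) ?_
        show c₁₃ (q b.1) ∈ R₂
        rw [hc₂]
        exact hR₂j _ (hW₁ _ b.2)
      | add y y' h₁ h₂ => rw [map_add, map_add, map_add]; exact R₂.add_mem h₁ h₂
    obtain ⟨z, hz⟩ := (Module.Flat.lTensor_exact E hexV _).1 h0
    exact ⟨z, by rw [hz]; exact hy⟩
  let K : Ideal B := Ideal.span {b | b ∈ Vm ∧ b ∈ I}
  have hKpq : K.map p ≤ K.map q := by
    rw [Ideal.map_span, Ideal.span_le]
    rintro _ ⟨x, ⟨hxV, hxI⟩, rfl⟩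
    obtain ⟨z, hz⟩ := hcoact x hxV
    let gI : Vm →ₗ[T] B ⧸ I := (Ideal.Quotient.mkₐ T I).toLinearMap ∘ₗ Vm.subtype
    let VI : Submodule T Vm := LinearMap.ker gI
    have hzI : gI.lTensor E z = 0 := by
      obtain ⟨y, hy⟩ := exists_theta_eq hΘ I (map_p_le h.inv.le hxI)
      rw [← hz] at hy
      have := hΘ.1 (hy : theta β _ = theta β _)
      rw [LinearMap.lTensor_comp_apply, ← this, ← LinearMap.lTensor_comp_apply]
      have h0 : (Ideal.Quotient.mkₐ T I).toLinearMap ∘ₗ I.subtype.restrictScalars T = 0 :=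
        LinearMap.ext fun m => Ideal.Quotient.eq_zero_iff_mem.2 m.2
      rw [h0]; simp
    letI : AddCommGroup VI := Submodule.addCommGroup VI
    have hexI : Function.Exact VI.subtype gI := fun b =>
      ⟨fun hb => ⟨⟨b, hb⟩, rfl⟩, by rintro ⟨⟨b, hb⟩, rfl⟩; exact hb⟩
    obtain ⟨w, hw⟩ := (Module.Flat.lTensor_exact E hexI _).1 hzI
    rw [← hz, ← hw]
    clear hw
    induction w with
    | zero => simp
    | tmul e m =>
      show ofTw q (theta β (e ⊗ₜ m.1.1)) ∈ _
      rw [theta_tmul, map_mul]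
      exact Ideal.mul_mem_left _ _ (Ideal.mem_map_of_mem q
        (Ideal.subset_span ⟨m.1.2, Ideal.Quotient.eq_zero_iff_mem.1 m.2⟩))
    | add w w' h₁ h₂ => simp only [map_add]; exact Ideal.add_mem _ h₁ h₂
  have hKI : K ≤ I := Ideal.span_le.2 fun x hx => hx.2
  refine ⟨K, hKI, le_antisymm hKpq ?_, ?_, ?_⟩
  · have := Ideal.map_mono (f := σ) hKpq
    rw [Ideal.map_map, Ideal.map_map, hσp, hσq] at this
    exact this
  · have : IsNoetherianRing T₂ :=
      isNoetherianRing_of_fg (Subalgebra.fg_def.2 ⟨_, gB.finite_toSet, rfl⟩)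
    let N : Ideal T₂ := I.comap T₂.val.toRingHom
    obtain ⟨k, hk⟩ : IsNilpotent (N.map T₂.val.toRingHom) := by
      refine (Ideal.FG.isNilpotent_iff_le_nilradical (Ideal.FG.map (IsNoetherian.noetherian N) _)).2 ?_
      rw [Ideal.map_le_iff_le_comap]
      exact fun x hx => mem_nilradical.2 (h.nil _ hx)
    refine ⟨k, le_bot_iff.1 ((Ideal.pow_right_mono (Ideal.span_le.2 ?_) k).trans hk.le)⟩
    rintro x ⟨hxV, hxI⟩
    exact Ideal.mem_map_of_mem (x := (⟨x, hVT x hxV⟩ : T₂)) T₂.val.toRingHom hxI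
  · intro x hx
    exact Ideal.subset_span ⟨hW₂ _ (by
      simp only [cC, Finset.mem_union, Finset.mem_image]; exact Or.inr ⟨x, hx, rfl⟩), hxs x hx⟩

/-- With invariant parameters the groupoid is descent along its invariants. -/
theorem Ctx.effective (h : Ctx (T := T) p q I u₀) [Module.FaithfullyFlat T E]
    (hpar : ∀ t : T, p (algebraMap T B t) = q (algebraMap T B t)) :
    ((p.eqLocus q).subtype).FaithfullyFlat ∧
      ∀ {D : Type u} [CommRing D] (f g : B →+* D),
        f.comp (p.eqLocus q).subtype = g.comp (p.eqLocus q).subtype →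
        ∃ k : C →+* D, k.comp p = f ∧ k.comp q = g := by
  obtain ⟨u, hu⟩ := h.exists_u
  let d₁ : B →ₐ[T] Tw q := { (toTw q).comp p with commutes' := fun t => hpar t }
  let β : E →ₐ[T] Tw q := d₁.comp u
  have hβ : ∀ e, ofTw q (β e) - p (u e) ∈ I.map q := fun e => by
    show p (u e) - p (u e) ∈ _
    rw [sub_self]; exact zero_mem _
  have hΘ := h.bijective_theta hu hβ
  obtain ⟨c₁₃, hc₁, hc₂⟩ := h.exists_c13 hΘ
  obtain ⟨ε, hεp, hεq⟩ := h.gpd.refl
  have hTw : ∀ t : T, jHom (T := T) (E := E) p (q (algebraMap T B t)) = algebraMap T _ t := fun t => by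
    rw [← hpar t, jHom_apply]
    show (1 : E) ⊗ₜ[T] algebraMap T (Tw p) t = _
    rw [← Algebra.TensorProduct.includeRight_apply]
    exact AlgHom.commutes _ t
  let j₁ : Tw q →ₐ[T] C₂ T E p := { (jHom p).comp (ofTw q) with commutes' := hTw }
  let m₀ : Tw q →ₐ[T] C₂ T E p := { c₁₃.comp (ofTw q) with
    commutes' := fun t => (hc₂ _).trans (hTw t) }
  let m₁ : Tw q →ₐ[T] C₂ T E p := { (lHom hΘ p).comp (ofTw q) with
    commutes' := fun t => (lHom_q hΘ _).trans ((congr_arg (jHom p) (hpar t)).trans (hTw t)) }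
  let δ : Tw q →ₐ[T] B := { ε.comp (ofTw q) with commutes' := fun t => congr($hεq _) }
  let i₃ : E →ₐ[T] C₂ T E p := Algebra.TensorProduct.includeLeft
  have hψ : Function.Bijective (mulMap i₃ j₁) := by
    let ω : Tw p ≃ₐ[T] Tw q := { RingEquiv.refl C with commutes' := fun t => hpar t }
    let Ω := Algebra.TensorProduct.congr (AlgEquiv.refl (R := T) (A₁ := E)) ω.symm
    have : (mulMap i₃ j₁ : E ⊗[T] Tw q → C₂ T E p) = Ω := funext fun z => by
      induction z with
      | zero => simp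
      | tmul e c =>
        rw [mulMap_tmul]
        show (e ⊗ₜ[T] (1 : Tw p)) * ((1 : E) ⊗ₜ[T] toTw p (ofTw q c)) = e ⊗ₜ[T] ω.symm c
        rw [Algebra.TensorProduct.tmul_mul_tmul, mul_one, one_mul]
        rfl
      | add z z' h₁ h₂ => simp [h₁, h₂]
    rw [this]; exact Ω.bijective
  have hbij := bijective_descend u β (twHom q) d₁ hΘ i₃ j₁ hψ m₀ m₁
    (AlgHom.ext fun b => hc₂ b)
    (AlgHom.ext fun e => (hc₁ (u e)).trans (lHom_beta hΘ e))
    (AlgHom.ext fun b => lHom_q hΘ b)
    (AlgHom.ext fun e => lHom_beta hΘ e)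
    (AlgHom.ext fun b => hc₁ b)
    δ (AlgHom.ext fun b => congr($hεq b)) (AlgHom.ext fun e => congr($hεp (u e)))
    (AlgHom.ext fun b => congr($hεp b)) rfl
  let A := AlgHom.equalizer (twHom q) d₁
  let ι := mulMap u A.val
  let e₀ : (A ⊗[T] E) →+* B := ι.toRingHom.comp (Algebra.TensorProduct.comm T A E).toRingEquiv.toRingHom
  have he₀ : Function.Bijective e₀ := hbij.comp (Algebra.TensorProduct.comm T A E).bijective
  have hA : A.val.toRingHom.FaithfullyFlat := by
    have h1 : (algebraMap A (A ⊗[T] E)).FaithfullyFlat :=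
      RingHom.faithfullyFlat_algebraMap_iff.2 inferInstance
    have : A.val.toRingHom = (RingEquiv.ofBijective e₀ he₀).toRingHom.comp (algebraMap A (A ⊗[T] E)) := by
      ext a
      show a.1 = ι (Algebra.TensorProduct.comm T A E (a ⊗ₜ 1))
      rw [Algebra.TensorProduct.comm_tmul]
      show a.1 = mulMap u A.val (1 ⊗ₜ a)
      rw [mulMap_tmul, map_one, one_mul]
      rfl
    rw [this]
    exact RingHom.FaithfullyFlat.stableUnderComposition _ _ h1
      (RingHom.FaithfullyFlat.of_bijective (RingEquiv.ofBijective e₀ he₀).bijective)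
  let toA : p.eqLocus q →+* A :=
    { toFun := fun a => ⟨a.1, (a.2 : p a.1 = q a.1).symm⟩
      map_one' := rfl, map_mul' := fun _ _ => rfl, map_zero' := rfl, map_add' := fun _ _ => rfl }
  have htoA : Function.Bijective toA :=
    ⟨fun a b hab => Subtype.ext (congr_arg Subtype.val hab :), fun a => ⟨⟨a.1, (a.2 : _).symm⟩, rfl⟩⟩
  refine ⟨?_, fun {D} _ f g hfg => ?_⟩
  · have : (p.eqLocus q).subtype = A.val.toRingHom.comp toA := rfl
    rw [this]
    exact RingHom.FaithfullyFlat.stableUnderComposition _ _ (RingHom.FaithfullyFlat.of_bijective htoA) hA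
  · have hfgA : ∀ a : A, f a.1 = g a.1 := fun a => congr($hfg ⟨a.1, (a.2 : _).symm⟩)
    letI : Algebra T D := (g.comp (algebraMap T B)).toAlgebra
    let gT : B →ₐ[T] D := { g with commutes' := fun _ => rfl }
    let fu : E →ₐ[T] D := { f.comp u.toRingHom with
      commutes' := fun t => by
        show f (u (algebraMap T E t)) = g (algebraMap T B t)
        rw [u.commutes]
        exact hfgA ⟨algebraMap T B t, (hpar t).symm⟩ }
    let k' := (mulMap fu gT).comp (AlgEquiv.ofBijective (theta β) hΘ).symm.toAlgHom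
    let k : C →+* D := k'.toRingHom.comp (toTw q)
    have hk : ∀ z, k (ofTw q (theta β z)) = mulMap fu gT z := fun z => by
      show mulMap fu gT ((AlgEquiv.ofBijective (theta β) hΘ).symm (theta β z)) = _
      exact congr_arg _ ((AlgEquiv.ofBijective (theta β) hΘ).symm_apply_apply z)
    have hq' : k.comp q = g := RingHom.ext fun b => by
      have := hk ((1 : E) ⊗ₜ b)
      rw [theta_tmul, mulMap_tmul, map_one, map_one, one_mul, one_mul] at this
      exact this
    refine ⟨k, RingHom.ext fun b => ?_, hq'⟩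
    obtain ⟨z, rfl⟩ := hbij.2 b
    induction z with
    | zero => simp
    | tmul e a =>
      rw [mulMap_tmul]
      show k (p (u e * a.1)) = f (u e * a.1)
      have ha : q a.1 = p a.1 := a.2
      rw [map_mul, map_mul, map_mul, ← ha, show k (q a.1) = g a.1 from congr($hq' a.1),
        ← hfgA a]
      congr 1
      have := hk (e ⊗ₜ (1 : B))
      rw [theta_tmul, mulMap_tmul, map_one, map_one, mul_one, map_one, mul_one] at this
      exact this
    | add z z' h₁ h₂ => simp only [map_add] at h₁ h₂ ⊢; rw [h₁, h₂]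

end Groth.L23.NilGpd
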