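import Mathlib.RingTheory.Etale.Basic
import Mathlib.RingTheory.Smooth.Basic
import Mathlib.RingTheory.FinitePresentation
import Mathlib.RingTheory.Noetherian.Nilpotent
import Mathlib.RingTheory.Ideal.Quotient.Operations

/-!
# Etale algebras and nil ideals

Homomorphisms out of an etale algebra lift uniquely along an ideal of nilpotent elements, and a morphism
of etale algebras which is an isomorphism modulo such an ideal is an isomorphism.
-/

universe u

namespace Groth.L23.NilLift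

variable {T E D : Type u} [CommRing T] [CommRing E] [CommRing D] [Algebra T E] [Algebra T D]

lemma isNilpotent_span {s : Set D} (hs : s.Finite) (h : ∀ x ∈ s, IsNilpotent x) :
    IsNilpotent (Ideal.span s) := by
  have hfg : (Ideal.span s).FG := ⟨hs.toFinset, by simp⟩
  exact (Ideal.FG.isNilpotent_iff_le_nilradical hfg).2 (Ideal.span_le.2 fun x hx => mem_nilradical.2 (h x hx))

/-- Lifts along an ideal of nilpotent elements. -/
theorem exists_lift [Algebra.FormallySmooth T E] [Algebra.FinitePresentation T E] (I : Ideal D)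
    (hI : ∀ x ∈ I, IsNilpotent x) (g : E →ₐ[T] D ⧸ I) :
    ∃ f : E →ₐ[T] D, (Ideal.Quotient.mkₐ T I).comp f = g := by
  obtain ⟨n, π, hπ, hker⟩ := ‹Algebra.FinitePresentation T E›.out
  choose d hd using fun i => Ideal.Quotient.mk_surjective (g (π (MvPolynomial.X i)))
  obtain ⟨r, hr⟩ := hker
  let K : Ideal D := Ideal.span (MvPolynomial.aeval d '' (r : Set (MvPolynomial (Fin n) T)))
  have hcomp : (Ideal.Quotient.mkₐ T I).comp (MvPolynomial.aeval d) = g.comp π :=
    MvPolynomial.algHom_ext fun i => by simp [hd]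
  have hrI : ∀ x ∈ r, MvPolynomial.aeval d x ∈ I := fun x hx => by
    rw [← Ideal.Quotient.eq_zero_iff_mem]
    have : π x = 0 := by
      have : x ∈ RingHom.ker π.toRingHom := hr ▸ Ideal.subset_span hx
      exact this
    simpa [this] using congr($hcomp x)
  have hKI : K ≤ I := Ideal.span_le.2 (by rintro _ ⟨x, hx, rfl⟩; exact hrI x hx)
  have hK : IsNilpotent K := isNilpotent_span (r.finite_toSet.image _)
    (by rintro _ ⟨x, hx, rfl⟩; exact hI _ (hrI x hx))
  let χ : MvPolynomial (Fin n) T →ₐ[T] D ⧸ K := (Ideal.Quotient.mkₐ T K).comp (MvPolynomial.aeval d)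
  have hχ : RingHom.ker π.toRingHom ≤ RingHom.ker χ.toRingHom := by
    rw [← hr, Submodule.span_le]
    intro x hx
    exact Ideal.Quotient.eq_zero_iff_mem.2 (Ideal.subset_span ⟨x, hx, rfl⟩)
  obtain ⟨g₀, hg₀⟩ : ∃ g₀ : E →ₐ[T] D ⧸ K, g₀.comp π = χ :=
    ⟨AlgHom.liftOfSurjective π hπ χ hχ, AlgHom.liftOfSurjective_comp _ _ _ _⟩
  obtain ⟨f, hf⟩ := Algebra.FormallySmooth.exists_lift K hK g₀
  refine ⟨f, AlgHom.ext fun e => ?_⟩
  obtain ⟨P, rfl⟩ := hπ e
  have h1 : Ideal.Quotient.mk K (f (π P)) = Ideal.Quotient.mk K (MvPolynomial.aeval d P) :=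
    congr($hf (π P)).trans congr($hg₀ P)
  calc Ideal.Quotient.mk I (f (π P)) = Ideal.Quotient.mk I (MvPolynomial.aeval d P) :=
        Ideal.Quotient.eq.2 (hKI (Ideal.Quotient.eq.1 h1))
    _ = g (π P) := congr($hcomp P)

/-- Uniqueness of lifts along an ideal of nilpotent elements. -/
theorem lift_unique [Algebra.FormallyUnramified T E] [Algebra.FiniteType T E] (I : Ideal D)
    (hI : ∀ x ∈ I, IsNilpotent x) {f₁ f₂ : E →ₐ[T] D} (h : ∀ e, f₁ e - f₂ e ∈ I) : f₁ = f₂ := by
  obtain ⟨s, hs⟩ := ‹Algebra.FiniteType T E›.out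
  let K : Ideal D := Ideal.span ((fun e => f₁ e - f₂ e) '' (s : Set E))
  have hK : IsNilpotent K := isNilpotent_span (s.finite_toSet.image _)
    (by rintro _ ⟨x, -, rfl⟩; exact hI _ (h x))
  have heq : (Ideal.Quotient.mkₐ T K).comp f₁ = (Ideal.Quotient.mkₐ T K).comp f₂ :=
    AlgHom.ext_of_adjoin_eq_top hs fun x hx => Ideal.Quotient.eq.2 (Ideal.subset_span ⟨x, hx, rfl⟩)
  exact Algebra.FormallyUnramified.ext K hK fun e => congr($heq e)

/-- A morphism of etale algebras which is an isomorphism modulo an ideal of nilpotents is one. -/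
theorem bijective_of_mod {R P Q : Type u} [CommRing R] [CommRing P] [CommRing Q] [Algebra R P] [Algebra R Q]
    [Algebra.Etale R P] [Algebra.Etale R Q] (I : Ideal R) (hI : ∀ x ∈ I, IsNilpotent x) (φ : P →ₐ[R] Q)
    (hsurj : ∀ y : Q, ∃ x : P, φ x - y ∈ I.map (algebraMap R Q))
    (hinj : ∀ x : P, φ x ∈ I.map (algebraMap R Q) → x ∈ I.map (algebraMap R P)) : Function.Bijective φ := by
  have hnilP : ∀ x ∈ I.map (algebraMap R P), IsNilpotent x := fun x hx =>
    mem_nilradical.1 ((Ideal.map_le_iff_le_comap.2 fun y hy =>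
      Ideal.mem_comap.2 (mem_nilradical.2 ((hI y hy).map (algebraMap R P)))) hx)
  have hnilQ : ∀ x ∈ I.map (algebraMap R Q), IsNilpotent x := fun x hx =>
    mem_nilradical.1 ((Ideal.map_le_iff_le_comap.2 fun y hy =>
      Ideal.mem_comap.2 (mem_nilradical.2 ((hI y hy).map (algebraMap R Q)))) hx)
  let IP := I.map (algebraMap R P)
  let IQ := I.map (algebraMap R Q)
  have hle : IP ≤ IQ.comap φ := Ideal.map_le_iff_le_comap.2 fun x hx => by
    show φ (algebraMap R P x) ∈ IQ
    rw [φ.commutes]; exact Ideal.mem_map_of_mem _ hx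
  let φ₀ : P ⧸ IP →ₐ[R] Q ⧸ IQ := Ideal.quotientMapₐ IQ φ hle
  have hφ₀ : Function.Bijective φ₀ := by
    refine ⟨(injective_iff_map_eq_zero φ₀).2 fun x hx => ?_, fun y => ?_⟩
    · obtain ⟨x, rfl⟩ := Ideal.Quotient.mk_surjective x
      exact Ideal.Quotient.eq_zero_iff_mem.2 (hinj x (Ideal.Quotient.eq_zero_iff_mem.1 hx))
    · obtain ⟨y, rfl⟩ := Ideal.Quotient.mk_surjective y
      obtain ⟨x, hx⟩ := hsurj y
      exact ⟨Ideal.Quotient.mk _ x, Ideal.Quotient.eq.2 hx⟩
  obtain ⟨θ, hθ⟩ := exists_lift IP hnilP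
    ((AlgEquiv.ofBijective φ₀ hφ₀).symm.toAlgHom.comp (Ideal.Quotient.mkₐ R IQ))
  have key : ∀ y, φ₀ (Ideal.Quotient.mk IP (θ y)) = Ideal.Quotient.mk IQ y := fun y => by
    have h1 : Ideal.Quotient.mk IP (θ y) = (AlgEquiv.ofBijective φ₀ hφ₀).symm (Ideal.Quotient.mk IQ y) :=
      congr($hθ y)
    rw [h1]
    exact (AlgEquiv.ofBijective φ₀ hφ₀).apply_symm_apply _
  have h1 : φ.comp θ = AlgHom.id R Q :=
    lift_unique IQ hnilQ fun y => Ideal.Quotient.eq.1 (key y)
  have h2 : θ.comp φ = AlgHom.id R P := lift_unique IP hnilP fun x => by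
    refine Ideal.Quotient.eq.1 (hφ₀.1 ?_)
    show φ₀ (Ideal.Quotient.mk IP (θ (φ x))) = φ₀ (Ideal.Quotient.mk IP x)
    rw [key]
    rfl
  exact ⟨Function.LeftInverse.injective (g := θ) fun x => congr($h2 x),
    Function.RightInverse.surjective (g := θ) fun y => congr($h1 y)⟩

end Groth.L23.NilLift
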