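import Groth.Agent.L23.NilGpd
import Mathlib.RingTheory.Etale.Basic
import Mathlib.RingTheory.Smooth.StandardSmoothOfFree
import Mathlib.RingTheory.Extension.Presentation.Core
import Mathlib.RingTheory.Spectrum.Prime.RingHom
import Mathlib.RingTheory.Spectrum.Prime.Chevalley
import Mathlib.RingTheory.Flat.FaithfullyFlat.Algebra
import Mathlib.RingTheory.Localization.Away.Basic
import Mathlib.RingTheory.Polynomial.Basic

/-!
# Finite type models of faithfully flat etale algebras with liftable parameters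

A faithfully flat etale `A`-algebra is the base change of a faithfully flat etale algebra over a
localization of a polynomial ring over `ℤ`, whose maps to `A` lift along nil ideals.
-/

universe u

open scoped TensorProduct

set_option backward.isDefEq.respectTransparency.types false

namespace Groth.L23.NilModel

/-- The model. -/
structure Model (A B₀ : Type u) [CommRing A] [CommRing B₀] [Algebra A B₀] where
  T : Type u
  E : Type u
  [ringT : CommRing T]
  [ringE : CommRing E]
  [algTE : Algebra T E]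
  ψ : T →+* A
  u₀ : E →+* B₀
  noeth : IsNoetherianRing T
  finT : Algebra.FiniteType ℤ T
  etale : Algebra.Etale T E
  ff : Module.FaithfullyFlat T E
  comm : u₀.comp (algebraMap T E) = (algebraMap A B₀).comp ψ
  bij : letI : Algebra T A := ψ.toAlgebra
    ∃ Φ : A ⊗[T] E ≃+* B₀, ∀ a e, Φ (a ⊗ₜ e) = algebraMap A B₀ a * u₀ e
  lift : ∀ {D : Type u} [CommRing D] (J : Ideal D), (∀ x ∈ J, IsNilpotent x) → ∀ g : A →+* D ⧸ J,
    ∃ τ : T →+* D, (Ideal.Quotient.mk J).comp τ = g.comp ψ
  gens : Finset T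
  closure : ∀ S : Subring T, (∀ g ∈ gens, g ∈ S) → (∀ x y, x ∈ S → x * y = 1 → y ∈ S) → S = ⊤
  free : ∀ {D : Type u} [CommRing D] (J : Ideal D), (∀ x ∈ J, IsNilpotent x) → ∀ (τ : T →+* D) (m : T → D),
    (∀ g ∈ gens, m g ∈ J) → ∃ τ' : T →+* D, ∀ g ∈ gens, τ' g = τ g - m g

attribute [instance] Model.ringT Model.ringE Model.algTE

lemma isUnit_of_mk {D : Type u} [CommRing D] {J : Ideal D} (hJ : ∀ x ∈ J, IsNilpotent x) {d : D}
    (hd : IsUnit (Ideal.Quotient.mk J d)) : IsUnit d := by
  obtain ⟨e, he⟩ := hd.exists_right_inv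
  obtain ⟨e, rfl⟩ := Ideal.Quotient.mk_surjective e
  have h1 : d * e - 1 ∈ J := Ideal.Quotient.eq.1 (by rw [map_mul, he, map_one])
  exact isUnit_of_mul_isUnit_left (y := e) (by simpa using (hJ _ h1).isUnit_one_add)

/-- A prime over which a point lies still has one after base change. -/
lemma mem_range_comap_baseChange {R T E : Type u} [CommRing R] [CommRing T] [CommRing E] [Algebra R T]
    [Algebra R E] (P : PrimeSpectrum T)
    (h : PrimeSpectrum.comap (algebraMap R T) P ∈ Set.range (PrimeSpectrum.comap (algebraMap R E))) :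
    P ∈ Set.range (PrimeSpectrum.comap (algebraMap T (T ⊗[R] E))) := by
  rw [← PrimeSpectrum.nontrivial_iff_mem_rangeComap] at h ⊢
  let k₀ := (P.asIdeal.comap (algebraMap R T)).ResidueField
  let k := P.asIdeal.ResidueField
  let g : k₀ →ₐ[R] k := Ideal.ResidueField.mapₐ _ _ (Algebra.ofId R T) rfl
  letI : Algebra k₀ k := g.toRingHom.toAlgebra
  haveI : IsScalarTower R k₀ k := IsScalarTower.of_algebraMap_eq fun r => (g.commutes r).symm
  haveI : Nontrivial (k₀ ⊗[R] E) := h
  have : Nontrivial (k ⊗[k₀] (k₀ ⊗[R] E)) := Module.FaithfullyFlat.lTensor_nontrivial k₀ k _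
  haveI : Nontrivial (k ⊗[R] E) :=
    (TensorProduct.AlgebraTensorModule.cancelBaseChange R k₀ k k E).toEquiv.nontrivial_congr.1 this
  exact (TensorProduct.AlgebraTensorModule.cancelBaseChange R T k k E).toEquiv.nontrivial_congr.2 this

lemma finiteType_int {R : Type u} [CommRing R] (i : Algebra ℤ R) (h : @Algebra.FiniteType ℤ R _ _ i) :
    @Algebra.FiniteType ℤ R _ _ (Ring.toIntAlgebra R) := by
  obtain rfl : i = Ring.toIntAlgebra R := Subsingleton.elim _ _
  exact h

lemma finiteType_trans {R : Type*} {S : Type u} [CommRing R] [CommRing S] [Algebra R S]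
    [Algebra.FiniteType ℤ R] [Algebra.FiniteType R S] : Algebra.FiniteType ℤ S :=
  finiteType_int ((algebraMap R S).comp (algebraMap ℤ R)).toAlgebra
    ((RingHom.finiteType_algebraMap.2 ‹Algebra.FiniteType R S›).comp
      (RingHom.finiteType_algebraMap.2 ‹Algebra.FiniteType ℤ R›))

/-- Inverting an element which is already invertible after base change. -/
lemma bijective_localization {R A M E B₀ : Type u} [CommRing R] [CommRing A] [CommRing M] [CommRing E]
    [CommRing B₀] [Algebra R A] [Algebra R M] [Algebra R E] [Algebra M E] [IsScalarTower R M E]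
    [Algebra A B₀] [Algebra R B₀] [IsScalarTower R A B₀] (S : Submonoid M) [IsLocalization S E]
    (eqv : A ⊗[R] M ≃ₐ[A] B₀) (Φ : A ⊗[R] E →ₐ[A] B₀)
    (h : ∀ m, Φ ((1 : A) ⊗ₜ algebraMap M E m) = eqv (1 ⊗ₜ m)) : Function.Bijective Φ := by
  let mA := Algebra.TensorProduct.map (AlgHom.id A A) (IsScalarTower.toAlgHom R M E)
  have key : Φ.comp mA = eqv.toAlgHom := Algebra.TensorProduct.ext (AlgHom.ext fun a => by
    show Φ (mA (algebraMap A (A ⊗[R] M) a)) = eqv (algebraMap A (A ⊗[R] M) a)
    rw [AlgHom.commutes, AlgHom.commutes, AlgEquiv.commutes])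
    (AlgHom.ext fun m => by simpa [mA] using h m)
  have hsurj : Function.Surjective Φ := fun b =>
    ⟨mA (eqv.symm b), (congr($key (eqv.symm b))).trans (eqv.apply_symm_apply b)⟩
  have hid : ((mA.comp eqv.symm.toAlgHom).comp Φ).restrictScalars R = AlgHom.id R _ := by
    refine Algebra.TensorProduct.ext (AlgHom.ext fun a => ?_) (AlgHom.coe_ringHom_injective
      (IsLocalization.ringHom_ext S (RingHom.ext fun m => ?_)))
    · simpa using ((mA.comp eqv.symm.toAlgHom).comp Φ).commutes a
    · show mA (eqv.symm (Φ ((1 : A) ⊗ₜ algebraMap M E m))) = (1 : A) ⊗ₜ algebraMap M E m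
      rw [h, eqv.symm_apply_apply]
      simp [mA]
  exact ⟨Function.LeftInverse.injective (g := (mA.comp eqv.symm.toAlgHom)) fun x => congr($hid x), hsurj⟩

/-- An etale model over a polynomial ring. -/
structure Base (A B₀ : Type u) [CommRing A] [CommRing B₀] [Algebra A B₀] where
  R : Type u
  E : Type u
  [ringR : CommRing R]
  [ringE : CommRing E]
  [algRE : Algebra R E]
  f : R →+* A
  θ : E →+* B₀
  noeth : IsNoetherianRing R
  finT : Algebra.FiniteType ℤ R
  etale : Algebra.Etale R E
  comm : θ.comp (algebraMap R E) = (algebraMap A B₀).comp f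
  bij : letI : Algebra R A := f.toAlgebra
    ∃ Φ : A ⊗[R] E ≃+* B₀, ∀ a e, Φ (a ⊗ₜ e) = algebraMap A B₀ a * θ e
  lift : ∀ {D : Type u} [CommRing D] (K : Ideal D) (g : A →+* D ⧸ K),
    ∃ τ : R →+* D, (Ideal.Quotient.mk K).comp τ = g.comp f
  gens : Finset R
  closure : ∀ S : Subring R, (∀ g ∈ gens, g ∈ S) → S = ⊤
  free : ∀ {D : Type u} [CommRing D] (v : R → D), ∃ τ : R →+* D, ∀ g ∈ gens, τ g = v g

attribute [instance] Base.ringR Base.ringE Base.algRE

/-- Every etale algebra has a model over a polynomial ring. -/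
theorem exists_base (A B₀ : Type u) [CommRing A] [CommRing B₀] [Algebra A B₀] [Algebra.Etale A B₀] :
    Nonempty (Base A B₀) := by
  classical
  obtain ⟨ι, σ, _, _, P, hP⟩ :=
    (Algebra.Etale.iff_isStandardSmoothOfRelativeDimension_zero.1 ‹Algebra.Etale A B₀›).out
  haveI : Fintype σ := Fintype.ofFinite σ
  haveI : Finite P.toPresentation.coeffs := P.toPresentation.finite_coeffs.to_subtype
  let R₀ := MvPolynomial P.toPresentation.coeffs ℤ
  let f₀ : R₀ →+* A := (MvPolynomial.aeval (fun c : P.toPresentation.coeffs => (c : A))).toRingHom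
  letI : Algebra R₀ A := f₀.toAlgebra
  letI : Algebra R₀ B₀ := ((algebraMap A B₀).comp f₀).toAlgebra
  haveI : IsScalarTower R₀ A B₀ := IsScalarTower.of_algebraMap_eq fun _ => rfl
  haveI : P.toPresentation.HasCoeffs R₀ := ⟨fun c hc => ⟨MvPolynomial.X ⟨c, hc⟩, by
    show f₀ _ = c
    exact MvPolynomial.aeval_X _ _⟩⟩
  let P' := P.toPreSubmersivePresentation.ofHasCoeffs R₀
  let M := P.toPresentation.ModelOfHasCoeffs R₀
  let E₀ := Localization.Away P'.jacobian
  let Q := Algebra.PreSubmersivePresentation.localizationAway E₀ P'.jacobian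
  haveI : Algebra.Etale R₀ E₀ := by
    rw [Algebra.Etale.iff_isStandardSmoothOfRelativeDimension_zero]
    refine ⟨_, _, inferInstance, inferInstance,
      { toPreSubmersivePresentation := Q.comp P', jacobian_isUnit := ?_ }, ?_⟩
    · rw [Algebra.PreSubmersivePresentation.comp_jacobian_eq_jacobian_smul_jacobian,
        Algebra.PreSubmersivePresentation.localizationAway_jacobian, Algebra.smul_def]
      exact (IsLocalization.Away.algebraMap_isUnit (S := E₀) P'.jacobian).mul
        (IsLocalization.Away.algebraMap_isUnit (S := E₀) P'.jacobian)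
    · show Nat.card _ - Nat.card _ = 0
      have : Nat.card ι - Nat.card σ = 0 := hP
      simp only [Nat.card_sum]
      omega
  let θ₀ : M →ₐ[R₀] B₀ := Ideal.Quotient.liftₐ _ ((MvPolynomial.aeval P.val).restrictScalars R₀)
    (fun x hx => by
      refine (Ideal.span_le (I := RingHom.ker ((MvPolynomial.aeval P.val).restrictScalars R₀).toRingHom)).2 ?_ hx
      rintro _ ⟨i, rfl⟩
      exact Algebra.Presentation.aeval_val_relationOfHasCoeffs R₀ i)
  have hjac : IsUnit (θ₀ P'.jacobian) := by
    rw [Algebra.PreSubmersivePresentation.jacobian_eq_jacobiMatrix_det]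
    convert P.jacobian_isUnit using 1
    rw [P.jacobian_eq_jacobiMatrix_det, RingHom.map_det, AlgHom.map_det, RingHom.map_det]
    congr 1
    ext i j
    have hv : ∀ x : MvPolynomial ι R₀, MvPolynomial.aeval P'.val x = Ideal.Quotient.mkₐ R₀ _ x :=
      AlgHom.congr_fun (MvPolynomial.algHom_ext (fun k => by simp [P']))
    simp only [RingHom.mapMatrix_apply, AlgHom.mapMatrix_apply, Matrix.map_apply,
      Algebra.PreSubmersivePresentation.jacobiMatrix_apply, Algebra.Generators.algebraMap_apply,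
      ← P.toPresentation.map_relationOfHasCoeffs R₀, MvPolynomial.pderiv_map,
      MvPolynomial.aeval_map_algebraMap, hv]
    rfl
  let θ : E₀ →+* B₀ := IsLocalization.Away.lift P'.jacobian (g := θ₀.toRingHom) hjac
  have hθM : ∀ m : M, θ (algebraMap M E₀ m) = θ₀ m := fun m => IsLocalization.Away.lift_eq _ _ m
  have hθ : θ.comp (algebraMap R₀ E₀) = (algebraMap A B₀).comp f₀ := RingHom.ext fun r => by
    rw [RingHom.comp_apply, IsScalarTower.algebraMap_apply R₀ M E₀, hθM, AlgHom.commutes]; rfl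
  let θa : E₀ →ₐ[R₀] B₀ := { θ with commutes' := fun r => congr($hθ r) }
  let Φ : A ⊗[R₀] E₀ →ₐ[A] B₀ :=
    Algebra.TensorProduct.lift (Algebra.ofId A B₀) θa fun _ _ => Commute.all _ _
  have hΦ : ∀ a e, Φ (a ⊗ₜ e) = algebraMap A B₀ a * θ e := fun a e =>
    Algebra.TensorProduct.lift_tmul _ _ _ a e
  have hb := bijective_localization (Submonoid.powers P'.jacobian)
    (P.toPresentation.tensorModelOfHasCoeffsEquiv R₀) Φ fun m => by
      obtain ⟨m, rfl⟩ := Ideal.Quotient.mk_surjective m
      rw [hΦ, hθM, P.toPresentation.tensorModelOfHasCoeffsEquiv_tmul]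
      rfl
  refine ⟨{ R := R₀, E := E₀, f := f₀, θ := θ, noeth := inferInstance, finT := finiteType_trans (R := ℤ),
            etale := inferInstance, comm := hθ, bij := ⟨RingEquiv.ofBijective Φ hb, hΦ⟩, lift := ?_,
            gens := (Set.finite_range (MvPolynomial.X : P.toPresentation.coeffs → R₀)).toFinset,
            closure := fun S hS => ?_, free := fun {D} _ v => ?_ }⟩
  rotate_left
  · refine eq_top_iff.2 fun x _ => ?_
    induction x using MvPolynomial.induction_on with
    | C k => simp [intCast_mem]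
    | add p q hp hq => exact S.add_mem (hp trivial) (hq trivial)
    | mul_X p i hp => exact S.mul_mem (hp trivial) (hS _ (by simp))
  · refine ⟨(MvPolynomial.aeval fun c : P.toPresentation.coeffs => v (MvPolynomial.X c)).toRingHom, ?_⟩
    intro x hx
    obtain ⟨c, rfl⟩ := (Set.finite_range _).mem_toFinset.1 hx
    exact MvPolynomial.aeval_X _ c
  intro D _ K g
  choose d hd using fun a : A => Ideal.Quotient.mk_surjective (I := K) (g a)
  exact ⟨(MvPolynomial.aeval fun c : P.toPresentation.coeffs => d c).toRingHom,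
    MvPolynomial.ringHom_ext (fun k => by simp) fun c => by simp [f₀, hd]⟩

/-- Every faithfully flat etale algebra has a model. -/
theorem exists_model (A B₀ : Type u) [CommRing A] [CommRing B₀] [Algebra A B₀] [Algebra.Etale A B₀]
    [Module.FaithfullyFlat A B₀] : Nonempty (Model A B₀) := by
  classical
  obtain ⟨N⟩ := exists_base A B₀
  let R₀ := N.R
  let E₀ := N.E
  let f₀ := N.f
  let θ := N.θ
  haveI := N.noeth
  haveI := N.finT
  haveI := N.etale
  have hθ := N.comm
  letI : Algebra R₀ A := f₀.toAlgebra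
  letI : Algebra R₀ B₀ := ((algebraMap A B₀).comp f₀).toAlgebra
  haveI : IsScalarTower R₀ A B₀ := IsScalarTower.of_algebraMap_eq fun _ => rfl
  obtain ⟨Φ₀, hΦ₀⟩ : ∃ Φ : A ⊗[R₀] E₀ ≃+* B₀, ∀ a e, Φ (a ⊗ₜ e) = algebraMap A B₀ a * θ e := N.bij
  -- the open image
  have hfp : (algebraMap R₀ E₀).FinitePresentation :=
    RingHom.finitePresentation_algebraMap.2 inferInstance
  let U := Set.range (PrimeSpectrum.comap (algebraMap R₀ E₀))
  have hUo : IsOpen U :=
    (PrimeSpectrum.isOpenMap_comap_of_hasGoingDown_of_finitePresentation (R := R₀) (S := E₀)).isOpen_range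
  obtain ⟨J, hJ⟩ := (PrimeSpectrum.isClosed_iff_zeroLocus_ideal _).1 hUo.isClosed_compl
  have hA : J.map f₀ = ⊤ := by
    by_contra hne
    obtain ⟨m, hm, hle⟩ := Ideal.exists_le_maximal _ hne
    obtain ⟨Q₀, hQ₀⟩ := PrimeSpectrum.comap_surjective_of_faithfullyFlat (A := A) (B := B₀) ⟨m, hm.isPrime⟩
    have : PrimeSpectrum.comap f₀ ⟨m, hm.isPrime⟩ ∈ Uᶜ := by
      rw [hJ]; exact fun x hx => hle (Ideal.mem_map_of_mem _ hx)
    refine this ⟨PrimeSpectrum.comap θ Q₀, ?_⟩
    rw [← PrimeSpectrum.comap_comp_apply, hθ, PrimeSpectrum.comap_comp_apply, hQ₀]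
  obtain ⟨H, hH⟩ : ∃ H : Finset R₀, Ideal.span (H : Set R₀) = J :=
    IsNoetherian.noetherian J
  have hrange : f₀ '' (H : Set R₀) = Set.range fun h : H => f₀ h := by ext; simp [Set.mem_range, Subtype.exists]; aesop
  rw [← hH, Ideal.map_span, Ideal.eq_top_iff_one, hrange, Ideal.mem_span_range_iff_exists_fun] at hA
  obtain ⟨c', hc⟩ := hA
  let R₁ := MvPolynomial H R₀
  let s : R₁ := ∑ h : H, MvPolynomial.X h * MvPolynomial.C (h : R₀)
  let ψ₁ : R₁ →+* A := MvPolynomial.eval₂Hom f₀ c'
  have hs : ψ₁ s = 1 := by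
    simp only [s, ψ₁, map_sum, map_mul]
    refine Eq.trans (Finset.sum_congr rfl fun h _ => ?_) hc
    exact congr_arg₂ (· * ·) (MvPolynomial.eval₂Hom_X' f₀ c' h) (MvPolynomial.eval₂Hom_C f₀ c' _)
  let T := Localization.Away s
  let ψ : T →+* A := IsLocalization.Away.lift s (g := ψ₁) (hs ▸ isUnit_one)
  have hψ₁ : ∀ r, ψ (algebraMap R₁ T r) = ψ₁ r := fun r => IsLocalization.Away.lift_eq _ _ r
  have hψ₀ : ψ.comp (algebraMap R₀ T) = f₀ := RingHom.ext fun r => by
    rw [RingHom.comp_apply, IsScalarTower.algebraMap_apply R₀ R₁ T, hψ₁, MvPolynomial.algebraMap_eq]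
    exact MvPolynomial.eval₂Hom_C _ _ r
  letI : Algebra T A := ψ.toAlgebra
  haveI : IsScalarTower R₀ T A := IsScalarTower.of_algebraMap_eq fun r => congr($hψ₀.symm r)
  letI : Algebra T B₀ := ((algebraMap A B₀).comp ψ).toAlgebra
  haveI : IsScalarTower R₀ T B₀ := IsScalarTower.of_algebraMap_eq fun r => by
    show algebraMap A B₀ (f₀ r) = algebraMap A B₀ (ψ (algebraMap R₀ T r))
    rw [← hψ₀]; rfl
  haveI : IsScalarTower T A B₀ := IsScalarTower.of_algebraMap_eq fun _ => rfl
  let θa : E₀ →ₐ[R₀] B₀ := { θ with commutes' := fun r => congr($hθ r) }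
  let u₀ : T ⊗[R₀] E₀ →ₐ[T] B₀ := Algebra.TensorProduct.lift (Algebra.ofId T B₀) θa fun _ _ => Commute.all _ _
  let c₀ := Algebra.TensorProduct.cancelBaseChange R₀ T A A E₀
  have hc₀ : ∀ a (e : T ⊗[R₀] E₀), Φ₀ (c₀ (a ⊗ₜ e)) = algebraMap A B₀ a * u₀ e := fun a e => by
    induction e with
    | zero => simp
    | tmul t e =>
      rw [Algebra.TensorProduct.cancelBaseChange_tmul, hΦ₀, Algebra.smul_def, map_mul,
        ← IsScalarTower.algebraMap_apply]
      show _ = algebraMap A B₀ a * u₀ (t ⊗ₜ e)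
      rw [Algebra.TensorProduct.lift_tmul, Algebra.ofId_apply,
        show θa e = θ e from rfl]
      ring
    | add x y hx hy => rw [TensorProduct.tmul_add, map_add, map_add, hx, hy, map_add, mul_add]
  haveI : IsNoetherianRing R₁ := inferInstance
  refine ⟨{ T := T, E := T ⊗[R₀] E₀, ψ := ψ, u₀ := u₀.toRingHom,
            noeth := IsLocalization.isNoetherianRing (Submonoid.powers s) T inferInstance,
            finT := ?_, etale := inferInstance, ff := ?_, comm := ?_,
            bij := ⟨c₀.toRingEquiv.trans Φ₀, hc₀⟩, lift := ?_,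
            gens := N.gens.image (algebraMap R₀ T) ∪
              (Finset.univ : Finset H).image fun h => algebraMap R₁ T (MvPolynomial.X h),
            closure := fun S hS hinv => ?_, free := fun {D} _ K hK τ m hm => ?_ }⟩
  rotate_right 2
  · have h₀ : ∀ r : R₀, algebraMap R₀ T r ∈ S := fun r => by
      have : S.comap (algebraMap R₀ T) = ⊤ := N.closure _ fun g hg => hS _ (by
        simp only [Finset.mem_union, Finset.mem_image]; exact Or.inl ⟨g, hg, rfl⟩)
      exact (this.ge trivial : r ∈ S.comap (algebraMap R₀ T))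
    have h₁ : ∀ r : R₁, algebraMap R₁ T r ∈ S := fun r => by
      induction r using MvPolynomial.induction_on with
      | C k =>
        rw [← MvPolynomial.algebraMap_eq, ← IsScalarTower.algebraMap_apply]
        exact h₀ k
      | add p q hp hq => rw [map_add]; exact S.add_mem hp hq
      | mul_X p i hp => rw [map_mul]; exact S.mul_mem hp (hS _ (by simp))
    refine eq_top_iff.2 fun x _ => ?_
    obtain ⟨r, n, rfl⟩ := IsLocalization.exists_mk'_eq (Submonoid.powers s) x
    have : IsLocalization.mk' T r n = algebraMap R₁ T r * IsLocalization.mk' T 1 n := by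
      rw [← IsLocalization.mk'_one (M := Submonoid.powers s) T r, ← IsLocalization.mk'_mul, mul_one, one_mul]
    rw [this]
    refine S.mul_mem (h₁ r) (hinv _ _ (h₁ n) ?_)
    rw [mul_comm, IsLocalization.mk'_spec, map_one]
  · obtain ⟨g₀, hg₀⟩ := N.free fun r => τ (algebraMap R₀ T r) - m (algebraMap R₀ T r)
    let g₁ : R₁ →+* D := MvPolynomial.eval₂Hom g₀ fun h =>
      τ (algebraMap R₁ T (MvPolynomial.X h)) - m (algebraMap R₁ T (MvPolynomial.X h))
    have hmem : ∀ g ∈ N.gens, m (algebraMap R₀ T g) ∈ K := fun g hg => hm _ (by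
      simp only [Finset.mem_union, Finset.mem_image]; exact Or.inl ⟨g, hg, rfl⟩)
    have hmk₀ : (Ideal.Quotient.mk K).comp g₀ = ((Ideal.Quotient.mk K).comp τ).comp (algebraMap R₀ T) := by
      refine RingHom.ext fun r => (?_ : r ∈ RingHom.eqLocus _ _)
      rw [N.closure (RingHom.eqLocus _ _) fun g hg => ?_]
      · trivial
      · show Ideal.Quotient.mk K (g₀ g) = Ideal.Quotient.mk K (τ (algebraMap R₀ T g))
        rw [hg₀ g hg, map_sub, Ideal.Quotient.eq_zero_iff_mem.2 (hmem g hg), sub_zero]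
    have hmk : (Ideal.Quotient.mk K).comp g₁ = ((Ideal.Quotient.mk K).comp τ).comp (algebraMap R₁ T) :=
      MvPolynomial.ringHom_ext (fun r => by
        show Ideal.Quotient.mk K (g₁ (MvPolynomial.C r)) = Ideal.Quotient.mk K (τ _)
        rw [MvPolynomial.eval₂Hom_C, ← MvPolynomial.algebraMap_eq, ← IsScalarTower.algebraMap_apply]
        exact congr($hmk₀ r)) fun h => by
        show Ideal.Quotient.mk K (g₁ (MvPolynomial.X h)) = Ideal.Quotient.mk K (τ _)
        rw [MvPolynomial.eval₂Hom_X', map_sub, Ideal.Quotient.eq_zero_iff_mem.2 (hm _ (by simp)), sub_zero]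
    have hu : IsUnit (g₁ s) := isUnit_of_mk hK (by
      have h1 : IsUnit (Ideal.Quotient.mk K (τ (algebraMap R₁ T s))) :=
        ((IsLocalization.Away.algebraMap_isUnit (S := T) s).map τ).map _
      rwa [show Ideal.Quotient.mk K (τ (algebraMap R₁ T s)) = Ideal.Quotient.mk K (g₁ s) from congr($hmk.symm s)] at h1)
    refine ⟨IsLocalization.Away.lift s hu, fun g hg => ?_⟩
    simp only [Finset.mem_union, Finset.mem_image] at hg
    rcases hg with ⟨g, hg, rfl⟩ | ⟨h, -, rfl⟩
    · rw [IsScalarTower.algebraMap_apply R₀ R₁ T, IsLocalization.Away.lift_eq, ← IsScalarTower.algebraMap_apply,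
        MvPolynomial.algebraMap_eq, MvPolynomial.eval₂Hom_C, hg₀ g hg]
    · rw [IsLocalization.Away.lift_eq, MvPolynomial.eval₂Hom_X']
  · haveI := finiteType_trans (R := R₀) (S := R₁)
    haveI : Algebra.FiniteType R₁ T := IsLocalization.finiteType_of_monoid_fg (Submonoid.powers s) T
    exact finiteType_trans (R := R₁)
  · refine Module.FaithfullyFlat.of_comap_surjective fun Q => mem_range_comap_baseChange Q ?_
    by_contra hQ
    change PrimeSpectrum.comap (algebraMap R₀ T) Q ∈ Uᶜ at hQ
    rw [hJ] at hQ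
    refine Q.isPrime.ne_top (Ideal.eq_top_of_isUnit_mem _ ?_ (IsLocalization.Away.algebraMap_isUnit (S := T) s))
    rw [map_sum]
    refine Q.asIdeal.sum_mem fun h _ => ?_
    rw [map_mul]
    exact Q.asIdeal.mul_mem_left _ (by
      rw [← MvPolynomial.algebraMap_eq, ← IsScalarTower.algebraMap_apply]
      exact hQ (hH ▸ Ideal.subset_span h.2))
  · exact RingHom.ext fun t => u₀.commutes t
  · intro D _ K hK g
    choose d hd using fun a : A => Ideal.Quotient.mk_surjective (I := K) (g a)
    obtain ⟨g₀, hg₀⟩ := N.lift K g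
    let g₁ : R₁ →+* D := MvPolynomial.eval₂Hom g₀ fun h => d (c' h)
    have hg₁ : (Ideal.Quotient.mk K).comp g₁ = g.comp ψ₁ :=
      MvPolynomial.ringHom_ext (fun r => by simpa [g₁, ψ₁] using congr($hg₀ r))
        fun h => by simp [g₁, ψ₁, hd]
    have hu : IsUnit (g₁ s) := isUnit_of_mk hK (by
      show IsUnit ((Ideal.Quotient.mk K).comp g₁ s)
      rw [hg₁, RingHom.comp_apply, hs, map_one]
      exact isUnit_one)
    refine ⟨IsLocalization.Away.lift s hu, IsLocalization.ringHom_ext (Submonoid.powers s) ?_⟩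
    refine RingHom.ext fun r => ?_
    show Ideal.Quotient.mk K (IsLocalization.Away.lift s hu (algebraMap R₁ T r)) = g (ψ (algebraMap R₁ T r))
    rw [IsLocalization.Away.lift_eq]
    rw [hψ₁]
    exact congr($hg₁ r)

end Groth.L23.NilModel
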