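import Groth.Agent.L23.NilEffective
import Groth.Agent.L23.ThickIntegral
import Groth.Agent.L23.OpenSub
import Groth.Agent.L23.ThickTop
import Groth.Agent.L20.ThickAffine
import Mathlib.AlgebraicGeometry.Morphisms.LocalFlatDescent
import Mathlib.AlgebraicGeometry.Sites.Fpqc

/-!
# A thickening of an affine scheme is affine
-/

universe u

open CategoryTheory CategoryTheory.Limits AlgebraicGeometry Opposite AlgSp
open scoped TensorProduct

set_option backward.isDefEq.respectTransparency.types false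

namespace Groth.L23.NilSheaf

/-- A point of an affine scheme with values in a ring. -/
lemma exists_hom {Y : Scheme.{u}} [IsAffine Y] {D : CommRingCat.{u}} (f : Γ(Y, ⊤) ⟶ D) :
    ∃ x : Spec D ⟶ Y, x.appTop = f ≫ (Scheme.ΓSpecIso D).inv :=
  ⟨Spec.map f ≫ Y.isoSpec.inv, by
    have h := Scheme.ΓSpecIso_inv_naturality f
    rw [Scheme.Hom.comp_appTop, h]
    simp [Scheme.isoSpec]⟩

/-- The kernel of a pushout of a surjection. -/
lemma ker_of_isPushout {B C B₀ C₀ : CommRingCat.{u}} {q : B ⟶ C} {g : B ⟶ B₀} {r : C ⟶ C₀} {h : B₀ ⟶ C₀}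
    (sq : IsPushout q g r h) (hg : Function.Surjective g.hom) :
    RingHom.ker r.hom = (RingHom.ker g.hom).map q.hom := by
  refine le_antisymm (fun c hc => ?_) (Ideal.map_le_iff_le_comap.2 fun b hb => ?_)
  · let K := (RingHom.ker g.hom).map q.hom
    let l : B₀ →+* C ⧸ K := (Ideal.Quotient.lift (RingHom.ker g.hom) ((Ideal.Quotient.mk K).comp q.hom)
      fun b hb => Ideal.Quotient.eq_zero_iff_mem.2 (Ideal.mem_map_of_mem _ hb)).comp
        (RingHom.quotientKerEquivOfSurjective hg).symm.toRingHom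
    have w : q ≫ CommRingCat.ofHom (Ideal.Quotient.mk K) = g ≫ CommRingCat.ofHom l := by
      refine CommRingCat.hom_ext (RingHom.ext fun b => ?_)
      show Ideal.Quotient.mk K (q.hom b) = l (g.hom b)
      have : (RingHom.quotientKerEquivOfSurjective hg).symm (g.hom b) = Ideal.Quotient.mk (RingHom.ker g.hom) b :=
        (RingEquiv.symm_apply_eq (RingHom.quotientKerEquivOfSurjective hg)).2 rfl
      simp only [l, RingHom.comp_apply, RingEquiv.toRingHom_eq_coe, RingEquiv.coe_toRingHom]
      rw [this]; rfl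
    have h1 : Ideal.Quotient.mk K c = (sq.desc (CommRingCat.ofHom (Ideal.Quotient.mk K)) (CommRingCat.ofHom l) w).hom
        (r.hom c) := (congr($(sq.inl_desc _ _ w).hom c)).symm
    refine Ideal.Quotient.eq_zero_iff_mem.1 ?_
    rw [h1, (hc : r.hom c = 0), map_zero]
  · show r.hom (q.hom b) = 0
    have := congr($(sq.w).hom b)
    simp only [CommRingCat.hom_comp, RingHom.comp_apply] at this
    rw [this, (hb : g.hom b = 0), map_zero]

lemma etale_appTop {X Y : Scheme.{u}} [IsAffine X] [IsAffine Y] (f : X ⟶ Y) [Etale f] : f.appTop.hom.Etale :=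
  (HasRingHomProperty.iff_of_isAffine (P := @Etale)).1 ‹_›

lemma faithfullyFlat_appTop {X Y : Scheme.{u}} [IsAffine X] [IsAffine Y] (f : X ⟶ Y) [Flat f] [Surjective f] :
    f.appTop.hom.FaithfullyFlat := by
  rw [RingHom.FaithfullyFlat.iff_flat_and_comap_surjective]
  refine ⟨(HasRingHomProperty.iff_of_isAffine (P := @Flat)).1 ‹_›, ?_⟩
  have : Surjective (Spec.map f.appTop) := by
    rw [← MorphismProperty.cancel_left_of_respectsIso @Surjective X.isoSpec.hom,
      Scheme.isoSpec_hom_naturality]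
    infer_instance
  exact this.surj

variable {S : Scheme.{u}}

/-- A thickening of an affine scheme is affine. -/
theorem exists_affine_of_thickening {X' : Sp S} (hX' : IsAlgSpace X') {X : Over S} [IsAffine X.left]
    {i : (yon S).obj X ⟶ X'} (hi : IsThickMor i) :
    ∃ (A : Over S) (e : X' ⟶ (yon S).obj A), IsAffine A.left ∧ IsIso e := by
  have hmono : Mono i := mono_of_isThickMor hi
  obtain ⟨D, sD, a, ha, has⟩ := exists_affine_atlas (qcSp_of_surjective hX' i
    (surjective_map_of_repWith (repWith_mono (fun φ (h : MoreMor.IsThickening φ) => h.2) hi))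
    isQuasiCompactSp_of_compactSpace)
  let U : Over S := Over.mk sD
  haveI : IsAffine U.left := inferInstanceAs (IsAffine (Spec D))
  obtain ⟨U₀, u, π, sq⟩ := exists_isPullback_of_representable ha.1 i
  obtain ⟨_, _⟩ : MoreMor.IsThickening u.left := repWith_prop hi sq.flip
  haveI : IsAffine U₀.left := isAffine_of_isAffineHom u.left
  haveI : Etale π.left := repWith_prop ha sq
  haveI : Surjective π.left := repWith_prop has sq
  obtain ⟨R, t, s, sR⟩ := exists_isPullback_of_representable ha.1 a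
  haveI : Etale s.left := repWith_prop ha sR
  -- the first pullback of the thickening
  have sR₀ := IsPullback.of_hasPullback π π
  set t₀ := pullback.fst π π
  set s₀ := pullback.snd π π
  haveI : IsAffine (pullback π π).left := IsAffine.of_isPullback
    (show IsPullback t₀.left s₀.left π.left π.left from sR₀.map (Over.forget S))
  have hu : ∀ {T : Over S} (x : T ⟶ U₀), (yon S).map (x ≫ u) ≫ a = (yon S).map (x ≫ π) ≫ i := fun x => by
    rw [Functor.map_comp, Category.assoc, sq.w, Functor.map_comp, Category.assoc]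
  obtain ⟨r, hrt, hrs⟩ : ∃ r : pullback π π ⟶ R, r ≫ t = t₀ ≫ u ∧ r ≫ s = s₀ ≫ u := by
    obtain ⟨r, hr⟩ := (yon S).map_surjective (sR.lift ((yon S).map (t₀ ≫ u)) ((yon S).map (s₀ ≫ u))
      (by rw [hu, hu, sR₀.w]))
    exact ⟨r, (yon S).map_injective (by rw [Functor.map_comp, hr, sR.lift_fst]),
      (yon S).map_injective (by rw [Functor.map_comp, hr, sR.lift_snd])⟩
  have hRext : ∀ {T : Over S} {x y : T ⟶ R}, x ≫ t = y ≫ t → x ≫ s = y ≫ s → x = y := fun h h' =>
    (yon S).map_injective (sR.hom_ext (by rw [← Functor.map_comp, ← Functor.map_comp, h])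
      (by rw [← Functor.map_comp, ← Functor.map_comp, h']))
  have hRlift : ∀ {T : Over S} (x y : T ⟶ U), (yon S).map x ≫ a = (yon S).map y ≫ a →
      ∃ k : T ⟶ R, k ≫ t = x ∧ k ≫ s = y := fun x y h => by
    obtain ⟨k, hk⟩ := (yon S).map_surjective (sR.lift _ _ h)
    exact ⟨k, (yon S).map_injective (by rw [Functor.map_comp, hk, sR.lift_fst]),
      (yon S).map_injective (by rw [Functor.map_comp, hk, sR.lift_snd])⟩
  have hU₀ext : ∀ {T : Over S} {x y : T ⟶ U₀}, x ≫ u = y ≫ u → x ≫ π = y ≫ π → x = y := fun h h' =>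
    (yon S).map_injective (sq.hom_ext (by rw [← Functor.map_comp, ← Functor.map_comp, h])
      (by rw [← Functor.map_comp, ← Functor.map_comp, h']))
  have hU₀lift : ∀ {T : Over S} (x : T ⟶ U) (y : T ⟶ X), (yon S).map x ≫ a = (yon S).map y ≫ i →
      ∃ k : T ⟶ U₀, k ≫ u = x ∧ k ≫ π = y := fun x y h => by
    obtain ⟨k, hk⟩ := (yon S).map_surjective (sq.lift _ _ h)
    exact ⟨k, (yon S).map_injective (by rw [Functor.map_comp, hk, sq.lift_fst]),
      (yon S).map_injective (by rw [Functor.map_comp, hk, sq.lift_snd])⟩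
  have hut : ∀ {T : Over S} (x : T ⟶ U₀) (y : T ⟶ R), y ≫ s = x ≫ u →
      (yon S).map (y ≫ t) ≫ a = (yon S).map (x ≫ π) ≫ i := fun x y h => by
    rw [Functor.map_comp, Category.assoc, sR.w, ← Category.assoc, ← Functor.map_comp, h, hu]
  have sqs : IsPullback r s₀ s u := IsPullback.mk' hrs
    (fun T x y h h' => sR₀.hom_ext (hU₀ext (by rw [Category.assoc, Category.assoc, ← hrt, reassoc_of% h])
      (by rw [Category.assoc, Category.assoc, sR₀.w, reassoc_of% h'])) h')
    fun T x y h => by
      obtain ⟨z, hzu, hzπ⟩ := hU₀lift (x ≫ t) (y ≫ π) (hut y x h)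
      refine ⟨sR₀.lift z y hzπ, hRext ?_ ?_, sR₀.lift_snd _ _ _⟩
      · rw [Category.assoc, hrt, sR₀.lift_fst_assoc, hzu]
      · rw [Category.assoc, hrs, sR₀.lift_snd_assoc, h]
  have sqt : IsPullback r t₀ t u := IsPullback.mk' hrt
    (fun T x y h h' => sR₀.hom_ext h' (hU₀ext (by rw [Category.assoc, Category.assoc, ← hrs, reassoc_of% h])
      (by rw [Category.assoc, Category.assoc, ← sR₀.w, reassoc_of% h'])))
    fun T x y h => by
      obtain ⟨z, hzu, hzπ⟩ := hU₀lift (x ≫ s) (y ≫ π) (by
        rw [Functor.map_comp, Category.assoc, ← sR.w, ← Category.assoc, ← Functor.map_comp, h, hu])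
      refine ⟨sR₀.lift y z hzπ.symm, hRext ?_ ?_, sR₀.lift_fst _ _ _⟩
      · rw [Category.assoc, hrt, sR₀.lift_fst_assoc, h]
      · rw [Category.assoc, hrs, sR₀.lift_snd_assoc, hzu]
  -- `R` is affine
  have sqs' : IsPullback r.left s₀.left s.left u.left := sqs.map (Over.forget S)
  have sqt' : IsPullback r.left t₀.left t.left u.left := sqt.map (Over.forget S)
  haveI : IsClosedImmersion r.left := MorphismProperty.of_isPullback sqs'.flip ‹IsClosedImmersion u.left›
  haveI : Surjective r.left := MorphismProperty.of_isPullback sqs'.flip ‹Surjective u.left›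
  haveI : IsAffine R.left := Groth.L20.ThickAffine.isAffine_of_surjective r.left r.left.surjective
  -- rings
  let p : Γ(U.left, ⊤) →+* Γ(R.left, ⊤) := t.left.appTop.hom
  let q : Γ(U.left, ⊤) →+* Γ(R.left, ⊤) := s.left.appTop.hom
  let I : Ideal Γ(U.left, ⊤) := RingHom.ker u.left.appTop.hom
  have comp : ∀ {a b c : Over S} (f : a ⟶ b) (g : b ⟶ c) x,
      (f ≫ g).left.appTop.hom x = f.left.appTop.hom (g.left.appTop.hom x) := fun f g x => by
    rw [Over.comp_left, Scheme.Hom.comp_appTop]; rfl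
  have hus : Function.Surjective u.left.appTop.hom := (IsClosedImmersion.isAffine_surjective_of_isAffine u.left).2
  have hkq : RingHom.ker r.left.appTop.hom = I.map q :=
    ker_of_isPushout (isPushout_appTop_of_isPullback sqs'.flip).flip hus
  have hkp : RingHom.ker r.left.appTop.hom = I.map p :=
    ker_of_isPushout (isPushout_appTop_of_isPullback sqt'.flip).flip hus
  have hinv : I.map p = I.map q := hkp.symm.trans hkq
  have hnil : ∀ x ∈ I, IsNilpotent x := by
    intro x hx
    refine mem_nilradical.1 ?_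
    rw [nilradical_eq_sInf, Submodule.mem_sInf]
    intro P (hP : Ideal.IsPrime P)
    have : Surjective (Spec.map u.left.appTop) := by
      rw [← MorphismProperty.cancel_left_of_respectsIso @Surjective U₀.left.isoSpec.hom,
        Scheme.isoSpec_hom_naturality]
      infer_instance
    obtain ⟨Q, hQ⟩ := this.surj ⟨P, hP⟩
    have : P = Q.asIdeal.comap u.left.appTop.hom := congr_arg PrimeSpectrum.asIdeal hQ.symm
    rw [this, Ideal.mem_comap, (hx : u.left.appTop.hom x = 0)]
    exact Ideal.zero_mem _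
  -- points with values in rings
  have hpts : ∀ {E : Type u} [CommRing E] (f g : Γ(R.left, ⊤) →+* E),
      f.comp p = g.comp p → f.comp q = g.comp q → f = g := by
    intro E _ f g hp hq
    obtain ⟨x, hx⟩ := exists_hom (Y := R.left) (CommRingCat.ofHom f)
    obtain ⟨y, hy⟩ := exists_hom (Y := R.left) (CommRingCat.ofHom g)
    have hxy : ∀ (v : R ⟶ U), f.comp v.left.appTop.hom = g.comp v.left.appTop.hom → x ≫ v.left = y ≫ v.left :=
      fun v hv => ext_of_isAffine (by
        rw [Scheme.Hom.comp_appTop, Scheme.Hom.comp_appTop, hx, hy, ← Category.assoc, ← Category.assoc]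
        exact congr_arg (· ≫ _) (CommRingCat.hom_ext hv))
    let Z : Over S := Over.mk (x ≫ R.hom)
    have hy' : y ≫ R.hom = x ≫ R.hom := by
      rw [← Over.w t, ← Category.assoc, ← hxy t hp, ← Category.assoc]
    have := hRext (x := (Over.homMk x rfl : Z ⟶ R)) (y := Over.homMk y hy')
      (Over.OverMorphism.ext (hxy t hp)) (Over.OverMorphism.ext (hxy s hq))
    have hxy' : x = y := congr_arg CommaMorphism.left this
    rw [hxy', hy] at hx
    exact congr_arg CommRingCat.Hom.hom ((cancel_mono _).1 hx).symm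
  have hg : NilGpd.IsEqvRing p q := by
    refine ⟨etale_appTop s.left, ?_, ?_, ?_⟩
    · obtain ⟨k, hkt, hks⟩ := hRlift (𝟙 U) (𝟙 U) rfl
      exact ⟨k.left.appTop.hom, RingHom.ext fun x => by simpa [comp] using congr(($hkt).left.appTop.hom x),
        RingHom.ext fun x => by simpa [comp] using congr(($hks).left.appTop.hom x)⟩
    · obtain ⟨k, hkt, hks⟩ := hRlift s t (by rw [sR.w])
      exact ⟨k.left.appTop.hom, RingHom.ext fun x => (comp k t x).symm.trans congr(($hkt).left.appTop.hom x),
        RingHom.ext fun x => (comp k s x).symm.trans congr(($hks).left.appTop.hom x)⟩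
    · intro E _ f g hfg
      obtain ⟨x, hx⟩ := exists_hom (Y := R.left) (CommRingCat.ofHom f)
      obtain ⟨y, hy⟩ := exists_hom (Y := R.left) (CommRingCat.ofHom g)
      have hxy : x ≫ s.left = y ≫ t.left := ext_of_isAffine (by
        rw [Scheme.Hom.comp_appTop, Scheme.Hom.comp_appTop, hx, hy, ← Category.assoc, ← Category.assoc]
        exact congr_arg (· ≫ _) (CommRingCat.hom_ext hfg))
      let Z : Over S := Over.mk (x ≫ R.hom)
      let x' : Z ⟶ R := Over.homMk x rfl
      let y' : Z ⟶ R := Over.homMk y (by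
        show y ≫ R.hom = x ≫ R.hom
        calc y ≫ R.hom = y ≫ t.left ≫ U.hom := by rw [Over.w t]
          _ = x ≫ s.left ≫ U.hom := by rw [reassoc_of% hxy]
          _ = x ≫ R.hom := by rw [Over.w s])
      obtain ⟨k, hkt, hks⟩ := hRlift (x' ≫ t) (y' ≫ s) (by
        have h' : x' ≫ s = y' ≫ t := Over.OverMorphism.ext hxy
        rw [Functor.map_comp, Category.assoc, sR.w, ← Category.assoc, ← Functor.map_comp, h',
          Functor.map_comp, Category.assoc, sR.w, ← Category.assoc, ← Functor.map_comp])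
      refine ⟨(Scheme.ΓSpecIso (CommRingCat.of E)).hom.hom.comp k.left.appTop.hom, ?_, ?_⟩
      all_goals refine RingHom.ext fun b => ?_
      · show (Scheme.ΓSpecIso (CommRingCat.of E)).hom.hom (k.left.appTop.hom (t.left.appTop.hom b)) = _
        rw [← comp k t b, hkt, comp]
        show (x.appTop ≫ (Scheme.ΓSpecIso (CommRingCat.of E)).hom).hom (p b) = f (p b)
        rw [hx, Category.assoc, Iso.inv_hom_id, Category.comp_id]; rfl
      · show (Scheme.ΓSpecIso (CommRingCat.of E)).hom.hom (k.left.appTop.hom (s.left.appTop.hom b)) = _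
        rw [← comp k s b, hks, comp]
        show (y.appTop ≫ (Scheme.ΓSpecIso (CommRingCat.of E)).hom).hom (q b) = g (q b)
        rw [hy, Category.assoc, Iso.inv_hom_id, Category.comp_id]; rfl
  -- the datum modulo the thickening
  let e₀ : Γ(U.left, ⊤) ⧸ I ≃+* Γ(U₀.left, ⊤) := RingHom.quotientKerEquivOfSurjective hus
  have he₀ : ∀ x, e₀ (Ideal.Quotient.mk I x) = u.left.appTop.hom x := fun x => rfl
  let α : Γ(X.left, ⊤) →+* Γ(U.left, ⊤) ⧸ I := e₀.symm.toRingHom.comp π.left.appTop.hom
  have hα : ∀ x, e₀ (α x) = π.left.appTop.hom x := fun x => e₀.apply_symm_apply _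
  let κ : Γ(R.left, ⊤) ⧸ I.map q →+* Γ((pullback π π).left, ⊤) :=
    Ideal.Quotient.lift _ r.left.appTop.hom fun x hx => RingHom.mem_ker.1 (hkq.ge hx)
  have hκ : Function.Bijective κ := by
    refine ⟨(injective_iff_map_eq_zero κ).2 fun x hx => ?_, fun x => ?_⟩
    · obtain ⟨x, rfl⟩ := Ideal.Quotient.mk_surjective x
      exact Ideal.Quotient.eq_zero_iff_mem.2 (hkq.le (show r.left.appTop.hom x = 0 from hx))
    · obtain ⟨c, hc⟩ := (IsClosedImmersion.isAffine_surjective_of_isAffine r.left).2 x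
      exact ⟨Ideal.Quotient.mk _ c, hc⟩
  have hκp : ∀ x, κ (NilEffective.pbar hinv x) = t₀.left.appTop.hom (e₀ x) := fun x => by
    obtain ⟨x, rfl⟩ := Ideal.Quotient.mk_surjective x
    exact (comp r t x).symm.trans ((congr(($hrt).left.appTop.hom x)).trans (comp t₀ u x))
  have hκq : ∀ x, κ (NilEffective.qbar q I x) = s₀.left.appTop.hom (e₀ x) := fun x => by
    obtain ⟨x, rfl⟩ := Ideal.Quotient.mk_surjective x
    exact (comp r s x).symm.trans ((congr(($hrs).left.appTop.hom x)).trans (comp s₀ u x))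
  have heff := NilEffective.effective p q hg I hnil hinv α
    (RingHom.Etale.respectsIso.1 _ e₀.symm (etale_appTop π.left))
    (RingHom.FaithfullyFlat.respectsIso.1 _ e₀.symm (faithfullyFlat_appTop π.left))
    (fun x => hκ.1 (by
      rw [hκp, hκq, hα, ← comp, ← comp]
      exact congr(($(sR₀.w)).left.appTop.hom x)))
    (by
      letI := α.toAlgebra
      intro φ hφ
      have sR₀' : IsPullback s₀.left t₀.left π.left π.left := (sR₀.map (Over.forget S)).flip
      letI := π.left.appTop.hom.toAlgebra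
      letI := ((s₀ ≫ π).left.appTop.hom).toAlgebra
      have hb := bijective_mulMap_of_isPullback sR₀' (c := (s₀ ≫ π).left) rfl
        (congr_arg CommaMorphism.left sR₀.w)
      let e : (Γ(U.left, ⊤) ⧸ I) ≃ₐ[Γ(X.left, ⊤)] Γ(U₀.left, ⊤) := AlgEquiv.ofRingEquiv (f := e₀) hα
      have key : ∀ z, κ (φ z) = mulMap (appTopAlgHom t₀.left (congr_arg CommaMorphism.left sR₀.w))
          (appTopAlgHom s₀.left rfl) (Algebra.TensorProduct.congr e e z) := fun z => by
        induction z with
        | zero => simp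
        | tmul x y =>
          rw [hφ, map_mul, hκp, hκq]
          rw [Algebra.TensorProduct.congr_apply, Algebra.TensorProduct.map_tmul, mulMap_tmul]
          rfl
        | add x y hx hy => simp only [map_add, hx, hy]
      exact (Function.Bijective.of_comp_iff' hκ φ).1
        ((funext key : κ ∘ φ = _) ▸ hb.comp (Algebra.TensorProduct.congr e e).bijective))
  obtain ⟨hff, huniv⟩ := heff
  -- the affine scheme
  let A₁ : CommRingCat.{u} := CommRingCat.of (p.eqLocus q)
  let incl : A₁ ⟶ Γ(U.left, ⊤) := CommRingCat.ofHom (p.eqLocus q).subtype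
  let a₁ : U.left ⟶ Spec A₁ := U.left.isoSpec.hom ≫ Spec.map incl
  have hpush : IsPushout incl incl t.left.appTop s.left.appTop := by
    have w : incl ≫ t.left.appTop = incl ≫ s.left.appTop := by
      refine CommRingCat.hom_ext (RingHom.ext fun x => ?_)
      exact x.2
    choose d hd using fun c : PushoutCocone incl incl => huniv c.inl.hom c.inr.hom
      (congr_arg CommRingCat.Hom.hom c.condition)
    exact ⟨⟨w⟩, ⟨PushoutCocone.IsColimit.mk w (fun c => CommRingCat.ofHom (d c))
      (fun c => CommRingCat.hom_ext (hd c).1) (fun c => CommRingCat.hom_ext (hd c).2)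
      fun c m h₁ h₂ => CommRingCat.hom_ext (hpts m.hom (d c)
        ((congr_arg CommRingCat.Hom.hom h₁).trans (hd c).1.symm)
        ((congr_arg CommRingCat.Hom.hom h₂).trans (hd c).2.symm))⟩⟩
  have sqA : IsPullback t.left s.left a₁ a₁ := by
    refine (isPullback_SpecMap_of_isPushout _ _ _ _ hpush).of_iso R.left.isoSpec.symm U.left.isoSpec.symm
      U.left.isoSpec.symm (Iso.refl _) ?_ ?_ ?_ ?_
    · exact Scheme.isoSpec_inv_naturality t.left
    · exact Scheme.isoSpec_inv_naturality s.left
    · simp [a₁]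
    · simp [a₁]
  obtain ⟨hflat, hsurj⟩ := RingHom.FaithfullyFlat.iff_flat_and_comap_surjective.1 hff
  haveI : Flat (Spec.map incl) := (HasRingHomProperty.Spec_iff (P := @Flat)).2 hflat
  haveI : Surjective (Spec.map incl) := ⟨hsurj⟩
  haveI : Surjective a₁ := inferInstanceAs (Surjective (_ ≫ _))
  haveI : Flat a₁ := inferInstanceAs (Flat (_ ≫ _))
  haveI : QuasiCompact a₁ := inferInstanceAs (QuasiCompact (_ ≫ _))
  haveI : Etale a₁ := MorphismProperty.of_isPullback_of_descendsAlong (P := @Etale)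
    (Q := @Surjective ⊓ @Flat ⊓ @QuasiCompact) sqA.flip ⟨⟨‹_›, ‹_›⟩, ‹_›⟩ ‹Etale s.left›
  have hρ : ∀ {Z : Scheme.{u}} (g₁ g₂ : Z ⟶ U.left), g₁ ≫ a₁ = g₂ ≫ a₁ → g₁ ≫ U.hom = g₂ ≫ U.hom :=
    fun g₁ g₂ h => by
      obtain ⟨l, h₁, h₂⟩ := sqA.exists_lift g₁ g₂ h
      rw [← h₁, ← h₂, Category.assoc, Category.assoc, Over.w t, Over.w s]
  let A : Over S := Over.mk (EffectiveEpi.desc a₁ U.hom hρ)
  let a₂ : U ⟶ A := Over.homMk a₁ (EffectiveEpi.fac a₁ U.hom hρ)
  have sqA₂ : IsPullback ((yon S).map t) ((yon S).map s) ((yon S).map a₂) ((yon S).map a₂) :=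
    (IsPullback.of_map (Over.forget S) (f := t) (g := s) (h := a₂) (i := a₂)
      (Over.OverMorphism.ext sqA.w) sqA).map (yon S)
  haveI : Epi a := epi_of_repWith a ha has
  haveI : Epi ((yon S).map a₂) :=
    epi_of_repWith _ ((repWith_yon_map_iff _ _).2 ‹Etale a₁›) ((repWith_yon_map_iff _ _).2 ‹Surjective a₁›)
  obtain ⟨hc₁⟩ := nonempty_isColimit_cofork a sR
  obtain ⟨hc₂⟩ := nonempty_isColimit_cofork _ sqA₂
  exact ⟨A, (hc₁.coconePointUniqueUpToIso hc₂).hom, inferInstanceAs (IsAffine (Spec _)), inferInstance⟩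

end Groth.L23.NilSheaf
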