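import Groth.Agent.L23.NormAffine
import Groth.Agent.L23.UHPushProps

/-!
# Relative normalization from affine etale charts
-/

universe u

open CategoryTheory CategoryTheory.Limits AlgebraicGeometry Opposite AlgSp

set_option backward.isDefEq.respectTransparency.types false

namespace Groth.L23.Norm

variable {S : Scheme.{u}} {F G X' : Sp S}

/-- An affine scheme with an etale map to `G`. -/
structure Chart (G : Sp S) : Type (u + 1) where
  V : Over S
  [aff : IsAffine V.left]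
  v : (yon S).obj V ⟶ G
  etale : RepWith @Etale v

attribute [instance] Chart.aff

/-- `ν` with `f'` is the normalization on every affine etale chart. -/
structure IsLocNorm (f : F ⟶ G) (ν : X' ⟶ G) (f' : F ⟶ X') : Prop where
  fac : f' ≫ ν = f
  integral : IsIntegralMor ν
  norm : ∀ (c : Chart G) (P : Sp S) (fP : P ⟶ F) (q : P ⟶ (yon S).obj c.V), IsPullback fP q f c.v →
    ∀ (N : Over S) (n : (yon S).obj N ⟶ X') (νN : N ⟶ c.V), IsPullback n ((yon S).map νN) ν c.v →
    ∀ γ : P ⟶ (yon S).obj N, γ ≫ n = fP ≫ f' → γ ≫ (yon S).map νN = q → IsNorm q νN γ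

/-- Maps to `G` factor through affine etale charts locally. -/
theorem chart_sieve_mem (hG : IsAlgSpace G) {T : Over S} (x : (yon S).obj T ⟶ G) :
    ∃ R ∈ J S T, ∀ ⦃W : Over S⦄ (w : W ⟶ T), R w →
      ∃ (c : Chart G) (y : W ⟶ c.V), (yon S).map w ≫ x = (yon S).map y ≫ c.v := by
  let R : Sieve T :=
    { arrows := fun W w => ∃ (c : Chart G) (y : W ⟶ c.V), (yon S).map w ≫ x = (yon S).map y ≫ c.v
      downward_closed := fun {W W' w} h k => by
        obtain ⟨c, y, hy⟩ := h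
        exact ⟨c, k ≫ y, by rw [Functor.map_comp_assoc, hy, Functor.map_comp_assoc]⟩ }
  refine ⟨R, ?_, fun W w hw => hw⟩
  obtain ⟨V, p, hp, hps⟩ := hG.atlas
  obtain ⟨T', e, m, hm, he, hes, -⟩ := exists_refine hp hps x
  have : Surjective e.left := ⟨hes⟩
  obtain ⟨m, rfl⟩ := (yon S).map_surjective m
  refine GrothendieckTopology.transitive _ (generate_singleton_mem e) R ?_
  rintro W _ ⟨_, k, _, ⟨⟩, rfl⟩
  rw [Sieve.pullback_comp]
  refine GrothendieckTopology.pullback_stable _ k (GrothendieckTopology.superset_covering _ ?_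
    (ofArrows_mem_J (fun B : V.left.affineOpens => openOverι T' (m.left ⁻¹ᵁ B.1)) fun t => ?_))
  · rw [Sieve.generate_le_iff]
    rintro _ _ ⟨B⟩
    let r : openOver T' (m.left ⁻¹ᵁ B.1) ⟶ openOver V B.1 := Over.homMk (m.left ∣_ B.1) (by
      show m.left ∣_ B.1 ≫ B.1.ι ≫ V.hom = (m.left ⁻¹ᵁ B.1).ι ≫ T'.hom
      rw [morphismRestrict_ι_assoc, Over.w m])
    have : IsAffine (openOver V B.1).left := B.2
    refine ⟨⟨openOver V B.1, (yon S).map (openOverι V B.1) ≫ p,
      repWith_comp (repWith_map (inferInstanceAs (Etale B.1.ι))) hp⟩, r, ?_⟩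
    have hr : r ≫ openOverι V B.1 = openOverι T' (m.left ⁻¹ᵁ B.1) ≫ m :=
      Over.OverMorphism.ext (morphismRestrict_ι _ _)
    rw [← Functor.map_comp_assoc, hr, Functor.map_comp_assoc, Functor.map_comp_assoc, hm]
  · obtain ⟨_, ⟨C, hC, rfl⟩, htC, -⟩ := V.left.isBasis_affineOpens.exists_subset_of_mem_open
      (Set.mem_univ (m.left t)) isOpen_univ
    exact ⟨⟨C, hC⟩, ⟨t, htC⟩, rfl⟩

/-- The restriction of a chart to an affine scheme etale over it. -/
def Chart.restrict (c : Chart G) {V' : Over S} [IsAffine V'.left] (a : V' ⟶ c.V) [Etale a.left] : Chart G :=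
  ⟨V', (yon S).map a ≫ c.v, repWith_comp (repWith_map ‹Etale a.left›) c.etale⟩

set_option maxHeartbeats 800000 in
/-- The local normalization is the normalization. -/
theorem IsLocNorm.isRelNormalization (hG : IsAlgSpace G) {f : F ⟶ G} {ν : X' ⟶ G} {f' : F ⟶ X'}
    (h : IsLocNorm f ν f') : IsRelNormalization f ν f' := by
  refine ⟨h.fac, h.integral, fun Z _ π g hπ hg => ?_⟩
  choose N νN n sN hNa hNi using fun c : Chart G => h.integral (Z := c.V) c.aff c.v
  choose M μ mM sM hMa hMi using fun c : Chart G => hπ (Z := c.V) c.aff c.v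
  let γ : ∀ c : Chart G, pullback f c.v ⟶ (yon S).obj (N c) := fun c =>
    (sN c).lift (pullback.fst f c.v ≫ f') (pullback.snd f c.v) (by rw [Category.assoc, h.fac, pullback.condition])
  have hnorm : ∀ c, IsNorm (pullback.snd f c.v) (νN c) (γ c) := fun c =>
    h.norm c _ _ _ (IsPullback.of_hasPullback f c.v) _ _ _ (sN c) _ ((sN c).lift_fst _ _ _) ((sN c).lift_snd _ _ _)
  let gM : ∀ c : Chart G, pullback f c.v ⟶ (yon S).obj (M c) := fun c =>
    (sM c).lift (pullback.fst f c.v ≫ g) (pullback.snd f c.v) (by rw [Category.assoc, hg, pullback.condition])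
  choose hh hh₁ hh₂ using fun c => ((hnorm c).desc (M c) (μ c) (hMi c) (gM c) ((sM c).lift_snd _ _ _)).exists
  let val : ∀ (c : Chart G) {W : Over S}, (W ⟶ N c) → ((yon S).obj W ⟶ Z) := fun c {W} l =>
    (yon S).map (l ≫ hh c) ≫ mM c
  -- compatibility along refinements of charts
  have hrest : ∀ (c c' : Chart G) (a : c'.V ⟶ c.V), (yon S).map a ≫ c.v = c'.v →
      ∀ {W : Over S} (l : W ⟶ N c) (l' : W ⟶ N c'),
      (yon S).map l' ≫ n c' = (yon S).map l ≫ n c → l' ≫ νN c' ≫ a = l ≫ νN c →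
      val c' l' = val c l := by
    intro c c' a hac W l l' e₁ e₂
    obtain ⟨k, hk⟩ := (yon S).map_surjective ((sN c).lift (n c') ((yon S).map (νN c') ≫ (yon S).map a)
      (by rw [Category.assoc, hac]; exact (sN c').w))
    have hkn : (yon S).map k ≫ n c = n c' := by rw [hk, (sN c).lift_fst]
    have hkν : k ≫ νN c = νN c' ≫ a := (yon S).map_injective (by
      rw [Functor.map_comp, hk, (sN c).lift_snd, Functor.map_comp])
    obtain ⟨al, hal⟩ := (yon S).map_surjective ((sM c').lift ((yon S).map (k ≫ hh c) ≫ mM c)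
      ((yon S).map (νN c')) (by
        rw [← hac, Category.assoc, (sM c).w, ← Functor.map_comp_assoc, Category.assoc, hh₁, hkν,
          Functor.map_comp_assoc]))
    have halμ : al ≫ μ c' = νN c' := (yon S).map_injective (by rw [Functor.map_comp, hal, (sM c').lift_snd])
    obtain ⟨w, hw₁, hw₂⟩ := (IsPullback.of_hasPullback f c.v).exists_lift (pullback.fst f c'.v)
      (pullback.snd f c'.v ≫ (yon S).map a) (by rw [Category.assoc, hac]; exact pullback.condition)
    have hγk : γ c' ≫ (yon S).map k = w ≫ γ c := by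
      refine (sN c).hom_ext ?_ ?_
      · rw [Category.assoc, hkn, (sN c').lift_fst, Category.assoc, (sN c).lift_fst, reassoc_of% hw₁]
      · rw [Category.assoc, ← Functor.map_comp, hkν, Functor.map_comp, ← Category.assoc, (sN c').lift_snd,
          Category.assoc, (sN c).lift_snd, hw₂]
    have halh : al = hh c' := (hnorm c').hom_ext (hMi c') halμ (hh₁ c') (by
      rw [hh₂ c']
      refine (sM c').hom_ext ?_ ?_
      · rw [(sM c').lift_fst, Category.assoc, hal, (sM c').lift_fst, Functor.map_comp, Category.assoc,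
          reassoc_of% hγk, reassoc_of% hh₂ c, (sM c).lift_fst, reassoc_of% hw₁]
      · rw [(sM c').lift_snd, Category.assoc, hal, (sM c').lift_snd, (sN c').lift_snd])
    have hl : l' ≫ k = l := (yon S).map_injective ((sN c).hom_ext
      (by rw [Functor.map_comp, Category.assoc, hkn]; exact e₁)
      (by rw [← Functor.map_comp, ← Functor.map_comp, Category.assoc, hkν, e₂]))
    show (yon S).map (l' ≫ hh c') ≫ mM c' = (yon S).map (l ≫ hh c) ≫ mM c
    rw [← halh, Functor.map_comp_assoc, hal, (sM c').lift_fst, ← Functor.map_comp_assoc, reassoc_of% hl]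
  -- independence of the chart
  have hval : ∀ {W : Over S} (c₁ c₂ : Chart G) (l₁ : W ⟶ N c₁) (l₂ : W ⟶ N c₂),
      (yon S).map l₁ ≫ n c₁ = (yon S).map l₂ ≫ n c₂ → val c₁ l₁ = val c₂ l₂ := by
    intro W c₁ c₂ l₁ l₂ e
    obtain ⟨Q, a₁, a₂, sQ⟩ : ∃ (Q : Over S) (a₁ : Q ⟶ c₁.V) (a₂ : Q ⟶ c₂.V),
        IsPullback ((yon S).map a₁) ((yon S).map a₂) c₁.v c₂.v :=
      exists_isPullback_of_representable c₁.etale.1 c₂.v
    obtain ⟨z, hz⟩ := (yon S).map_surjective (sQ.lift ((yon S).map (l₁ ≫ νN c₁)) ((yon S).map (l₂ ≫ νN c₂)) (by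
      rw [Functor.map_comp, Functor.map_comp, Category.assoc, Category.assoc, ← (sN c₁).w, ← (sN c₂).w,
        reassoc_of% e]))
    have hz₁ : z ≫ a₁ = l₁ ≫ νN c₁ := (yon S).map_injective (by rw [Functor.map_comp, hz, sQ.lift_fst])
    have hz₂ : z ≫ a₂ = l₂ ≫ νN c₂ := (yon S).map_injective (by rw [Functor.map_comp, hz, sQ.lift_snd])
    have : Etale a₁.left := repWith_prop c₂.etale sQ.flip
    have : Etale a₂.left := repWith_prop c₁.etale sQ
    refine hom_ext_cover (fun B : Q.left.affineOpens => openOverι W (z.left ⁻¹ᵁ B.1)) (fun t => ?_) fun B => ?_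
    · obtain ⟨_, ⟨C, hC, rfl⟩, htC, -⟩ := Q.left.isBasis_affineOpens.exists_subset_of_mem_open
        (Set.mem_univ (z.left t)) isOpen_univ
      exact ⟨⟨C, hC⟩, ⟨t, htC⟩, rfl⟩
    have hB : IsAffine (openOver Q B.1).left := B.2
    let j := openOverι W (z.left ⁻¹ᵁ B.1)
    let zB : openOver W (z.left ⁻¹ᵁ B.1) ⟶ openOver Q B.1 := Over.homMk (z.left ∣_ B.1) (by
      show z.left ∣_ B.1 ≫ B.1.ι ≫ Q.hom = (z.left ⁻¹ᵁ B.1).ι ≫ W.hom
      rw [morphismRestrict_ι_assoc, Over.w z])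
    have hzB : zB ≫ openOverι Q B.1 = j ≫ z := Over.OverMorphism.ext (morphismRestrict_ι _ _)
    let b : Chart G := ⟨openOver Q B.1, (yon S).map (openOverι Q B.1) ≫ (yon S).map a₁ ≫ c₁.v,
      repWith_comp (repWith_map (inferInstanceAs (Etale B.1.ι)))
        (repWith_comp (repWith_map ‹Etale a₁.left›) c₁.etale)⟩
    let b₀ : b.V ⟶ c₁.V := openOverι Q B.1 ≫ a₁
    let b₀' : b.V ⟶ c₂.V := openOverι Q B.1 ≫ a₂
    have hb₀ : (yon S).map b₀ ≫ c₁.v = b.v := Functor.map_comp_assoc _ _ _ _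
    have hb₀' : (yon S).map b₀' ≫ c₂.v = b.v := by
      show (yon S).map (openOverι Q B.1 ≫ a₂) ≫ c₂.v = (yon S).map (openOverι Q B.1) ≫ (yon S).map a₁ ≫ c₁.v
      rw [Functor.map_comp_assoc, sQ.w]
    let zb : openOver W (z.left ⁻¹ᵁ B.1) ⟶ b.V := zB
    have hzb₁ : zb ≫ b₀ = (j ≫ l₁) ≫ νN c₁ := by
      show zB ≫ openOverι Q B.1 ≫ a₁ = _
      rw [reassoc_of% hzB, hz₁, Category.assoc]
    have hzb₂ : zb ≫ b₀' = (j ≫ l₂) ≫ νN c₂ := by
      show zB ≫ openOverι Q B.1 ≫ a₂ = _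
      rw [reassoc_of% hzB, hz₂, Category.assoc]
    obtain ⟨l₀, hl₀⟩ := (yon S).map_surjective ((sN b).lift ((yon S).map (j ≫ l₁) ≫ n c₁) ((yon S).map zb) (by
      rw [← hb₀, Category.assoc, (sN c₁).w, ← Functor.map_comp_assoc, ← Functor.map_comp_assoc, hzb₁]))
    have hl₀n : (yon S).map l₀ ≫ n b = (yon S).map (j ≫ l₁) ≫ n c₁ := by rw [hl₀, (sN b).lift_fst]
    have hl₀ν : l₀ ≫ νN b = zb := (yon S).map_injective (by rw [Functor.map_comp, hl₀, (sN b).lift_snd])
    show (yon S).map j ≫ val c₁ l₁ = (yon S).map j ≫ val c₂ l₂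
    have hj : ∀ (c : Chart G) (l : W ⟶ N c), (yon S).map j ≫ val c l = val c (j ≫ l) := fun c l => by
      show (yon S).map j ≫ (yon S).map (l ≫ hh c) ≫ mM c = (yon S).map ((j ≫ l) ≫ hh c) ≫ mM c
      simp only [Functor.map_comp, Category.assoc]
    rw [hj, hj, ← hrest c₁ b b₀ hb₀ (j ≫ l₁) l₀ hl₀n (by rw [← Category.assoc, hl₀ν, hzb₁]),
      ← hrest c₂ b b₀' hb₀' (j ≫ l₂) l₀ (by rw [hl₀n, Functor.map_comp_assoc, Functor.map_comp_assoc, e])
        (by rw [← Category.assoc, hl₀ν, hzb₂])]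
  have hnat : ∀ (c : Chart G) {W W' : Over S} (k : W' ⟶ W) (l : W ⟶ N c),
      (yon S).map k ≫ val c l = val c (k ≫ l) := fun c W W' k l => by
    show (yon S).map k ≫ (yon S).map (l ≫ hh c) ≫ mM c = (yon S).map ((k ≫ l) ≫ hh c) ≫ mM c
    simp only [Functor.map_comp, Category.assoc]
  -- lifts on the sieve
  have hsieve : ∀ {T : Over S} (x : (yon S).obj T ⟶ X'), ∃ R ∈ J S T, ∀ ⦃W : Over S⦄ (w : W ⟶ T), R w →
      ∃ (c : Chart G) (l : W ⟶ N c), (yon S).map w ≫ x = (yon S).map l ≫ n c := by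
    intro T x
    obtain ⟨R, hR, hc⟩ := chart_sieve_mem hG (x ≫ ν)
    refine ⟨R, hR, fun W w hw => ?_⟩
    obtain ⟨c, y, hy⟩ := hc w hw
    obtain ⟨l, hl⟩ := (yon S).map_surjective ((sN c).lift ((yon S).map w ≫ x) ((yon S).map y)
      (by rw [Category.assoc]; exact hy))
    exact ⟨c, l, by rw [hl, (sN c).lift_fst]⟩
  have hz : ∀ {T : Over S} (x : (yon S).obj T ⟶ X'), ∃! z : (yon S).obj T ⟶ Z,
      ∀ (W : Over S) (w : W ⟶ T) (c : Chart G) (l : W ⟶ N c),
        (yon S).map w ≫ x = (yon S).map l ≫ n c → (yon S).map w ≫ z = val c l := by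
    intro T x
    obtain ⟨R, hR, hc⟩ := hsieve x
    choose c l hl using hc
    obtain ⟨z, hz, -⟩ := UHPush.existsUnique_glueSieve hR (fun W w hw => val (c w hw) (l w hw))
      fun W W' w hw k => by
        rw [hnat]
        refine hval _ _ _ _ ?_
        rw [Functor.map_comp_assoc, ← hl w hw, ← hl (k ≫ w) (R.downward_closed hw k), Functor.map_comp_assoc]
    refine ⟨z, fun W w c' l' e => UHPush.hom_ext_sieve ((J S).pullback_stable w hR) fun W' k hk => ?_,
      fun z' hz' => UHPush.hom_ext_sieve hR fun W w hw => by rw [hz w hw, hz' W w _ _ (hl w hw)]⟩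
    rw [← Functor.map_comp_assoc, hz _ hk, hnat]
    refine hval _ _ _ _ ?_
    rw [← hl _ hk, Functor.map_comp_assoc, Functor.map_comp_assoc, e]
  choose τ hτ hτu using @hz
  obtain ⟨θ, hθ⟩ := UHPush.exists_hom_of_yon (fun T x => τ x) fun {T T'} k x => (hτu _ _ fun W w c l e => by
    rw [← Functor.map_comp_assoc]
    exact hτ x W _ c l (by rw [Functor.map_comp_assoc]; exact e)).symm
  have hθn : ∀ c : Chart G, n c ≫ θ = (yon S).map (hh c) ≫ mM c := fun c => by
    rw [hθ]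
    have := hτ (n c) (N c) (𝟙 _) c (𝟙 _) (by rw [(yon S).map_id])
    rw [(yon S).map_id, Category.id_comp] at this
    exact this.trans (by show (yon S).map (𝟙 _ ≫ hh c) ≫ mM c = _; rw [Category.id_comp])
  refine ⟨θ, ⟨hom_ext_yon fun T y => ?_, hom_ext_yon fun T x => ?_⟩, fun k ⟨hk₁, hk₂⟩ => hom_ext_yon fun T x => ?_⟩
  · obtain ⟨R, hR, hc⟩ := chart_sieve_mem hG (y ≫ f)
    refine UHPush.hom_ext_sieve hR fun W w hw => ?_
    obtain ⟨c, y', hy'⟩ := hc w hw
    obtain ⟨P₀, hP₁, hP₂⟩ := (IsPullback.of_hasPullback f c.v).exists_lift ((yon S).map w ≫ y) ((yon S).map y')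
      (by rw [Category.assoc]; exact hy')
    rw [← Category.assoc, ← hP₁]
    have h₁ : pullback.fst f c.v ≫ f' = γ c ≫ n c := ((sN c).lift_fst _ _ _).symm
    rw [Category.assoc, reassoc_of% h₁, hθn, reassoc_of% hh₂ c, (sM c).lift_fst, reassoc_of% hP₁]
  · obtain ⟨R, hR, hc⟩ := hsieve x
    refine UHPush.hom_ext_sieve hR fun W w hw => ?_
    obtain ⟨c, l, hl⟩ := hc w hw
    rw [reassoc_of% hl, reassoc_of% hθn c, (sM c).w, reassoc_of% hl, (sN c).w, ← Functor.map_comp_assoc (yon S) (hh c), hh₁]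
  · obtain ⟨R, hR, hc⟩ := hsieve x
    refine UHPush.hom_ext_sieve hR fun W w hw => ?_
    obtain ⟨c, l, hl⟩ := hc w hw
    obtain ⟨kc, hkc⟩ := (yon S).map_surjective ((sM c).lift (n c ≫ k) ((yon S).map (νN c))
      (by rw [Category.assoc, hk₂]; exact (sN c).w))
    have hkh : kc = hh c := (hnorm c).hom_ext (hMi c)
      ((yon S).map_injective (by rw [Functor.map_comp, hkc, (sM c).lift_snd])) (hh₁ c) (by
      rw [hh₂ c]
      refine (sM c).hom_ext ?_ ?_
      · rw [(sM c).lift_fst, Category.assoc, hkc, (sM c).lift_fst, ← Category.assoc, (sN c).lift_fst,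
          Category.assoc, hk₁]
      · rw [(sM c).lift_snd, Category.assoc, hkc, (sM c).lift_snd, (sN c).lift_snd])
    rw [reassoc_of% hl, reassoc_of% hl, hθn, ← hkh, hkc, (sM c).lift_fst]

end Groth.L23.Norm
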