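import Groth.Agent.L23.NormGlobal
import Groth.Agent.L23.SourceReduced
import Mathlib.AlgebraicGeometry.Normalization

/-!
# Smooth base change and reducedness of relative normalizations
-/

universe u

open CategoryTheory CategoryTheory.Limits AlgebraicGeometry Opposite AlgSp

set_option backward.isDefEq.respectTransparency.types false

namespace Groth.L23.Norm

variable {S : Scheme.{u}}

/-- Normalization descends along affine etale coverings. -/
theorem IsNorm.descend {P P' : Sp S} {Z Z' N N' : Over S} [IsAffine Z.left] [IsAffine Z'.left]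
    {q : P ⟶ (yon S).obj Z} (hP : IsQuasiCompactSp P) (hqs : RepWith @QuasiCompact (pullback.diagonal q))
    {ν : N ⟶ Z} [hν : IsIntegralHom ν.left] {γ : P ⟶ (yon S).obj N} (hfac : γ ≫ (yon S).map ν = q)
    (e : Z' ⟶ Z) [Etale e.left] [Surjective e.left]
    {fp : P' ⟶ P} {q' : P' ⟶ (yon S).obj Z'} (sP : IsPullback fp q' q ((yon S).map e))
    {fn : N' ⟶ N} {ν' : N' ⟶ Z'} (sN : IsPullback fn ν' ν e) {γ' : P' ⟶ (yon S).obj N'}
    (h₁ : γ' ≫ (yon S).map fn = fp ≫ γ) (h : IsNorm q' ν' γ') : IsNorm q ν γ := by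
  obtain ⟨N₀, ν₀, γ₀, hN₀⟩ := exists_norm q hP hqs
  obtain ⟨k, ⟨hk₁, hk₂⟩, -⟩ := hN₀.desc N ν hν γ hfac
  obtain ⟨M, m, νM, sM⟩ : ∃ (M : Over S) (m : M ⟶ N₀) (νM : M ⟶ Z'), IsPullback m νM ν₀ e :=
    ⟨_, _, _, IsPullback.of_hasPullback ν₀ e⟩
  obtain ⟨γM, hγ₁, hγ₂⟩ := (sM.map (yon S)).exists_lift (fp ≫ γ₀) q'
    (by rw [Category.assoc, hN₀.fac, sP.w])
  have hM := hN₀.baseChange hP hqs e sP sM hγ₁ hγ₂
  obtain ⟨θ, hθ₁, hθ₂⟩ := hM.exists_iso h
  obtain ⟨k', hk'₁, hk'₂⟩ := sN.exists_lift (m ≫ k) νM (by rw [Category.assoc, hk₁, sM.w])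
  have hkθ : k' = θ.hom := hM.hom_ext h.integral hk'₂ hθ₁ (by
    rw [hθ₂]
    refine (sN.map (yon S)).hom_ext ?_ ?_
    · rw [Category.assoc, ← Functor.map_comp, hk'₁, Functor.map_comp, reassoc_of% hγ₁, hk₂, h₁]
    · rw [Category.assoc, ← Functor.map_comp, hk'₂, hγ₂, h.fac])
  have sk : IsPullback m k' k fn := IsPullback.of_bot (by rw [hk'₂, hk₁]; exact sM) hk'₁.symm sN
  have : IsAffineHom e.left := isAffineHom_of_isAffine _
  have hfe : Etale fn.left := MorphismProperty.of_isPullback (sN.map (Over.forget S)).flip ‹Etale e.left›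
  have : Surjective fn.left := MorphismProperty.of_isPullback (sN.map (Over.forget S)).flip ‹Surjective e.left›
  have hfa : IsAffineHom fn.left := MorphismProperty.of_isPullback (sN.map (Over.forget S)).flip ‹IsAffineHom e.left›
  have he' : (@Surjective ⊓ @Flat ⊓ @QuasiCompact : MorphismProperty Scheme.{u}) fn.left :=
    ⟨⟨‹_›, inferInstanceAs (Flat fn.left)⟩, inferInstanceAs (QuasiCompact fn.left)⟩
  have hk'i : (MorphismProperty.isomorphisms Scheme.{u}) k'.left := by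
    rw [hkθ]; exact inferInstanceAs (IsIso ((Over.forget S).map θ.hom))
  have : IsIso k.left := MorphismProperty.of_isPullback_of_descendsAlong
    (P := MorphismProperty.isomorphisms Scheme.{u}) (sk.map (Over.forget S)).flip he' hk'i
  have : IsIso k := by
    have : IsIso ((Over.forget S).map k) := ‹IsIso k.left›
    exact isIso_of_reflects_iso k (Over.forget S)
  exact hN₀.of_iso (asIso k) hk₁ hk₂

set_option maxHeartbeats 800000 in
/-- Smooth base change. -/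
theorem isLocNorm_smooth_baseChange {F G F₂ G₂ X' P : Sp S} (hG : IsAlgSpace G) {f : F ⟶ G} {ν : X' ⟶ G}
    {f' : F ⟶ X'} (hqc : IsQuasiCompactMor f) (hqs : IsQuasiSeparatedMor f) (h : IsLocNorm f ν f') {φ : G₂ ⟶ G}
    (hφ : LocP @Smooth φ) {ψ : F₂ ⟶ F} {f₂ : F₂ ⟶ G₂} (sq : IsPullback ψ f₂ f φ) {ρ : P ⟶ X'} {ν₂ : P ⟶ G₂}
    (hP : IsPullback ρ ν₂ ν φ) {f₂' : F₂ ⟶ P} (w₁ : f₂' ≫ ν₂ = f₂) (w₂ : f₂' ≫ ρ = ψ ≫ f') :
    IsLocNorm f₂ ν₂ f₂' := by
  refine ⟨w₁, isIntegralMor_iff.2 (repWith_of_isPullback hP (isIntegralMor_iff.1 h.integral)),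
    fun c P₂ fP q sqP N n νN sN γ hγ₁ hγ₂ => ?_⟩
  have hPq : IsQuasiCompactSp P₂ ∧ RepWith @QuasiCompact (pullback.diagonal q) :=
    ⟨hqc (IsAlgSpace.yon_obj c.V) isQuasiCompactSp_of_compactSpace (c.v ≫ φ) _ q (sqP.paste_horiz sq),
      repWith_of_isPullback (isPullback_diagonal (sqP.paste_horiz sq)) hqs⟩
  have hνN : IsIntegralHom νN.left := repWith_prop (repWith_of_isPullback hP (isIntegralMor_iff.1 h.integral)) sN
  obtain ⟨A, e, d, y, hA, he, hes, w⟩ := exists_chart_refine hG (c.v ≫ φ)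
  have hy : Smooth y.left := hφ ((yon S).map e ≫ c.v) d.v y (repWith_comp (repWith_map he) c.etale) d.etale
    (by rw [Category.assoc, w])
  obtain ⟨M, mM, μM, sM, hMa, hMi⟩ := h.integral (Z := d.V) d.aff d.v
  have sd := IsPullback.of_hasPullback f d.v
  obtain ⟨γd, hd₁, hd₂⟩ := sM.exists_lift (pullback.fst f d.v ≫ f') (pullback.snd f d.v)
    (by rw [Category.assoc, h.fac]; exact sd.w)
  have hM := h.norm d _ _ _ sd M _ _ sM γd hd₁ hd₂
  obtain ⟨PA, fA, qA, sA⟩ : ∃ (PA : Sp S) (fA : PA ⟶ P₂) (qA : PA ⟶ (yon S).obj A),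
      IsPullback fA qA q ((yon S).map e) := ⟨_, _, _, IsPullback.of_hasPullback q ((yon S).map e)⟩
  obtain ⟨NA, fN, νA, sNA⟩ : ∃ (NA : Over S) (fN : NA ⟶ N) (νA : NA ⟶ A), IsPullback fN νA νN e :=
    ⟨_, _, _, IsPullback.of_hasPullback νN e⟩
  obtain ⟨γA, hA₁, hA₂⟩ := (sNA.map (yon S)).exists_lift (fA ≫ γ) qA (by rw [Category.assoc, hγ₂, sA.w])
  have sPA := (sA.paste_horiz sqP).paste_horiz sq
  rw [Category.assoc ((yon S).map e), w] at sPA
  obtain ⟨p₁, hp₁, hp₂⟩ := sd.exists_lift ((fA ≫ fP) ≫ ψ) (qA ≫ (yon S).map y)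
    (by simpa only [Category.assoc] using sPA.w)
  have sP₁ : IsPullback p₁ qA (pullback.snd f d.v) ((yon S).map y) :=
    IsPullback.of_right (by rw [hp₁]; exact sPA) hp₂ sd
  have sN₂ := ((sNA.map (yon S)).paste_horiz sN).paste_horiz hP
  rw [Category.assoc ((yon S).map e), w] at sN₂
  obtain ⟨n₁, hn₁, hn₂⟩ := sM.exists_lift (((yon S).map fN ≫ n) ≫ ρ) ((yon S).map νA ≫ (yon S).map y)
    (by simpa only [Category.assoc] using sN₂.w)
  obtain ⟨n₁, rfl⟩ := (yon S).map_surjective n₁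
  have sN₁ : IsPullback ((yon S).map n₁) ((yon S).map νA) ((yon S).map mM) ((yon S).map y) :=
    IsPullback.of_right (by rw [hn₁]; exact sN₂) hn₂ sM
  have sN₁' : IsPullback n₁ νA mM y :=
    IsPullback.of_map (yon S) ((yon S).map_injective (by simpa using sN₁.w)) sN₁
  have hPd := qcqs_chart hqc hqs d sd
  have hNA : IsNorm qA νA γA := hM.baseChange hPd.1 hPd.2 y sP₁ sN₁' (γ' := γA) (by
    refine sM.hom_ext ?_ ?_
    · rw [Category.assoc, hn₁, Category.assoc _ n ρ, reassoc_of% hA₁, reassoc_of% hγ₁, w₂, Category.assoc p₁,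
        hd₁, reassoc_of% hp₁]
    · rw [Category.assoc, hn₂, ← Category.assoc, hA₂, Category.assoc p₁, hd₂, hp₂]) hA₂
  exact IsNorm.descend hPq.1 hPq.2 hγ₂ e sA sNA hA₁ hNA

/-- A subring scheme of a reduced affine scheme is reduced. -/
theorem isReduced_of_isNorm {P : Sp S} {Z N : Over S} [IsAffine Z.left] {q : P ⟶ (yon S).obj Z} {ν : N ⟶ Z}
    {γ : P ⟶ (yon S).obj N} (h : IsNorm q ν γ) (hP : IsQuasiCompactSp P)
    (hqs : RepWith @QuasiCompact (pullback.diagonal q))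
    (hred : ∀ (U : Over S) (p : (yon S).obj U ⟶ P), RepWith @Etale p → IsReduced U.left) : IsReduced N.left := by
  obtain ⟨U, R, p, r₁, r₂, hU, hR, hp⟩ := exists_isPres q hP hqs
  obtain ⟨k, hk⟩ := (yon S).map_surjective (p ≫ q)
  obtain ⟨N₀, ν₀, γ₀, n, hN₀, hn, he, hN₀'⟩ := exists_norm_of_pres q hp k hk
  obtain ⟨θ, -, -⟩ := h.exists_iso hN₀'
  have : IsReduced U.left := hred U p hp.etale
  have : _root_.IsReduced Γ(N₀.left, ⊤) := isReduced_of_injective n.left.appTop.hom he.inj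
  have : IsReduced N₀.left :=
    have : IsReduced (Spec Γ(N₀.left, ⊤)) := inferInstance
    isReduced_of_isOpenImmersion N₀.left.isoSpec.hom
  have : IsIso θ.hom.left := inferInstanceAs (IsIso ((Over.forget S).map θ.hom))
  exact isReduced_of_isOpenImmersion θ.hom.left

end Groth.L23.Norm
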