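import Groth.Agent.L23.LqfRing
import Mathlib.Algebra.Category.Ring.Constructions
import Mathlib.RingTheory.RingHom.Smooth
import Mathlib.RingTheory.RingHom.Integral

/-!
# The integral elements on which two maps agree
-/

universe u

open CategoryTheory CategoryTheory.Limits TensorProduct

set_option linter.style.haveILetI false

namespace Groth.L23.Norm

variable {A B C D : CommRingCat.{u}}

/-- `val` identifies `B` with the integral elements of `C` on which two maps agree. -/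
structure IsEqInt (φ : A ⟶ C) (π₁ π₂ : C ⟶ D) (β : A ⟶ B) (val : B ⟶ C) : Prop where
  comp : β ≫ val = φ
  comp_eq : φ ≫ π₁ = φ ≫ π₂
  inj : Function.Injective val.hom
  mem_iff : ∀ c : C, (∃ b, val.hom b = c) ↔ φ.hom.IsIntegralElem c ∧ π₁.hom c = π₂.hom c

variable {φ : A ⟶ C} {π₁ π₂ : C ⟶ D} {β : A ⟶ B} {val : B ⟶ C}

theorem IsEqInt.isIntegral (h : IsEqInt φ π₁ π₂ β val) : β.hom.IsIntegral := fun b => by
  letI := β.hom.toAlgebra
  letI := φ.hom.toAlgebra
  let v : (B : Type u) →ₐ[(A : Type u)] (C : Type u) :=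
    { val.hom with commutes' := fun a => congr($(h.comp).hom a) }
  exact (isIntegral_algHom_iff v h.inj).1 ((h.mem_iff _).1 ⟨b, rfl⟩).1

/-- Equalised integral elements exist. -/
theorem exists_isEqInt (φ : A ⟶ C) (π₁ π₂ : C ⟶ D) (hπ : φ ≫ π₁ = φ ≫ π₂) :
    ∃ (B : CommRingCat.{u}) (β : A ⟶ B) (val : B ⟶ C), IsEqInt φ π₁ π₂ β val := by
  letI := φ.hom.toAlgebra
  let s : Subring C := (integralClosure (A : Type u) (C : Type u)).toSubring ⊓ π₁.hom.eqLocus π₂.hom
  have hs : ∀ a, φ.hom a ∈ s := fun a =>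
    ⟨isIntegral_algebraMap, congr($(hπ).hom a)⟩
  exact ⟨.of s, CommRingCat.ofHom (φ.hom.codRestrict s hs), CommRingCat.ofHom s.subtype,
    ⟨rfl, hπ, Subtype.val_injective, fun c => ⟨by rintro ⟨b, rfl⟩; exact b.2, fun hc => ⟨⟨c, hc⟩, rfl⟩⟩⟩⟩

set_option maxHeartbeats 800000 in
/-- Equalised integral elements commute with smooth base change. -/
theorem IsEqInt.baseChange (h : IsEqInt φ π₁ π₂ β val) {A' B' C' D' : CommRingCat.{u}} (χ : A ⟶ A')
    (hχ : χ.hom.Smooth) {φ' : A' ⟶ C'} {rC : C ⟶ C'} (pC : IsPushout χ φ φ' rC)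
    {τ : A' ⟶ D'} {rD : D ⟶ D'} (pD : IsPushout χ (φ ≫ π₁) τ rD)
    {β' : A' ⟶ B'} {rB : B ⟶ B'} (pB : IsPushout χ β β' rB)
    {π₁' π₂' : C' ⟶ D'} (h₁ : φ' ≫ π₁' = τ) (h₁' : rC ≫ π₁' = π₁ ≫ rD)
    (h₂ : φ' ≫ π₂' = τ) (h₂' : rC ≫ π₂' = π₂ ≫ rD)
    {val' : B' ⟶ C'} (hv : β' ≫ val' = φ') (hv' : rB ≫ val' = val ≫ rC) :
    IsEqInt φ' π₁' π₂' β' val' := by
  letI := φ.hom.toAlgebra
  letI : Algebra (A : Type u) (D : Type u) := (φ ≫ π₁).hom.toAlgebra
  letI : Algebra (A : Type u) (A' : Type u) := χ.hom.toAlgebra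
  letI : Algebra (A : Type u) (B : Type u) := β.hom.toAlgebra
  haveI : Algebra.Smooth (A : Type u) (A' : Type u) := hχ
  let p : (C : Type u) →ₐ[(A : Type u)] (D : Type u) := { π₁.hom with commutes' := fun _ => rfl }
  let q : (C : Type u) →ₐ[(A : Type u)] (D : Type u) :=
    { π₂.hom with commutes' := fun a => (congr($(h.comp_eq).hom a)).symm }
  let v : (B : Type u) →ₐ[(A : Type u)] (C : Type u) :=
    { val.hom with commutes' := fun a => congr($(h.comp).hom a) }
  let v₀ : (B : Type u) →ₐ[(A : Type u)] Groth.L23.Lqf.eqInt p q :=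
    v.codRestrict _ fun b => (h.mem_iff _).1 ⟨b, rfl⟩
  let E : (B : Type u) ≃ₐ[(A : Type u)] Groth.L23.Lqf.eqInt p q := AlgEquiv.ofBijective v₀
    ⟨fun x y e => h.inj (congr_arg Subtype.val e), fun c => by
      obtain ⟨b, hb⟩ := (h.mem_iff _).2 c.2
      exact ⟨b, Subtype.ext hb⟩⟩
  obtain ⟨hinj, hrange⟩ := Groth.L23.Lqf.eqInt_baseChange (A' : Type u) p q
  have tC := CommRingCat.isPushout_tensorProduct A A' C
  have tD := CommRingCat.isPushout_tensorProduct A A' D
  have tB := CommRingCat.isPushout_tensorProduct A A' B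
  let eC := pC.isoIsPushout _ _ tC
  let eD := pD.isoIsPushout _ _ tD
  let eB := pB.isoIsPushout _ _ tB
  let M (f : (C : Type u) →ₐ[(A : Type u)] (D : Type u)) :=
    CommRingCat.ofHom (Algebra.TensorProduct.map (AlgHom.id (A' : Type u) (A' : Type u)) f).toRingHom
  let V := CommRingCat.ofHom (Algebra.TensorProduct.map (AlgHom.id (A' : Type u) (A' : Type u)) v).toRingHom
  have e₁ : π₁' ≫ eD.hom = eC.hom ≫ M p := by
    refine pC.hom_ext ?_ ?_
    · rw [reassoc_of% h₁, pD.inl_isoIsPushout_hom, pC.inl_isoIsPushout_hom_assoc]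
      ext a; exact (congrArg (a ⊗ₜ ·) (map_one p)).symm
    · rw [reassoc_of% h₁', pD.inr_isoIsPushout_hom, pC.inr_isoIsPushout_hom_assoc]; rfl
  have e₂ : π₂' ≫ eD.hom = eC.hom ≫ M q := by
    refine pC.hom_ext ?_ ?_
    · rw [reassoc_of% h₂, pD.inl_isoIsPushout_hom, pC.inl_isoIsPushout_hom_assoc]
      ext a; exact (congrArg (a ⊗ₜ ·) (map_one q)).symm
    · rw [reassoc_of% h₂', pD.inr_isoIsPushout_hom, pC.inr_isoIsPushout_hom_assoc]; rfl
  have e₃ : val' ≫ eC.hom = eB.hom ≫ V := by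
    refine pB.hom_ext ?_ ?_
    · rw [reassoc_of% hv, pC.inl_isoIsPushout_hom, pB.inl_isoIsPushout_hom_assoc]
      ext a; exact (congrArg (a ⊗ₜ ·) (map_one v)).symm
    · rw [reassoc_of% hv', pC.inr_isoIsPushout_hom, pB.inr_isoIsPushout_hom_assoc]; rfl
  have hVi : Algebra.TensorProduct.map (AlgHom.id (A' : Type u) (A' : Type u)) v =
      (Algebra.TensorProduct.map (AlgHom.id (A' : Type u) (A' : Type u)) (Groth.L23.Lqf.eqInt p q).val).comp
        (Algebra.TensorProduct.map (AlgHom.id (A' : Type u) (A' : Type u)) E.toAlgHom) := by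
    ext b; rfl
  let E' := Algebra.TensorProduct.congr (AlgEquiv.refl (R := (A' : Type u)) (A₁ := (A' : Type u))) E
  have hE' : ∀ z, E' z = Algebra.TensorProduct.map (AlgHom.id (A' : Type u) (A' : Type u)) E.toAlgHom z :=
    fun _ => rfl
  have hV : ∀ z, Algebra.TensorProduct.map (AlgHom.id (A' : Type u) (A' : Type u)) v z =
      Algebra.TensorProduct.map (AlgHom.id (A' : Type u) (A' : Type u)) (Groth.L23.Lqf.eqInt p q).val (E' z) :=
    fun z => by rw [hE', ← AlgHom.comp_apply, ← hVi]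
  have hC : Function.Injective eC.hom.hom := (ConcreteCategory.bijective_of_isIso eC.hom).1
  have hB : Function.Bijective eB.hom.hom := ConcreteCategory.bijective_of_isIso eB.hom
  have hD : Function.Injective eD.hom.hom := (ConcreteCategory.bijective_of_isIso eD.hom).1
  have hev : ∀ b, eC.hom.hom (val'.hom b) =
      Algebra.TensorProduct.map (AlgHom.id (A' : Type u) (A' : Type u)) (Groth.L23.Lqf.eqInt p q).val
        (E' (eB.hom.hom b)) := fun b => (congr($(e₃).hom b)).trans (hV _)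
  refine ⟨hv, by rw [h₁, h₂], fun x y e => hB.1 (E'.injective (hinj ?_)), fun c => ?_⟩
  · rw [← hev, ← hev, e]
  have hint : φ'.hom.IsIntegralElem c ↔ IsIntegral (A' : Type u) (eC.hom.hom c) := by
    have hl : eC.hom.hom.comp φ'.hom = algebraMap (A' : Type u) ((A' : Type u) ⊗[(A : Type u)] (C : Type u)) :=
      congr($(pC.inl_isoIsPushout_hom _ _ tC).hom)
    unfold IsIntegral RingHom.IsIntegralElem
    rw [← hl]
    refine exists_congr fun P => and_congr_right fun _ => ?_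
    rw [← Polynomial.hom_eval₂, map_eq_zero_iff _ hC]
  rw [hint, show π₁'.hom c = π₂'.hom c ↔
    Algebra.TensorProduct.map (AlgHom.id (A' : Type u) (A' : Type u)) p (eC.hom.hom c) =
      Algebra.TensorProduct.map (AlgHom.id (A' : Type u) (A' : Type u)) q (eC.hom.hom c) from
    hD.eq_iff.symm.trans (iff_of_eq (congr_arg₂ Eq congr($(e₁).hom c) congr($(e₂).hom c))),
    ← hrange, AlgHom.mem_range]
  constructor
  · rintro ⟨b, rfl⟩
    exact ⟨_, (hev b).symm⟩
  · rintro ⟨z, hz⟩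
    obtain ⟨b, hb⟩ := hB.2 (E'.symm z)
    exact ⟨b, hC (by rw [hev, hb, AlgEquiv.apply_symm_apply, hz])⟩

end Groth.L23.Norm
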