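import Groth.Agent.L23.NormLocal
import Groth.Agent.L23.AffineDescent
import Groth.Agent.L23.TargetLocal

/-!
# Gluing affine schemes given on the affine etale charts of a space
-/

universe u

open CategoryTheory CategoryTheory.Limits AlgebraicGeometry Opposite AlgSp

set_option backward.isDefEq.respectTransparency.types false

namespace Groth.L23.Norm

variable {S : Scheme.{u}} {G : Sp S}

/-- A map of charts. -/
structure Refine (c' c : Chart G) : Type (u + 1) where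
  a : c'.V ⟶ c.V
  fac : (yon S).map a ≫ c.v = c'.v
  [etale : Etale a.left]

attribute [instance] Refine.etale

/-- Composition of maps of charts. -/
def Refine.comp {c'' c' c : Chart G} (r : Refine c'' c') (s : Refine c' c) : Refine c'' c where
  a := r.a ≫ s.a
  fac := by rw [Functor.map_comp_assoc, s.fac, r.fac]
  etale := inferInstanceAs (Etale (r.a.left ≫ s.a.left))

/-- The identity of a chart. -/
def Refine.id (c : Chart G) : Refine c c where
  a := 𝟙 _
  fac := by rw [(yon S).map_id, Category.id_comp]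
  etale := inferInstanceAs (Etale (𝟙 c.V.left))

@[ext]
theorem Refine.ext {c' c : Chart G} {r s : Refine c' c} (h : r.a = s.a) : r = s := by
  cases r; cases s; cases h; rfl

/-- Schemes over the charts with descent maps. -/
structure Data (G : Sp S) : Type (u + 1) where
  N : Chart G → Over S
  ν : ∀ c, N c ⟶ c.V
  map : ∀ {c' c : Chart G}, Refine c' c → (N c' ⟶ N c)
  isPullback : ∀ {c' c : Chart G} (r : Refine c' c), IsPullback (map r) (ν c') (ν c) r.a
  map_comp : ∀ {c'' c' c : Chart G} (r : Refine c'' c') (s : Refine c' c), map (r.comp s) = map r ≫ map s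

variable (D : Data G)

lemma Data.map_id (c : Chart G) : D.map (Refine.id c) = 𝟙 (D.N c) := by
  have h : D.map (Refine.id c) ≫ D.map (Refine.id c) = D.map (Refine.id c) := by
    rw [← D.map_comp]
    exact congr_arg _ (Refine.ext (Category.comp_id _))
  have : IsIso (Refine.id c).a := inferInstanceAs (IsIso (𝟙 c.V))
  have : IsIso (D.map (Refine.id c)) := (D.isPullback (Refine.id c)).isIso_fst_of_isIso
  rw [← cancel_mono (D.map (Refine.id c)), h, Category.id_comp]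

/-- Sections over `T`. -/
structure Elem (T : Over S) where
  g : (yon S).obj T ⟶ G
  h : ∀ (c : Chart G) {W : Over S} (x : W ⟶ T) (y : W ⟶ c.V),
    (yon S).map x ≫ g = (yon S).map y ≫ c.v → (W ⟶ D.N c)
  over : ∀ (c : Chart G) {W : Over S} (x : W ⟶ T) (y : W ⟶ c.V)
    (e : (yon S).map x ≫ g = (yon S).map y ≫ c.v), h c x y e ≫ D.ν c = y
  nat : ∀ (c : Chart G) {W W' : Over S} (k : W' ⟶ W) (x : W ⟶ T) (y : W ⟶ c.V)
    (e : (yon S).map x ≫ g = (yon S).map y ≫ c.v) (e' : (yon S).map (k ≫ x) ≫ g = (yon S).map (k ≫ y) ≫ c.v),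
    h c (k ≫ x) (k ≫ y) e' = k ≫ h c x y e
  compat : ∀ {c' c : Chart G} (r : Refine c' c) {W : Over S} (x : W ⟶ T) (y : W ⟶ c'.V)
    (e : (yon S).map x ≫ g = (yon S).map y ≫ c'.v) (e' : (yon S).map x ≫ g = (yon S).map (y ≫ r.a) ≫ c.v),
    h c' x y e ≫ D.map r = h c x (y ≫ r.a) e'

variable {D}

lemma Elem.ext {T : Over S} {E E' : Elem D T} (hg : E.g = E'.g)
    (hh : ∀ (c : Chart G) {W : Over S} (x : W ⟶ T) (y : W ⟶ c.V) (e : (yon S).map x ≫ E.g = (yon S).map y ≫ c.v)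
      (e' : (yon S).map x ≫ E'.g = (yon S).map y ≫ c.v), E.h c x y e = E'.h c x y e') : E = E' := by
  cases E with
  | mk g h o n k =>
    cases E' with
    | mk g' h' o' n' k' =>
      cases hg
      congr 1
      funext c W x y e
      exact hh c x y e e

lemma Elem.h_congr {T : Over S} (E : Elem D T) (c : Chart G) {W : Over S} {x x' : W ⟶ T} {y y' : W ⟶ c.V}
    (hx : x = x') (hy : y = y') (e : (yon S).map x ≫ E.g = (yon S).map y ≫ c.v)
    (e' : (yon S).map x' ≫ E.g = (yon S).map y' ≫ c.v) : E.h c x y e = E.h c x' y' e' := by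
  subst hx hy; rfl

lemma Elem.congr_h {T : Over S} {E E' : Elem D T} (hEE : E = E') (c : Chart G) {W : Over S} {x : W ⟶ T}
    {y : W ⟶ c.V} (e : (yon S).map x ≫ E.g = (yon S).map y ≫ c.v)
    (e' : (yon S).map x ≫ E'.g = (yon S).map y ≫ c.v) : E.h c x y e = E'.h c x y e' := by
  subst hEE; rfl

/-- Restriction. -/
noncomputable def Elem.restrict {T T' : Over S} (φ : T' ⟶ T) (E : Elem D T) : Elem D T' where
  g := (yon S).map φ ≫ E.g
  h c _ x y e := E.h c (x ≫ φ) y (by rw [Functor.map_comp_assoc]; exact e)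
  over c _ x y e := E.over c _ y _
  nat c _ _ k x y e e' := (E.h_congr c (Category.assoc k x φ) rfl _
    (by rw [Functor.map_comp_assoc, Functor.map_comp_assoc]
        rw [Functor.map_comp_assoc] at e'; exact e')).trans (E.nat c k (x ≫ φ) y _ _)
  compat r _ x y e e' := E.compat r _ y _ _

variable (D)

/-- The presheaf of sections. -/
noncomputable def pre : PSp S where
  obj T := Elem D T.unop
  map φ := ↾(Elem.restrict φ.unop)
  map_id T := by
    ext E
    exact Elem.ext (by simp [Elem.restrict]) fun c W x y e e' => E.h_congr c (Category.comp_id x) rfl _ _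
  map_comp φ ψ := by
    ext E
    exact Elem.ext (by simp [Elem.restrict]) fun c W x y e e' => E.h_congr c (Category.assoc _ _ _).symm rfl _ _

theorem existsUnique_glueSieve_hom {T M : Over S} {R : Sieve T} (hR : R ∈ AlgSp.J S T)
    (x : ∀ ⦃Y : Over S⦄ (f : Y ⟶ T), R f → (Y ⟶ M))
    (hx : ∀ ⦃Y Z : Over S⦄ (f : Y ⟶ T) (hf : R f) (k : Z ⟶ Y), k ≫ x f hf = x (k ≫ f) (R.downward_closed hf k)) :
    ∃! l : T ⟶ M, ∀ ⦃Y : Over S⦄ (f : Y ⟶ T) (hf : R f), f ≫ l = x f hf := by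
  obtain ⟨l, hl, hlu⟩ := UHPush.existsUnique_glueSieve hR (fun Y f hf => (yon S).map (x f hf))
    fun Y Z f hf k => by rw [← Functor.map_comp, hx f hf k]
  obtain ⟨l, rfl⟩ := (yon S).map_surjective l
  exact ⟨l, fun Y f hf => (yon S).map_injective (by rw [Functor.map_comp, hl f hf]),
    fun l' hl' => (yon S).map_injective (hlu _ fun Y f hf => by
      rw [← Functor.map_comp, hl' f hf])⟩

theorem hom_ext_sieve_hom {T M : Over S} {R : Sieve T} (hR : R ∈ AlgSp.J S T) {l l' : T ⟶ M}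
    (h : ∀ ⦃Y : Over S⦄ (f : Y ⟶ T), R f → f ≫ l = f ≫ l') : l = l' :=
  (yon S).map_injective (UHPush.hom_ext_sieve hR fun Y f hf => by
    rw [← Functor.map_comp, ← Functor.map_comp, h f hf])

theorem isSheaf_pre : Presheaf.IsSheaf (AlgSp.J S) (pre D) := by
  rw [isSheaf_iff_isSheaf_of_type]
  intro T R hR E hE
  have hcomp : ∀ ⦃Y Z : Over S⦄ (f : Y ⟶ T) (hf : R f) (k : Z ⟶ Y),
      Elem.restrict k (E f hf) = E (k ≫ f) (R.downward_closed hf k) := fun Y Z f hf k => by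
    have := hE k (𝟙 Z) hf (R.downward_closed hf k) (Category.id_comp _).symm
    exact this.trans (congr($((pre D).map_id (op Z)) _))
  have hEc : ∀ ⦃Y : Over S⦄ {f f' : Y ⟶ T} (hf : R f) (hf' : R f'), f = f' → E f hf = E f' hf' :=
    fun Y f f' hf hf' e => by subst e; rfl
  obtain ⟨g, hg, -⟩ := UHPush.existsUnique_glueSieve hR (fun Y f hf => (E f hf).g)
    fun Y Z f hf k => congr_arg Elem.g (hcomp f hf k)
  have hz : ∀ (c : Chart G) {W : Over S} (x : W ⟶ T) (y : W ⟶ c.V), (yon S).map x ≫ g = (yon S).map y ≫ c.v →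
      ∃! l : W ⟶ D.N c, ∀ ⦃Y : Over S⦄ (f : Y ⟶ W) (hf : R (f ≫ x)) (e : _),
        f ≫ l = (E (f ≫ x) hf).h c (𝟙 Y) (f ≫ y) e := by
    intro c W x y e
    have he : ∀ ⦃Y : Over S⦄ (f : Y ⟶ W) (hf : R (f ≫ x)),
        (yon S).map (𝟙 Y) ≫ (E (f ≫ x) hf).g = (yon S).map (f ≫ y) ≫ c.v := fun Y f hf => by
      rw [(yon S).map_id, Category.id_comp, ← hg _ hf, Functor.map_comp_assoc, e, Functor.map_comp_assoc]
    obtain ⟨l, hl, hlu⟩ := existsUnique_glueSieve_hom ((AlgSp.J S).pullback_stable x hR)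
      (fun Y f hf => (E (f ≫ x) hf).h c (𝟙 Y) (f ≫ y) (he f hf)) fun Y Y' f hf k => by
      have e₂ : (yon S).map (k ≫ 𝟙 Y) ≫ (E (f ≫ x) hf).g = (yon S).map (k ≫ f ≫ y) ≫ c.v := by
        rw [Functor.map_comp_assoc, he, ← Functor.map_comp_assoc]
      rw [← (E (f ≫ x) hf).nat c k (𝟙 Y) _ (he f hf) e₂]
      have e₃ : E ((k ≫ f) ≫ x) (by rw [Category.assoc]; exact R.downward_closed hf k) =
          Elem.restrict k (E (f ≫ x) hf) := by
        rw [hcomp]; exact hEc _ _ (Category.assoc _ _ _)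
      have e₄ : (yon S).map (𝟙 Y') ≫ (Elem.restrict k (E (f ≫ x) hf)).g = (yon S).map ((k ≫ f) ≫ y) ≫ c.v :=
        (congr_arg (fun E' : Elem D Y' => (yon S).map (𝟙 Y') ≫ E'.g) e₃).symm.trans (he _ _)
      rw [Elem.congr_h e₃ c _ e₄]
      exact (E (f ≫ x) hf).h_congr c (by simp) (by rw [Category.assoc]) _ _
    exact ⟨l, fun Y f hf e' => hl f hf, fun l' hl' => hlu l' fun Y f hf => hl' f hf (he f hf)⟩
  choose h hh hhu using fun (c : Chart G) {W : Over S} (x : W ⟶ T) (y : W ⟶ c.V)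
    (e : (yon S).map x ≫ g = (yon S).map y ≫ c.v) => hz c x y e
  have he' : ∀ (c : Chart G) {W : Over S} (x : W ⟶ T) (y : W ⟶ c.V), (yon S).map x ≫ g = (yon S).map y ≫ c.v →
      ∀ ⦃Y : Over S⦄ (f : Y ⟶ W) (hf : R (f ≫ x)),
      (yon S).map (𝟙 Y) ≫ (E (f ≫ x) hf).g = (yon S).map (f ≫ y) ≫ c.v := fun c W x y e Y f hf => by
    rw [(yon S).map_id, Category.id_comp, ← hg _ hf, Functor.map_comp_assoc, e, Functor.map_comp_assoc]
  have hval : ∀ ⦃Y : Over S⦄ (f : Y ⟶ T) (hf : R f) (c : Chart G) {W : Over S} (x : W ⟶ Y) (y : W ⟶ c.V)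
      (e : (yon S).map x ≫ (E f hf).g = (yon S).map y ≫ c.v) (e' : (yon S).map (x ≫ f) ≫ g = (yon S).map y ≫ c.v),
      h c (x ≫ f) y e' = (E f hf).h c x y e := fun Y f hf c W x y e e' => by
    have hR' : R (𝟙 W ≫ x ≫ f) := by simpa using R.downward_closed hf x
    have h1 := he' c (x ≫ f) y e' (𝟙 W) hR'
    refine ((Category.id_comp (h c (x ≫ f) y e')).symm.trans (hh c (x ≫ f) y e' (𝟙 W) hR' h1)).trans ?_
    have h3 : E (𝟙 W ≫ x ≫ f) hR' = Elem.restrict x (E f hf) := by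
      rw [hcomp]; exact hEc _ _ (Category.id_comp _)
    rw [Elem.congr_h h3 c _ (by rw [← h3]; exact h1)]
    exact (E f hf).h_congr c (Category.id_comp x) (Category.id_comp y) _ _
  let E₀ : Elem D T :=
    { g := g
      h := fun c {W} x y e => h c x y e
      over := fun c {W} x y e => hom_ext_sieve_hom ((AlgSp.J S).pullback_stable x hR) fun Y f hf => by
        rw [← Category.assoc, hh c x y e f hf (he' c x y e f hf), Elem.over]
      nat := fun c {W W'} k x y e e' => (hhu c _ _ e' _ fun Y f hf he => by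
        rw [← Category.assoc, hh c x y e (f ≫ k) (by rw [Category.assoc]; exact hf) (he' c x y e _ _)]
        have h3 : E ((f ≫ k) ≫ x) (by rw [Category.assoc]; exact hf) = E (f ≫ k ≫ x) hf :=
          hEc _ _ (Category.assoc _ _ _)
        rw [Elem.congr_h h3 c _ (by rw [Category.assoc]; exact he)]
        exact Elem.h_congr _ c rfl (Category.assoc _ _ _) _ _).symm
      compat := fun {c' c} r {W} x y e e' => hom_ext_sieve_hom ((AlgSp.J S).pullback_stable x hR) fun Y f hf => by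
        rw [← Category.assoc, hh c' x y e f hf (he' c' x y e f hf), hh c x _ e' f hf (he' c x _ e' f hf),
          (E (f ≫ x) hf).compat r (𝟙 Y) (f ≫ y) _ (by rw [Category.assoc]; exact he' c x _ e' f hf)]
        exact Elem.h_congr _ c rfl (Category.assoc _ _ _) _ _ }
  refine ⟨E₀, fun Y f hf => Elem.ext (hg f hf) fun c {W} x y e e' => hval f hf c x y e' e, fun E₁ hE₁ => ?_⟩
  have hgE : E₁.g = g := UHPush.hom_ext_sieve hR fun Y f hf => (congr_arg Elem.g (hE₁ f hf)).trans (hg f hf).symm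
  refine Elem.ext hgE fun c {W} x y e e' => hhu c x y e' _ fun Y f hf he => ?_
  have e1 : (yon S).map (f ≫ x) ≫ E₁.g = (yon S).map (f ≫ y) ≫ c.v := by
    rw [Functor.map_comp_assoc, e, Functor.map_comp_assoc]
  rw [← E₁.nat c f x y e e1]
  have h5 : (pre D).map (f ≫ x).op E₁ = E (f ≫ x) hf := hE₁ _ hf
  exact (E₁.h_congr c (Category.id_comp _).symm rfl _ _).trans (Elem.congr_h h5 c (x := 𝟙 Y) (by
    show (yon S).map (𝟙 Y) ≫ (yon S).map (f ≫ x) ≫ E₁.g = _
    rw [(yon S).map_id, Category.id_comp, e1]) he)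

/-- The glued sheaf. -/
noncomputable def glued : Sp S := ⟨pre D, isSheaf_pre D⟩

/-- Its projection. -/
noncomputable def gluedProj : glued D ⟶ G := ObjectProperty.homMk
  { app := fun T => ↾fun E => (AlgSp.J S).uliftYonedaEquiv E.g
    naturality := fun T T' φ => by
      ext E
      exact ((AlgSp.J S).uliftYonedaEquiv_naturality E.g φ.unop).symm }

/-- Maps into the glued sheaf are sections. -/
noncomputable def homEquiv (T : Over S) : ((yon S).obj T ⟶ glued D) ≃ Elem D T :=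
  (AlgSp.J S).uliftYonedaEquiv

lemma homEquiv_comp {T T' : Over S} (φ : T' ⟶ T) (l : (yon S).obj T ⟶ glued D) :
    homEquiv D T' ((yon S).map φ ≫ l) = Elem.restrict φ (homEquiv D T l) :=
  ((AlgSp.J S).uliftYonedaEquiv_naturality l φ).symm

lemma comp_gluedProj {T : Over S} (l : (yon S).obj T ⟶ glued D) : l ≫ gluedProj D = (homEquiv D T l).g :=
  (AlgSp.J S).uliftYonedaEquiv.injective (((AlgSp.J S).uliftYonedaEquiv_comp l (gluedProj D)).trans rfl)

/-- A chart refining two charts through their fibre product. -/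
theorem exists_chart_over {Q : Over S} {c c₀ : Chart G} {q : Q ⟶ c.V} {q₀ : Q ⟶ c₀.V} [Etale q.left] [Etale q₀.left]
    (hq : (yon S).map q ≫ c.v = (yon S).map q₀ ≫ c₀.v) (B : Q.left.affineOpens) :
    ∃ (b : Chart G) (i : b.V ⟶ Q) (r : Refine b c) (r₀ : Refine b c₀) (e : openOver Q B.1 ≅ b.V),
      IsOpenImmersion i.left ∧ r.a = i ≫ q ∧ r₀.a = i ≫ q₀ ∧ e.hom ≫ i = openOverι Q B.1 := by
  have : IsAffine (openOver Q B.1).left := B.2
  let b : Chart G := ⟨openOver Q B.1, (yon S).map (openOverι Q B.1) ≫ (yon S).map q ≫ c.v,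
    repWith_comp (repWith_map (inferInstanceAs (Etale B.1.ι)))
      (repWith_comp (repWith_map ‹Etale q.left›) c.etale)⟩
  exact ⟨b, openOverι Q B.1,
    { a := openOverι Q B.1 ≫ q, fac := Functor.map_comp_assoc _ _ _ _,
      etale := inferInstanceAs (Etale (B.1.ι ≫ q.left)) },
    { a := openOverι Q B.1 ≫ q₀,
      fac := by
        show (yon S).map (openOverι Q B.1 ≫ q₀) ≫ c₀.v = (yon S).map (openOverι Q B.1) ≫ (yon S).map q ≫ c.v
        rw [Functor.map_comp_assoc, hq]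
      etale := inferInstanceAs (Etale (B.1.ι ≫ q₀.left)) },
    Iso.refl _, inferInstanceAs (IsOpenImmersion B.1.ι), rfl, rfl, Category.id_comp _⟩

theorem affineOpens_cover {Q W : Over S} (z : W ⟶ Q) (t : W.left) :
    ∃ (B : Q.left.affineOpens) (u : ↥(openOver W (z.left ⁻¹ᵁ B.1)).left),
      (openOverι W (z.left ⁻¹ᵁ B.1)).left u = t := by
  obtain ⟨_, ⟨C, hC, rfl⟩, htC, -⟩ := Q.left.isBasis_affineOpens.exists_subset_of_mem_open
    (Set.mem_univ (z.left t)) isOpen_univ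
  exact ⟨⟨C, hC⟩, ⟨t, htC⟩, rfl⟩

/-- The pieces which compute the transition between two charts. -/
theorem exists_pieces (c c₀ : Chart G) {W : Over S} (x : W ⟶ D.N c₀) (y : W ⟶ c.V)
    (e : (yon S).map (x ≫ D.ν c₀) ≫ c₀.v = (yon S).map y ≫ c.v) :
    ∃ (ι : Type u) (U : ι → Over S) (j : ∀ i, U i ⟶ W), (∀ i, IsOpenImmersion (j i).left) ∧
      (∀ t : W.left, ∃ i u, (j i).left u = t) ∧
      ∀ i, ∃ (b : Chart G) (r : Refine b c) (r₀ : Refine b c₀) (l : U i ⟶ D.N b),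
        l ≫ D.map r₀ = j i ≫ x ∧ l ≫ D.ν b ≫ r.a = j i ≫ y := by
  obtain ⟨Q, q, q₀, sQ⟩ : ∃ (Q : Over S) (q : Q ⟶ c.V) (q₀ : Q ⟶ c₀.V),
      IsPullback ((yon S).map q) ((yon S).map q₀) c.v c₀.v :=
    exists_isPullback_of_representable c.etale.1 c₀.v
  have : Etale q.left := repWith_prop c₀.etale sQ.flip
  have : Etale q₀.left := repWith_prop c.etale sQ
  obtain ⟨z, hz⟩ := (yon S).map_surjective (sQ.lift ((yon S).map y) ((yon S).map (x ≫ D.ν c₀)) e.symm)
  have hzq : z ≫ q = y := (yon S).map_injective (by rw [Functor.map_comp, hz, sQ.lift_fst])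
  have hzq₀ : z ≫ q₀ = x ≫ D.ν c₀ := (yon S).map_injective (by rw [Functor.map_comp, hz, sQ.lift_snd])
  refine ⟨Q.left.affineOpens, fun B => openOver W (z.left ⁻¹ᵁ B.1), fun B => openOverι W _,
    fun B => inferInstance, affineOpens_cover z, fun B => ?_⟩
  obtain ⟨b, i, r, r₀, eb, -, hr, hr₀, hi⟩ := exists_chart_over sQ.w B
  let zB : openOver W (z.left ⁻¹ᵁ B.1) ⟶ openOver Q B.1 := Over.homMk (z.left ∣_ B.1) (by
    show z.left ∣_ B.1 ≫ B.1.ι ≫ Q.hom = (z.left ⁻¹ᵁ B.1).ι ≫ W.hom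
    rw [morphismRestrict_ι_assoc, Over.w z])
  have hzB : zB ≫ openOverι Q B.1 = openOverι W _ ≫ z := Over.OverMorphism.ext (morphismRestrict_ι _ _)
  obtain ⟨l, hl₁, hl₂⟩ := (D.isPullback r₀).exists_lift (openOverι W (z.left ⁻¹ᵁ B.1) ≫ x) (zB ≫ eb.hom)
    (by rw [hr₀, Category.assoc, Category.assoc, reassoc_of% hi, reassoc_of% hzB, hzq₀])
  exact ⟨b, r, r₀, l, hl₁, by rw [reassoc_of% hl₂, hr, reassoc_of% hi, reassoc_of% hzB, hzq]⟩

/-- The transition does not depend on the piece. -/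
theorem pieces_unique (c c₀ : Chart G) {W : Over S} {b₁ b₂ : Chart G} (r₁ : Refine b₁ c) (s₁ : Refine b₁ c₀)
    (r₂ : Refine b₂ c) (s₂ : Refine b₂ c₀) (l₁ : W ⟶ D.N b₁) (l₂ : W ⟶ D.N b₂)
    (e₀ : l₁ ≫ D.map s₁ = l₂ ≫ D.map s₂) (e : l₁ ≫ D.ν b₁ ≫ r₁.a = l₂ ≫ D.ν b₂ ≫ r₂.a) :
    l₁ ≫ D.map r₁ = l₂ ≫ D.map r₂ := by
  obtain ⟨Q, q, q₀, sQ⟩ : ∃ (Q : Over S) (q : Q ⟶ c.V) (q₀ : Q ⟶ c₀.V),
      IsPullback ((yon S).map q) ((yon S).map q₀) c.v c₀.v :=
    exists_isPullback_of_representable c.etale.1 c₀.v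
  have : Etale q.left := repWith_prop c₀.etale sQ.flip
  have hb : ∀ {b : Chart G} (r : Refine b c) (s : Refine b c₀), ∃ w : b.V ⟶ Q, w ≫ q = r.a ∧ w ≫ q₀ = s.a ∧
      Etale w.left := fun {b} r s => by
    obtain ⟨w, hw⟩ := (yon S).map_surjective (sQ.lift ((yon S).map r.a) ((yon S).map s.a) (by rw [r.fac, s.fac]))
    have hwq : w ≫ q = r.a := (yon S).map_injective (by rw [Functor.map_comp, hw, sQ.lift_fst])
    refine ⟨w, hwq, (yon S).map_injective (by rw [Functor.map_comp, hw, sQ.lift_snd]), ?_⟩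
    have : Etale (w.left ≫ q.left) := by rw [← Over.comp_left, hwq]; infer_instance
    exact Etale.of_comp w.left q.left
  obtain ⟨w₁, hw₁, hw₁', _⟩ := hb r₁ s₁
  obtain ⟨w₂, hw₂, hw₂', _⟩ := hb r₂ s₂
  obtain ⟨P, p₁, p₂, sP⟩ : ∃ (P : Over S) (p₁ : P ⟶ b₁.V) (p₂ : P ⟶ b₂.V), IsPullback p₁ p₂ w₁ w₂ :=
    ⟨_, _, _, IsPullback.of_hasPullback w₁ w₂⟩
  have : Etale p₁.left := MorphismProperty.of_isPullback (sP.map (Over.forget S)).flip ‹Etale w₂.left›
  have : Etale p₂.left := MorphismProperty.of_isPullback (sP.map (Over.forget S)) ‹Etale w₁.left›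
  obtain ⟨m, hm₁, hm₂⟩ := sP.exists_lift (l₁ ≫ D.ν b₁) (l₂ ≫ D.ν b₂) ((yon S).map_injective (sQ.hom_ext
    (by rw [← Functor.map_comp, ← Functor.map_comp, Category.assoc, Category.assoc, Category.assoc,
      Category.assoc, hw₁, hw₂, e])
    (by
      rw [← Functor.map_comp, ← Functor.map_comp, Category.assoc, Category.assoc, Category.assoc,
        Category.assoc, hw₁', hw₂', ← (D.isPullback s₁).w, ← (D.isPullback s₂).w, reassoc_of% e₀])))
  refine hom_ext_cover' (fun B : P.left.affineOpens => openOverι W (m.left ⁻¹ᵁ B.1)) (affineOpens_cover m) fun B => ?_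
  obtain ⟨b, i, t₁, t₂, eb, -, ht₁, ht₂, hi⟩ := exists_chart_over (c := b₁) (c₀ := b₂) (q := p₁) (q₀ := p₂) (by
    rw [← r₁.fac, ← r₂.fac, ← Functor.map_comp_assoc, ← Functor.map_comp_assoc, ← hw₁, ← hw₂, reassoc_of% sP.w]) B
  let mB : openOver W (m.left ⁻¹ᵁ B.1) ⟶ openOver P B.1 := Over.homMk (m.left ∣_ B.1) (by
    show m.left ∣_ B.1 ≫ B.1.ι ≫ P.hom = (m.left ⁻¹ᵁ B.1).ι ≫ W.hom
    rw [morphismRestrict_ι_assoc, Over.w m])
  have hmB : mB ≫ openOverι P B.1 = openOverι W _ ≫ m := Over.OverMorphism.ext (morphismRestrict_ι _ _)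
  obtain ⟨l, hl₁, hl₂⟩ := (D.isPullback t₁).exists_lift (openOverι W (m.left ⁻¹ᵁ B.1) ≫ l₁) (mB ≫ eb.hom)
    (by rw [ht₁, Category.assoc, Category.assoc, reassoc_of% hi, reassoc_of% hmB, hm₁])
  have htr : t₁.comp r₁ = t₂.comp r₂ := by
    refine Refine.ext ?_
    show t₁.a ≫ r₁.a = t₂.a ≫ r₂.a
    rw [ht₁, ht₂, Category.assoc, Category.assoc, ← hw₁, ← hw₂, reassoc_of% sP.w]
  have hts : t₁.comp s₁ = t₂.comp s₂ := by
    refine Refine.ext ?_
    show t₁.a ≫ s₁.a = t₂.a ≫ s₂.a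
    rw [ht₁, ht₂, Category.assoc, Category.assoc, ← hw₁', ← hw₂', reassoc_of% sP.w]
  have hl' : l ≫ D.map t₂ = openOverι W (m.left ⁻¹ᵁ B.1) ≫ l₂ := by
    refine (D.isPullback s₂).hom_ext ?_ ?_
    · rw [Category.assoc, ← D.map_comp, ← hts, D.map_comp, reassoc_of% hl₁, e₀, Category.assoc]
    · rw [Category.assoc, (D.isPullback t₂).w, ht₂, reassoc_of% hl₂, reassoc_of% hi, reassoc_of% hmB, hm₂,
        Category.assoc]
  rw [← reassoc_of% hl₁, ← reassoc_of% hl', ← D.map_comp, ← D.map_comp, htr]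

/-- Two maps agreeing on every piece are equal. -/
theorem ext_pieces (c c₀ : Chart G) {W M : Over S} (x : W ⟶ D.N c₀) (y : W ⟶ c.V)
    (e : (yon S).map (x ≫ D.ν c₀) ≫ c₀.v = (yon S).map y ≫ c.v) {m m' : W ⟶ M}
    (h : ∀ {W' : Over S} (w : W' ⟶ W) (b : Chart G) (r : Refine b c) (r₀ : Refine b c₀) (l : W' ⟶ D.N b),
      l ≫ D.map r₀ = w ≫ x → l ≫ D.ν b ≫ r.a = w ≫ y → w ≫ m = w ≫ m') : m = m' := by
  obtain ⟨ι, U, j, hj, hjs, hp⟩ := exists_pieces D c c₀ x y e
  refine hom_ext_cover' j hjs fun i => ?_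
  obtain ⟨b, r, r₀, l, h₁, h₂⟩ := hp i
  exact h (j i) b r r₀ l h₁ h₂

/-- The transition map between two charts. -/
theorem exists_transition (c c₀ : Chart G) {W : Over S} (x : W ⟶ D.N c₀) (y : W ⟶ c.V)
    (e : (yon S).map (x ≫ D.ν c₀) ≫ c₀.v = (yon S).map y ≫ c.v) :
    ∃ m : W ⟶ D.N c, m ≫ D.ν c = y ∧
      ∀ {W' : Over S} (w : W' ⟶ W) (b : Chart G) (r : Refine b c) (r₀ : Refine b c₀) (l : W' ⟶ D.N b),
        l ≫ D.map r₀ = w ≫ x → l ≫ D.ν b ≫ r.a = w ≫ y → w ≫ m = l ≫ D.map r := by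
  obtain ⟨ι, U, j, hj, hjs, hp⟩ := exists_pieces D c c₀ x y e
  choose b r r₀ l hl₁ hl₂ using hp
  obtain ⟨m', hm', -⟩ := existsUnique_glue j hjs (fun i => (yon S).map (l i ≫ D.map (r i))) fun W' i k a a' h => by
    rw [← Functor.map_comp, ← Functor.map_comp, ← Category.assoc, ← Category.assoc]
    congr 1
    exact pieces_unique D c c₀ _ (r₀ i) _ (r₀ k) _ _
      (by rw [Category.assoc, hl₁, Category.assoc, hl₁, reassoc_of% h])
      (by rw [Category.assoc, hl₂, Category.assoc, hl₂, reassoc_of% h])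
  obtain ⟨m, rfl⟩ := (yon S).map_surjective m'
  have hm : ∀ i, j i ≫ m = l i ≫ D.map (r i) := fun i =>
    (yon S).map_injective (by rw [Functor.map_comp, hm'])
  refine ⟨m, hom_ext_cover' j hjs fun i => ?_, fun {W'} w b' r' r₀' l' h₁ h₂ => ?_⟩
  · rw [reassoc_of% hm i, (D.isPullback (r i)).w, hl₂]
  · have : ∀ i, IsOpenImmersion (pullback.fst w (j i)).left := fun i =>
      MorphismProperty.of_isPullback ((IsPullback.of_hasPullback w (j i)).map (Over.forget S)).flip (hj i)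
    refine hom_ext_cover' (fun i => pullback.fst w (j i)) (fun t => ?_) fun i => ?_
    · obtain ⟨i, u, hu⟩ := hjs (w.left t)
      obtain ⟨z, hz, -⟩ := Scheme.exists_preimage_of_isPullback
        ((IsPullback.of_hasPullback w (j i)).map (Over.forget S)) t u hu.symm
      exact ⟨i, z, hz⟩
    rw [← Category.assoc, pullback.condition, Category.assoc, hm i, ← Category.assoc, ← Category.assoc]
    exact pieces_unique D c c₀ _ (r₀ i) _ r₀' _ _
      (by rw [Category.assoc, hl₁, Category.assoc, h₁, ← pullback.condition_assoc])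
      (by rw [Category.assoc, hl₂, Category.assoc, h₂, ← pullback.condition_assoc])

/-- A refinement of the transition. -/
theorem transition_self (c c₀ : Chart G) (r : Refine c₀ c) {W : Over S} (x : W ⟶ D.N c₀) {m : W ⟶ D.N c}
    (hm : ∀ {W' : Over S} (w : W' ⟶ W) (b : Chart G) (r' : Refine b c) (r₀ : Refine b c₀) (l : W' ⟶ D.N b),
      l ≫ D.map r₀ = w ≫ x → l ≫ D.ν b ≫ r'.a = w ≫ x ≫ D.ν c₀ ≫ r.a → w ≫ m = l ≫ D.map r') :
    m = x ≫ D.map r := by
  have := hm (𝟙 W) c₀ r (Refine.id c₀) x (by rw [D.map_id, Category.comp_id, Category.id_comp]) (Category.id_comp _).symm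
  rwa [Category.id_comp] at this

set_option maxHeartbeats 800000 in
/-- The sections are compatible with the charts. -/
theorem exists_glued :
    ∃ (n : ∀ c : Chart G, (yon S).obj (D.N c) ⟶ glued D),
      (∀ c, IsPullback (n c) ((yon S).map (D.ν c)) (gluedProj D) c.v) ∧
      (∀ {c' c : Chart G} (r : Refine c' c), (yon S).map (D.map r) ≫ n c = n c') ∧
      ∀ (c : Chart G) {Z : Over S} (k : Z ⟶ D.N c) (e : _),
        (Elem.restrict k (homEquiv D _ (n c))).h c (𝟙 Z) (k ≫ D.ν c) e = k := by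
  have hex := fun (c c₀ : Chart G) {W : Over S} (x : W ⟶ D.N c₀) (y : W ⟶ c.V)
    (e : (yon S).map (x ≫ D.ν c₀) ≫ c₀.v = (yon S).map y ≫ c.v) => exists_transition D c c₀ x y e
  choose κ hκν hκ using hex
  have heq : ∀ {c₀ c : Chart G} {W : Over S} {x : W ⟶ D.N c₀} {y : W ⟶ c.V},
      (yon S).map x ≫ (yon S).map (D.ν c₀) ≫ c₀.v = (yon S).map y ≫ c.v →
      (yon S).map (x ≫ D.ν c₀) ≫ c₀.v = (yon S).map y ≫ c.v := fun h => by
    rw [Functor.map_comp_assoc]; exact h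
  let E : ∀ c₀ : Chart G, Elem D (D.N c₀) := fun c₀ =>
    { g := (yon S).map (D.ν c₀) ≫ c₀.v
      h := fun c {W} x y e => κ c c₀ x y (heq e)
      over := fun c {W} x y e => hκν c c₀ x y _
      nat := fun c {W W'} k x y e e' => ext_pieces D c c₀ (k ≫ x) (k ≫ y) (heq e')
        fun {V} w b r r₀ l h₁ h₂ => by
        rw [hκ c c₀ _ _ _ w b r r₀ l h₁ h₂, ← Category.assoc,
          hκ c c₀ x y (heq e) (w ≫ k) b r r₀ l (by rw [h₁, Category.assoc]) (by rw [h₂, Category.assoc])]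
      compat := fun {c' c} s {W} x y e e' => ext_pieces D c' c₀ x y (heq e)
        fun {V} w b r r₀ l h₁ h₂ => by
        rw [← Category.assoc, hκ c' c₀ x y _ w b r r₀ l h₁ h₂,
          hκ c c₀ x _ _ w b (r.comp s) r₀ l h₁ (by
            show l ≫ D.ν b ≫ r.a ≫ s.a = w ≫ y ≫ s.a
            rw [reassoc_of% h₂]), D.map_comp, Category.assoc] }
  let n : ∀ c : Chart G, (yon S).obj (D.N c) ⟶ glued D := fun c => (homEquiv D _).symm (E c)
  have hn : ∀ c, homEquiv D _ (n c) = E c := fun c => Equiv.apply_symm_apply _ _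
  have hκ₀ : ∀ (c : Chart G) {W : Over S} (x : W ⟶ D.N c) (e : _), κ c c x (x ≫ D.ν c) e = x := fun c W x e => by
    refine (transition_self D c c (Refine.id c) x fun {W'} w b r' r₀ l h₁ h₂ => hκ c c x _ e w b r' r₀ l h₁ ?_).trans ?_
    · rw [h₂, show (Refine.id c).a = 𝟙 c.V from rfl, Category.comp_id]
    · rw [D.map_id, Category.comp_id]
  have eK₀ : ∀ (c : Chart G) {Z : Over S} (q : Z ⟶ D.N c) (e : _),
      (Elem.restrict q (E c)).h c (𝟙 Z) (q ≫ D.ν c) e = q := fun c Z q e =>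
    Eq.trans (b := (E c).h c q (q ≫ D.ν c) (Functor.map_comp_assoc _ _ _ _).symm)
      ((E c).h_congr c (Category.id_comp q) rfl
        (by rw [Category.id_comp]; exact (Functor.map_comp_assoc _ _ _ _).symm) _) (hκ₀ c q _)
  refine ⟨n, fun c => UHPush.isPullback_of_yon ?_ ?_ ?_, ?_, fun c {Z} k e =>
    (Elem.congr_h (congr_arg (Elem.restrict k) (hn c)) c e ?_).trans (eK₀ c k ?_)⟩
  · rw [comp_gluedProj, hn]
  · intro Z k k' h₁ h₂
    obtain ⟨k, rfl⟩ := (yon S).map_surjective k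
    obtain ⟨k', rfl⟩ := (yon S).map_surjective k'
    rw [← Functor.map_comp, ← Functor.map_comp] at h₂
    have h₂' : k ≫ D.ν c = k' ≫ D.ν c := (yon S).map_injective h₂
    have h := congr_arg (homEquiv D Z) h₁
    rw [homEquiv_comp, homEquiv_comp, hn] at h
    have := Elem.congr_h h c (x := 𝟙 Z) (y := k ≫ D.ν c)
      (by
        show (yon S).map (𝟙 Z) ≫ (yon S).map k ≫ (yon S).map (D.ν c) ≫ c.v = _
        rw [(yon S).map_id, Category.id_comp, Functor.map_comp_assoc])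
      (by
        show (yon S).map (𝟙 Z) ≫ (yon S).map k' ≫ (yon S).map (D.ν c) ≫ c.v = _
        rw [(yon S).map_id, Category.id_comp, h₂', Functor.map_comp_assoc])
    have eK := eK₀ c (Z := Z)
    refine congr_arg (yon S).map ?_
    have hg : ∀ (q : Z ⟶ D.N c), (yon S).map (𝟙 Z) ≫ (Elem.restrict q (E c)).g = (yon S).map (q ≫ D.ν c) ≫ c.v := fun q => by
      show (yon S).map (𝟙 Z) ≫ (yon S).map q ≫ (yon S).map (D.ν c) ≫ c.v = _
      rw [(yon S).map_id, Category.id_comp, Functor.map_comp_assoc]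
    exact (eK k (hg k)).symm.trans (this.trans
      (((Elem.restrict k' (E c)).h_congr c rfl h₂' _ (hg k')).trans (eK k' (hg k'))))
  · intro Z p y hpy
    obtain ⟨y, rfl⟩ := (yon S).map_surjective y
    obtain ⟨P, rfl⟩ := (homEquiv D Z).symm.surjective p
    rw [comp_gluedProj, Equiv.apply_symm_apply] at hpy
    have e₀ : (yon S).map (𝟙 Z) ≫ P.g = (yon S).map y ≫ c.v := by rw [(yon S).map_id, Category.id_comp, hpy]
    let x := P.h c (𝟙 Z) y e₀
    have hxν : x ≫ D.ν c = y := P.over c _ _ _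
    refine ⟨(yon S).map x, (homEquiv D Z).injective ?_, by rw [← Functor.map_comp, hxν]⟩
    rw [homEquiv_comp, hn, Equiv.apply_symm_apply]
    refine Elem.ext ?_ fun c' {W} w y' e e' => ext_pieces D c' c (w ≫ x) y' ?_ fun {V} v b r r₀ l h₁ h₂ => ?_
    · show (yon S).map x ≫ (yon S).map (D.ν c) ≫ c.v = P.g
      rw [← Functor.map_comp_assoc, hxν, hpy]
    · rw [← e', Category.assoc, hxν, hpy, Functor.map_comp_assoc]
    have eb : (yon S).map (v ≫ w) ≫ P.g = (yon S).map (l ≫ D.ν b) ≫ b.v := by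
      rw [← r.fac, ← Functor.map_comp_assoc, Category.assoc, h₂, Functor.map_comp_assoc, Functor.map_comp_assoc, e']
    have hl : P.h b (v ≫ w) (l ≫ D.ν b) eb = l := by
      refine (D.isPullback r₀).hom_ext ?_ (P.over _ _ _ _)
      have hy : (l ≫ D.ν b) ≫ r₀.a = (v ≫ w) ≫ y := by
        rw [Category.assoc, ← (D.isPullback r₀).w, reassoc_of% h₁, hxν, Category.assoc]
      rw [P.compat r₀ (v ≫ w) _ eb (by rw [hy, hpy, ← Functor.map_comp_assoc]), h₁, ← Category.assoc v w x]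
      rw [← P.nat c (v ≫ w) (𝟙 Z) y e₀ (by rw [Category.comp_id, hpy, ← Functor.map_comp_assoc])]
      exact P.h_congr c (Category.comp_id _).symm hy _ _
    show v ≫ κ c' c (w ≫ x) y' _ = _
    rw [hκ c' c _ _ _ v b r r₀ l h₁ h₂, ← P.nat c' v w y' e' (by rw [Functor.map_comp_assoc, e', Functor.map_comp_assoc]),
      ← hl, P.compat r (v ≫ w) _ eb (by rw [Category.assoc, h₂, Functor.map_comp_assoc, e', Functor.map_comp_assoc])]
    exact P.h_congr c' rfl (by rw [Category.assoc, h₂]) _ _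
  · intro c' c s
    refine (homEquiv D _).injective ?_
    rw [homEquiv_comp, hn, hn]
    refine Elem.ext ?_ fun d {W} x y e e' => ext_pieces D d c' x y (heq e') fun {V} w b r r₀ l h₁ h₂ => ?_
    · show (yon S).map (D.map s) ≫ (yon S).map (D.ν c) ≫ c.v = (yon S).map (D.ν c') ≫ c'.v
      rw [← Functor.map_comp_assoc, (D.isPullback s).w, Functor.map_comp_assoc, s.fac]
    · show w ≫ κ d c (x ≫ D.map s) y _ = w ≫ κ d c' x y _
      rw [hκ d c' x y _ w b r r₀ l h₁ h₂, hκ d c _ y _ w b r (r₀.comp s) l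
        (by rw [D.map_comp, reassoc_of% h₁]) h₂]
  all_goals
    show (yon S).map (𝟙 Z) ≫ (yon S).map k ≫ (yon S).map (D.ν c) ≫ c.v = _
    rw [(yon S).map_id, Category.id_comp, Functor.map_comp_assoc]

end Groth.L23.Norm
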