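import Groth.Agent.L29.DCoh.RDerLE
import Groth.Agent.L00.RDerLES
import Mathlib.CategoryTheory.Abelian.Basic
import Mathlib.Algebra.Homology.ShortComplex.ExactFunctor

/-!
# Properties of the cohomology of right derived functors on bounded below objects
-/

universe w w' v v' u u'

open CategoryTheory CategoryTheory.Limits CategoryTheory.Pretriangulated DerivedCategory

set_option autoImplicit false
set_option linter.style.haveILetI false
set_option linter.unusedSectionVars false
set_option backward.defeqAttrib.useBackward true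
set_option backward.isDefEq.respectTransparency false

namespace Groth.L23.RDerProp

open Groth.L10

/-- A property closed under kernels, cokernels and extensions passes to the middle of five-term exact sequences. -/
theorem prop_mid_five {B : Type u} [Category.{v} B] [Abelian B] (P : B → Prop)
    (hker : ∀ {F G : B} (φ : F ⟶ G), P F → P G → P (kernel φ))
    (hcoker : ∀ {F G : B} (φ : F ⟶ G), P F → P G → P (cokernel φ))
    (hext : ∀ {S : ShortComplex B}, S.ShortExact → P S.X₁ → P S.X₃ → P S.X₂)
    {A₁ A₂ A₃ A₄ A₅ : B} {a : A₁ ⟶ A₂} {b : A₂ ⟶ A₃} {c : A₃ ⟶ A₄} {d : A₄ ⟶ A₅}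
    (w₁ : a ≫ b = 0) (e₁ : (ShortComplex.mk a b w₁).Exact) (w₂ : b ≫ c = 0) (e₂ : (ShortComplex.mk b c w₂).Exact)
    (w₃ : c ≫ d = 0) (e₃ : (ShortComplex.mk c d w₃).Exact)
    (h₁ : P A₁) (h₂ : P A₂) (h₄ : P A₄) (h₅ : P A₅) : P A₃ := by
  let i : cokernel a ⟶ A₃ := cokernel.desc a b w₁
  let p : A₃ ⟶ kernel d := kernel.lift d c w₃
  have w : i ≫ p = 0 := by
    rw [← cancel_epi (cokernel.π a), ← cancel_mono (kernel.ι d)]
    simp [i, p, w₂]
  haveI : Mono i := e₁.mono_cokernelDesc
  haveI : Epi p := e₃.epi_kernelLift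
  refine hext (S := ShortComplex.mk i p w) { exact := ?_ } (hcoker a h₁ h₂) (hker d h₄ h₅)
  rw [ShortComplex.exact_iff_exact_up_to_refinements]
  intro T x hx
  change x ≫ p = 0 at hx
  have hx' : x ≫ c = 0 := by
    rw [show c = p ≫ kernel.ι d from (kernel.lift_ι _ _ _).symm, ← Category.assoc, hx, zero_comp]
  obtain ⟨T', π, hπ, y, hy⟩ := e₂.exact_up_to_refinements x hx'
  refine ⟨T', π, hπ, y ≫ cokernel.π a, ?_⟩
  change π ≫ x = (y ≫ cokernel.π a) ≫ i
  rw [Category.assoc, cokernel.π_desc]
  exact hy

variable {A : Type u} [Category.{v} A] [Abelian A] [HasDerivedCategory.{w} A] [KInjDerived.EnoughKInjectives A]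
  [HasInjectiveResolutions A] [EnoughInjectives A]
  {B : Type u'} [Category.{v'} B] [Abelian B] [HasDerivedCategory.{w'} B] {F : A ⥤ B} [F.Additive]
  {RF : DerivedCategory A ⥤ DerivedCategory B}
  (α : F.mapHomotopyCategory (ComplexShape.up ℤ) ⋙ Qh ⟶ Qh ⋙ RF)
  [RF.IsRightDerivedFunctor α (HomotopyCategory.quasiIso A (ComplexShape.up ℤ))]

local notation "tt" => DerivedCategory.TStructure.t

include α in
/-- A property of the derived functors on the cohomology objects passes to the cohomology of the derived functor on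
bounded below objects. -/
theorem prop_H (P : B → Prop) (hiso : ∀ {X Y : B}, (X ≅ Y) → P X → P Y) (hzero : ∀ X : B, IsZero X → P X)
    (hker : ∀ {F G : B} (φ : F ⟶ G), P F → P G → P (kernel φ))
    (hcoker : ∀ {F G : B} (φ : F ⟶ G), P F → P G → P (cokernel φ))
    (hext : ∀ {S : ShortComplex B}, S.ShortExact → P S.X₁ → P S.X₃ → P S.X₂) :
    ∀ (k : ℕ) (a : ℤ) (Y : DerivedCategory A), Y.IsGE a →
      (∀ (i : ℤ) (p : ℕ), P ((F.rightDerived p).obj ((homologyFunctor A i).obj Y))) →
      ∀ j : ℤ, j < a + k → P ((homologyFunctor B j).obj (RF.obj Y)) := by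
  intro k
  induction k with
  | zero =>
    intro a Y hY _ j hj
    have := RDerBound.isGE_obj α Y a
    exact hzero _ (DerivedCategory.isZero_of_isGE _ a j (by omega))
  | succ k ih =>
    intro a Y hY h j hj
    let L := ((tt).truncLT (a + 1)).obj Y
    let R := ((tt).truncGE (a + 1)).obj Y
    have hLle : L.IsLE a := (tt).isLE_truncLT_obj _ _ _ (by omega)
    have hLge : L.IsGE a := by
      rw [DerivedCategory.isGE_iff]
      intro i hi
      have := isIso_H_ι (a + 1) i (by omega) Y
      exact (DerivedCategory.isZero_of_isGE Y a i hi).of_iso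
        (asIso ((homologyFunctor A i).map (((tt).truncLTι (a + 1)).app Y)))
    obtain ⟨δ, hT⟩ := RDerTri.exists_triangle α _ ((tt).triangleLTGE_distinguished (a + 1) Y)
    have hR : ∀ j' : ℤ, j' < a + 1 + k → P ((homologyFunctor B j').obj (RF.obj R)) := by
      refine ih (a + 1) R inferInstance fun i p => ?_
      by_cases hi : a + 1 ≤ i
      · have := L10.isIso_H_π (a + 1) i hi Y
        exact hiso ((F.rightDerived p).mapIso (asIso ((homologyFunctor A i).map (((tt).truncGEπ (a + 1)).app Y)))) (h i p)
      · haveI := Groth.L00.RDerLES.additive F p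
        exact hzero _ ((F.rightDerived p).map_isZero (isZero_H_GE (a + 1) i (by omega) Y))
    have hL : ∀ j' : ℤ, P ((homologyFunctor B j').obj (RF.obj L)) := by
      intro j'
      obtain ⟨e⟩ := exists_iso_single_H L a
      let M := (homologyFunctor A a).obj L
      refine hiso ((homologyFunctor B j').mapIso (RF.mapIso e)).symm ?_
      obtain ⟨e'⟩ := RDerTri.nonempty_obj_shift α ((singleFunctor A 0).obj M) (-a)
      let E : (homologyFunctor B j').obj (RF.obj ((singleFunctor A a).obj M)) ≅
          (homologyFunctor B (j' - a)).obj (RF.obj ((singleFunctor A 0).obj M)) :=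
        (homologyFunctor B j').mapIso (RF.mapIso (((singleFunctors A).shiftIso (-a) a 0 (by omega)).symm.app M) ≪≫ e') ≪≫
          hShiftIso _ (-a) j' (j' - a) (by omega)
      refine hiso E.symm ?_
      obtain ⟨hge, hp⟩ := RDerTri.isGE_single α M
      by_cases hlt : j' - a < 0
      · exact hzero _ (DerivedCategory.isZero_of_isGE _ 0 (j' - a) hlt)
      · obtain ⟨p, hp'⟩ : ∃ p : ℕ, (p : ℤ) = j' - a := ⟨(j' - a).toNat, by omega⟩
        rw [← hp']
        refine hiso (hp p).some.symm ?_
        have := isIso_H_ι (a + 1) a (by omega) Y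
        exact hiso ((F.rightDerived p).mapIso
          (asIso ((homologyFunctor A a).map (((tt).truncLTι (a + 1)).app Y))).symm) (h a p)
    exact prop_mid_five P hker hcoker hext (HomologySequence.δ_comp _ hT (j - 1) j (by omega))
      (HomologySequence.exact₁ _ hT (j - 1) j (by omega)) _ (HomologySequence.exact₂ _ hT j) _
      (HomologySequence.exact₃ _ hT j (j + 1) (by omega)) (hR _ (by omega)) (hL j) (hR j (by omega)) (hL (j + 1))

end Groth.L23.RDerProp
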