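import Groth.Agent.L03.GeomReduced2
import Mathlib.RingTheory.Spectrum.Prime.Topology
import Mathlib.FieldTheory.IsAlgClosed.AlgebraicClosure
import Mathlib.LinearAlgebra.TensorProduct.Basis

/-!
# Pairs of distinct points in a sequence of primes accumulate at the diagonal
-/

universe u

open TensorProduct

namespace Groth.L23.PairSeq

/-- If all images of `∑ vᵢ ⊗ wᵢ` vanish against functionals then so does the product. -/
theorem sum_mul_eq_zero {k L ι : Type*} [Field k] [Field L] [Algebra k L] [Fintype ι] (v w : ι → L)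
    (h : ∀ φ : L →ₗ[k] k, ∑ i, φ (v i) • w i = 0) : ∑ i, v i * w i = 0 := by
  classical
  let b := Module.Basis.ofVectorSpace k L
  have e : ∑ i, v i ⊗ₜ[k] w i = 0 := by
    refine (b.tensorProduct b).repr.map_eq_zero_iff.1 (Finsupp.ext fun p => ?_)
    obtain ⟨p, q⟩ := p
    have h₁ := congrArg (fun x => b.repr x q) (h (b.coord p))
    simp only [map_sum, map_smul, map_zero, Finsupp.coe_finsetSum, Finset.sum_apply, Finsupp.coe_smul,
      Pi.smul_apply, Finsupp.coe_zero, Pi.zero_apply, Module.Basis.coord_apply, smul_eq_mul] at h₁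
    simp only [map_sum, Finsupp.coe_finsetSum, Finset.sum_apply, Finsupp.coe_zero, Pi.zero_apply,
      Module.Basis.tensorProduct_repr_tmul_apply, smul_eq_mul]
    exact (Finset.sum_congr rfl fun i _ => mul_comm _ _).trans h₁
  have h₂ := congrArg (Algebra.TensorProduct.lmul' k (S := L)) e
  simpa using h₂

/-- Pigeonhole: some pair of distinct indices keeps the tensor nonzero. -/
theorem exists_pair {k : Type*} [Field k] {ι : Type*} [Fintype ι] (L : ℕ → Type*) [∀ n, Field (L n)]
    [∀ n, Algebra k (L n)] (v w : ∀ n, ι → L n) (N : Set ℕ) (hN : N.Infinite)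
    (h : ∀ n ∈ N, ∑ i, v n i * w n i ≠ 0) :
    ∃ n ∈ N, ∃ m ∈ N, n ≠ m ∧ ∑ i, (v n i ⊗ₜ[k] w m i) ≠ 0 := by
  classical
  by_contra H
  push Not at H
  let W : ℕ → Submodule k (ι → k) := fun n =>
    LinearMap.range (LinearMap.pi fun i => LinearMap.applyₗ (v n i) : (L n →ₗ[k] k) →ₗ[k] (ι → k))
  let Z : ℕ → Submodule k (ι → k) := fun m => LinearMap.ker (Fintype.linearCombination k (w m))
  have hWZ : ∀ n ∈ N, ∀ m ∈ N, n ≠ m → W n ≤ Z m := by
    rintro n hn m hm hnm _ ⟨φ, rfl⟩
    have h₁ := congrArg ((TensorProduct.lid k (L m)).toLinearMap ∘ₗ TensorProduct.map φ LinearMap.id)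
      (H n hn m hm hnm)
    simpa [Z, Fintype.linearCombination_apply] using h₁
  obtain ⟨M, ⟨F, hF, rfl⟩, hmax⟩ := (wellFounded_gt (α := Submodule k (ι → k))).has_min
    {M | ∃ F : Finset ℕ, (↑F ⊆ N) ∧ M = F.sup W} ⟨⊥, ∅, by simp, by simp⟩
  obtain ⟨m, hm, hmF⟩ := hN.exists_notMem_finset F
  have h₁ : F.sup W ≤ Z m := Finset.sup_le fun n hn => hWZ n (hF hn) m hm fun e => hmF (e ▸ hn)
  have h₂ : W m ≤ F.sup W := by
    by_contra hne
    refine hmax ((insert m F).sup W) ⟨insert m F, by simp [Set.insert_subset_iff, hm, hF], rfl⟩ ?_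
    rw [Finset.sup_insert]
    exact right_lt_sup.2 hne
  refine h m hm (sum_mul_eq_zero (k := k) (v m) (w m) fun φ => ?_)
  simpa [Z, Fintype.linearCombination_apply] using h₁ (h₂ ⟨φ, rfl⟩)

open scoped Classical in
theorem result (A : Type u) [CommRing A] (k : Type u) [Field k]
    (p : ℕ → PrimeSpectrum A) (K : ℕ → Type u) [∀ n, Field (K n)]
    [∀ n, Algebra A (K n)] [∀ n, Algebra k (K n)]
    (hker : ∀ n, RingHom.ker (algebraMap A (K n)) = (p n).asIdeal) :
    (closure (⋃ (n : ℕ) (m : ℕ) (_ : n ≠ m),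
        Set.range (PrimeSpectrum.comap
          (Algebra.TensorProduct.lift
            ((Algebra.TensorProduct.includeLeft (R := k) (S := ℤ) (A := K n) (B := K m)).toRingHom.toIntAlgHom.comp
              (Algebra.ofId A (K n)).toRingHom.toIntAlgHom)
            ((Algebra.TensorProduct.includeRight (R := k) (A := K n) (B := K m)).toRingHom.toIntAlgHom.comp
              (Algebra.ofId A (K m)).toRingHom.toIntAlgHom)
            (fun _ _ => Commute.all _ _)).toRingHom)) ∩
      Set.range (PrimeSpectrum.comap (Algebra.TensorProduct.lmul' (S := A) ℤ).toRingHom)).Nonempty := by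
  obtain ⟨x, hx⟩ := exists_clusterPt_of_compactSpace (Filter.map p Filter.atTop)
  refine ⟨_, ?_, x, rfl⟩
  rw [PrimeSpectrum.isTopologicalBasis_basic_opens.mem_closure_iff]
  rintro _ ⟨f, rfl⟩ hf
  obtain ⟨s, rfl⟩ : ∃ s : Finset (A × A), f = ∑ i ∈ s, i.1 ⊗ₜ[ℤ] i.2 := TensorProduct.exists_finset f
  change Algebra.TensorProduct.lmul' (S := A) ℤ (∑ i ∈ s, i.1 ⊗ₜ[ℤ] i.2) ∉ x.asIdeal at hf
  simp only [map_sum, Algebra.TensorProduct.lmul'_apply_tmul] at hf
  let N : Set ℕ := {n | ∑ i ∈ s, i.1 * i.2 ∉ (p n).asIdeal}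
  have hN : N.Infinite := by
    refine Nat.frequently_atTop_iff_infinite.1 ?_
    exact (mapClusterPt_iff_frequently.1 hx _
      ((PrimeSpectrum.basicOpen (∑ i ∈ s, i.1 * i.2)).2.mem_nhds hf))
  let k' := AlgebraicClosure k
  let L : ℕ → Type u := fun n => AlgebraicClosure (K n)
  letI : ∀ n, Field (L n) := fun n => inferInstanceAs (Field (AlgebraicClosure (K n)))
  letI : ∀ n, Algebra k (L n) := fun n => inferInstanceAs (Algebra k (AlgebraicClosure (K n)))
  letI : ∀ n, Algebra k' (L n) := fun n => (IsAlgClosed.lift (R := k) (S := k') (M := L n)).toRingHom.toAlgebra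
  haveI : ∀ n, IsScalarTower k k' (L n) := fun n =>
    IsScalarTower.of_algebraMap_eq fun a => ((IsAlgClosed.lift (R := k) (S := k') (M := L n)).commutes a).symm
  let e : ∀ n, K n →ₐ[k] L n := fun n => IsScalarTower.toAlgHom k (K n) (AlgebraicClosure (K n))
  obtain ⟨n, hn, m, hm, hnm, hne⟩ := exists_pair (k := k') L
    (fun n (i : s) => e n (algebraMap A (K n) i.1.1)) (fun n (i : s) => e n (algebraMap A (K n) i.1.2)) N hN
    (fun n hn hz => hn (by
      rw [← hker, RingHom.mem_ker]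
      refine (e n).toRingHom.injective ?_
      rw [map_zero]
      refine Eq.trans ?_ hz
      rw [← Finset.sum_coe_sort]
      simp))
  let T : K n ⊗[k] K m →ₐ[k] L n ⊗[k'] L m := Algebra.TensorProduct.lift
    (((Algebra.TensorProduct.includeLeft (R := k') (S := k') (A := L n) (B := L m)).restrictScalars k).comp (e n))
    (((Algebra.TensorProduct.includeRight (R := k') (A := L n) (B := L m)).restrictScalars k).comp (e m))
    fun _ _ => Commute.all _ _
  haveI : IsReduced (L n ⊗[k'] L m) := Groth.L03.GeomReduced2.isReduced_tensorProduct_of_isAlgClosed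
  obtain ⟨P, hP, hP'⟩ : ∃ P : Ideal (L n ⊗[k'] L m), P.IsPrime ∧
      ∑ i : s, (e n (algebraMap A (K n) i.1.1)) ⊗ₜ[k'] (e m (algebraMap A (K m) i.1.2)) ∉ P := by
    by_contra H
    push Not at H
    exact hne (IsReduced.eq_zero _ (nilpotent_iff_mem_prime.2 fun P hP => H P hP))
  refine ⟨_, ?_, Set.mem_iUnion.2 ⟨n, Set.mem_iUnion.2 ⟨m, Set.mem_iUnion.2 ⟨hnm,
    PrimeSpectrum.comap T.toRingHom ⟨P, hP⟩, rfl⟩⟩⟩⟩
  rw [SetLike.mem_coe, PrimeSpectrum.mem_basicOpen, PrimeSpectrum.comap_asIdeal, PrimeSpectrum.comap_asIdeal,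
    Ideal.mem_comap, Ideal.mem_comap, ← Finset.sum_coe_sort, map_sum, map_sum]
  convert hP' using 3 with i
  simp [T, Algebra.TensorProduct.lift_tmul, Algebra.TensorProduct.tmul_mul_tmul]

end Groth.L23.PairSeq
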