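import Groth.Agent.S10515
import Groth.Agent.S10514
import Groth.Agent.L23.EtColimit
import Groth.Prelude.Def_AlgSpCov
import Mathlib.CategoryTheory.Sites.Canonical

/-!
# Sheaves for the ph topology on algebraic spaces
-/

universe w u

open CategoryTheory CategoryTheory.Limits AlgebraicGeometry Opposite AlgSp

set_option autoImplicit false
set_option linter.style.haveILetI false
set_option backward.isDefEq.respectTransparency false
set_option backward.isDefEq.respectTransparency.types false

noncomputable section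

namespace Groth.L23.PhSheaf

variable {S : Scheme.{u}}

/-- Etale coverings are ph coverings. -/
theorem spacesTop_le : spacesTop S IsEtaleMor ≤ phSpacesTop S := by
  refine Precoverage.toGrothendieck_le_iff_le_toPrecoverage.2 fun Y R hR => ?_
  obtain ⟨hP, hx⟩ := hR
  obtain ⟨U, p, hp, hps⟩ := Y.property.atlas
  choose Z g hgR hgx using fun u : U.left => hx (Points.ofPt p u)
  have hfppf : IsFppfCover (fun u => (Z u).obj) (fun u => (g u).hom) := by
    refine ⟨fun u => ?_, fun x => ?_⟩
    · have he : LocP @Etale (g u).hom := (isEtaleMor_iff_locP (Z u).property Y.property _).1 (hP _ (hgR u))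
      exact ⟨locP_mono (fun φ (_ : Etale φ) => inferInstanceAs (Flat φ)) he,
        locP_mono (fun φ (_ : Etale φ) => inferInstanceAs (LocallyOfFinitePresentation φ)) he⟩
    · obtain ⟨u, rfl⟩ := surjective_ofPt hps x
      exact ⟨u, hgx u⟩
  refine GrothendieckTopology.superset_covering _ ?_ (Precoverage.generate_mem_toGrothendieck
    ((ofArrows_mem_phSpacesPre_iff Z g).2 (Groth.Agent.S10514.result Y Z g hfppf)))
  rw [Sieve.generate_le_iff]
  rintro W f ⟨u⟩
  exact Sieve.le_generate R _ _ (hgR u)

/-- A proper surjective morphism generates a ph covering sieve. -/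
theorem generate_singleton_mem {X Y : Space S} (f : Y ⟶ X) (hf : IsProperMor f.hom) (hs : IsSurjectiveMor f.hom) :
    Sieve.generate (Presieve.singleton f) ∈ phSpacesTop S X := by
  rw [show Presieve.singleton f = Presieve.ofArrows (fun _ : PUnit.{u + 1} => Y) (fun _ => f) from
    (Presieve.ofArrows_pUnit f).symm]
  exact Precoverage.generate_mem_toGrothendieck
    ((ofArrows_mem_phSpacesPre_iff (fun _ : PUnit.{u + 1} => Y) (fun _ => f)).2
      (Groth.Agent.S10515.result f hf hs))

variable {X : Space S} {F : (Over X)ᵒᵖ ⥤ Type w}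

/-- The sieve of a single morphism over `X`. -/
theorem overEquiv_generate_singleton {U V : Over X} (f : V ⟶ U) :
    Sieve.generate (Presieve.singleton f.left) ≤ Sieve.overEquiv U (Sieve.generate (Presieve.singleton f)) := by
  rw [Sieve.generate_le_iff]
  rintro W g ⟨⟩
  rw [Sieve.overEquiv_iff]
  exact ⟨V, Over.homMk (𝟙 V.left) (by simp), f, Presieve.singleton.mk, Over.OverMorphism.ext (Category.id_comp _)⟩

theorem of_ph (h : Presheaf.IsSheaf (phSpacesTopOver X) F) :
    Presheaf.IsSheaf (spacesTopOver IsEtaleMor X) F ∧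
      ∀ ⦃U V W : Over X⦄ (f : V ⟶ U) (p q : W ⟶ V),
        IsProperMor f.left.hom → IsSurjectiveMor f.left.hom →
        IsPullback p.left.hom q.left.hom f.left.hom f.left.hom →
        ∀ t : F.obj (Opposite.op V), F.map p.op t = F.map q.op t →
          ∃! s : F.obj (Opposite.op U), F.map f.op s = t := by
  rw [isSheaf_iff_isSheaf_of_type] at h
  refine ⟨(isSheaf_iff_isSheaf_of_type _ _).2 (Presieve.isSheaf_of_le _ (fun U T hT => spacesTop_le _ hT) h),
    fun U V W f p q hfp hfs sq t ht => ?_⟩
  have hsh : Presieve.IsSheafFor F (Presieve.singleton f) := by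
    rw [Presieve.isSheafFor_iff_generate]
    exact h _ ((GrothendieckTopology.mem_over_iff _ _).2 (GrothendieckTopology.superset_covering _
      (overEquiv_generate_singleton f) (generate_singleton_mem f.left hfp hfs)))
  refine Presieve.isSheafFor_singleton.1 hsh t fun {Z} p₁ p₂ e => ?_
  have e' : p₁.left.hom ≫ f.left.hom = p₂.left.hom ≫ f.left.hom :=
    congrArg (fun m : Z ⟶ U => m.left.hom) e
  let k₀ : Z.left ⟶ W.left := ObjectProperty.homMk (sq.lift _ _ e')
  have hk : k₀ ≫ p.left = p₁.left := ObjectProperty.hom_ext _ (sq.lift_fst _ _ _)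
  have hk' : k₀ ≫ q.left = p₂.left := ObjectProperty.hom_ext _ (sq.lift_snd _ _ _)
  let k : Z ⟶ W := Over.homMk k₀ (by rw [← Over.w p, ← Category.assoc, hk, Over.w p₁])
  rw [show p₁ = k ≫ p from Over.OverMorphism.ext hk.symm, show p₂ = k ≫ q from Over.OverMorphism.ext hk'.symm,
    op_comp, op_comp, Functor.map_comp, Functor.map_comp]
  exact congrArg (F.map k.op) ht

/-- The topology on spaces induced by the topology for which `F` is a sheaf. -/
def induced (F : (Over X)ᵒᵖ ⥤ Type w) : GrothendieckTopology (Space S) where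
  sieves Y := {R | ∀ (U : Over X) (e : U.left ⟶ Y),
    (Sieve.overEquiv U).symm (R.pullback e) ∈ Sheaf.finestTopologySingle F U}
  top_mem' Y U e := by
    rw [Sieve.pullback_top]
    convert (Sheaf.finestTopologySingle F).top_mem U using 1
    exact map_top _
  pullback_stable' Y Y' R f hR U e := by
    rw [← Sieve.pullback_comp]
    exact hR U (e ≫ f)
  transitive' Y T hT R hR U e := (Sheaf.finestTopologySingle F).transitive (hT U e) _ fun W g hg => by
    rw [Sieve.overEquiv_symm_iff] at hg
    have h := hR hg W (𝟙 _)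
    rw [Sieve.pullback_id] at h
    convert h using 1
    apply (Sieve.overEquiv W).injective
    rw [Sieve.overEquiv_pullback, OrderIso.apply_symm_apply, OrderIso.apply_symm_apply, Sieve.pullback_comp]

variable (hp : ∀ ⦃U V W : Over X⦄ (f : V ⟶ U) (p q : W ⟶ V),
        IsProperMor f.left.hom → IsSurjectiveMor f.left.hom →
        IsPullback p.left.hom q.left.hom f.left.hom f.left.hom →
        ∀ t : F.obj (Opposite.op V), F.map p.op t = F.map q.op t →
          ∃! s : F.obj (Opposite.op U), F.map f.op s = t)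

include hp in
theorem isSheafFor_singleton {U V : Over X} (f : V ⟶ U) (hf : IsProperMor f.left.hom)
    (hs : IsSurjectiveMor f.left.hom) : Presieve.IsSheafFor F (Presieve.singleton f) := by
  rw [Presieve.isSheafFor_singleton]
  intro t ht
  have sq := IsPullback.of_hasPullback f.left.hom f.left.hom
  let W₀ : Space S := ⟨pullback f.left.hom f.left.hom,
    isAlgSpace_of_isPullback U.left.property.diag V.left.property V.left.property sq⟩
  let p₀ : W₀ ⟶ V.left := ObjectProperty.homMk (pullback.fst f.left.hom f.left.hom)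
  let q₀ : W₀ ⟶ V.left := ObjectProperty.homMk (pullback.snd f.left.hom f.left.hom)
  have hpq : p₀ ≫ f.left = q₀ ≫ f.left := ObjectProperty.hom_ext _ pullback.condition
  let W : Over X := Over.mk (p₀ ≫ V.hom)
  let p : W ⟶ V := Over.homMk p₀ rfl
  let q : W ⟶ V := Over.homMk q₀ (by
    show q₀ ≫ V.hom = p₀ ≫ V.hom
    rw [← Over.w f, reassoc_of% hpq])
  exact hp f p q hf hs sq t (ht p q (Over.OverMorphism.ext hpq))

include hp in
theorem singleton_mem {U V : Over X} (f : V ⟶ U) (hf : IsProperMor f.left.hom)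
    (hs : IsSurjectiveMor f.left.hom) :
    Sieve.generate (Presieve.singleton f) ∈ Sheaf.finestTopologySingle F U := by
  intro U' g
  have sq := IsPullback.of_hasPullback f.left.hom g.left.hom
  let V₀ : Space S := ⟨pullback f.left.hom g.left.hom,
    isAlgSpace_of_isPullback U.left.property.diag V.left.property U'.left.property sq⟩
  let a₀ : V₀ ⟶ V.left := ObjectProperty.homMk (pullback.fst f.left.hom g.left.hom)
  let b₀ : V₀ ⟶ U'.left := ObjectProperty.homMk (pullback.snd f.left.hom g.left.hom)
  have hab : a₀ ≫ f.left = b₀ ≫ g.left := ObjectProperty.hom_ext _ pullback.condition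
  let V' : Over X := Over.mk (b₀ ≫ U'.hom)
  let b : V' ⟶ U' := Over.homMk b₀ rfl
  let a : V' ⟶ V := Over.homMk a₀ (by
    show a₀ ≫ V.hom = b₀ ≫ U'.hom
    rw [← Over.w f, reassoc_of% hab, Over.w g])
  have e : (Sieve.generate (Presieve.singleton f)).pullback g = Sieve.generate (Presieve.singleton b) := by
    refine le_antisymm ?_ ?_
    · rintro Z k ⟨_, l, _, ⟨⟩, hl⟩
      let m₀ : Z.left ⟶ V₀ := ObjectProperty.homMk (sq.lift l.left.hom k.left.hom
        (congrArg (fun m : Z ⟶ U => m.left.hom) hl))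
      have hm : m₀ ≫ b₀ = k.left := ObjectProperty.hom_ext _ (sq.lift_snd _ _ _)
      exact ⟨V', Over.homMk m₀ (by
        show m₀ ≫ b₀ ≫ U'.hom = Z.hom
        rw [reassoc_of% hm, Over.w k]), b, Presieve.singleton.mk, Over.OverMorphism.ext hm⟩
    · rw [Sieve.generate_le_iff]
      rintro Z k ⟨⟩
      exact ⟨V, a, f, Presieve.singleton.mk, Over.OverMorphism.ext hab⟩
  rw [e, ← Presieve.isSheafFor_iff_generate]
  refine isSheafFor_singleton hp b (isProperMor_of_isPullback V.left.property U.left.property U'.left.property sq hf)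
    fun z => ?_
  obtain ⟨y, hy⟩ := hs (Points.map g.left.hom z)
  obtain ⟨c, -, hc⟩ := exists_of_isPullback sq y z hy
  exact ⟨c, hc⟩

/-- A jointly surjective etale family over a space. -/
theorem etale_family_mem (he : Presheaf.IsSheaf (spacesTopOver IsEtaleMor X) F) {U : Over X} (R : Presieve U.left)
    (hR : R ∈ spacesPre S IsEtaleMor U.left) :
    (Sieve.overEquiv U).symm (Sieve.generate R) ∈ Sheaf.finestTopologySingle F U := fun Z f =>
  (isSheaf_iff_isSheaf_of_type _ _).1 he _
    ((spacesTopOver IsEtaleMor X).pullback_stable f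
      (GrothendieckTopology.overEquiv_symm_mem_over _ U _ (Precoverage.generate_mem_toGrothendieck hR)))

include hp in
theorem ph_le_induced (he : Presheaf.IsSheaf (spacesTopOver IsEtaleMor X) F) : phSpacesTop S ≤ induced F := by
  refine Precoverage.toGrothendieck_le_iff_le_toPrecoverage.2 fun Y R hR => ?_
  obtain ⟨-, href⟩ := hR
  intro U e
  obtain ⟨V, p, hpe, hps⟩ := U.left.property.atlas
  -- an affine etale covering
  let b : ∀ A : V.left.affineOpens, (AlgSp.ofScheme S).obj (openOver V A.1) ⟶ U.left := fun A =>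
    ObjectProperty.homMk (X := (AlgSp.ofScheme S).obj (openOver V A.1)) ((yon S).map (openOverι V A.1) ≫ p)
  refine (Sheaf.finestTopologySingle F).transitive (etale_family_mem he (Presieve.ofArrows _ b) ⟨?_, fun x => ?_⟩) _ ?_
  · rintro Z g ⟨A⟩
    exact (isEtaleMor_iff_locP (IsAlgSpace.yon_obj _) U.left.property _).2 (locP_of_repWith etLocal_etale
      (repWith_comp (repWith_map (show Etale (openOverι V A.1).left from inferInstanceAs (Etale A.1.ι))) hpe))
  · obtain ⟨v, rfl⟩ := surjective_ofPt hps x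
    obtain ⟨_, ⟨A, hA, rfl⟩, hvA, -⟩ := V.left.isBasis_affineOpens.exists_subset_of_mem_open (Set.mem_univ v) isOpen_univ
    refine ⟨_, b ⟨A, hA⟩, Presieve.ofArrows.mk _, Points.ofScheme _ ⟨v, hvA⟩, ?_⟩
    show Points.map ((yon S).map (openOverι V A) ≫ p) _ = _
    rw [← Points.ofPt_eq_map_ofScheme]
    exact ofPt_openMk A p ⟨v, hvA⟩
  intro W g hg
  obtain ⟨_, k, _, ⟨A⟩, hk⟩ := hg
  -- over an affine scheme
  let U₁ : Over X := Over.mk (b A ≫ U.hom)
  let g₁ : U₁ ⟶ U := Over.homMk (b A) rfl
  let k₁ : W ⟶ U₁ := Over.homMk k (by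
    show k ≫ b A ≫ U.hom = W.hom
    rw [reassoc_of% hk]
    exact Over.w g)
  suffices h : ((Sieve.overEquiv U).symm ((Sieve.generate R).pullback e)).pullback g₁ ∈
      Sheaf.finestTopologySingle F U₁ by
    have := (Sheaf.finestTopologySingle F).pullback_stable k₁ h
    rw [← Sieve.pullback_comp] at this
    rwa [show k₁ ≫ g₁ = g from Over.OverMorphism.ext hk] at this
  obtain ⟨Φ, hΦ, hlift⟩ := href (openOver V A.1) A.2 ((b A).hom ≫ e.hom)
  obtain ⟨P, π, ι, hπ, hπs, hι, hιπ, hιs⟩ := hΦ.exists_proper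
  haveI := hπ
  haveI := hπs
  let P' : Over S := Over.mk (π ≫ (openOver V A.1).hom)
  let π' : P' ⟶ openOver V A.1 := Over.homMk π rfl
  let U₂ : Over X := Over.mk ((AlgSp.ofScheme S).map π' ≫ U₁.hom)
  let g₂ : U₂ ⟶ U₁ := Over.homMk ((AlgSp.ofScheme S).map π') rfl
  have hprop : IsProperMor g₂.left.hom := isProperMor_of_repWith (repWith_map (g := π') hπ)
  have hsurj : IsSurjectiveMor g₂.left.hom := surjective_map_of_repWith (repWith_map (g := π') hπs)
  refine (Sheaf.finestTopologySingle F).transitive (singleton_mem hp g₂ hprop hsurj) _ ?_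
  intro W₂ l hl
  obtain ⟨_, m, _, ⟨⟩, rfl⟩ := hl
  rw [Sieve.pullback_comp]
  refine (Sheaf.finestTopologySingle F).pullback_stable m ?_
  let B : Φ.I₀ → Over S := fun j => Over.mk (Φ.f j ≫ (openOver V A.1).hom)
  let ι' : ∀ j, B j ⟶ P' := fun j => Over.homMk (ι j) (by
    show ι j ≫ π ≫ (openOver V A.1).hom = Φ.f j ≫ (openOver V A.1).hom
    rw [← Category.assoc, hιπ])
  let c : ∀ j, (AlgSp.ofScheme S).obj (B j) ⟶ U₂.left := fun j => (AlgSp.ofScheme S).map (ι' j)
  refine (Sheaf.finestTopologySingle F).superset_covering ?_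
    (etale_family_mem he (Presieve.ofArrows _ c) ⟨?_, fun x => ?_⟩)
  · intro Z r hr
    rw [Sieve.overEquiv_symm_iff] at hr
    obtain ⟨_, r', _, ⟨j⟩, hr'⟩ := hr
    obtain ⟨Y', gY, hgY, t, ht⟩ := hlift j
    show (Sieve.generate R) (((r ≫ g₂) ≫ g₁).left ≫ e)
    refine ⟨Y', r' ≫ ObjectProperty.homMk (X := (AlgSp.ofScheme S).obj (B j)) t, gY, hgY, ?_⟩
    rw [Over.comp_left, Over.comp_left, ← hr', Category.assoc, Category.assoc, Category.assoc, Category.assoc]
    refine congrArg (r' ≫ ·) (ObjectProperty.hom_ext _ ?_)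
    show t ≫ gY.hom = (yon S).map (ι' j) ≫ (yon S).map π' ≫ (b A).hom ≫ e.hom
    rw [ht, ← Functor.map_comp_assoc]
    exact congrArg (fun v => (yon S).map v ≫ (b A).hom ≫ e.hom) (Over.OverMorphism.ext (hιπ j).symm)
  · rintro Z r ⟨j⟩
    haveI := hι j
    exact (isEtaleMor_iff_locP (IsAlgSpace.yon_obj _) U₂.left.property _).2 (locP_of_repWith etLocal_etale
      (repWith_map (show Etale (ι' j).left from inferInstanceAs (Etale (ι j)))))
  · obtain ⟨v, rfl⟩ := (Points.schemeEquiv P').surjective x
    obtain ⟨j, y, hy⟩ := hιs v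
    refine ⟨_, c j, Presieve.ofArrows.mk j, Points.ofScheme (B j) y, ?_⟩
    show Points.map ((yon S).map (ι' j)) (Points.schemeHomeo (B j) y) = Points.schemeHomeo P' v
    rw [Points.map_yon_map_apply]
    exact congrArg _ hy

theorem to_ph (he : Presheaf.IsSheaf (spacesTopOver IsEtaleMor X) F)
    (hp : ∀ ⦃U V W : Over X⦄ (f : V ⟶ U) (p q : W ⟶ V),
        IsProperMor f.left.hom → IsSurjectiveMor f.left.hom →
        IsPullback p.left.hom q.left.hom f.left.hom f.left.hom →
        ∀ t : F.obj (Opposite.op V), F.map p.op t = F.map q.op t →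
          ∃! s : F.obj (Opposite.op U), F.map f.op s = t) :
    Presheaf.IsSheaf (phSpacesTopOver X) F := by
  rw [isSheaf_iff_isSheaf_of_type]
  intro U T hT
  have h := ph_le_induced hp he U.left hT U (𝟙 _)
  rw [Sieve.pullback_id, OrderIso.symm_apply_apply] at h
  simpa using h U (𝟙 U)

end Groth.L23.PhSheaf
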