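import Groth.Agent.L20.Pinch.Cases
import Mathlib.RingTheory.Flat.Basic
import Mathlib.LinearAlgebra.TensorProduct.RightExactness
import Mathlib.Algebra.Category.Ring.Constructions
import Mathlib.AlgebraicGeometry.Morphisms.Flat

/-!
# Pushouts along closed immersions are preserved by flat base change
-/

universe u

open CategoryTheory Limits AlgebraicGeometry TensorProduct

set_option linter.style.haveILetI false
set_option backward.isDefEq.respectTransparency.types false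

namespace Groth.L23.PinchFlat

open Groth.L20.Pinch
open Groth.L09.Patch (sp sp_comp)

section Ring

variable {T T1 T2 T0 T' : Type u} [CommRing T] [CommRing T1] [CommRing T2] [CommRing T0] [CommRing T']
  [Algebra T T1] [Algebra T T2] [Algebra T T0] [Algebra T T']

/-- Fibre products of rings along a surjection commute with flat base change. -/
theorem isFib_tensor (ψ1 : T1 →ₐ[T] T0) (ψ2 : T2 →ₐ[T] T0)
    (h : IsFib (algebraMap T T1) (algebraMap T T2) ψ1.toRingHom ψ2.toRingHom) [Module.Flat T T'] :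
    IsFib (Algebra.TensorProduct.includeLeftRingHom : T' →+* T' ⊗[T] T1)
      (Algebra.TensorProduct.includeLeftRingHom : T' →+* T' ⊗[T] T2)
      (Algebra.TensorProduct.map (AlgHom.id T T') ψ1).toRingHom
      (Algebra.TensorProduct.map (AlgHom.id T T') ψ2).toRingHom := by
  let d : T →ₗ[T] T1 × T2 := LinearMap.prod (Algebra.linearMap T T1) (Algebra.linearMap T T2)
  let e : T1 × T2 →ₗ[T] T0 := ψ1.toLinearMap ∘ₗ LinearMap.fst T T1 T2 - ψ2.toLinearMap ∘ₗ LinearMap.snd T T1 T2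
  have hd : Function.Injective d := fun a b hab => h.ext (congrArg Prod.fst hab) (congrArg Prod.snd hab)
  have he : Function.Surjective e := fun z => by
    obtain ⟨y, rfl⟩ := h.surj z
    exact ⟨(0, -y), by simp [e]⟩
  have hde : Function.Exact d e := fun p => by
    constructor
    · intro hp
      obtain ⟨t, h1, h2⟩ := h.glue p.1 p.2 (sub_eq_zero.mp hp)
      exact ⟨t, Prod.ext h1 h2⟩
    · rintro ⟨t, rfl⟩
      exact sub_eq_zero.mpr (h.comm_apply t)
  refine ⟨RingHom.ext fun t => by simp, fun t h1 h2 => ?_, fun x y hxy => ?_, ?_⟩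
  · have key : LinearMap.lTensor T' d (t ⊗ₜ[T] 1) = 0 := by
      have h1' : t ⊗ₜ[T] (1 : T1) = 0 := h1
      have h2' : t ⊗ₜ[T] (1 : T2) = 0 := h2
      have hone : d 1 = LinearMap.inl T T1 T2 1 + LinearMap.inr T T1 T2 1 := by simp [d]
      rw [LinearMap.lTensor_tmul, hone, tmul_add, ← LinearMap.lTensor_tmul, ← LinearMap.lTensor_tmul,
        h1', h2', map_zero, map_zero, add_zero]
    have := (map_eq_zero_iff _ (Module.Flat.lTensor_preserves_injective_linearMap d hd)).mp key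
    simpa using congrArg (TensorProduct.rid T T') this
  · let z : T' ⊗[T] (T1 × T2) := LinearMap.lTensor T' (LinearMap.inl T T1 T2) x + LinearMap.lTensor T' (LinearMap.inr T T1 T2) y
    have hz : LinearMap.lTensor T' e z = 0 := by
      have e1 : e ∘ₗ LinearMap.inl T T1 T2 = ψ1.toLinearMap := LinearMap.ext fun a => by simp [e]
      have e2 : e ∘ₗ LinearMap.inr T T1 T2 = -ψ2.toLinearMap := LinearMap.ext fun a => by simp [e]
      simp only [z, map_add, ← LinearMap.lTensor_comp_apply, e1, e2, LinearMap.lTensor_neg, LinearMap.neg_apply]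
      exact add_neg_eq_zero.mpr hxy
    obtain ⟨w, hw⟩ := ((lTensor_exact T' hde he) z).mp hz
    obtain ⟨t, rfl⟩ : ∃ t : T', t ⊗ₜ[T] (1 : T) = w :=
      ⟨TensorProduct.rid T T' w, by rw [← TensorProduct.rid_symm_apply, LinearEquiv.symm_apply_apply]⟩
    refine ⟨t, ?_, ?_⟩
    · have := congrArg (LinearMap.lTensor T' (LinearMap.fst T T1 T2)) hw
      simp only [z, map_add, ← LinearMap.lTensor_comp_apply, LinearMap.fst_comp_inl, LinearMap.fst_comp_inr,
        LinearMap.lTensor_id, LinearMap.lTensor_zero, LinearMap.id_apply, LinearMap.zero_apply, add_zero] at this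
      refine Eq.trans ?_ this
      simp [d]
    · have := congrArg (LinearMap.lTensor T' (LinearMap.snd T T1 T2)) hw
      simp only [z, map_add, ← LinearMap.lTensor_comp_apply, LinearMap.snd_comp_inl, LinearMap.snd_comp_inr,
        LinearMap.lTensor_id, LinearMap.lTensor_zero, LinearMap.id_apply, LinearMap.zero_apply, zero_add] at this
      refine Eq.trans ?_ this
      simp [d]
  · exact LinearMap.lTensor_surjective T' (g := ψ2.toLinearMap) h.surj

end Ring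

section Scheme

variable {T T1 T2 T0 T' : Type u} [CommRing T] [CommRing T1] [CommRing T2] [CommRing T0] [CommRing T']
variable {φ1 : T →+* T1} {φ2 : T →+* T2} {ψ1 : T1 →+* T0} {ψ2 : T2 →+* T0}
variable {X Y Z P Q : Scheme.{u}} {i : Z ⟶ X} {j : Z ⟶ Y} {a : X ⟶ P} {b : Y ⟶ P}
variable {V V1 V2 V0 : Scheme.{u}} {v : V ⟶ P} {pr1 : V1 ⟶ V} {q1 : V1 ⟶ Y} {pr2 : V2 ⟶ V} {q2 : V2 ⟶ X}
  {l1 : V0 ⟶ V1} {l2 : V0 ⟶ V2} {q0 : V0 ⟶ Z}

/-- The base change to an affine chart flat over a pinched chart. -/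
theorem local_step (h : IsFib φ1 φ2 ψ1 ψ2) (ρ : T →+* T') (hρ : ρ.Flat)
    (u : Spec (CommRingCat.of T) ⟶ P) (s1 : Spec (CommRingCat.of T1) ⟶ Y) (s2 : Spec (CommRingCat.of T2) ⟶ X)
    (s0 : Spec (CommRingCat.of T0) ⟶ Z) (hs1 : IsPullback (sp φ1) s1 u b) (hs2 : IsPullback (sp φ2) s2 u a)
    (h01 : sp ψ1 ≫ s1 = s0 ≫ j) (h02 : sp ψ2 ≫ s2 = s0 ≫ i)
    (hq1 : IsPullback pr1 q1 v b) (hq2 : IsPullback pr2 q2 v a)
    (hq0 : IsPullback (l2 ≫ pr2) q0 v (i ≫ a)) (hl : l2 ≫ pr2 = l1 ≫ pr1)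
    (hl1 : l1 ≫ q1 = q0 ≫ j) (hl2 : l2 ≫ q2 = q0 ≫ i)
    (w : Spec (CommRingCat.of T') ⟶ V) (hw : w ≫ v = sp ρ ≫ u) :
    (∀ (g1 : V1 ⟶ Q) (g2 : V2 ⟶ Q), l1 ≫ g1 = l2 ≫ g2 →
      ∃ H : Spec (CommRingCat.of T') ⟶ Q,
        (∀ {W : Scheme.{u}} (m : W ⟶ Spec (CommRingCat.of T')) (n : W ⟶ V1), m ≫ w = n ≫ pr1 → m ≫ H = n ≫ g1) ∧
        (∀ {W : Scheme.{u}} (m : W ⟶ Spec (CommRingCat.of T')) (n : W ⟶ V2), m ≫ w = n ≫ pr2 → m ≫ H = n ≫ g2)) ∧
    (∀ {U : Scheme.{u}} (r : U ⟶ Spec (CommRingCat.of T')) [IsOpenImmersion r] (f f' : U ⟶ Q),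
      (∀ {W : Scheme.{u}} (m : W ⟶ U) (n : W ⟶ V1), m ≫ r ≫ w = n ≫ pr1 → m ≫ f = m ≫ f') →
      (∀ {W : Scheme.{u}} (m : W ⟶ U) (n : W ⟶ V2), m ≫ r ≫ w = n ≫ pr2 → m ≫ f = m ≫ f') → f = f') := by
  algebraize [φ1, φ2, ψ1.comp φ1, ρ]
  let ψ1a : T1 →ₐ[T] T0 := { ψ1 with commutes' := fun t => rfl }
  let ψ2a : T2 →ₐ[T] T0 := { ψ2 with commutes' := fun t => (h.comm_apply t).symm }
  have h' := isFib_tensor (T' := T') ψ1a ψ2a h
  set φ1' : T' →+* T' ⊗[T] T1 := Algebra.TensorProduct.includeLeftRingHom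
  set φ2' : T' →+* T' ⊗[T] T2 := Algebra.TensorProduct.includeLeftRingHom
  set ψ1' : T' ⊗[T] T1 →+* T' ⊗[T] T0 := (Algebra.TensorProduct.map (AlgHom.id T T') ψ1a).toRingHom
  set ψ2' : T' ⊗[T] T2 →+* T' ⊗[T] T0 := (Algebra.TensorProduct.map (AlgHom.id T T') ψ2a).toRingHom
  let ι1 : T1 →+* T' ⊗[T] T1 := (Algebra.TensorProduct.includeRight : T1 →ₐ[T] T' ⊗[T] T1).toRingHom
  let ι2 : T2 →+* T' ⊗[T] T2 := (Algebra.TensorProduct.includeRight : T2 →ₐ[T] T' ⊗[T] T2).toRingHom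
  let ι0 : T0 →+* T' ⊗[T] T0 := (Algebra.TensorProduct.includeRight : T0 →ₐ[T] T' ⊗[T] T0).toRingHom
  have ht1 : IsPullback (sp φ1') (sp ι1) (sp ρ) (sp φ1) :=
    isPullback_SpecMap_of_isPushout _ _ _ _ (CommRingCat.isPushout_tensorProduct T T' T1)
  have ht2 : IsPullback (sp φ2') (sp ι2) (sp ρ) (sp φ2) :=
    isPullback_SpecMap_of_isPushout _ _ _ _ (CommRingCat.isPushout_tensorProduct T T' T2)
  have ho1 : IsPullback (sp φ1') (sp ι1 ≫ s1) (w ≫ v) b := hw ▸ ht1.paste_vert hs1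
  have ho2 : IsPullback (sp φ2') (sp ι2 ≫ s2) (w ≫ v) a := hw ▸ ht2.paste_vert hs2
  let e1 := hq1.lift (sp φ1' ≫ w) (sp ι1 ≫ s1) (by rw [Category.assoc]; exact ho1.w)
  let e2 := hq2.lift (sp φ2' ≫ w) (sp ι2 ≫ s2) (by rw [Category.assoc]; exact ho2.w)
  have he1 : IsPullback (sp φ1') e1 w pr1 :=
    IsPullback.of_bot (show IsPullback (sp φ1') (e1 ≫ q1) (w ≫ v) b by rw [hq1.lift_snd]; exact ho1)
      (hq1.lift_fst _ _ _).symm hq1
  have he2 : IsPullback (sp φ2') e2 w pr2 :=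
    IsPullback.of_bot (show IsPullback (sp φ2') (e2 ≫ q2) (w ≫ v) a by rw [hq2.lift_snd]; exact ho2)
      (hq2.lift_fst _ _ _).symm hq2
  have hn1 : ψ1'.comp ι1 = ι0.comp ψ1 := RingHom.ext fun x => by simp [ψ1', ι1, ι0, ψ1a]
  have hn2 : ψ2'.comp ι2 = ι0.comp ψ2 := RingHom.ext fun x => by simp [ψ2', ι2, ι0, ψ2a]
  refine ⟨fun g1 g2 hg => ?_, fun {U} r _ f f' hf1 hf2 => ?_⟩
  · let e0 := hq0.lift (sp ψ2' ≫ sp φ2' ≫ w) (sp ι0 ≫ s0) (by
      have := congrArg (sp ψ2' ≫ ·) ho2.w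
      simp only [Category.assoc] at this ⊢
      rw [this, ← Category.assoc (sp ψ2'), sp_comp, hn2, ← sp_comp, Category.assoc, reassoc_of% h02])
    have hψ : sp ψ1' ≫ sp φ1' = sp ψ2' ≫ sp φ2' := by rw [sp_comp, sp_comp, h'.comm]
    have hc1 : sp ψ1' ≫ e1 = e0 ≫ l1 := by
      refine hq1.hom_ext ?_ ?_
      · rw [Category.assoc, Category.assoc, hq1.lift_fst, ← hl, hq0.lift_fst, reassoc_of% hψ]
      · rw [Category.assoc, Category.assoc, hq1.lift_snd, hl1, hq0.lift_snd_assoc, ← Category.assoc, sp_comp, hn1,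
          ← sp_comp, Category.assoc, Category.assoc, h01]
    have hc2 : sp ψ2' ≫ e2 = e0 ≫ l2 := by
      refine hq2.hom_ext ?_ ?_
      · rw [Category.assoc, Category.assoc, hq2.lift_fst, hq0.lift_fst]
      · rw [Category.assoc, Category.assoc, hq2.lift_snd, hl2, hq0.lift_snd_assoc, ← Category.assoc, sp_comp, hn2,
          ← sp_comp, Category.assoc, Category.assoc, h02]
    obtain ⟨H, hH1, hH2⟩ := h'.exists_desc_hom (e1 ≫ g1) (e2 ≫ g2)
      (by rw [reassoc_of% hc1, reassoc_of% hc2, hg])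
    refine ⟨H, fun m n hmn => ?_, fun m n hmn => ?_⟩
    · obtain ⟨l, hl', hl''⟩ : ∃ l, l ≫ sp φ1' = m ∧ l ≫ e1 = n :=
        ⟨he1.lift m n hmn, he1.lift_fst _ _ _, he1.lift_snd _ _ _⟩
      rw [← hl', Category.assoc, hH1, ← hl'', Category.assoc]
    · obtain ⟨l, hl', hl''⟩ : ∃ l, l ≫ sp φ2' = m ∧ l ≫ e2 = n :=
        ⟨he2.lift m n hmn, he2.lift_fst _ _ _, he2.lift_snd _ _ _⟩
      rw [← hl', Category.assoc, hH2, ← hl'', Category.assoc]
  · refine h'.hom_ext r f f' (hf1 (pullback.fst r _) (pullback.snd r _ ≫ e1) ?_)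
      (hf2 (pullback.fst r _) (pullback.snd r _ ≫ e2) ?_)
    · rw [Category.assoc, ← he1.w, ← pullback.condition_assoc]
    · rw [Category.assoc, ← he2.w, ← pullback.condition_assoc]

variable [IsClosedImmersion i]

/-- The flat base change of a pinched square is a pushout. -/
theorem isPushout_of_flat (h : IsPinch i j a b) [Flat v]
    (hq1 : IsPullback pr1 q1 v b) (hq2 : IsPullback pr2 q2 v a)
    (hq0 : IsPullback (l2 ≫ pr2) q0 v (i ≫ a)) (hl : l2 ≫ pr2 = l1 ≫ pr1)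
    (hl1 : l1 ≫ q1 = q0 ≫ j) (hl2 : l2 ≫ q2 = q0 ≫ i) :
    IsPushout l2 l1 pr2 pr1 := by
  have hchart : ∀ x : V, ∃ (k : Pair i j) (u : k.spec ⟶ P) (T' : CommRingCat.{u}) (ρ : k.R →+* T')
      (w : Spec (CommRingCat.of T') ⟶ V), IsOpenImmersion u ∧ IsOpenImmersion w ∧ x ∈ Set.range w ∧ ρ.Flat ∧
      IsPullback k.inY k.hV.fromSpec u b ∧ IsPullback k.inX k.hU.fromSpec u a ∧ w ≫ v = sp ρ ≫ u := by
    intro x
    obtain ⟨k, u, hu, hp, hX, hY, hXr, hYr⟩ := h.chart (v x)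
    obtain ⟨W, hW, hxW, hWle⟩ := exists_isAffineOpen_mem_and_subset (X := V) (x := x) (U := v ⁻¹ᵁ u.opensRange) hp
    have hr : Set.range (hW.fromSpec ≫ v) ⊆ Set.range u := by
      rintro _ ⟨q, rfl⟩
      have : hW.fromSpec q ∈ W := by rw [← SetLike.mem_coe, ← hW.range_fromSpec]; exact ⟨q, rfl⟩
      exact hWle this
    let m : Spec Γ(V, W) ⟶ k.spec := IsOpenImmersion.lift u (hW.fromSpec ≫ v) hr
    have hm : m ≫ u = hW.fromSpec ≫ v := IsOpenImmersion.lift_fac _ _ _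
    have hmflat : Flat m := by
      have : IsPullback (𝟙 _) m (hW.fromSpec ≫ v) u := by
        refine ⟨⟨by rw [Category.id_comp, hm]⟩, ⟨PullbackCone.IsLimit.mk _ (fun s => s.fst) (fun s => Category.comp_id _)
          (fun s => ?_) (fun s l h₁ _ => (Category.comp_id l).symm.trans h₁)⟩⟩
        rw [← cancel_mono u, Category.assoc, hm, s.condition]
      exact MorphismProperty.of_isPullback this inferInstance
    refine ⟨k, u, Γ(V, W), (Spec.preimage m).hom, hW.fromSpec, hu, inferInstance, ?_, ?_,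
      IsPinch.isPullback_chartY hY hYr, IsPinch.isPullback_chartX hX hXr, ?_⟩
    · rw [hW.range_fromSpec]; exact hxW
    · rw [← HasRingHomProperty.Spec_iff (P := @Flat), Spec.map_preimage]
      exact hmflat
    · show _ = Spec.map (Spec.preimage m) ≫ u
      rw [Spec.map_preimage, hm]
  choose k u T' ρ w hu hw hxw hρ hs1 hs2 hwv using hchart
  have step := fun (Q : Scheme.{u}) (x : V) => local_step (Q := Q) (k x).isFib (ρ x) (hρ x) (u x)
    (k x).hV.fromSpec (k x).hU.fromSpec (k x).hW.fromSpec (hs1 x) (hs2 x) (k x).spec_j.symm (k x).spec_i.symm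
    hq1 hq2 hq0 hl hl1 hl2 (w x) (hwv x)
  let 𝒰 : V.OpenCover :=
    { I₀ := V
      X := fun x => Spec (CommRingCat.of (T' x))
      f := w
      mem₀ := (Scheme.ofArrows_mem_precoverage_iff _).mpr ⟨fun x => ⟨x, hxw x⟩, hw⟩ }
  have hsep : ∀ {Q : Scheme.{u}} (f f' : V ⟶ Q), pr2 ≫ f = pr2 ≫ f' → pr1 ≫ f = pr1 ≫ f' → f = f' :=
    fun {Q} f f' h2 h1 => Scheme.Cover.hom_ext 𝒰 f f' fun x =>
      (step Q x).2 (𝟙 _) (w x ≫ f) (w x ≫ f')
        (fun m n e => by rw [Category.id_comp] at e; rw [reassoc_of% e, reassoc_of% e, h1])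
        (fun m n e => by rw [Category.id_comp] at e; rw [reassoc_of% e, reassoc_of% e, h2])
  have hex : ∀ {Q : Scheme.{u}} (g2 : V2 ⟶ Q) (g1 : V1 ⟶ Q), l2 ≫ g2 = l1 ≫ g1 →
      ∃ H : V ⟶ Q, pr2 ≫ H = g2 ∧ pr1 ≫ H = g1 := by
    intro Q g2 g1 hg
    choose H hH1 hH2 using fun x => (step Q x).1 g1 g2 hg.symm
    have hcompat : ∀ x y, pullback.fst (w x) (w y) ≫ H x = pullback.snd (w x) (w y) ≫ H y := fun x y => by
      haveI := hw y
      refine (step Q x).2 (pullback.fst (w x) (w y)) _ _ (fun m n e => ?_) (fun m n e => ?_)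
      · rw [← Category.assoc, hH1 x _ n (by rw [Category.assoc]; exact e), ← Category.assoc,
          hH1 y _ n (by rw [Category.assoc, ← pullback.condition]; exact e)]
      · rw [← Category.assoc, hH2 x _ n (by rw [Category.assoc]; exact e), ← Category.assoc,
          hH2 y _ n (by rw [Category.assoc, ← pullback.condition]; exact e)]
    refine ⟨𝒰.glueMorphisms H hcompat, ?_, ?_⟩
    · refine Scheme.Cover.hom_ext (Precoverage.ZeroHypercover.pullback₁ pr2 𝒰) _ _ fun x => ?_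
      show pullback.fst pr2 (w x) ≫ pr2 ≫ _ = pullback.fst pr2 (w x) ≫ g2
      rw [pullback.condition_assoc, Scheme.Cover.ι_glueMorphisms 𝒰 H hcompat x, hH2 x _ _ pullback.condition.symm]
    · refine Scheme.Cover.hom_ext (Precoverage.ZeroHypercover.pullback₁ pr1 𝒰) _ _ fun x => ?_
      show pullback.fst pr1 (w x) ≫ pr1 ≫ _ = pullback.fst pr1 (w x) ≫ g1
      rw [pullback.condition_assoc, Scheme.Cover.ι_glueMorphisms 𝒰 H hcompat x, hH1 x _ _ pullback.condition.symm]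
  refine ⟨⟨hl⟩, ⟨PushoutCocone.IsColimit.mk _ (fun c => (hex c.inl c.inr c.condition).choose)
    (fun c => (hex c.inl c.inr c.condition).choose_spec.1) (fun c => (hex c.inl c.inr c.condition).choose_spec.2)
    (fun c m hm2 hm1 => hsep _ _ (hm2.trans (hex c.inl c.inr c.condition).choose_spec.1.symm)
      (hm1.trans (hex c.inl c.inr c.condition).choose_spec.2.symm))⟩⟩

end Scheme

end Groth.L23.PinchFlat
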