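import Groth.Agent.L23.SpacePushoutInt
import Groth.Agent.L20.Pinch.Cases
import Groth.Prelude.Def_AlgSp

/-!
# Étale equivalence relations glue along pinched squares
-/

universe u

open CategoryTheory CategoryTheory.Limits AlgebraicGeometry AlgSp

set_option linter.style.haveILetI false
set_option backward.isDefEq.respectTransparency.types false

namespace Groth.L23.PinchOver

variable {S : Scheme.{u}}

open Groth.L20.Pinch in
/-- The pushout of a thickening and an affine morphism over a base. -/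
theorem exists_pinch {Z X Y : Over S} (i : Z ⟶ X) (j : Z ⟶ Y) [IsClosedImmersion i.left] [Surjective i.left]
    [IsAffineHom j.left] :
    ∃ (P : Over S) (a : X ⟶ P) (b : Y ⟶ P), IsPinch i.left j.left a.left b.left ∧ IsPushout i j a b ∧
      IsClosedImmersion b.left ∧ Surjective b.left := by
  obtain ⟨P, a, b, h⟩ := (std_of_thickening (i := i.left) (j := j.left) ‹Surjective i.left›.surj).exists_isPinch
  obtain ⟨p, hpa, hpb⟩ := h.exists_desc X.hom Y.hom ((Over.w i).trans (Over.w j).symm)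
  let P' : Over S := Over.mk p
  let a' : X ⟶ P' := Over.homMk a hpa
  let b' : Y ⟶ P' := Over.homMk b hpb
  exact ⟨P', a', b', h, IsPushout.of_map (Over.forget S) (Over.OverMorphism.ext h.comm) h.isPushout,
    h.isClosedImmersion_b, ⟨h.surjective_b ‹Surjective i.left›.surj⟩⟩

/-- Flat base change of a pinched square over a base. -/
theorem isPushout_flat {Z X Y P Q Q2 Q1 Q0 : Over S} {i : Z ⟶ X} {j : Z ⟶ Y} {a : X ⟶ P} {b : Y ⟶ P}
    [IsClosedImmersion i.left] (h : Groth.L20.Pinch.IsPinch i.left j.left a.left b.left)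
    {v : Q ⟶ P} [Flat v.left] {pr2 : Q2 ⟶ Q} {q2 : Q2 ⟶ X} {pr1 : Q1 ⟶ Q} {q1 : Q1 ⟶ Y}
    {l2 : Q0 ⟶ Q2} {l1 : Q0 ⟶ Q1} {q0 : Q0 ⟶ Z}
    (h1 : IsPullback pr1 q1 v b) (h2 : IsPullback pr2 q2 v a)
    (h02 : IsPullback l2 q0 q2 i) (h01 : l1 ≫ q1 = q0 ≫ j) (hl : l2 ≫ pr2 = l1 ≫ pr1) :
    IsPushout l2 l1 pr2 pr1 :=
  IsPushout.of_map (Over.forget S) hl
    (PinchFlat.isPushout_of_flat (v := v.left) h (h1.map (Over.forget S)) (h2.map (Over.forget S))
      ((h02.paste_horiz h2).map (Over.forget S)) (congrArg CommaMorphism.left hl)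
      (congrArg CommaMorphism.left h01) (congrArg CommaMorphism.left h02.w))

/-- A morphism of graphs whose squares are cartesian gives cartesian squares on composable pairs. -/
theorem isPullback_pairs {R U R' U' : Over S} {s t : R ⟶ U} {s' t' : R' ⟶ U'} {m : R ⟶ R'} {n : U ⟶ U'}
    (hs : IsPullback m s s' n) (ht : IsPullback m t t' n) :
    IsPullback (pullback.map s t s' t' m m n hs.w.symm ht.w.symm) (pullback.fst s t) (pullback.fst s' t') m := by
  refine IsPullback.of_right (h₁₂ := pullback.snd s' t') ?_ (pullback.lift_fst _ _ _)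
    (IsPullback.of_hasPullback s' t').flip
  rw [show pullback.map s t s' t' m m n hs.w.symm ht.w.symm ≫ pullback.snd s' t' = pullback.snd s t ≫ m from
    pullback.lift_snd _ _ _, hs.w]
  exact (IsPullback.of_hasPullback s t).flip.paste_horiz ht

variable {Z X Y P RZ RX RY RP : Over S} {i : Z ⟶ X} {j : Z ⟶ Y} {a : X ⟶ P} {b : Y ⟶ P}
  {i' : RZ ⟶ RX} {j' : RZ ⟶ RY} {a' : RX ⟶ RP} {b' : RY ⟶ RP}
  {sZ tZ : RZ ⟶ Z} {sX tX : RX ⟶ X} {sY tY : RY ⟶ Y} {sP tP : RP ⟶ P}

open Groth.L20.Pinch in
/-- The map induced on pushouts by étale maps with cartesian squares is étale, with cartesian squares. -/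
theorem etale_and_cartesian [IsClosedImmersion i.left] [IsClosedImmersion i'.left]
    (hP : IsPinch i.left j.left a.left b.left) (hR : IsPinch i'.left j'.left a'.left b'.left)
    [Etale sX.left] [Etale sY.left]
    (h2 : IsPullback i' sZ sX i) (h1 : IsPullback j' sZ sY j) (ha : a' ≫ sP = sX ≫ a) (hb : b' ≫ sP = sY ≫ b) :
    Etale sP.left ∧ IsPullback a' sX sP a ∧ IsPullback b' sY sP b := by
  have hX := (h2.map (Over.forget S)).flip
  have hY := (h1.map (Over.forget S)).flip
  have ha' := congrArg CommaMorphism.left ha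
  have hb' := congrArg CommaMorphism.left hb
  refine ⟨hP.property_k hR hX hY ha' hb' (Q := @Etale) (fun o _ => inferInstance)
      fun k0 k1 ho => (ho.isRelFib hX hY).conclusion.2.2.2.2.2
        (HasRingHomProperty.appLE @Etale sY.left ‹_› ⟨_, k0.hV⟩ ⟨_, k1.hV⟩ ho.leV)
        (HasRingHomProperty.appLE @Etale sX.left ‹_› ⟨_, k0.hU⟩ ⟨_, k1.hU⟩ ho.leU), ?_, ?_⟩
  · exact IsPullback.of_map (Over.forget S) ha (hP.isPullback_relX hR hX hY ha' hb').flip
  · exact IsPullback.of_map (Over.forget S) hb (hP.isPullback_relY hR hX hY ha' hb').flip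

open Groth.L20.Pinch in
/-- The pushout of étale equivalence relations along a thickening is an étale equivalence relation. -/
theorem isEtaleEqvRel (hZ : IsEtaleEqvRel sZ tZ) (hX : IsEtaleEqvRel sX tX) (hY : IsEtaleEqvRel sY tY)
    [IsClosedImmersion i.left] [Surjective i.left] [IsClosedImmersion i'.left]
    [IsClosedImmersion b.left] [Surjective b.left]
    (hP : IsPinch i.left j.left a.left b.left) (hpo : IsPushout i j a b)
    (hR : IsPinch i'.left j'.left a'.left b'.left) (hpo' : IsPushout i' j' a' b')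
    (hs2 : IsPullback i' sZ sX i) (hs1 : IsPullback j' sZ sY j) (ht2 : IsPullback i' tZ tX i)
    (ht1 : IsPullback j' tZ tY j)
    (hsa : a' ≫ sP = sX ≫ a) (hsb : b' ≫ sP = sY ≫ b) (hta : a' ≫ tP = tX ≫ a) (htb : b' ≫ tP = tY ≫ b) :
    IsEtaleEqvRel sP tP := by
  have := hX.etale_left; have := hX.etale_right; have := hY.etale_left; have := hY.etale_right
  obtain ⟨hse, hsA, hsB⟩ := etale_and_cartesian hP hR hs2 hs1 hsa hsb
  obtain ⟨hte, htA, htB⟩ := etale_and_cartesian hP hR ht2 ht1 hta htb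
  have := hse; have := hte
  refine ⟨⟨fun T x y e₁ e₂ => ?_, fun T => ⟨fun x => ?_, ?_, ?_⟩⟩, hse, hte⟩
  · -- two sections agreeing on the closed subspace agree
    have sq : IsPullback (pullback.fst (x ≫ tP) b) (pullback.snd (x ≫ tP) b) (x ≫ tP) b := IsPullback.of_hasPullback _ _
    let α := htB.lift (pullback.fst (x ≫ tP) b ≫ x) (pullback.snd (x ≫ tP) b) (by rw [Category.assoc, sq.w])
    let β := htB.lift (pullback.fst (x ≫ tP) b ≫ y) (pullback.snd (x ≫ tP) b) (by rw [Category.assoc, ← e₁, sq.w])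
    have : Mono b.left := inferInstance
    have : Mono b := Over.mono_of_mono_left b
    have hαβ : α = β := hY.injective _ α β (by rw [htB.lift_snd, htB.lift_snd]) (by
      rw [← cancel_mono b, Category.assoc, Category.assoc, ← hsb, htB.lift_fst_assoc, htB.lift_fst_assoc,
        Category.assoc, Category.assoc, e₂])
    have hxy : pullback.fst (x ≫ tP) b ≫ x = pullback.fst (x ≫ tP) b ≫ y := by
      rw [← htB.lift_fst (pullback.fst (x ≫ tP) b ≫ x) _ (by rw [Category.assoc, sq.w]),
        show htB.lift _ _ _ = β from hαβ, htB.lift_fst]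
    let U : Over P.left := Over.mk tP.left
    let T' : Over P.left := Over.mk (x.left ≫ tP.left)
    have : Etale U.hom := hte
    let x' : T' ⟶ U := Over.homMk x.left rfl
    let y' : T' ⟶ U := Over.homMk y.left (congrArg CommaMorphism.left e₁).symm
    suffices hx : x' = y' from Over.OverMorphism.ext (congrArg CommaMorphism.left hx : x'.left = y'.left)
    apply (Groth.Agent.S0117.result b.left U T').1
    refine Over.OverMorphism.ext (pullback.hom_ext ?_ ?_)
    · refine (pullback.lift_fst _ _ _).trans (Eq.trans ?_ (pullback.lift_fst _ _ _).symm)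
      have hsq := (sq.map (Over.forget S))
      have := congrArg (hsq.isoPullback.inv ≫ ·) (congrArg CommaMorphism.left hxy)
      simp only [Over.comp_left] at this
      erw [hsq.isoPullback_inv_fst_assoc, hsq.isoPullback_inv_fst_assoc] at this
      exact this
    · exact (pullback.lift_snd _ _ _).trans (pullback.lift_snd _ _ _).symm
  · -- reflexivity
    obtain ⟨dY, hdY₁, hdY₂⟩ := (hY.equivalence Y).refl (𝟙 Y)
    obtain ⟨dX, hdX₁, hdX₂⟩ := (hX.equivalence X).refl (𝟙 X)
    obtain ⟨dZ, hdZ₁, hdZ₂⟩ := (hZ.equivalence Z).refl (𝟙 Z)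
    have cx : i ≫ dX = dZ ≫ i' := hX.injective _ _ _
      (by rw [Category.assoc, hdX₁, Category.assoc, ht2.w, reassoc_of% hdZ₁, Category.comp_id])
      (by rw [Category.assoc, hdX₂, Category.assoc, hs2.w, reassoc_of% hdZ₂, Category.comp_id])
    have cy : j ≫ dY = dZ ≫ j' := hY.injective _ _ _
      (by rw [Category.assoc, hdY₁, Category.assoc, ht1.w, reassoc_of% hdZ₁, Category.comp_id])
      (by rw [Category.assoc, hdY₂, Category.assoc, hs1.w, reassoc_of% hdZ₂, Category.comp_id])
    let d := hpo.desc (dX ≫ a') (dY ≫ b') (by rw [reassoc_of% cx, reassoc_of% cy, hpo'.w])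
    refine ⟨x ≫ d, ?_, ?_⟩
    · have : d ≫ tP = 𝟙 P := hpo.hom_ext
        (by rw [hpo.inl_desc_assoc, Category.assoc, hta, reassoc_of% hdX₁, Category.comp_id])
        (by rw [hpo.inr_desc_assoc, Category.assoc, htb, reassoc_of% hdY₁, Category.comp_id])
      rw [Category.assoc, this, Category.comp_id]
    · have : d ≫ sP = 𝟙 P := hpo.hom_ext
        (by rw [hpo.inl_desc_assoc, Category.assoc, hsa, reassoc_of% hdX₂, Category.comp_id])
        (by rw [hpo.inr_desc_assoc, Category.assoc, hsb, reassoc_of% hdY₂, Category.comp_id])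
      rw [Category.assoc, this, Category.comp_id]
  · -- symmetry
    rintro p q ⟨k, rfl, rfl⟩
    obtain ⟨cY, hcY₁, hcY₂⟩ := (hY.equivalence RY).symm (x := tY) (y := sY) ⟨𝟙 _, by simp, by simp⟩
    obtain ⟨cX, hcX₁, hcX₂⟩ := (hX.equivalence RX).symm (x := tX) (y := sX) ⟨𝟙 _, by simp, by simp⟩
    obtain ⟨cZ, hcZ₁, hcZ₂⟩ := (hZ.equivalence RZ).symm (x := tZ) (y := sZ) ⟨𝟙 _, by simp, by simp⟩
    have cx : i' ≫ cX = cZ ≫ i' := hX.injective _ _ _
      (by rw [Category.assoc, hcX₁, Category.assoc, ht2.w, reassoc_of% hcZ₁, hs2.w])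
      (by rw [Category.assoc, hcX₂, Category.assoc, hs2.w, reassoc_of% hcZ₂, ht2.w])
    have cy : j' ≫ cY = cZ ≫ j' := hY.injective _ _ _
      (by rw [Category.assoc, hcY₁, Category.assoc, ht1.w, reassoc_of% hcZ₁, hs1.w])
      (by rw [Category.assoc, hcY₂, Category.assoc, hs1.w, reassoc_of% hcZ₂, ht1.w])
    let σ := hpo'.desc (cX ≫ a') (cY ≫ b') (by rw [reassoc_of% cx, reassoc_of% cy, hpo'.w])
    refine ⟨k ≫ σ, ?_, ?_⟩
    · have : σ ≫ tP = sP := hpo'.hom_ext
        (by rw [hpo'.inl_desc_assoc, Category.assoc, hta, reassoc_of% hcX₁, hsa])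
        (by rw [hpo'.inr_desc_assoc, Category.assoc, htb, reassoc_of% hcY₁, hsb])
      rw [Category.assoc, this]
    · have : σ ≫ sP = tP := hpo'.hom_ext
        (by rw [hpo'.inl_desc_assoc, Category.assoc, hsa, reassoc_of% hcX₂, hta])
        (by rw [hpo'.inr_desc_assoc, Category.assoc, hsb, reassoc_of% hcY₂, htb])
      rw [Category.assoc, this]
  · -- transitivity: the composable pairs are again a pushout
    rintro p q r ⟨k, rfl, hk⟩ ⟨l, hl, rfl⟩
    let mY := pullback.map sY tY sP tP b' b' b hsb.symm htb.symm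
    let mX := pullback.map sX tX sP tP a' a' a hsa.symm hta.symm
    let l2 := pullback.map sZ tZ sX tX i' i' i hs2.w.symm ht2.w.symm
    let l1 := pullback.map sZ tZ sY tY j' j' j hs1.w.symm ht1.w.symm
    have hml : l2 ≫ mX = l1 ≫ mY := pullback.hom_ext
      (by simp only [l1, l2, mX, mY, Category.assoc, pullback.map, pullback.lift_fst]
          rw [pullback.lift_fst_assoc, pullback.lift_fst_assoc, Category.assoc, Category.assoc, hpo'.w])
      (by simp only [l1, l2, mX, mY, Category.assoc, pullback.map, pullback.lift_snd]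
          rw [pullback.lift_snd_assoc, pullback.lift_snd_assoc, Category.assoc, Category.assoc, hpo'.w])
    have hv : Flat (pullback.fst sP tP ≫ tP).left := by
      have : Etale (pullback.fst sP tP).left := MorphismProperty.of_isPullback
        (P := (@Etale : MorphismProperty Scheme.{u})) ((IsPullback.of_hasPullback sP tP).flip.map (Over.forget S)) hte
      rw [Over.comp_left]; infer_instance
    have hp1 : IsPullback mY (pullback.fst sY tY ≫ tY) (pullback.fst sP tP ≫ tP) b :=
      (isPullback_pairs hsB htB).paste_vert htB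
    have hp2 : IsPullback mX (pullback.fst sX tX ≫ tX) (pullback.fst sP tP ≫ tP) a :=
      (isPullback_pairs hsA htA).paste_vert htA
    have hp0 : IsPullback l2 (pullback.fst sZ tZ ≫ tZ) (pullback.fst sX tX ≫ tX) i :=
      (isPullback_pairs hs2 ht2).paste_vert ht2
    have h01 : l1 ≫ pullback.fst sY tY ≫ tY = (pullback.fst sZ tZ ≫ tZ) ≫ j :=
      ((isPullback_pairs hs1 ht1).paste_vert ht1).w
    have hq := isPushout_flat hP hp1 hp2 hp0 h01 hml
    obtain ⟨nY, hnY₁, hnY₂⟩ := (hY.equivalence _).trans (x := pullback.fst sY tY ≫ tY)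
      (y := pullback.fst sY tY ≫ sY) (z := pullback.snd sY tY ≫ sY) ⟨_, rfl, rfl⟩ ⟨_, pullback.condition.symm, rfl⟩
    obtain ⟨nX, hnX₁, hnX₂⟩ := (hX.equivalence _).trans (x := pullback.fst sX tX ≫ tX)
      (y := pullback.fst sX tX ≫ sX) (z := pullback.snd sX tX ≫ sX) ⟨_, rfl, rfl⟩ ⟨_, pullback.condition.symm, rfl⟩
    obtain ⟨nZ, hnZ₁, hnZ₂⟩ := (hZ.equivalence _).trans (x := pullback.fst sZ tZ ≫ tZ)
      (y := pullback.fst sZ tZ ≫ sZ) (z := pullback.snd sZ tZ ≫ sZ) ⟨_, rfl, rfl⟩ ⟨_, pullback.condition.symm, rfl⟩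
    have el1 : l1 ≫ pullback.snd sY tY = pullback.snd sZ tZ ≫ j' := pullback.lift_snd _ _ _
    have el2 : l2 ≫ pullback.snd sX tX = pullback.snd sZ tZ ≫ i' := pullback.lift_snd _ _ _
    have cx : l2 ≫ nX = nZ ≫ i' := hX.injective _ _ _
      (by rw [Category.assoc, hnX₁, hp0.w, Category.assoc nZ, ht2.w, reassoc_of% hnZ₁, Category.assoc])
      (by rw [Category.assoc, hnX₂, reassoc_of% el2, hs2.w, Category.assoc nZ, hs2.w, reassoc_of% hnZ₂])
    have cy : l1 ≫ nY = nZ ≫ j' := hY.injective _ _ _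
      (by rw [Category.assoc, hnY₁, h01, Category.assoc nZ, ht1.w, reassoc_of% hnZ₁, Category.assoc])
      (by rw [Category.assoc, hnY₂, reassoc_of% el1, hs1.w, Category.assoc nZ, hs1.w, reassoc_of% hnZ₂])
    let μ := hq.desc (nX ≫ a') (nY ≫ b') (by rw [reassoc_of% cx, reassoc_of% cy, hpo'.w])
    have eX : mX ≫ pullback.snd sP tP = pullback.snd sX tX ≫ a' := pullback.lift_snd _ _ _
    have eY : mY ≫ pullback.snd sP tP = pullback.snd sY tY ≫ b' := pullback.lift_snd _ _ _
    refine ⟨pullback.lift k l (hk.trans hl.symm) ≫ μ, ?_, ?_⟩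
    · have : μ ≫ tP = pullback.fst sP tP ≫ tP := hq.hom_ext
        (by rw [hq.inl_desc_assoc, Category.assoc, hta, reassoc_of% hnX₁, hp2.w, Category.assoc])
        (by rw [hq.inr_desc_assoc, Category.assoc, htb, reassoc_of% hnY₁, hp1.w, Category.assoc])
      rw [Category.assoc, this, pullback.lift_fst_assoc]
    · have : μ ≫ sP = pullback.snd sP tP ≫ sP := hq.hom_ext
        (by rw [hq.inl_desc_assoc, Category.assoc, hsa, reassoc_of% hnX₂, reassoc_of% eX, hsa])
        (by rw [hq.inr_desc_assoc, Category.assoc, hsb, reassoc_of% hnY₂, reassoc_of% eY, hsb])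
      rw [Category.assoc, this, pullback.lift_snd_assoc]

end Groth.L23.PinchOver
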