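import Groth.Prelude.Def_AlgSpOX2
import Mathlib.Algebra.Category.ModuleCat.Sheaf.PushforwardContinuous

/-!
# Restriction along an etale representable morphism
-/

universe u

open CategoryTheory CategoryTheory.Limits AlgebraicGeometry AlgSp Opposite

set_option autoImplicit false
set_option linter.style.haveILetI false
set_option backward.isDefEq.respectTransparency false
set_option backward.isDefEq.respectTransparency.types false

namespace Groth.L23.PostAdj

variable {S : Scheme.{u}} {X Y : Sp S} (f : X ⟶ Y) (hf : IsEtaleMor f)

/-- A square of the small etale site which is a pullback of schemes over the base is a pullback. -/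
theorem isPullback_of_forget {Z : Sp S} {P A B C : EtOver Z} {p : P ⟶ A} {q : P ⟶ B} {a : A ⟶ C} {b : B ⟶ C}
    (h : IsPullback p.hom.left q.hom.left a.hom.left b.hom.left) : IsPullback p q a b := by
  have w : p ≫ a = q ≫ b := EtOver.hom_ext _ _ h.w
  refine ⟨⟨w⟩, ⟨PullbackCone.IsLimit.mk w
    (fun s => EtOver.homMk (h.lift s.fst.hom.left s.snd.hom.left
      (congrArg (fun m => m.hom.left) s.condition)) (by
        rw [← EtOver.w p, ← Functor.map_comp_assoc, h.lift_fst, EtOver.w s.fst]))
    (fun s => EtOver.hom_ext _ _ (h.lift_fst _ _ _)) (fun s => EtOver.hom_ext _ _ (h.lift_snd _ _ _))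
    (fun s m h₁ h₂ => EtOver.hom_ext _ _ (h.hom_ext
      ((congrArg (fun k => k.hom.left) h₁).trans (h.lift_fst _ _ _).symm)
      ((congrArg (fun k => k.hom.left) h₂).trans (h.lift_snd _ _ _).symm)))⟩⟩

instance preservesPullbacks_postcomp : PreservesLimitsOfShape WalkingCospan (EtOver.postcomp f hf) where
  preservesLimit {K} := by
    have : PreservesLimit (cospan (K.map WalkingCospan.Hom.inl) (K.map WalkingCospan.Hom.inr)) (EtOver.postcomp f hf) := by
      refine preservesLimit_of_preserves_limit_cone
        (EtOver.isPullback (K.map WalkingCospan.Hom.inl) (K.map WalkingCospan.Hom.inr)).isLimit ?_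
      exact (isLimitMapConePullbackConeEquiv _ (EtOver.isPullback (K.map WalkingCospan.Hom.inl) (K.map WalkingCospan.Hom.inr)).w).symm (isPullback_of_forget (IsPullback.of_hasPullback
        (K.map WalkingCospan.Hom.inl).hom.left (K.map WalkingCospan.Hom.inr).hom.left)).isLimit
    exact preservesLimit_of_iso_diagram _ (diagramIsoCospan K).symm

instance postcomp_isContinuous : (EtOver.postcomp f hf).IsContinuous (etTop X) (etTop Y) := by
  change (EtOver.postcomp f hf).IsContinuous (etPre X).toGrothendieck (etPre Y).toGrothendieck
  exact Functor.isContinuous_toGrothendieck_of_pullbacksPreservedBy _ _ _ (le_of_eq ((show etPre X = Scheme.etalePrecoverage.comap (EtOver.postcomp f hf ⋙ EtOver.toScheme Y) from rfl).trans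
    (Precoverage.comap_comp (EtOver.postcomp f hf) (EtOver.toScheme Y) Scheme.etalePrecoverage)))

variable (hrep : Representable f)

/-- `(U, a) ↦ (U, a ≫ f)` is left adjoint to base change. -/
noncomputable def adj : EtOver.postcomp f hf ⊣ EtOver.bc hrep :=
  Adjunction.mkOfHomEquiv
    { homEquiv := fun E F =>
        { toFun := fun g => EtOver.homMk (hrep.lift E.obj.hom g.hom.left (EtOver.w g).symm) (hrep.lift_fst _ _ _)
          invFun := fun k => EtOver.homMk (k.hom.left ≫ hrep.snd F.obj.hom) (by
            change (yon S).map (k.hom.left ≫ hrep.snd F.obj.hom) ≫ F.obj.hom = E.obj.hom ≫ f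
            rw [Functor.map_comp, Category.assoc, ← hrep.w, ← Category.assoc]
            exact congrArg (· ≫ f) (EtOver.w k))
          left_inv := fun g => EtOver.hom_ext _ _ (hrep.lift_snd _ _ _)
          right_inv := fun k => EtOver.hom_ext _ _ (hrep.hom_ext
            ((hrep.lift_fst _ _ _).trans (EtOver.w k).symm) (hrep.lift_snd _ _ _)) }
      homEquiv_naturality_left_symm := fun _ _ => EtOver.hom_ext _ _ (Category.assoc _ _ _)
      homEquiv_naturality_right := fun {E F F'} g h => EtOver.hom_ext _ _ (hrep.hom_ext
        ((hrep.lift_fst _ _ _).trans (by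
          change _ = (yon S).map (hrep.lift E.obj.hom g.hom.left _ ≫ (EtOver.bcMap hrep h).hom.left) ≫ _
          rw [Functor.map_comp, Category.assoc, EtOver.map_bcMap_fst, hrep.lift_fst]))
        ((hrep.lift_snd _ _ _).trans (by
          change g.hom.left ≫ h.hom.left = (hrep.lift E.obj.hom g.hom.left _ ≫ (EtOver.bcMap hrep h).hom.left) ≫ _
          rw [Category.assoc, EtOver.bcMap_snd, hrep.lift_snd_assoc]))) }

/-- The functions on an object are the functions on its image. -/
noncomputable def resRingHom :
    OEtRing X ⟶ ((EtOver.postcomp f hf).sheafPushforwardContinuous RingCat.{u + 1} (etTop X) (etTop Y)).obj (OEtRing Y) :=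
  ObjectProperty.homMk
    { app := fun E => 𝟙 _
      naturality := fun E E' g => (Category.comp_id _).trans (Category.id_comp _).symm }

/-- Restriction is left adjoint to direct image. -/
noncomputable def resPushAdj :
    SheafOfModules.pushforward.{u + 1} (resRingHom f hf) ⊣ pushModEt hrep :=
  SheafOfModules.pushforwardPushforwardAdj (adj f hf hrep) (resRingHom f hf) (bcRingHom hrep)
    (by
      ext E : 2
      change (BigSite.ORing Scheme.etalePrecoverage S).obj.map
        (((adj f hf hrep).counit.app E.unop).hom.left).op =
          (BigSite.ORing Scheme.etalePrecoverage S).obj.map (hrep.snd E.unop.obj.hom).op ≫ 𝟙 _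
      rw [Category.comp_id]
      exact congrArg (fun m => (BigSite.ORing Scheme.etalePrecoverage S).obj.map (Quiver.Hom.op m)) (Category.id_comp _))
    (by
      ext E : 2
      change 𝟙 _ ≫ (BigSite.ORing Scheme.etalePrecoverage S).obj.map (hrep.snd (E.unop.obj.hom ≫ f)).op ≫
        (BigSite.ORing Scheme.etalePrecoverage S).obj.map (((adj f hf hrep).unit.app E.unop).hom.left).op = 𝟙 _
      rw [Category.id_comp, ← Functor.map_comp, ← op_comp]
      exact (congrArg (fun m => (BigSite.ORing Scheme.etalePrecoverage S).obj.map (Quiver.Hom.op m))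
        (hrep.lift_snd _ _ _)).trans ((BigSite.ORing Scheme.etalePrecoverage S).obj.map_id _))

end Groth.L23.PostAdj
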