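import Groth.Agent.L09.SpLimit.Props
import Groth.Agent.L19.Limit.Proper
import Groth.Agent.L19.Limit.Finite
import Groth.Agent.L23.IntCover.Finite
import Groth.Agent.L23.RelSpec.Finite
import Groth.Agent.L23.DimZeroSpace
import Groth.Agent.L23.MorCalc

/-!
# Properness of morphisms of spaces descends along limits
-/

universe u

open CategoryTheory CategoryTheory.Limits AlgebraicGeometry AlgSp

set_option autoImplicit false
set_option linter.style.haveILetI false
set_option backward.isDefEq.respectTransparency false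
set_option backward.isDefEq.respectTransparency.types false

noncomputable section

namespace Groth.L23.ProperLimit

open Groth.L19.Limit Groth.L09.SpLimit

theorem descendsAffine_isProper : DescendsAffine @IsProper qcqsft.{u} := by
  intro I _ _ D c _ _ hc i X a ha hP
  haveI : QuasiCompact a := ha.1.1
  haveI : QuasiSeparated a := ha.1.2
  haveI : LocallyOfFiniteType a := ha.2
  haveI : CompactSpace X := QuasiCompact.compactSpace_of_compactSpace a
  haveI : QuasiSeparatedSpace X := quasiSeparatedSpace_of_quasiSeparated a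
  haveI : IsProper (pullback.fst (c.π.app i) a) := hP
  obtain ⟨j, hj⟩ := exists_isProper (f₀ := a) (g₀ := 𝟙 (D.obj i)) hc
    (qY := c.π.app i) (g := 𝟙 c.pt) (IsPullback.of_id_snd)
    (qX := pullback.snd (c.π.app i) a) (IsPullback.of_hasPullback (c.π.app i) a).flip
  refine ⟨j.left, j.hom, ?_⟩
  have h := (pb_iff_of_isPullback (isPullback_stageHom (D := D) a (𝟙 (D.obj i)) j)).1 hj
  have e : D.map j.hom = inv (pullback.fst (D.map j.hom) (𝟙 (D.obj i))) ≫ pullback.snd _ _ := by
    rw [IsIso.eq_inv_comp, pullback.condition, Category.comp_id]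
  rw [e]
  exact pb_comp _ h

theorem descends_isProper : Descends @IsProper qcqsft.{u} :=
  descends_of_affine descendsAffine_isProper

variable {S : Scheme.{u}}

/-- The base change of a chart with a cover of the pullback along it. -/
theorem chart_cover {B B' X₀ Y₀ X' Y' : Sp S} {f₀ : X₀ ⟶ Y₀} {b₀ : Y₀ ⟶ B} {g : B' ⟶ B}
    {f' : X' ⟶ Y'} {pY : Y' ⟶ Y₀} {qY : Y' ⟶ B'} (hY : IsPullback pY qY b₀ g)
    {pX : X' ⟶ X₀} (hX : IsPullback pX f' f₀ pY)
    {T Q : Over S} {p : (yon S).obj T ⟶ Y₀} {γ : (yon S).obj Q ⟶ pullback f₀ p} {h : Q ⟶ T}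
    (w : γ ≫ pullback.snd f₀ p = (yon S).map h) {W : Over S} {r : W ⟶ T} {l : (yon S).obj W ⟶ B'}
    (sql : IsPullback l ((yon S).map r) g (p ≫ b₀)) :
    ∃ (b : (yon S).obj W ⟶ Y') (m : pullback (pullback.snd f₀ p) ((yon S).map r) ⟶ X')
      (k : (yon S).obj (pullback h r) ⟶ pullback (pullback.snd f₀ p) ((yon S).map r)),
      IsPullback ((yon S).map r) b p pY ∧
      IsPullback m (pullback.snd (pullback.snd f₀ p) ((yon S).map r)) f' b ∧
      IsPullback ((yon S).map (pullback.fst h r)) k γ (pullback.fst (pullback.snd f₀ p) ((yon S).map r)) ∧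
      k ≫ pullback.snd (pullback.snd f₀ p) ((yon S).map r) = (yon S).map (pullback.snd h r) := by
  obtain ⟨b, a, sqb, sqa, wa⟩ := chart_bc hY hX (u := γ ≫ pullback.fst f₀ p) (h := h) (p := p)
    (by rw [Category.assoc, pullback.condition, ← w, Category.assoc]) sql
  have sqP := IsPullback.of_hasPullback f₀ p
  have sqn := IsPullback.of_hasPullback (pullback.snd f₀ p) ((yon S).map r)
  have sq₁ : IsPullback (pullback.fst (pullback.snd f₀ p) ((yon S).map r) ≫ pullback.fst f₀ p)
      (pullback.snd (pullback.snd f₀ p) ((yon S).map r)) f₀ (b ≫ pY) := sqb.w ▸ sqn.paste_horiz sqP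
  let m := hX.lift _ (pullback.snd (pullback.snd f₀ p) ((yon S).map r) ≫ b)
    (sq₁.w.trans (Category.assoc _ _ _).symm)
  have sq₂ : IsPullback m (pullback.snd (pullback.snd f₀ p) ((yon S).map r)) f' b :=
    IsPullback.of_right (by rw [hX.lift_fst]; exact sq₁) (hX.lift_snd _ _ _) hX
  let k : (yon S).obj (pullback h r) ⟶ pullback (pullback.snd f₀ p) ((yon S).map r) :=
    sqn.lift ((yon S).map (pullback.fst h r) ≫ γ) ((yon S).map (pullback.snd h r))
      (by rw [Category.assoc, w, ← Functor.map_comp, ← Functor.map_comp, pullback.condition])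
  have hk : k ≫ pullback.snd (pullback.snd f₀ p) ((yon S).map r) = (yon S).map (pullback.snd h r) :=
    sqn.lift_snd _ _ _
  refine ⟨b, m, k, sqb, sq₂, ?_, hk⟩
  refine IsPullback.of_bot ?_ (sqn.lift_fst _ _ _).symm sqn
  rw [w, hk]
  exact (IsPullback.of_hasPullback h r).map (yon S)

variable [QuasiSeparatedSpace S] {I : Type u} [SmallCategory I] [IsCofiltered I] {D : I ⥤ Sp S} {i₀ : I}
  {X₀ Y₀ : Sp S} {f₀ : X₀ ⟶ Y₀} {b₀ : Y₀ ⟶ D.obj i₀} {c : Cone D} {X Y : Sp S} {f : X ⟶ Y} {pX : X ⟶ X₀}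
  {pY : Y ⟶ Y₀} {qY : Y ⟶ c.pt}

omit [QuasiSeparatedSpace S] in
theorem repWith_finite_isFiniteType {A B : Sp S} {γ : A ⟶ B} (h : RepWith @IsFinite γ) :
    RepWith @LocallyOfFiniteType γ :=
  repWith_mono (fun φ (_ : IsFinite φ) => inferInstanceAs (LocallyOfFiniteType φ)) h

/-- A finite surjective cover by a scheme of the pullback to an affine chart of the target. -/
theorem exists_cover (H : Setup D c f₀ b₀ f pX pY qY) (hf₀ : LocP @LocallyOfFiniteType f₀) :
    ∃ (T Q : Over S) (p : (yon S).obj T ⟶ Y₀) (γ : (yon S).obj Q ⟶ pullback f₀ p) (h : Q ⟶ T),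
      IsAffine T.left ∧ RepWith @Etale p ∧ RepWith @Surjective p ∧ RepWith @IsFinite γ ∧
      RepWith @Surjective γ ∧ γ ≫ pullback.snd f₀ p = (yon S).map h ∧ qcqsft h.left := by
  obtain ⟨T, p, hT, hp, hps⟩ := Qs.exists_affine_atlas H.spY H.qcY
  haveI := hT
  have sq := IsPullback.of_hasPullback f₀ p
  have hP := isAlgSpace_of_isPullback H.spY.diag H.spX (IsAlgSpace.yon_obj T) sq
  have hPqc : IsQuasiCompactSp (pullback f₀ p) :=
    qcMor_of_qc_source (IsAlgSpace.yon_obj T) H.spY isQuasiCompactSp_of_compactSpace H.qsY p H.spX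
      H.qcX f₀ _ _ sq.flip
  have hTqs : IsQuasiSeparatedSp ((yon S).obj T) := by
    show RepWith _ _
    rw [repWith_diag_yon_iff]
    haveI : QuasiSeparated T.hom := .of_comp T.hom (terminal.from S)
    show QuasiCompact (pullback.diagonal T.hom)
    infer_instance
  have hPqs : IsQuasiSeparatedSp (pullback f₀ p) := isQuasiSeparatedSp_of_isPullback sq H.qsX H.qsY hTqs
  obtain ⟨U, v, hU, hv, hvs⟩ := Qs.exists_affine_atlas hP hPqc
  obtain ⟨Q, γ, hγ, hγs, -⟩ := IntCover.exists_scheme_finite ⟨_, hP⟩ hPqc hPqs v hv hvs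
  obtain ⟨h, hh⟩ := (yon S).map_surjective (γ ≫ pullback.snd f₀ p)
  have hγf : RepWith @IsFinite γ := isFiniteMor_iff.1 hγ
  refine ⟨T, Q, p, γ, h, hT, hp, hps, hγf, repWith_surjective_of_map hγf.1 hγs, hh.symm, ?_⟩
  have hQqs : IsQuasiSeparatedSp ((yon S).obj Q) :=
    qsSp_of_affine hPqs (repWith_mono (fun φ (_ : IsFinite φ) => inferInstanceAs (IsAffineHom φ)) hγf)
  have hQqc : IsQuasiCompactSp ((yon S).obj Q) :=
    isQuasiCompactMor_of_repWith (repWith_mono (fun φ (_ : IsFinite φ) => inferInstanceAs (QuasiCompact φ)) hγf)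
      hP hPqc (𝟙 _) (𝟙 _) _ IsPullback.of_id_fst
  haveI : CompactSpace Q.left := compactSpace_of_isQuasiCompactSp hQqc
  haveI : QuasiSeparatedSpace Q.left :=
    DimZero.quasiSeparatedSpace_of_iso hQqs (IsAlgSpace.yon_obj Q) Q (𝟙 _)
  have hl : LocP @LocallyOfFiniteType ((yon S).map h) := by
    rw [hh]
    exact locP_comp etLocal_lft (IsAlgSpace.yon_obj Q) hP (IsAlgSpace.yon_obj T)
      (locP_of_repWith etLocal_lft (repWith_finite_isFiniteType hγf))
      (locP_of_isPullback etLocal_lft H.spX H.spY (IsAlgSpace.yon_obj T) sq hf₀)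
  have hl' : LocallyOfFiniteType h.left :=
    hl (𝟙 _) (𝟙 _) h (repWith_id _ Q) (repWith_id _ T) (by simp)
  exact ⟨⟨quasiCompact_of_compactSpace h.left, QuasiSeparated.of_comp h.left (terminal.from T.left)⟩, hl'⟩

/-- Properness descends to a stage. -/
theorem stage_proper (H : Setup D c f₀ b₀ f pX pY qY) (hf₀ : LocP @LocallyOfFiniteType f₀)
    (hf : IsProperMor f) : Stage D f₀ b₀ IsProperMor := by
  obtain ⟨T, Q, p, γ, h, hT, hp, hps, hγf, hγs, w, hq⟩ := exists_cover H hf₀
  haveI := hT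
  obtain ⟨hc⟩ := H.isLimit
  obtain ⟨s⟩ := exists_sys H.isAffineMor hc (p ≫ b₀)
  have hT' := IsAlgSpace.yon_obj T
  have hP := isAlgSpace_of_isPullback H.spY.diag H.spX hT' (IsPullback.of_hasPullback f₀ p)
  haveI : ∀ W : Over S, IsAffine W.left → CompactSpace W.left := fun W _ => inferInstance
  have hprop : IsProper (pullback.snd h s.q).left := by
    obtain ⟨b, m, k, sqb, sq₂, sqk, hk⟩ := chart_cover H.sqY H.sqX w s.sql
    have hPk : IsAlgSpace (pullback (pullback.snd f₀ p) ((yon S).map s.q)) :=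
      isAlgSpace_of_isPullback hT'.diag hP (IsAlgSpace.yon_obj _) (IsPullback.of_hasPullback _ _)
    have hkp : RepWith @IsProper k := repWith_mono (fun φ (_ : IsFinite φ) => inferInstanceAs (IsProper φ))
      (repWith_of_isPullback sqk hγf)
    have hks := isProperMor_of_repWith hkp
    have hn₁ : IsSeparatedMor ((yon S).map (pullback.snd h s.q)) := by
      rw [← hk]; exact separated_comp hks.1 (separated_of_isPullback sq₂ hf.1)
    have hn₂ : IsUnivClosedMor ((yon S).map (pullback.snd h s.q)) := by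
      rw [← hk]; exact univClosed_comp hPk (IsAlgSpace.yon_obj _) hks.2.2 (univSp_of_isPullback sq₂ hf.2.2)
    have hr : Representable ((yon S).map (pullback.snd h s.q)) :=
      (IsAlgSpace.yon_obj _).representable_from_yon _
    haveI : IsSeparated (pullback.snd h s.q).left :=
      (repWith_yon_map_iff _ _).1 ((isSeparatedMor_iff hr).1 hn₁)
    haveI : UniversallyClosed (pullback.snd h s.q).left :=
      (repWith_yon_map_iff _ _).1 ((repWith_universallyClosed_iff hr).2 hn₂)
    haveI : LocallyOfFiniteType (pullback.snd h s.q).left :=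
      (pb_iff (P := @LocallyOfFiniteType) h s.q).2
        (MorphismProperty.pullback_fst (P := @LocallyOfFiniteType) _ _ hq.2)
    exact { }
  obtain ⟨j, hj⟩ := s.descend descends_isProper h.left hq ((pb_iff h s.q).1 hprop)
  refine ⟨j, fun κ ψ Xi Yi fi pYi qYi hYi pXi hXi => ?_⟩
  have hsp : IsProper (pullback.snd h (s.p κ)).left := (pb_iff h (s.p κ)).2 (hj κ ψ)
  obtain ⟨b, m, k, sqb, sq₂, sqk, hk⟩ := chart_cover hYi hXi w (s.sq κ)
  have sqn := IsPullback.of_hasPullback (pullback.snd f₀ p) ((yon S).map (s.p κ))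
  have hW := IsAlgSpace.yon_obj (s.W.obj κ)
  have hPk := isAlgSpace_of_isPullback hT'.diag hP hW sqn
  have hY' : IsAlgSpace Yi := isAlgSpace_of_isPullback (H.isAlgSpace i₀).diag H.spY (H.isAlgSpace κ.left) hYi
  have hX' : IsAlgSpace Xi := isAlgSpace_of_isPullback H.spY.diag H.spX hY' hXi
  have hks : IsProperMor k := isProperMor_of_repWith
    (repWith_mono (fun φ (_ : IsFinite φ) => inferInstanceAs (IsProper φ)) (repWith_of_isPullback sqk hγf))
  have hksurj : Function.Surjective (Points.map k) :=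
    surjective_map_of_repWith (repWith_of_isPullback sqk hγs)
  have hcomp : IsProperMor (k ≫ pullback.snd (pullback.snd f₀ p) ((yon S).map (s.p κ))) := by
    rw [hk]; exact isProperMor_of_repWith (repWith_map hsp)
  refine isProperMor_of_cover hX' hY' (repWith_of_isPullback sqb hp) (repWith_of_isPullback sqb hps) sq₂
    ⟨(separation_of_surjective_univClosed (IsAlgSpace.yon_obj _) hPk hW hksurj hks.2.2).2 hcomp.1,
      ⟨locP_of_isPullback etLocal_lft hP hT' hW sqn
        (locP_of_isPullback etLocal_lft H.spX H.spY hT' (IsPullback.of_hasPullback f₀ p) hf₀),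
       qcMor_of_surjective_comp hPk hW hcomp.2.1.2 hksurj⟩,
      univClosed_of_surjective_comp hcomp.2.2 hksurj⟩

end Groth.L23.ProperLimit
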