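import Groth.Agent.L23.SchImageQc

/-!
# Base change and support of scheme theoretic images
-/

universe u

open CategoryTheory CategoryTheory.Limits AlgebraicGeometry Opposite AlgSp TopologicalSpace

set_option autoImplicit false
set_option linter.style.haveILetI false
set_option backward.isDefEq.respectTransparency.types false

namespace Groth.L23.Img

variable {S : Scheme.{u}} {X F Z : Sp S}

theorem range_subset_closure_of_quasiCompact (hX : IsAlgSpace X) (hF : IsAlgSpace F) {f : F ⟶ X} {i : Z ⟶ X}
    (hq : IsQuasiCompactMor f) (h : IsSchImage f i) :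
    Set.range (Points.map i) ⊆ closure (Set.range (Points.map f)) := by
  obtain ⟨U, W, p, w, hwq, hG⟩ := exists_isGood_of_isQuasiCompactMor hF hX f hq
  obtain ⟨hp, hps, ⟨c, -, -, hwc⟩, -⟩ := id hG
  have sq := h.1.1.isPullback p
  haveI : IsClosedImmersion (h.1.1.snd p).left := repWith_snd h.1 p
  have hsupp : Set.range (h.1.1.snd p).left ⊆ (w.left.ker.support : Set U.left) := by
    rw [← ker_eq_of_isGood hX hG h]
    exact Scheme.Hom.range_subset_ker_support _
  have hw : Set.range w.left ⊆ Points.ofPt p ⁻¹' Set.range (Points.map f) := by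
    rintro _ ⟨y, rfl⟩
    refine ⟨Points.ofPt (c ≫ pullback.fst f p) y, ?_⟩
    rw [Points.map_ofPt, Category.assoc, pullback.condition, ← Category.assoc, ← hwc, ofPt_comp]
  rintro _ ⟨z, rfl⟩
  obtain ⟨z', rfl⟩ := surjective_ofPt (repWith_of_isPullback sq.flip hps) z
  rw [map_ofPt_of_isPullback sq]
  have hmem := hsupp ⟨z', rfl⟩
  haveI := hwq
  rw [Scheme.Hom.support_ker] at hmem
  exact closure_minimal (hw.trans (Set.preimage_mono subset_closure))
    (isClosed_closure.preimage (Points.continuous_ofPt p)) hmem

end Groth.L23.Img
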