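import Groth.Agent.L23.ProperImage
import Groth.Agent.L23.SchImageApps

/-!
# Scheme theoretic images of proper spaces
-/

universe u

open CategoryTheory CategoryTheory.Limits AlgebraicGeometry Opposite AlgSp TopologicalSpace

set_option autoImplicit false
set_option linter.style.haveILetI false
set_option backward.isDefEq.respectTransparency.types false

namespace Groth.L23.ProperImage

variable {S : Scheme.{u}} {X Y Z B : Sp S}

theorem schImage_of_proper (hX : IsAlgSpace X) (hY : IsAlgSpace Y) (hZ : IsAlgSpace Z) (hB : IsAlgSpace B)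
    {h : X ⟶ Y} {g : Y ⟶ B} (hf : IsProperMor (h ≫ g)) (hg : IsSeparatedMor g)
    (hg' : LocP @LocallyOfFiniteType g) {i : Z ⟶ Y} (hi : IsSchImage h i) {h' : X ⟶ Z} (fac : h' ≫ i = h) :
    IsProperMor (i ≫ g) ∧ Function.Surjective (Points.map h') := by
  have hh := isProperMor_of_comp_separated hX hY hB hf hg
  have hci := isProperMor_of_closedImmersion hi.1
  have hclosed : IsClosed (Set.range (Points.map h)) := by
    rw [← Set.image_univ]
    exact hh.2.2 hY (𝟙 Y) (𝟙 X) h (IsPullback.of_horiz_isIso ⟨by simp⟩) _ isClosed_univ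
  have hsurj : Function.Surjective (Points.map h') := fun z => by
    obtain ⟨x, hx⟩ := hclosed.closure_eq ▸
      Img.range_subset_closure_of_quasiCompact hY hX hh.2.1.2 hi ⟨z, rfl⟩
    refine ⟨x, injective_map_of_repWith (repWith_mono (Q := (@UniversallyInjective : MorphismProperty Scheme.{u}))
      (fun φ (hφ : IsClosedImmersion φ) => (inferInstance : UniversallyInjective φ)) hi.1) ?_⟩
    rw [← Points.map_comp, fac]
    exact hx
  refine ⟨?_, hsurj⟩
  refine isProperMor_of_jointly_surjective hZ hB (ι := PUnit.{1}) (fun _ => hX) (fun _ => h')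
    (fun z => ⟨⟨⟩, hsurj z⟩) (fun _ => univClosed_of_comp_separated hX hZ hY (fac ▸ hh.2.2) hci.1)
    (locP_comp etLocal_lft hZ hY hB hci.2.1.1 hg') fun _ => ?_
  rw [← Category.assoc, fac]
  exact hf

end Groth.L23.ProperImage
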