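import Groth.Prelude.Def_AlgSpGpd
import Groth.Agent.L23.QFPoints
import Groth.Agent.L09.Where.Unram

/-!
# Descending unramified and locally quasi-finite along surjective base changes, pseudo-torsors
-/

universe u

open CategoryTheory CategoryTheory.Limits AlgebraicGeometry AlgSp MonoidalCategory MonObj CartesianMonoidalCategory

set_option backward.isDefEq.respectTransparency.types false
set_option backward.isDefEq.respectTransparency false
set_option linter.style.haveILetI false

namespace Groth.L23.Torsor

variable {S : Scheme.{u}} {X Y Y' X' : Sp S}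

theorem locP_unr_descend (hX : IsAlgSpace X) (hY : IsAlgSpace Y) (hY' : IsAlgSpace Y') (hX' : IsAlgSpace X')
    {f : X ⟶ Y} {g : Y' ⟶ Y} {p : X' ⟶ X} {f' : X' ⟶ Y'} (sq : IsPullback p f' f g)
    (hf : LocP @LocallyOfFiniteType f) (hp : Function.Surjective (Points.map p))
    (h : LocP L09.Where.Unr f') : LocP L09.Where.Unr f := by
  refine (L09.Where.locP_unr_iff hX hY).2 fun x => ?_
  obtain ⟨x', rfl⟩ := hp x
  exact (L09.Where.unr_baseChange_iff hX hY hY hY' (q := 𝟙 Y) (g := g) (by rw [Category.comp_id]; exact hf)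
    (IsPullback.of_vert_isIso ⟨by simp⟩ : IsPullback g (𝟙 Y') (𝟙 Y) g) sq x').1
      ((L09.Where.locP_unr_iff hX' hY').1 h x')

theorem locP_lqf_descend (hX : IsAlgSpace X) (hY : IsAlgSpace Y) (hY' : IsAlgSpace Y') (hX' : IsAlgSpace X')
    {f : X ⟶ Y} {g : Y' ⟶ Y} {p : X' ⟶ X} {f' : X' ⟶ Y'} (sq : IsPullback p f' f g)
    (hf : LocP @LocallyOfFiniteType f) (hp : Function.Surjective (Points.map p))
    (h : LocP (@LocallyQuasiFinite ⊓ @LocallyOfFiniteType) f') :
    LocP (@LocallyQuasiFinite ⊓ @LocallyOfFiniteType) f := by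
  refine QFL.locP_of_hasAtMor fun x => ?_
  obtain ⟨x', rfl⟩ := hp x
  exact QFL.hasAtMor_descend hX hY hY' sq hf (QFL.hasAtMor_of_locP hX' hY' h x')

variable {B : Sp S} {G X : Over B} [GrpObj G] (a : GAction G X)

/-- The action square of a pseudo-torsor is cartesian. -/
theorem isPullback_act (ha : a.IsPseudoTorsor) :
    IsPullback a.act.left (snd G X).left X.hom X.hom := by
  have : IsIso (lift a.act (snd G X)) := ha
  have sq : IsPullback (fst X X).left (snd X X).left X.hom X.hom := IsPullback.of_hasPullback X.hom X.hom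
  have h1 : (lift a.act (snd G X)).left ≫ (fst X X).left = a.act.left := by
    rw [← Over.comp_left, lift_fst]
  have h2 : (lift a.act (snd G X)).left ≫ (snd X X).left = (snd G X).left := by
    rw [← Over.comp_left, lift_snd]
  exact sq.of_iso ((Over.forget B).mapIso (asIso (lift a.act (snd G X)))).symm (Iso.refl _) (Iso.refl _) (Iso.refl _)
    (by show _ ≫ 𝟙 _ = (inv (lift a.act (snd G X))).left ≫ a.act.left
        rw [Category.comp_id, ← Over.comp_left, IsIso.eq_inv_comp _ |>.2 (lift_fst a.act (snd G X))])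
    (by show _ ≫ 𝟙 _ = (inv (lift a.act (snd G X))).left ≫ (snd G X).left
        rw [Category.comp_id, ← Over.comp_left, IsIso.eq_inv_comp _ |>.2 (lift_snd a.act (snd G X))])
    (by simp) (by simp)

theorem surjective_act : Function.Surjective (Points.map a.act.left) := by
  intro x
  refine ⟨Points.map ((λ_ X).inv ≫ (η[G] ▷ X)).left x, ?_⟩
  rw [← Points.map_comp, ← Over.comp_left, Category.assoc, a.one_act, Iso.inv_hom_id, Over.id_left, Points.map_id]

theorem main (hB : IsAlgSpace B) (hG : IsAlgSpace G.left) (hX : IsAlgSpace X.left) (ha : a.IsPseudoTorsor)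
    (hXt : LocP @LocallyOfFiniteType X.hom) :
    (LocP L09.Where.Unr G.hom → LocP L09.Where.Unr X.hom) ∧
      (LocP (@LocallyQuasiFinite ⊓ @LocallyOfFiniteType) G.hom →
        LocP (@LocallyQuasiFinite ⊓ @LocallyOfFiniteType) X.hom) := by
  have sqG : IsPullback (fst G X).left (snd G X).left G.hom X.hom := IsPullback.of_hasPullback G.hom X.hom
  have hGX : IsAlgSpace (G ⊗ X).left := isAlgSpace_of_isPullback hB.diag hG hX sqG
  exact ⟨fun h => locP_unr_descend hX hB hX hGX (isPullback_act a ha) hXt (surjective_act a)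
      (locP_of_isPullback etLocal_unramified hG hB hX sqG h),
    fun h => locP_lqf_descend hX hB hX hGX (isPullback_act a ha) hXt (surjective_act a)
      (locP_of_isPullback etLocal_lqfLft hG hB hX sqG h)⟩

end Groth.L23.Torsor
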