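import Mathlib.RingTheory.Flat.Tensor
import Mathlib.RingTheory.Flat.FaithfullyFlat.Basic
import Mathlib.LinearAlgebra.TensorProduct.Tower

/-!
# Descent of flatness along universally injective ring maps
-/

universe u

open TensorProduct

namespace Groth.L23

variable {A B : Type u} [CommRing A] [CommRing B] [Algebra A B]

instance : IsScalarTower A B (CharacterModule B) :=
  ⟨fun a b c => CharacterModule.ext _ fun x => by
    show c ((a • b) • x) = c (b • a • x)
    rw [smul_assoc, smul_comm]⟩

variable (A B) in
/-- A `B`-module functorially containing an `A`-module. -/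
abbrev Envelope (L : Type u) [AddCommGroup L] [Module A L] : Type u :=
  CharacterModule L →ₗ[A] CharacterModule B

/-- Flatness descends along universally injective ring maps. -/
theorem flat_of_univInjective
    (h : ∀ (N : Type u) [AddCommGroup N] [Module A N],
      Function.Injective (fun n : N => (1 : B) ⊗ₜ[A] n))
    (M : Type u) [AddCommGroup M] [Module A M] [Module.Flat B (B ⊗[A] M)] : Module.Flat A M := by
  -- a section of the restriction `B⋆ → A⋆`
  have hι : Function.Injective ((Algebra.linearMap A B).rTensor (CharacterModule A)) := by
    intro x y e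
    have hx : ∀ z : A ⊗[A] CharacterModule A,
        (Algebra.linearMap A B).rTensor (CharacterModule A) z =
          (1 : B) ⊗ₜ[A] TensorProduct.lid A _ z := fun z => by
      induction z with
      | zero => simp
      | tmul a c =>
        simp [Algebra.algebraMap_eq_smul_one, TensorProduct.smul_tmul]
      | add z w hz hw => simp [hz, hw, tmul_add]
    rw [hx, hx] at e
    exact (TensorProduct.lid A _).injective (h _ e)
  obtain ⟨G, hG⟩ := rTensor_injective_iff_lcomp_surjective.1 hι
    { toFun := fun a =>
        { toFun := fun c => c a, map_zero' := rfl, map_add' := fun _ _ => rfl }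
      map_add' := fun a b => CharacterModule.ext _ fun c => map_add c a b
      map_smul' := fun r a => CharacterModule.ext _ fun c => rfl }
  let s : CharacterModule A →ₗ[A] CharacterModule B :=
    { toFun := fun c =>
        { toFun := fun b => G b c
          map_zero' := by rw [map_zero]; rfl
          map_add' := fun a b => by rw [map_add]; rfl }
      map_add' := fun c d => CharacterModule.ext _ fun b => map_add (G b) c d
      map_smul' := fun r c => CharacterModule.ext _ fun b => by
        show G b (r • c) = G (r • b) c
        exact (DFunLike.congr_fun (G.map_smul r b) c).symm }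
  have hs : ∀ (c : CharacterModule A), s c 1 = c 1 := fun c => by
    show G 1 c = c 1
    rw [← map_one (algebraMap A B)]
    exact DFunLike.congr_fun (LinearMap.congr_fun hG 1) c
  -- reduce to `B`-modules
  rw [Module.Flat.iff_rTensor_preserves_injective_linearMap']
  intro N N' _ _ _ _ f hf
  let Φf : Envelope A B N →ₗ[B] Envelope A B N' :=
    { toFun := fun g => g ∘ₗ CharacterModule.dual f
      map_add' := fun _ _ => rfl
      map_smul' := fun _ _ => rfl }
  have hΦf : Function.Injective Φf := fun g g' e => by
    refine LinearMap.ext fun c => ?_
    obtain ⟨c', rfl⟩ := CharacterModule.dual_surjective_of_injective f hf c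
    exact LinearMap.congr_fun e c'
  let η (L : Type u) [AddCommGroup L] [Module A L] : L →ₗ[A] Envelope A B L :=
    { toFun := fun n => s ∘ₗ CharacterModule.dual (LinearMap.toSpanSingleton A L n)
      map_add' := fun n m => LinearMap.ext fun c => by
        show s _ = s _ + s _
        rw [← map_add]
        refine congrArg s (CharacterModule.ext _ fun a => ?_)
        show c (a • (n + m)) = c (a • n) + c (a • m)
        rw [smul_add, map_add]
      map_smul' := fun r n => LinearMap.ext fun c => by
        show s _ = r • s _
        rw [← map_smul]
        refine congrArg s (CharacterModule.ext _ fun a => ?_)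
        show c (a • r • n) = c ((r • a) • n)
        rw [smul_smul, smul_eq_mul, mul_comm] }
  have hnat : η N' ∘ₗ f = (Φf.restrictScalars A) ∘ₗ η N := by
    refine LinearMap.ext fun n => LinearMap.ext fun c => ?_
    show s _ = s _
    refine congrArg s (CharacterModule.ext _ fun a => ?_)
    show c (a • f n) = c (f (a • n))
    rw [f.map_smul]
  have hη : Function.Injective ((η N).rTensor M) := by
    rw [rTensor_injective_iff_lcomp_surjective]
    intro g
    let gT : M →ₗ[A] CharacterModule N :=
      { toFun := fun m =>
          { toFun := fun n => g n m
            map_zero' := by rw [g.map_zero]; rfl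
            map_add' := fun a b => by rw [g.map_add]; rfl }
        map_add' := fun m m' => CharacterModule.ext _ fun n => map_add (g n) m m'
        map_smul' := fun r m => CharacterModule.ext _ fun n => by
          show g n (r • m) = g (r • n) m
          rw [g.map_smul]; rfl }
    refine ⟨
      { toFun := fun φ =>
          { toFun := fun m => φ (gT m) 1
            map_zero' := by rw [gT.map_zero, φ.map_zero]; rfl
            map_add' := fun m m' => by rw [gT.map_add, φ.map_add]; rfl }
        map_add' := fun φ ψ => rfl
        map_smul' := fun r φ => CharacterModule.ext _ fun m => by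
          show (r • φ) (gT m) 1 = φ (gT (r • m)) 1
          rw [gT.map_smul, φ.map_smul]
          rfl }, ?_⟩
    refine LinearMap.ext fun n => CharacterModule.ext _ fun m => ?_
    show s _ 1 = g n m
    rw [hs]
    show g ((1 : A) • n) m = g n m
    rw [one_smul]
  have hΦ : Function.Injective ((Φf.restrictScalars A).rTensor M) := by
    let e (L : Type u) [AddCommGroup L] [Module A L] :
        Envelope A B L ⊗[B] (B ⊗[A] M) ≃ₗ[B] Envelope A B L ⊗[A] M :=
      AlgebraTensorModule.cancelBaseChange A B B (Envelope A B L) M
    have h₁ : Function.Injective (Φf.rTensor (B ⊗[A] M)) :=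
      Module.Flat.rTensor_preserves_injective_linearMap Φf hΦf
    have h₂ : ∀ x, (Φf.restrictScalars A).rTensor M (e N x) = e N' (Φf.rTensor (B ⊗[A] M) x) := by
      intro x
      induction x with
      | zero => simp
      | tmul g z =>
        induction z with
        | zero => simp
        | tmul b m => simp [e]
        | add z w hz hw => simp only [tmul_add, map_add, hz, hw]
      | add z w hz hw => simp only [map_add, hz, hw]
    intro x y exy
    obtain ⟨x, rfl⟩ := (e N).surjective x
    obtain ⟨y, rfl⟩ := (e N).surjective y
    rw [h₂, h₂] at exy
    rw [h₁ ((e N').injective exy)]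
  intro x y exy
  apply hη
  apply hΦ
  have := congrArg ((η N').rTensor M) exy
  rw [← LinearMap.rTensor_comp_apply, ← LinearMap.rTensor_comp_apply, hnat] at this
  rwa [← LinearMap.rTensor_comp_apply, ← LinearMap.rTensor_comp_apply]

/-- Universally injective and flat after base change to itself implies faithfully flat. -/
theorem faithfullyFlat_of_univInjective
    (h : ∀ (N : Type u) [AddCommGroup N] [Module A N],
      Function.Injective (fun n : N => (1 : B) ⊗ₜ[A] n))
    [Module.Flat B (B ⊗[A] B)] : Module.FaithfullyFlat A B := by
  have := flat_of_univInjective h B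
  refine ⟨fun m hm e => hm.ne_top ((Ideal.eq_top_iff_one _).2 ?_)⟩
  have h1 : (1 : B) ⊗ₜ[A] (Ideal.Quotient.mk m 1) = 0 := by
    have : (1 : B) ∈ m • (⊤ : Submodule A B) := by rw [e]; exact Submodule.mem_top
    refine Submodule.smul_induction_on (p := fun b : B => b ⊗ₜ[A] Ideal.Quotient.mk m 1 = 0) this
      (fun r hr b _ => ?_) (fun x y hx hy => by rw [add_tmul, hx, hy, add_zero])
    rw [TensorProduct.smul_tmul, show r • Ideal.Quotient.mk m 1 = Ideal.Quotient.mk m r by
      rw [← Ideal.Quotient.mk_eq_mk, ← Submodule.Quotient.mk_smul, smul_eq_mul, mul_one]; rfl,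
      Ideal.Quotient.eq_zero_iff_mem.2 hr, tmul_zero]
  exact Ideal.Quotient.eq_zero_iff_mem.1 (h (A ⧸ m) (h1.trans (tmul_zero _ _).symm))

end Groth.L23
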