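import Groth.Agent.L23.FieldLimit
import Groth.Agent.L23.FpqcQuasiAffine
import Groth.Agent.L23.AvoidPoly
import Mathlib.RingTheory.Localization.Away.Basic

/-!
# Schemes after a purely transcendental extension
-/

universe u

open CategoryTheory CategoryTheory.Limits AlgebraicGeometry AlgSp Topology TensorProduct

set_option autoImplicit false
set_option backward.isDefEq.respectTransparency.types false
set_option linter.style.haveILetI false

noncomputable section

namespace Groth.L23.PureTr

open Groth.L23.GConn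

variable {k : Type u} [Field k]

/-- The chart of a product over a chart of the first factor. -/
def chartA {X : Sp (Spec (CommRingCat.of k))} {R : Type u} [CommRing R] [Algebra k R]
    (a : (yon (Spec (CommRingCat.of k))).obj (specA (k := k) R) ⟶ X) (B : Type u) [CommRing B] [Algebra k B] :
    (yon (Spec (CommRingCat.of k))).obj (specA (k := k) (R ⊗[k] B)) ⟶ X ⨯ (yon _).obj (specA (k := k) B) :=
  prod.lift ((yon (Spec (CommRingCat.of k))).map (specMor Algebra.TensorProduct.includeLeft) ≫ a)
    ((yon (Spec (CommRingCat.of k))).map (specMor Algebra.TensorProduct.includeRight))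

theorem isPullback_chartA {X : Sp (Spec (CommRingCat.of k))} {R : Type u} [CommRing R] [Algebra k R]
    (a : (yon (Spec (CommRingCat.of k))).obj (specA (k := k) R) ⟶ X) (B : Type u) [CommRing B] [Algebra k B] :
    IsPullback ((yon (Spec (CommRingCat.of k))).map (specMor Algebra.TensorProduct.includeLeft)) (chartA a B) a
      (prod.fst : X ⨯ (yon _).obj (specA (k := k) B) ⟶ X) := by
  have h0 := (isPullback_spec (k := k) R B Over.mkIdTerminal).map (yon (Spec (CommRingCat.of k)))
  refine IsPullback.mk' (by rw [chartA, prod.lift_fst]) (fun T l l' h1 h2 => h0.hom_ext h1 ?_) fun T c b e => ?_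
  · have h3 := congrArg (· ≫ prod.snd) h2
    simp only [Category.assoc, chartA] at h3
    rw [prod.lift_snd] at h3
    exact h3
  · obtain ⟨l, hl1, hl2⟩ := h0.exists_lift c (b ≫ prod.snd) ((isTerminalPt k).hom_ext _ _)
    refine ⟨l, hl1, prod.hom_ext ?_ ?_⟩
    · rw [chartA, Category.assoc, prod.lift_fst, ← Category.assoc, hl1, e]
    · rw [chartA, Category.assoc, prod.lift_snd, hl2]

theorem chartA_map {X : Sp (Spec (CommRingCat.of k))} {R : Type u} [CommRing R] [Algebra k R]
    (a : (yon (Spec (CommRingCat.of k))).obj (specA (k := k) R) ⟶ X) {B B' : Type u} [CommRing B] [Algebra k B]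
    [CommRing B'] [Algebra k B'] (σ : B →ₐ[k] B') :
    (yon (Spec (CommRingCat.of k))).map (specMor (Algebra.TensorProduct.map (AlgHom.id k R) σ)) ≫ chartA a B =
      chartA a B' ≫ prod.map (𝟙 X) ((yon (Spec (CommRingCat.of k))).map (specMor σ)) := by
  refine prod.hom_ext ?_ ?_
  · rw [Category.assoc, chartA, prod.lift_fst, Category.assoc, prod.map_fst, Category.comp_id, chartA,
      prod.lift_fst, ← Functor.map_comp_assoc, specMor_comp]
    congr 3
    exact AlgHom.ext fun r => by simp
  · rw [Category.assoc, chartA, prod.lift_snd, Category.assoc, prod.map_snd, chartA, prod.lift_snd_assoc,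
      ← Functor.map_comp, specMor_comp, ← Functor.map_comp, specMor_comp]
    congr 2

/-- An open subspace whose base change is quasi-affine consists of schematic points. -/
theorem schemePt_of_preimage_quasiAffine {k' : Type u} [Field k'] [Algebra k k']
    (X : Space (Spec (CommRingCat.of k))) {W : Set (Points X.obj)} (hWo : IsOpen W)
    {U : Over (Spec (CommRingCat.of k))} [U.left.IsQuasiAffine]
    (a : (yon (Spec (CommRingCat.of k))).obj U ⟶ X.obj ⨯ ext (k := k) k') (ha : RepWith @IsOpenImmersion a)
    (hr : Set.range (Points.map a) = Points.map (Limits.prod.fst : X.obj ⨯ ext (k := k) k' ⟶ _) ⁻¹' W)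
    {x : Points X.obj} (hx : x ∈ W) : SL.SchemePt x := by
  let S₀ := Spec (CommRingCat.of k)
  let O : TopologicalSpace.Opens (Points X.obj) := ⟨W, hWo⟩
  let j := openSubι O
  have hj : RepWith @IsOpenImmersion j := repWith_openSubι O
  have sqP := IsPullback.of_hasPullback j (Limits.prod.fst : X.obj ⨯ ext (k := k) k' ⟶ X.obj)
  have hq : RepWith @IsOpenImmersion (pullback.snd j (Limits.prod.fst : X.obj ⨯ ext (k := k) k' ⟶ X.obj)) :=
    repWith_of_isPullback sqP hj
  have hqr : Set.range (Points.map (pullback.snd j (Limits.prod.fst : X.obj ⨯ ext (k := k) k' ⟶ X.obj))) =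
      Set.range (Points.map a) := by
    rw [hr, range_fst_of_isPullback sqP.flip]
    exact congrArg _ (range_openSubι O)
  obtain ⟨g, hg⟩ := (exists_factor_iff hq a).2 hqr.ge
  obtain ⟨g', hg'⟩ := (exists_factor_iff ha _).2 hqr.le
  have := mono_of_repWith_openImmersion hq
  have := mono_of_repWith_openImmersion ha
  let e : (yon S₀).obj U ≅ pullback j (Limits.prod.fst : X.obj ⨯ ext (k := k) k' ⟶ X.obj) :=
    ⟨g, g', by rw [← cancel_mono a, Category.assoc, hg', hg, Category.id_comp],
      by rw [← cancel_mono (pullback.snd j _), Category.assoc, hg, hg', Category.id_comp]⟩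
  obtain ⟨u, hu⟩ := (yon S₀).map_surjective (a ≫ Limits.prod.snd)
  have sq0 := sqP.paste_vert (FieldDesc.isPullback_fst X.obj).flip
  have sq : IsPullback (e.hom ≫ pullback.fst j _) ((yon S₀).map u) (j ≫ (isTerminalPt k).from X.obj)
      ((yon S₀).map (FieldDesc.ptMap k k')) := by
    refine IsPullback.of_iso sq0 e.symm (Iso.refl _) (Iso.refl _) (Iso.refl _) ?_ ?_ ?_ ?_
    · simp only [Iso.symm_hom, Iso.refl_hom, Category.comp_id, Iso.inv_hom_id_assoc]
    · simp only [Iso.symm_hom, Iso.refl_hom, Category.comp_id]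
      rw [hu, ← hg, Category.assoc]
      exact (e.inv_hom_id_assoc _).symm
    · simp
    · simp only [Iso.refl_hom, Category.comp_id, Category.id_comp]; rfl
  haveI : IsAffine (Over.mk (Spec.map (CommRingCat.ofHom (algebraMap k k'))) :
      Over (Spec (CommRingCat.of k))).left := inferInstanceAs (IsAffine (Spec (CommRingCat.of k')))
  haveI : IsAffine (Over.mk (𝟙 (Spec (CommRingCat.of k))) : Over (Spec (CommRingCat.of k))).left :=
    inferInstanceAs (IsAffine (Spec (CommRingCat.of k)))
  haveI := FieldDesc.surjective_ptMap (k := k) (k' := k')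
  haveI := FieldDesc.flat_ptMap (k := k) (k' := k')
  obtain ⟨A, c, -, -, hc, -⟩ := exists_quasiAffine_of_fpqc_cover (isAlgSpace_openSub O X.property) _ sq
  haveI := hc
  obtain ⟨y, rfl⟩ : x ∈ Set.range (Points.map j) := by rw [range_openSubι]; exact hx
  obtain ⟨t, ht⟩ := (Points.schemeHomeo A).surjective (Points.map c y)
  refine ⟨A, inv c ≫ j, t, repWith_comp (repWith_of_isIso _) hj, ?_⟩
  rw [Points.ofPt_eq_map_ofScheme, Points.map_comp]
  refine congrArg (Points.map j) ?_
  rw [show Points.ofScheme A t = Points.map c y from ht, ← Points.map_comp, IsIso.hom_inv_id, Points.map_id]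

theorem isClosedMap_fst {k' : Type u} [Field k'] [Algebra k k'] [Algebra.IsAlgebraic k k']
    (X : Sp (Spec (CommRingCat.of k))) :
    IsClosedMap (Points.map (Limits.prod.fst : X ⨯ ext (k := k) k' ⟶ X)) := by
  have hp : IsIntegralHom (FieldDesc.ptMap k k').left := by
    rw [FieldDesc.ptMap_left]
    exact IsIntegralHom.SpecMap_iff.2 fun x => (Algebra.IsAlgebraic.isAlgebraic (R := k) x).isIntegral
  have h' : RepWith @IsIntegralHom (Limits.prod.fst : X ⨯ ext (k := k) k' ⟶ X) :=
    repWith_of_isPullback (FieldDesc.isPullback_fst X) (repWith_map hp)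
  refine isClosedMap_map_of_representable h'.1 (fun U g => ?_)
  have : IsIntegralHom (h'.1.snd g).left := repWith_snd h' g
  exact (h'.1.snd g).left.isClosedMap

theorem exists_num {L P B : Type u} [CommRing L] [Algebra k L] [CommRing P] [Algebra k P] [CommRing B] [Algebra k B]
    [Algebra P B] [IsScalarTower k P B] (f : P) [IsLocalization.Away f B] (h : L ⊗[k] B) :
    ∃ (n : ℕ) (g : L ⊗[k] P),
      Algebra.TensorProduct.map (AlgHom.id k L) (IsScalarTower.toAlgHom k P B) g =
        h * ((1 : L) ⊗ₜ[k] algebraMap P B f) ^ n := by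
  induction h using TensorProduct.induction_on with
  | zero => exact ⟨0, 0, by rw [map_zero, zero_mul]⟩
  | tmul l b =>
    obtain ⟨n, a, ha⟩ := IsLocalization.Away.surj f b
    refine ⟨n, l ⊗ₜ a, ?_⟩
    simp only [Algebra.TensorProduct.map_tmul, Algebra.TensorProduct.tmul_pow, one_pow,
      Algebra.TensorProduct.tmul_mul_tmul, mul_one, ha]
    rfl
  | add x y hx hy =>
    obtain ⟨n, g, hg⟩ := hx
    obtain ⟨m, g', hg'⟩ := hy
    refine ⟨n + m, g * (1 ⊗ₜ f) ^ m + g' * (1 ⊗ₜ f) ^ n, ?_⟩
    rw [map_add, map_mul, map_mul, map_pow, map_pow, hg, hg']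
    simp only [Algebra.TensorProduct.map_tmul, map_one, IsScalarTower.coe_toAlgHom']
    ring

theorem eval₂_equiv {ι L Ω kbar : Type u} [Field L] [Algebra k L] [Field Ω] [Algebra k Ω] [Field kbar]
    [Algebra k kbar] (χ : L ⊗[k] kbar →ₐ[k] Ω) (s : ι → kbar) (g : L ⊗[k] MvPolynomial ι k) :
    MvPolynomial.eval₂ (χ.comp Algebra.TensorProduct.includeLeft).toRingHom
        (fun i => χ.comp Algebra.TensorProduct.includeRight (s i)) (MvPolynomial.algebraTensorAlgEquiv k L g) =
      χ (Algebra.TensorProduct.map (AlgHom.id k L) (MvPolynomial.aeval s) g) := by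
  induction g using TensorProduct.induction_on with
  | zero => simp
  | tmul l p =>
    rw [MvPolynomial.algebraTensorAlgEquiv_tmul, MvPolynomial.smul_eq_C_mul, MvPolynomial.eval₂_mul,
      MvPolynomial.eval₂_C, MvPolynomial.eval₂_map, Algebra.TensorProduct.map_tmul]
    have h1 : l ⊗ₜ[k] MvPolynomial.aeval s p = (l ⊗ₜ[k] (1 : kbar)) * ((1 : L) ⊗ₜ[k] MvPolynomial.aeval s p) := by
      rw [Algebra.TensorProduct.tmul_mul_tmul, mul_one, one_mul]
    rw [AlgHom.coe_id, id, h1, map_mul]
    refine congrArg₂ (· * ·) rfl ?_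
    rw [show χ ((1 : L) ⊗ₜ[k] MvPolynomial.aeval s p) =
      (χ.comp Algebra.TensorProduct.includeRight) (MvPolynomial.aeval s p) from rfl, MvPolynomial.comp_aeval_apply,
      MvPolynomial.aeval_def]
    congr 1
    exact (χ.comp Algebra.TensorProduct.includeLeft).comp_algebraMap
  | add x y hx hy => rw [map_add, MvPolynomial.eval₂_add, hx, hy, map_add, map_add]

/-- A point of `Spec (L ⊗ k[ι]_f)` gives an algebraic point of `k[ι]_f` whose fibre avoids it. -/
theorem exists_specialization {ι L : Type u} [Field L] [Algebra k L] {f : MvPolynomial ι k} (hf : f ≠ 0)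
    (g₀ : L ⊗[k] Localization.Away f) {z₀ : PrimeSpectrum (L ⊗[k] Localization.Away f)} (hz₀ : g₀ ∉ z₀.asIdeal)
    (kbar : Type u) [Field kbar] [Algebra k kbar] [IsAlgClosure k kbar] :
    ∃ σ : Localization.Away f →ₐ[k] kbar, ∀ w : PrimeSpectrum (L ⊗[k] kbar),
      Algebra.TensorProduct.map (AlgHom.id k L) σ g₀ ∉ w.asIdeal := by
  let B := Localization.Away f
  obtain ⟨n, g, hg⟩ := exists_num (P := MvPolynomial ι k) f g₀
  have hu : IsUnit (((1 : L) ⊗ₜ[k] algebraMap (MvPolynomial ι k) B f) ^ n) := by
    refine IsUnit.pow _ ?_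
    exact (IsLocalization.Away.algebraMap_isUnit f).map
      (Algebra.TensorProduct.includeRight : B →ₐ[k] L ⊗[k] B)
  have hg0 : MvPolynomial.algebraTensorAlgEquiv k L g ≠ 0 := by
    intro h0
    rw [← map_zero (MvPolynomial.algebraTensorAlgEquiv k L)] at h0
    rw [(MvPolynomial.algebraTensorAlgEquiv k L).injective h0, map_zero] at hg
    refine hz₀ ?_
    rw [hu.mul_left_eq_zero.1 hg.symm]
    exact zero_mem _
  obtain ⟨s, hs, hav⟩ := Avoid.exists_avoiding kbar hf hg0
  let σ : B →ₐ[k] kbar := IsLocalization.liftAlgHom (M := Submonoid.powers f)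
    (f := MvPolynomial.aeval s) (by
      rintro ⟨_, n, rfl⟩
      rw [map_pow]
      exact (isUnit_iff_ne_zero.2 hs).pow n)
  have hσ : σ.comp (IsScalarTower.toAlgHom k (MvPolynomial ι k) B) = MvPolynomial.aeval s :=
    AlgHom.ext fun p => IsLocalization.lift_eq _ p
  refine ⟨σ, fun w hmem => ?_⟩
  let Ω := w.asIdeal.ResidueField
  let χ : L ⊗[k] kbar →ₐ[k] Ω := IsScalarTower.toAlgHom k (L ⊗[k] kbar) Ω
  refine hav Ω (χ.comp Algebra.TensorProduct.includeLeft) (χ.comp Algebra.TensorProduct.includeRight) ?_
  rw [eval₂_equiv, ← hσ]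
  have h2 : Algebra.TensorProduct.map (AlgHom.id k L) (σ.comp (IsScalarTower.toAlgHom k (MvPolynomial ι k) B)) g =
      Algebra.TensorProduct.map (AlgHom.id k L) σ
        (Algebra.TensorProduct.map (AlgHom.id k L) (IsScalarTower.toAlgHom k (MvPolynomial ι k) B) g) := by
    rw [← AlgHom.comp_apply (Algebra.TensorProduct.map (AlgHom.id k L) σ), ← Algebra.TensorProduct.map_comp,
      AlgHom.comp_id]
  rw [h2, hg, map_mul, map_mul,
    show χ (Algebra.TensorProduct.map (AlgHom.id k L) σ g₀) = 0 from Ideal.algebraMap_residueField_eq_zero.2 hmem,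
    zero_mul]

/-- A point whose geometric fibre lies in an affine open of the base change is schematic. -/
theorem schemePt_of_affine_fibre {k' : Type u} [Field k'] [Algebra k k'] [Algebra.IsAlgebraic k k']
    (X : Space (Spec (CommRingCat.of k))) {x : Points X.obj} {U' : Over (Spec (CommRingCat.of k))} [IsAffine U'.left]
    (a' : (yon (Spec (CommRingCat.of k))).obj U' ⟶ X.obj ⨯ ext (k := k) k') (ha' : RepWith @IsOpenImmersion a')
    (hfib : ∀ z, Points.map (Limits.prod.fst : X.obj ⨯ ext (k := k) k' ⟶ X.obj) z = x →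
      z ∈ Set.range (Points.map a')) : SL.SchemePt x := by
  let S₀ := Spec (CommRingCat.of k)
  let P₂ := Points.map (Limits.prod.fst : X.obj ⨯ ext (k := k) k' ⟶ X.obj)
  have hopa : IsOpenMap (Points.map a') :=
    isOpenMap_map_of_universallyOpen
      (repWith_mono (fun f (_ : IsOpenImmersion f) => (inferInstance : UniversallyOpen f)) ha')
  have hBad : IsClosed (Set.range (Points.map a'))ᶜ := hopa.isOpen_range.isClosed_compl
  let W₀ : TopologicalSpace.Opens (Points X.obj) :=
    ⟨(P₂ '' (Set.range (Points.map a'))ᶜ)ᶜ, (isClosedMap_fst X.obj _ hBad).isOpen_compl⟩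
  have hx₀ : x ∈ W₀ := fun ⟨z, hz, hzx⟩ => hz (hfib z hzx)
  obtain ⟨r₀, hr₀⟩ : x ∈ Set.range (Points.map (openSubι W₀)) := by rw [range_openSubι]; exact hx₀
  obtain ⟨C, b₀, hC, hb₀, hxb⟩ := exists_affine_etale_nhd (isAlgSpace_openSub W₀ X.property) r₀
  haveI := hC
  let b := b₀ ≫ openSubι W₀
  have hb : RepWith @Etale b :=
    repWith_comp hb₀ (repWith_mono (Q := (@Etale : MorphismProperty Scheme.{u}))
      (fun f (_ : IsOpenImmersion f) => inferInstanceAs (Etale f)) (repWith_openSubι W₀))
  have hO : IsOpen (Set.range (Points.map b)) :=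
    (isOpenMap_map_of_universallyOpen (repWith_universallyOpen_of_etale hb)).isOpen_range
  have hOW : Set.range (Points.map b) ⊆ (W₀ : Set (Points X.obj)) := by
    rintro _ ⟨r, rfl⟩
    rw [Points.map_comp]
    exact (range_openSubι W₀).le ⟨_, rfl⟩
  have hφ : IsAffineHom (FieldDesc.ptMap k k').left := by
    haveI : IsAffine (Over.mk (Spec.map (CommRingCat.ofHom (algebraMap k k'))) :
        Over (Spec (CommRingCat.of k))).left := inferInstanceAs (IsAffine (Spec (CommRingCat.of k')))
    haveI : IsAffine (Over.mk (𝟙 (Spec (CommRingCat.of k))) : Over (Spec (CommRingCat.of k))).left :=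
      inferInstanceAs (IsAffine (Spec (CommRingCat.of k)))
    exact isAffineHom_of_isAffine _
  have hp : RepWith @IsAffineHom (Limits.prod.fst : X.obj ⨯ ext (k := k) k' ⟶ X.obj) :=
    repWith_of_isPullback (FieldDesc.isPullback_fst X.obj) (repWith_map (P := @IsAffineHom) hφ)
  haveI : IsAffineHom (hp.1.snd b).left := repWith_snd hp b
  haveI : IsAffine (hp.1.pullback b).left := isAffine_of_isAffineHom (hp.1.snd b).left
  have hcomp : IsCompact (P₂ ⁻¹' Set.range (Points.map b)) := by
    rw [← range_fst_of_isPullback (hp.1.isPullback b)]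
    haveI : CompactSpace (Points ((yon S₀).obj (hp.1.pullback b))) := (Points.schemeHomeo _).compactSpace
    exact isCompact_range (Points.continuous_map _)
  have hsubU : P₂ ⁻¹' Set.range (Points.map b) ⊆ Set.range (Points.map a') := by
    intro z hz
    by_contra hzb
    exact hOW hz ⟨z, hzb, rfl⟩
  let ψ : U'.left → Points (X.obj ⨯ ext (k := k) k') := fun u => Points.map a' (Points.schemeHomeo U' u)
  have hψ : IsOpenEmbedding ψ :=
    IsOpenEmbedding.of_continuous_injective_isOpenMap
      ((Points.continuous_map _).comp (Points.schemeHomeo U').continuous)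
      ((injective_map_of_repWith (repWith_mono (Q := (@UniversallyInjective : MorphismProperty Scheme.{u}))
        (fun f (_ : IsOpenImmersion f) => inferInstanceAs (UniversallyInjective f)) ha')).comp
          (Points.schemeHomeo U').injective)
      (hopa.comp (Points.schemeHomeo U').isOpenMap)
  have hψr : Set.range ψ = Set.range (Points.map a') :=
    (Points.schemeHomeo U').surjective.range_comp _
  let O' : U'.left.Opens := ⟨ψ ⁻¹' (P₂ ⁻¹' Set.range (Points.map b)),
    (hO.preimage (Points.continuous_map _)).preimage hψ.continuous⟩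
  have hOc : IsCompact (O' : Set U'.left) := hψ.isInducing.isCompact_preimage' hcomp (hψr ▸ hsubU)
  let U'' : Over S₀ := openOver U' O'
  haveI : CompactSpace U''.left := isCompact_iff_compactSpace.1 hOc
  haveI : IsImmersion (openOverι U' O').left := inferInstanceAs (IsImmersion O'.ι)
  haveI : U''.left.IsQuasiAffine := Scheme.IsQuasiAffine.of_isImmersion (openOverι U' O').left
  refine schemePt_of_preimage_quasiAffine X hO ((yon S₀).map (openOverι U' O') ≫ a')
    (repWith_comp (repWith_map (inferInstanceAs (IsOpenImmersion O'.ι))) ha') ?_ ?_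
  · ext z
    constructor
    · rintro ⟨q, rfl⟩
      obtain ⟨u, rfl⟩ := (Points.schemeHomeo U'').surjective q
      have hu' : ψ ((openOverι U' O').left u) ∈ P₂ ⁻¹' Set.range (Points.map b) := (show (O' : Scheme.{u}) from u).2
      rw [Points.map_comp, Points.map_yon_map_eq]
      simp only [U'', Function.comp_apply, Homeomorph.symm_apply_apply]
      exact hu'
    · intro hz
      obtain ⟨u, rfl⟩ := hψr.ge (hsubU hz)
      refine ⟨Points.schemeHomeo U'' (⟨u, hz⟩ : (O' : Scheme.{u})), ?_⟩
      rw [Points.map_comp, Points.map_yon_map_eq]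
      simp only [U'', Function.comp_apply, Homeomorph.symm_apply_apply]
      rfl
  · obtain ⟨r, hr⟩ : r₀ ∈ Set.range (Points.map b₀) := by rw [range_map_yon]; exact hxb
    exact ⟨r, by rw [Points.map_comp, hr, hr₀]⟩

theorem exists_affine_open {S : Scheme.{u}} {F : Sp S} (h : F.obj.IsRepresentable) (y : Points F) :
    ∃ (U : Over S) (a : (yon S).obj U ⟶ F), IsAffine U.left ∧ RepWith @IsOpenImmersion a ∧
      IsOpen (Set.range (Points.map a)) ∧ y ∈ Set.range (Points.map a) := by
  obtain ⟨T, ⟨e⟩⟩ := isRepresentable_iff_exists_iso.1 h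
  obtain ⟨t, ht⟩ := (Points.schemeHomeo T).surjective (Points.map e.inv y)
  obtain ⟨V, hV, htV, -⟩ := exists_isAffineOpen_mem_and_subset (U := (⊤ : T.left.Opens)) (x := t) trivial
  let U : Over S := Over.mk (V.ι ≫ T.hom)
  let ιU : U ⟶ T := Over.homMk V.ι rfl
  have ha : RepWith @IsOpenImmersion ((yon S).map ιU ≫ e.hom) :=
    repWith_comp (repWith_map (show IsOpenImmersion V.ι from inferInstance)) (repWith_of_isIso _)
  refine ⟨U, (yon S).map ιU ≫ e.hom, hV, ha, (isOpenMap_map_of_universallyOpen
    (repWith_mono (fun f (_ : IsOpenImmersion f) => (inferInstance : UniversallyOpen f)) ha)).isOpen_range,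
    Points.schemeHomeo U (⟨t, htV⟩ : V), ?_⟩
  have h1 : Points.map ((yon S).map ιU) (Points.schemeHomeo U (⟨t, htV⟩ : V)) = Points.schemeHomeo T t := by
    rw [Points.map_yon_map_eq]
    simp only [Function.comp_apply, Homeomorph.symm_apply_apply]
    rfl
  rw [Points.map_comp, h1, ht, ← Points.map_comp, e.inv_hom_id, Points.map_id]

theorem nontrivial_tensor_away {ι L : Type u} [Field L] [Algebra k L] {f : MvPolynomial ι k} (hf : f ≠ 0) :
    Nontrivial (L ⊗[k] Localization.Away f) := by
  haveI : IsDomain (Localization.Away f) :=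
    IsLocalization.isDomain_localization (powers_le_nonZeroDivisors_of_noZeroDivisors hf)
  exact Algebra.TensorProduct.nontrivial_of_algebraMap_injective_of_isDomain k L _
    (algebraMap k L).injective (algebraMap k (Localization.Away f)).injective

/-- A space which is a scheme over a basic open of an affine space over `k` is a scheme. -/
theorem schemePt_of_away {ι : Type u} {f : MvPolynomial ι k} (hf : f ≠ 0) (X : Space (Spec (CommRingCat.of k)))
    (h : (X.obj ⨯ (yon _).obj (specA (k := k) (Localization.Away f))).obj.IsRepresentable) (x : Points X.obj) :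
    SL.SchemePt x := by
  obtain ⟨⟨L, str, val⟩, rfl⟩ := Points.mk_surjective x
  obtain ⟨φ, rfl⟩ := Spec.map_surjective str
  letI : Algebra k L := φ.hom.toAlgebra
  let xp : FieldPt X.obj := ⟨L, Spec.map φ, val⟩
  let xL : (yon (Spec (CommRingCat.of k))).obj (specA (k := k) L) ⟶ X.obj := xp.toHom
  have hxL : ∀ r : Points ((yon (Spec (CommRingCat.of k))).obj (specA (k := k) L)),
      Points.map xL r = Points.mk xp := by
    intro r
    obtain ⟨t, rfl⟩ := (Points.schemeHomeo _).surjective r
    rw [← Points.ofPt_toHom xp t]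
    exact (Points.ofPt_eq_map_ofScheme xL t).symm
  haveI := nontrivial_tensor_away (L := L) hf
  obtain ⟨z₀⟩ : Nonempty (PrimeSpectrum (L ⊗[k] Localization.Away f)) := inferInstance
  obtain ⟨U, a, hU, ha, hao, hya⟩ := exists_affine_open h
    (Points.map (chartA xL (Localization.Away f))
      (Points.schemeHomeo (specA (k := k) (L ⊗[k] Localization.Away f)) z₀))
  haveI := hU
  obtain ⟨_, ⟨_, ⟨g₀, rfl⟩, rfl⟩, hz₀, hsub⟩ := PrimeSpectrum.isBasis_basic_opens.exists_subset_of_mem_open
    (show z₀ ∈ (fun z : PrimeSpectrum (L ⊗[k] Localization.Away f) =>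
      Points.map (chartA xL (Localization.Away f))
        (Points.schemeHomeo (specA (k := k) (L ⊗[k] Localization.Away f)) z)) ⁻¹' Set.range (Points.map a) from hya)
    (hao.preimage ((Points.continuous_map (chartA xL (Localization.Away f))).comp
      (Points.schemeHomeo (specA (k := k) (L ⊗[k] Localization.Away f))).continuous))
  obtain ⟨σ, hσ⟩ := exists_specialization hf g₀ ((PrimeSpectrum.mem_basicOpen g₀ z₀).1 hz₀) (AlgebraicClosure k)
  have hm : RepWith @IsAffineHom (prod.map (𝟙 X.obj) ((yon (Spec (CommRingCat.of k))).map (specMor σ))) := by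
    refine repWith_of_isPullback (FieldLim.isPullback_prodMap X.obj (specMor σ))
      (repWith_map (P := @IsAffineHom) ?_)
    exact (show IsAffineHom (Spec.map (CommRingCat.ofHom σ.toRingHom)) from inferInstance)
  haveI : IsAffineHom (hm.1.snd a).left := repWith_snd hm a
  haveI : IsAffine (hm.1.pullback a).left := isAffine_of_isAffineHom (hm.1.snd a).left
  refine schemePt_of_affine_fibre X (hm.1.fst a) (repWith_of_isPullback (hm.1.isPullback a).flip ha) fun z hz => ?_
  rw [range_fst_of_isPullback (hm.1.isPullback a)]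
  let r := Points.schemeHomeo (specA (k := k) L) (⊥ : PrimeSpectrum L)
  obtain ⟨q, -, rfl⟩ := exists_of_isPullback (isPullback_chartA xL (AlgebraicClosure k)) r z ((hxL r).trans hz.symm)
  obtain ⟨w, rfl⟩ := (Points.schemeHomeo _).surjective q
  rw [Set.mem_preimage, ← Points.map_comp, ← chartA_map, Points.map_comp, Points.map_yon_map_eq]
  simp only [Function.comp_apply, Homeomorph.symm_apply_apply]
  refine hsub ?_
  show g₀ ∉ (PrimeSpectrum.comap (Algebra.TensorProduct.map (AlgHom.id k L) σ).toRingHom
    (show PrimeSpectrum (L ⊗[k] AlgebraicClosure k) from w)).asIdeal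
  exact hσ w

theorem exists_hom_away {ι : Type u} (s : Finset (FractionRing (MvPolynomial ι k))) :
    ∃ f : MvPolynomial ι k, f ≠ 0 ∧
      Nonempty (Algebra.adjoin k (s : Set (FractionRing (MvPolynomial ι k))) →ₐ[k] Localization.Away f) := by
  classical
  let P := MvPolynomial ι k
  let K := FractionRing P
  obtain ⟨⟨f, hf⟩, hb⟩ := IsLocalization.exist_integer_multiples_of_finset (nonZeroDivisors P) s
  have hf0 : f ≠ 0 := nonZeroDivisors.ne_zero hf
  have hu : IsUnit (algebraMap P K f) :=
    isUnit_iff_ne_zero.2 fun h => hf0 (IsFractionRing.injective P K (h.trans (map_zero _).symm))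
  let j : Localization.Away f →ₐ[k] K := IsLocalization.liftAlgHom (M := Submonoid.powers f)
    (f := IsScalarTower.toAlgHom k P K) (by
      rintro ⟨_, n, rfl⟩
      rw [map_pow]
      exact hu.pow n)
  have hj : ∀ p, j (algebraMap P _ p) = algebraMap P K p := fun p => IsLocalization.lift_eq _ p
  have hjinj : Function.Injective j := by
    rw [injective_iff_map_eq_zero]
    intro x hx
    obtain ⟨n, p, hp⟩ := IsLocalization.Away.surj f x
    have h1 : algebraMap P K p = 0 := by rw [← hj, ← hp, map_mul, hx, zero_mul]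
    rw [IsFractionRing.injective P K (h1.trans (map_zero _).symm), map_zero] at hp
    exact ((IsLocalization.Away.algebraMap_isUnit f).pow n).mul_left_eq_zero.1 hp
  have hle : Algebra.adjoin k (s : Set K) ≤ j.range := by
    refine Algebra.adjoin_le fun x hx => ?_
    obtain ⟨p, hp⟩ := hb x hx
    refine ⟨algebraMap P _ p * IsLocalization.Away.invSelf f, ?_⟩
    have h2 : j (algebraMap P _ f) * j (IsLocalization.Away.invSelf f) = 1 := by
      rw [← map_mul, IsLocalization.Away.mul_invSelf, map_one]
    have h3 : algebraMap P K p = algebraMap P K f * x := hp.trans (Algebra.smul_def _ _)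
    show j _ = x
    rw [map_mul, hj p, h3, mul_right_comm, ← hj f, h2, one_mul]
  exact ⟨f, hf0, ⟨(AlgEquiv.ofInjective j hjinj).symm.toAlgHom.comp (Subalgebra.inclusion hle)⟩⟩

end Groth.L23.PureTr
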