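import Groth.Agent.L23.PushEtImage
import Groth.Agent.L27.EtSite.PropB
import Mathlib.CategoryTheory.Abelian.RightDerived
import Mathlib.Algebra.Category.Grp.AB

/-!
# Direct images along integral morphisms are exact
-/

universe v u

open CategoryTheory CategoryTheory.Limits AlgebraicGeometry Opposite AlgSp TopologicalSpace

set_option backward.isDefEq.respectTransparency.types false
set_option linter.style.haveILetI false

namespace Groth.L23.PushEt

open Groth.L23.PC

variable {S : Scheme.{u}} {Y X : AlgSp.Space S} {f : Y ⟶ X} (hf : Representable f.hom)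
  (hi : RepWith @IsIntegralHom f.hom)

variable {A : Type*} [Category.{v} A] {FC : A → A → Type*}
  {CC : A → Type (u + 1)} [∀ (P Q : A), FunLike (FC P Q) (CC P) (CC Q)] [ConcreteCategory.{u + 1} A FC]
  [(etTop Y.obj).HasSheafCompose (CategoryTheory.forget A)]

omit hi in
theorem eq_of_cover (F : EtSh Y.obj A) {U : EtOver Y.obj} {ι : Type*} (V : ι → EtOver Y.obj)
    (c : ∀ i, V i ⟶ U) (hc : ∀ x : ↥U.obj.left.left, ∃ i, x ∈ Set.range (c i).hom.left.left)
    (s t : ToType (F.obj.obj (op U))) (h : ∀ i, F.obj.map (c i).op s = F.obj.map (c i).op t) : s = t := by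
  have hs := ((sheafCompose (etTop Y.obj) (CategoryTheory.forget A)).obj F).2
  rw [isSheaf_iff_isSheaf_of_type] at hs
  refine (hs.isSeparated _ (ofArrows_mem_etTop V c hc)).ext fun W g hg => ?_
  obtain ⟨i, a, rfl⟩ := (Sieve.mem_ofArrows_iff _ _ _).1 hg
  show F.obj.map (a ≫ c i).op s = F.obj.map (a ≫ c i).op t
  rw [op_comp, Functor.map_comp_apply, Functor.map_comp_apply, h]

omit hi in
theorem exists_glue_disjoint (F : EtSh Y.obj A) {U : EtOver Y.obj} {ι : Type*} (B : ι → U.obj.left.left.Opens)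
    (hd : ∀ a b, a ≠ b → Disjoint (B a) (B b)) (hc : (⨆ a, B a) = ⊤)
    (t : ∀ a, ToType (F.obj.obj (op (openE U (B a))))) :
    ∃ s, ∀ a, F.obj.map (openEι U (B a)).op s = t a := by
  have hs := ((sheafCompose (etTop Y.obj) (CategoryTheory.forget A)).obj F).2
  rw [isSheaf_iff_isSheaf_of_type] at hs
  have hcov : ∀ x : ↥U.obj.left.left, ∃ a, x ∈ Set.range (openEι U (B a)).hom.left.left := fun x => by
    obtain ⟨a, ha⟩ := Opens.mem_iSup.1 (hc.ge (Opens.mem_top x))
    exact ⟨a, ⟨x, ha⟩, rfl⟩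
  have hcompat : Presieve.Arrows.Compatible ((sheafCompose (etTop Y.obj) (CategoryTheory.forget A)).obj F).obj
      (fun a => openEι U (B a)) t := by
    intro a b Z ga gb hab
    by_cases e : a = b
    · subst e
      have : Mono (openOverι U.obj.left (B a)) :=
        (Over.forget S).mono_of_mono_map (inferInstanceAs (Mono (B a).ι))
      rw [show ga = gb from EtOver.hom_ext _ _ ((cancel_mono (openOverι U.obj.left (B a))).1
        (congrArg (fun k => k.hom.left) hab))]
    · haveI : IsEmpty Z.obj.left.left := ⟨fun x => (hd a b e).le_bot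
        (show (ga ≫ openEι U (B a)).hom.left.left x ∈ B a ⊓ B b from
          ⟨openEι_mem (E := U) (ga.hom.left.left x),
            (congrArg (fun k => k.hom.left.left x) hab) ▸ openEι_mem (E := U) (gb.hom.left.left x)⟩)⟩
      exact (hs.isSeparated ⊥ (Supp.cover_of_points _ fun x => isEmptyElim x)).ext fun W g h => False.elim h
  obtain ⟨s, hs', -⟩ := ((Presieve.isSheafFor_arrows_iff _ _).mp
    ((Presieve.isSheafFor_iff_generate _).mpr (hs _ (ofArrows_mem_etTop _ _ hcov)))) t hcompat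
  exact ⟨s, hs'⟩

include hi in
theorem isLocallySurjective_pushEt {F G : EtSh Y.obj A} (φ : F ⟶ G) [Sheaf.IsLocallySurjective φ] :
    Sheaf.IsLocallySurjective ((pushEt hf A).map φ) := by
  refine ⟨fun {V} s => Supp.cover_of_points _ fun y => ?_⟩
  let π : (hf.pullback V.obj.hom).left ⟶ V.obj.left.left := (hf.snd V.obj.hom).left
  haveI : IsIntegralHom π := repWith_prop hi (hf.isPullback V.obj.hom)
  obtain ⟨P, hP, hle⟩ := Precoverage.mem_toGrothendieck_iff_of_isStableUnderComposition.1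
    (Presheaf.imageSieve_mem (etTop Y.obj) φ.hom (U := op ((EtOver.bc hf).obj V)) s)
  obtain ⟨ι₀, Ui, gi, rfl⟩ := P.exists_eq_ofArrows
  rw [ofArrows_mem_etPre_iff] at hP
  choose i hix using hP
  haveI hfst : IsIso (pullback.fst π (𝟙 V.obj.left.left)) := (IsPullback.of_hasPullback π (𝟙 _)).isIso_fst_of_isIso
  obtain ⟨κ, V', v', he, hsurj, hpieces⟩ := Groth.L27.EtSite.propB_of_isIntegralHom π V.obj.left.left (𝟙 _)
    ↥(hf.pullback V.obj.hom).left (fun x => (Ui (i x)).obj.left.left)
    (fun x => (gi (i x)).hom.left.left ≫ (@inv _ _ _ _ (pullback.fst π (𝟙 V.obj.left.left)) hfst))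
    (fun x => by
      haveI := EtOver.etale_left (gi (i x))
      exact MorphismProperty.comp_mem @Etale _ _ ‹_› inferInstance)
    (fun z => by
      obtain ⟨u, hu⟩ := hix ((pullback.fst π (𝟙 V.obj.left.left)) z)
      refine ⟨_, u, ?_⟩
      show (@inv _ _ _ _ (pullback.fst π (𝟙 V.obj.left.left)) hfst) ((gi _).hom.left.left u) = z
      rw [hu, ← Scheme.Hom.comp_apply, IsIso.hom_inv_id]
      rfl)
  obtain ⟨j, y', hy'⟩ := hsurj y
  haveI := he j
  obtain ⟨μ, W, hd, hW, hfac⟩ := hpieces j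
  let vS : Over.mk (v' j ≫ V.obj.left.hom) ⟶ V.obj.left := Over.homMk (v' j) rfl
  let Vo : EtOver X.obj := EtOver.mk ((yon S).map vS ≫ V.obj.hom) (repWith_comp (repWith_map (he j)) V.property)
  let a : Vo ⟶ V := EtOver.homMk vS rfl
  have sq : IsPullback ((EtOver.bc hf).map a).hom.left.left (hf.snd Vo.obj.hom).left π (v' j ≫ 𝟙 _) := by
    rw [Category.comp_id]; exact EtOver.isPullback_bcMap_left hf a
  let τ := sq.isoPullback
  let B : μ → ((EtOver.bc hf).obj Vo).obj.left.left.Opens := fun b => τ.hom ⁻¹ᵁ W b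
  refine ⟨Vo, a, ?_, y', hy'⟩
  have key : ∀ b, ∃ t, φ.hom.app (op (openE _ (B b))) t =
      G.obj.map (openEι _ (B b) ≫ (EtOver.bc hf).map a).op s := by
    intro b
    obtain ⟨x, h, hh⟩ := hfac b
    let k : (B b).toScheme ⟶ (Ui (i x)).obj.left.left := (τ.hom ∣_ W b) ≫ h
    have hk : k ≫ (gi (i x)).hom.left.left = (B b).ι ≫ ((EtOver.bc hf).map a).hom.left.left := by
      have hh' : h ≫ (gi (i x)).hom.left.left = (W b).ι ≫ pullback.fst π (v' j ≫ 𝟙 _) := by
        have h1 := congrArg (fun m => m ≫ pullback.fst π (𝟙 V.obj.left.left)) hh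
        refine ((congrArg (h ≫ ·) ((Category.comp_id _).symm.trans
          (congrArg ((gi (i x)).hom.left.left ≫ ·) (@IsIso.inv_hom_id _ _ _ _ (pullback.fst π (𝟙 V.obj.left.left)) hfst).symm))).trans ?_)
        refine ((congrArg (h ≫ ·) (Category.assoc _ _ _).symm).trans ((Category.assoc _ _ _).symm.trans
          (h1.trans ?_)))
        refine (Category.assoc _ _ _).trans (congrArg ((W b).ι ≫ ·) ?_)
        exact (pullback.lift_fst _ _ _).trans (Category.comp_id _)
      refine (Category.assoc _ _ _).trans ((congrArg ((τ.hom ∣_ W b) ≫ ·) hh').trans ?_)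
      refine ((Category.assoc _ _ _).symm.trans (congrArg (· ≫ _) (morphismRestrict_ι τ.hom (W b)))).trans ?_
      exact (Category.assoc _ _ _).trans (congrArg ((B b).ι ≫ ·) sq.isoPullback_hom_fst)
    let kS : openOver ((EtOver.bc hf).obj Vo).obj.left (B b) ⟶ (Ui (i x)).obj.left := Over.homMk k (by
      show k ≫ (Ui (i x)).obj.left.hom = (B b).ι ≫ ((EtOver.bc hf).obj Vo).obj.left.hom
      rw [← Over.w (gi (i x)).hom.left, ← Category.assoc, hk, Category.assoc]
      exact congrArg _ (Over.w ((EtOver.bc hf).map a).hom.left))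
    have hkS : kS ≫ (gi (i x)).hom.left = openOverι _ (B b) ≫ ((EtOver.bc hf).map a).hom.left :=
      Over.OverMorphism.ext hk
    let L : openE _ (B b) ⟶ Ui (i x) := EtOver.homMk kS (by
      show (yon S).map kS ≫ (Ui (i x)).obj.hom = (yon S).map (openOverι _ (B b)) ≫ ((EtOver.bc hf).obj Vo).obj.hom
      rw [← EtOver.w (gi (i x)), ← Functor.map_comp_assoc, hkS, Functor.map_comp_assoc,
        EtOver.w ((EtOver.bc hf).map a)])
    have e : L ≫ gi (i x) = openEι _ (B b) ≫ (EtOver.bc hf).map a := EtOver.hom_ext _ _ hkS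
    obtain ⟨t, ht⟩ := hle _ _ ⟨i x⟩
    refine ⟨F.obj.map L.op t, ?_⟩
    rw [← e, NatTrans.naturality_apply, ht, op_comp, Functor.map_comp_apply]
  choose t ht using key
  have hdB : ∀ b c, b ≠ c → Disjoint (B b) (B c) := fun b c hbc => by
    rw [disjoint_iff, eq_bot_iff]
    exact fun x hx => (hd b c hbc).le_bot (x := τ.hom x) hx
  have hcB : (⨆ b, B b) = ⊤ := eq_top_iff.2 fun x _ => by
    obtain ⟨b, hb⟩ := Opens.mem_iSup.1 (hW.ge (Opens.mem_top (τ.hom x)))
    exact Opens.mem_iSup.2 ⟨b, hb⟩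
  obtain ⟨t₀, ht₀⟩ := exists_glue_disjoint F B hdB hcB t
  refine ⟨t₀, eq_of_cover G _ (fun b => openEι _ (B b)) (fun x => ?_) _ _ fun b => ?_⟩
  · obtain ⟨b, hb⟩ := Opens.mem_iSup.1 (hcB.ge (Opens.mem_top x))
    exact ⟨b, ⟨x, hb⟩, rfl⟩
  · refine (NatTrans.naturality_apply φ.hom (openEι _ (B b)).op t₀).symm.trans ?_
    refine (congrArg _ (ht₀ b)).trans ((ht b).trans ?_)
    rw [op_comp, Functor.map_comp_apply]
    rfl

omit hi in
theorem isZero_rightDerived_of_epi {C D : Type*} [Category C] [Category D] [Abelian C] [Abelian D]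
    [EnoughInjectives C] (F : C ⥤ D) [F.Additive] [PreservesFiniteLimits F]
    [F.PreservesEpimorphisms] (M : C) (q : ℕ) (hq : 0 < q) : IsZero ((F.rightDerived q).obj M) := by
  haveI : F.PreservesHomology := Functor.preservesHomology_of_preservesEpis_and_kernels _
  let I := InjectiveResolution.of M
  refine IsZero.of_iso ?_ (I.isoRightDerivedObj F q)
  obtain ⟨q, rfl⟩ := Nat.exists_eq_succ_of_ne_zero hq.ne'
  rw [HomologicalComplex.homologyFunctor_obj, ← HomologicalComplex.exactAt_iff_isZero_homology]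
  exact (I.cocomplex_exactAt_succ q).map F

end Groth.L23.PushEt
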