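import Groth.Agent.L23.PushEtSheaf
import Mathlib.Algebra.Category.Grp.AB

/-!
# Full faithfulness of direct images along integral universally injective morphisms
-/

universe v u

open CategoryTheory CategoryTheory.Limits AlgebraicGeometry Opposite AlgSp GrothendieckTopology

set_option backward.isDefEq.respectTransparency.types false
set_option linter.style.haveILetI false

namespace Groth.L23.PushEt

variable {S : Scheme.{u}} {Y X : AlgSp.Space S} {f : Y ⟶ X} (hf : Representable f.hom)
  (hi : RepWith @IsIntegralHom f.hom) (hu : RepWith @UniversallyInjective f.hom)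

include hi hu in
theorem faithful_pushEt {A : Type*} [Category.{v} A] [HasColimitsOfSize.{u, u} A] {FC : A → A → Type*}
    {CC : A → Type (u + 1)} [∀ (P Q : A), FunLike (FC P Q) (CC P) (CC Q)] [ConcreteCategory.{u + 1} A FC]
    [PreservesFilteredColimitsOfSize.{u, u} (CategoryTheory.forget A)]
    [(etTop Y.obj).HasSheafCompose (CategoryTheory.forget A)] : (pushEt hf A).Faithful :=
  ⟨fun {_ _ φ₁ φ₂} h => eq_of_push_eq hf hi hu φ₁ φ₂ fun V s =>
    ConcreteCategory.congr_hom (congrArg (fun m => m.hom.app (op V)) h) s⟩

include hi hu in
theorem full_pushEt_type : (pushEt hf (Type (u + 1))).Full := by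
  refine ⟨fun {F G} h => ?_⟩
  have g := fun {U : EtOver Y.obj} (s : F.obj.obj (op U)) => exists_good hf hi hu h s
  choose t ht using @g
  refine ⟨ObjectProperty.homMk { app := fun U => ↾fun s => t s, naturality := fun U W k => ?_ }, ?_⟩
  · ext s
    exact good_unique hf hi hu h (ht _) (good_map hf hi hu h k.unop (ht s))
  · apply ObjectProperty.hom_ext
    ext V s
    exact good_unique hf hi hu h (ht s) (good_bc hf hi hu h V.unop s)

include hi hu in
theorem full_pushEt_ab : (pushEt hf AddCommGrpCat.{u + 1}).Full := by
  refine ⟨fun {F G} h => ?_⟩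
  have g := fun {U : EtOver Y.obj} (s : F.obj.obj (op U)) => exists_good hf hi hu h s
  choose t ht using @g
  have hadd : ∀ {U : EtOver Y.obj} (a b : F.obj.obj (op U)), t (a + b) = t a + t b := fun a b =>
    good_unique hf hi hu h (ht _) fun z hz l => by
      rw [map_add, map_add, map_add, ← ht a z hz l, ← ht b z hz l]
  refine ⟨ObjectProperty.homMk { app := fun U => AddCommGrpCat.ofHom (AddMonoidHom.mk' (fun s => t s) fun a b => hadd a b),
                                 naturality := fun U W k => ?_ }, ?_⟩
  · ext s
    exact good_unique hf hi hu h (ht _) (good_map hf hi hu h k.unop (ht s))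
  · apply ObjectProperty.hom_ext
    ext V s
    exact good_unique hf hi hu h (ht s) (good_bc hf hi hu h V.unop s)

end Groth.L23.PushEt
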