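import Groth.Prelude.Def_AlgSpOX2
import Groth.Agent.L23.PointClassify
import Groth.Agent.L27.EtSite.PropA

/-!
# Étale neighbourhoods along integral universally injective morphisms
-/

universe u

open CategoryTheory CategoryTheory.Limits AlgebraicGeometry Opposite AlgSp TopologicalSpace

set_option backward.isDefEq.respectTransparency.types false
set_option linter.style.haveILetI false

namespace Groth.L23.PushEt

open Groth.L23.PC

variable {S : Scheme.{u}} {Y X : AlgSp.Space S} {f : Y ⟶ X} (hf : Representable f.hom) (z : FieldPt Y.obj)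

/-- A lift of the image point to `E` gives a lift to the base change of `E`. -/
noncomputable def toBc (E : EtOver X.obj) (u : (FieldPt.liftsTo (z.map f.hom)).obj E) :
    (FieldPt.liftsTo z).obj ((EtOver.bc hf).obj E) :=
  ⟨hf.lift z.toHom u.1 ((u.2.trans (FieldPt.toHom_map f.hom z)).symm), hf.lift_fst _ _ _⟩

/-- A lift to the base change of `E` gives a lift of the image point to `E`. -/
noncomputable def ofBc (E : EtOver X.obj) (l : (FieldPt.liftsTo z).obj ((EtOver.bc hf).obj E)) :
    (FieldPt.liftsTo (z.map f.hom)).obj E :=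
  ⟨l.1 ≫ hf.snd E.obj.hom, by
    have h : (yon S).map l.1 ≫ hf.fst E.obj.hom = z.toHom := l.2
    rw [FieldPt.toHom_map, Functor.map_comp, Category.assoc]
    exact (congrArg ((yon S).map l.1 ≫ ·) (hf.w E.obj.hom).symm).trans
      ((Category.assoc _ _ _).symm.trans (congrArg (· ≫ f.hom) h))⟩

theorem toBc_snd (E : EtOver X.obj) (u) : (toBc hf z E u).1 ≫ hf.snd E.obj.hom = u.1 := hf.lift_snd _ _ _

theorem toBc_ofBc (E : EtOver X.obj) (l) : toBc hf z E (ofBc hf z E l) = l :=
  Subtype.ext (hf.hom_ext ((hf.lift_fst _ _ _).trans l.2.symm) (hf.lift_snd _ _ _))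

theorem toBc_map {E E' : EtOver X.obj} (g : E ⟶ E') (u) :
    toBc hf z E' ((FieldPt.liftsTo (z.map f.hom)).map g u) =
      (FieldPt.liftsTo z).map ((EtOver.bc hf).map g) (toBc hf z E u) := by
  refine Subtype.ext (hf.hom_ext ((hf.lift_fst _ _ _).trans ((FieldPt.liftsTo z).map _ _).2.symm) ?_)
  refine (toBc_snd hf z E' _).trans (Eq.symm ?_)
  show ((toBc hf z E u).1 ≫ (EtOver.bcMap hf g).hom.left) ≫ hf.snd E'.obj.hom = u.1 ≫ g.hom.left
  exact (Category.assoc _ _ _).trans ((congrArg ((toBc hf z E u).1 ≫ ·) (EtOver.bcMap_snd hf g)).trans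
    ((Category.assoc _ _ _).symm.trans (congrArg (· ≫ g.hom.left) (toBc_snd hf z E u))))

variable (hi : RepWith @IsIntegralHom f.hom) (hu : RepWith @UniversallyInjective f.hom)

include hi in
theorem isIntegralHom_snd (E : EtOver X.obj) : IsIntegralHom (hf.snd E.obj.hom).left :=
  repWith_prop hi (hf.isPullback E.obj.hom)

include hu in
theorem universallyInjective_snd (E : EtOver X.obj) : UniversallyInjective (hf.snd E.obj.hom).left :=
  repWith_prop hu (hf.isPullback E.obj.hom)

include hi hu in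
/-- An open neighbourhood of the point in a base change comes from downstairs. -/
theorem exists_shrink (E : EtOver X.obj) (u : (FieldPt.liftsTo (z.map f.hom)).obj E)
    (B : ((EtOver.bc hf).obj E).obj.left.left.Opens)
    (hB : (toBc hf z E u).1.left (IsLocalRing.closedPoint z.K) ∈ B) :
    ∃ (E' : EtOver X.obj) (a : E' ⟶ E) (u' : (FieldPt.liftsTo (z.map f.hom)).obj E'),
      (FieldPt.liftsTo (z.map f.hom)).map a u' = u ∧
        ∀ x, ((EtOver.bc hf).map a).hom.left.left x ∈ B := by
  haveI := isIntegralHom_snd hf hi E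
  haveI := universallyInjective_snd hf hu E
  let p := (hf.snd E.obj.hom).left
  let O : E.obj.left.left.Opens := ⟨(p '' B.carrierᶜ)ᶜ, (p.isClosedMap _ B.2.isClosed_compl).isOpen_compl⟩
  let c := IsLocalRing.closedPoint z.K
  have hu1 : p ((toBc hf z E u).1.left c) = u.1.left c := congrArg (fun k => k.left c) (toBc_snd hf z E u)
  have hO : u.1.left c ∈ O := fun ⟨e, he, hee⟩ => he (p.injective (hu1.trans hee.symm) ▸ hB)
  obtain ⟨γ, hγ⟩ := Norm.exists_lift_open (openOverι E.obj.left O) u.1 fun x =>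
    ⟨⟨_, hO⟩, congrArg u.1.left (Subsingleton.elim (α := PrimeSpectrum z.K) _ x)⟩
  refine ⟨openE E O, openEι E O, ⟨γ, ?_⟩, Subtype.ext hγ, fun x => by_contra fun hx => ?_⟩
  · show (yon S).map γ ≫ (yon S).map (openOverι E.obj.left O) ≫ E.obj.hom = _
    rw [← Functor.map_comp_assoc, hγ]
    exact u.2
  · exact openEι_mem (E := E) ((hf.snd (openE E O).obj.hom).left x)
      ⟨_, hx, congrArg (fun k => k.left x) (EtOver.bcMap_snd hf (openEι E O))⟩

include hi hu in
/-- Base changes of étale neighbourhoods of the image point are cofinal among étale neighbourhoods. -/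
theorem exists_nbhd_into (hz : z.IsGeometric) (U : EtOver Y.obj) (x : (FieldPt.liftsTo z).obj U) :
    ∃ (E : EtOver X.obj) (u : (FieldPt.liftsTo (z.map f.hom)).obj E) (g : (EtOver.bc hf).obj E ⟶ U),
      (FieldPt.liftsTo z).map g (toBc hf z E u) = x := by
  haveI : IsAlgClosed z.K := hz
  obtain ⟨⟨A, u₀⟩⟩ : Nonempty (FieldPt.liftsTo (z.map f.hom)).Elements :=
    (Groth.Agent.S10217.result X (z.map f.hom) hz).nonempty
  obtain ⟨R, p, q, sq⟩ := exists_isPullback_of_representable U.property.1 ((EtOver.bc hf).obj A).obj.hom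
  haveI : Etale q.left := repWith_prop U.property sq
  have hp : RepWith @Etale ((yon S).map p) := repWith_of_isPullback sq.flip ((EtOver.bc hf).obj A).property
  obtain ⟨ρ, hρ₁, hρ₂⟩ := exists_lift_yon sq x.1 (toBc hf z A u₀).1 (x.2.trans (toBc hf z A u₀).2.symm)
  let Ro : EtOver Y.obj := EtOver.mk ((yon S).map p ≫ U.obj.hom) (repWith_comp hp U.property)
  haveI := isIntegralHom_snd hf hi A
  let qA : R.left ⟶ (hf.pullback A.obj.hom).left := q.left
  haveI : Etale qA := ‹Etale q.left›
  obtain ⟨V, v, hv, W, -, h, hh, w, hw⟩ := Groth.L27.EtSite.propA_of_isIntegralHom (hf.snd A.obj.hom).left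
    R.left qA (ρ.left (IsLocalRing.closedPoint z.K))
  let vS : Over.mk (v ≫ A.obj.left.hom) ⟶ A.obj.left := Over.homMk v rfl
  let Vo : EtOver X.obj := EtOver.mk ((yon S).map vS ≫ A.obj.hom) (repWith_comp (repWith_map hv) A.property)
  let a : Vo ⟶ A := EtOver.homMk vS rfl
  let τ := (EtOver.isPullback_bcMap_left hf a).isoPullback
  let B : ((EtOver.bc hf).obj Vo).obj.left.left.Opens := τ.hom ⁻¹ᵁ W
  let k : B.toScheme ⟶ R.left := (τ.hom ∣_ W) ≫ h
  have hk : k ≫ q.left = B.ι ≫ ((EtOver.bc hf).map a).hom.left.left := by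
    refine (Category.assoc _ _ _).trans ((congrArg ((τ.hom ∣_ W) ≫ ·) hh).trans ?_)
    refine ((Category.assoc _ _ _).symm.trans (congrArg (· ≫ _) (morphismRestrict_ι τ.hom W))).trans ?_
    refine (Category.assoc _ _ _).trans (congrArg (B.ι ≫ ·) ?_)
    exact (EtOver.isPullback_bcMap_left hf a).isoPullback_hom_fst
  let kS : openOver ((EtOver.bc hf).obj Vo).obj.left B ⟶ R := Over.homMk k (by
    show k ≫ R.hom = B.ι ≫ ((EtOver.bc hf).obj Vo).obj.left.hom
    rw [← Over.w q, ← Category.assoc, hk, Category.assoc]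
    exact congrArg _ (Over.w ((EtOver.bc hf).map a).hom.left))
  have hkS : kS ≫ q = openOverι _ B ≫ ((EtOver.bc hf).map a).hom.left := Over.OverMorphism.ext hk
  let kE : openE ((EtOver.bc hf).obj Vo) B ⟶ Ro := EtOver.homMk kS (by
    show (yon S).map kS ≫ (yon S).map p ≫ U.obj.hom =
      (yon S).map (openOverι _ B) ≫ ((EtOver.bc hf).obj Vo).obj.hom
    rw [sq.w, ← Functor.map_comp_assoc, hkS, Functor.map_comp_assoc, EtOver.w ((EtOver.bc hf).map a)])
  obtain ⟨w', hw'⟩ : ∃ w' : B.toScheme, k w' = ρ.left (IsLocalRing.closedPoint z.K) := by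
    obtain ⟨y, hy⟩ := (τ.hom ∣_ W).homeomorph.surjective w
    exact ⟨y, by rw [← hw]; exact congrArg h hy⟩
  obtain ⟨y, hy₁, -⟩ := Groth.L23.QFL.exists_lift_algClosed (a := (yon S).map kS)
    (repWith_map (EtOver.etale_left kE)) ((yon S).map ρ) w' (IsLocalRing.closedPoint z.K)
    (by rw [ofPt_map, ofPt_map]; exact congrArg _ hw'.symm)
  have hy : y ≫ kS = ρ := (yon S).map_injective (by rw [Functor.map_comp]; exact hy₁)
  let l : (FieldPt.liftsTo z).obj (openE ((EtOver.bc hf).obj Vo) B) := ⟨y, by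
    rw [← EtOver.w kE, ← Functor.map_comp_assoc]
    show (yon S).map (y ≫ kS) ≫ (yon S).map p ≫ U.obj.hom = z.toHom
    rw [hy, ← Functor.map_comp_assoc, hρ₁]
    exact x.2⟩
  let l' := (FieldPt.liftsTo z).map (openEι _ B) l
  obtain ⟨V', a', u', hu', hV'⟩ := exists_shrink hf z hi hu Vo (ofBc hf z Vo l') B (by
    rw [toBc_ofBc]; exact openEι_mem (E := (EtOver.bc hf).obj Vo) _)
  obtain ⟨g', hg'⟩ := exists_openE_factor ((EtOver.bc hf).map a') hV'
  refine ⟨V', u', g' ≫ kE ≫ (EtOver.homMk p rfl : Ro ⟶ U), Subtype.ext ?_⟩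
  have e : (toBc hf z V' u').1 ≫ g'.hom.left = y := by
    haveI : Mono (openOverι ((EtOver.bc hf).obj Vo).obj.left B) :=
      (Over.forget S).mono_of_mono_map (inferInstanceAs (Mono B.ι))
    apply (cancel_mono (openOverι ((EtOver.bc hf).obj Vo).obj.left B)).1
    have := (toBc_map hf z a' u').symm.trans ((congrArg (toBc hf z Vo) hu').trans (toBc_ofBc hf z Vo l'))
    refine Eq.trans ?_ (congrArg Subtype.val this)
    rw [FieldPt.liftsTo_map_coe, ← hg']
    exact Category.assoc _ _ _
  rw [FieldPt.liftsTo_map_coe]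
  show (toBc hf z V' u').1 ≫ g'.hom.left ≫ kS ≫ p = x.1
  exact (Category.assoc _ _ _).symm.trans ((congrArg (· ≫ kS ≫ p) e).trans ((Category.assoc _ _ _).symm.trans ((congrArg (· ≫ p) hy).trans hρ₁)))

include hi hu in
/-- Two morphisms from a base change which agree at the point agree near it. -/
theorem exists_agree (U : EtOver Y.obj) (E : EtOver X.obj) (u : (FieldPt.liftsTo (z.map f.hom)).obj E)
    (g g' : (EtOver.bc hf).obj E ⟶ U)
    (h : (FieldPt.liftsTo z).map g (toBc hf z E u) = (FieldPt.liftsTo z).map g' (toBc hf z E u)) :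
    ∃ (E' : EtOver X.obj) (a : E' ⟶ E) (u' : (FieldPt.liftsTo (z.map f.hom)).obj E'),
      (FieldPt.liftsTo (z.map f.hom)).map a u' = u ∧ (EtOver.bc hf).map a ≫ g = (EtOver.bc hf).map a ≫ g' := by
  obtain ⟨B, hB, hgg⟩ := exists_eq_locus g g' (toBc hf z E u).1 (congrArg Subtype.val h)
  obtain ⟨E', a, u', hu', hE'⟩ := exists_shrink hf z hi hu E u B (hB _)
  obtain ⟨k, hk⟩ := exists_openE_factor ((EtOver.bc hf).map a) hE'
  exact ⟨E', a, u', hu', by rw [← hk, Category.assoc, Category.assoc, hgg]⟩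

end Groth.L23.PushEt
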