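import Groth.Agent.L23.PushEtFull
import Groth.Agent.L23.Support
import Groth.Agent.L23.Univ

/-!
# The essential image of direct images along integral universally injective morphisms
-/

universe v u

open CategoryTheory CategoryTheory.Limits AlgebraicGeometry Opposite AlgSp GrothendieckTopology TopologicalSpace

set_option backward.isDefEq.respectTransparency.types false
set_option linter.style.haveILetI false

namespace Groth.L23.PushEt

open Groth.L23.PC

variable {S : Scheme.{u}} {Y X : AlgSp.Space S} {f : Y ⟶ X} (hf : Representable f.hom)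
  (hi : RepWith @IsIntegralHom f.hom) (hu : RepWith @UniversallyInjective f.hom)

include hf hi in
theorem isClosed_range_points : IsClosed (Set.range (Points.map f.hom)) :=
  (isClosedMap_map_of_representable hf fun T g => by
    haveI : IsIntegralHom (hf.snd g).left := repWith_prop hi (hf.isPullback g)
    exact (hf.snd g).left.isClosedMap).isClosed_range

/-- The bijection between lifts of the image point and lifts to the base change. -/
noncomputable def bcEquiv {z : FieldPt Y.obj} (hz : z.IsGeometric) (E : EtOver X.obj) :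
    (ptX f hz).fiber.obj E ≃ (ptY hz).fiber.obj ((EtOver.bc hf).obj E) where
  toFun := toBc hf z E
  invFun := ofBc hf z E
  left_inv u := Subtype.ext (toBc_snd hf z E u)
  right_inv l := toBc_ofBc hf z E l

section Stalks

variable {A : Type*} [Category.{v} A] [HasColimitsOfSize.{u, u} A] [HasProducts.{u} A]

/-- Direct image of a skyscraper sheaf. -/
noncomputable def skyIso {z : FieldPt Y.obj} (hz : z.IsGeometric) :
    (ptY hz).skyscraperSheafFunctor ⋙ pushEt hf A ≅ (ptX f hz).skyscraperSheafFunctor (A := A) :=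
  NatIso.ofComponents
    (fun M => (fullyFaithfulSheafToPresheaf (etTop X.obj) A).preimageIso
      (NatIso.ofComponents
        (fun E => show (∏ᶜ fun _ : (ptY hz).fiber.obj ((EtOver.bc hf).obj E.unop) => M) ≅
            ∏ᶜ fun _ : (ptX f hz).fiber.obj E.unop => M from
          { hom := Pi.map' (bcEquiv hf hz E.unop) fun _ => 𝟙 M
            inv := Pi.map' (bcEquiv hf hz E.unop).symm fun _ => 𝟙 M
            hom_inv_id := Pi.hom_ext _ _ fun b => by
              simp
              exact congrArg _ ((bcEquiv hf hz E.unop).apply_symm_apply b)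
            inv_hom_id := Pi.hom_ext _ _ fun b => by
              simp
              exact congrArg _ ((bcEquiv hf hz E.unop).symm_apply_apply b) })
        fun {E E'} g => by
          refine Pi.hom_ext _ _ fun v => ?_
          show ((Pi.map' (f := fun _ => M) (g := fun _ => M) ((ptY hz).fiber.map ((EtOver.bc hf).map g.unop)) fun _ => 𝟙 M) ≫
              Pi.map' (bcEquiv hf hz E'.unop) fun _ => 𝟙 M) ≫ Pi.π (fun _ : (ptX f hz).fiber.obj E'.unop => M) v =
            ((Pi.map' (bcEquiv hf hz E.unop) fun _ => 𝟙 M) ≫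
              Pi.map' (f := fun _ => M) (g := fun _ => M) ((ptX f hz).fiber.map g.unop) fun _ => 𝟙 M) ≫ Pi.π (fun _ : (ptX f hz).fiber.obj E'.unop => M) v
          simp only [Category.assoc, Pi.map'_comp_π, Category.comp_id]
          exact congrArg _ (toBc_map hf z g.unop v).symm))
    fun {M N} φ => by
      apply ObjectProperty.hom_ext
      ext E
      refine Pi.hom_ext _ _ fun v => ?_
      show ((Limits.Pi.map fun _ : (ptY hz).fiber.obj ((EtOver.bc hf).obj E.unop) => φ) ≫
          Pi.map' (bcEquiv hf hz E.unop) fun _ => 𝟙 N) ≫ Pi.π (fun _ : (ptX f hz).fiber.obj E.unop => N) v =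
        ((Pi.map' (bcEquiv hf hz E.unop) fun _ => 𝟙 M) ≫
          Limits.Pi.map fun _ : (ptX f hz).fiber.obj E.unop => φ) ≫ Pi.π (fun _ : (ptX f hz).fiber.obj E.unop => N) v
      simp

/-- The stalk of an inverse image is the stalk at the image point. -/
noncomputable def pullStalkIso {z : FieldPt Y.obj} (hz : z.IsGeometric)
    [((EtOver.bc hf).sheafPushforwardContinuous A (etTop X.obj) (etTop Y.obj)).IsRightAdjoint] :
    pullEt hf A ⋙ (ptY hz).sheafFiber ≅ (ptX f hz).sheafFiber (A := A) :=
  (((pullPushAdjEt hf A).comp (ptY hz).skyscraperSheafAdjunction).ofNatIsoRight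
    (skyIso hf hz)).leftAdjointUniq (ptX f hz).skyscraperSheafAdjunction

end Stalks

variable {A : Type*} [Category.{v} A] [HasColimitsOfSize.{u, u} A] {FC : A → A → Type*}
  {CC : A → Type (u + 1)} [∀ (P Q : A), FunLike (FC P Q) (CC P) (CC Q)] [ConcreteCategory.{u + 1} A FC]

/-- A sheaf with one-element values on the objects avoiding the image. -/
def Avoids (f : Y ⟶ X) (G : EtSh X.obj A) : Prop :=
  ∀ E : EtOver X.obj, Disjoint (Set.range (Points.map E.obj.hom)) (Set.range (Points.map f.hom)) →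
    Nonempty (Unique (ToType (G.obj.obj (op E))))

omit [HasColimitsOfSize.{u, u} A] in
theorem avoids_pushEt [(etTop Y.obj).HasSheafCompose (CategoryTheory.forget A)] (F : EtSh Y.obj A) :
    Avoids f ((pushEt hf A).obj F) := by
  intro E hE
  have hemp : IsEmpty ((EtOver.bc hf).obj E).obj.left.left := ⟨fun x => by
    exact (Set.disjoint_left.1 hE : ∀ ⦃a⦄, _ → _)
      (a := Points.map E.obj.hom (Points.map ((yon S).map (hf.snd E.obj.hom)) (Points.ofScheme _ x)))
      ⟨_, rfl⟩ ⟨Points.map (hf.fst E.obj.hom) (Points.ofScheme _ x), by rw [← Points.map_comp, hf.w, Points.map_comp]⟩⟩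
  have hs := ((sheafCompose (etTop Y.obj) (CategoryTheory.forget A)).obj F).2
  rw [isSheaf_iff_isSheaf_of_type] at hs
  have hb : (⊥ : Sieve ((EtOver.bc hf).obj E)) ∈ etTop Y.obj _ :=
    Supp.cover_of_points _ fun x => hemp.false x |>.elim
  refine ⟨@Unique.mk' _ ⟨(hs ⊥ hb).amalgamate (fun _ _ h => False.elim h) fun _ _ _ _ _ _ _ h => False.elim h⟩
    ⟨fun a b => ?_⟩⟩
  exact (hs.isSeparated ⊥ hb).ext fun W g h => False.elim h

variable [PreservesFilteredColimitsOfSize.{u, u} (CategoryTheory.forget A)]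

include hf hi in
/-- The stalk at a point outside the image. -/
theorem subsingleton_stalk {G : EtSh X.obj A} (hG : Avoids f G) (p : FieldPt X.obj) (hp : p.IsGeometric)
    (hx : Points.mk p ∉ Set.range (Points.map f.hom)) :
    Subsingleton (ToType ((SH.sitePoint p hp).sheafFiber.obj G)) ∧
      Nonempty (ToType ((SH.sitePoint p hp).sheafFiber.obj G)) := by
  let P := SH.sitePoint p hp
  have key : ∀ (E : EtOver X.obj) (l : P.fiber.obj E), ∃ (W : EtOver X.obj) (a : W ⟶ E) (l' : P.fiber.obj W),
      P.fiber.map a l' = l ∧ Nonempty (Unique (ToType (G.obj.obj (op W)))) := by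
    intro E l
    let O : E.obj.left.left.Opens := ⟨Points.ofPt E.obj.hom ⁻¹' (Set.range (Points.map f.hom))ᶜ,
      (isClosed_range_points hf hi).isOpen_compl.preimage (Points.continuous_ofPt _)⟩
    have hl : l.1.left (IsLocalRing.closedPoint p.K) ∈ O := by
      show Points.ofPt E.obj.hom _ ∉ _
      rw [← Supp.mk_eq_ofPt_lift p l]
      exact hx
    obtain ⟨γ, hγ⟩ := Norm.exists_lift_open (openOverι E.obj.left O) l.1 fun x =>
      ⟨⟨_, hl⟩, congrArg l.1.left (Subsingleton.elim (α := PrimeSpectrum p.K) _ x)⟩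
    refine ⟨openE E O, openEι E O, ⟨γ, ?_⟩, Subtype.ext hγ, hG _ (Set.disjoint_left.2 ?_)⟩
    · show (yon S).map γ ≫ (yon S).map (openOverι E.obj.left O) ≫ E.obj.hom = _
      rw [← Functor.map_comp_assoc, hγ]
      exact l.2
    · rintro _ ⟨y, rfl⟩ hy
      obtain ⟨x, rfl⟩ := (Points.schemeEquiv _).surjective y
      have h2 : Points.ofPt (openE E O).obj.hom x ∈ Set.range (Points.map f.hom) := by
        rw [Points.ofPt_eq_map_ofScheme]; exact hy
      rw [Supp.ofPt_openE] at h2
      exact openEι_mem (E := E) x h2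
  refine ⟨⟨fun a b => ?_⟩, ?_⟩
  · obtain ⟨E, l, s, t, rfl, rfl⟩ := P.toPresheafFiber_jointly_surjective₂ (P := G.obj) a b
    obtain ⟨W, g, l', hl', ⟨hu'⟩⟩ := key E l
    exact (P.toPresheafFiber_eq_iff' E l s t).2 ⟨W, g, l', hl', Subsingleton.elim _ _⟩
  · obtain ⟨⟨E, l⟩⟩ : Nonempty P.fiber.Elements := IsCofiltered.nonempty
    obtain ⟨W, g, l', -, ⟨hu'⟩⟩ := key E l
    exact ⟨P.toPresheafFiber W l' G.obj hu'.default⟩

variable [(etTop X.obj).HasSheafCompose (CategoryTheory.forget A)]
  [(CategoryTheory.forget A).ReflectsIsomorphisms]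

theorem isIso_of_some_stalks {F G : EtSh X.obj A} (φ : F ⟶ G)
    (h : ∀ x : Points X.obj, ∃ (p : FieldPt X.obj) (hp : p.IsGeometric), Points.mk p = x ∧
      Function.Bijective ((SH.sitePoint p hp).sheafFiber.map φ)) : IsIso φ := by
  refine (Sheaf.isLocallyBijective_iff_isIso φ).1 ⟨⟨fun {E} a b hab => ?_⟩, ⟨fun {E} s => ?_⟩⟩
  · refine Supp.cover_of_points _ fun z => ?_
    obtain ⟨p, hp, hpz, hb⟩ := h (Points.ofPt E.unop.obj.hom z)
    obtain ⟨l, hl⟩ := Supp.exists_lift_of_mem_range p hp z hpz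
    let P := SH.sitePoint p hp
    have e : P.toPresheafFiber E.unop l F.obj a = P.toPresheafFiber E.unop l F.obj b := by
      apply hb.1
      exact (P.toPresheafFiber_naturality_apply φ.hom E.unop l a).trans
        ((congrArg _ hab).trans (P.toPresheafFiber_naturality_apply φ.hom E.unop l b).symm)
    obtain ⟨Y', g, y, hy, hg⟩ := (P.toPresheafFiber_eq_iff' E.unop l a b).1 e
    exact ⟨Y', g, hg, y.1.left (IsLocalRing.closedPoint p.K), (congrArg (fun u => u.1.left (IsLocalRing.closedPoint p.K)) hy).trans hl⟩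
  · refine Supp.cover_of_points _ fun z => ?_
    obtain ⟨p, hp, hpz, hb⟩ := h (Points.ofPt E.obj.hom z)
    obtain ⟨l, hl⟩ := Supp.exists_lift_of_mem_range p hp z hpz
    let P := SH.sitePoint p hp
    obtain ⟨w, hw⟩ := hb.2 (P.toPresheafFiber E l G.obj s)
    obtain ⟨X', x', t, rfl⟩ := P.toPresheafFiber_jointly_surjective (P := F.obj) w
    have hw' : P.toPresheafFiber X' x' G.obj (φ.hom.app (op X') t) = P.toPresheafFiber E l G.obj s :=
      (P.toPresheafFiber_naturality_apply φ.hom X' x' t).symm.trans hw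
    obtain ⟨⟨W, w⟩, g₁, g₂, -⟩ := IsCofilteredOrEmpty.cone_objs (P.fiber.elementsMk E l) (P.fiber.elementsMk X' x')
    obtain ⟨g₁, hg₁⟩ := g₁
    obtain ⟨g₂, hg₂⟩ := g₂
    change W ⟶ E at g₁
    change W ⟶ X' at g₂
    replace hg₁ : P.fiber.map g₁ w = l := hg₁
    replace hg₂ : P.fiber.map g₂ w = x' := hg₂
    subst hg₁ hg₂
    have e : P.toPresheafFiber W w G.obj (φ.hom.app (op W) (F.obj.map g₂.op t)) =
        P.toPresheafFiber W w G.obj (G.obj.map g₁.op s) := by
      rw [NatTrans.naturality_apply]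
      exact (P.toPresheafFiber_w_apply g₂ w G.obj _).trans
        (hw'.trans (P.toPresheafFiber_w_apply g₁ w G.obj _).symm)
    obtain ⟨Y', g, y, hy, hg⟩ := (P.toPresheafFiber_eq_iff' W w _ _).1 e
    subst hy
    refine ⟨Y', g ≫ g₁, ⟨F.obj.map g.op (F.obj.map g₂.op t), ?_⟩, y.1.left (IsLocalRing.closedPoint p.K), hl⟩
    rw [NatTrans.naturality_apply, hg, op_comp, Functor.map_comp_apply]

variable [HasProducts.{u} A] [(etTop Y.obj).HasSheafCompose (CategoryTheory.forget A)]
  [((EtOver.bc hf).sheafPushforwardContinuous A (etTop X.obj) (etTop Y.obj)).IsRightAdjoint]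
  [(pushEt hf A).Full] [(pushEt hf A).Faithful]

include hi in
theorem isIso_unit {G : EtSh X.obj A} (hG : Avoids f G) : IsIso ((pullPushAdjEt hf A).unit.app G) := by
  refine isIso_of_some_stalks _ fun x => ?_
  by_cases hx : x ∈ Set.range (Points.map f.hom)
  · obtain ⟨y, rfl⟩ := hx
    obtain ⟨z, hz, rfl⟩ := SH.exists_geometric y
    refine ⟨z.map f.hom, isGeometric_map hz, rfl, (ConcreteCategory.isIso_iff_bijective _).1 ?_⟩
    haveI : IsIso ((pullEt hf A).map ((pullPushAdjEt hf A).unit.app G)) :=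
      IsIso.of_isIso_fac_right (hh := IsIso.id _) ((pullPushAdjEt hf A).left_triangle_components G)
    exact (NatIso.isIso_map_iff (pullStalkIso hf hz) _).1
      (inferInstanceAs (IsIso ((ptY hz).sheafFiber.map ((pullEt hf A).map ((pullPushAdjEt hf A).unit.app G)))))
  · obtain ⟨p, hp, rfl⟩ := SH.exists_geometric x
    obtain ⟨h1, h2⟩ := subsingleton_stalk hf hi hG p hp hx
    obtain ⟨h3, h4⟩ := subsingleton_stalk hf hi (avoids_pushEt hf ((pullEt hf A).obj G)) p hp hx
    exact ⟨p, hp, rfl, fun a b _ => @Subsingleton.elim _ h1 a b,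
      fun b => ⟨Classical.choice h2, @Subsingleton.elim _ h3 _ _⟩⟩

include hi in
theorem essImage_iff (G : EtSh X.obj A) : (pushEt hf A).essImage G ↔ Avoids f G := by
  refine ⟨fun ⟨F, ⟨e⟩⟩ E hE => ?_, fun hG => ?_⟩
  · obtain ⟨hu⟩ := avoids_pushEt hf F E hE
    let i := (CategoryTheory.forget A).mapIso (((sheafToPresheaf _ _).mapIso e).app (op E))
    exact ⟨@Equiv.unique _ _ hu i.toEquiv.symm⟩
  · haveI := isIso_unit hf hi hG
    exact ⟨_, ⟨(asIso ((pullPushAdjEt hf A).unit.app G)).symm⟩⟩

end Groth.L23.PushEt
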