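import Groth.Agent.L23.PushEtGeom
import Groth.Agent.L23.StalkConservative

/-!
# Stalks of direct images along integral universally injective morphisms, full faithfulness
-/

universe v u

open CategoryTheory CategoryTheory.Limits AlgebraicGeometry Opposite AlgSp GrothendieckTopology

set_option backward.isDefEq.respectTransparency.types false
set_option linter.style.haveILetI false

namespace Groth.L23.PushEt

variable {S : Scheme.{u}} {Y X : AlgSp.Space S} {f : Y ⟶ X} (hf : Representable f.hom)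

theorem isGeometric_map {z : FieldPt Y.obj} (hz : z.IsGeometric) : (z.map f.hom).IsGeometric := hz

/-- The point of the site of `Y` at a geometric point. -/
noncomputable abbrev ptY {z : FieldPt Y.obj} (hz : z.IsGeometric) : Point.{u} (etTop Y.obj) :=
  SH.sitePoint z hz

/-- The point of the site of `X` at the image of a geometric point. -/
noncomputable abbrev ptX (f : Y ⟶ X) {z : FieldPt Y.obj} (hz : z.IsGeometric) : Point.{u} (etTop X.obj) :=
  SH.sitePoint (z.map f.hom) (isGeometric_map hz)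

variable {A : Type*} [Category.{v} A] [HasColimitsOfSize.{u, u} A]

/-- The comparison of the stalk of a direct image with the stalk. -/
noncomputable def stalkMap {z : FieldPt Y.obj} (hz : z.IsGeometric) (P : (EtOver Y.obj)ᵒᵖ ⥤ A) :
    (ptX f hz).presheafFiber.obj ((EtOver.bc hf).op ⋙ P) ⟶ (ptY hz).presheafFiber.obj P :=
  (ptX f hz).presheafFiberDesc (fun V v => (ptY hz).toPresheafFiber ((EtOver.bc hf).obj V) (toBc hf z V v) P)
    fun V V' g v => by
      show P.map ((EtOver.bc hf).map g).op ≫ _ = _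
      refine ((ptY hz).toPresheafFiber_w ((EtOver.bc hf).map g) (toBc hf z V v) P).trans ?_
      exact congrArg (fun x => (ptY hz).toPresheafFiber _ x P) (toBc_map hf z g v).symm

theorem toPresheafFiber_stalkMap {z : FieldPt Y.obj} (hz : z.IsGeometric) (P : (EtOver Y.obj)ᵒᵖ ⥤ A)
    (V : EtOver X.obj) (v : (ptX f hz).fiber.obj V) :
    (ptX f hz).toPresheafFiber V v ((EtOver.bc hf).op ⋙ P) ≫ stalkMap hf hz P =
      (ptY hz).toPresheafFiber ((EtOver.bc hf).obj V) (toBc hf z V v) P :=
  (ptX f hz).toPresheafFiber_presheafFiberDesc (P := (EtOver.bc hf).op ⋙ P)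
    (fun V v => (ptY hz).toPresheafFiber ((EtOver.bc hf).obj V) (toBc hf z V v) P) _ V v

variable {FC : A → A → Type*} {CC : A → Type (u + 1)}
  [∀ (P Q : A), FunLike (FC P Q) (CC P) (CC Q)] [ConcreteCategory.{u + 1} A FC]

theorem stalkMap_germ {z : FieldPt Y.obj} (hz : z.IsGeometric) (P : (EtOver Y.obj)ᵒᵖ ⥤ A)
    (V : EtOver X.obj) (v : (ptX f hz).fiber.obj V) (s : ToType (P.obj (op ((EtOver.bc hf).obj V)))) :
    stalkMap hf hz P ((ptX f hz).toPresheafFiber V v ((EtOver.bc hf).op ⋙ P) s) =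
      (ptY hz).toPresheafFiber ((EtOver.bc hf).obj V) (toBc hf z V v) P s :=
  (ConcreteCategory.comp_apply _ _ _).symm.trans
    (ConcreteCategory.congr_hom (toPresheafFiber_stalkMap hf hz P V v) s)

variable [PreservesFilteredColimitsOfSize.{u, u} (CategoryTheory.forget A)]

variable (hi : RepWith @IsIntegralHom f.hom) (hu : RepWith @UniversallyInjective f.hom)

include hi hu in
theorem bijective_stalkMap {z : FieldPt Y.obj} (hz : z.IsGeometric) (P : (EtOver Y.obj)ᵒᵖ ⥤ A) :
    Function.Bijective (stalkMap hf hz P) := by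
  refine ⟨fun p₁ p₂ h => ?_, fun p => ?_⟩
  · obtain ⟨V, v, s₁, s₂, rfl, rfl⟩ := (ptX f hz).toPresheafFiber_jointly_surjective₂ p₁ p₂
    rw [stalkMap_germ, stalkMap_germ] at h
    obtain ⟨U, g, l, hl, hs⟩ := ((ptY hz).toPresheafFiber_eq_iff' _ _ _ _).1 h
    obtain ⟨V₀, v₀, g₀, hv₀⟩ := exists_nbhd_into hf z hi hu hz U l
    obtain ⟨⟨V₁, v₁⟩, ⟨p, hp⟩, ⟨q, hq⟩, -⟩ :=
      IsCofilteredOrEmpty.cone_objs (C := (ptX f hz).fiber.Elements) ⟨V, v⟩ ⟨V₀, v₀⟩
    obtain ⟨V₂, a, v₂, hv₂, ha⟩ := exists_agree hf z hi hu _ V₁ v₁ ((EtOver.bc hf).map p)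
      ((EtOver.bc hf).map q ≫ g₀ ≫ g) (by
        rw [← toBc_map hf z p, show (FieldPt.liftsTo (z.map f.hom)).map p v₁ = v from hp]
        rw [CategoryTheory.Functor.map_comp, CategoryTheory.Functor.map_comp]
        simp only [ConcreteCategory.comp_apply]
        rw [← toBc_map hf z q, show (FieldPt.liftsTo (z.map f.hom)).map q v₁ = v₀ from hq, hv₀]
        exact hl.symm)
    refine ((ptX f hz).toPresheafFiber_eq_iff' V v s₁ s₂).2 ⟨V₂, a ≫ p, v₂, ?_, ?_⟩
    · rw [CategoryTheory.Functor.map_comp, ConcreteCategory.comp_apply]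
      exact (congrArg _ hv₂).trans hp
    · show P.map ((EtOver.bc hf).map (a ≫ p)).op s₁ = P.map ((EtOver.bc hf).map (a ≫ p)).op s₂
      rw [Functor.map_comp, ha]
      simp only [op_comp, Functor.map_comp, ConcreteCategory.comp_apply, hs]
  · obtain ⟨U, l, s, rfl⟩ := (ptY hz).toPresheafFiber_jointly_surjective p
    obtain ⟨V, v, g, hg⟩ := exists_nbhd_into hf z hi hu hz U l
    refine ⟨(ptX f hz).toPresheafFiber V v ((EtOver.bc hf).op ⋙ P) (P.map g.op s), ?_⟩
    rw [stalkMap_germ, ← hg]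
    exact (ptY hz).toPresheafFiber_w_apply g _ P s

variable [(etTop Y.obj).HasSheafCompose (CategoryTheory.forget A)]

omit hi hu in
/-- Sections of a sheaf are determined by their germs. -/
theorem eq_of_germs (G : EtSh Y.obj A) {U : EtOver Y.obj} (s t : ToType (G.obj.obj (op U)))
    (h : ∀ (z : FieldPt Y.obj) (hz : z.IsGeometric) (l : (ptY hz).fiber.obj U),
      (ptY hz).toPresheafFiber U l G.obj s = (ptY hz).toPresheafFiber U l G.obj t) : s = t := by
  have hs := ((sheafCompose (etTop Y.obj) (CategoryTheory.forget A)).obj G).2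
  rw [isSheaf_iff_isSheaf_of_type] at hs
  refine (hs.isSeparated (Presheaf.equalizerSieve (F := G.obj) (X := op U) s t)
    (SH.mem_etTop_of_points _ fun z hz l => ?_)).ext fun W g hg => hg
  obtain ⟨W, g, w, hw, hg⟩ := ((ptY hz).toPresheafFiber_eq_iff' U l s t).1 (h z hz l)
  exact ⟨W, g, w, hw, hg⟩

include hi hu in
theorem eq_of_push_eq {F G : EtSh Y.obj A} (φ₁ φ₂ : F ⟶ G)
    (h : ∀ (V : EtOver X.obj) (s : ToType (F.obj.obj (op ((EtOver.bc hf).obj V)))),
      φ₁.hom.app _ s = φ₂.hom.app _ s) : φ₁ = φ₂ := by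
  apply ObjectProperty.hom_ext
  refine NatTrans.ext (funext fun U => ConcreteCategory.hom_ext _ _ fun s => ?_)
  refine eq_of_germs G _ _ fun z hz l => ?_
  obtain ⟨V, v, g, hg⟩ := exists_nbhd_into hf z hi hu hz U.unop l
  rw [← hg]
  refine ((ptY hz).toPresheafFiber_w_apply g _ G.obj _).symm.trans
    (Eq.trans ?_ ((ptY hz).toPresheafFiber_w_apply g _ G.obj _))
  refine congrArg _ ?_
  rw [← NatTrans.naturality_apply, ← NatTrans.naturality_apply]
  exact h V (F.obj.map g.op s)

/-! ### Fullness -/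

variable [(CategoryTheory.forget A).ReflectsIsomorphisms] {F G : EtSh Y.obj A}
  (h : (pushEt hf A).obj F ⟶ (pushEt hf A).obj G)

include hi hu in
/-- The map on stalks induced by a map of direct images. -/
theorem exists_stalk_hom {z : FieldPt Y.obj} (hz : z.IsGeometric) :
    ∃ Φ : (ptY hz).presheafFiber.obj F.obj ⟶ (ptY hz).presheafFiber.obj G.obj,
      ∀ x, Φ (stalkMap hf hz F.obj x) = stalkMap hf hz G.obj ((ptX f hz).presheafFiber.map h.hom x) := by
  haveI : IsIso (stalkMap hf hz F.obj) :=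
    (ConcreteCategory.isIso_iff_bijective (stalkMap hf hz F.obj)).2 (bijective_stalkMap hf hi hu hz F.obj)
  exact ⟨inv (stalkMap hf hz F.obj) ≫ (ptX f hz).presheafFiber.map h.hom ≫ stalkMap hf hz G.obj,
    fun x => ((ConcreteCategory.comp_apply _ _ _).symm.trans
      (ConcreteCategory.congr_hom (IsIso.hom_inv_id_assoc _ _) x)).trans (ConcreteCategory.comp_apply _ _ _)⟩

/-- The map on stalks induced by a map of direct images. -/
noncomputable def stalkHom {z : FieldPt Y.obj} (hz : z.IsGeometric) :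
    (ptY hz).presheafFiber.obj F.obj ⟶ (ptY hz).presheafFiber.obj G.obj :=
  (exists_stalk_hom hf hi hu h hz).choose

theorem stalkHom_germ {z : FieldPt Y.obj} (hz : z.IsGeometric) (V : EtOver X.obj) (v : (ptX f hz).fiber.obj V)
    (s : ToType (F.obj.obj (op ((EtOver.bc hf).obj V)))) :
    stalkHom hf hi hu h hz ((ptY hz).toPresheafFiber ((EtOver.bc hf).obj V) (toBc hf z V v) F.obj s) =
      (ptY hz).toPresheafFiber ((EtOver.bc hf).obj V) (toBc hf z V v) G.obj (h.hom.app (op V) s) := by
  rw [← stalkMap_germ, ← stalkMap_germ, stalkHom, (exists_stalk_hom hf hi hu h hz).choose_spec]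
  exact congrArg _ ((ptX f hz).toPresheafFiber_naturality_apply h.hom V v s)

/-- A section corresponds to another under the maps of stalks. -/
def Good {U : EtOver Y.obj} (s : ToType (F.obj.obj (op U))) (t : ToType (G.obj.obj (op U))) : Prop :=
  ∀ (z : FieldPt Y.obj) (hz : z.IsGeometric) (l : (ptY hz).fiber.obj U),
    (ptY hz).toPresheafFiber U l G.obj t = stalkHom hf hi hu h hz ((ptY hz).toPresheafFiber U l F.obj s)

theorem good_unique {U : EtOver Y.obj} {s : ToType (F.obj.obj (op U))} {t t' : ToType (G.obj.obj (op U))}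
    (ht : Good hf hi hu h s t) (ht' : Good hf hi hu h s t') : t = t' :=
  eq_of_germs G t t' fun z hz l => (ht z hz l).trans (ht' z hz l).symm

theorem good_map {U W : EtOver Y.obj} (g : W ⟶ U) {s : ToType (F.obj.obj (op U))}
    {t : ToType (G.obj.obj (op U))} (ht : Good hf hi hu h s t) :
    Good hf hi hu h (F.obj.map g.op s) (G.obj.map g.op t) := fun z hz l => by
  rw [Point.toPresheafFiber_w_apply, Point.toPresheafFiber_w_apply]
  exact ht z hz _

theorem good_bc (V : EtOver X.obj) (s : ToType (F.obj.obj (op ((EtOver.bc hf).obj V)))) :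
    Good hf hi hu h s (h.hom.app (op V) s) := fun z hz l => by
  rw [← toBc_ofBc hf z V l]
  exact (stalkHom_germ hf hi hu h hz V _ s).symm

theorem exists_good {U : EtOver Y.obj} (s : ToType (F.obj.obj (op U))) : ∃ t, Good hf hi hu h s t := by
  have hs := ((sheafCompose (etTop Y.obj) (CategoryTheory.forget A)).obj G).2
  rw [isSheaf_iff_isSheaf_of_type] at hs
  let R : Sieve U := ⟨fun W g => ∃ t, Good hf hi hu h (F.obj.map g.op s) t, fun {W W'} g ⟨t, ht⟩ k =>
    ⟨G.obj.map k.op t, by rw [op_comp, Functor.map_comp_apply]; exact good_map hf hi hu h k ht⟩⟩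
  have hR : R ∈ etTop Y.obj U := SH.mem_etTop_of_points _ fun z hz l => by
    obtain ⟨V, v, g, hg⟩ := exists_nbhd_into hf z hi hu hz U l
    exact ⟨_, g, _, hg, _, good_bc hf hi hu h V _⟩
  have hc : Presieve.FamilyOfElements.Compatible (P := ((sheafCompose (etTop Y.obj) (CategoryTheory.forget A)).obj G).obj)
      (fun W g (hg : R g) => hg.choose) := by
    intro W₁ W₂ W g₁ g₂ f₁ f₂ hf₁ hf₂ hw
    have h₁ := good_map hf hi hu h g₁ hf₁.choose_spec
    have h₂ := good_map hf hi hu h g₂ hf₂.choose_spec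
    rw [← Functor.map_comp_apply, ← op_comp] at h₁ h₂
    rw [hw] at h₁
    exact good_unique hf hi hu h h₁ h₂
  refine ⟨(hs R hR).amalgamate _ hc, fun z hz l => ?_⟩
  obtain ⟨W, g, hg, w, rfl⟩ := (ptY hz).jointly_surjective R hR l
  rw [← Point.toPresheafFiber_w_apply, ← Point.toPresheafFiber_w_apply]
  refine (congrArg _ ((hs R hR).valid_glue hc g hg)).trans ?_
  exact hg.choose_spec z hz w

end Groth.L23.PushEt
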