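import Groth.Agent.L23.PushEtFull
import Groth.Agent.L23.ClosedPushEt

/-!
# Full faithfulness of direct images of modules along closed immersions
-/

universe u

open CategoryTheory CategoryTheory.Limits AlgebraicGeometry Opposite AlgSp GrothendieckTopology

set_option autoImplicit false
set_option backward.isDefEq.respectTransparency.types false
set_option linter.style.haveILetI false

namespace Groth.L23.PushEt

variable {S : Scheme.{u}} {Y X : AlgSp.Space S} {f : Y ⟶ X} (hf : Representable f.hom)
  (hi : RepWith @IsIntegralHom f.hom) (hu : RepWith @UniversallyInjective f.hom)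

include hi hu in
theorem faithful_pushModEt : (pushModEt hf).Faithful := by
  haveI := faithful_pushEt (A := AddCommGrpCat.{u + 1}) hf hi hu
  refine ⟨fun {F G φ₁ φ₂} h => ?_⟩
  refine (SheafOfModules.toSheaf _).map_injective ((pushEt hf AddCommGrpCat.{u + 1}).map_injective ?_)
  exact congrArg (fun m => (SheafOfModules.toSheaf _).map m) h

set_option maxHeartbeats 2000000 in
include hi hu in
theorem full_pushModEt (hs : Presheaf.IsLocallySurjective (etTop X.obj) (bcRingHom hf).hom) :
    (pushModEt hf).Full := by
  haveI := full_pushEt_ab hf hi hu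
  refine ⟨fun {F G} h => ?_⟩
  let h' : (pushEt hf AddCommGrpCat.{u + 1}).obj ((SheafOfModules.toSheaf _).obj F) ⟶
      (pushEt hf AddCommGrpCat.{u + 1}).obj ((SheafOfModules.toSheaf _).obj G) :=
    (SheafOfModules.toSheaf _).map h
  obtain ⟨g, hg⟩ := (pushEt hf AddCommGrpCat.{u + 1}).map_surjective h'
  have hgV : ∀ (V : EtOver X.obj)
      (s : ToType (((SheafOfModules.toSheaf _).obj F).obj.obj (op ((EtOver.bc hf).obj V)))),
      g.hom.app (op ((EtOver.bc hf).obj V)) s = h'.hom.app (op V) s := fun V s => by
    rw [← hg]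
    rfl
  have hlin : ∀ (U : (EtOver Y.obj)ᵒᵖ) (r : (OEtRing Y.obj).obj.obj U) (s : F.val.obj U),
      g.hom.app U (r • s) = r • (show G.val.obj U from g.hom.app U s) := by
    intro U r s
    obtain ⟨U⟩ := U
    refine eq_of_germs ((SheafOfModules.toSheaf _).obj G) _ _ fun z hz l => ?_
    obtain ⟨V, v, k, hk⟩ := exists_nbhd_into hf z hi hu hz U l
    obtain ⟨W, a, ha, w, hw⟩ := (ptX f hz).jointly_surjective _
      (hs.imageSieve_mem (U := V) ((OEtRing Y.obj).obj.map k.op r)) v
    obtain ⟨rW, hrW⟩ := ha
    let m : (EtOver.bc hf).obj W ⟶ U := (EtOver.bc hf).map a ≫ k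
    have hl : (ptY hz).fiber.map m (toBc hf z W w) = l := by
      rw [CategoryTheory.Functor.map_comp, ConcreteCategory.comp_apply]
      have e : (ptY hz).fiber.map ((EtOver.bc hf).map a) (toBc hf z W w) = toBc hf z V v :=
        (toBc_map hf z a w).symm.trans (congrArg (toBc hf z V) hw)
      exact (congrArg ((ptY hz).fiber.map k) e).trans hk
    rw [← hl]
    refine ((ptY hz).toPresheafFiber_w_apply m _ ((SheafOfModules.toSheaf _).obj G).obj _).symm.trans
      (Eq.trans ?_ ((ptY hz).toPresheafFiber_w_apply m _ ((SheafOfModules.toSheaf _).obj G).obj _))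
    refine congrArg _ ?_
    have hmr : (OEtRing Y.obj).obj.map m.op r = (bcRingHom hf).hom.app (op W) rW := by
      rw [hrW]
      show (OEtRing Y.obj).obj.map ((EtOver.bc hf).map a ≫ k).op r = _
      rw [op_comp, Functor.map_comp_apply]
      rfl
    have e1 : ((SheafOfModules.toSheaf _).obj G).obj.map m.op (g.hom.app (op U) (r • s)) =
        h.val.app (op W) (show ((pushModEt hf).obj F).val.obj (op W) from F.val.map m.op (r • s)) := by
      refine (NatTrans.naturality_apply g.hom m.op _).symm.trans ?_
      exact hgV W _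
    have e2 : G.val.map m.op (show G.val.obj (op U) from g.hom.app (op U) s) =
        h.val.app (op W) (show ((pushModEt hf).obj F).val.obj (op W) from F.val.map m.op s) := by
      refine (NatTrans.naturality_apply g.hom m.op _).symm.trans ?_
      exact hgV W _
    refine e1.trans ?_
    show _ = G.val.map m.op (r • (show G.val.obj (op U) from g.hom.app (op U) s))
    rw [PresheafOfModules.map_smul, PresheafOfModules.map_smul, e2, hmr]
    exact (h.val.app (op W)).hom.map_smul rW _
  refine ⟨⟨PresheafOfModules.homMk g.hom hlin⟩, ?_⟩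
  refine (SheafOfModules.toSheaf _).map_injective ?_
  show _ = h'
  rw [← hg]
  rfl

end Groth.L23.PushEt
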