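import Groth.Agent.L23.PushoutSpace
import Groth.Agent.L23.LocP

/-!
# Charts of pushouts along thickenings
-/

universe u

open CategoryTheory CategoryTheory.Limits AlgebraicGeometry AlgSp

set_option linter.style.haveILetI false
set_option backward.isDefEq.respectTransparency.types false

namespace Groth.L23.PushoutSpace

variable {S : Scheme.{u}}

/-- A square is cartesian if its base change along an étale surjective chart is. -/
theorem isPullback_of_cover {A B C D : Sp S} {i : A ⟶ B} {v : A ⟶ C} {w : B ⟶ D} {k : C ⟶ D}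
    (comm : i ≫ w = v ≫ k) {UA UB : Over S} {pA : (yon S).obj UA ⟶ A} {pB : (yon S).obj UB ⟶ B}
    {iU : UA ⟶ UB} (hB : RepWith @Etale pB) (hBs : RepWith @Surjective pB)
    (sq : IsPullback ((yon S).map iU) pA pB i)
    (big : IsPullback ((yon S).map iU) (pA ≫ v) (pB ≫ w) k) : IsPullback i v w k := by
  let l : A ⟶ pullback w k := pullback.lift i v comm
  have hl₁ : l ≫ pullback.fst w k = i := pullback.lift_fst _ _ _
  have hl₂ : l ≫ pullback.snd w k = v := pullback.lift_snd _ _ _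
  have h₁ : IsPullback ((yon S).map iU) (pA ≫ l) pB (pullback.fst w k) := by
    refine IsPullback.of_bot (h₁₁ := (yon S).map iU) (v₂₁ := pullback.snd w k) (v₂₂ := w) ?_ ?_
      (IsPullback.of_hasPullback w k)
    · rw [Category.assoc, hl₂]; exact big
    · rw [Category.assoc, hl₁, sq.w]
  have hp : RepWith @Etale (pA ≫ l) := repWith_of_isPullback h₁ hB
  have hps : RepWith @Surjective (pA ≫ l) := repWith_of_isPullback h₁ hBs
  have h₂ : IsPullback pA (𝟙 _) l (pA ≫ l) := by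
    have key : ∀ {T : Sp S} (x : T ⟶ A) (u : T ⟶ (yon S).obj UA), x ≫ l = u ≫ pA ≫ l → u ≫ pA = x := by
      intro T x u e
      have e' : x ≫ i = (u ≫ (yon S).map iU) ≫ pB := by
        rw [← hl₁, reassoc_of% e, hl₁, ← sq.w, Category.assoc]
      obtain ⟨u', hu₁, hu₂⟩ := sq.exists_lift (u ≫ (yon S).map iU) x e'.symm
      have : u' = u := h₁.hom_ext hu₁ (by rw [reassoc_of% hu₂, e])
      rw [← hu₂, this]
    refine ⟨⟨(Category.id_comp _).symm⟩, ⟨PullbackCone.IsLimit.mk _ (fun s => s.snd) (fun s => key _ _ s.condition)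
      (fun s => Category.comp_id _) (fun s m _ hm => (Category.comp_id m).symm.trans hm)⟩⟩
  have : Mono l := mono_of_cover l _ hp hps h₂
  have : Epi (pA ≫ l) := epi_of_repWith _ hp hps
  have : Epi l := epi_of_epi pA l
  have : IsIso l := isIso_of_mono_of_epi l
  exact IsPullback.of_iso_pullback ⟨comm⟩ (asIso l) hl₁ hl₂

section

variable {X X' Y Y' : Space S} {t : X ⟶ X'} {f : X ⟶ Y} {f' : X' ⟶ Y'} {t' : Y ⟶ Y'}

/-- A pushout along a thickening has charts. -/
theorem exists_chart_of_isPushout (ht : IsThickMor t.hom) (hf : IsAffineMor f.hom) (h : IsPushout t f f' t') :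
    Nonempty (Chart t.hom f.hom f'.hom t'.hom) := by
  obtain ⟨Y₀, f₀, t₀, h₀, -, ⟨c⟩⟩ := exists_pushout t ht f hf
  let e := h₀.isoIsPushout _ _ h
  have e₁ : f₀.hom ≫ e.hom.hom = f'.hom := congrArg (fun k => k.hom) (h₀.inl_isoIsPushout_hom _ _ h)
  have e₂ : t₀.hom ≫ e.hom.hom = t'.hom := congrArg (fun k => k.hom) (h₀.inr_isoIsPushout_hom _ _ h)
  let E : Y₀.obj ≅ Y'.obj :=
    ⟨e.hom.hom, e.inv.hom, congrArg (fun k => k.hom) e.hom_inv_id, congrArg (fun k => k.hom) e.inv_hom_id⟩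
  exact ⟨{ c with
    qV' := c.qV' ≫ E.hom
    etV' := repWith_comp c.etV' (repWith_of_isIso _)
    surV' := repWith_comp c.surV' (repWith_of_isIso _)
    sqA := c.sqA.of_iso (Iso.refl _) (Iso.refl _) (Iso.refl _) E (by simp) (by simp) (by simp) (by simp [E, e₁])
    sqB := c.sqB.of_iso (Iso.refl _) (Iso.refl _) (Iso.refl _) E (by simp) (by simp) (by simp) (by simp [E, e₂]) }⟩

end

open Groth.L20.Pinch in
/-- The pullback of a pinched square along a flat map is pinched. -/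
theorem exists_flat_pieces {W W' V V' : Over S} {τ : W ⟶ W'} {j : W ⟶ V} {a : W' ⟶ V'} {b : V ⟶ V'}
    [IsClosedImmersion τ.left] [Surjective τ.left] [IsAffineHom j.left]
    (hP : IsPinch τ.left j.left a.left b.left) (hpo : IsPushout τ j a b)
    [IsClosedImmersion b.left] [Surjective b.left] {E : Over S} (α : E ⟶ V') [Flat α.left] :
    ∃ (EW EW' EV : Over S) (αW : EW ⟶ W) (αW' : EW' ⟶ W') (αV : EV ⟶ V) (τE : EW ⟶ EW') (jE : EW ⟶ EV)
      (aE : EW' ⟶ E) (bE : EV ⟶ E) (hτ : IsClosedImmersion τE.left),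
      IsPullback aE αW' α a ∧ IsPullback bE αV α b ∧ IsPullback τE αW αW' τ ∧ IsPullback jE αW αV j ∧
      Surjective τE.left ∧ IsAffineHom jE.left ∧ IsClosedImmersion bE.left ∧ Surjective bE.left ∧
      @IsPinch _ _ _ τE.left jE.left hτ _ aE.left bE.left ∧ IsPushout τE jE aE bE := by
  have sA := IsPullback.of_hasPullback α a
  have sB := IsPullback.of_hasPullback α b
  have sT := IsPullback.of_hasPullback (pullback.snd α a) τ
  have hZ := sT.paste_horiz sA
  let jE : pullback (pullback.snd α a) τ ⟶ pullback α b :=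
    sB.lift (pullback.fst _ τ ≫ pullback.fst α a) (pullback.snd _ τ ≫ j)
      (by rw [hZ.w, Category.assoc, hpo.w])
  have sJ : IsPullback jE (pullback.snd _ τ) (pullback.snd α b) j := by
    refine IsPullback.of_right ?_ (sB.lift_snd _ _ _) sB
    rw [sB.lift_fst, ← hpo.w]; exact hZ
  have hτ : IsClosedImmersion (pullback.fst (pullback.snd α a) τ).left :=
    MorphismProperty.of_isPullback (sT.map (Over.forget S)).flip ‹IsClosedImmersion τ.left›
  have hτs : Surjective (pullback.fst (pullback.snd α a) τ).left :=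
    MorphismProperty.of_isPullback (P := @Surjective) (sT.map (Over.forget S)).flip ‹Surjective τ.left›
  have hj : IsAffineHom jE.left :=
    MorphismProperty.of_isPullback (P := @IsAffineHom) (sJ.map (Over.forget S)).flip ‹IsAffineHom j.left›
  have hp := PinchOver.isPushout_flat hP sB sA sT sJ.w (sB.lift_fst _ _ _).symm
  refine ⟨_, _, _, _, _, _, _, jE, _, _, hτ, sA, sB, sT, sJ, hτs, hj,
    MorphismProperty.of_isPullback (sB.map (Over.forget S)).flip ‹IsClosedImmersion b.left›,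
    MorphismProperty.of_isPullback (P := @Surjective) (sB.map (Over.forget S)).flip ‹Surjective b.left›,
    IsPinch.of_isPushout (std_of_thickening hτs.surj) (hp.map (Over.forget S)), hp⟩

/-- Refine a chart along an étale surjective map. -/
theorem Chart.exists_refine {X X' Y Y' : Sp S} {t : X ⟶ X'} {f : X ⟶ Y} {f' : X' ⟶ Y'} {t' : Y ⟶ Y'}
    (c : Chart t f f' t') {E : Over S} (e : E ⟶ c.V') [Etale e.left] [Surjective e.left] :
    ∃ c' : Chart t f f' t', ∃ (h : c'.V' = E), c'.qV' = (yon S).map (eqToHom h ≫ e) ≫ c.qV' := by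
  have := c.closed; have := c.surj; have := c.affine; have := c.bclosed; have := c.bsurj
  obtain ⟨EW, EW', EV, eW, eW', eV, τE, jE, aE, bE, hτ, sA, sB, sT, sJ, hτs, hj, hbc, hbs, hP, hpo⟩ :=
    exists_flat_pieces c.pinch c.isPushout e
  have he : RepWith @Etale ((yon S).map e) := repWith_map ‹Etale e.left›
  have hes : RepWith @Surjective ((yon S).map e) := repWith_map ‹Surjective e.left›
  exact ⟨⟨EW, EW', EV, E, τE, jE, aE, bE, (yon S).map eW ≫ c.qW, (yon S).map eW' ≫ c.qW', (yon S).map eV ≫ c.qV,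
    (yon S).map e ≫ c.qV', hτ, hτs, hj, hbc, hbs, hP, hpo,
    repWith_comp (repWith_of_isPullback (sA.map (yon S)) he) c.etW',
    repWith_comp (repWith_of_isPullback (sA.map (yon S)) hes) c.surW',
    repWith_comp (repWith_of_isPullback (sB.map (yon S)) he) c.etV,
    repWith_comp (repWith_of_isPullback (sB.map (yon S)) hes) c.surV,
    repWith_comp he c.etV', repWith_comp hes c.surV',
    (sT.map (yon S)).paste_vert c.sqT, (sJ.map (yon S)).paste_vert c.sqF,
    (sA.map (yon S)).paste_vert c.sqA, (sB.map (yon S)).paste_vert c.sqB⟩, rfl, by simp⟩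

/-- A morphism of charts. -/
structure RelChart {U U' V V' X X' Y Y' : Sp S} {uU' : U ⟶ U'} {uV : U ⟶ V} {iU' : U' ⟶ V'} {iV : V ⟶ V'}
    {t : X ⟶ X'} {f : X ⟶ Y} {f' : X' ⟶ Y'} {t' : Y ⟶ Y'} (cA : Chart uU' uV iU' iV) (c : Chart t f f' t')
    (uX : U ⟶ X) (u' : U' ⟶ X') (v : V ⟶ Y) (v' : V' ⟶ Y') where
  αW : cA.W ⟶ c.W
  αW' : cA.W' ⟶ c.W'
  αV : cA.V ⟶ c.V
  α : cA.V' ⟶ c.V'
  sqT : IsPullback cA.τ αW αW' c.τ
  sqJ : IsPullback cA.j αW αV c.j
  commA : cA.a ≫ α = αW' ≫ c.a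
  commB : cA.b ≫ α = αV ≫ c.b
  wW' : cA.qW' ≫ u' = (yon S).map αW' ≫ c.qW'
  wV : cA.qV ≫ v = (yon S).map αV ≫ c.qV
  wV' : cA.qV' ≫ v' = (yon S).map α ≫ c.qV'

/-- A morphism of pushouts along thickenings has compatible charts. -/
theorem exists_relChart {U U' V V' X X' Y Y' : Space S} {uU' : U ⟶ U'} {uV : U ⟶ V} {iU' : U' ⟶ V'} {iV : V ⟶ V'}
    {t : X ⟶ X'} {f : X ⟶ Y} {f' : X' ⟶ Y'} {t' : Y ⟶ Y'} {uX : U ⟶ X} {u' : U' ⟶ X'} {v : V ⟶ Y} {v' : V' ⟶ Y'}
    (ht : IsThickMor t.hom) (hf : IsAffineMor f.hom) (hY' : IsPushout t f f' t')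
    (hUV : IsPullback uV.hom uX.hom v.hom f.hom) (hUU' : IsPullback uU'.hom uX.hom u'.hom t.hom)
    (hV' : IsPushout uV uU' iV iU') (h₁ : iV ≫ v' = v ≫ t') (h₂ : iU' ≫ v' = u' ≫ f') :
    ∃ (cA : Chart uU'.hom uV.hom iU'.hom iV.hom) (c : Chart t.hom f.hom f'.hom t'.hom),
      Nonempty (RelChart cA c uX.hom u'.hom v.hom v'.hom) := by
  obtain ⟨c⟩ := exists_chart_of_isPushout ht hf hY'
  obtain ⟨c₀⟩ := exists_chart_of_isPushout (repWith_of_isPullback hUU'.flip ht)
    (isAffineMor_iff.2 (repWith_of_isPullback hUV.flip (repWith_isAffineHom_of_isAffineMor hf))) hV'.flip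
  obtain ⟨E, e, α₀, sqE⟩ := exists_isPullback_of_representable c.etV'.1 (c₀.qV' ≫ v'.hom)
  obtain ⟨e', α', sqE'⟩ : ∃ (e' : E ⟶ c₀.V') (α' : E ⟶ c.V'),
      IsPullback ((yon S).map α') ((yon S).map e') c.qV' (c₀.qV' ≫ v'.hom) := ⟨α₀, e, sqE⟩
  have : Etale e'.left := repWith_prop c.etV' sqE'
  have : Surjective e'.left := repWith_prop c.surV' sqE'
  obtain ⟨cA, hE, hq⟩ := c₀.exists_refine e'
  let α : cA.V' ⟶ c.V' := eqToHom hE ≫ α'
  have wV' : cA.qV' ≫ v'.hom = (yon S).map α ≫ c.qV' := by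
    rw [hq, Functor.map_comp, Functor.map_comp, Category.assoc, Category.assoc, Category.assoc, ← sqE'.w]
  have hiV : iV.hom ≫ v'.hom = v.hom ≫ t'.hom := congrArg (fun k => k.hom) h₁
  have hiU : iU'.hom ≫ v'.hom = u'.hom ≫ f'.hom := congrArg (fun k => k.hom) h₂
  obtain ⟨αV, hV₁, hV₂⟩ := c.sqB.exists_lift ((yon S).map (cA.b ≫ α)) (cA.qV ≫ v.hom) (by
    rw [Functor.map_comp, Category.assoc, ← wV', reassoc_of% cA.sqB.w, hiV, Category.assoc])
  obtain ⟨αV, rfl⟩ := (yon S).map_surjective αV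
  obtain ⟨αW', hW₁, hW₂⟩ := c.sqA.exists_lift ((yon S).map (cA.a ≫ α)) (cA.qW' ≫ u'.hom) (by
    rw [Functor.map_comp, Category.assoc, ← wV', reassoc_of% cA.sqA.w, hiU, Category.assoc])
  obtain ⟨αW', rfl⟩ := (yon S).map_surjective αW'
  rw [← Functor.map_comp] at hV₁ hW₁
  have hA : cA.a ≫ α = αW' ≫ c.a := ((yon S).map_injective hW₁).symm
  have hB : cA.b ≫ α = αV ≫ c.b := ((yon S).map_injective hV₁).symm
  obtain ⟨αW, hZ₁, hZ₂⟩ := c.sqT.exists_lift ((yon S).map (cA.τ ≫ αW')) (cA.qW ≫ uX.hom) (by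
    rw [Functor.map_comp, Category.assoc, hW₂, reassoc_of% cA.sqT.w, hUU'.w, Category.assoc])
  obtain ⟨αW, rfl⟩ := (yon S).map_surjective αW
  rw [← Functor.map_comp] at hZ₁
  have hT : cA.τ ≫ αW' = αW ≫ c.τ := ((yon S).map_injective hZ₁).symm
  have : IsClosedImmersion c.b.left := c.bclosed
  have : Mono c.b := Over.mono_of_mono_left c.b
  have hJ : cA.j ≫ αV = αW ≫ c.j := by
    rw [← cancel_mono c.b, Category.assoc, ← hB, ← reassoc_of% cA.isPushout.w, hA, reassoc_of% hT,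
      c.isPushout.w, Category.assoc]
  refine ⟨cA, c, ⟨⟨αW, αW', αV, α, IsPullback.of_map (yon S) hT ?_, IsPullback.of_map (yon S) hJ ?_, hA, hB,
    hW₂.symm, hV₂.symm, wV'⟩⟩⟩
  · refine IsPullback.of_bot ?_ (by rw [← Functor.map_comp, ← Functor.map_comp, hT]) c.sqT
    rw [hZ₂, hW₂]
    exact cA.sqT.paste_vert hUU'
  · refine IsPullback.of_bot ?_ (by rw [← Functor.map_comp, ← Functor.map_comp, hJ]) c.sqF
    rw [hZ₂, hV₂]
    exact cA.sqF.paste_vert hUV

namespace RelChart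

variable {U U' V V' X X' Y Y' : Sp S} {uU' : U ⟶ U'} {uV : U ⟶ V} {iU' : U' ⟶ V'} {iV : V ⟶ V'}
    {t : X ⟶ X'} {f : X ⟶ Y} {f' : X' ⟶ Y'} {t' : Y ⟶ Y'} {cA : Chart uU' uV iU' iV} {c : Chart t f f' t'}
    {uX : U ⟶ X} {u' : U' ⟶ X'} {v : V ⟶ Y} {v' : V' ⟶ Y'} (d : RelChart cA c uX u' v v')

include d

/-- The squares over the two sides are cartesian. -/
theorem cartesian : IsPullback cA.a d.αW' d.α c.a ∧ IsPullback cA.b d.αV d.α c.b := by
  have := c.closed; have := cA.closed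
  have hX := (d.sqT.map (Over.forget S)).flip
  have hY := (d.sqJ.map (Over.forget S)).flip
  have ha' := congrArg CommaMorphism.left d.commA
  have hb' := congrArg CommaMorphism.left d.commB
  exact ⟨IsPullback.of_map (Over.forget S) d.commA (c.pinch.isPullback_relX cA.pinch hX hY ha' hb').flip,
    IsPullback.of_map (Over.forget S) d.commB (c.pinch.isPullback_relY cA.pinch hX hY ha' hb').flip⟩

theorem locP_iff {P : MorphismProperty Scheme.{u}} (hP : EtLocal P) :
    (LocP P v' ↔ P d.α.left) ∧ (LocP P v ↔ P d.αV.left) ∧ (LocP P u' ↔ P d.αW'.left) :=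
  ⟨⟨fun H => H _ _ _ cA.etV' c.etV' d.wV', fun H => locP_of_chart hP cA.etV' cA.surV' c.etV' d.wV' H⟩,
    ⟨fun H => H _ _ _ cA.etV c.etV d.wV, fun H => locP_of_chart hP cA.etV cA.surV c.etV d.wV H⟩,
    ⟨fun H => H _ _ _ cA.etW' c.etW' d.wW', fun H => locP_of_chart hP cA.etW' cA.surW' c.etW' d.wW' H⟩⟩

/-- Properties stable under base change restrict to the two sides. -/
theorem locP_sides {P : MorphismProperty Scheme.{u}} (hP : EtLocal P) (h : LocP P v') : LocP P v ∧ LocP P u' := by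
  have := hP.stable
  obtain ⟨h', h₁, h₂⟩ := d.locP_iff hP
  exact ⟨h₁.2 (MorphismProperty.of_isPullback (d.cartesian.2.map (Over.forget S)) (h'.1 h)),
    h₂.2 (MorphismProperty.of_isPullback (d.cartesian.1.map (Over.forget S)) (h'.1 h))⟩

open Groth.L20.Pinch in
theorem lft_α (h₁ : LocallyOfFiniteType d.αV.left) (h₂ : LocallyOfFiniteType d.αW'.left) :
    LocallyOfFiniteType d.α.left := by
  have := c.closed; have := cA.closed
  exact c.pinch.property_k cA.pinch (d.sqT.map (Over.forget S)).flip (d.sqJ.map (Over.forget S)).flip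
    (congrArg CommaMorphism.left d.commA) (congrArg CommaMorphism.left d.commB) (Q := @LocallyOfFiniteType)
    (fun o _ => inferInstance) fun k0 k1 ho => (ho.isRelFib _ _).conclusion.2.1
      (HasRingHomProperty.appLE @LocallyOfFiniteType _ h₁ ⟨_, k0.hV⟩ ⟨_, k1.hV⟩ ho.leV)
      (HasRingHomProperty.appLE @LocallyOfFiniteType _ h₂ ⟨_, k0.hU⟩ ⟨_, k1.hU⟩ ho.leU)

open Groth.L20.Pinch in
theorem flat_α (h₁ : Flat d.αV.left) (h₂ : Flat d.αW'.left) : Flat d.α.left := by
  have := c.closed; have := cA.closed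
  exact c.pinch.property_k cA.pinch (d.sqT.map (Over.forget S)).flip (d.sqJ.map (Over.forget S)).flip
    (congrArg CommaMorphism.left d.commA) (congrArg CommaMorphism.left d.commB) (Q := @Flat)
    (fun o _ => inferInstance) fun k0 k1 ho => (ho.isRelFib _ _).conclusion.2.2.1
      (HasRingHomProperty.appLE @Flat _ h₁ ⟨_, k0.hV⟩ ⟨_, k1.hV⟩ ho.leV)
      (HasRingHomProperty.appLE @Flat _ h₂ ⟨_, k0.hU⟩ ⟨_, k1.hU⟩ ho.leU)

open Groth.L20.Pinch in
theorem lfp_α (h₁ : Flat d.αV.left) (h₁' : LocallyOfFinitePresentation d.αV.left) (h₂ : Flat d.αW'.left)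
    (h₂' : LocallyOfFinitePresentation d.αW'.left) : LocallyOfFinitePresentation d.α.left := by
  have := c.closed; have := cA.closed
  exact c.pinch.property_k cA.pinch (d.sqT.map (Over.forget S)).flip (d.sqJ.map (Over.forget S)).flip
    (congrArg CommaMorphism.left d.commA) (congrArg CommaMorphism.left d.commB) (Q := @LocallyOfFinitePresentation)
    (fun o _ => inferInstance) fun k0 k1 ho => (ho.isRelFib _ _).conclusion.2.2.2.1
      (HasRingHomProperty.appLE @Flat _ h₁ ⟨_, k0.hV⟩ ⟨_, k1.hV⟩ ho.leV)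
      (HasRingHomProperty.appLE @LocallyOfFinitePresentation _ h₁' ⟨_, k0.hV⟩ ⟨_, k1.hV⟩ ho.leV)
      (HasRingHomProperty.appLE @Flat _ h₂ ⟨_, k0.hU⟩ ⟨_, k1.hU⟩ ho.leU)
      (HasRingHomProperty.appLE @LocallyOfFinitePresentation _ h₂' ⟨_, k0.hU⟩ ⟨_, k1.hU⟩ ho.leU)

open Groth.L20.Pinch in
theorem smooth_α (h₁ : Smooth d.αV.left) (h₂ : Smooth d.αW'.left) : Smooth d.α.left := by
  have := c.closed; have := cA.closed
  exact c.pinch.property_k cA.pinch (d.sqT.map (Over.forget S)).flip (d.sqJ.map (Over.forget S)).flip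
    (congrArg CommaMorphism.left d.commA) (congrArg CommaMorphism.left d.commB) (Q := @Smooth)
    (fun o _ => inferInstance) fun k0 k1 ho => (ho.isRelFib _ _).conclusion.2.2.2.2.1
      (HasRingHomProperty.appLE @Smooth _ h₁ ⟨_, k0.hV⟩ ⟨_, k1.hV⟩ ho.leV)
      (HasRingHomProperty.appLE @Smooth _ h₂ ⟨_, k0.hU⟩ ⟨_, k1.hU⟩ ho.leU)

open Groth.L20.Pinch in
theorem etale_α (h₁ : Etale d.αV.left) (h₂ : Etale d.αW'.left) : Etale d.α.left := by
  have := c.closed; have := cA.closed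
  exact c.pinch.property_k cA.pinch (d.sqT.map (Over.forget S)).flip (d.sqJ.map (Over.forget S)).flip
    (congrArg CommaMorphism.left d.commA) (congrArg CommaMorphism.left d.commB) (Q := @Etale)
    (fun o _ => inferInstance) fun k0 k1 ho => (ho.isRelFib _ _).conclusion.2.2.2.2.2
      (HasRingHomProperty.appLE @Etale _ h₁ ⟨_, k0.hV⟩ ⟨_, k1.hV⟩ ho.leV)
      (HasRingHomProperty.appLE @Etale _ h₂ ⟨_, k0.hU⟩ ⟨_, k1.hU⟩ ho.leU)

end RelChart

end Groth.L23.PushoutSpace
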