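import Groth.Agent.L23.PushoutChart

/-!
# A flat space over a pushout is the pushout of its restrictions
-/

universe u

open CategoryTheory CategoryTheory.Limits AlgebraicGeometry AlgSp

set_option linter.style.haveILetI false
set_option backward.isDefEq.respectTransparency.types false

namespace Groth.L23.PushoutSpace

variable {S : Scheme.{u}}

theorem isPushout_restrictions {X X' Y Y' W' WY WX' WX : Space S} {t : X ⟶ X'} {f : X ⟶ Y} {f' : X' ⟶ Y'}
    {t' : Y ⟶ Y'} (ht : IsThickMor t.hom) (hf : IsAffineMor f.hom) (hY' : IsPushout t f f' t') {w : W' ⟶ Y'}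
    (hw : LocP @Flat w.hom) {aY : WY ⟶ W'} {bY : WY ⟶ Y} (hWY : IsPullback aY.hom bY.hom w.hom t'.hom)
    {aX' : WX' ⟶ W'} {bX' : WX' ⟶ X'} (hWX' : IsPullback aX'.hom bX'.hom w.hom f'.hom) {cY : WX ⟶ WY}
    {cX' : WX ⟶ WX'} {bX : WX ⟶ X} (h₁ : IsPullback cY.hom bX.hom bY.hom f.hom)
    (h₂ : IsPullback cX'.hom bX.hom bX'.hom t.hom) (hcomm : cY ≫ aY = cX' ≫ aX') :
    IsPushout cY cX' aY aX' := by
  obtain ⟨c⟩ := exists_chart_of_isPushout ht hf hY'
  obtain ⟨E, qE, α, hqE, wE, hqEs⟩ := exists_chart_over W'.property Y'.property w.hom c.etV'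
  have hqEs := hqEs c.surV'
  have : Flat α.left := hw qE c.qV' α hqE c.etV' wE
  have := c.closed; have := c.surj; have := c.affine; have := c.bclosed; have := c.bsurj
  obtain ⟨EW, EW', EV, αW, αW', αV, τE, jE, aE, bE, hτ, sA, sB, sT, sJ, hτs, hj, hbc, hbs, hP, hpo⟩ :=
    exists_flat_pieces c.pinch c.isPushout α
  have bigV : IsPullback ((yon S).map bE) ((yon S).map αV ≫ c.qV) (qE ≫ w.hom) t'.hom := by
    rw [wE]; exact (sB.map (yon S)).paste_vert c.sqB
  have bigW' : IsPullback ((yon S).map aE) ((yon S).map αW' ≫ c.qW') (qE ≫ w.hom) f'.hom := by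
    rw [wE]; exact (sA.map (yon S)).paste_vert c.sqA
  let qV := hWY.lift ((yon S).map bE ≫ qE) ((yon S).map αV ≫ c.qV) (by rw [Category.assoc]; exact bigV.w)
  let qW' := hWX'.lift ((yon S).map aE ≫ qE) ((yon S).map αW' ≫ c.qW') (by rw [Category.assoc]; exact bigW'.w)
  have sqB : IsPullback ((yon S).map bE) qV qE aY.hom :=
    IsPullback.of_bot (show IsPullback _ (qV ≫ bY.hom) _ _ by rw [hWY.lift_snd]; exact bigV) (hWY.lift_fst _ _ _).symm hWY
  have sqA : IsPullback ((yon S).map aE) qW' qE aX'.hom :=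
    IsPullback.of_bot (show IsPullback _ (qW' ≫ bX'.hom) _ _ by rw [hWX'.lift_snd]; exact bigW')
      (hWX'.lift_fst _ _ _).symm hWX'
  have hv : qV ≫ bY.hom = (yon S).map αV ≫ c.qV := hWY.lift_snd _ _ _
  have hu : qW' ≫ bX'.hom = (yon S).map αW' ≫ c.qW' := hWX'.lift_snd _ _ _
  have bigT : IsPullback ((yon S).map τE) ((yon S).map αW ≫ c.qW) (qW' ≫ bX'.hom) t.hom := by
    rw [hu]; exact (sT.map (yon S)).paste_vert c.sqT
  have bigJ : IsPullback ((yon S).map jE) ((yon S).map αW ≫ c.qW) (qV ≫ bY.hom) f.hom := by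
    rw [hv]; exact (sJ.map (yon S)).paste_vert c.sqF
  let qW := h₂.lift ((yon S).map τE ≫ qW') ((yon S).map αW ≫ c.qW) (by rw [Category.assoc]; exact bigT.w)
  have hqW₁ : qW ≫ cX'.hom = (yon S).map τE ≫ qW' := h₂.lift_fst _ _ _
  have hqW₂ : qW ≫ bX.hom = (yon S).map αW ≫ c.qW := h₂.lift_snd _ _ _
  have hcY : qW ≫ cY.hom = (yon S).map jE ≫ qV := by
    refine hWY.hom_ext ?_ ?_
    · have e : cY.hom ≫ aY.hom = cX'.hom ≫ aX'.hom := congrArg (fun k => k.hom) hcomm
      rw [Category.assoc, e, reassoc_of% hqW₁, ← sqA.w, Category.assoc, ← sqB.w, ← Functor.map_comp_assoc,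
        ← Functor.map_comp_assoc, hpo.w]
    · rw [Category.assoc, h₁.w, reassoc_of% hqW₂, Category.assoc, hv, ← c.sqF.w,
        ← Functor.map_comp_assoc, ← sJ.w, Functor.map_comp_assoc]
  have sqF : IsPullback ((yon S).map jE) qW qV cY.hom :=
    IsPullback.of_bot (show IsPullback _ (qW ≫ bX.hom) _ _ by rw [hqW₂]; exact bigJ) hcY.symm h₁
  have sqT : IsPullback ((yon S).map τE) qW qW' cX'.hom :=
    IsPullback.of_bot (show IsPullback _ (qW ≫ bX.hom) _ _ by rw [hqW₂]; exact bigT) hqW₁.symm h₂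
  let c' : Chart cX'.hom cY.hom aX'.hom aY.hom :=
    ⟨EW, EW', EV, E, τE, jE, aE, bE, qW, qW', qV, qE, hτ, hτs, hj, hbc, hbs, hP, hpo,
      repWith_of_isPullback sqA hqE, repWith_of_isPullback sqA hqEs, repWith_of_isPullback sqB hqE,
      repWith_of_isPullback sqB hqEs, hqE, hqEs, sqT, sqF, sqA, sqB⟩
  exact (c'.isPushout_space hcomm.symm).flip

end Groth.L23.PushoutSpace
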