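import Groth.Agent.L23.Gabber

/-!
# Colimits of schemes which remain colimits among algebraic spaces
-/

universe w v u

open CategoryTheory CategoryTheory.Limits AlgebraicGeometry AlgSp

set_option backward.isDefEq.respectTransparency.types false
set_option linter.style.haveILetI false

namespace Groth.L23.SchColimit

variable {S : Scheme.{u}} {T : Sp S}

/-- Maps out of a colimit of schemes into an algebraic space are determined on the coprojections. -/
theorem eq_of_colimit (hT : IsAlgSpace T) {J : Type v} [Category.{w} J] {F : J ⥤ Over S} (c : Cocone F)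
    (hc : IsColimit ((Over.forget S).mapCocone c)) (a b : (yon S).obj c.pt ⟶ T)
    (h : ∀ i, (yon S).map (c.ι.app i) ≫ a = (yon S).map (c.ι.app i) ≫ b) : a = b := by
  have sq := hT.diag.isPullback (prod.lift a b)
  set e := hT.diag.snd (prod.lift a b)
  set d := hT.diag.fst (prod.lift a b)
  have hd₁ : d = (yon S).map e ≫ a := by
    have := congrArg (· ≫ prod.fst) sq.w
    simp only [Category.assoc] at this
    rwa [prod.lift_fst, prod.lift_fst, Category.comp_id] at this
  have hd₂ : d = (yon S).map e ≫ b := by
    have := congrArg (· ≫ prod.snd) sq.w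
    simp only [Category.assoc] at this
    rwa [prod.lift_snd, prod.lift_snd, Category.comp_id] at this
  have : Mono e := by
    refine ⟨fun {Z} g g' w => (yon S).map_injective (sq.hom_ext ?_ ?_)⟩
    · rw [hd₁, ← Functor.map_comp_assoc, ← Functor.map_comp_assoc, w]
    · rw [← Functor.map_comp, ← Functor.map_comp, w]
  have := Gabber.mono_left e
  have hl : ∀ i, ∃ t : F.obj i ⟶ hT.diag.pullback (prod.lift a b), t ≫ e = c.ι.app i := fun i => by
    obtain ⟨l, hl⟩ := (yon S).map_surjective (sq.lift ((yon S).map (c.ι.app i) ≫ a) ((yon S).map (c.ι.app i)) (by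
      apply Limits.prod.hom_ext
      · simp only [Category.assoc, prod.lift_fst, prod.comp_lift, Category.comp_id]
      · simp only [Category.assoc, prod.lift_snd, prod.comp_lift, Category.comp_id, h]))
    exact ⟨l, (yon S).map_injective (by rw [Functor.map_comp, hl, sq.lift_snd])⟩
  choose t ht using hl
  let cE : Cocone (F ⋙ Over.forget S) := Cocone.mk (hT.diag.pullback (prod.lift a b)).left
    { app := fun i => (t i).left
      naturality := fun i j φ => by
        have key : (F.map φ).left ≫ (t j).left = (t i).left := (cancel_mono e.left).1 (by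
          rw [Category.assoc, ← Over.comp_left, ← Over.comp_left, ← Over.comp_left, ht, ht, c.w])
        exact key.trans (Category.comp_id _).symm }
  have hs : hc.desc cE ≫ e.left = 𝟙 _ := hc.hom_ext fun i =>
    (Category.assoc _ _ _).symm.trans ((congrArg (· ≫ e.left) (hc.fac cE i)).trans
      ((congrArg CommaMorphism.left (ht i)).trans (Category.comp_id _).symm))
  have : IsSplitEpi e.left := IsSplitEpi.mk' ⟨hc.desc cE, hs⟩
  have : IsIso e.left := isIso_of_mono_of_isSplitEpi _
  have : IsIso ((Over.forget S).map e) := this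
  have := isIso_of_reflects_iso e (Over.forget S)
  rw [← cancel_epi ((yon S).map e), ← hd₁, hd₂]

/-- The base change of a chart with separated source is separated. -/
theorem isSeparated_snd {U V W : Over S} [IsSeparated U.hom] {p : (yon S).obj U ⟶ T} {t : (yon S).obj W ⟶ T}
    {u : V ⟶ U} {g : V ⟶ W} (sq : IsPullback ((yon S).map u) ((yon S).map g) p t) : IsSeparated g.left := by
  let m : V.left ⟶ pullback U.hom W.hom := pullback.lift u.left g.left ((Over.w u).trans (Over.w g).symm)
  have hm₁ : m ≫ pullback.fst U.hom W.hom = u.left := pullback.lift_fst _ _ _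
  have hm₂ : m ≫ pullback.snd U.hom W.hom = g.left := pullback.lift_snd _ _ _
  have : Mono m := ⟨fun v w e => Gabber.ext_left sq v w
    (by rw [← hm₂, reassoc_of% e]) (by rw [← hm₁, reassoc_of% e])⟩
  have : IsSeparated (pullback.snd U.hom W.hom) := MorphismProperty.pullback_snd _ _ ‹_›
  rw [← hm₂]
  infer_instance

variable {I : Type v} [Category.{w} I] {D : I ⥤ Over S} {c : Cocone D}

theorem exists_desc (hT : IsAlgSpace T)
    (h₁ : IsColimit ((Over.forget S).mapCocone c))
    (h₂ : ∀ x : ↥c.pt.left, ∃ (i : I) (y : ↥(D.obj i).left), (c.ι.app i).left y = x)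
    (h₃ : ∀ (D' : I ⥤ Over S) (α : D' ⟶ D) (c' : Cocone D') (a : c'.pt ⟶ c.pt), Etale a.left →
      (∀ i, IsPullback (c'.ι.app i) (α.app i) a (c.ι.app i)) → Nonempty (IsColimit ((Over.forget S).mapCocone c')))
    (h₄ : ∀ (D' : I ⥤ Over S) (α : D' ⟶ D), NatTrans.Equifibered α → (∀ i, Etale (α.app i).left) →
      (∀ i, IsSeparated (α.app i).left) →
      ∃ (c' : Cocone D') (a : c'.pt ⟶ c.pt), Etale a.left ∧ ∀ i, IsPullback (c'.ι.app i) (α.app i) a (c.ι.app i))
    (t : ∀ i, (yon S).obj (D.obj i) ⟶ T) (ht : ∀ {i j} (φ : i ⟶ j), (yon S).map (D.map φ) ≫ t j = t i) :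
    ∃ x : (yon S).obj c.pt ⟶ T, ∀ i, (yon S).map (c.ι.app i) ≫ x = t i := by
  obtain ⟨U, p, hU, hp, hps⟩ := Gabber.exists_separated_atlas hT
  have hex : ∀ i, ∃ (V : Over S) (u : V ⟶ U) (g : V ⟶ D.obj i), IsPullback ((yon S).map u) ((yon S).map g) p (t i) :=
    fun i => exists_isPullback_of_representable hp.1 (t i)
  choose V u g sq using hex
  have hmap : ∀ {i j} (φ : i ⟶ j), ∃ l : V i ⟶ V j, l ≫ u j = u i ∧ l ≫ g j = g i ≫ D.map φ := fun {i j} φ =>
    exists_lift_yon (sq j) (u i) (g i ≫ D.map φ) (by rw [Functor.map_comp, Category.assoc, ht, (sq i).w])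
  choose l hl₁ hl₂ using @hmap
  have hext : ∀ {Z : Over S} {i : I} (a b : Z ⟶ V i), a ≫ u i = b ≫ u i → a ≫ g i = b ≫ g i → a = b :=
    fun {Z i} a b e₁ e₂ => (yon S).map_injective ((sq i).hom_ext
      (by rw [← Functor.map_comp, ← Functor.map_comp, e₁]) (by rw [← Functor.map_comp, ← Functor.map_comp, e₂]))
  let D' : I ⥤ Over S :=
    { obj := V
      map := fun φ => l φ
      map_id := fun i => hext _ _ (by rw [hl₁, Category.id_comp]) (by rw [hl₂, CategoryTheory.Functor.map_id, Category.comp_id, Category.id_comp])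
      map_comp := fun φ ψ => hext _ _ (by simp only [Category.assoc, hl₁])
        (by simp only [Category.assoc, hl₂, Functor.map_comp]; rw [← Category.assoc (l φ), hl₂, Category.assoc]) }
  let α : D' ⟶ D := { app := g, naturality := fun i j φ => hl₂ φ }
  have hge : ∀ i, Etale (g i).left := fun i => repWith_prop hp (sq i)
  have hgs : ∀ i, Surjective (g i).left := fun i => repWith_prop hps (sq i)
  have hα : NatTrans.Equifibered α := fun i j φ => by
    refine IsPullback.of_map (yon S) (hl₂ φ) (IsPullback.of_right (h₁₂ := (yon S).map (u j)) ?_ ?_ (sq j))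
    · rw [← Functor.map_comp, hl₁]
      rw [ht]
      exact sq i
    · rw [← Functor.map_comp, ← Functor.map_comp, hl₂]
  obtain ⟨c', a, ha, hsq⟩ := h₄ D' α hα hge (fun i => isSeparated_snd (sq i))
  obtain ⟨hc'⟩ := h₃ D' α c' a ha hsq
  -- the map to the chart
  let cu : Cocone (D' ⋙ Over.forget S) := Cocone.mk U.left
    { app := fun i => (u i).left
      naturality := fun i j φ => by
        simp only [Functor.comp_map, Over.forget_map, Functor.const_obj_map, Category.comp_id]
        exact congrArg CommaMorphism.left (hl₁ φ) }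
  let m : c'.pt ⟶ U := Over.homMk (hc'.desc cu) (hc'.hom_ext fun i => by
    exact (Category.assoc _ _ _).symm.trans ((congrArg (· ≫ U.hom) (hc'.fac cu i)).trans
      ((Over.w (u i)).trans (Over.w (c'.ι.app i)).symm)))
  have hm : ∀ i, c'.ι.app i ≫ m = u i := fun i => Over.OverMorphism.ext (hc'.fac cu i)
  have : Surjective a.left := ⟨fun x => by
    obtain ⟨i, y, rfl⟩ := h₂ x
    obtain ⟨w, rfl⟩ := (hgs i).surj y
    exact ⟨(c'.ι.app i).left w, by
      rw [← Scheme.Hom.comp_apply, ← Scheme.Hom.comp_apply, ← Over.comp_left, ← Over.comp_left, (hsq i).w]⟩⟩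
  have : Epi ((yon S).map a) := epi_of_repWith _ (repWith_map ha) (repWith_map ‹Surjective a.left›)
  -- agreement on the kernel pair
  let pr₁ := pullback.fst a a
  let pr₂ := pullback.snd a a
  have hR : (yon S).map pr₁ ≫ (yon S).map m ≫ p = (yon S).map pr₂ ≫ (yon S).map m ≫ p := by
    let α₂ : ∀ i, pullback (g i) (g i) ⟶ D.obj i := fun i => pullback.fst _ _ ≫ g i
    let D₂ : I ⥤ Over S :=
      { obj := fun i => pullback (g i) (g i)
        map := fun {i j} φ => pullback.map _ _ _ _ (l φ) (l φ) (D.map φ) (hl₂ φ).symm (hl₂ φ).symm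
        map_id := fun i => by
          apply pullback.hom_ext <;> simp only [pullback.lift_fst, pullback.lift_snd, Category.id_comp] <;>
            exact (congrArg (_ ≫ ·) (D'.map_id i)).trans (Category.comp_id _)
        map_comp := fun {i j k} φ ψ => by
          apply pullback.hom_ext <;> simp only [pullback.lift_fst, pullback.lift_snd, Category.assoc, pullback.lift_fst_assoc,
            pullback.lift_snd_assoc] <;> exact congrArg (_ ≫ ·) (D'.map_comp φ ψ) }
    let β : D₂ ⟶ D :=
      { app := α₂
        naturality := fun i j φ => by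
          simp only [α₂, D₂, pullback.map, pullback.lift_fst_assoc, Category.assoc, hl₂] }
    let c₂ : Cocone D₂ := Cocone.mk (pullback a a)
      { app := fun i => pullback.map (g i) (g i) a a (c'.ι.app i) (c'.ι.app i) (c.ι.app i) (hsq i).w.symm (hsq i).w.symm
        naturality := fun i j φ => by
          refine Eq.trans ?_ (Category.comp_id _).symm
          apply pullback.hom_ext <;> simp only [Category.assoc, pullback.lift_fst,
            pullback.lift_snd, D₂, pullback.map, pullback.lift_fst_assoc, pullback.lift_snd_assoc] <;>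
            exact congrArg (_ ≫ ·) (c'.w φ) }
    obtain ⟨hc₂⟩ := h₃ D₂ β c₂ (pr₁ ≫ a) (by
      have : Etale pr₁.left := MorphismProperty.of_isPullback (P := @Etale)
        ((IsPullback.of_hasPullback a a).flip.map (Over.forget S)) ha
      exact MorphismProperty.comp_mem _ _ _ this ha) (fun i => by
        have h₀ : IsPullback (c₂.ι.app i) (pullback.fst (g i) (g i)) pr₁ (c'.ι.app i) := by
          refine IsPullback.of_right (h₁₂ := pr₂) ?_ (pullback.lift_fst _ _ _)
            (IsPullback.of_hasPullback a a).flip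
          rw [show c₂.ι.app i ≫ pr₂ = pullback.snd (g i) (g i) ≫ c'.ι.app i from pullback.lift_snd _ _ _,
            (hsq i).w]
          exact (IsPullback.of_hasPullback (g i) (g i)).flip.paste_horiz (hsq i)
        exact h₀.paste_vert (hsq i))
    refine eq_of_colimit hT c₂ hc₂ _ _ fun i => ?_
    have e₁ : c₂.ι.app i ≫ pr₁ = pullback.fst (g i) (g i) ≫ c'.ι.app i := pullback.lift_fst _ _ _
    have e₂ : c₂.ι.app i ≫ pr₂ = pullback.snd (g i) (g i) ≫ c'.ι.app i := pullback.lift_snd _ _ _
    rw [← Functor.map_comp_assoc, ← Functor.map_comp_assoc, ← Functor.map_comp_assoc, ← Functor.map_comp_assoc,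
      e₁, e₂, Category.assoc, Category.assoc, hm, Functor.map_comp_assoc, Functor.map_comp_assoc, (sq i).w,
      ← Functor.map_comp_assoc, ← Functor.map_comp_assoc, pullback.condition]
  obtain ⟨hcl⟩ := nonempty_isColimit_cofork ((yon S).map a) ((IsPullback.of_hasPullback a a).map (yon S))
  let x := hcl.desc (Cofork.ofπ ((yon S).map m ≫ p) hR)
  have hx : (yon S).map a ≫ x = (yon S).map m ≫ p := hcl.fac _ WalkingParallelPair.one
  refine ⟨x, fun i => ?_⟩
  have : Epi ((yon S).map (g i)) := epi_of_repWith _ (repWith_map (hge i)) (repWith_map (hgs i))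
  rw [← cancel_epi ((yon S).map (g i)), ← Functor.map_comp_assoc, ← (hsq i).w, Functor.map_comp_assoc, hx,
    ← Functor.map_comp_assoc, hm, (sq i).w]

end Groth.L23.SchColimit
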