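import Groth.Agent.L23.PinchFlat
import Groth.Agent.L23.SchColimit
import Groth.Agent.S0117
import Groth.Agent.S0118
import Groth.Agent.S10716

/-!
# Pushouts of schemes which remain pushouts among algebraic spaces
-/

universe u

open CategoryTheory CategoryTheory.Limits AlgebraicGeometry AlgSp

set_option linter.style.haveILetI false
set_option backward.isDefEq.respectTransparency.types false

namespace Groth.L23.SpacePushout

/-- A square of schemes has étale effective glueing if compatible étale schemes over the two sides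
come from an étale scheme over the corner. -/
def EtaleGlues {Z X Y P : Scheme.{u}} (i : Z ⟶ X) (j : Z ⟶ Y) (a : X ⟶ P) (b : Y ⟶ P) : Prop :=
  ∀ (E0 E2 E1 : Scheme.{u}) (e0 : E0 ⟶ Z) (e2 : E2 ⟶ X) (e1 : E1 ⟶ Y) (f2 : E0 ⟶ E2) (f1 : E0 ⟶ E1),
    Etale e2 → IsSeparated e2 → Etale e1 → IsSeparated e1 →
    IsPullback f2 e0 e2 i → IsPullback f1 e0 e1 j →
    ∃ (V : Scheme.{u}) (v : V ⟶ P) (p2 : E2 ⟶ V) (p1 : E1 ⟶ V),
      Etale v ∧ IsPullback p2 e2 v a ∧ IsPullback p1 e1 v b ∧ f2 ≫ p2 = f1 ≫ p1

/-- A pinched square of schemes with effective étale glueing is a pushout of algebraic spaces. -/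
theorem isPushout_ofScheme {S : Scheme.{u}} {Z X Y P : Over S} (i : Z ⟶ X) (j : Z ⟶ Y) (a : X ⟶ P) (b : Y ⟶ P)
    [IsClosedImmersion i.left] (h : Groth.L20.Pinch.IsPinch i.left j.left a.left b.left)
    (hg : EtaleGlues i.left j.left a.left b.left) :
    IsPushout ((AlgSp.ofScheme S).map i) ((AlgSp.ofScheme S).map j) ((AlgSp.ofScheme S).map a)
      ((AlgSp.ofScheme S).map b) := by
  have hcomm : i ≫ a = j ≫ b := Over.OverMorphism.ext h.comm
  let c : PushoutCocone i j := PushoutCocone.mk a b hcomm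
  have hz : c.ι.app WalkingSpan.zero = i ≫ a := (c.w WalkingSpan.Hom.fst).symm
  have h₁ : IsColimit ((Over.forget S).mapCocone c) :=
    (PushoutCocone.isColimitMapCoconeEquiv c (Over.forget S)).symm h.isPushout.isColimit
  have key : ∀ (x : ↥c.pt.left), ∃ (s : WalkingSpan) (y : ↥((span i j).obj s).left), (c.ι.app s).left y = x := by
    intro x
    obtain ⟨k, u, hu, ⟨q, hq⟩, hX, hY, -, -⟩ := h.chart x
    rcases k.exists_in q with ⟨q', hq'⟩ | ⟨q', hq'⟩
    · exact ⟨WalkingSpan.right, k.hV.fromSpec q', by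
        show b.left (k.hV.fromSpec q') = x
        rw [← Scheme.Hom.comp_apply, hY, Scheme.Hom.comp_apply, hq', hq]⟩
    · exact ⟨WalkingSpan.left, k.hU.fromSpec q', by
        show a.left (k.hU.fromSpec q') = x
        rw [← Scheme.Hom.comp_apply, hX, Scheme.Hom.comp_apply, hq', hq]⟩
  have hsquare : ∀ {D' : WalkingSpan ⥤ Over S} (α : D' ⟶ span i j),
      (D'.map WalkingSpan.Hom.fst).left ≫ (α.app WalkingSpan.left).left = (α.app WalkingSpan.zero).left ≫ i.left ∧
      (D'.map WalkingSpan.Hom.snd).left ≫ (α.app WalkingSpan.right).left = (α.app WalkingSpan.zero).left ≫ j.left :=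
    fun α => ⟨congrArg CommaMorphism.left (α.naturality WalkingSpan.Hom.fst),
      congrArg CommaMorphism.left (α.naturality WalkingSpan.Hom.snd)⟩
  refine (Groth.Agent.S10716.result (span i j) c h₁ key (fun D' α c' v hv hsq => ?h₃)
    (fun D' α hα het hsep => ?h₄)).elim fun hc => ?main
  case main =>
    exact IsPushout.of_isColimit' ⟨by rw [← Functor.map_comp, ← Functor.map_comp, hcomm]⟩
      ((PushoutCocone.isColimitMapCoconeEquiv c (AlgSp.ofScheme S)) hc)
  case h₃ =>
    have := hv
    have hw₁ : (D'.map WalkingSpan.Hom.fst).left ≫ (c'.ι.app WalkingSpan.left).left = (c'.ι.app WalkingSpan.zero).left :=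
      congrArg CommaMorphism.left (c'.w WalkingSpan.Hom.fst)
    have hw₂ : (D'.map WalkingSpan.Hom.snd).left ≫ (c'.ι.app WalkingSpan.right).left = (c'.ι.app WalkingSpan.zero).left :=
      congrArg CommaMorphism.left (c'.w WalkingSpan.Hom.snd)
    have hp0 := (hsq WalkingSpan.zero).map (Over.forget S)
    simp only [Over.forget_map, hz, Over.comp_left] at hp0
    rw [← hw₁] at hp0
    have hpo := PinchFlat.isPushout_of_flat (v := v.left) h ((hsq WalkingSpan.right).map (Over.forget S))
      ((hsq WalkingSpan.left).map (Over.forget S)) hp0 (hw₁.trans hw₂.symm) (hsquare α).2 (hsquare α).1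
    refine ⟨(IsColimit.precomposeHomEquiv (diagramIsoSpan (D' ⋙ Over.forget S)).symm _).1
      (IsColimit.ofIsoColimit hpo.isColimit (Cocone.ext (Iso.refl _) ?_))⟩
    rintro (_ | _ | _)
    · simp only [Iso.refl_hom, Category.comp_id]
      exact (Category.comp_id _).trans hw₁
    · exact Category.comp_id _
    · exact Category.comp_id _
  case h₄ =>
    obtain ⟨hs2, hs1⟩ := hsquare α
    obtain ⟨V, v, p2, p1, hv, h2, h1, hp⟩ := hg _ _ _ (α.app WalkingSpan.zero).left (α.app WalkingSpan.left).left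
      (α.app WalkingSpan.right).left (D'.map WalkingSpan.Hom.fst).left (D'.map WalkingSpan.Hom.snd).left
      (het _) (hsep _) (het _) (hsep _) ((hα WalkingSpan.Hom.fst).map (Over.forget S))
      ((hα WalkingSpan.Hom.snd).map (Over.forget S))
    let Vo : Over S := Over.mk (v ≫ P.hom)
    let q2 : D'.obj WalkingSpan.left ⟶ Vo := Over.homMk p2 (by
      show p2 ≫ v ≫ P.hom = _
      rw [← Category.assoc, h2.w, Category.assoc, Over.w a]
      exact Over.w (α.app WalkingSpan.left))
    let q1 : D'.obj WalkingSpan.right ⟶ Vo := Over.homMk p1 (by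
      show p1 ≫ v ≫ P.hom = _
      rw [← Category.assoc, h1.w, Category.assoc, Over.w b]
      exact Over.w (α.app WalkingSpan.right))
    have hq : D'.map WalkingSpan.Hom.fst ≫ q2 = D'.map WalkingSpan.Hom.snd ≫ q1 := Over.OverMorphism.ext hp
    let c' : Cocone D' := (Cocone.precompose (diagramIsoSpan D').hom).obj (PushoutCocone.mk q2 q1 hq)
    let vo : c'.pt ⟶ c.pt := Over.homMk v rfl
    have hleft : IsPullback (c'.ι.app WalkingSpan.left) (α.app WalkingSpan.left) vo (c.ι.app WalkingSpan.left) := by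
      refine IsPullback.of_map (Over.forget S) (Over.OverMorphism.ext ?_) ?_
      · have := h2.w
        simp [c', vo, q2, c]
        exact this
      · simp [c', vo, q2, c]
        exact h2
    refine ⟨c', vo, hv, ?_⟩
    rintro (_ | _ | _)
    · have e : c'.ι.app WalkingSpan.zero = D'.map WalkingSpan.Hom.fst ≫ c'.ι.app WalkingSpan.left :=
        (c'.w WalkingSpan.Hom.fst).symm
      have e' : c.ι.app WalkingSpan.zero = (span i j).map WalkingSpan.Hom.fst ≫ c.ι.app WalkingSpan.left :=
        (c.w WalkingSpan.Hom.fst).symm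
      show IsPullback (c'.ι.app WalkingSpan.zero) _ _ (c.ι.app WalkingSpan.zero)
      rw [e, e']
      exact (hα WalkingSpan.Hom.fst).paste_horiz hleft
    · exact hleft
    · refine IsPullback.of_map (Over.forget S) (Over.OverMorphism.ext ?_) ?_
      · have := h1.w
        simp [c', vo, q1, c]
        exact this
      · simp [c', vo, q1, c]
        exact h1

/-- Étale glueing along a thickening. -/
theorem etaleGlues_of_thickening {Z X Y P : Scheme.{u}} (i : Z ⟶ X) (j : Z ⟶ Y) (a : X ⟶ P) (b : Y ⟶ P)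
    [IsClosedImmersion i] [Surjective i] [IsClosedImmersion b] [Surjective b] (hcomm : i ≫ a = j ≫ b) :
    EtaleGlues i j a b := by
  intro E0 E2 E1 e0 e2 e1 f2 f1 he2 _ he1 _ hf2 hf1
  have := Groth.Agent.S0118.result b
  let E : Y.Etale := Scheme.Etale.mk e1
  let U := (EtCoh.bc b).objPreimage E
  let ω := (EtCoh.bc b).objObjPreimageIso E
  have hU : Etale U.hom := U.prop
  have hω : ω.inv.left ≫ pullback.snd U.hom b = e1 := Over.w ω.inv.hom
  let p1 : E1 ⟶ U.left := ω.inv.left ≫ pullback.fst U.hom b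
  let ωl := (Scheme.Etale.forget Y ⋙ Over.forget Y).mapIso ω.symm
  have h1 : IsPullback p1 e1 U.hom b := by
    refine IsPullback.of_iso_pullback ⟨?_⟩ ωl rfl hω
    show p1 ≫ U.hom = e1 ≫ b
    rw [← hω]
    exact (Category.assoc _ _ _).trans ((congrArg (ω.inv.left ≫ ·) pullback.condition).trans (Category.assoc _ _ _).symm)
  -- the étale scheme over `X`
  let W : Over X := Over.mk (pullback.snd U.hom a)
  have : Etale W.hom := MorphismProperty.pullback_snd (P := @Etale) _ _ hU
  have : Etale (Over.mk e2).hom := he2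
  have hA : IsPullback (f1 ≫ p1) e0 U.hom (i ≫ a) := hcomm ▸ hf1.paste_horiz h1
  have hB : IsPullback (pullback.fst W.hom i ≫ pullback.fst U.hom a) (pullback.snd W.hom i) U.hom (i ≫ a) :=
    (IsPullback.of_hasPullback W.hom i).paste_horiz (IsPullback.of_hasPullback U.hom a)
  let κ := hA.isoIsPullback _ _ hB
  have hκ₁ : κ.hom ≫ pullback.fst W.hom i ≫ pullback.fst U.hom a = f1 ≫ p1 := hA.isoIsPullback_hom_fst _ _ hB
  have hκ₂ : κ.hom ≫ pullback.snd W.hom i = e0 := hA.isoIsPullback_hom_snd _ _ hB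
  let τ : (Over.pullback i).obj (Over.mk e2) ≅ (Over.pullback i).obj W :=
    Over.isoMk (hf2.isoPullback.symm ≪≫ κ) (by
      show (hf2.isoPullback.inv ≫ κ.hom) ≫ pullback.snd W.hom i = pullback.snd e2 i
      rw [Category.assoc, hκ₂, hf2.isoPullback_inv_snd])
  obtain ⟨φ, hφ⟩ := (Groth.Agent.S0117.result i W (Over.mk e2)).2 τ.hom
  obtain ⟨ψ, hψ⟩ := (Groth.Agent.S0117.result i (Over.mk e2) W).2 τ.inv
  replace hφ : (Over.pullback i).map φ = τ.hom := hφ
  replace hψ : (Over.pullback i).map ψ = τ.inv := hψ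
  have : IsIso φ := ⟨ψ,
    (Groth.Agent.S0117.result i (Over.mk e2) (Over.mk e2)).1 (by
      show (Over.pullback i).map (φ ≫ ψ) = (Over.pullback i).map (𝟙 _)
      rw [Functor.map_comp, hφ, hψ, τ.hom_inv_id, CategoryTheory.Functor.map_id]),
    (Groth.Agent.S0117.result i W W).1 (by
      show (Over.pullback i).map (ψ ≫ φ) = (Over.pullback i).map (𝟙 _)
      rw [Functor.map_comp, hφ, hψ, τ.inv_hom_id, CategoryTheory.Functor.map_id])⟩
  have : IsIso φ.left := inferInstanceAs (IsIso ((Over.forget X).map φ))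
  have hw : φ.left ≫ pullback.snd U.hom a = e2 := Over.w φ
  refine ⟨U.left, U.hom, φ.left ≫ pullback.fst U.hom a, p1, hU, ?_, h1, ?_⟩
  · refine IsPullback.of_iso_pullback ⟨?_⟩ (asIso φ.left) rfl hw
    rw [Category.assoc, pullback.condition, ← Category.assoc]
    exact congrArg (· ≫ a) hw
  · have hfst : τ.hom.left ≫ pullback.fst W.hom i = pullback.fst e2 i ≫ φ.left :=
      (congrArg (fun k => k.left ≫ pullback.fst W.hom i) hφ.symm).trans (pullback.lift_fst _ _ _)
    have hf : hf2.isoPullback.hom ≫ τ.hom.left = κ.hom := by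
      show hf2.isoPullback.hom ≫ hf2.isoPullback.inv ≫ κ.hom = κ.hom
      rw [Iso.hom_inv_id_assoc]
    have := congrArg (hf2.isoPullback.hom ≫ ·) hfst
    simp only [reassoc_of% hf, hf2.isoPullback_hom_fst_assoc] at this
    rw [← reassoc_of% this, hκ₁]

end Groth.L23.SpacePushout
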