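import Groth.Agent.L23.PinchOver
import Groth.Agent.L23.UHSpacePush
import Groth.Agent.L23.ThickScheme
import Groth.Agent.L23.ThickTop
import Groth.Agent.L23.AffineMor
import Groth.Agent.L23.EqvRel
import Groth.Agent.S9868
import Groth.Agent.S9869
import Groth.Agent.S10699
import Groth.Prelude.Def_AlgSpEt

/-!
# Pushouts of algebraic spaces along a thickening and an affine morphism
-/

universe u

open CategoryTheory CategoryTheory.Limits AlgebraicGeometry AlgSp

set_option linter.style.haveILetI false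
set_option backward.isDefEq.respectTransparency.types false

namespace Groth.L23.PushoutSpace

variable {S : Scheme.{u}}

/-- A cartesian map of charts gives cartesian maps of their relations. -/
theorem exists_kernelPair_map {F G : Sp S} {φ : F ⟶ G} {A B RA RB : Over S} {k : A ⟶ B}
    {pA : (yon S).obj A ⟶ F} {pB : (yon S).obj B ⟶ G} (sqK : IsPullback ((yon S).map k) pA pB φ)
    {tA sA : RA ⟶ A} {tB sB : RB ⟶ B} (sqA : IsPullback ((yon S).map tA) ((yon S).map sA) pA pA)
    (sqB : IsPullback ((yon S).map tB) ((yon S).map sB) pB pB) :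
    ∃ k' : RA ⟶ RB, IsPullback k' sA sB k ∧ IsPullback k' tA tB k := by
  have e : pA ≫ φ = (yon S).map k ≫ pB := sqK.w.symm
  obtain ⟨k', h₁, h₂⟩ := sqB.exists_lift ((yon S).map tA ≫ (yon S).map k) ((yon S).map sA ≫ (yon S).map k)
    (by rw [Category.assoc, ← e, reassoc_of% sqA.w, e, Category.assoc])
  obtain ⟨k', rfl⟩ := (yon S).map_surjective k'
  refine ⟨k', IsPullback.of_map (yon S) ((yon S).map_injective (by rw [Functor.map_comp, Functor.map_comp, h₂]))
    (IsPullback.of_right ?_ h₂ sqB), IsPullback.of_map (yon S) ((yon S).map_injective (by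
      rw [Functor.map_comp, Functor.map_comp, h₁])) (IsPullback.of_right ?_ h₁ sqB.flip)⟩
  · rw [h₁, ← e]; exact sqA.paste_horiz sqK
  · rw [h₂, ← e]; exact sqA.flip.paste_horiz sqK

/-- A map of presentations with cartesian squares gives a cartesian square on the quotients. -/
theorem isPullback_of_presentations {F Q : Sp S} {φ : F ⟶ Q} {U P R RP : Over S} {p : (yon S).obj U ⟶ F}
    {q : (yon S).obj P ⟶ Q} (hp : RepWith @Etale p) (hps : RepWith @Surjective p)
    {t s : R ⟶ U} {tP sP : RP ⟶ P} (sqR : IsPullback ((yon S).map t) ((yon S).map s) p p)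
    (sqP : IsPullback ((yon S).map tP) ((yon S).map sP) q q) {a : U ⟶ P} {a' : R ⟶ RP}
    (hs : IsPullback a' s sP a) (ht : IsPullback a' t tP a) (w : p ≫ φ = (yon S).map a ≫ q) :
    IsPullback ((yon S).map a) p q φ := by
  let sq := IsPullback.of_hasPullback q φ
  let l : (yon S).obj U ⟶ pullback q φ := pullback.lift ((yon S).map a) p w.symm
  have hl₁ : l ≫ pullback.fst q φ = (yon S).map a := pullback.lift_fst _ _ _
  have hl₂ : l ≫ pullback.snd q φ = p := pullback.lift_snd _ _ _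
  let σ := (yon S).map t ≫ l
  have hσ : IsPullback σ ((yon S).map s) (pullback.snd q φ) p := by
    refine IsPullback.of_right (h₁₂ := pullback.fst q φ) ?_ ?_ sq
    · simp only [σ, Category.assoc, hl₁, w, ← Functor.map_comp, ← ht.w]
      rw [Functor.map_comp]
      exact (hs.map (yon S)).paste_horiz sqP
    · simp only [σ, Category.assoc, hl₂, sqR.w]
  have : Epi σ := epi_of_repWith _ (repWith_of_isPullback hσ.flip hp) (repWith_of_isPullback hσ.flip hps)
  have : Epi l := epi_of_epi_fac (show (yon S).map t ≫ l = σ from rfl)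
  have : Mono l := by
    refine mono_of_yon fun T x y e => ?_
    have e₁ : x ≫ (yon S).map a = y ≫ (yon S).map a := by rw [← hl₁, reassoc_of% e]
    have e₂ : x ≫ p = y ≫ p := by rw [← hl₂, reassoc_of% e]
    obtain ⟨d, hd₁, hd₂⟩ := sqR.exists_lift (𝟙 ((yon S).obj U)) (𝟙 _) rfl
    let r := sqR.lift x y e₂
    have hr : r = x ≫ d := by
      refine (ht.map (yon S)).hom_ext (sqP.hom_ext ?_ ?_) ?_
      · rw [Category.assoc, (ht.map (yon S)).w, sqR.lift_fst_assoc, Category.assoc, Category.assoc,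
          (ht.map (yon S)).w, reassoc_of% hd₁]
      · rw [Category.assoc, (hs.map (yon S)).w, sqR.lift_snd_assoc, ← e₁, Category.assoc, Category.assoc,
          (hs.map (yon S)).w, reassoc_of% hd₂]
      · rw [sqR.lift_fst, Category.assoc, hd₁, Category.comp_id]
    have := congrArg (· ≫ (yon S).map s) hr
    simp only [r, sqR.lift_snd, Category.assoc, hd₂, Category.comp_id] at this
    exact this.symm
  have : IsIso l := isIso_of_mono_of_epi l
  exact IsPullback.of_iso_pullback ⟨w.symm⟩ (asIso l) hl₁ hl₂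

/-- Thickenings descend along étale surjective maps. -/
theorem isThickMor_of_cover {F G : Sp S} {φ : F ⟶ G} {U V : Over S} {q : (yon S).obj U ⟶ G}
    (hq : RepWith @Etale q) (hqs : RepWith @Surjective q) {fst : (yon S).obj V ⟶ F} {g : V ⟶ U}
    (sq : IsPullback fst ((yon S).map g) φ q) [IsClosedImmersion g.left] [Surjective g.left] : IsThickMor φ := by
  have hrep : Representable φ := (isAffineMor_iff.1 (isAffineMor_of_cover hq hqs sq
    (isAffineMor_iff.2 (repWith_map (inferInstanceAs (IsAffineHom g.left)))))).1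
  have := isLocallySurjective_of_etale q hq hqs
  have := isLocalAtTarget_fppf (@IsClosedImmersion : MorphismProperty Scheme.{u})
  have := isLocalAtTarget_fppf (@Surjective : MorphismProperty Scheme.{u})
  exact repWith_inf_iff.2 ⟨(repWith_iff_of_chart hrep sq).2 ‹_›, (repWith_iff_of_chart hrep sq).2 ‹_›⟩

/-- Scheme charts of a pushout square of algebraic spaces. -/
structure Chart {X X' Y Y' : Sp S} (t : X ⟶ X') (f : X ⟶ Y) (f' : X' ⟶ Y') (t' : Y ⟶ Y') where
  (W W' V V' : Over S)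
  (τ : W ⟶ W') (j : W ⟶ V) (a : W' ⟶ V') (b : V ⟶ V')
  (qW : (yon S).obj W ⟶ X) (qW' : (yon S).obj W' ⟶ X') (qV : (yon S).obj V ⟶ Y) (qV' : (yon S).obj V' ⟶ Y')
  closed : IsClosedImmersion τ.left
  surj : Surjective τ.left
  affine : IsAffineHom j.left
  bclosed : IsClosedImmersion b.left
  bsurj : Surjective b.left
  pinch : @Groth.L20.Pinch.IsPinch _ _ _ τ.left j.left closed _ a.left b.left
  isPushout : IsPushout τ j a b
  etW' : RepWith @Etale qW'
  surW' : RepWith @Surjective qW'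
  etV : RepWith @Etale qV
  surV : RepWith @Surjective qV
  etV' : RepWith @Etale qV'
  surV' : RepWith @Surjective qV'
  sqT : IsPullback ((yon S).map τ) qW qW' t
  sqF : IsPullback ((yon S).map j) qW qV f
  sqA : IsPullback ((yon S).map a) qW' qV' f'
  sqB : IsPullback ((yon S).map b) qV qV' t'

/-- A commutative square of algebraic spaces with compatible charts is a pushout. -/
theorem Chart.isPushout_space {X X' Y Y' : Space S} {t : X ⟶ X'} {f : X ⟶ Y} {f' : X' ⟶ Y'} {t' : Y ⟶ Y'}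
    (c : Chart t.hom f.hom f'.hom t'.hom) (hw : t ≫ f' = f ≫ t') : IsPushout t f f' t' := by
  have := c.closed; have := c.surj; have := c.affine
  obtain ⟨RP, tP, sP, sqP⟩ := exists_isPullback_of_representable c.etV'.1 c.qV'
  obtain ⟨RX, tX, sX, sqX⟩ := exists_isPullback_of_representable c.etW'.1 c.qW'
  obtain ⟨RY, tY, sY, sqY⟩ := exists_isPullback_of_representable c.etV.1 c.qV
  have hW : RepWith @Etale c.qW := repWith_of_isPullback c.sqF c.etV
  obtain ⟨RZ, tZ, sZ, sqZ⟩ := exists_isPullback_of_representable hW.1 c.qW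
  obtain ⟨a', hsA, htA⟩ := exists_kernelPair_map c.sqA sqX sqP
  obtain ⟨b', hsB, htB⟩ := exists_kernelPair_map c.sqB sqY sqP
  obtain ⟨i', hs2, ht2⟩ := exists_kernelPair_map c.sqT sqZ sqX
  obtain ⟨j', hs1, ht1⟩ := exists_kernelPair_map c.sqF sqZ sqY
  have htE : Etale tP.left := (repWith_yon_map_iff _ tP).1 (repWith_of_isPullback sqP.flip c.etV')
  have hl : i' ≫ a' = j' ≫ b' := (yon S).map_injective (sqP.hom_ext
    (by rw [← Functor.map_comp, ← Functor.map_comp, Category.assoc, Category.assoc, htA.w, htB.w, reassoc_of% ht2.w,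
      reassoc_of% ht1.w, c.isPushout.w])
    (by rw [← Functor.map_comp, ← Functor.map_comp, Category.assoc, Category.assoc, hsA.w, hsB.w, reassoc_of% hs2.w,
      reassoc_of% hs1.w, c.isPushout.w]))
  have hpo' := PinchOver.isPushout_flat c.pinch htB htA ht2 ht1.w hl
  have : IsClosedImmersion i'.left := MorphismProperty.of_isPullback (hs2.map (Over.forget S)).flip c.closed
  have : Surjective i'.left := MorphismProperty.of_isPullback (P := @Surjective) (hs2.map (Over.forget S)).flip c.surj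
  have : IsAffineHom j'.left := MorphismProperty.of_isPullback (P := @IsAffineHom) (hs1.map (Over.forget S)).flip c.affine
  have key := Groth.Agent.S10699.result c.τ c.j c.a c.b ⟨c.closed, c.surj⟩ c.isPushout
  have key' := Groth.Agent.S10699.result i' j' a' b' ⟨‹_›, ‹_›⟩ hpo'
  have := epi_of_repWith _ c.etW' c.surW'
  have := epi_of_repWith _ c.etV c.surV
  have := epi_of_repWith _ c.etV' c.surV'
  obtain ⟨cP⟩ := nonempty_isColimit_cofork c.qV' sqP
  have hfh : c.qW' ≫ f'.hom = (yon S).map c.a ≫ c.qV' := c.sqA.w.symm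
  have hth : c.qV ≫ t'.hom = (yon S).map c.b ≫ c.qV' := c.sqB.w.symm
  have hext : ∀ {Z : Space S} (m m' : Y' ⟶ Z), f' ≫ m = f' ≫ m' → t' ≫ m = t' ≫ m' → m = m' := by
    intro Z m m' h₁ h₂
    refine ObjectProperty.hom_ext _ ((cancel_epi c.qV').1 ?_)
    have := key.hom_ext (k := (⟨c.qV' ≫ m.hom⟩ : (AlgSp.ofScheme S).obj c.V' ⟶ Z)) (l := ⟨c.qV' ≫ m'.hom⟩)
      (ObjectProperty.hom_ext _ (by
        show (yon S).map c.a ≫ c.qV' ≫ m.hom = (yon S).map c.a ≫ c.qV' ≫ m'.hom
        rw [← reassoc_of% hfh, ← reassoc_of% hfh]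
        exact congrArg (fun k => c.qW' ≫ k.hom) h₁))
      (ObjectProperty.hom_ext _ (by
        show (yon S).map c.b ≫ c.qV' ≫ m.hom = (yon S).map c.b ≫ c.qV' ≫ m'.hom
        rw [← reassoc_of% hth, ← reassoc_of% hth]
        exact congrArg (fun k => c.qV ≫ k.hom) h₂))
    exact congrArg (fun k => k.hom) this
  have hdesc : ∀ {Z : Space S} (g : X' ⟶ Z) (h : Y ⟶ Z), t ≫ g = f ≫ h → ∃ m : Y' ⟶ Z, f' ≫ m = g ∧ t' ≫ m = h := by
    intro Z g h w
    let g₁ : (AlgSp.ofScheme S).obj c.W' ⟶ Z := ⟨c.qW' ≫ g.hom⟩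
    let h₁ : (AlgSp.ofScheme S).obj c.V ⟶ Z := ⟨c.qV ≫ h.hom⟩
    have hw₁ : (AlgSp.ofScheme S).map c.τ ≫ g₁ = (AlgSp.ofScheme S).map c.j ≫ h₁ := ObjectProperty.hom_ext _ (by
      show (yon S).map c.τ ≫ c.qW' ≫ g.hom = (yon S).map c.j ≫ c.qV ≫ h.hom
      rw [reassoc_of% c.sqT.w, reassoc_of% c.sqF.w]
      exact congrArg (fun k => c.qW ≫ k.hom) w)
    let x := key.desc g₁ h₁ hw₁
    have hxa : (yon S).map c.a ≫ x.hom = c.qW' ≫ g.hom := congrArg (fun k => k.hom) (key.inl_desc g₁ h₁ hw₁)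
    have hxb : (yon S).map c.b ≫ x.hom = c.qV ≫ h.hom := congrArg (fun k => k.hom) (key.inr_desc g₁ h₁ hw₁)
    have ea : (yon S).map a' ≫ (yon S).map tP ≫ x.hom = (yon S).map a' ≫ (yon S).map sP ≫ x.hom := by
      rw [← Functor.map_comp_assoc, ← Functor.map_comp_assoc, htA.w, hsA.w, Functor.map_comp_assoc,
        Functor.map_comp_assoc, hxa, reassoc_of% sqX.w]
    have eb : (yon S).map b' ≫ (yon S).map tP ≫ x.hom = (yon S).map b' ≫ (yon S).map sP ≫ x.hom := by
      rw [← Functor.map_comp_assoc, ← Functor.map_comp_assoc, htB.w, hsB.w, Functor.map_comp_assoc,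
        Functor.map_comp_assoc, hxb, reassoc_of% sqY.w]
    have hR' : (yon S).map tP ≫ x.hom = (yon S).map sP ≫ x.hom := by
      have := key'.hom_ext (k := (⟨(yon S).map tP ≫ x.hom⟩ : (AlgSp.ofScheme S).obj RP ⟶ Z))
        (l := ⟨(yon S).map sP ≫ x.hom⟩) (ObjectProperty.hom_ext _ ea) (ObjectProperty.hom_ext _ eb)
      exact congrArg (fun k => k.hom) this
    have hm : c.qV' ≫ cP.desc (Cofork.ofπ x.hom hR') = x.hom := cP.fac _ WalkingParallelPair.one
    exact ⟨⟨cP.desc (Cofork.ofπ x.hom hR')⟩,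
      ObjectProperty.hom_ext _ ((cancel_epi c.qW').1 (by
        show c.qW' ≫ f'.hom ≫ _ = c.qW' ≫ g.hom
        rw [reassoc_of% hfh, hm, hxa])),
      ObjectProperty.hom_ext _ ((cancel_epi c.qV).1 (by
        show c.qV ≫ t'.hom ≫ _ = c.qV ≫ h.hom
        rw [reassoc_of% hth, hm, hxb]))⟩
  choose m hm₁ hm₂ using @hdesc
  exact ⟨⟨hw⟩, ⟨PushoutCocone.IsColimit.mk _ (fun s => m s.inl s.inr s.condition)
    (fun s => hm₁ _ _ _) (fun s => hm₂ _ _ _)
    (fun s k h₁ h₂ => hext _ _ (h₁.trans (hm₁ _ _ _).symm) (h₂.trans (hm₂ _ _ _).symm))⟩⟩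

/-- The pushout exists, with charts. -/
theorem exists_pushout {X X' Y : Space S} (t : X ⟶ X') (ht : IsThickMor t.hom) (f : X ⟶ Y)
    (hf : IsAffineMor f.hom) :
    ∃ (Y' : Space S) (f' : X' ⟶ Y') (t' : Y ⟶ Y'), IsPushout t f f' t' ∧ IsThickMor t'.hom ∧
      Nonempty (Chart t.hom f.hom f'.hom t'.hom) := by
  obtain ⟨V, pV, hV, hVs⟩ := Y.property.atlas
  have hfA := repWith_isAffineHom_of_isAffineMor hf
  obtain ⟨W, j, qW, sqF⟩ : ∃ (W : Over S) (j : W ⟶ V) (qW : (yon S).obj W ⟶ X.obj),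
      IsPullback ((yon S).map j) qW pV f.hom := ⟨_, _, _, (hfA.1.isPullback pV).flip⟩
  have hW : RepWith @Etale qW := repWith_of_isPullback sqF hV
  have hWs : RepWith @Surjective qW := repWith_of_isPullback sqF hVs
  have : IsAffineHom j.left := repWith_prop hfA sqF.flip
  -- the chart of the thickened space
  obtain ⟨V₁, hV₁, a₁, c, ha₁, sqc⟩ := exists_etale_space_descent X.property X'.property
    (repWith_mono (fun φ h => isUnivHomeo_of_thickening φ h) ht) (IsAlgSpace.yon_obj W)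
    (AlgSp.isEtaleMor_of_repWith qW hW)
  obtain ⟨W', θ, hθ⟩ := exists_scheme_of_thickening hV₁ (i := c) (repWith_of_isPullback sqc ht)
  let qW' := θ ≫ a₁
  obtain ⟨τ, hτ⟩ := (yon S).map_surjective (c ≫ inv θ)
  have hW' : RepWith @Etale qW' := ha₁ θ (repWith_of_isIso _)
  have sqT : IsPullback ((yon S).map τ) qW qW' t.hom :=
    sqc.flip.of_iso (Iso.refl _) (asIso θ).symm (Iso.refl _) (Iso.refl _) (by simp [hτ]) (by simp)
      (by simp [qW']) (by simp)
  have hW's : RepWith @Surjective qW' := repWith_surjective_of_map hW'.1 fun x => by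
    obtain ⟨y, rfl⟩ := surjective_map_of_repWith (repWith_mono (fun φ (h : MoreMor.IsThickening φ) => h.2) ht) x
    obtain ⟨z, rfl⟩ := surjective_map_of_repWith hWs y
    exact ⟨Points.map ((yon S).map τ) z, by rw [← Points.map_comp, sqT.w, Points.map_comp]⟩
  obtain ⟨hτc, hτs⟩ := repWith_prop ht sqT.flip
  have : IsClosedImmersion τ.left := hτc
  have : Surjective τ.left := hτs
  -- the relations
  obtain ⟨RY, tY, sY, sqY⟩ := exists_isPullback_of_representable hV.1 pV
  obtain ⟨RX, tX, sX, sqX⟩ := exists_isPullback_of_representable hW'.1 qW'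
  obtain ⟨RZ, tZ, sZ, sqZ⟩ := exists_isPullback_of_representable hW.1 qW
  obtain ⟨i', hs2, ht2⟩ := exists_kernelPair_map sqT sqZ sqX
  obtain ⟨j', hs1, ht1⟩ := exists_kernelPair_map sqF sqZ sqY
  have : IsClosedImmersion i'.left := MorphismProperty.of_isPullback (hs2.map (Over.forget S)).flip hτc
  have : Surjective i'.left := MorphismProperty.of_isPullback (P := @Surjective) (hs2.map (Over.forget S)).flip hτs
  have : IsAffineHom j'.left := MorphismProperty.of_isPullback (P := @IsAffineHom) (hs1.map (Over.forget S)).flip ‹IsAffineHom j.left›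
  obtain ⟨V', a, b, hP, hpo, hbc, hbs⟩ := PinchOver.exists_pinch τ j
  obtain ⟨R', a', b', hR, hpo', -, -⟩ := PinchOver.exists_pinch i' j'
  let sP := hpo'.desc (sX ≫ a) (sY ≫ b) (by rw [reassoc_of% hs2.w, reassoc_of% hs1.w, hpo.w])
  let tP := hpo'.desc (tX ≫ a) (tY ≫ b) (by rw [reassoc_of% ht2.w, reassoc_of% ht1.w, hpo.w])
  have hsa : a' ≫ sP = sX ≫ a := hpo'.inl_desc _ _ _
  have hsb : b' ≫ sP = sY ≫ b := hpo'.inr_desc _ _ _
  have hta : a' ≫ tP = tX ≫ a := hpo'.inl_desc _ _ _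
  have htb : b' ≫ tP = tY ≫ b := hpo'.inr_desc _ _ _
  have hEX := isEtaleEqvRel_of_atlas hW' sqX
  have hEY := isEtaleEqvRel_of_atlas hV sqY
  have hE := PinchOver.isEtaleEqvRel (isEtaleEqvRel_of_atlas hW sqZ) hEX hEY hP hpo hR hpo' hs2 hs1 ht2 ht1
    hsa hsb hta htb
  have := hEX.etale_left; have := hEX.etale_right; have := hEY.etale_left; have := hEY.etale_right
  obtain ⟨-, hsA, hsB⟩ := PinchOver.etale_and_cartesian hP hR hs2 hs1 hsa hsb
  obtain ⟨-, htA, htB⟩ := PinchOver.etale_and_cartesian hP hR ht2 ht1 hta htb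
  -- the quotient
  let Y' : Space S := ⟨_, Groth.Agent.S9868.result S sP tP hE⟩
  obtain ⟨q, -, hq, hqs, sqP⟩ : ∃ q : (yon S).obj V' ⟶ Y'.obj, IsPresentation sP tP q ∧ RepWith @Etale q ∧
      RepWith @Surjective q ∧ IsPullback ((yon S).map tP) ((yon S).map sP) q q := by
    have h := Groth.Agent.S9869.result S sP tP hE Y'.property
    exact ⟨_, h, h.etale, h.surjective, h.isPullback⟩
  have := epi_of_repWith _ hW' hW's
  have := epi_of_repWith _ hV hVs
  have := epi_of_repWith _ hW hWs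
  have := epi_of_repWith _ hq hqs
  obtain ⟨cX⟩ := nonempty_isColimit_cofork qW' sqX
  obtain ⟨cY⟩ := nonempty_isColimit_cofork pV sqY
  obtain ⟨cP⟩ := nonempty_isColimit_cofork q sqP
  let fh : X'.obj ⟶ Y'.obj := cX.desc (Cofork.ofπ ((yon S).map a ≫ q) (by
    rw [← Functor.map_comp_assoc, ← Functor.map_comp_assoc, ← hta, ← hsa, Functor.map_comp_assoc,
      Functor.map_comp_assoc, sqP.w]))
  let th : Y.obj ⟶ Y'.obj := cY.desc (Cofork.ofπ ((yon S).map b ≫ q) (by
    rw [← Functor.map_comp_assoc, ← Functor.map_comp_assoc, ← htb, ← hsb, Functor.map_comp_assoc,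
      Functor.map_comp_assoc, sqP.w]))
  have hfh : qW' ≫ fh = (yon S).map a ≫ q := cX.fac _ WalkingParallelPair.one
  have hth : pV ≫ th = (yon S).map b ≫ q := cY.fac _ WalkingParallelPair.one
  have sqA := isPullback_of_presentations hW' hW's sqX sqP hsA htA hfh
  have sqB := isPullback_of_presentations hV hVs sqY sqP hsB htB hth
  have hcomm : t.hom ≫ fh = f.hom ≫ th := by
    rw [← cancel_epi qW, ← reassoc_of% sqT.w, ← reassoc_of% sqF.w, hfh, hth, ← Functor.map_comp_assoc,
      ← Functor.map_comp_assoc, hpo.w]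
  let f' : X' ⟶ Y' := ⟨fh⟩
  let t' : Y ⟶ Y' := ⟨th⟩
  have hw : t ≫ f' = f ≫ t' := ObjectProperty.hom_ext _ hcomm
  let c : Chart t.hom f.hom f'.hom t'.hom :=
    ⟨W, W', V, V', τ, j, a, b, qW, qW', pV, q, hτc, hτs, ‹_›, hbc, hbs, hP, hpo, hW', hW's, hV, hVs,
      hq, hqs, sqT, sqF, sqA, sqB⟩
  refine ⟨Y', f', t', c.isPushout_space hw, ?_, ⟨c⟩⟩
  have := hbc; have := hbs
  exact isThickMor_of_cover hq hqs sqB.flip

end Groth.L23.PushoutSpace
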