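import Groth.Agent.L23.NormZMT

/-!
# Etale splitting off one quasi-finite part
-/

universe u

open CategoryTheory CategoryTheory.Limits AlgebraicGeometry Opposite AlgSp

set_option backward.isDefEq.respectTransparency.types false
set_option linter.style.haveILetI false

namespace Groth.L23.QFL

open Norm

variable {S : Scheme.{u}}

set_option maxHeartbeats 800000 in
/-- A quasi-finite point lies, etale locally on the target, in an open and closed finite piece with
one geometric point over the chosen point. -/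
theorem exists_split_one' {X G : Sp S} (hX : IsAlgSpace X) (hG : IsAlgSpace G) {f : X ⟶ G}
    (hsep : IsSeparatedMor f) {x : Points X} (hx : HasAtMor Norm.qfAt f x) :
    ∃ (T : Over S) (a : (yon S).obj T ⟶ G) (U₁ : Over S) (fT : U₁ ⟶ T) (z : U₁.left)
      (e₁ : (yon S).obj U₁ ⟶ X),
      RepWith @Etale a ∧ IsAffine T.left ∧ IsAffine U₁.left ∧ IsFinite fT.left ∧
      RepWith @Etale e₁ ∧ Points.ofPt e₁ z = x ∧
      (∀ (Ω : Type u) [Field Ω] (γ γ' : Spec (CommRingCat.of Ω) ⟶ U₁.left) (t : ↥(Spec (CommRingCat.of Ω))),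
        γ ≫ fT.left = γ' ≫ fT.left → fT.left (γ t) = fT.left z → γ = γ') ∧
      ∀ (P : Sp S) (prX : P ⟶ X) (prT : P ⟶ (yon S).obj T), IsPullback prX prT f a →
        ∃ jV : (yon S).obj U₁ ⟶ P, RepWith @IsOpenImmersion jV ∧ RepWith @IsClosedImmersion jV ∧
          jV ≫ prT = (yon S).map fT ∧ jV ≫ prX = e₁ := by
  obtain ⟨U, V, a₀, b₀, h, u, ha₀, hb₀, w, hau, W₀, huW, hq₁, hq₂⟩ := hx
  obtain ⟨_, ⟨B, hB, rfl⟩, huB, -⟩ :=
    V.left.isBasis_affineOpens.exists_subset_of_mem_open (Set.mem_univ (h.left u)) isOpen_univ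
  obtain ⟨_, ⟨U', hU', rfl⟩, huU, hsub⟩ := U.left.isBasis_affineOpens.exists_subset_of_mem_open
    (show u ∈ W₀ ⊓ h.left ⁻¹ᵁ B from ⟨huW, huB⟩) (W₀ ⊓ h.left ⁻¹ᵁ B).isOpen
  change V.left.Opens at B
  change U.left.Opens at U'
  have : IsAffine (openOver V B).left := hB
  have : IsAffine (openOver U U').left := hU'
  let c : Chart G := ⟨openOver V B, (yon S).map (openOverι V B) ≫ b₀,
    repWith_comp (repWith_map (inferInstanceAs (Etale B.ι))) hb₀⟩
  obtain ⟨h₀, hh₀⟩ := exists_lift_open (openOverι V B) (openOverι U U' ≫ h) fun z => ⟨⟨_, (hsub z.2).2⟩, rfl⟩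
  have hh₀' : h₀.left ≫ B.ι = U'.ι ≫ h.left := congr_arg CommaMorphism.left hh₀
  have hW : U'.ι = U.left.homOfLE (fun z hz => (hsub hz).1 : U' ≤ W₀) ≫ W₀.ι := by simp
  have hl₁ : LocallyQuasiFinite h₀.left := by
    have : LocallyQuasiFinite (h₀.left ≫ B.ι) := by rw [hh₀', hW, Category.assoc]; infer_instance
    exact LocallyQuasiFinite.of_comp h₀.left B.ι
  have hl₂ : LocallyOfFiniteType h₀.left := by
    have : LocallyOfFiniteType (h₀.left ≫ B.ι) := by rw [hh₀', hW, Category.assoc]; infer_instance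
    exact locallyOfFiniteType_of_comp h₀.left B.ι
  have sc := IsPullback.of_hasPullback f c.v
  obtain ⟨p₀, hp₁, hp₂⟩ := sc.exists_lift ((yon S).map (openOverι U U') ≫ a₀) ((yon S).map h₀) (by
    show _ = _ ≫ (yon S).map (openOverι V B) ≫ b₀
    rw [Category.assoc, w, ← Functor.map_comp_assoc, ← Functor.map_comp_assoc, hh₀])
  have hP : IsAlgSpace (pullback f c.v) := isAlgSpace_of_isPullback hG.diag hX (IsAlgSpace.yon_obj _) sc
  have hfc : RepWith @Etale (pullback.fst f c.v) := repWith_of_isPullback sc.flip c.etale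
  have cancel : ∀ {A B' C : Sp S} {φ : A ⟶ B'} {ψ : B' ⟶ C}, IsAlgSpace A → IsAlgSpace B' → IsAlgSpace C →
      RepWith @Etale (φ ≫ ψ) → RepWith @Etale ψ → LocP @Etale φ := fun {A B' C φ ψ} hA hB' hC h₁ h₂ =>
    locP_of_comp_of_locP etLocal_etale (Q := @Etale) (fun φ ψ h₁ h₂ => by
      have := h₁; have := h₂; exact Etale.of_comp φ ψ) hA hB' hC (locP_of_repWith etLocal_etale h₁)
      (locP_of_repWith etLocal_etale h₂)
  have hp₀ : RepWith @Etale p₀ := repWith_of_locP etLocal_etale hP (hP.representable_from_yon _)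
    (cancel (IsAlgSpace.yon_obj _) hP hX (by
      rw [hp₁]; exact repWith_comp (repWith_map (inferInstanceAs (Etale U'.ι))) ha₀) hfc)
  obtain ⟨R, p₁, p₂, sR⟩ := exists_isPullback_of_representable hp₀.1 p₀
  obtain ⟨T, U₁, v, fT, k, wk, hTa, hU₁a, hv, hfT, hopen, ⟨z₀, hz₀, huniq⟩, hmono⟩ :=
    Lqf.exists_piece_sp' (W := c.V) (pullback.snd f c.v) (separated_of_isPullback sc hsep) p₀ hp₀ sR h₀ hp₂.symm
      ⟨u, huU⟩
  have wk' : k ≫ h₀ = fT ≫ v := Over.OverMorphism.ext wk
  obtain ⟨PT, fA, qT, sA⟩ : ∃ (PT : Sp S) (fA : PT ⟶ pullback f c.v) (qT : PT ⟶ (yon S).obj T),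
      IsPullback fA qT (pullback.snd f c.v) ((yon S).map v) := ⟨_, _, _, IsPullback.of_hasPullback _ _⟩
  have hPT : IsAlgSpace PT := isAlgSpace_of_isPullback (IsAlgSpace.yon_obj c.V).diag hP (IsAlgSpace.yon_obj T) sA
  have hfA : RepWith @Etale fA := repWith_of_isPullback sA.flip (repWith_map hv)
  obtain ⟨j, hj₁, hj₂⟩ := sA.exists_lift ((yon S).map k ≫ p₀) ((yon S).map fT)
    (by rw [Category.assoc, hp₂, ← Functor.map_comp, ← Functor.map_comp, wk'])
  have hk : Etale k.left := by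
    obtain ⟨Q, fq, sq, sQ⟩ : ∃ (Q : Scheme.{u}) (fq : Q ⟶ (openOver U U').left) (sq : Q ⟶ T.left),
        IsPullback fq sq h₀.left v.left := ⟨_, _, _, IsPullback.of_hasPullback h₀.left v.left⟩
    have := hopen fq sq sQ
    have : Etale fq := MorphismProperty.of_isPullback sQ.flip hv
    rw [← sQ.lift_fst k.left fT.left wk]
    infer_instance
  have : Mono j := mono_of_yon fun Z y y' e => by
    obtain ⟨y, rfl⟩ := (yon S).map_surjective y
    obtain ⟨y', rfl⟩ := (yon S).map_surjective y'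
    refine congr_arg _ (hmono y y' ((yon S).map_injective ?_) ?_)
    · rw [Functor.map_comp, Functor.map_comp, ← hj₂, reassoc_of% e]
    · rw [Functor.map_comp_assoc, Functor.map_comp_assoc, ← hj₁, reassoc_of% e]
  have hje : LocP @Etale j := cancel (IsAlgSpace.yon_obj _) hPT hP
    (by rw [hj₁]; exact repWith_comp (repWith_map hk) hp₀) hfA
  have hjo : RepWith @IsOpenImmersion j := repWith_isOpenImmersion_of_etale_mono (IsAlgSpace.yon_obj _) hPT j hje
  have hjc : RepWith @IsClosedImmersion j := by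
    have hd : RepWith @IsProper (pullback.diagonal qT) :=
      repWith_mono (Q := (@IsProper : MorphismProperty Scheme.{u}))
        (fun φ (_ : IsClosedImmersion φ) => inferInstanceAs (IsProper φ))
        (separated_of_isPullback sA (separated_of_isPullback sc hsep))
    have hjp : RepWith @IsProper j := repWith_of_comp_diagonal
      (by rw [hj₂]; exact repWith_map (inferInstanceAs (IsProper fT.left))) hd
    exact repWith_mono (fun φ ⟨(_ : IsProper φ), (_ : IsOpenImmersion φ)⟩ =>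
      (IsClosedImmersion.iff_isProper_and_mono _).2 ⟨‹_›, inferInstance⟩) (repWith_inf_iff.2 ⟨hjp, hjo⟩)
  have : LocallyQuasiFinite h₀.left := hl₁
  refine ⟨T, (yon S).map v ≫ c.v, U₁, fT, z₀, (yon S).map k ≫ (yon S).map (openOverι U U') ≫ a₀,
    repWith_comp (repWith_map hv) c.etale, hTa, hU₁a, hfT,
    repWith_comp (repWith_map hk) (repWith_comp (repWith_map (inferInstanceAs (Etale U'.ι))) ha₀), ?_,
    huniq, fun P prX prT sP => ?_⟩
  · rw [← Functor.map_comp_assoc, ofPt_comp, ← hau]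
    exact congr_arg (Points.ofPt a₀) (congr_arg Subtype.val hz₀)
  let e := (sA.paste_horiz sc).isoIsPullback _ _ sP
  refine ⟨j ≫ e.hom, repWith_comp hjo (repWith_of_isIso e.hom), repWith_comp hjc (repWith_of_isIso e.hom), ?_, ?_⟩
  · rw [Category.assoc, IsPullback.isoIsPullback_hom_snd, hj₂]
  · rw [Category.assoc, IsPullback.isoIsPullback_hom_fst, reassoc_of% hj₁, hp₁]

/-- A quasi-finite point lies, etale locally on the target, in an open and closed finite piece. -/
theorem exists_split_one {X G : Sp S} (hX : IsAlgSpace X) (hG : IsAlgSpace G) {f : X ⟶ G}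
    (hsep : IsSeparatedMor f) {x : Points X} (hx : HasAtMor Norm.qfAt f x) :
    ∃ (T : Over S) (a : (yon S).obj T ⟶ G) (U₁ : Over S) (fT : U₁ ⟶ T) (z : U₁.left),
      RepWith @Etale a ∧ IsAffine T.left ∧ IsAffine U₁.left ∧ IsFinite fT.left ∧
      ∀ (P : Sp S) (prX : P ⟶ X) (prT : P ⟶ (yon S).obj T), IsPullback prX prT f a →
        ∃ jV : (yon S).obj U₁ ⟶ P, RepWith @IsOpenImmersion jV ∧ RepWith @IsClosedImmersion jV ∧
          jV ≫ prT = (yon S).map fT ∧ Points.ofPt (jV ≫ prX) z = x := by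
  obtain ⟨T, a, U₁, fT, z, e₁, h₁, h₂, h₃, h₄, -, h₆, -, H⟩ := exists_split_one' hX hG hsep hx
  refine ⟨T, a, U₁, fT, z, h₁, h₂, h₃, h₄, fun P prX prT sP => ?_⟩
  obtain ⟨jV, k₁, k₂, k₃, k₄⟩ := H P prX prT sP
  exact ⟨jV, k₁, k₂, k₃, k₄ ▸ h₆⟩

end Groth.L23.QFL
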