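import Groth.Agent.L10.RDerBound
import Groth.Agent.L10.ExactProd
import Groth.Agent.L29.DCoh.RDerLE
import Groth.Agent.L10.KInjDerived
import Mathlib.Algebra.Category.Grp.AB
import Mathlib.Algebra.Category.Grp.Abelian
import Mathlib.Algebra.Homology.DerivedCategory.Ext.EnoughProjectives
import Mathlib.GroupTheory.FreeAbelianGroup

/-!
# Right derived functors to abelian groups and truncations
-/

universe t w w' v u

open CategoryTheory CategoryTheory.Limits CategoryTheory.Pretriangulated DerivedCategory

set_option autoImplicit false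
set_option linter.style.haveILetI false
set_option backward.isDefEq.respectTransparency false
set_option backward.isDefEq.respectTransparency.types false

noncomputable section

namespace Groth.L23.RDerTrunc

open Groth.L10

section Prod

universe v' u'

variable {A : Type u} [Category.{v} A] [Abelian A] [HasDerivedCategory.{w} A]
  [Groth.L10.KInjDerived.EnoughKInjectives A] [HasProductsOfShape ℕ A]
  {B : Type u'} [Category.{v'} B] [Abelian B] [HasDerivedCategory.{w'} B]
  [HasProductsOfShape ℕ B] [(lim : (Discrete ℕ ⥤ B) ⥤ B).PreservesEpimorphisms]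
  (F : A ⥤ B) [F.Additive] [PreservesLimitsOfShape (Discrete ℕ) F]

/-- With exact products, `F` sends products of complexes to products in the derived category. -/
theorem product_bijective (I : ℕ → CochainComplex A ℤ) (W : DerivedCategory B) :
    Function.Bijective (fun (g : W ⟶ (F.mapHomotopyCategory (ComplexShape.up ℤ) ⋙ Qh).obj
        ((HomotopyCategory.quotient A (ComplexShape.up ℤ)).obj (∏ᶜ I))) n =>
      g ≫ (F.mapHomotopyCategory (ComplexShape.up ℤ) ⋙ Qh).map ((HomotopyCategory.quotient A (ComplexShape.up ℤ)).map (Pi.π I n))) := by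
  let G := F.mapHomologicalComplex (ComplexShape.up ℤ)
  let ψ : G.obj (∏ᶜ I) ⟶ ∏ᶜ (fun n => G.obj (I n)) := Pi.lift fun n => G.map (Pi.π I n)
  have hψq : ∀ q, IsIso (ψ.f q) := fun q => by
    let h₁ := isLimitFanMkObjOfIsLimit F _ _
      (isLimitOfHasProductOfPreservesLimit (HomologicalComplex.eval A (ComplexShape.up ℤ) q) I)
    let h₂ := isLimitOfHasProductOfPreservesLimit (HomologicalComplex.eval B (ComplexShape.up ℤ) q) (fun n => G.obj (I n))
    have : ψ.f q = (h₁.conePointUniqueUpToIso h₂).hom := by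
      refine Fan.IsLimit.hom_ext h₂ _ _ fun n => ?_
      refine Eq.trans ?_ (h₁.conePointUniqueUpToIso_hom_comp h₂ ⟨n⟩).symm
      exact congrArg (fun (x : G.obj (∏ᶜ I) ⟶ G.obj (I n)) => x.f q) (Pi.lift_π (fun n => G.map (Pi.π I n)) n)
    rw [this]
    infer_instance
  have : IsIso ψ := HomologicalComplex.Hom.isIso_of_components ψ
  have hb := ExactProd.hom_to_product_bijective (fun n => G.obj (I n)) W
  let χ := asIso ((Qh (C := B)).map ((HomotopyCategory.quotient B (ComplexShape.up ℤ)).map ψ))
  have hψπ : ∀ n, (F.mapHomotopyCategory (ComplexShape.up ℤ) ⋙ Qh).map ((HomotopyCategory.quotient A (ComplexShape.up ℤ)).map (Pi.π I n)) =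
      χ.hom ≫ Qh.map ((HomotopyCategory.quotient B (ComplexShape.up ℤ)).map (Pi.π (fun n => G.obj (I n)) n)) := fun n => by
    simp only [χ, asIso_hom, ← Functor.map_comp, ψ, Pi.lift_π]
    rfl
  refine ⟨fun x x' hx => ?_, fun x => ?_⟩
  · refine (cancel_mono χ.hom).1 (hb.injective (funext fun n => ?_))
    have := congrFun hx n
    simp only [hψπ] at this
    exact (Category.assoc _ _ _).trans (this.trans (Category.assoc _ _ _).symm)
  · obtain ⟨z, hz⟩ := hb.surjective x
    refine ⟨z ≫ χ.inv, funext fun n => ?_⟩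
    simp only [hψπ, Category.assoc, Iso.inv_hom_id_assoc]
    exact congrFun hz n

end Prod

section Ab

theorem preservesEpimorphisms_lim :
    (lim : (Discrete ℕ ⥤ AddCommGrpCat.{v}) ⥤ AddCommGrpCat.{v}).PreservesEpimorphisms := by
  haveI : HasExactLimitsOfShape (Discrete ℕ) AddCommGrpCat.{v} :=
    HasExactLimitsOfShape.of_domain_equivalence _ (Discrete.equivalence (Equiv.ulift.{v} (α := ℕ)))
  haveI : PreservesFiniteColimits (lim : (Discrete ℕ ⥤ AddCommGrpCat.{v}) ⥤ AddCommGrpCat.{v}) :=
    HasExactLimitsOfShape.preservesFiniteColimits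
  infer_instance

/-- The group of integers in the given universe. -/
abbrev Zu : AddCommGrpCat.{v} := AddCommGrpCat.free.obj PUnit.{v + 1}

instance projective_Zu : Projective Zu.{v} := by
  refine ⟨fun {E X} f e _ => ?_⟩
  obtain ⟨x, hx⟩ := (AddCommGrpCat.epi_iff_surjective e).1 inferInstance (f (FreeAbelianGroup.of PUnit.unit))
  refine ⟨AddCommGrpCat.ofHom (FreeAbelianGroup.lift fun _ => x), AddCommGrpCat.hom_ext (FreeAbelianGroup.lift_ext _ _ fun _ => ?_)⟩
  show e (FreeAbelianGroup.lift (fun _ => x) (FreeAbelianGroup.of _)) = f (FreeAbelianGroup.of _)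
  rw [FreeAbelianGroup.lift_apply_of, hx]

/-- The integers as the only test object. -/
def cover : LocalDetect.Cover AddCommGrpCat.{v} PUnit.{1} where
  P _ := Zu
  good _ Q := Q = Zu
  sep M N φ h := AddCommGrpCat.hom_ext (AddMonoidHom.ext fun m => by
    have := ConcreteCategory.congr_hom (h PUnit.unit (AddCommGrpCat.ofHom (FreeAbelianGroup.lift fun _ => m)))
      (FreeAbelianGroup.of PUnit.unit)
    change φ (FreeAbelianGroup.lift (fun _ => m) (FreeAbelianGroup.of _)) = 0 at this
    rwa [FreeAbelianGroup.lift_apply_of] at this)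
  cov _ T p _ N b h := by
    have := h Zu (Projective.factorThru (𝟙 Zu) p) rfl
    rwa [← Category.assoc, Projective.factorThru_comp, Category.id_comp] at this

theorem small_Zu [HasDerivedCategory.{w} AddCommGrpCat.{v}] (M : AddCommGrpCat.{v}) :
    TowerStab.Small 0 Zu M := fun m hm g => by
  let e : ((singleFunctor AddCommGrpCat.{v} 0).obj M)⟦m⟧ ≅ (singleFunctor AddCommGrpCat.{v} (-m)).obj M :=
    ((singleFunctors AddCommGrpCat.{v}).shiftIso m (-m) 0 (by omega)).app M
  have key : ∀ h : (singleFunctor AddCommGrpCat.{v} 0).obj Zu ⟶ (singleFunctor AddCommGrpCat.{v} (-m)).obj M, h = 0 :=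
    fun h => DerivedCategory.from_singleFunctor_obj_eq_zero_of_projective
      (L := (CochainComplex.singleFunctor _ (-m)).obj M) (n := -m) h (by omega)
  rw [← cancel_mono e.hom, zero_comp]
  exact key _

variable {A : Type u} [Category.{v} A] [Abelian A] [HasDerivedCategory.{w} A]
  [KInjDerived.EnoughKInjectives A] [HasInjectiveResolutions A] [EnoughInjectives A] [HasProductsOfShape ℕ A]
  [HasDerivedCategory.{w'} AddCommGrpCat.{v}]
  (F : A ⥤ AddCommGrpCat.{v}) [F.Additive] [PreservesLimitsOfShape (Discrete ℕ) F]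
  {RF : DerivedCategory A ⥤ DerivedCategory AddCommGrpCat.{v}}
  (α : F.mapHomotopyCategory (ComplexShape.up ℤ) ⋙ Qh ⟶ Qh ⋙ RF)
  [RF.IsRightDerivedFunctor α (HomotopyCategory.quasiIso A (ComplexShape.up ℤ))]

local notation "tt" => DerivedCategory.TStructure.t

include α in
/-- Truncations of an object with locally bounded cohomology and bounded derived functors. -/
theorem isIso_H_map_π {ιA : Type t} {𝒞A : LocalDetect.Cover A ιA} (X : DerivedCategory A)
    (hlocA : TowerStab.LocBounded 𝒞A X) (N : ℤ) (hX : RDerBound.Bounded (F := F) X N)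
    (n : ℕ) (j : ℤ) (hj : N - (n : ℤ) ≤ j) :
    IsIso ((homologyFunctor AddCommGrpCat.{v} j).map (RF.map (((tt).truncGEπ (-(n : ℤ))).app X))) := by
  haveI := preservesEpimorphisms_lim.{v}
  haveI : IsGrothendieckAbelian.{v} AddCommGrpCat.{v} := inferInstance
  have := DerivedProd.hasProductsOfShape (A := A) (ι := ℕ)
  have := DerivedProd.hasProductsOfShape (A := AddCommGrpCat.{v}) (ι := ℕ)
  have hL := TowerStab.isRlimVia_truncGE hlocA
  have hRL := ExactProd.isRlimVia_of_prod F RF α (fun I _ W => product_bijective F I W) _ _ X _ hL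
  refine TowerStab.isIso_H_rlim cover hRL j n (fun m hm => RDerBound.isIso_H_map_tr α X N hX j m (by omega)) fun i => ?_
  have hd := RDerBound.stab_of_small (Qo := Zu) (d := 0) α X N hX (fun a p => small_Zu _)
  refine ⟨((0 + N.toNat + 1 : ℕ) - j + 2).toNat, fun Qo hQo m hm => ?_⟩
  obtain rfl : Qo = Zu := hQo
  exact ⟨RDerBound.bijective_map_tr α X hd _ m (by omega), (RDerBound.bijective_map_tr α X hd _ m (by omega)).surjective⟩

include α in
/-- The same for an arbitrary truncation level. -/
theorem isIso_H_map_π_int {ιA : Type t} {𝒞A : LocalDetect.Cover A ιA} (X : DerivedCategory A)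
    (hlocA : TowerStab.LocBounded 𝒞A X) (N : ℤ) (hX : RDerBound.Bounded (F := F) X N)
    (c j : ℤ) (hj : N + c ≤ j) :
    IsIso ((homologyFunctor AddCommGrpCat.{v} j).map (RF.map (((tt).truncGEπ c).app X))) := by
  let n := (-c).toNat
  have hn : -(n : ℤ) ≤ c := by omega
  let Y := ((tt).truncGE (-(n : ℤ))).obj X
  let π := ((tt).truncGEπ (-(n : ℤ))).app X
  have h1 := isIso_H_map_π F α X hlocA N hX n j (by omega)
  have hsq : π ≫ ((tt).truncGEπ c).app Y = ((tt).truncGEπ c).app X ≫ ((tt).truncGE c).map π :=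
    ((tt).truncGEπ c).naturality π
  have hiso : IsIso (((tt).truncGE c).map π) := by
    rw [DerivedCategory.isIso_iff]
    intro i
    by_cases hi : c ≤ i
    · have := L10.isIso_H_π c i hi X
      have := L10.isIso_H_π c i hi Y
      have := L10.isIso_H_π (-(n : ℤ)) i (by omega) X
      have h2 := congrArg (homologyFunctor A i).map hsq
      rw [Functor.map_comp, Functor.map_comp] at h2
      refine @IsIso.of_isIso_comp_left _ _ _ _ _ ((homologyFunctor A i).map (((tt).truncGEπ c).app X)) _ _ ?_
      rw [← h2]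
      infer_instance
    · exact (isZero_H_GE c i (by omega) X).isIso (isZero_H_GE c i (by omega) Y) _
  let L := ((tt).truncLT c).obj Y
  have hLz : ∀ i : ℤ, i < -(n : ℤ) → IsZero ((homologyFunctor A i).obj L) := fun i hi => by
    have := isIso_H_ι c i (by omega) Y
    exact (isZero_H_GE (-(n : ℤ)) i hi X).of_iso (asIso ((homologyFunctor A i).map (((tt).truncLTι c).app Y)))
  have hLle : L.IsLE (c - 1) := (tt).isLE_truncLT_obj _ _ _ (by omega)
  have hLge : L.IsGE (c - 1 + 1 - ((c + n).toNat : ℕ)) := by
    rw [DerivedCategory.isGE_iff]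
    exact fun i hi => hLz i (by omega)
  have hz : ∀ j' : ℤ, j ≤ j' → IsZero ((homologyFunctor AddCommGrpCat.{v} j').obj (RF.obj L)) := fun j' hj' => by
    refine Groth.L29.DC.RDerLE.isZero_H_above (F := F) α N (c - 1) (c + n).toNat L hLge hLle (fun i h1 h2 p hp => ?_) j' (by omega)
    have := isIso_H_ι c i (by omega) Y
    have := L10.isIso_H_π (-(n : ℤ)) i (by omega) X
    exact (hX i p hp).of_iso ((F.rightDerived p).mapIso
      (asIso ((homologyFunctor A i).map (((tt).truncLTι c).app Y)) ≪≫
        (asIso ((homologyFunctor A i).map π)).symm))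
  obtain ⟨δ, hT⟩ := RDerTri.exists_triangle α _ ((tt).triangleLTGE_distinguished c Y)
  have h2 : IsIso ((homologyFunctor AddCommGrpCat.{v} j).map (RF.map (((tt).truncGEπ c).app Y))) :=
    isIso_H_mor₂ _ hT j (hz j le_rfl) (hz (j + 1) (by omega))
  have h3 : IsIso ((homologyFunctor AddCommGrpCat.{v} j).map (RF.map (((tt).truncGEπ c).app X)) ≫
      (homologyFunctor AddCommGrpCat.{v} j).map (RF.map (((tt).truncGE c).map π))) := by
    rw [← Functor.map_comp, ← Functor.map_comp, ← hsq, Functor.map_comp, Functor.map_comp]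
    infer_instance
  exact IsIso.of_isIso_comp_right _ ((homologyFunctor AddCommGrpCat.{v} j).map (RF.map (((tt).truncGE c).map π)))

end Ab

end Groth.L23.RDerTrunc
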