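import Groth.Agent.L23.EffCartierSub
import Groth.Agent.L23.RedInd
import Groth.Agent.L23.SourceRegular
import Groth.Agent.L23.NormNagata
import Groth.Agent.L23.QsTop
import Groth.Agent.L23.Chow.ProjPair
import Groth.Agent.L23.SchDenseMono
import Groth.Agent.S1687
import Groth.Agent.S1700
import Groth.Agent.S1568
import Groth.Agent.S2821
import Mathlib.RingTheory.Ideal.MinimalPrime.Noetherian

/-!
# The complement of a dense affine open of a regular separated space is a Cartier divisor
-/

universe u

open CategoryTheory CategoryTheory.Limits AlgebraicGeometry AlgSp TopologicalSpace Topology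

set_option autoImplicit false
set_option linter.style.haveILetI false
set_option linter.unusedSectionVars false
set_option backward.isDefEq.respectTransparency false
set_option backward.isDefEq.respectTransparency.types false

noncomputable section

namespace Groth.L23.RegCompl

variable {S : Scheme.{u}}

/-- Every chart of a regular space is regular. -/
theorem regular_chart {X : Sp S}
    (h : EtaleLocally (fun U => IsLocallyNoetherian U ∧ ∀ u : ↥U, IsRegularLocalRing ↥(U.presheaf.stalk u)) X)
    {U : Over S} {a : (yon S).obj U ⟶ X} (ha : RepWith @Etale a) :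
    IsLocallyNoetherian U.left ∧ ∀ u : ↥U.left, IsRegularLocalRing ↥(U.left.presheaf.stalk u) := by
  obtain ⟨U', a', ha', has', hU', hreg⟩ := h
  obtain ⟨P, p, π, sP⟩ := exists_isPullback_of_representable ha.1 a'
  haveI : Etale π.left := repWith_prop ha sP
  haveI : Etale p.left := repWith_prop ha' sP.flip
  haveI : Surjective p.left := repWith_prop has' sP.flip
  haveI : IsLocallyNoetherian P.left := LocallyOfFiniteType.isLocallyNoetherian π.left
  refine ⟨Groth.Agent.S0116.result p.left, fun u => ?_⟩
  obtain ⟨v, rfl⟩ := Surjective.surj (f := p.left) u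
  exact isRegularLocalRing_stalk_of_flat p.left v (isRegularLocalRing_stalk_of_etale π.left hreg v)

/-- An associated maximal ideal in a reduced Noetherian local ring means dimension zero. -/
theorem ringKrullDim_zero_of_isAssociatedPrime {A : Type u} [CommRing A] [IsLocalRing A] [_root_.IsReduced A]
    (h : IsAssociatedPrime (IsLocalRing.maximalIdeal A) A) : ∀ q : Ideal A, q.IsPrime → q = IsLocalRing.maximalIdeal A := by
  intro q hq
  obtain ⟨-, y, hy⟩ := h
  by_contra hne
  have hle : q ≤ IsLocalRing.maximalIdeal A := IsLocalRing.le_maximalIdeal hq.ne_top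
  obtain ⟨a, ha, haq⟩ := SetLike.exists_of_lt (lt_of_le_of_ne hle hne)
  have hmem : ∀ b ∈ IsLocalRing.maximalIdeal A, b * y = 0 := fun b hb => by
    rw [hy] at hb
    obtain ⟨n, hn⟩ := hb
    have hn' : b ^ n • y = 0 := by simpa [Submodule.mem_colon_singleton] using hn
    refine IsReduced.eq_zero _ ⟨n + 1, ?_⟩
    rw [smul_eq_mul] at hn'
    rw [mul_pow, pow_succ y n]
    calc b ^ (n + 1) * (y ^ n * y) = b * y ^ n * (b ^ n * y) := by ring
      _ = 0 := by rw [hn', mul_zero]
  by_cases hyu : IsUnit y
  · refine haq (?_ : a ∈ q)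
    have : a = 0 := (hyu.mul_left_eq_zero).1 (hmem a ha)
    rw [this]; exact q.zero_mem
  · have hy0 : y = 0 := IsReduced.eq_zero _ ⟨2, by
      rw [sq]; exact hmem y ((IsLocalRing.mem_maximalIdeal y).2 hyu)⟩
    subst hy0
    refine (IsLocalRing.maximalIdeal.isMaximal A).ne_top ?_
    rw [hy, Ideal.eq_top_iff_one]
    exact ⟨1, by simp⟩

/-- On an affine Noetherian regular scheme the complement of a dense affine open is a Cartier divisor. -/
theorem isEffCartier_vanishingIdeal (W : Scheme.{u}) [IsAffine W] [IsLocallyNoetherian W]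
    (hreg : ∀ x : W, IsRegularLocalRing (W.presheaf.stalk x)) (V : W.Opens) (hV : IsAffineOpen V)
    (hd : Dense (V : Set W)) :
    BlowUp.IsEffCartierIdeal (Scheme.IdealSheafData.vanishingIdeal
      (⟨(V : Set W)ᶜ, V.2.isClosed_compl⟩ : Closeds W)) := by
  haveI : CompactSpace W := inferInstance
  haveI : IsNoetherian W := {}
  have hufd : ∀ x : W, IsDomain (W.presheaf.stalk x) ∧ UniqueFactorizationMonoid (W.presheaf.stalk x) := fun x => by
    haveI := hreg x
    exact Groth.Agent.S2821.result _
  obtain ⟨D, hD, hDs⟩ := Groth.Agent.S1687.result W (fun A B hA hB => hA.inf hB) V hV hd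
    fun x _ => hufd x
  let C : Closeds W := ⟨(V : Set W)ᶜ, V.2.isClosed_compl⟩
  let J := Scheme.IdealSheafData.vanishingIdeal C
  haveI : IsReduced J.subscheme := Groth.L18.isReduced_vanishingIdeal_subscheme C
  have hsupp : (J.support : Set W) = (V : Set W)ᶜ := Scheme.IdealSheafData.coe_support_vanishingIdeal C
  refine Groth.Agent.S1700.result W J ?_ ?_ fun x _ => hufd x
  · intro z hz z' hzz
    let φ := J.subscheme.fromSpecStalk z
    have hmem : z' ∈ Set.range φ := by
      rw [Scheme.range_fromSpecStalk]
      exact hzz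
    obtain ⟨q, hq⟩ := hmem
    have hqm := ringKrullDim_zero_of_isAssociatedPrime hz (show PrimeSpectrum _ from q).asIdeal
      (show PrimeSpectrum _ from q).2
    have : q = IsLocalRing.closedPoint (J.subscheme.presheaf.stalk z) := PrimeSpectrum.ext hqm
    rw [← hq, this]
    exact Scheme.fromSpecStalk_closedPoint
  · intro z hz
    refine Groth.Agent.S1568.result W D hD (J.subschemeι z) ?_ ?_
    · rw [hDs, ← hsupp, ← Scheme.IdealSheafData.range_subschemeι]
      exact ⟨z, rfl⟩
    · intro y hy hyz
      rw [hDs, ← hsupp, ← Scheme.IdealSheafData.range_subschemeι] at hy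
      obtain ⟨y', rfl⟩ := hy
      rw [hz y' (J.subschemeι.isClosedEmbedding.isInducing.specializes_iff.1 hyz)]

/-- A closed immersion from a reduced scheme has the vanishing ideal of its range as kernel. -/
theorem ker_eq_vanishingIdeal {A R : Scheme.{u}} (a : A ⟶ R) [IsClosedImmersion a] [IsReduced A] (C : Closeds R)
    (h : Set.range a = (C : Set R)) : a.ker = Scheme.IdealSheafData.vanishingIdeal C := by
  haveI : IsReduced (Scheme.IdealSheafData.vanishingIdeal C).subscheme :=
    Groth.L18.isReduced_vanishingIdeal_subscheme C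
  obtain ⟨e, he⟩ := exists_iso_of_range_eq a (Scheme.IdealSheafData.vanishingIdeal C).subschemeι (by
    rw [h, Scheme.IdealSheafData.range_subschemeι, Scheme.IdealSheafData.coe_support_vanishingIdeal])
  rw [← he, Scheme.Hom.ker_comp_of_isIso, Scheme.IdealSheafData.ker_subschemeι]

/-- The complement of a dense affine open of a regular Noetherian separated space is a Cartier divisor. -/
theorem exists_isEffCartierSub_compl [S.IsSeparated] (X : Space S)
    (hreg : EtaleLocally (fun U => IsLocallyNoetherian U ∧ ∀ u : ↥U, IsRegularLocalRing ↥(U.presheaf.stalk u)) X.obj)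
    (hqc : IsQuasiCompactSp X.obj) (hsep : IsSeparatedSp X.obj)
    (T : Over S) [IsAffine T.left] (j : (yon S).obj T ⟶ X.obj) (hj : RepWith @IsOpenImmersion j)
    (hdense : Dense (Set.range (Points.ofPt j))) :
    ∃ (D : Space S) (i : D ⟶ X), IsEffCartierSub i.hom ∧
      Set.range (Points.map i.hom) = (Set.range (Points.ofPt j))ᶜ := by
  have hopen : IsOpen (Set.range (Points.ofPt j)) :=
    (isOpenMap_ofPt (repWith_mono (fun φ (_ : IsOpenImmersion φ) => inferInstanceAs (Etale φ)) hj)).isOpen_range
  obtain ⟨Z, hZ, i, hi, hr, hred⟩ := exists_isRedInduced X.property hopen.isClosed_compl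
  obtain ⟨U, p, hUa, hp, hps⟩ := Qs.exists_affine_atlas X.property hqc
  haveI := hUa
  obtain ⟨hLN, hUreg⟩ := regular_chart hreg hp
  haveI := hLN
  haveI : IsClosedImmersion (hi.1.snd p).left := repWith_snd hi p
  have sq := hi.1.isPullback p
  haveI : IsReduced (hi.1.pullback p).left :=
    NormNagata.isReduced_chart hred (repWith_of_isPullback sq.flip hp)
  have sj := hj.1.isPullback p
  haveI : IsOpenImmersion (hj.1.snd p).left := repWith_snd hj p
  have hjaff : RepWith @IsAffineHom j := by
    let b₀ : T ⟶ Over.mk (𝟙 S) := Over.homMk T.hom (Category.comp_id _)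
    let ht : IsTerminal ((yon S).obj (Over.mk (𝟙 S))) := IsTerminal.isTerminalObj _ _ Over.mkIdTerminal
    refine repWith_of_comp_diagonal (q := ht.from X.obj)
      ?_ (repWith_mono (fun φ' (_ : IsClosedImmersion φ') => inferInstanceAs (IsAffineHom φ'))
        (Chow.sepMor_of_sepSp hsep _))
    rw [show j ≫ ht.from X.obj = (yon S).map b₀ from ht.hom_ext _ _]
    haveI : IsAffineHom (T.hom ≫ Limits.terminal.from S) :=
      isAffineHom_of_isAffine (f := T.hom ≫ Limits.terminal.from S)
    exact repWith_map (g := b₀) (IsAffineHom.of_comp T.hom (Limits.terminal.from S))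
  haveI : IsAffineHom (hj.1.snd p).left := repWith_snd hjaff p
  haveI : IsAffine (hj.1.pullback p).left := isAffine_of_isAffineHom (hj.1.snd p).left
  let V : U.left.Opens := (hj.1.snd p).left.opensRange
  have hV : IsAffineOpen V := isAffineOpen_opensRange _
  have hrj : Set.range (Points.map j) = Set.range (Points.ofPt j) := by
    rw [ofPt_eq_comp, Set.range_comp, (Points.schemeEquiv T).surjective.range_eq, Set.image_univ]
  have hVr : (V : Set U.left) = Points.ofPt p ⁻¹' Set.range (Points.ofPt j) := by
    rw [← hrj, ← Set.image_univ (f := Points.map j), preimage_image_map sj, Set.preimage_univ, Set.image_univ]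
    rfl
  have hVd : Dense (V : Set U.left) := by
    rw [hVr]
    exact hdense.preimage (isOpenMap_ofPt hp)
  refine ⟨⟨Z, hZ⟩, ObjectProperty.homMk i, EffCart.isEffCartierSub_of_ker hi hp hps ?_, hr⟩
  rw [ker_eq_vanishingIdeal (hi.1.snd p).left ⟨(V : Set U.left)ᶜ, V.2.isClosed_compl⟩ ?_]
  · exact isEffCartier_vanishingIdeal U.left hUreg V hV hVd
  · show Set.range (hi.1.snd p).left = (V : Set U.left)ᶜ
    rw [hVr, ← Set.preimage_compl, ← hr]
    rw [← Set.image_univ (f := Points.map i), preimage_image_map sq, Set.preimage_univ, Set.image_univ]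

end Groth.L23.RegCompl
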