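import Groth.Agent.L07.RegImmComp
import Groth.Agent.L03.RegImmFlat
import Groth.Agent.S2104
import Groth.Agent.S2105

/-!
# Composition of H₁-regular and quasi-regular immersions
-/

set_option autoImplicit false
set_option linter.style.haveILetI false

universe u

open CategoryTheory CategoryTheory.Limits AlgebraicGeometry

namespace Groth.L23.RegImmComp

/-- Regular sequences which are not `regular` are kept by flat maps. -/
theorem seq_map' (k : RegImm.Kind) (hk : k ≠ .regular) {R R' : Type u} [CommRing R] [CommRing R'] (φ : R →+* R')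
    (hφ : φ.Flat) (rs : List R) (h : k.Seq R rs) : k.Seq R' (rs.map φ) := by
  cases k with
  | regular => exact absurd rfl hk
  | koszul => exact Groth.L07.KoszulFlat.isKoszulRegularSeq_map φ hφ rs h
  | h1 =>
    show CAlgX.IsH1Regular _
    rw [Groth.L03.RegImmFlat.get_map_eq]
    exact Groth.L03.RegImmFlat.isH1Regular_cast _ (Groth.L03.RegImmFlat.isH1Regular_map φ hφ h)
  | quasi =>
    show CAlgX.IsQuasiRegular _
    rw [Groth.L03.RegImmFlat.get_map_eq]
    exact Groth.L03.RegImmFlat.isQuasiRegular_cast _ (Groth.L03.RegImmFlat.isQuasiRegular_map φ hφ h)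

/-- A sequence of kind `k'` modulo one of kind `k` appends to one of kind `k''`. -/
def Appendable (k k' k'' : RegImm.Kind) : Prop :=
  ∀ {A B : Type u} [CommRing A] [CommRing B] (σ : A →+* B), Function.Surjective σ → ∀ fs gs : List A,
    RingHom.ker σ = Ideal.ofList fs → k.Seq A fs → k'.Seq B (gs.map σ) → k''.Seq A (fs ++ gs)

theorem get_append {A : Type u} (fs gs : List A) :
    (fs ++ gs).get = Fin.append fs.get gs.get ∘ Fin.cast List.length_append := by
  funext i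
  obtain ⟨j, rfl⟩ : ∃ j : Fin (fs.length + gs.length), Fin.cast List.length_append.symm j = i :=
    ⟨Fin.cast List.length_append i, rfl⟩
  refine Fin.addCases (fun a => ?_) (fun b => ?_) j
  · simp
  · simp [List.getElem_append_right]

theorem h1_mk {A B : Type u} [CommRing A] [CommRing B] (σ : A →+* B) (hσ : Function.Surjective σ)
    (fs gs : List A) (hk : RingHom.ker σ = Ideal.ofList fs) (h : CAlgX.IsH1Regular (gs.map σ).get) :
    CAlgX.IsH1Regular (fun j => Ideal.Quotient.mk (Ideal.span (Set.range fs.get)) (gs.get j)) := by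
  have hspan : RingHom.ker σ = Ideal.span (Set.range fs.get) := by
    rw [hk, Set.range_list_get]
  let e : A ⧸ Ideal.span (Set.range fs.get) ≃+* B :=
    (Ideal.quotEquivOfEq hspan.symm).trans (RingHom.quotientKerEquivOfSurjective hσ)
  have := Groth.L03.RegImmFlat.isH1Regular_map e.symm.toRingHom (RingHom.Flat.of_bijective e.symm.bijective)
    (Groth.L03.RegImmFlat.isH1Regular_cast (List.length_map (f := σ)).symm h)
  convert this using 1
  funext j
  refine e.injective ((RingEquiv.apply_symm_apply e _).trans ?_).symm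
  simp [e]

theorem appendable_h1 : Appendable.{u} .h1 .h1 .h1 := fun σ hσ fs gs hk hf hg => by
  show CAlgX.IsH1Regular _
  rw [get_append]
  exact Groth.L03.RegImmFlat.isH1Regular_cast _ (Groth.Agent.S2105.result _ _ hf (h1_mk σ hσ fs gs hk hg))

theorem appendable_quasi : Appendable.{u} .quasi .h1 .quasi := fun σ hσ fs gs hk hf hg => by
  show CAlgX.IsQuasiRegular _
  rw [get_append]
  exact Groth.L03.RegImmFlat.isQuasiRegular_cast _ (Groth.Agent.S2104.result _ _ hf (h1_mk σ hσ fs gs hk hg))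

/-- `i` is cut out in the open `W` by a sequence of kind `k` and length `n`. -/
def CutK (k : RegImm.Kind) {X Y : Scheme.{u}} (i : Y ⟶ X) (W : X.Opens) (n : ℕ) : Prop :=
  IsClosedImmersion (i ∣_ W) ∧ ∃ rs : List Γ(X, W), rs.length = n ∧ k.Seq Γ(X, W) rs ∧
    RingHom.ker (i.app W).hom = Ideal.ofList rs

theorem cut_baseChange (k : RegImm.Kind) (hk : k ≠ .regular) {X Y X' Y' : Scheme.{u}} {i : Y ⟶ X} {g : X' ⟶ X} [Flat g]
    {i' : Y' ⟶ X'} {g' : Y' ⟶ Y} (hsq : IsPullback g' i' i g) {W : X.Opens} (hW : IsAffineOpen W)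
    {W' : X'.Opens} (hW' : IsAffineOpen W') (hle : W' ≤ g ⁻¹ᵁ W) {n : ℕ} (h : CutK k i W n) : CutK k i' W' n := by
  obtain ⟨hcl, rs, hn, hrs, hker⟩ := h
  haveI := hcl
  haveI : IsAffine (W : Scheme.{u}) := hW
  have hUY : i' ⁻¹ᵁ W' = g' ⁻¹ᵁ (i ⁻¹ᵁ W) ⊓ i' ⁻¹ᵁ W' := by
    rw [eq_comm, inf_eq_right]
    intro y hy
    show i (g' y) ∈ W
    rw [show i (g' y) = g (i' y) from congrArg (fun m : Y' ⟶ X => m y) hsq.w]
    exact hle hy
  have hUX : IsAffineOpen (i ⁻¹ᵁ W) := isAffine_of_isAffineHom (i ∣_ W)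
  have hcl' : IsClosedImmersion (i' ∣_ W') := by
    have hp := Scheme.Hom.isPullback_resLE hsq hle (le_rfl : i ⁻¹ᵁ W ≤ i ⁻¹ᵁ W) hUY
    rw [Scheme.Hom.resLE_eq_morphismRestrict, Scheme.Hom.resLE_eq_morphismRestrict] at hp
    exact MorphismProperty.of_isPullback hp hcl
  have hpush := (isIso_pushoutSection_iff hsq hle (le_rfl : i ⁻¹ᵁ W ≤ i ⁻¹ᵁ W) hUY).mp
    (isIso_pushoutSection_of_isAffineOpen hsq hle le_rfl hUY hW hW' hUX)
  refine ⟨hcl', rs.map (g.appLE W W' hle).hom, by rw [List.length_map, hn],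
    seq_map' k hk _ (Flat.flat_appLE g hW hW' hle) rs hrs, ?_⟩
  have hσ : Function.Surjective (i.appLE W (i ⁻¹ᵁ W) le_rfl).hom := by
    rw [← Scheme.Hom.app_eq_appLE]; exact Groth.L07.RegImmComp.app_surjective i W hW hcl
  have hk := Groth.L07.RegImmBC.ker_of_isPushout hpush hσ
  simp only [← Scheme.Hom.app_eq_appLE] at hk
  rw [hk, hker, Ideal.map_ofList]

theorem cut_restrict (k : RegImm.Kind) (hk : k ≠ .regular) {X Y : Scheme.{u}} {i : Y ⟶ X} {W W' : X.Opens} (hW : IsAffineOpen W)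
    (hW' : IsAffineOpen W') (hle : W' ≤ W) {n : ℕ} (h : CutK k i W n) : CutK k i W' n :=
  cut_baseChange k hk (g := 𝟙 X) (g' := 𝟙 Y) (IsPullback.of_horiz_isIso ⟨by simp⟩) hW hW' hle h

/-- Composites are cut out by the concatenated sequences. -/
theorem exists_cut_comp {k k' k'' : RegImm.Kind} (hk : k ≠ .regular) (hk' : k' ≠ .regular)
    (happ : Appendable.{u} k k' k'') {X Y Z : Scheme.{u}} (i : Y ⟶ X) (j : Z ⟶ Y) (z : Z) {n m : ℕ}
    {W : X.Opens} (hW : IsAffineOpen W) (hzW : i (j z) ∈ W) (hi : CutK k i W n)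
    {V : Y.Opens} (hV : IsAffineOpen V) (hzV : j z ∈ V) (hj : CutK k' j V m) :
    ∃ W' : X.affineOpens, (j ≫ i) z ∈ W'.1 ∧ CutK k'' (j ≫ i) W'.1 (m + n) := by
  haveI := hi.1
  haveI : IsAffine (W : Scheme.{u}) := hW
  have hU : IsAffineOpen (i ⁻¹ᵁ W) := isAffine_of_isAffineHom (i ∣_ W)
  obtain ⟨a, hle, hza⟩ := hU.exists_basicOpen_le (V := V) ⟨j z, hzV⟩ hzW
  obtain ⟨b, rfl⟩ := Groth.L07.RegImmComp.app_surjective i W hW hi.1 a
  let W' := X.basicOpen b
  have hpre : i ⁻¹ᵁ W' = Y.basicOpen (i.app W b) := i.preimage_basicOpen b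
  have hW' : IsAffineOpen W' := hW.basicOpen b
  obtain ⟨hcl, fs, hfn, hfs, hfk⟩ := cut_restrict k hk hW hW' (X.basicOpen_le b) hi
  obtain ⟨hcl', gs', hgm, hgs, hgk⟩ := cut_restrict k' hk' hV (hpre ▸ hU.basicOpen (i.app W b) : IsAffineOpen (i ⁻¹ᵁ W'))
    (hpre.trans_le hle) hj
  have hσ := Groth.L07.RegImmComp.app_surjective i W' hW' hcl
  let σ := (i.app W').hom
  let gs := gs'.map (Function.surjInv hσ)
  have hgs' : gs.map σ = gs' := by
    rw [List.map_map]
    exact (List.map_congr_left fun x _ => Function.surjInv_eq hσ x).trans (List.map_id gs')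
  refine ⟨⟨W', hW'⟩, ?_, ?_, fs ++ gs, ?_, ?_, ?_⟩
  · show j z ∈ i ⁻¹ᵁ W'
    rw [hpre]
    exact hza
  · rw [morphismRestrict_comp]
    haveI := hcl
    haveI := hcl'
    exact IsClosedImmersion.comp (j ∣_ i ⁻¹ᵁ W') (i ∣_ W')
  · rw [List.length_append, List.length_map, hgm, hfn, Nat.add_comm]
  · exact happ σ hσ fs gs hfk hfs (hgs'.symm ▸ hgs)
  · have hc : ((j ≫ i).app W').hom = (j.app (i ⁻¹ᵁ W')).hom.comp σ := by
      rw [Scheme.Hom.comp_app]; rfl
    show RingHom.ker ((j ≫ i).app W').hom = _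
    rw [hc]
    refine (RingHom.comap_ker _ σ).symm.trans ?_
    refine (congrArg (Ideal.comap σ) hgk).trans ?_
    rw [← hgs', ← Ideal.map_ofList, Ideal.comap_map_of_surjective σ hσ,
      ← RingHom.ker_eq_comap_bot, hfk, Ideal.ofList_append, sup_comm]

theorem isRegularImmersion_comp {k k' k'' : RegImm.Kind} (hk : k ≠ .regular) (hk' : k' ≠ .regular)
    (happ : Appendable.{u} k k' k'') {X Y Z : Scheme.{u}} (i : Y ⟶ X) (j : Z ⟶ Y)
    (hi : RegImm.IsRegularImmersion k i) (hj : RegImm.IsRegularImmersion k' j) :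
    RegImm.IsRegularImmersion k'' (j ≫ i) := by
  haveI := hi.1
  haveI := hj.1
  refine ⟨inferInstance, fun z => ?_⟩
  obtain ⟨⟨W, hW⟩, hzW, hcl, rs, hrs, h0⟩ := hi.2 (j z)
  obtain ⟨⟨V, hV⟩, hzV, hcl', rs', hrs', h0'⟩ := hj.2 z
  obtain ⟨W', hz', hc, rs'', -, h1, h2⟩ := exists_cut_comp hk hk' happ i j z hW hzW ⟨hcl, rs, rfl, hrs, h0⟩ hV hzV
    ⟨hcl', rs', rfl, hrs', h0'⟩
  exact ⟨W', hz', hc, rs'', h1, h2⟩

end Groth.L23.RegImmComp
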