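import Groth.Agent.L07.RegImmDescent
import Groth.Agent.L23.ImmersionDescent

/-!
# Regular immersions descend along open flat surjections
-/

universe u

set_option autoImplicit false
set_option linter.style.haveILetI false
set_option maxSynthPendingDepth 3
set_option backward.isDefEq.respectTransparency false
set_option backward.isDefEq.respectTransparency.types false

open CategoryTheory CategoryTheory.Limits AlgebraicGeometry Groth.L07.RegImmDescent

namespace Groth.L23.RegImmEt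

/-- A compact open surjecting onto an affine open. -/
theorem exists_compact_open_over {X X' : Scheme.{u}} (g : X' ⟶ X) [Surjective g] (hopen : IsOpenMap g)
    {U : X.Opens} (hU : IsAffineOpen U) :
    ∃ Q : X'.Opens, IsCompact (Q : Set X') ∧ g '' (Q : Set X') = (U : Set X) := by
  have hb : ∀ x : (U : Set X), ∃ B : X'.Opens, IsAffineOpen B ∧ x.1 ∈ g '' (B : Set X') ∧ g '' (B : Set X') ⊆ U := by
    intro x
    obtain ⟨y, hy⟩ := g.surjective x.1
    obtain ⟨_, ⟨(B : X'.Opens), hB, rfl⟩, hyB, hBU⟩ :=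
      X'.isBasis_affineOpens.exists_subset_of_mem_open (show y ∈ g ⁻¹ᵁ U by show g y ∈ U; rw [hy]; exact x.2) (g ⁻¹ᵁ U).2
    exact ⟨B, hB, ⟨y, hyB, hy⟩, Set.image_subset_iff.2 hBU⟩
  choose B hB hmem hsub using hb
  obtain ⟨t, ht⟩ := hU.isCompact.elim_finite_subcover (fun x => g '' (B x : Set X'))
    (fun x => hopen _ (B x).2) (fun x hx => Set.mem_iUnion.2 ⟨⟨x, hx⟩, hmem ⟨x, hx⟩⟩)
  refine ⟨⟨⋃ x ∈ t, (B x : Set X'), isOpen_biUnion fun x _ => (B x).2⟩,
    t.finite_toSet.isCompact_biUnion fun x _ => (hB x).isCompact, ?_⟩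
  show g '' (⋃ x ∈ t, (B x : Set X')) = _
  rw [Set.image_iUnion₂]
  exact Set.Subset.antisymm (Set.iUnion₂_subset fun x _ => hsub x) ht

/-- Regularity of an immersion descends along an open flat surjection. -/
theorem descendOpen {X X' Z : Scheme.{u}} (i : Z ⟶ X) [IsImmersion i] (g : X' ⟶ X) [Flat g] [Surjective g]
    (hopen : IsOpenMap g) (k : RegImm.Kind) (hk : k ≠ RegImm.Kind.regular)
    (h : RegImm.IsRegularImmersion k (pullback.snd i g)) : RegImm.IsRegularImmersion k i := by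
  refine ⟨‹_›, fun z => ?_⟩
  obtain ⟨W, hzW, hclW⟩ := Groth.L07.RegImmAt.exists_isClosedImmersion_restrict i z
  obtain ⟨_, ⟨U, hU, rfl⟩, hzU, hUW⟩ := X.isBasis_affineOpens.exists_subset_of_mem_open hzW W.2
  change X.Opens at U
  replace hU : IsAffineOpen U := hU
  have hcl := Groth.L07.RegImmAt.restrict_closed i (show U ≤ W from hUW) hclW
  refine regularAt_of_locSeq k i hU hcl ?_ z hzU
  obtain ⟨Q, hQc, hQU⟩ := exists_compact_open_over g hopen hU
  obtain ⟨T, hT, t, ht, htr⟩ := Groth.L07.KoszulChart.exists_affine_flat_cover Q hQc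
  haveI := ht
  let i' := pullback.snd (pullback.snd i g) t
  let g' := pullback.fst (pullback.snd i g) t ≫ pullback.fst i g
  have hsq : IsPullback g' i' i (t ≫ g) :=
    (IsPullback.of_hasPullback (pullback.snd i g) t).paste_horiz (IsPullback.of_hasPullback i g)
  have hi' : RegImm.IsRegularImmersion k i' :=
    Groth.L03.RegImmFlat.isRegularImmersion_baseChange k (pullback.snd i g) t i' _
      (IsPullback.of_hasPullback _ _) h
  have hmemU : ∀ w, (t ≫ g) w ∈ U := fun w => by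
    have : t w ∈ Set.range t := ⟨w, rfl⟩
    rw [htr] at this
    exact hQU.le ⟨_, this, rfl⟩
  have hle : (⊤ : T.Opens) ≤ (t ≫ g) ⁻¹ᵁ U := fun w _ => hmemU w
  haveI : IsAffine (U : Scheme.{u}) := hU
  haveI := hcl
  have hUZ : IsAffineOpen (i ⁻¹ᵁ U) := isAffine_of_isAffineHom (i ∣_ U)
  have hUY : i' ⁻¹ᵁ ⊤ = g' ⁻¹ᵁ (i ⁻¹ᵁ U) ⊓ i' ⁻¹ᵁ ⊤ := by
    rw [eq_comm, inf_eq_right]
    intro w hw
    show i (g' w) ∈ U
    rw [show i (g' w) = (t ≫ g) (i' w) from congrArg (fun m : _ ⟶ X => m w) hsq.w]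
    exact hmemU _
  have hcl' : IsClosedImmersion (i' ∣_ ⊤) := by
    have hp := Scheme.Hom.isPullback_resLE hsq hle (le_rfl : i ⁻¹ᵁ U ≤ i ⁻¹ᵁ U) hUY
    rw [Scheme.Hom.resLE_eq_morphismRestrict, Scheme.Hom.resLE_eq_morphismRestrict] at hp
    exact MorphismProperty.of_isPullback hp hcl
  have hpush := (isIso_pushoutSection_iff hsq hle (le_rfl : i ⁻¹ᵁ U ≤ i ⁻¹ᵁ U) hUY).mp
    (isIso_pushoutSection_of_isAffineOpen hsq hle le_rfl hUY hU (isAffineOpen_top T) hUZ)
  have hσ : Function.Surjective (i.appLE U (i ⁻¹ᵁ U) le_rfl).hom := by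
    rw [← Scheme.Hom.app_eq_appLE]
    exact Groth.L07.RegImmComp.app_surjective i U hU hcl
  have hk' := Groth.L07.RegImmBC.ker_of_isPushout hpush hσ
  simp only [← Scheme.Hom.app_eq_appLE] at hk'
  have hloc := locSeq_of_regular k i' (isAffineOpen_top T) hcl' hi'
  rw [hk'] at hloc
  refine locSeq_descend k hk _ ?_ _ hloc
  rw [RingHom.FaithfullyFlat.iff_flat_and_comap_surjective]
  refine ⟨Flat.flat_appLE (t ≫ g) hU (isAffineOpen_top T) hle, fun p => ?_⟩
  obtain ⟨x', hx'mem, hx'⟩ := hQU.ge (Groth.L22.LocalDim.fromSpec_mem hU p)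
  obtain ⟨w, hw⟩ : x' ∈ Set.range t := by rw [htr]; exact hx'mem
  refine ⟨(isAffineOpen_top T).primeIdealOf ⟨w, trivial⟩, hU.fromSpec.isOpenEmbedding.injective ?_⟩
  show hU.fromSpec (Spec.map _ _) = _
  rw [← hx', ← hw]
  have := congr(($(hU.SpecMap_appLE_fromSpec (t ≫ g) (isAffineOpen_top T) hle))
    ((isAffineOpen_top T).primeIdealOf ⟨w, trivial⟩))
  rw [Scheme.Hom.comp_apply, Scheme.Hom.comp_apply, (isAffineOpen_top T).fromSpec_primeIdealOf] at this
  exact this

end Groth.L23.RegImmEt
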