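import Groth.Agent.L23.RegImmComp
import Groth.Agent.L23.RegImmEt
import Groth.Agent.L23.Basic
import Groth.Prelude.Def_AlgSpMor6

/-!
# Composition of regular immersions of spaces
-/

universe u

open CategoryTheory CategoryTheory.Limits AlgebraicGeometry AlgSp

set_option autoImplicit false
set_option linter.style.haveILetI false
set_option backward.isDefEq.respectTransparency false
set_option backward.isDefEq.respectTransparency.types false

namespace Groth.L23.RegImmComp

variable {S : Scheme.{u}} {Z Y X : Sp S}

theorem isRegImmMor_comp (k k' k'' : RegImm.Kind)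
    (hcomp : ∀ {A B C : Scheme.{u}} (a : B ⟶ A) (b : C ⟶ B), RegImm.IsRegularImmersion k a →
      RegImm.IsRegularImmersion k' b → RegImm.IsRegularImmersion k'' (b ≫ a))
    {i : Z ⟶ Y} {j : Y ⟶ X} (hj : IsRegImmMor k j) (hi : IsRegImmMor k' i) : IsRegImmMor k'' (i ≫ j) := by
  have hij : Representable (i ≫ j) := MorphismProperty.comp_mem _ _ _ hi.1 hj.1
  refine ⟨hij, fun V W b fst snd hb sq => ?_⟩
  have sqj := hj.1.isPullback b
  have hb' : RepWith @Etale (hj.1.fst b) := repWith_of_isPullback sqj.flip hb
  have hregj := hj.2 b _ _ hb sqj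
  have sqi := hi.1.isPullback (hj.1.fst b)
  have hregi := hi.2 _ _ _ hb' sqi
  have big := sqi.paste_vert sqj
  rw [← Functor.map_comp] at big
  obtain ⟨e, he⟩ := (yon S).map_surjective (sq.isoIsPullback _ _ big).hom
  have hIso : IsIso e := by
    have : IsIso ((yon S).map e) := he ▸ inferInstance
    exact isIso_of_fully_faithful (yon S) e
  have hsnd : e ≫ hi.1.snd (hj.1.fst b) ≫ hj.1.snd b = snd := (yon S).map_injective (by
    rw [Functor.map_comp, he, IsPullback.isoIsPullback_hom_snd])
  have h := hcomp (hj.1.snd b).left (hi.1.snd (hj.1.fst b)).left hregj hregi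
  have : IsIso e.left := inferInstanceAs (IsIso ((Over.forget S).map e))
  have hs : snd.left = e.left ≫ (hi.1.snd (hj.1.fst b)).left ≫ (hj.1.snd b).left := by
    rw [← hsnd]; rfl
  exact Groth.L03.RegImmFlat.isRegularImmersion_baseChange k'' _ (𝟙 _) snd.left e.left
    (IsPullback.of_horiz_isIso ⟨by rw [Category.comp_id, hs]⟩) h

end Groth.L23.RegImmComp
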