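import Groth.Agent.L23.RedInd
import Mathlib.AlgebraicGeometry.IdealSheaf.Functorial

/-!
# Closed subspaces from invariant ideal sheaves and scheme theoretic images
-/

universe u

open CategoryTheory CategoryTheory.Limits AlgebraicGeometry Opposite AlgSp TopologicalSpace

set_option autoImplicit false
set_option linter.style.haveILetI false
set_option backward.isDefEq.respectTransparency.types false

namespace Groth.L23

variable {S : Scheme.{u}} {X : Sp S} {R U : Over S} {s t : R ⟶ U} {p : (yon S).obj U ⟶ X}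

/-- The closed subspace cut out by an invariant ideal sheaf on the atlas. -/
theorem exists_subspace_of_ideal (hX : IsAlgSpace X) (hp : IsPresentation s t p) (I : U.left.IdealSheafData)
    (h : I.comap s.left = I.comap t.left) :
    ∃ (Z : Sp S) (_ : IsAlgSpace Z) (i : Z ⟶ X) (q : (yon S).obj (Over.mk (I.subschemeι ≫ U.hom)) ⟶ Z),
      RepWith @IsClosedImmersion i ∧
      IsPullback q ((yon S).map (Over.homMk I.subschemeι rfl : Over.mk (I.subschemeι ≫ U.hom) ⟶ U)) i p := by
  let Z' : Over S := Over.mk (I.subschemeι ≫ U.hom)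
  let i' : Z' ⟶ U := Over.homMk I.subschemeι rfl
  haveI : IsClosedImmersion i'.left := inferInstanceAs (IsClosedImmersion I.subschemeι)
  let a := pullback.fst s.left I.subschemeι
  let b := pullback.fst t.left I.subschemeι
  have hab : b.ker = a.ker := h.symm
  haveI := IsClosedImmersion.isIso_lift b a hab
  let e := asIso (IsClosedImmersion.lift b a hab.le)
  have he : e.hom ≫ b = a := IsClosedImmersion.lift_fac _ _ _
  let R' : Over S := Over.mk (a ≫ R.hom)
  let k : R' ⟶ R := Over.homMk a rfl
  have hws : (pullback.snd s.left I.subschemeι) ≫ Z'.hom = R'.hom := by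
    show _ ≫ I.subschemeι ≫ U.hom = _ ≫ R.hom
    rw [← reassoc_of% pullback.condition, Over.w s]
  have hwt : (e.hom ≫ pullback.snd t.left I.subschemeι) ≫ Z'.hom = R'.hom := by
    show _ ≫ I.subschemeι ≫ U.hom = _ ≫ R.hom
    rw [Category.assoc, ← reassoc_of% pullback.condition, Over.w t, reassoc_of% he]
  let s' : R' ⟶ Z' := Over.homMk (pullback.snd s.left I.subschemeι) hws
  let t' : R' ⟶ Z' := Over.homMk (e.hom ≫ pullback.snd t.left I.subschemeι) hwt
  have hs : IsPullback k s' s i' := isPullback_over (IsPullback.of_hasPullback _ _)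
  have ht : IsPullback k t' t i' := isPullback_over
    ((IsPullback.of_hasPullback t.left I.subschemeι).of_iso e.symm (Iso.refl _) (Iso.refl _) (Iso.refl _)
      (by simp [k, a, b, ← he]) (by simp [t']) (by simp) (by simp [i']))
  obtain ⟨Z, hZ, i, q, -, sq, hcl, -⟩ := exists_subspace_of_invariant hX hp i' k s' t' hs ht
  exact ⟨Z, hZ, i, q, hcl inferInstance, sq⟩

/-- The pullback of the ideal of a closed subspace is the ideal of the pulled back closed subspace. -/
theorem comap_ker_snd {Z' : Sp S} {i' : Z' ⟶ X} (hi : RepWith @IsClosedImmersion i') {T : Over S}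
    (a : T ⟶ U) {g : (yon S).obj T ⟶ X} (hg : (yon S).map a ≫ p = g) :
    (hi.1.snd p).left.ker.comap a.left = (hi.1.snd g).left.ker := by
  subst hg
  let c := hi.1.snd p
  haveI : IsClosedImmersion c.left := repWith_snd hi p
  let P : Over S := Over.mk (pullback.fst a.left c.left ≫ T.hom)
  let k : P ⟶ T := Over.homMk (pullback.fst a.left c.left) rfl
  let m : P ⟶ _ := Over.homMk (pullback.snd a.left c.left) (by
    show pullback.snd a.left c.left ≫ _ = pullback.fst a.left c.left ≫ T.hom
    rw [← Over.w c, ← Over.w a, reassoc_of% pullback.condition])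
  have hP : IsPullback k m a c := isPullback_over (IsPullback.of_hasPullback _ _)
  have sq := (hP.map (yon S)).flip.paste_horiz (hi.1.isPullback p)
  let e := sq.isoIsPullback _ _ (hi.1.isPullback ((yon S).map a ≫ p))
  let e' := (Functor.FullyFaithful.ofFullyFaithful (yon S)).preimageIso e
  have he : e'.hom ≫ hi.1.snd ((yon S).map a ≫ p) = k := (yon S).map_injective (by
    rw [Functor.map_comp]
    simp [e', e])
  rw [← Scheme.IdealSheafData.ker_fst_of_isClosedImmersion]
  haveI : IsIso e'.hom.left := inferInstanceAs (IsIso ((Over.forget S).map e'.hom))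
  show k.left.ker = _
  rw [← he, Over.comp_left, Scheme.Hom.ker_comp_of_isIso]

/-- Existence of the scheme theoretic image, with its ideal on the atlas. -/
theorem exists_isSchImage_atlas {F : Sp S} (hF : IsAlgSpace F) (hX : IsAlgSpace X) (hp : IsPresentation s t p)
    (f : F ⟶ X) : ∃ (I : U.left.IdealSheafData) (Z : Sp S) (_ : IsAlgSpace Z) (i : Z ⟶ X)
      (q : (yon S).obj (Over.mk (I.subschemeι ≫ U.hom)) ⟶ Z),
      IsSchImage f i ∧
      IsPullback q ((yon S).map (Over.homMk I.subschemeι rfl : Over.mk (I.subschemeι ≫ U.hom) ⟶ U)) i p := by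
  let M : Set U.left.IdealSheafData := { I | ∃ (Z' : Sp S) (i' : Z' ⟶ X) (hi : RepWith @IsClosedImmersion i'),
    IsAlgSpace Z' ∧ (∃ f'' : F ⟶ Z', f'' ≫ i' = f) ∧ (hi.1.snd p).left.ker = I }
  have hM : (sSup M).comap s.left = (sSup M).comap t.left := by
    refine ((Scheme.IdealSheafData.map_gc s.left).l_sSup).trans
      (Eq.trans ?_ ((Scheme.IdealSheafData.map_gc t.left).l_sSup).symm)
    refine biSup_congr ?_
    rintro I ⟨Z', i', hi, -, -, rfl⟩
    exact (comap_ker_snd hi s hp.isPullback.w.symm).trans (comap_ker_snd hi t rfl).symm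
  obtain ⟨Z, hZ, i, q, hi, sq⟩ := exists_subspace_of_ideal hX hp (sSup M) hM
  haveI := mono_of_closedImmersion hi
  refine ⟨sSup M, Z, hZ, i, q, ⟨hi, ?_, ?_⟩, sq⟩
  · have sqP := IsPullback.of_hasPullback f p
    have hP : IsAlgSpace (pullback f p) :=
      isAlgSpace_of_isPullback hX.diag hF (IsAlgSpace.yon_obj U) sqP
    obtain ⟨W, c, hc, hcs⟩ := hP.atlas
    obtain ⟨w, hw⟩ := (yon S).map_surjective (c ≫ pullback.snd f p)
    have hle : sSup M ≤ w.left.ker := sSup_le (by
      rintro I ⟨Z', i', hi', -, ⟨f'', hf''⟩, rfl⟩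
      have hc' : (c ≫ pullback.fst f p ≫ f'') ≫ i' = (yon S).map w ≫ p := by
        rw [hw, Category.assoc, Category.assoc, hf'', pullback.condition, Category.assoc]
      have e : hi'.1.lift (c ≫ pullback.fst f p ≫ f'') w hc' ≫ hi'.1.snd p = w := hi'.1.lift_snd _ _ _
      conv_rhs => rw [← e, Over.comp_left]
      exact Scheme.Hom.le_ker_comp _ _)
    let l : W ⟶ Over.mk ((sSup M).subschemeι ≫ U.hom) := Over.homMk
      (IsClosedImmersion.lift (sSup M).subschemeι w.left (by rw [Scheme.IdealSheafData.ker_subschemeι]; exact hle))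
      (by
        show _ ≫ (sSup M).subschemeι ≫ U.hom = _
        rw [IsClosedImmersion.lift_fac_assoc, Over.w w])
    have hl : l ≫ (Over.homMk (sSup M).subschemeι rfl : Over.mk ((sSup M).subschemeι ≫ U.hom) ⟶ U) = w :=
      Over.OverMorphism.ext (IsClosedImmersion.lift_fac _ _ _)
    haveI := epi_of_repWith c hc hcs
    haveI := epi_of_repWith (pullback.fst f p) (repWith_of_isPullback sqP.flip hp.etale)
      (repWith_of_isPullback sqP.flip hp.surjective)
    refine exists_factor_of_epi_of_mono (c ≫ pullback.fst f p) i f ((yon S).map l ≫ q) ?_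
    rw [Category.assoc, sq.w, ← Functor.map_comp_assoc, hl, hw, Category.assoc, Category.assoc, pullback.condition]
  · intro Z' i' hZ' hi' hf
    have hmem : (hi'.1.snd p).left.ker ∈ M := ⟨Z', i', hi', hZ', hf, rfl⟩
    haveI : IsClosedImmersion (hi'.1.snd p).left := repWith_snd hi' p
    let l : Over.mk ((sSup M).subschemeι ≫ U.hom) ⟶ _ := Over.homMk
      (IsClosedImmersion.lift (hi'.1.snd p).left (sSup M).subschemeι
        (by rw [Scheme.IdealSheafData.ker_subschemeι]; exact le_sSup hmem))
      (by
        show _ = (sSup M).subschemeι ≫ U.hom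
        rw [← Over.w (hi'.1.snd p), IsClosedImmersion.lift_fac_assoc])
    have hl : l ≫ hi'.1.snd p = Over.homMk (sSup M).subschemeι rfl :=
      Over.OverMorphism.ext (IsClosedImmersion.lift_fac _ _ _)
    haveI := mono_of_closedImmersion hi'
    haveI := epi_of_repWith q (repWith_of_isPullback sq.flip hp.etale)
      (repWith_of_isPullback sq.flip hp.surjective)
    refine exists_factor_of_epi_of_mono q i' i ((yon S).map l ≫ hi'.1.fst p) ?_
    rw [Category.assoc, (hi'.1.isPullback p).w, ← Functor.map_comp_assoc, hl, sq.w]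

theorem exists_isSchImage {F : Sp S} (hF : IsAlgSpace F) (hX : IsAlgSpace X) (f : F ⟶ X) :
    ∃ (Z : Sp S) (_ : IsAlgSpace Z) (i : Z ⟶ X), IsSchImage f i := by
  obtain ⟨U, R, s, t, p, hp⟩ := exists_presentation hX
  obtain ⟨_, Z, hZ, i, _, h, -⟩ := exists_isSchImage_atlas hF hX hp f
  exact ⟨Z, hZ, i, h⟩

end Groth.L23
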