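import Groth.Agent.L23.SchImageApps
import Groth.Agent.L23.SchDense
import Groth.Agent.S2121

/-!
# Density, immersions and valuation rings for scheme theoretic images
-/

universe u

open CategoryTheory CategoryTheory.Limits AlgebraicGeometry Opposite AlgSp TopologicalSpace

set_option autoImplicit false
set_option linter.style.haveILetI false
set_option backward.isDefEq.respectTransparency.types false

namespace Groth.L23.Img

variable {S : Scheme.{u}} {X F G Z : Sp S}

theorem isSchImage_id_of_isSchDense {j : G ⟶ X} (h : IsSchDense j) : IsSchImage j (𝟙 X) := by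
  obtain ⟨hj, V, φ, W, fst, hφ, hs, sq, hd⟩ := h
  have hi : RepWith (@IsClosedImmersion : MorphismProperty Scheme.{u}) (𝟙 X) := repWith_of_isIso _
  refine isSchImage_of_ker_eq hi ⟨j, Category.comp_id j⟩ hφ hs fst _ sq.w ?_
  have := (hi.1.isPullback φ).isIso_snd_of_isIso
  haveI : IsIso (hi.1.snd φ) := isIso_of_reflects_iso _ (yon S)
  haveI : IsIso (hi.1.snd φ).left := inferInstanceAs (IsIso ((Over.forget S).map (hi.1.snd φ)))
  rw [Scheme.Hom.ker_eq_bot_of_isIso]
  exact (SchKer.ker_ι_eq_bot_of_isSchematicallyDense W hd).symm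

theorem isSchDense_of_isSchImage_id (hX : IsAlgSpace X) (hG : IsAlgSpace G) {j : G ⟶ X}
    (hj : RepWith @IsOpenImmersion j) (hq : IsQuasiCompactMor j) (h : IsSchImage j (𝟙 X)) : IsSchDense j := by
  obtain ⟨U, W, p, w, -, hgood⟩ := exists_isGood_of_isQuasiCompactMor hG hX j hq
  refine isSchDense_of_preOpen hj hgood.1 hgood.2.1 ?_
  obtain ⟨fst, sq⟩ := exists_isPullback_preOpen hj p
  generalize preOpen hj p = O at fst sq ⊢
  let ι' : Over.mk (O.ι ≫ U.hom) ⟶ U := Over.homMk O.ι rfl
  have hch : IsChart j p ι' :=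
    ⟨sq.isoPullback.hom, repWith_of_isIso _, repWith_of_isIso _, sq.isoPullback_hom_snd.symm⟩
  haveI : QuasiCompact O.ι :=
    repWith_prop (repWith_quasiCompact_of_isQuasiCompactMor hj.1 hq) sq
  refine SchKer.isSchematicallyDense_of_ker_eq_bot _ ?_
  have he := ker_eq_of_isChart_of_isGood hX hgood h (φ := p) (v := ι') hgood.1 hch
  have := (h.1.1.isPullback p).isIso_snd_of_isIso
  haveI : IsIso (h.1.1.snd p) := isIso_of_reflects_iso _ (yon S)
  haveI : IsIso (h.1.1.snd p).left := inferInstanceAs (IsIso ((Over.forget S).map (h.1.1.snd p)))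
  rw [Scheme.Hom.ker_eq_bot_of_isIso] at he
  exact he.symm

/-- A schematically dense open of a reduced scheme. -/
theorem isSchematicallyDense_of_isReduced {Y : Scheme.{u}} [IsReduced Y] (U : Y.Opens)
    (hU : Dense (U : Set Y)) : CInt.IsSchematicallyDense U := by
  intro V
  rw [injective_iff_map_eq_zero]
  intro s hs
  rw [← basicOpen_eq_bot_iff]
  have h : Y.basicOpen s ⊓ U = ⊥ := by
    have h2 := Scheme.basicOpen_res Y s (homOfLE (inf_le_left : V ⊓ U ≤ V)).op
    erw [hs, Scheme.basicOpen_zero] at h2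
    rw [eq_bot_iff]
    refine le_trans ?_ h2.ge
    exact le_inf (inf_le_inf_right _ (Y.basicOpen_le s)) inf_le_left
  by_contra hne
  obtain ⟨y, hy⟩ : (Y.basicOpen s : Set Y).Nonempty := by
    rw [Set.nonempty_iff_ne_empty]
    exact fun e => hne (SetLike.coe_injective e)
  obtain ⟨z, hz⟩ := hU.inter_open_nonempty _ (Y.basicOpen s).isOpen ⟨y, hy⟩
  exact (h.le ⟨hz.1, hz.2⟩ :)

/-- An immersion with dense range into a reduced scheme is an open immersion. -/
theorem isOpenImmersion_of_denseRange {A B : Scheme.{u}} (t : A ⟶ B) [IsImmersion t] [IsReduced B]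
    (h : DenseRange t) : IsOpenImmersion t := by
  haveI : Surjective t.liftCoborder := ⟨fun ⟨b, hb⟩ => by
    change b ∈ coborder (Set.range t) at hb
    have hb' : b ∈ Set.range t := by
      rw [coborder, h.closure_range, ← Set.compl_eq_univ_diff, compl_compl] at hb
      exact hb
    obtain ⟨a, rfl⟩ := hb'
    exact ⟨a, t.coborderRange.ι.isOpenEmbedding.injective (by rw [← Scheme.Hom.comp_apply, t.liftCoborder_ι]; rfl)⟩⟩
  haveI := isIso_of_isClosedImmersion_of_surjective t.liftCoborder
  rw [← t.liftCoborder_ι]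
  infer_instance

/-- The map of a scheme to its scheme theoretic image along a closed immersion with the same kernel. -/
theorem immersion_facts {A B C : Scheme.{u}} (l : A ⟶ C) (c : C ⟶ B) [IsClosedImmersion c] [IsImmersion (l ≫ c)]
    (hk : c.ker = (l ≫ c).ker) (hq : QuasiCompact (l ≫ c) ∨ IsReduced A) :
    DenseRange l ∧ ∃ _ : IsOpenImmersion l, CInt.IsSchematicallyDense l.opensRange := by
  haveI := IsClosedImmersion.isIso_lift (l ≫ c).imageι c (by rw [Scheme.Hom.imageι, Scheme.IdealSheafData.ker_subschemeι]; exact hk.symm)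
  let e := IsClosedImmersion.lift (l ≫ c).imageι c (by rw [Scheme.Hom.imageι, Scheme.IdealSheafData.ker_subschemeι]; exact hk.ge)
  have hle : l ≫ e = (l ≫ c).toImage := by
    rw [← cancel_mono (l ≫ c).imageι, Category.assoc, IsClosedImmersion.lift_fac, Scheme.Hom.toImage_imageι]
  have hl : l = (l ≫ c).toImage ≫ inv e := by rw [← hle, Category.assoc, IsIso.hom_inv_id, Category.comp_id]
  have hsurj : Function.Surjective (inv e) := (inv e).surjective
  rcases hq with hq | hq
  · haveI : IsOpenImmersion l := by rw [hl]; infer_instance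
    haveI := SchKer.isSchemeTheoreticallyDominant_toImage (l ≫ c)
    haveI : IsSchemeTheoreticallyDominant l := by rw [hl]; infer_instance
    haveI : QuasiCompact l := by rw [hl]; infer_instance
    refine ⟨(inferInstance : IsDominant l).denseRange, inferInstance, ?_⟩
    haveI : QuasiCompact l.opensRange.ι := by
      rw [← l.isoOpensRange_inv_comp]; infer_instance
    refine SchKer.isSchematicallyDense_of_ker_eq_bot _ ?_
    rw [← l.isoOpensRange_inv_comp, Scheme.Hom.ker_comp_of_isIso, l.ker_eq_bot]
  · haveI : IsReduced (l ≫ c).image := by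
      show IsReduced (l ≫ c).ker.subscheme
      rw [SchKer.ker_eq_vanishingIdeal]
      exact Groth.L18.isReduced_vanishingIdeal_subscheme _
    have hd : DenseRange (l ≫ c).toImage := by
      rw [denseRange_iff_closure_range, (l ≫ c).imageι.isEmbedding.closure_eq_preimage_closure_image,
        ← Set.univ_subset_iff, ← Set.image_subset_iff, Set.image_univ,
        Scheme.IdealSheafData.range_subschemeι, Groth.L18.support_ker_of_isReduced, ← Set.range_comp,
        ← TopCat.coe_comp, ← Scheme.Hom.comp_base, Scheme.Hom.toImage_imageι]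
    haveI : IsOpenImmersion (l ≫ c).toImage := isOpenImmersion_of_denseRange _ hd
    haveI : IsOpenImmersion l := by rw [hl]; infer_instance
    have hdl : DenseRange l := by
      rw [hl, Scheme.Hom.comp_base, TopCat.coe_comp]
      exact DenseRange.comp hsurj.denseRange hd (inv e).continuous
    haveI : IsReduced C := isReduced_of_isOpenImmersion e
    exact ⟨hdl, inferInstance, isSchematicallyDense_of_isReduced _ hdl⟩

theorem immersion_into_schImage (hX : IsAlgSpace X) (hF : IsAlgSpace F) (hZ : IsAlgSpace Z) {h : F ⟶ X}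
    (hh : RepWith @IsImmersion h) (hq : IsQuasiCompactMor h ∨ IsReducedSp F) {c : Z ⟶ X} (hc : IsSchImage h c)
    {h' : F ⟶ Z} (fac : h' ≫ c = h) :
    RepWith @IsOpenImmersion h' ∧ IsSchDense h' ∧ Dense (Set.range (Points.map h')) := by
  obtain ⟨U, W, p, w, hgood⟩ : ∃ (U W : Over S) (p : (yon S).obj U ⟶ X) (w : W ⟶ U), IsGood h p w := by
    rcases hq with hq | hq
    · obtain ⟨U, W, p, w, -, hg⟩ := exists_isGood_of_isQuasiCompactMor hF hX h hq
      exact ⟨U, W, p, w, hg⟩
    · exact exists_isGood_of_isReduced hF hX h hq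
  have sqh := hh.1.isPullback p
  have sqc := hc.1.1.isPullback p
  haveI : IsImmersion (hh.1.snd p).left := repWith_snd hh p
  haveI : IsClosedImmersion (hc.1.1.snd p).left := repWith_snd hc.1 p
  let l := hc.1.1.lift (hh.1.fst p ≫ h') (hh.1.snd p) (by rw [Category.assoc, fac, sqh.w])
  have hl₁ : (yon S).map l ≫ hc.1.1.fst p = hh.1.fst p ≫ h' := hc.1.1.lift_fst _ _ _
  have hl₂ : l ≫ hc.1.1.snd p = hh.1.snd p := hc.1.1.lift_snd _ _ _
  have hl₂' : l.left ≫ (hc.1.1.snd p).left = (hh.1.snd p).left := by rw [← Over.comp_left, hl₂]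
  have sql : IsPullback (hh.1.fst p) ((yon S).map l) h' (hc.1.1.fst p) :=
    IsPullback.of_bot (by rw [fac, ← Functor.map_comp, hl₂]; exact sqh) hl₁.symm sqc
  have hch : IsChart h p (hh.1.snd p) :=
    ⟨sqh.isoPullback.hom, repWith_of_isIso _, repWith_of_isIso _, sqh.isoPullback_hom_snd.symm⟩
  haveI : IsImmersion (l.left ≫ (hc.1.1.snd p).left) := by rw [hl₂']; infer_instance
  have hq' : QuasiCompact (l.left ≫ (hc.1.1.snd p).left) ∨ IsReduced (hh.1.pullback p).left := by
    rcases hq with hq | hq
    · left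
      rw [hl₂']
      exact repWith_prop (repWith_quasiCompact_of_isQuasiCompactMor hh.1 hq) sqh
    · exact Or.inr (hch.isReduced hq hgood.1)
  obtain ⟨hd, hlo, hsd⟩ := immersion_facts l.left (hc.1.1.snd p).left
    ((ker_eq_of_isChart_of_isGood hX hgood hc hgood.1 hch).trans (by rw [hl₂'])) hq'
  have he : RepWith @Etale (hc.1.1.fst p) := repWith_of_isPullback sqc.flip hgood.1
  have hs : RepWith @Surjective (hc.1.1.fst p) := repWith_of_isPullback sqc.flip hgood.2.1
  have ho : RepWith @IsOpenImmersion h' :=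
    ImmBC.repWith_of_etale_base_change _ (Or.inr (Or.inl rfl)) hF hZ he hs sql
      (repWith_map (P := @IsOpenImmersion) hlo)
  have hpre : Points.ofPt (hc.1.1.fst p) ⁻¹' Set.range (Points.map h') = Set.range l.left := by
    rw [← Set.image_univ (f := Points.map h'), preimage_image_map sql, Set.preimage_univ, Set.image_univ]
  refine ⟨ho, isSchDense_of_preOpen ho he hs ?_, ?_⟩
  · have : preOpen ho (hc.1.1.fst p) = l.left.opensRange := SetLike.coe_injective hpre
    rw [this]; exact hsd
  · have hsub : Points.ofPt (hc.1.1.fst p) '' Set.range l.left ⊆ Set.range (Points.map h') := by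
      rw [← hpre]; exact Set.image_preimage_subset _ _
    exact ((surjective_ofPt hs).denseRange.dense_image (Points.continuous_ofPt _) hd).mono hsub

theorem exists_valuationRing_to_schImage (hX : IsAlgSpace X) (hF : IsAlgSpace F) {f : F ⟶ X} {i : Z ⟶ X}
    (hq : IsQuasiCompactMor f) (h : IsSchImage f i) (z : Points Z) :
    ∃ (A : Type u) (_ : CommRing A) (_ : IsDomain A) (_ : ValuationRing A)
      (str : Spec (CommRingCat.of A) ⟶ S) (a : (yon S).obj (Over.mk str) ⟶ Z)
      (x : (yon S).obj (Over.mk (Spec.map (CommRingCat.ofHom (algebraMap A (FractionRing A))) ≫ str)) ⟶ F),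
      Points.ofPt a (IsLocalRing.closedPoint A) = z ∧
      x ≫ f = (yon S).map (Over.homMk (Spec.map (CommRingCat.ofHom (algebraMap A (FractionRing A)))) rfl) ≫
        a ≫ i := by
  obtain ⟨U, W, p, w, hwq, hG⟩ := exists_isGood_of_isQuasiCompactMor hF hX f hq
  obtain ⟨hp, hps, ⟨c, -, -, hwc⟩, -⟩ := id hG
  have sq := h.1.1.isPullback p
  haveI : IsClosedImmersion (h.1.1.snd p).left := repWith_snd h.1 p
  haveI := hwq
  obtain ⟨z', rfl⟩ := surjective_ofPt (repWith_of_isPullback sq.flip hps) z
  have hk := ker_eq_of_isGood hX hG h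
  have hmem : (h.1.1.snd p).left z' ∈ closure (Set.range w.left.base) := by
    have := Scheme.Hom.range_subset_ker_support (h.1.1.snd p).left ⟨z', rfl⟩
    rwa [hk, Scheme.Hom.support_ker] at this
  obtain ⟨A, _, _, _, x, y, hxy, hy⟩ := Groth.Agent.S2121.result w.left _ hmem
  let η := Spec.map (CommRingCat.ofHom (algebraMap A (FractionRing A)))
  haveI : IsDominant η := by
    refine ⟨?_⟩
    show DenseRange (PrimeSpectrum.comap (algebraMap A (FractionRing A)))
    rw [PrimeSpectrum.denseRange_comap_iff_ker_le_nilRadical,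
      (RingHom.injective_iff_ker_eq_bot _).1 (IsFractionRing.injective A _)]
    exact bot_le
  haveI : IsSchemeTheoreticallyDominant η := .of_isDominant η
  have hker : (h.1.1.snd p).left.ker ≤ y.ker := by
    rw [hk]
    calc w.left.ker ≤ (x ≫ w.left).ker := Scheme.Hom.le_ker_comp _ _
      _ = (η ≫ y).ker := by rw [hxy]
      _ = y.ker := by rw [Scheme.Hom.ker_comp, η.ker_eq_bot, Scheme.IdealSheafData.map_bot]
  let y' := IsClosedImmersion.lift (h.1.1.snd p).left y hker
  have hy' : y' ≫ (h.1.1.snd p).left = y := IsClosedImmersion.lift_fac _ _ _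
  let str := y ≫ U.hom
  let yo : Over.mk str ⟶ h.1.1.pullback p := Over.homMk y' (by
    show y' ≫ _ = y ≫ U.hom
    rw [← hy', Category.assoc, Over.w (h.1.1.snd p)])
  let xo : Over.mk (η ≫ str) ⟶ W := Over.homMk x (by
    show x ≫ W.hom = η ≫ y ≫ U.hom
    rw [← Over.w w, reassoc_of% hxy])
  refine ⟨A, inferInstance, inferInstance, inferInstance, str, (yon S).map yo ≫ h.1.1.fst p,
    (yon S).map xo ≫ c ≫ pullback.fst f p, ?_, ?_⟩
  · rw [ofPt_comp]
    congr 1
    apply (h.1.1.snd p).left.isClosedEmbedding.injective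
    show (h.1.1.snd p).left (y' (IsLocalRing.closedPoint A)) = _
    rw [← Scheme.Hom.comp_apply, hy']
    exact hy
  · have e : (Over.homMk η rfl : Over.mk (η ≫ str) ⟶ Over.mk str) ≫ yo ≫ h.1.1.snd p = xo ≫ w :=
      Over.OverMorphism.ext (by
        show η ≫ y' ≫ (h.1.1.snd p).left = x ≫ w.left
        rw [hy', hxy])
    have e' := congrArg (yon S).map e
    simp only [Functor.map_comp] at e'
    have e'' := congrArg (· ≫ p) e'
    simp only [Category.assoc] at e''
    simp only [Category.assoc, sq.w, pullback.condition, ← reassoc_of% hwc]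
    exact e''.symm

end Groth.L23.Img
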