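import Groth.Agent.L23.SchImage
import Groth.Agent.L23.SchKer
import Groth.Agent.L23.QsTop
import Groth.Agent.L23.Univ

/-!
# Local description of scheme theoretic images
-/

universe u

open CategoryTheory CategoryTheory.Limits AlgebraicGeometry Opposite AlgSp TopologicalSpace

set_option autoImplicit false
set_option linter.style.haveILetI false
set_option backward.isDefEq.respectTransparency.types false

namespace Groth.L23.Img

variable {S : Scheme.{u}} {X F Z : Sp S}

/-- `w` is the scheme morphism underlying an etale surjective chart of the base change of `f` along `g`. -/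
def IsChart (f : F ⟶ X) {T : Over S} (g : (yon S).obj T ⟶ X) {A : Over S} (w : A ⟶ T) : Prop :=
  ∃ a : (yon S).obj A ⟶ pullback f g, RepWith @Etale a ∧ RepWith @Surjective a ∧
    (yon S).map w = a ≫ pullback.snd f g

theorem exists_isChart (hF : IsAlgSpace F) (hX : IsAlgSpace X) (f : F ⟶ X) {T : Over S}
    (g : (yon S).obj T ⟶ X) : ∃ (A : Over S) (w : A ⟶ T), IsChart f g w := by
  have hP : IsAlgSpace (pullback f g) :=
    isAlgSpace_of_isPullback hX.diag hF (IsAlgSpace.yon_obj T) (IsPullback.of_hasPullback f g)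
  obtain ⟨A, a, ha, has⟩ := hP.atlas
  obtain ⟨w, hw⟩ := (yon S).map_surjective (a ≫ pullback.snd f g)
  exact ⟨A, w, a, ha, has, hw⟩

theorem ker_eq_of_isChart {f : F ⟶ X} {T : Over S} {g : (yon S).obj T ⟶ X} {A B : Over S} {w : A ⟶ T}
    {v : B ⟶ T} (hw : IsChart f g w) (hv : IsChart f g v) : w.left.ker = v.left.ker := by
  obtain ⟨a, ha, has, hwa⟩ := hw
  obtain ⟨b, hb, hbs, hvb⟩ := hv
  obtain ⟨C, γ, δ, sq⟩ := exists_isPullback_of_representable ha.1 b
  haveI : Etale γ.left := repWith_prop hb sq.flip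
  haveI : Surjective γ.left := repWith_prop hbs sq.flip
  haveI : Etale δ.left := repWith_prop ha sq
  haveI : Surjective δ.left := repWith_prop has sq
  have e : γ ≫ w = δ ≫ v := (yon S).map_injective (by
    rw [Functor.map_comp, Functor.map_comp, hwa, hvb, reassoc_of% sq.w])
  rw [← SchKer.ker_comp_of_flat_surjective γ.left w.left, ← Over.comp_left, e, Over.comp_left,
    SchKer.ker_comp_of_flat_surjective δ.left v.left]

theorem IsChart.isReduced {f : F ⟶ X} (hF : IsReducedSp F) {T : Over S} {g : (yon S).obj T ⟶ X}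
    (hg : RepWith @Etale g) {A : Over S} {w : A ⟶ T} (hw : IsChart f g w) : IsReduced A.left := by
  obtain ⟨a, ha, has, -⟩ := hw
  obtain ⟨V, b, hb, hbs, hV⟩ := hF
  haveI : IsReduced V.left := hV
  have he : RepWith @Etale (a ≫ pullback.fst f g) :=
    repWith_comp ha (repWith_of_isPullback (IsPullback.of_hasPullback f g).flip hg)
  obtain ⟨C, γ, δ, sq⟩ := exists_isPullback_of_representable he.1 b
  haveI : Etale γ.left := repWith_prop hb sq.flip
  haveI : Surjective γ.left := repWith_prop hbs sq.flip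
  haveI : Etale δ.left := repWith_prop he sq
  haveI : IsReduced C.left := isReduced_of_etale δ.left
  exact Groth.L20.isReduced_of_surjective_of_flat γ.left

/-- A criterion for being the scheme theoretic image: equality of kernels on one atlas. -/
theorem isSchImage_of_ker_eq {f : F ⟶ X} {i : Z ⟶ X} (hi : RepWith @IsClosedImmersion i)
    (hf : ∃ f' : F ⟶ Z, f' ≫ i = f) {U : Over S} {p : (yon S).obj U ⟶ X} (hp : RepWith @Etale p)
    (hps : RepWith @Surjective p) {W : Over S} (e : (yon S).obj W ⟶ F) (w : W ⟶ U)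
    (he : e ≫ f = (yon S).map w ≫ p) (h : (hi.1.snd p).left.ker = w.left.ker) : IsSchImage f i := by
  refine ⟨hi, hf, fun Z' i' _ hi' ⟨f'', hf''⟩ => ?_⟩
  haveI : IsClosedImmersion (hi'.1.snd p).left := repWith_snd hi' p
  have hc : (e ≫ f'') ≫ i' = (yon S).map w ≫ p := by rw [Category.assoc, hf'', he]
  have el : hi'.1.lift (e ≫ f'') w hc ≫ hi'.1.snd p = w := hi'.1.lift_snd _ _ _
  have hle : (hi'.1.snd p).left.ker ≤ (hi.1.snd p).left.ker := by
    rw [h]
    conv_rhs => rw [← el, Over.comp_left]
    exact Scheme.Hom.le_ker_comp _ _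
  let l : hi.1.pullback p ⟶ hi'.1.pullback p := Over.homMk
    (IsClosedImmersion.lift (hi'.1.snd p).left (hi.1.snd p).left hle) (by
      rw [← Over.w (hi'.1.snd p), IsClosedImmersion.lift_fac_assoc, Over.w (hi.1.snd p)])
  have hl : l ≫ hi'.1.snd p = hi.1.snd p := Over.OverMorphism.ext (IsClosedImmersion.lift_fac _ _ _)
  have sq := hi.1.isPullback p
  haveI := mono_of_closedImmersion hi'
  haveI := epi_of_repWith (hi.1.fst p) (repWith_of_isPullback sq.flip hp) (repWith_of_isPullback sq.flip hps)
  refine exists_factor_of_epi_of_mono (hi.1.fst p) i' i ((yon S).map l ≫ hi'.1.fst p) ?_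
  rw [Category.assoc, (hi'.1.isPullback p).w, ← Functor.map_comp_assoc, hl, sq.w]

/-- An atlas of the target with a chart of the base change whose kernel commutes with etale base change. -/
def IsGood (f : F ⟶ X) {U W : Over S} (p : (yon S).obj U ⟶ X) (w : W ⟶ U) : Prop :=
  RepWith @Etale p ∧ RepWith @Surjective p ∧ IsChart f p w ∧
    ∀ (T : Over S) (a : T ⟶ U), Etale a.left → w.left.ker.comap a.left = (pullback.fst a.left w.left).ker

theorem exists_isGood_of_isReduced (hF : IsAlgSpace F) (hX : IsAlgSpace X) (f : F ⟶ X) (h : IsReducedSp F) :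
    ∃ (U W : Over S) (p : (yon S).obj U ⟶ X) (w : W ⟶ U), IsGood f p w := by
  obtain ⟨U, p, hp, hps⟩ := hX.atlas
  obtain ⟨W, w, hw⟩ := exists_isChart hF hX f p
  haveI := hw.isReduced h hp
  exact ⟨U, W, p, w, hp, hps, hw, fun T a _ => SchKer.comap_ker_of_isReduced w.left a.left⟩

/-- The chart induced on an etale chart of the target. -/
theorem isChart_pullback {f : F ⟶ X} {U W : Over S} {p : (yon S).obj U ⟶ X} {w : W ⟶ U} (hw : IsChart f p w)
    {T : Over S} (a : T ⟶ U) {g : (yon S).obj T ⟶ X} (hg : (yon S).map a ≫ p = g) :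
    IsChart f g (Over.homMk (pullback.fst a.left w.left) rfl :
      Over.mk (pullback.fst a.left w.left ≫ T.hom) ⟶ T) := by
  subst hg
  obtain ⟨c, hc, hcs, hwc⟩ := hw
  let P : Over S := Over.mk (pullback.fst a.left w.left ≫ T.hom)
  let k : P ⟶ T := Over.homMk (pullback.fst a.left w.left) rfl
  let m : P ⟶ W := Over.homMk (pullback.snd a.left w.left) (by
    show pullback.snd a.left w.left ≫ W.hom = pullback.fst a.left w.left ≫ T.hom
    rw [← Over.w w, ← Over.w a, reassoc_of% pullback.condition])
  have hP : IsPullback k m a w := isPullback_over (IsPullback.of_hasPullback _ _)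
  have sqP := (hP.map (yon S)).flip
  let l : pullback f ((yon S).map a ≫ p) ⟶ pullback f p :=
    pullback.lift (pullback.fst _ _) (pullback.snd _ _ ≫ (yon S).map a) (by rw [pullback.condition, Category.assoc])
  have sql : IsPullback l (pullback.snd f ((yon S).map a ≫ p)) (pullback.snd f p) ((yon S).map a) :=
    IsPullback.of_right (by simpa [l, pullback.lift_fst] using IsPullback.of_hasPullback f ((yon S).map a ≫ p))
      (pullback.lift_snd _ _ _) (IsPullback.of_hasPullback f p)
  let d := sql.lift ((yon S).map m ≫ c) ((yon S).map k) (by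
    rw [Category.assoc, ← hwc, sqP.w])
  have sqd : IsPullback ((yon S).map m) d c l := by
    refine IsPullback.of_bot ?_ (sql.lift_fst _ _ _).symm sql
    rw [sql.lift_snd, ← hwc]
    exact sqP
  exact ⟨d, repWith_of_isPullback sqd hc, repWith_of_isPullback sqd hcs, (sql.lift_snd _ _ _).symm⟩

/-- Composition of a chart with an etale surjection. -/
theorem IsChart.comp {f : F ⟶ X} {R T : Over S} {g : (yon S).obj T ⟶ X} (b : R ⟶ T) (hb : Etale b.left)
    (hbs : Surjective b.left) {A : Over S} {w : A ⟶ R} (hw : IsChart f ((yon S).map b ≫ g) w) :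
    IsChart f g (w ≫ b) := by
  obtain ⟨a, ha, has, hwa⟩ := hw
  let l : pullback f ((yon S).map b ≫ g) ⟶ pullback f g :=
    pullback.lift (pullback.fst _ _) (pullback.snd _ _ ≫ (yon S).map b) (by rw [pullback.condition, Category.assoc])
  have sql : IsPullback l (pullback.snd f ((yon S).map b ≫ g)) (pullback.snd f g) ((yon S).map b) :=
    IsPullback.of_right (by simpa [l, pullback.lift_fst] using IsPullback.of_hasPullback f ((yon S).map b ≫ g))
      (pullback.lift_snd _ _ _) (IsPullback.of_hasPullback f g)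
  refine ⟨a ≫ l, repWith_comp ha (repWith_of_isPullback sql.flip (repWith_map hb)),
    repWith_comp has (repWith_of_isPullback sql.flip (repWith_map hbs)), ?_⟩
  rw [Functor.map_comp, hwa, Category.assoc, Category.assoc, sql.w]

set_option maxHeartbeats 800000 in
/-- On the atlas, the ideal of the scheme theoretic image is the kernel of a good chart. -/
theorem ker_eq_of_isGood (hX : IsAlgSpace X) {f : F ⟶ X} {i : Z ⟶ X} {U W : Over S}
    {p : (yon S).obj U ⟶ X} {w : W ⟶ U} (hG : IsGood f p w) (h : IsSchImage f i) :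
    (h.1.1.snd p).left.ker = w.left.ker := by
  obtain ⟨hp, hps, hw, hbc⟩ := hG
  obtain ⟨R, t, s, sq⟩ := exists_isPullback_of_representable hp.1 p
  have hpres : IsPresentation s t p := ⟨isEtaleEqvRel_of_atlas hp sq, hp, hps, sq⟩
  have hse : Etale s.left := hpres.eqvRel.etale_left
  have hte : Etale t.left := hpres.eqvRel.etale_right
  have hinv : w.left.ker.comap s.left = w.left.ker.comap t.left := by
    rw [hbc R s hse, hbc R t hte]
    have h1 := isChart_pullback hw s (g := (yon S).map t ≫ p) sq.w.symm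
    have h2 := isChart_pullback hw t (g := (yon S).map t ≫ p) rfl
    exact (ker_eq_of_isChart h1 h2 :)
  obtain ⟨Z₀, hZ₀, i₀, q, hi₀, sq₀⟩ := exists_subspace_of_ideal hX hpres w.left.ker hinv
  obtain ⟨hi, ⟨f', hf'⟩, hu⟩ := h
  haveI : IsClosedImmersion (hi.1.snd p).left := repWith_snd hi p
  obtain ⟨c, hc, hcs, hwc⟩ := hw
  have he : (c ≫ pullback.fst f p) ≫ f = (yon S).map w ≫ p := by
    rw [hwc, Category.assoc, Category.assoc, pullback.condition]
  refine le_antisymm ?_ ?_
  · have hc' : ((c ≫ pullback.fst f p) ≫ f') ≫ i = (yon S).map w ≫ p := by rw [Category.assoc, hf', he]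
    conv_rhs => rw [← hi.1.lift_snd _ w hc', Over.comp_left]
    exact Scheme.Hom.le_ker_comp _ _
  · let l : W ⟶ Over.mk (w.left.ker.subschemeι ≫ U.hom) := Over.homMk w.left.toImage (by
      show w.left.toImage ≫ w.left.ker.subschemeι ≫ U.hom = W.hom
      rw [← Over.w w]
      exact Scheme.Hom.toImage_imageι_assoc _ _)
    have hl : l ≫ (Over.homMk w.left.ker.subschemeι rfl : Over.mk (w.left.ker.subschemeι ≫ U.hom) ⟶ U) = w :=
      Over.OverMorphism.ext w.left.toImage_imageι
    haveI := mono_of_closedImmersion hi₀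
    haveI := epi_of_repWith c hc hcs
    haveI := epi_of_repWith (pullback.fst f p)
      (repWith_of_isPullback (IsPullback.of_hasPullback f p).flip hp)
      (repWith_of_isPullback (IsPullback.of_hasPullback f p).flip hps)
    obtain ⟨k, hk⟩ := hu i₀ hZ₀ hi₀
      (exists_factor_of_epi_of_mono (c ≫ pullback.fst f p) i₀ f ((yon S).map l ≫ q)
        (by rw [Category.assoc, sq₀.w, ← Functor.map_comp_assoc, hl, he]))
    obtain ⟨m, -, hm⟩ := sq₀.exists_lift (hi.1.fst p ≫ k) ((yon S).map (hi.1.snd p))
      (by rw [Category.assoc, hk, (hi.1.isPullback p).w])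
    obtain ⟨m, rfl⟩ := (yon S).map_surjective m
    rw [← Functor.map_comp] at hm
    have hm' : m.left ≫ w.left.ker.subschemeι = (hi.1.snd p).left :=
      congrArg (fun x => Over.Hom.left x) ((yon S).map_injective hm)
    rw [← hm']
    exact (Scheme.IdealSheafData.ker_subschemeι _).ge.trans (Scheme.Hom.le_ker_comp _ _)

/-- On every etale chart, the ideal of the scheme theoretic image is the kernel of any chart. -/
theorem ker_eq_of_isChart_of_isGood (hX : IsAlgSpace X) {f : F ⟶ X} {i : Z ⟶ X} {U W : Over S}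
    {p : (yon S).obj U ⟶ X} {w : W ⟶ U} (hG : IsGood f p w) (h : IsSchImage f i) {T A : Over S}
    {φ : (yon S).obj T ⟶ X} (hφ : RepWith @Etale φ) {v : A ⟶ T} (hv : IsChart f φ v) :
    (h.1.1.snd φ).left.ker = v.left.ker := by
  obtain ⟨R, a, b, sq⟩ := exists_isPullback_of_representable hG.1.1 φ
  have hae : Etale a.left := repWith_prop hφ sq.flip
  have hbe : Etale b.left := repWith_prop hG.1 sq
  have hbs : Surjective b.left := repWith_prop hG.2.1 sq
  have hch := (isChart_pullback hG.2.2.1 a sq.w).comp b hbe hbs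
  rw [ker_eq_of_isChart hv hch]
  have h1 : (h.1.1.snd φ).left.ker.comap b.left = (pullback.fst a.left w.left).ker := by
    rw [comap_ker_snd h.1 b rfl, ← comap_ker_snd h.1 a sq.w, ker_eq_of_isGood hX hG h, hG.2.2.2 R a hae]
  have h2 : ((h.1.1.snd φ).left.ker.comap b.left).map b.left = (h.1.1.snd φ).left.ker := by
    let J := (h.1.1.snd φ).left.ker
    show (pullback.fst b.left J.subschemeι).ker.map b.left = J
    rw [Scheme.IdealSheafData.map_ker, pullback.condition,
      SchKer.ker_comp_of_flat_surjective, Scheme.IdealSheafData.ker_subschemeι]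
  rw [← h2, h1, Scheme.IdealSheafData.map_ker]
  rfl

/-- Etale base change of scheme theoretic images with good charts. -/
theorem isSchImage_base_change {f : F ⟶ X} {i : Z ⟶ X} {V FV ZV : Sp S} (hX : IsAlgSpace X) (hV : IsAlgSpace V)
    (hF : IsAlgSpace F) {U W : Over S} {p : (yon S).obj U ⟶ X} {w : W ⟶ U} (hG : IsGood f p w)
    (h : IsSchImage f i) {b : V ⟶ X} (hb : IsEtaleMor b) {f₁ : FV ⟶ F} {fV : FV ⟶ V} {i₁ : ZV ⟶ Z} {iV : ZV ⟶ V}
    (sqF : IsPullback f₁ fV f b) (sqZ : IsPullback i₁ iV i b) : IsSchImage fV iV := by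
  obtain ⟨T, t, ht, hts⟩ := hV.atlas
  obtain ⟨A, v, hv⟩ := exists_isChart hF hX f (t ≫ b)
  have hker := ker_eq_of_isChart_of_isGood hX hG h (hb t ht) hv
  obtain ⟨f', hf'⟩ := h.2.1
  obtain ⟨a, -, -, hva⟩ := hv
  let e := sqF.lift (a ≫ pullback.fst f (t ≫ b)) ((yon S).map v ≫ t)
    (by rw [hva, Category.assoc, Category.assoc, Category.assoc, pullback.condition])
  have hi' : RepWith @IsClosedImmersion iV := repWith_of_isPullback sqZ h.1
  refine isSchImage_of_ker_eq hi'
    ⟨sqZ.lift (f₁ ≫ f') fV (by rw [Category.assoc, hf', sqF.w]), sqZ.lift_snd _ _ _⟩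
    ht hts e v (sqF.lift_snd _ _ _) ?_
  rw [← hker]
  have sq := (hi'.1.isPullback t).paste_horiz sqZ
  let ee := sq.isoIsPullback _ _ (h.1.1.isPullback (t ≫ b))
  let e' := (Functor.FullyFaithful.ofFullyFaithful (yon S)).preimageIso ee
  have he' : e'.hom ≫ h.1.1.snd (t ≫ b) = hi'.1.snd t := (yon S).map_injective (by
    rw [Functor.map_comp]; simp [e', ee])
  haveI : IsIso e'.hom.left := inferInstanceAs (IsIso ((Over.forget S).map e'.hom))
  rw [← he', Over.comp_left, Scheme.Hom.ker_comp_of_isIso]

end Groth.L23.Img
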