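import Groth.Agent.L23.SchImageApps2

/-!
# Flat base change of scheme theoretic images and dense opens
-/

universe u

open CategoryTheory CategoryTheory.Limits AlgebraicGeometry Opposite AlgSp TopologicalSpace

set_option autoImplicit false
set_option linter.style.haveILetI false
set_option backward.isDefEq.respectTransparency.types false

namespace Groth.L23.Img

variable {S : Scheme.{u}} {X Y F G Z : Sp S}

theorem isSchImage_flat_base_change (hY : IsAlgSpace Y) (hX : IsAlgSpace X) (hF : IsAlgSpace F) {f : X ⟶ Y}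
    (hf : LocP @Flat f) {g : F ⟶ Y} (hg : IsQuasiCompactMor g) {i : Z ⟶ Y} (h : IsSchImage g i)
    {FX ZX : Sp S} {g₁ : FX ⟶ F} {gX : FX ⟶ X} (sqF : IsPullback g₁ gX g f) {i₁ : ZX ⟶ Z} {iX : ZX ⟶ X}
    (sqZ : IsPullback i₁ iX i f) : IsSchImage gX iX := by
  obtain ⟨U, W, p, w, hwq, hG⟩ := exists_isGood_of_isQuasiCompactMor hF hY g hg
  obtain ⟨T, a, k, ha, hw, has⟩ := exists_chart_over hX hY f hG.1
  haveI : Flat k.left := hf a p k ha hG.1 hw
  haveI := hwq
  obtain ⟨c, -, -, hwc⟩ := hG.2.2.1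
  let P : Over S := Over.mk (pullback.fst k.left w.left ≫ T.hom)
  let v : P ⟶ T := Over.homMk (pullback.fst k.left w.left) rfl
  let m : P ⟶ W := Over.homMk (pullback.snd k.left w.left) (by
    show pullback.snd k.left w.left ≫ W.hom = pullback.fst k.left w.left ≫ T.hom
    rw [← Over.w w, ← Over.w k, reassoc_of% pullback.condition])
  have e : m ≫ w = v ≫ k := Over.OverMorphism.ext pullback.condition.symm
  have e' := congrArg (yon S).map e
  rw [Functor.map_comp, Functor.map_comp, hwc] at e'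
  let ee := sqF.lift ((yon S).map m ≫ c ≫ pullback.fst g p) ((yon S).map v ≫ a) (by
    have e'' := congrArg (· ≫ p) e'
    simp only [Category.assoc] at e'' ⊢
    rw [pullback.condition, e'', hw])
  obtain ⟨f', hf'⟩ := h.2.1
  have hi' : RepWith @IsClosedImmersion iX := repWith_of_isPullback sqZ h.1
  refine isSchImage_of_ker_eq hi'
    ⟨sqZ.lift (g₁ ≫ f') gX (by rw [Category.assoc, hf', sqF.w]), sqZ.lift_snd _ _ _⟩
    ha (has hG.2.1) ee v (sqF.lift_snd _ _ _) ?_
  have h1 : (h.1.1.snd (a ≫ f)).left.ker = v.left.ker := by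
    rw [← comap_ker_snd h.1 k hw.symm, ker_eq_of_isGood hY hG h]
    exact SchKer.comap_ker_of_quasiCompact w.left k.left
  rw [← h1]
  have sq := (hi'.1.isPullback a).paste_horiz sqZ
  let iso := sq.isoIsPullback _ _ (h.1.1.isPullback (a ≫ f))
  let e₀ := (Functor.FullyFaithful.ofFullyFaithful (yon S)).preimageIso iso
  have he₀ : e₀.hom ≫ h.1.1.snd (a ≫ f) = hi'.1.snd a := (yon S).map_injective (by
    rw [Functor.map_comp]; simp [e₀, iso])
  haveI : IsIso e₀.hom.left := inferInstanceAs (IsIso ((Over.forget S).map e₀.hom))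
  rw [← he₀, Over.comp_left, Scheme.Hom.ker_comp_of_isIso]

/-- Flat preimages of quasi-compact dense opens of schemes. -/
theorem isSchematicallyDense_preimage_of_flat {A B : Scheme.{u}} (k : A ⟶ B) [Flat k] (V : B.Opens)
    [QuasiCompact V.ι] (hV : CInt.IsSchematicallyDense V) : CInt.IsSchematicallyDense (k ⁻¹ᵁ V) := by
  have sq := isPullback_morphismRestrict k V
  haveI : QuasiCompact (k ⁻¹ᵁ V).ι := MorphismProperty.of_isPullback (P := @QuasiCompact) sq ‹_›
  refine SchKer.isSchematicallyDense_of_ker_eq_bot _ ?_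
  rw [← sq.flip.isoPullback_hom_fst, Scheme.Hom.ker_comp_of_isIso, ← SchKer.comap_ker_of_quasiCompact,
    SchKer.ker_ι_eq_bot_of_isSchematicallyDense V hV, Scheme.IdealSheafData.comap_bot]

theorem isSchDense_preimage_of_flat (hY : IsAlgSpace Y) (hX : IsAlgSpace X) {f : X ⟶ Y} (hf : LocP @Flat f)
    {j : G ⟶ Y} (hj : IsSchDense j) (hq : IsQuasiCompactMor j) {G' : Sp S} {fst : G' ⟶ G} {jX : G' ⟶ X}
    (sq : IsPullback fst jX j f) : IsSchDense jX := by
  obtain ⟨U, p, hp, hps⟩ := hY.atlas
  obtain ⟨T, a, k, ha, hw, has⟩ := exists_chart_over hX hY f hp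
  haveI : Flat k.left := hf a p k ha hp hw
  have hjX : RepWith @IsOpenImmersion jX := repWith_of_isPullback sq hj.1
  refine isSchDense_of_preOpen hjX ha (has hps) ?_
  obtain ⟨fst', sq'⟩ := exists_isPullback_preOpen hj.1 p
  haveI : QuasiCompact (preOpen hj.1 p).ι :=
    repWith_prop (repWith_quasiCompact_of_isQuasiCompactMor hj.1.1 hq) sq'
  have he : preOpen hjX a = k.left ⁻¹ᵁ preOpen hj.1 p := by
    ext t
    show Points.ofPt a t ∈ Set.range (Points.map jX) ↔ Points.ofPt p (k.left t) ∈ Set.range (Points.map j)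
    rw [range_fst_of_isPullback sq.flip, Set.mem_preimage, Points.map_ofPt, hw, ofPt_comp]
  rw [he]
  exact isSchematicallyDense_preimage_of_flat k.left _ (isSchematicallyDense_preOpen hj hp)

end Groth.L23.Img
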