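import Groth.Agent.L23.SchImageLimit
import Groth.Agent.L09.LfpLift.Systems
import Groth.Agent.L09.SpLimit.Derived
import Groth.Agent.L23.MorCalc
import Groth.Agent.L23.AffineMor

/-!
# Morphisms of systems of scheme theoretic images
-/

universe u

open CategoryTheory CategoryTheory.Limits AlgebraicGeometry Opposite AlgSp

set_option autoImplicit false
set_option linter.style.haveILetI false
set_option backward.isDefEq.respectTransparency false
set_option backward.isDefEq.respectTransparency.types false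

noncomputable section

namespace Groth.L23.SchImgHom

variable {S : Scheme.{u}}

theorem repWith_cancel_mono {P : MorphismProperty Scheme.{u}} [P.IsStableUnderBaseChange] {X Y Z : Sp S} {h : X ⟶ Y}
    {m : Y ⟶ Z} [Mono m] (H : RepWith P (h ≫ m)) : RepWith P h :=
  repWith_of_isPullback (show IsPullback (𝟙 X) h (h ≫ m) m from
    IsPullback.mk' (by simp) (fun T φ φ' h₁ _ => by simpa using h₁) fun T a b e => ⟨a, by simp, by
      rw [← cancel_mono m, Category.assoc]; exact e⟩) H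

variable [QuasiSeparatedSpace S]

section Descent

variable {J : Type u} [SmallCategory J] [IsCofiltered J] {E : J ⥤ Sp S}
  (hE : ∀ j, IsAlgSpace (E.obj j)) (hEa : ∀ (i j : J) (φ : i ⟶ j), IsAffineMor (E.map φ))
  (hEqc : ∀ j, IsQuasiCompactSp (E.obj j)) (hEqs : ∀ j, IsQuasiSeparatedSp (E.obj j))
  {cE : Cone E} (hcE : IsLimit cE) {V B : Space S} (v : V ⟶ B) (hv : LocP @LocallyOfFinitePresentation v.hom)

include hE hEa hEqc hEqs hcE hv in
/-- Morphisms to a space locally of finite presentation descend. -/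
theorem exists_stage (j₀ : J) (y : E.obj j₀ ⟶ B.obj) (g : cE.pt ⟶ V.obj) (hg : g ≫ v.hom = cE.π.app j₀ ≫ y) :
    ∃ (j : J) (ψ : j ⟶ j₀) (x : E.obj j ⟶ V.obj), cE.π.app j ≫ x = g ∧ x ≫ v.hom = E.map ψ ≫ y := by
  have H := (Types.isPullback_iff _ _ _ _).1
    ((Groth.L09.LfpLift.locP_lfp_iff_isPullback v).1 hv E hE hEa hEqc hEqs cE hcE)
  obtain ⟨ξ, hξ₁, hξ₂⟩ := H.2.2 (colimit.ι (E.op ⋙ yoneda.obj B.obj) (op j₀) y) g (by
    rw [show colimit.desc (E.op ⋙ yoneda.obj B.obj) ((yoneda.obj B.obj).mapCocone cE.op)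
      (colimit.ι (E.op ⋙ yoneda.obj B.obj) (op j₀) y) = cE.π.app j₀ ≫ y from
      ConcreteCategory.congr_hom (colimit.ι_desc ((yoneda.obj B.obj).mapCocone cE.op) (op j₀)) y]
    exact hg.symm)
  obtain ⟨⟨j⟩, x, rfl⟩ := Types.jointly_surjective' ξ
  rw [show colimMap (Functor.whiskerLeft E.op (yoneda.map v.hom)) (colimit.ι (E.op ⋙ yoneda.obj V.obj) (op j) x) =
    colimit.ι (E.op ⋙ yoneda.obj B.obj) (op j) (x ≫ v.hom) from
    ConcreteCategory.congr_hom (ι_colimMap (Functor.whiskerLeft E.op (yoneda.map v.hom)) (op j)) x] at hξ₁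
  rw [show colimit.desc (E.op ⋙ yoneda.obj V.obj) ((yoneda.obj V.obj).mapCocone cE.op)
      (colimit.ι (E.op ⋙ yoneda.obj V.obj) (op j) x) = cE.π.app j ≫ x from
      ConcreteCategory.congr_hom (colimit.ι_desc ((yoneda.obj V.obj).mapCocone cE.op) (op j)) x] at hξ₂
  obtain ⟨⟨k⟩, a, b, hk⟩ := (Types.FilteredColimit.colimit_eq_iff _).1 hξ₁
  change E.map a.unop ≫ x ≫ v.hom = E.map b.unop ≫ y at hk
  refine ⟨k, b.unop, E.map a.unop ≫ x, ?_, by rw [Category.assoc, hk]⟩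
  rw [← Category.assoc, cE.w a.unop]
  exact hξ₂

include hE hEa hEqc hEqs hcE hv in
/-- Morphisms to a space locally of finite presentation which agree in the limit agree at a stage. -/
theorem exists_stage_eq (j₀ : J) (x x' : E.obj j₀ ⟶ V.obj) (h₁ : x ≫ v.hom = x' ≫ v.hom)
    (h₂ : cE.π.app j₀ ≫ x = cE.π.app j₀ ≫ x') : ∃ (j : J) (ψ : j ⟶ j₀), E.map ψ ≫ x = E.map ψ ≫ x' := by
  have H := (Types.isPullback_iff _ _ _ _).1
    ((Groth.L09.LfpLift.locP_lfp_iff_isPullback v).1 hv E hE hEa hEqc hEqs cE hcE)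
  have h := H.2.1 (colimit.ι (E.op ⋙ yoneda.obj V.obj) (op j₀) x) (colimit.ι (E.op ⋙ yoneda.obj V.obj) (op j₀) x')
    ⟨?_, ?_⟩
  · obtain ⟨⟨k⟩, a, b, hk⟩ := (Types.FilteredColimit.colimit_eq_iff _).1 h
    change E.map a.unop ≫ x = E.map b.unop ≫ x' at hk
    refine ⟨IsCofiltered.eq a.unop b.unop, IsCofiltered.eqHom _ _ ≫ a.unop, ?_⟩
    conv_rhs => rw [IsCofiltered.eq_condition]
    rw [Functor.map_comp, Functor.map_comp, Category.assoc, hk, Category.assoc]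
  · rw [show colimMap (Functor.whiskerLeft E.op (yoneda.map v.hom)) (colimit.ι (E.op ⋙ yoneda.obj V.obj) (op j₀) x) =
        colimit.ι (E.op ⋙ yoneda.obj B.obj) (op j₀) (x ≫ v.hom) from
        ConcreteCategory.congr_hom (ι_colimMap (Functor.whiskerLeft E.op (yoneda.map v.hom)) (op j₀)) x,
      show colimMap (Functor.whiskerLeft E.op (yoneda.map v.hom)) (colimit.ι (E.op ⋙ yoneda.obj V.obj) (op j₀) x') =
        colimit.ι (E.op ⋙ yoneda.obj B.obj) (op j₀) (x' ≫ v.hom) from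
        ConcreteCategory.congr_hom (ι_colimMap (Functor.whiskerLeft E.op (yoneda.map v.hom)) (op j₀)) x', h₁]
  · rw [show colimit.desc (E.op ⋙ yoneda.obj V.obj) ((yoneda.obj V.obj).mapCocone cE.op)
        (colimit.ι (E.op ⋙ yoneda.obj V.obj) (op j₀) x) = cE.π.app j₀ ≫ x from
        ConcreteCategory.congr_hom (colimit.ι_desc ((yoneda.obj V.obj).mapCocone cE.op) (op j₀)) x,
      show colimit.desc (E.op ⋙ yoneda.obj V.obj) ((yoneda.obj V.obj).mapCocone cE.op)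
        (colimit.ι (E.op ⋙ yoneda.obj V.obj) (op j₀) x') = cE.π.app j₀ ≫ x' from
        ConcreteCategory.congr_hom (colimit.ι_desc ((yoneda.obj V.obj).mapCocone cE.op) (op j₀)) x', h₂]

end Descent

/-- A morphism from a scheme theoretic image factors through a closed subspace if the composite from the source does. -/
theorem exists_factor_schImage {X P Z P' Z' : Sp S} (hZ : IsAlgSpace Z) {ξ : X ⟶ Z} {ε : Z ⟶ P}
    (himg : IsSchImage (ξ ≫ ε) ε) {ε' : Z' ⟶ P'} (hε' : RepWith @IsClosedImmersion ε') (z : Z ⟶ P') (g : X ⟶ Z')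
    (hg : g ≫ ε' = ξ ≫ z) : ∃ m : Z ⟶ Z', m ≫ ε' = z ∧ ξ ≫ m = g := by
  have sq := IsPullback.of_hasPullback z ε'
  have hci : RepWith @IsClosedImmersion (pullback.fst z ε') := repWith_of_isPullback sq.flip hε'
  have hQ : IsAlgSpace (pullback z ε') := isAlgSpace_of_representable_to hZ hci.1
  obtain ⟨k, hk⟩ := himg.2.2 (pullback.fst z ε' ≫ ε) hQ (repWith_comp hci himg.1)
    ⟨pullback.lift ξ g hg.symm, by rw [← Category.assoc, pullback.lift_fst]⟩
  haveI : Mono ε := mono_of_repWith (fun _ _ φ (_ : IsClosedImmersion φ) => inferInstanceAs (Mono φ)) himg.1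
  haveI : Mono ε' := mono_of_repWith (fun _ _ φ (_ : IsClosedImmersion φ) => inferInstanceAs (Mono φ)) hε'
  have hk₁ : k ≫ pullback.fst z ε' = 𝟙 Z := by
    rw [← cancel_mono ε, Category.assoc, hk, Category.id_comp]
  refine ⟨k ≫ pullback.snd z ε', by rw [Category.assoc, ← pullback.condition, reassoc_of% hk₁], ?_⟩
  rw [← cancel_mono ε', hg, Category.assoc, Category.assoc, ← pullback.condition, reassoc_of% hk₁]

section Main

variable {I : Type u} [SmallCategory I] [IsCofiltered I]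
    (D : I ⥤ Sp S) (hD : ∀ i, IsAlgSpace (D.obj i))
    (hDa : ∀ (i j : I) (φ : i ⟶ j), IsAffineMor (D.map φ))
    (hqc : ∀ i, IsQuasiCompactSp (D.obj i)) (hqs : ∀ i, IsQuasiSeparatedSp (D.obj i))
    (c : Cone D) (hc : IsLimit c)
    {X Y : Space S} (aX : X.obj ⟶ c.pt) (aY : Y.obj ⟶ c.pt) (f : X.obj ⟶ Y.obj) (hf : f ≫ aY = aX)
    (i₁ : I) {W : Space S} (w : W.obj ⟶ D.obj i₁) (hw : IsFinitePresentationMor w) (bX : X.obj ⟶ W.obj)
    (hbX : bX ≫ w = aX ≫ c.π.app i₁)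
    (hciX : ∀ (P : Sp S) (fst : P ⟶ c.pt) (snd : P ⟶ W.obj), IsPullback fst snd (c.π.app i₁) w →
      ∀ k : X.obj ⟶ P, k ≫ fst = aX → k ≫ snd = bX → RepWith @IsClosedImmersion k)
    (PX : Over i₁ ⥤ Sp S) (PXπ₁ : PX ⟶ Over.forget i₁ ⋙ D) (PXπ₂ : PX ⟶ (Functor.const (Over i₁)).obj W.obj)
    (hPX : ∀ i' : Over i₁, IsPullback (PXπ₁.app i') (PXπ₂.app i') (D.map i'.hom) w)
    (DX : Over i₁ ⥤ Sp S) (hDX : ∀ i', IsAlgSpace (DX.obj i')) (εX : DX ⟶ PX)
    (ξX : (Functor.const (Over i₁)).obj X.obj ⟶ DX)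
    (hξX : ∀ i' : Over i₁, ξX.app i' ≫ εX.app i' ≫ PXπ₁.app i' = aX ≫ c.π.app i'.left ∧
      ξX.app i' ≫ εX.app i' ≫ PXπ₂.app i' = bX)
    (himgX : ∀ i' : Over i₁, IsSchImage (ξX.app i' ≫ εX.app i') (εX.app i'))
    (i₂ : I) {V : Space S} (v : V.obj ⟶ D.obj i₂) (hv : IsFinitePresentationMor v) (bY : Y.obj ⟶ V.obj)
    (hbY : bY ≫ v = aY ≫ c.π.app i₂)
    (PY : Over i₂ ⥤ Sp S) (PYπ₁ : PY ⟶ Over.forget i₂ ⋙ D) (PYπ₂ : PY ⟶ (Functor.const (Over i₂)).obj V.obj)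
    (hPY : ∀ i' : Over i₂, IsPullback (PYπ₁.app i') (PYπ₂.app i') (D.map i'.hom) v)
    (DY : Over i₂ ⥤ Sp S) (εY : DY ⟶ PY)
    (ξY : (Functor.const (Over i₂)).obj Y.obj ⟶ DY)
    (hξY : ∀ i' : Over i₂, ξY.app i' ≫ εY.app i' ≫ PYπ₁.app i' = aY ≫ c.π.app i'.left ∧
      ξY.app i' ≫ εY.app i' ≫ PYπ₂.app i' = bY)
    (himgY : ∀ i' : Over i₂, IsSchImage (ξY.app i' ≫ εY.app i') (εY.app i'))

include hD hqc hqs hDa hw hPX hDX himgX in
/-- The system of images is a system of quasi-compact quasi-separated spaces with affine transition maps. -/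
theorem system_props : (∀ (a b : Over i₁) (φ : a ⟶ b), IsAffineMor (DX.map φ)) ∧
    (∀ a, IsQuasiCompactSp (DX.obj a)) ∧ (∀ a, IsQuasiSeparatedSp (DX.obj a)) := by
  have hWqs : IsQuasiSeparatedSp W.obj := Groth.L09.SpLimit.qsSp_of_qsMor (hqs i₁) hw.2.2
  have hPsp : ∀ a : Over i₁, IsAlgSpace (PX.obj a) := fun a =>
    isAlgSpace_of_isPullback (hD i₁).diag (hD a.left) W.property (hPX a)
  have hPqs : ∀ a : Over i₁, IsQuasiSeparatedSp (PX.obj a) := fun a =>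
    isQuasiSeparatedSp_of_isPullback (hPX a) (hqs a.left) (hqs i₁) hWqs
  have hPqc : ∀ a : Over i₁, IsQuasiCompactSp (PX.obj a) := fun a =>
    hw.2.1 (hD _) (hqc _) (D.map a.hom) _ _ (hPX a).flip
  have haff : ∀ a, RepWith @IsAffineHom (εX.app a) := fun a =>
    repWith_mono (fun φ (_ : IsClosedImmersion φ) => inferInstanceAs (IsAffineHom φ)) (himgX a).1
  refine ⟨fun a b φ => isAffineMor_iff.2 ?_,
    fun a => Groth.L09.SpLimit.qcSp_of_affine (hPsp a) (hPqc a) (haff a),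
    fun a => Groth.L09.SpLimit.qsSp_of_affine (hPqs a) (haff a)⟩
  haveI : Mono (εX.app b) := mono_of_repWith (fun _ _ φ (_ : IsClosedImmersion φ) => inferInstanceAs (Mono φ))
    (himgX b).1
  refine repWith_cancel_mono (m := εX.app b) ?_
  rw [εX.naturality]
  refine repWith_comp (haff a) (repWith_of_isPullback (a := PXπ₁.app a) (b := PXπ₁.app b)
    (show IsPullback (PXπ₁.app a) (PX.map φ) (D.map φ.left) (PXπ₁.app b) from ?_)
    (isAffineMor_iff.1 (hDa _ _ φ.left)))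
  refine IsPullback.flip (IsPullback.of_right (h₁₂ := PXπ₂.app b) (v₁₃ := w) (h₂₂ := D.map b.hom) (h₂₁ := D.map φ.left)
    (v₁₁ := PXπ₁.app a) ?_ (PXπ₁.naturality φ) (hPX b).flip)
  rw [PXπ₂.naturality]
  simp only [Functor.const_obj_map, Category.comp_id]
  have := (hPX a).flip
  rwa [show D.map a.hom = D.map φ.left ≫ D.map b.hom by rw [← D.map_comp, Over.w]] at this

include hD hqc hqs hDa hc hf hw hbX hciX hPX hDX hξX himgX hv hbY hPY hξY himgY in
set_option maxHeartbeats 1600000 in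
theorem exists_morphism :
    ∃ (i₀ : I) (φ₁ : i₀ ⟶ i₁) (φ₂ : i₀ ⟶ i₂) (fam : Over.map φ₁ ⋙ DX ⟶ Over.map φ₂ ⋙ DY),
      (∀ i' : Over i₀, ξX.app ((Over.map φ₁).obj i') ≫ fam.app i' = f ≫ ξY.app ((Over.map φ₂).obj i')) ∧
        (∀ i' : Over i₀, fam.app i' ≫ εY.app ((Over.map φ₂).obj i') ≫ PYπ₁.app ((Over.map φ₂).obj i') =
          εX.app ((Over.map φ₁).obj i') ≫ PXπ₁.app ((Over.map φ₁).obj i')) ∧
      ∀ gam : Over.map φ₁ ⋙ DX ⟶ Over.map φ₂ ⋙ DY,
        (∀ i' : Over i₀, ξX.app ((Over.map φ₁).obj i') ≫ gam.app i' = f ≫ ξY.app ((Over.map φ₂).obj i')) ∧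
        (∀ i' : Over i₀, gam.app i' ≫ εY.app ((Over.map φ₂).obj i') ≫ PYπ₁.app ((Over.map φ₂).obj i') =
          εX.app ((Over.map φ₁).obj i') ≫ PXπ₁.app ((Over.map φ₁).obj i')) →
        ∃ (j₀ : I) (ψ : j₀ ⟶ i₀), ∀ j : Over j₀, fam.app ((Over.map ψ).obj j) = gam.app ((Over.map ψ).obj j) := by
  obtain ⟨hXa, hXqc, hXqs⟩ := system_props D hD hDa hqc hqs i₁ w hw PX PXπ₁ PXπ₂ hPX DX hDX εX ξX himgX
  obtain ⟨hX⟩ := SchImgLim.nonempty_isLimit D hD hDa c hc X.property aX i₁ W.property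
    (hw.2.1 (hD i₁) (hqc i₁) (𝟙 _) (𝟙 _) w IsPullback.of_id_fst) w bX hbX hciX PX PXπ₁ PXπ₂ hPX DX εX ξX hξX himgX
  let v' : V ⟶ (⟨D.obj i₂, hD i₂⟩ : Space S) := ⟨v⟩
  obtain ⟨k, κ₁, κ₂, -⟩ := IsCofilteredOrEmpty.cone_objs i₁ i₂
  obtain ⟨l, η, x, hx₁, hx₂⟩ := exists_stage hDX hXa hXqc hXqs hX v' hv.1 (Over.mk κ₁)
    (εX.app (Over.mk κ₁) ≫ PXπ₁.app (Over.mk κ₁) ≫ D.map κ₂) (f ≫ bY) (by
      show (f ≫ bY) ≫ v = ξX.app (Over.mk κ₁) ≫ εX.app (Over.mk κ₁) ≫ PXπ₁.app (Over.mk κ₁) ≫ D.map κ₂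
      rw [Category.assoc, hbY, ← Category.assoc f, hf, reassoc_of% (hξX (Over.mk κ₁)).1]
      exact congrArg (aX ≫ ·) (c.w κ₂).symm)
  let φ₂ : l.left ⟶ i₂ := η.left ≫ κ₂
  change x ≫ v = _ at hx₂
  -- the maps to the stages of the target
  let toL : ∀ i' : Over l.left, (Over.map l.hom).obj i' ⟶ l := fun i' => Over.homMk i'.hom
  have hz : ∀ i' : Over l.left, ∃ z : DX.obj ((Over.map l.hom).obj i') ⟶ PY.obj ((Over.map φ₂).obj i'),
      z ≫ PYπ₁.app ((Over.map φ₂).obj i') =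
        εX.app ((Over.map l.hom).obj i') ≫ PXπ₁.app ((Over.map l.hom).obj i') ∧
      z ≫ PYπ₂.app ((Over.map φ₂).obj i') = DX.map (toL i') ≫ x := fun i' => by
    refine (hPY ((Over.map φ₂).obj i')).exists_lift _ _ ?_
    rw [Category.assoc, Category.assoc, hx₂, ← DX.map_comp_assoc, εX.naturality_assoc, PXπ₁.naturality_assoc]
    show _ ≫ _ ≫ D.map (i'.hom ≫ η.left ≫ κ₂) = _ ≫ _ ≫ D.map ((toL i' ≫ η).left) ≫ D.map κ₂
    rw [← D.map_comp]
    simp [toL]
  choose z hz₁ hz₂ using hz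
  have hm : ∀ i' : Over l.left, ∃ m : DX.obj ((Over.map l.hom).obj i') ⟶ DY.obj ((Over.map φ₂).obj i'),
      m ≫ εY.app ((Over.map φ₂).obj i') = z i' ∧
        ξX.app ((Over.map l.hom).obj i') ≫ m = f ≫ ξY.app ((Over.map φ₂).obj i') := fun i' => by
    refine exists_factor_schImage (hDX _) (himgX _) (himgY _).1 (z i') _ ?_
    apply (hPY _).hom_ext
    · simp only [Category.assoc, hz₁, (hξX _).1, (hξY _).1]
      rw [← Category.assoc f, hf]
      rfl
    · simp only [Category.assoc, hz₂, (hξY _).2]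
      rw [← Category.assoc, ← ξX.naturality (toL i')]
      simp only [Functor.const_obj_map, Category.id_comp]
      exact hx₁.symm
  choose m hm₁ hm₂ using hm
  haveI : ∀ b : Over i₂, Mono (εY.app b) := fun b =>
    mono_of_repWith (fun _ _ φ (_ : IsClosedImmersion φ) => inferInstanceAs (Mono φ)) (himgY b).1
  have hnat : ∀ (a b : Over l.left) (t : a ⟶ b),
      DX.map ((Over.map l.hom).map t) ≫ m b = m a ≫ DY.map ((Over.map φ₂).map t) := fun a b t => by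
    rw [← cancel_mono (εY.app ((Over.map φ₂).obj b)), Category.assoc, hm₁, Category.assoc, εY.naturality,
      ← Category.assoc (m a), hm₁]
    apply (hPY _).hom_ext
    · rw [Category.assoc, hz₁, Category.assoc, PYπ₁.naturality, reassoc_of% (hz₁ a), εX.naturality_assoc,
        PXπ₁.naturality]
      rfl
    · rw [Category.assoc, hz₂, Category.assoc, PYπ₂.naturality, ← DX.map_comp_assoc]
      refine Eq.trans ?_ (((congrArg (z a ≫ ·) (Category.comp_id _)).trans (hz₂ a)).symm)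
      congr 2
      exact Over.OverMorphism.ext (Over.w t)
  refine ⟨l.left, l.hom, φ₂, { app := m, naturality := fun a b t => hnat a b t }, hm₂,
    fun i' => by rw [← Category.assoc, hm₁, hz₁], fun gam ⟨hg₁, hg₂⟩ => ?_⟩
  -- uniqueness
  let top : Over l.left := Over.mk (𝟙 l.left)
  let A := (Over.map l.hom).obj top
  let Q := (Over.map φ₂).obj top
  obtain ⟨j, ψ, hψ⟩ := exists_stage_eq hDX hXa hXqc hXqs hX v' hv.1 A
    (m top ≫ εY.app Q ≫ PYπ₂.app Q) (gam.app top ≫ εY.app Q ≫ PYπ₂.app Q) (by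
      show (_ ≫ _ ≫ _) ≫ v = (_ ≫ _ ≫ _) ≫ v
      simp only [Category.assoc, ← (hPY Q).w]
      rw [← Category.assoc (m top), hm₁, reassoc_of% hz₁, reassoc_of% (hg₂ top)])
    (by
      show ξX.app A ≫ m top ≫ _ = ξX.app A ≫ gam.app top ≫ _
      rw [reassoc_of% (hm₂ top), reassoc_of% (hg₁ top)])
  refine ⟨j.left, ψ.left, fun j' => ?_⟩
  let P := (Over.map ψ.left).obj j'
  let t : P ⟶ top := Over.homMk (j'.hom ≫ ψ.left) (by simp [P, top])
  let u : (Over.map l.hom).obj P ⟶ j := Over.homMk j'.hom (by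
    show j'.hom ≫ j.hom = (j'.hom ≫ ψ.left) ≫ l.hom
    rw [Category.assoc, ← Over.w ψ]
    simp [A, top])
  have hu : (Over.map l.hom).map t = u ≫ ψ := Over.OverMorphism.ext rfl
  show m P = gam.app P
  rw [← cancel_mono (εY.app ((Over.map φ₂).obj P))]
  apply (hPY _).hom_ext
  · rw [Category.assoc (gam.app P), hg₂ P, hm₁, hz₁]
  · have e1 : ∀ G : DX.obj A ⟶ DY.obj Q, ∀ G' : DX.obj ((Over.map l.hom).obj P) ⟶ DY.obj ((Over.map φ₂).obj P),
        DX.map ((Over.map l.hom).map t) ≫ G = G' ≫ DY.map ((Over.map φ₂).map t) →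
        (G' ≫ εY.app ((Over.map φ₂).obj P)) ≫ PYπ₂.app ((Over.map φ₂).obj P) =
          DX.map u ≫ DX.map ψ ≫ G ≫ εY.app Q ≫ PYπ₂.app Q := fun G G' e => by
      rw [← DX.map_comp_assoc, ← hu, reassoc_of% e, εY.naturality_assoc, PYπ₂.naturality]
      simp
    rw [e1 (gam.app top) (gam.app P) (gam.naturality t), ← hψ, ← e1 (m top) (m P) (hnat _ _ t), hm₁]

end Main

end Groth.L23.SchImgHom
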