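import Groth.Agent.L23.SchImageChar
import Groth.Agent.L23.SchKer
import Groth.Agent.L09.SpLimit.System
import Groth.Agent.L19.Limit.Finite
import Groth.Agent.L23.UHPush
import Groth.Agent.L23.MorCalc
import Groth.Agent.L23.Epi
import Groth.Agent.L23.QsTop

/-!
# Limits of scheme theoretic images along a system with affine transition maps
-/

universe u

open CategoryTheory CategoryTheory.Limits AlgebraicGeometry AlgSp

set_option autoImplicit false
set_option linter.style.haveILetI false
set_option backward.isDefEq.respectTransparency false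
set_option backward.isDefEq.respectTransparency.types false

noncomputable section

namespace Groth.L23.SchImgLim

variable {S : Scheme.{u}}

/-- A closed immersion of affine schemes through which a map factors if all later images vanish. -/
theorem ker_le_of_forall {J : Type u} [SmallCategory J] [IsCofiltered J] {E : J ⥤ Scheme.{u}} {c : Cone E}
    (hc : IsLimit c) [∀ j, IsAffine (E.obj j)] {A T : Scheme.{u}} (u : A ⟶ c.pt) [QuasiCompact u] (m : T ⟶ c.pt)
    (h : ∀ j, (u ≫ c.π.app j).ker ≤ (m ≫ c.π.app j).ker) : u.ker ≤ m.ker := by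
  haveI : IsAffine c.pt := Scheme.isAffine_of_isLimit c hc
  have htop : ∀ z ∈ u.ker.ideal ⟨⊤, isAffineOpen_top _⟩, m.appTop.hom z = 0 := by
    intro z hz
    rw [Scheme.Hom.ker_apply, RingHom.mem_ker] at hz
    obtain ⟨j, z', rfl⟩ := exists_appTop_π_eq_of_isAffine_of_isLimit E c hc z
    haveI : IsAffine (((Functor.const J).obj c.pt).obj j) := inferInstanceAs (IsAffine c.pt)
    haveI : QuasiCompact (u ≫ c.π.app j) := inferInstance
    have h1 : z' ∈ ((u ≫ c.π.app j).ker).ideal ⟨⊤, isAffineOpen_top _⟩ := by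
      rw [Scheme.Hom.ker_apply, RingHom.mem_ker]
      exact hz
    exact RingHom.mem_ker.1 (Scheme.Hom.ideal_ker_le (m ≫ c.π.app j) ⟨⊤, isAffineOpen_top _⟩ (h j _ h1))
  refine Scheme.IdealSheafData.le_ofIdeals_iff.mpr fun U => ?_
  rw [← u.ker.map_ideal (U := U) (V := ⟨⊤, isAffineOpen_top _⟩) (fun _ _ => trivial), Ideal.map_le_iff_le_comap]
  intro z hz
  rw [Ideal.mem_comap, RingHom.mem_ker]
  refine (congr($(m.naturality (homOfLE (le_top : U.1 ≤ ⊤)).op).hom z)).trans ?_
  show (T.presheaf.map _).hom (m.appTop.hom z) = 0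
  rw [htop z hz, map_zero]

variable [QuasiSeparatedSpace S] {I : Type u} [SmallCategory I] [IsCofiltered I]

set_option maxHeartbeats 1600000 in
/-- The limit of the scheme theoretic images. -/
theorem nonempty_isLimit (D : I ⥤ AlgSp.Sp S) (hD : ∀ i, AlgSp.IsAlgSpace (D.obj i))
    (hDa : ∀ (i j : I) (φ : i ⟶ j), AlgSp.IsAffineMor (D.map φ)) (c : Cone D) (hc : IsLimit c)
    {X : Sp S} (hX : IsAlgSpace X) (a : X ⟶ c.pt) (i : I) {W : Sp S} (hW : IsAlgSpace W) (hWqc : IsQuasiCompactSp W)
    (w : W ⟶ D.obj i) (b : X ⟶ W) (hb : b ≫ w = a ≫ c.π.app i)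
    (hci : ∀ (P : AlgSp.Sp S) (fst : P ⟶ c.pt) (snd : P ⟶ W), IsPullback fst snd (c.π.app i) w →
      ∀ k : X ⟶ P, k ≫ fst = a → k ≫ snd = b → AlgSp.RepWith @IsClosedImmersion k)
    (DP : Over i ⥤ AlgSp.Sp S) (π₁ : DP ⟶ Over.forget i ⋙ D) (π₂ : DP ⟶ (Functor.const (Over i)).obj W)
    (hDP : ∀ i' : Over i, IsPullback (π₁.app i') (π₂.app i') (D.map i'.hom) w)
    (DX : Over i ⥤ AlgSp.Sp S) (ε : DX ⟶ DP) (ξ : (Functor.const (Over i)).obj X ⟶ DX)
    (hξ : ∀ i' : Over i, ξ.app i' ≫ ε.app i' ≫ π₁.app i' = a ≫ c.π.app i'.left ∧ ξ.app i' ≫ ε.app i' ≫ π₂.app i' = b)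
    (himg : ∀ i' : Over i, AlgSp.IsSchImage (ξ.app i' ≫ ε.app i') (ε.app i')) :
    Nonempty (IsLimit (Cone.mk X ξ)) := by
  obtain ⟨T, p, hT, hp, hps⟩ := Qs.exists_affine_atlas hW hWqc
  haveI := hT
  haveI : IsConnected (Over i) := IsCofiltered.isConnected _
  obtain ⟨s⟩ := Groth.L09.SpLimit.exists_sys hDa hc (p ≫ w)
  have hc' : IsLimit (c.whisker (Over.forget i)) :=
    (Functor.Initial.isLimitWhiskerEquiv (Over.forget i) c).symm hc
  haveI : ∀ j, IsAffine ((s.W ⋙ Over.forget S).obj j) := s.aff
  haveI : IsAffine s.cone.pt.left := Scheme.isAffine_of_isLimit _ s.isLimit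
  have sqP := IsPullback.of_hasPullback (c.π.app i) w
  let k : X ⟶ pullback (c.π.app i) w := pullback.lift a b hb.symm
  have hk : RepWith @IsClosedImmersion k :=
    hci _ _ _ sqP k (pullback.lift_fst _ _ _) (pullback.lift_snd _ _ _)
  haveI : Mono k := mono_of_repWith (fun _ _ φ (_ : IsClosedImmersion φ) => inferInstanceAs (Mono φ)) hk
  -- the charts
  let g : (yon S).obj s.cone.pt ⟶ pullback (c.π.app i) w := pullback.lift s.l ((yon S).map s.q ≫ p)
    (by rw [s.sql.w, Category.assoc])
  have sqg : IsPullback g ((yon S).map s.q) (pullback.snd (c.π.app i) w) p :=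
    IsPullback.of_right (h₁₂ := pullback.fst _ _) (by rw [pullback.lift_fst]; exact s.sql) (pullback.lift_snd _ _ _) sqP
  have hg : RepWith @Etale g := repWith_of_isPullback sqg.flip hp
  have hgs : RepWith @Surjective g := repWith_of_isPullback sqg.flip hps
  let gj : ∀ j : Over i, (yon S).obj (s.W.obj j) ⟶ DP.obj j := fun j =>
    (hDP j).lift (s.fj j) ((yon S).map (s.p j) ≫ p) (by rw [(s.sq j).w, Category.assoc])
  have hgj₁ : ∀ j, gj j ≫ π₁.app j = s.fj j := fun j => (hDP j).lift_fst _ _ _
  have hgj₂ : ∀ j, gj j ≫ π₂.app j = (yon S).map (s.p j) ≫ p := fun j => (hDP j).lift_snd _ _ _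
  have sqj : ∀ j, IsPullback (gj j) ((yon S).map (s.p j)) (π₂.app j) p := fun j =>
    IsPullback.of_right (h₁₂ := π₁.app j) (by rw [hgj₁]; exact s.sq j) (hgj₂ j) (hDP j)
  obtain ⟨A, fA, u, sA⟩ : ∃ (A : Over S) (fA : (yon S).obj A ⟶ X) (u : A ⟶ s.cone.pt),
      IsPullback fA ((yon S).map u) k g := ⟨_, _, _, hk.1.isPullback g⟩
  haveI : IsClosedImmersion u.left := repWith_prop hk sA
  haveI : IsAffine A.left := isAffine_of_isAffineHom u.left
  have hkA₁ : fA ≫ a = (yon S).map u ≫ s.l := by
    have h := sA.w =≫ pullback.fst (c.π.app i) w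
    simpa [k, g] using h
  have hkA₂ : fA ≫ b = (yon S).map u ≫ (yon S).map s.q ≫ p := by
    have h := sA.w =≫ pullback.snd (c.π.app i) w
    simpa [k, g] using h
  have hker : ∀ j, ((himg j).1.1.snd (gj j)).left.ker = (u ≫ s.cone.π.app j).left.ker := by
    intro j
    haveI : IsAffine (s.W.obj j).left := s.aff j
    let v : A ⟶ s.W.obj j := u ≫ s.cone.π.app j
    haveI : QuasiCompact v.left := quasiCompact_of_compactSpace v.left
    have sv : IsPullback fA ((yon S).map v) (ξ.app j ≫ ε.app j) (gj j) := by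
      refine IsPullback.of_bot ?_ ?_ (sqj j)
      · have h := sA.paste_vert sqg
        rw [pullback.lift_snd, ← Functor.map_comp, ← s.hq j, ← Category.assoc] at h
        rw [← Functor.map_comp, Category.assoc, Category.assoc (ξ.app j), (hξ j).2]
        exact h
      · apply (hDP j).hom_ext
        · simp only [Category.assoc, (hξ j).1, hgj₁, Functor.map_comp, v, ← s.hl j]
          rw [← Category.assoc fA, hkA₁, Category.assoc]
        · simp only [Category.assoc, (hξ j).2, hgj₂, v]
          rw [← Functor.map_comp_assoc, Category.assoc, s.hq j, Functor.map_comp_assoc, hkA₂]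
    refine Img.ker_eq_of_isGood ?_ ⟨repWith_of_isPullback (sqj j).flip hp, repWith_of_isPullback (sqj j).flip hps,
      ⟨sv.isoPullback.hom, repWith_of_isIso _, repWith_of_isIso _, sv.isoPullback_hom_snd.symm⟩,
      fun T' e (_ : Etale e.left) => SchKer.comap_ker_of_quasiCompact v.left e.left⟩ (himg j)
    exact isAlgSpace_of_isPullback (hD i).diag (hD j.left) hW (hDP j)
  -- lifting maps from schemes
  have key : ∀ (Z : Sp S) (ψ : ∀ j : Over i, Z ⟶ DX.obj j) (ζ : Z ⟶ pullback (c.π.app i) w),
      (∀ j, ψ j ≫ ε.app j ≫ π₁.app j = ζ ≫ pullback.fst _ _ ≫ c.π.app j.left) →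
      (∀ j, ψ j ≫ ε.app j ≫ π₂.app j = ζ ≫ pullback.snd _ _) → ∃ m : Z ⟶ X, m ≫ k = ζ := by
    intro Z ψ ζ h₁ h₂
    haveI : IsIso (pullback.snd k ζ) := by
      refine UHPush.isIso_of_yon _ (fun Z' x y e => pullback.hom_ext ?_ e) fun Z' x => ?_
      · rw [← cancel_mono k, Category.assoc, Category.assoc, pullback.condition, ← Category.assoc, e,
          Category.assoc]
      obtain ⟨Z'', e, m, sE⟩ : ∃ (Z'' : Over S) (e : Z'' ⟶ Z') (m : Z'' ⟶ s.cone.pt),
          IsPullback ((yon S).map m) ((yon S).map e) g (x ≫ ζ) :=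
        ⟨hg.1.pullback (x ≫ ζ), hg.1.snd (x ≫ ζ), (yon S).preimage (hg.1.fst (x ≫ ζ)),
          by rw [Functor.map_preimage]; exact hg.1.isPullback (x ≫ ζ)⟩
      haveI : Etale e.left := repWith_prop hg sE
      haveI : Surjective e.left := repWith_prop hgs sE
      have hm : u.left.ker ≤ m.left.ker := by
        refine ker_le_of_forall s.isLimit u.left m.left fun j => ?_
        show (u ≫ s.cone.π.app j).left.ker ≤ (m ≫ s.cone.π.app j).left.ker
        rw [← hker j]
        have e₀ : (yon S).map (m ≫ s.cone.π.app j) ≫ gj j = ((yon S).map e ≫ x ≫ ψ j) ≫ ε.app j := by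
          apply (hDP j).hom_ext
          · rw [Category.assoc, hgj₁, Functor.map_comp, Category.assoc, ← s.hl j, Category.assoc, Category.assoc,
              Category.assoc, h₁ j, ← Category.assoc x, ← Category.assoc ((yon S).map e), ← sE.w, Category.assoc,
              ← Category.assoc g, pullback.lift_fst]
          · rw [Category.assoc, hgj₂, ← Functor.map_comp_assoc, Category.assoc, s.hq j, Category.assoc,
              Category.assoc, Category.assoc, h₂ j, ← Category.assoc x, ← Category.assoc ((yon S).map e), ← sE.w,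
              Category.assoc, pullback.lift_snd, Functor.map_comp_assoc]
        obtain ⟨L, hL⟩ := (yon S).map_surjective (((himg j).1.1.isPullback (gj j)).lift
          ((yon S).map e ≫ x ≫ ψ j) ((yon S).map (m ≫ s.cone.π.app j)) e₀.symm)
        have hL' : L ≫ (himg j).1.1.snd (gj j) = m ≫ s.cone.π.app j :=
          (yon S).map_injective (by rw [Functor.map_comp, hL, IsPullback.lift_snd])
        rw [← hL', Over.comp_left]
        exact Scheme.Hom.le_ker_comp _ _
      let n := IsClosedImmersion.lift u.left m.left hm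
      let n' : Z'' ⟶ A := Over.homMk n (by rw [← Over.w u, ← Category.assoc, IsClosedImmersion.lift_fac, Over.w])
      have hn : n' ≫ u = m := Over.OverMorphism.ext (IsClosedImmersion.lift_fac _ _ _)
      -- descend
      let q := hk.1.snd (x ≫ ζ)
      haveI : IsClosedImmersion q.left := repWith_snd hk _
      obtain ⟨t, ht⟩ := (yon S).map_surjective ((hk.1.isPullback (x ≫ ζ)).lift ((yon S).map n' ≫ fA)
        ((yon S).map e) (by rw [Category.assoc, sA.w, ← Functor.map_comp_assoc, hn, sE.w]))
      have htq' : t ≫ q = e := (yon S).map_injective (by rw [Functor.map_comp, ht, IsPullback.lift_snd])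
      have htq : t.left ≫ q.left = e.left := by rw [← Over.comp_left, htq']
      have hq : q.left.ker = ⊥ := by
        refine le_bot_iff.1 ?_
        have h0 : e.left.ker = ⊥ := by
          have h := SchKer.ker_comp_of_flat_surjective e.left (𝟙 Z'.left)
          rw [Category.comp_id] at h
          rw [h]; exact Scheme.Hom.ker_eq_bot_of_isIso _
        rw [← h0, ← htq]
        exact Scheme.Hom.le_ker_comp _ _
      haveI : IsIso q.left := IsClosedImmersion.isIso_iff_ker_eq_bot.2 hq
      haveI : IsIso q := by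
        haveI : IsIso ((Over.forget S).map q) := inferInstanceAs (IsIso q.left)
        exact isIso_of_reflects_iso q (Over.forget S)
      refine ⟨pullback.lift ((yon S).map (inv q) ≫ hk.1.fst (x ≫ ζ)) x ?_, pullback.lift_snd _ _ _⟩
      rw [Category.assoc, (hk.1.isPullback (x ≫ ζ)).w, ← Functor.map_comp_assoc, IsIso.inv_hom_id,
        CategoryTheory.Functor.map_id, Category.id_comp]
    exact ⟨inv (pullback.snd k ζ) ≫ pullback.fst k ζ, by
      rw [Category.assoc, pullback.condition, IsIso.inv_hom_id_assoc]⟩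
  let Y : Cone DX → Cone (Over.forget i ⋙ D) := fun t =>
    { pt := t.pt
      π := t.π ≫ ε ≫ π₁ }
  have hconst : ∀ (t : Cone DX) (j j' : Over i),
      t.π.app j ≫ ε.app j ≫ π₂.app j = t.π.app j' ≫ ε.app j' ≫ π₂.app j' := fun t =>
    constant_of_preserves_morphisms (fun j => t.π.app j ≫ ε.app j ≫ π₂.app j) fun j j' φ => by
      show t.π.app j ≫ _ = t.π.app j' ≫ _
      rw [← t.w φ, Category.assoc, ε.naturality_assoc, π₂.naturality]
      simp
  let top : Over i := Over.mk (𝟙 i)
  let ζ : ∀ t : Cone DX, t.pt ⟶ pullback (c.π.app i) w := fun t =>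
    pullback.lift (hc'.lift (Y t)) (t.π.app top ≫ ε.app top ≫ π₂.app top) (by
      have h := hc'.fac (Y t) top
      change hc'.lift (Y t) ≫ c.π.app i = _ at h
      rw [h, Category.assoc, Category.assoc, ← (hDP top).w]
      simp [Y, top])
  have hm : ∀ t : Cone DX, ∃ m : t.pt ⟶ X, m ≫ k = ζ t := fun t =>
    key t.pt (fun j => t.π.app j) (ζ t)
      (fun j => by rw [pullback.lift_fst_assoc]; exact (hc'.fac (Y t) j).symm)
      (fun j => by rw [pullback.lift_snd]; exact hconst t j top)
  choose m hm using hm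
  haveI : ∀ j : Over i, Mono (ε.app j) := fun j =>
    mono_of_repWith (fun _ _ φ (_ : IsClosedImmersion φ) => inferInstanceAs (Mono φ)) (himg j).1
  refine ⟨{ lift := m, fac := fun t j => ?_, uniq := fun t m' hm' => ?_ }⟩
  · show m t ≫ ξ.app j = t.π.app j
    rw [← cancel_mono (ε.app j), Category.assoc]
    apply (hDP j).hom_ext
    · rw [Category.assoc, Category.assoc, (hξ j).1, ← pullback.lift_fst (f := c.π.app i) (g := w) a b hb.symm,
        ← Category.assoc (m t), ← Category.assoc (m t), hm, pullback.lift_fst, Category.assoc]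
      exact hc'.fac (Y t) j
    · rw [Category.assoc, Category.assoc, (hξ j).2, ← pullback.lift_snd (f := c.π.app i) (g := w) a b hb.symm,
        ← Category.assoc (m t), hm, pullback.lift_snd, Category.assoc]
      exact hconst t top j
  · rw [← cancel_mono k, hm]
    apply pullback.hom_ext
    · rw [Category.assoc, pullback.lift_fst, pullback.lift_fst]
      refine hc'.hom_ext fun j => ?_
      rw [Category.assoc, hc'.fac]
      show m' ≫ a ≫ c.π.app j.left = t.π.app j ≫ ε.app j ≫ π₁.app j
      rw [← hm' j, ← (hξ j).1]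
      exact (Category.assoc _ _ _).symm
    · rw [Category.assoc, pullback.lift_snd, pullback.lift_snd, ← hm' top, ← (hξ top).2]
      exact (Category.assoc _ _ _).symm

end Groth.L23.SchImgLim
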