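import Groth.Agent.S9435
import Mathlib.RingTheory.QuasiFinite.Basic
import Mathlib.FieldTheory.PurelyInseparable.Basic
import Mathlib.FieldTheory.PurelyInseparable.PerfectClosure

/-!
# Separating two field-valued points of quasi-finite algebras by an etale algebra
-/

universe u

open TensorProduct

namespace Groth.L23.SepEt

variable {A B B' Ω : Type u} [CommRing A] [CommRing B] [CommRing B'] [Field Ω]
  [Algebra A Ω] [Algebra A B] [Algebra A B'] [Algebra.QuasiFinite A B] [Algebra.QuasiFinite A B']

/-- Maps agreeing on the image of some etale algebra agree on the images of two quasi-finite algebras. -/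
theorem exists_etale (χ : B →ₐ[A] Ω) (χ' : B' →ₐ[A] Ω) :
    ∃ (R' : Type u) (_ : CommRing R') (_ : Algebra A R') (_ : Algebra.Etale A R') (ψ : R' →ₐ[A] Ω),
      ∀ (Ω' : Type u) [Field Ω'] (i j : Ω →+* Ω'), i.comp ψ.toRingHom = j.comp ψ.toRingHom →
        i.comp χ.toRingHom = j.comp χ.toRingHom ∧ i.comp χ'.toRingHom = j.comp χ'.toRingHom := by
  let p : Ideal A := RingHom.ker (algebraMap A Ω)
  haveI : p.IsPrime := RingHom.ker_isPrime _
  let ρ : p.ResidueField →ₐ[A] Ω := Ideal.ResidueField.liftₐ p (Algebra.ofId A Ω) le_rfl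
    (fun a ha => IsUnit.mk0 _ fun h => ha h)
  letI : Algebra p.ResidueField Ω := ρ.toRingHom.toAlgebra
  haveI : IsScalarTower A p.ResidueField Ω := IsScalarTower.of_algebraMap_eq fun a => (ρ.commutes a).symm
  let θ : p.Fiber B →ₐ[p.ResidueField] Ω :=
    Algebra.TensorProduct.lift (Algebra.ofId _ _) χ fun _ _ => Commute.all _ _
  let θ' : p.Fiber B' →ₐ[p.ResidueField] Ω :=
    Algebra.TensorProduct.lift (Algebra.ofId _ _) χ' fun _ _ => Commute.all _ _
  haveI : Module.Finite p.ResidueField θ.range :=
    Module.Finite.of_surjective θ.rangeRestrict.toLinearMap θ.rangeRestrict_surjective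
  haveI : Module.Finite p.ResidueField θ'.range :=
    Module.Finite.of_surjective θ'.rangeRestrict.toLinearMap θ'.rangeRestrict_surjective
  haveI : Algebra.IsIntegral p.ResidueField θ.range := Algebra.IsIntegral.of_finite _ _
  haveI : Algebra.IsIntegral p.ResidueField θ'.range := Algebra.IsIntegral.of_finite _ _
  let L₁ : IntermediateField p.ResidueField Ω := Subalgebra.toIntermediateField' θ.range
    (isField_of_isIntegral_of_isField' (R := p.ResidueField) (Field.toIsField _))
  let L₂ : IntermediateField p.ResidueField Ω := Subalgebra.toIntermediateField' θ'.range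
    (isField_of_isIntegral_of_isField' (R := p.ResidueField) (Field.toIsField _))
  haveI : FiniteDimensional p.ResidueField L₁ := inferInstanceAs (Module.Finite p.ResidueField θ.range)
  haveI : FiniteDimensional p.ResidueField L₂ := inferInstanceAs (Module.Finite p.ResidueField θ'.range)
  let L : IntermediateField p.ResidueField Ω := L₁ ⊔ L₂
  let Ls : IntermediateField p.ResidueField L := separableClosure p.ResidueField L
  obtain ⟨R', iR, iA, iE, ψ, hψ⟩ := Groth.Agent.S9435.result A p Ls
  refine ⟨R', iR, iA, iE, (L.val.comp Ls.val).restrictScalars A |>.comp ψ, fun Ω' _ i j h => ?_⟩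
  have h₁ : (i.comp L.val.toRingHom).comp (algebraMap Ls L) =
      (j.comp L.val.toRingHom).comp (algebraMap Ls L) := by
    ext x
    have hx : x ∈ Subfield.closure (Set.range ψ) := hψ ▸ trivial
    induction hx using Subfield.closure_induction with
    | mem y hy => obtain ⟨r, rfl⟩ := hy; exact RingHom.congr_fun h r
    | one => simp
    | add a b _ _ ha hb => simp only [map_add, ha, hb]
    | neg a _ ha => simp only [map_neg, ha]
    | inv a _ ha => simp only [map_inv₀, ha]
    | mul a b _ _ ha hb => simp only [map_mul, ha, hb]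
  have h₂ : i.comp L.val.toRingHom = j.comp L.val.toRingHom :=
    IsPurelyInseparable.injective_comp_algebraMap Ls L Ω' h₁
  refine ⟨RingHom.ext fun b => ?_, RingHom.ext fun b => ?_⟩
  · have hb : χ b ∈ L := (le_sup_left : L₁ ≤ L) ⟨1 ⊗ₜ b, by simp [θ]⟩
    exact RingHom.congr_fun h₂ ⟨_, hb⟩
  · have hb : χ' b ∈ L := (le_sup_right : L₂ ≤ L) ⟨1 ⊗ₜ b, by simp [θ']⟩
    exact RingHom.congr_fun h₂ ⟨_, hb⟩

end Groth.L23.SepEt
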