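import Groth.Agent.L23.Compact
import Groth.Agent.L23.QsTop
import Groth.Agent.L23.Points
import Groth.Agent.L23.LocP
import Groth.Agent.L23.Univ
import Mathlib.RingTheory.FinitePresentation
import Mathlib.AlgebraicGeometry.Morphisms.FinitePresentation

/-!
# Separating a closed set from a point by a finitely presented neighbourhood
-/

universe u

open CategoryTheory CategoryTheory.Limits AlgebraicGeometry

set_option autoImplicit false
set_option linter.style.haveILetI false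
set_option backward.isDefEq.respectTransparency false
set_option backward.isDefEq.respectTransparency.types false

namespace Groth.L23.SepNbhd

/-- Functions on a fibre product of affine schemes come from the factors. -/
theorem mem_closure_of_isPullback {P C V W : Scheme.{u}} [IsAffine C] [IsAffine V] [IsAffine W]
    {p₁ : P ⟶ C} {p₂ : P ⟶ V} {φ : C ⟶ W} {s : V ⟶ W} (sq : IsPullback p₁ p₂ φ s) (f : Γ(P, ⊤)) :
    f ∈ Subring.closure (Set.range p₁.appTop.hom ∪ Set.range p₂.appTop.hom) := by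
  have h := isPushout_appTop_of_isPullback sq
  letI := φ.appTop.hom.toAlgebra
  letI := s.appTop.hom.toAlgebra
  letI := p₁.appTop.hom.toAlgebra
  letI := p₂.appTop.hom.toAlgebra
  letI : Algebra Γ(W, ⊤) Γ(P, ⊤) := (φ.appTop ≫ p₁.appTop).hom.toAlgebra
  haveI : IsScalarTower Γ(W, ⊤) Γ(C, ⊤) Γ(P, ⊤) := IsScalarTower.of_algebraMap_eq fun _ => rfl
  haveI : IsScalarTower Γ(W, ⊤) Γ(V, ⊤) Γ(P, ⊤) :=
    IsScalarTower.of_algebraMap_eq fun r => congrArg (fun m => m.hom r) h.w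
  haveI hP : Algebra.IsPushout Γ(W, ⊤) Γ(C, ⊤) Γ(V, ⊤) Γ(P, ⊤) := CommRingCat.isPushout_iff_isPushout.1 h
  refine hP.out.inductionOn f (motive := fun x => x ∈ Subring.closure _) ?_ ?_ ?_ ?_
  · exact zero_mem _
  · exact fun b => Subring.subset_closure (Or.inr ⟨b, rfl⟩)
  · intro c x hx
    rw [Algebra.smul_def]
    exact mul_mem (Subring.subset_closure (Or.inl ⟨c, rfl⟩)) hx
  · exact fun x y hx hy => add_mem hx hy

/-- The affine case. -/
theorem exists_affine_separating {C V W P : Scheme.{u}} [IsAffine C] [IsAffine V] [IsAffine W]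
    {p₁ : P ⟶ C} {p₂ : P ⟶ V} {φ : C ⟶ W} {s : V ⟶ W} (sq : IsPullback p₁ p₂ φ s)
    (Z₀ : Set P) (hZ : IsClosed Z₀) (v : V) (hv : ∀ x ∈ Z₀, p₂ x ≠ v) :
    ∃ (Z' : Scheme.{u}) (_ : IsAffine Z') (q : Z' ⟶ W) (a : V ⟶ Z'), LocallyOfFinitePresentation q ∧ a ≫ q = s ∧
      ∀ (P' : Scheme.{u}) (q₁ : P' ⟶ C) (q₂ : P' ⟶ Z'), IsPullback q₁ q₂ φ q →
        ∀ θ : P ⟶ P', θ ≫ q₁ = p₁ → θ ≫ q₂ = p₂ ≫ a →
          ∀ ξ : P', q₂ ξ = a v → ξ ∉ closure (θ '' Z₀) := by
  classical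
  haveI : IsAffineHom p₂ := MorphismProperty.of_isPullback sq (isAffineHom_of_isAffine φ)
  haveI : IsAffine P := isAffine_of_isAffineHom p₂
  -- finitely many functions vanishing on the closed set, not simultaneously on the fibre
  have hF : IsCompact (p₂ ⁻¹' {v}) := by
    rw [← Scheme.Hom.range_fiberι]
    exact isCompact_range (p₂.fiberι v).continuous
  have hcov : ∀ x ∈ p₂ ⁻¹' {v}, ∃ f : Γ(P, ⊤), x ∈ P.basicOpen f ∧ ∀ z ∈ Z₀, z ∉ P.basicOpen f := by
    intro x hx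
    obtain ⟨f, hf, hxf⟩ := (isAffineOpen_top P).exists_basicOpen_le
      (V := ⟨Z₀ᶜ, hZ.isOpen_compl⟩) ⟨x, fun h => hv x h hx⟩ trivial
    exact ⟨f, hxf, fun z hz h => hf h hz⟩
  choose f hfx hfZ using hcov
  obtain ⟨t, ht⟩ := hF.elim_finite_subcover (fun x : p₂ ⁻¹' {v} => (P.basicOpen (f x.1 x.2) : Set P))
    (fun x => (P.basicOpen _).2) (fun x hx => Set.mem_iUnion.2 ⟨⟨x, hx⟩, hfx x hx⟩)
  -- the coefficients
  have hfin : ∀ y : Γ(P, ⊤), ∃ T : Finset Γ(V, ⊤),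
      y ∈ Subring.closure (Set.range p₁.appTop.hom ∪ p₂.appTop.hom '' (T : Set Γ(V, ⊤))) := by
    intro y
    induction mem_closure_of_isPullback sq y using Subring.closure_induction with
    | mem x hx =>
      rcases hx with ⟨c, rfl⟩ | ⟨b, rfl⟩
      · exact ⟨∅, Subring.subset_closure (Or.inl ⟨c, rfl⟩)⟩
      · exact ⟨{b}, Subring.subset_closure (Or.inr ⟨b, by simp, rfl⟩)⟩
    | zero => exact ⟨∅, zero_mem _⟩
    | one => exact ⟨∅, one_mem _⟩
    | neg x _ hx => obtain ⟨T, h⟩ := hx; exact ⟨T, neg_mem h⟩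
    | add x y _ _ hx hy =>
      obtain ⟨T₁, h₁⟩ := hx
      obtain ⟨T₂, h₂⟩ := hy
      refine ⟨T₁ ∪ T₂, add_mem (Subring.closure_mono ?_ h₁) (Subring.closure_mono ?_ h₂)⟩ <;>
        exact Set.union_subset_union_right _ (Set.image_mono (by simp))
    | mul x y _ _ hx hy =>
      obtain ⟨T₁, h₁⟩ := hx
      obtain ⟨T₂, h₂⟩ := hy
      refine ⟨T₁ ∪ T₂, mul_mem (Subring.closure_mono ?_ h₁) (Subring.closure_mono ?_ h₂)⟩ <;>
        exact Set.union_subset_union_right _ (Set.image_mono (by simp))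
  choose T hT using hfin
  let U : Finset Γ(V, ⊤) := t.biUnion fun x => T (f x.1 x.2)
  -- the neighbourhood
  let B : CommRingCat.{u} := CommRingCat.of (MvPolynomial ↥U Γ(W, ⊤))
  let η : B ⟶ Γ(V, ⊤) := CommRingCat.ofHom (MvPolynomial.eval₂Hom s.appTop.hom Subtype.val)
  let ι : Γ(W, ⊤) ⟶ B := CommRingCat.ofHom MvPolynomial.C
  let q : Spec B ⟶ W := Spec.map ι ≫ W.isoSpec.inv
  let a : V ⟶ Spec B := V.toSpecΓ ≫ Spec.map η
  have haq : a ≫ q = s := by
    have : ι ≫ η = s.appTop := by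
      ext r
      exact MvPolynomial.eval₂_C _ _ _
    rw [Category.assoc, ← Category.assoc (Spec.map η), ← Spec.map_comp, this, ← Scheme.toSpecΓ_naturality_assoc,
      Scheme.toSpecΓ_isoSpec_inv, Category.comp_id]
  refine ⟨Spec B, inferInstance, q, a, ?_, haq, fun P' q₁ q₂ sq' θ hθ₁ hθ₂ ξ hξ hmem => ?_⟩
  · haveI : LocallyOfFinitePresentation (Spec.map ι) := by
      rw [HasRingHomProperty.Spec_iff (P := @LocallyOfFinitePresentation)]
      exact RingHom.finitePresentation_algebraMap.2 (inferInstance : Algebra.FinitePresentation Γ(W, ⊤) (MvPolynomial ↥U Γ(W, ⊤)))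
    infer_instance
  -- functions descend
  have hdesc : ∀ x ∈ t, ∃ g : Γ(P', ⊤), θ.appTop.hom g = f x.1 x.2 := by
    intro x hx
    have hmem' : f x.1 x.2 ∈ θ.appTop.hom.range := by
      refine Subring.closure_le.2 ?_ (hT (f x.1 x.2))
      rintro _ (⟨c, rfl⟩ | ⟨b, hb, rfl⟩)
      · refine ⟨q₁.appTop.hom c, ?_⟩
        rw [← hθ₁, Scheme.Hom.comp_appTop]
        rfl
      · refine ⟨q₂.appTop.hom ((Scheme.ΓSpecIso B).inv (MvPolynomial.X ⟨b, Finset.mem_biUnion.2 ⟨x, hx, hb⟩⟩)), ?_⟩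
        have hb' : a.appTop ((Scheme.ΓSpecIso B).inv (MvPolynomial.X ⟨b, Finset.mem_biUnion.2 ⟨x, hx, hb⟩⟩)) = b := by
          have e : (Scheme.ΓSpecIso B).inv ≫ a.appTop = η := by
            rw [Scheme.Hom.comp_appTop, ← Category.assoc, ← Scheme.ΓSpecIso_inv_naturality, Category.assoc,
              Scheme.toSpecΓ_appTop, Iso.inv_hom_id, Category.comp_id]
          refine (congrArg (fun m : B ⟶ Γ(V, ⊤) => m.hom (MvPolynomial.X ⟨b, Finset.mem_biUnion.2 ⟨x, hx, hb⟩⟩)) e).trans ?_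
          exact MvPolynomial.eval₂_X _ _ _
        conv_rhs => rw [← hb']
        show (q₂.appTop ≫ θ.appTop) _ = (a.appTop ≫ p₂.appTop) _
        rw [← Scheme.Hom.comp_appTop, ← Scheme.Hom.comp_appTop, hθ₂]
    exact hmem'
  -- a point of the fibre over ξ
  have sqθ : IsPullback θ p₂ q₂ a := by
    refine IsPullback.of_right ?_ hθ₂ sq'
    rw [hθ₁, haq]
    exact sq
  obtain ⟨η', hη₁, hη₂⟩ := Scheme.exists_preimage_of_isPullback sqθ ξ v hξ
  obtain ⟨x, hx, hxη⟩ := Set.mem_iUnion₂.1 (ht (show η' ∈ p₂ ⁻¹' {v} from hη₂))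
  obtain ⟨g, hg⟩ := hdesc x hx
  have hpre : θ ⁻¹ᵁ P'.basicOpen g = P.basicOpen (f x.1 x.2) := by
    rw [Scheme.preimage_basicOpen_top, hg]
  obtain ⟨w, hw, z, hz, rfl⟩ := mem_closure_iff.1 hmem (P'.basicOpen g) (P'.basicOpen g).2
    (show ξ ∈ P'.basicOpen g by rw [← hη₁]; exact hpre.ge hxη)
  exact hfZ x.1 x.2 z hz (hpre.le hw)

end Groth.L23.SepNbhd
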