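import Groth.Agent.L23.EtaleLift
import Mathlib.RingTheory.RingHom.StandardSmooth
import Mathlib.RingTheory.Idempotents
import Mathlib.RingTheory.Etale.Basic

/-!
# Etale-local lifting of maps from standard smooth algebras along nil ideals
-/

universe u

open TensorProduct

set_option maxHeartbeats 400000

namespace Groth.L23

theorem exists_etale_smooth_lift_nil {R T A B C : Type u} [CommRing R] [CommRing T] [CommRing A]
    [CommRing B] [CommRing C] [Algebra A B] (hAB : Function.Surjective (algebraMap A B))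
    (hnil : ∀ x ∈ RingHom.ker (algebraMap A B), IsNilpotent x) [Algebra B C] [Algebra A C]
    [IsScalarTower A B C] [Algebra.Etale B C] (k : R →+* A) (s : R →+* T) (hs : s.IsStandardSmooth)
    (g : T →+* C) (hg : g.comp s = (algebraMap A C).comp k) :
    ∃ (D : Type u) (_ : CommRing D) (_ : Algebra A D) (ψ : D →ₐ[A] C) (g' : T →+* D),
      Algebra.Etale A D ∧ Function.Surjective ψ ∧
      RingHom.ker ψ = (RingHom.ker (algebraMap A B)).map (algebraMap A D) ∧
      ψ.toRingHom.comp g' = g ∧ g'.comp s = (algebraMap A D).comp k := by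
  classical
  obtain ⟨C', _, _, ψ₁, hC', hψ₁, hk₁⟩ := exists_etale_lift (C := C) hAB
  obtain ⟨n, φ, hφs, hφe⟩ := hs.exists_etale_mvPolynomial
  choose x hx using fun i => hψ₁ (g (φ (MvPolynomial.X i)))
  let φ' : MvPolynomial (Fin n) R →+* C' := MvPolynomial.eval₂Hom ((algebraMap A C').comp k) x
  have hφ' : ψ₁.toRingHom.comp φ' = g.comp φ := by
    refine MvPolynomial.ringHom_ext (fun r => ?_) (fun i => ?_)
    · have := DFunLike.congr_fun hg r
      have := DFunLike.congr_fun hφs r
      simp only [RingHom.comp_apply] at *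
      simp only [φ', MvPolynomial.eval₂Hom_C, RingHom.comp_apply]
      rw [‹φ _ = s r›, ‹g (s r) = _›]
      exact ψ₁.commutes _
    · simp [φ', hx]
  let _ := φ.toAlgebra
  let _ := φ'.toAlgebra
  have : Algebra.Etale (MvPolynomial (Fin n) R) T := hφe
  let _ : Algebra C' C := ψ₁.toRingHom.toAlgebra
  let _ : Algebra (MvPolynomial (Fin n) R) C := (ψ₁.toRingHom.comp φ').toAlgebra
  have : IsScalarTower (MvPolynomial (Fin n) R) C' C := IsScalarTower.of_algebraMap_eq' rfl
  have : IsScalarTower A C' C := IsScalarTower.of_algebraMap_eq' ψ₁.comp_algebraMap.symm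
  let gA : T →ₐ[MvPolynomial (Fin n) R] C :=
    { g with commutes' := fun r => (DFunLike.congr_fun hφ' r).symm }
  let D := C' ⊗[MvPolynomial (Fin n) R] T
  let ψ₀ : D →ₐ[C'] C := Algebra.TensorProduct.lift (Algebra.ofId C' C) gA (fun _ _ => Commute.all _ _)
  have hψ₀ : Function.Surjective ψ₀ := fun c => by
    obtain ⟨c', rfl⟩ := hψ₁ c
    exact ⟨algebraMap C' D c', ψ₀.commutes c'⟩
  obtain ⟨hkD, hsD⟩ := ker_includeRight_of_surjective (P := C') (B := C) (M := D) hψ₁
  let ψb : C ⊗[C'] D →ₐ[C] C := Algebra.TensorProduct.lift (AlgHom.id C C) ψ₀ (fun _ _ => Commute.all _ _)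
  have hψb : Function.Surjective ψb := fun c => ⟨algebraMap C _ c, ψb.commutes c⟩
  let _ : Algebra (C ⊗[C'] D) C := ψb.toRingHom.toAlgebra
  have : IsScalarTower C (C ⊗[C'] D) C := IsScalarTower.of_algebraMap_eq' ψb.comp_algebraMap.symm
  have : Algebra.Etale C' D := inferInstance
  obtain ⟨e, he, hke⟩ : ∃ e : C ⊗[C'] D, IsIdempotentElem e ∧
      RingHom.ker (algebraMap (C ⊗[C'] D) C) = Ideal.span {e} :=
    (Ideal.isIdempotentElem_iff_of_fg _ (Algebra.FinitePresentation.ker_fG_of_surjective ψb hψb)).mp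
      ((Algebra.FormallyEtale.iff_of_surjective hψb).mp (.of_restrictScalars (R := C)))
  let incl : D →ₐ[C'] C ⊗[C'] D := Algebra.TensorProduct.includeRight
  have hJ : ∀ y ∈ RingHom.ker incl, IsNilpotent y := by
    intro y hy
    have hle : (RingHom.ker (algebraMap C' C)).map (algebraMap C' D) ≤ nilradical D := by
      rw [Ideal.map_le_iff_le_comap]
      intro z hz
      refine IsNilpotent.map ?_ (algebraMap C' D)
      change z ∈ RingHom.ker ψ₁ at hz
      rw [hk₁] at hz
      refine (Ideal.map_le_iff_le_comap (K := nilradical C')).2 ?_ hz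
      exact fun w hw => (hnil w hw).map _
    exact hle (hkD ▸ hy)
  obtain ⟨e', he', hee⟩ := exists_isIdempotentElem_eq_of_ker_isNilpotent incl.toRingHom hJ e (hsD e) he
  let L := Localization.Away (1 - e')
  have hunit : IsUnit (ψ₀ (1 - e')) := by
    have h0 : ψb e = 0 := (hke ▸ Ideal.mem_span_singleton_self e : e ∈ RingHom.ker (algebraMap (C ⊗[C'] D) C))
    have h1 : ψb (incl e') = ψ₀ e' := by simp [ψb, incl]
    rw [map_sub, map_one, ← h1, show incl e' = e from hee, h0, sub_zero]
    exact isUnit_one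
  let ψ : L →ₐ[A] C := IsLocalization.liftAlgHom (M := Submonoid.powers (1 - e'))
    (f := ψ₀.restrictScalars A) (fun ⟨y, m, hy⟩ => by subst hy; rw [map_pow]; exact hunit.pow m)
  have hψ : ∀ d, ψ (algebraMap D L d) = ψ₀ d := fun d => IsLocalization.lift_eq _ d
  have : Algebra.Etale D L := Algebra.Etale.of_isLocalizationAway (1 - e')
  have : Algebra.Etale A C' := hC'
  have : Algebra.Etale C' L := Algebra.Etale.comp C' D L
  have : Algebra.Etale A L := Algebra.Etale.comp A C' L
  refine ⟨L, inferInstance, inferInstance, ψ, (algebraMap D L).comp (Algebra.TensorProduct.includeRight :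
    T →ₐ[MvPolynomial (Fin n) R] D).toRingHom, this, fun c => ?_, ?_, ?_, ?_⟩
  · obtain ⟨d, rfl⟩ := hψ₀ c
    exact ⟨algebraMap D L d, hψ d⟩
  · refine le_antisymm (fun y hy => ?_) (Ideal.map_le_iff_le_comap.2 fun a ha => ?_)
    · obtain ⟨d, m, rfl⟩ := IsLocalization.exists_mk'_eq (Submonoid.powers (1 - e')) y
      rw [IsLocalization.mk'_eq_mul_mk'_one]
      refine Ideal.mul_mem_right _ _ ?_
      have hd : ψ₀ d = 0 := by
        have := congrArg ψ (IsLocalization.mk'_spec L d m)
        rw [map_mul, RingHom.mem_ker.1 hy, zero_mul, hψ] at this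
        exact this.symm
      have hb : incl d ∈ RingHom.ker (algebraMap (C ⊗[C'] D) C) := by
        change ψb (incl d) = 0
        simpa [ψb, incl] using hd
      rw [hke, Ideal.mem_span_singleton] at hb
      obtain ⟨z, hz⟩ := hb
      obtain ⟨w, rfl⟩ := hsD z
      have hmem : d - e' * w ∈ RingHom.ker incl := by
        rw [RingHom.mem_ker, map_sub, map_mul, hz, show incl e' = e from hee, sub_self]
      have h0 : algebraMap D L e' = 0 := by
        refine (IsLocalization.map_eq_zero_iff (Submonoid.powers (1 - e')) L e').2 ⟨⟨1 - e', 1, pow_one _⟩, ?_⟩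
        simp [sub_mul, he'.eq]
      have e2 : algebraMap D L d = algebraMap D L (d - e' * w) := by simp [h0]
      rw [e2, IsScalarTower.algebraMap_eq A C' L, ← Ideal.map_map,
        IsScalarTower.algebraMap_eq C' D L, ← Ideal.map_map]
      refine Ideal.mem_map_of_mem _ ?_
      rw [← hk₁]
      exact hkD ▸ hmem
    · rw [Ideal.mem_comap, RingHom.mem_ker, AlgHom.commutes, IsScalarTower.algebraMap_apply A B C,
        RingHom.mem_ker.1 ha, map_zero]
  · ext t
    refine (hψ _).trans ?_
    show ψ₀ ((1 : C') ⊗ₜ[MvPolynomial (Fin n) R] t) = g t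
    rw [Algebra.TensorProduct.lift_tmul, map_one, one_mul]
    rfl
  · have h2 : (Algebra.TensorProduct.includeRight :
        T →ₐ[MvPolynomial (Fin n) R] D).toRingHom.comp s = (algebraMap A D).comp k := by
      ext r
      rw [← hφs, RingHom.comp_apply, RingHom.comp_apply]
      show (Algebra.TensorProduct.includeRight : T →ₐ[MvPolynomial (Fin n) R] D) (algebraMap (MvPolynomial (Fin n) R) T (MvPolynomial.C r)) = (algebraMap A D).comp k r
      rw [AlgHom.commutes, IsScalarTower.algebraMap_apply (MvPolynomial (Fin n) R) C' D,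
        RingHom.comp_apply, IsScalarTower.algebraMap_apply A C' D]
      congr 1
      simp [RingHom.algebraMap_toAlgebra, φ']
    rw [RingHom.comp_assoc, h2, ← RingHom.comp_assoc]
    rfl

end Groth.L23
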