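import Groth.Agent.L23.SmoothLift
import Groth.Agent.L23.LocP
import Groth.Agent.L23.Points
import Groth.Agent.L23.DeformChart
import Groth.Prelude.Def_AlgSpInf

/-!
# Etale-local lifting along thickenings for smooth morphisms of algebraic spaces
-/

universe u

open CategoryTheory CategoryTheory.Limits AlgebraicGeometry AlgSp

set_option backward.isDefEq.respectTransparency.types false

namespace Groth.L23

variable {S : Scheme.{u}} {X Y T T' : Sp S}

theorem exists_lift_of_smooth (hX : IsAlgSpace X) (hY : IsAlgSpace Y) (hT' : IsAlgSpace T')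
    {f : X ⟶ Y} (hf : LocP @Smooth f) {i : T ⟶ T'} (hi : IsThickMor i) (a : T ⟶ X) (b : T' ⟶ Y)
    (w : a ≫ f = i ≫ b) (t' : Points T') :
    ∃ (V : Over S) (e : (yon S).obj V ⟶ T') (ℓ : (yon S).obj V ⟶ X), RepWith @Etale e ∧
      t' ∈ Set.range (Points.ofPt e) ∧ ℓ ≫ f = e ≫ b ∧
      ∀ (P : Sp S) (p₁ : P ⟶ T) (p₂ : P ⟶ (yon S).obj V), IsPullback p₁ p₂ i e → p₂ ≫ ℓ = p₁ ≫ a := by
  obtain ⟨W, c, hc, hcs⟩ := hY.atlas
  obtain ⟨V₀, e₀, k, he₀, w₀, he₀s⟩ := exists_chart_over hT' hY b hc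
  obtain ⟨v₀, hv₀⟩ := surjective_ofPt (he₀s hcs) t'
  obtain ⟨T₀, j, cT, sqT⟩ : ∃ (T₀ : Over S) (j : T₀ ⟶ V₀) (cT : (yon S).obj T₀ ⟶ T),
      IsPullback ((yon S).map j) cT e₀ i :=
    ⟨_, _, _, (hi.1.isPullback e₀).flip⟩
  have hj := isThickening_of_isThickMor hi sqT
  obtain ⟨_, _⟩ := hj
  have sQ := IsPullback.of_hasPullback f c
  obtain ⟨U, q, hq, hqs⟩ := (isAlgSpace_of_isPullback hY.diag hX (IsAlgSpace.yon_obj W) sQ).atlas
  obtain ⟨h, hh⟩ := (yon S).map_surjective (q ≫ pullback.snd f c)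
  have haU : RepWith @Etale (q ≫ pullback.fst f c) := repWith_comp hq (repWith_of_isPullback sQ.flip hc)
  have hsm : Smooth h.left := hf _ c h haU hc (by
    rw [hh, Category.assoc, pullback.condition, Category.assoc])
  let μ : (yon S).obj T₀ ⟶ pullback f c := sQ.lift (cT ≫ a) ((yon S).map (j ≫ k))
    (by rw [Category.assoc, w, ← sqT.w_assoc, w₀, Functor.map_comp, Category.assoc])
  obtain ⟨P, ρ, σ, sqP⟩ : ∃ (P : Over S) (ρ : P ⟶ T₀) (σ : P ⟶ U),
      IsPullback ((yon S).map ρ) ((yon S).map σ) μ q := by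
    obtain ⟨σ, hσ⟩ := (yon S).map_surjective (hq.1.fst μ)
    exact ⟨_, hq.1.snd μ, σ, hσ ▸ (hq.1.isPullback μ).flip⟩
  have hρ : Etale ρ.left := repWith_prop hq sqP.flip
  have hρs : Surjective ρ.left := repWith_prop hqs sqP.flip
  obtain ⟨t₀, ht₀⟩ := j.left.surjective v₀
  obtain ⟨π, hπ⟩ := ρ.left.surjective t₀
  have hw : σ ≫ h = ρ ≫ j ≫ k := by
    refine (yon S).map_injective ?_
    rw [Functor.map_comp, hh, ← sqP.w_assoc, sQ.lift_snd, ← Functor.map_comp]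
  obtain ⟨V₁, P₁, e, m, j₁, l, he, sq₁, hl₁, hl₂, hv⟩ :=
    exists_smooth_lift (ρ := ρ.left) (j := j.left) (s := σ.left) (h := h.left) (k := k.left)
      congr($(hw).left) π
  let V : Over S := Over.mk (e ≫ V₀.hom)
  let e' : V ⟶ V₀ := Over.homMk e rfl
  let P₁' : Over S := Over.mk (j₁ ≫ V.hom)
  let j₁' : P₁' ⟶ V := Over.homMk j₁ rfl
  let m' : P₁' ⟶ T₀ := Over.homMk (m ≫ ρ.left) (by
    show (m ≫ ρ.left) ≫ T₀.hom = j₁ ≫ e ≫ V₀.hom
    rw [← Over.w j, ← Category.assoc, ← Category.assoc, sq₁.w])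
  let l' : V ⟶ U := Over.homMk l (by
    show l ≫ U.hom = e ≫ V₀.hom
    rw [← Over.w h, ← Category.assoc, hl₁, Category.assoc, Over.w k])
  let mP : P₁' ⟶ P := Over.homMk m (by
    show m ≫ P.hom = j₁ ≫ e ≫ V₀.hom
    rw [← Over.w ρ, ← Category.assoc, ← Over.w j, ← Category.assoc, ← Category.assoc, sq₁.w])
  have hm' : m' = mP ≫ ρ := Over.OverMorphism.ext rfl
  have sq₂ : IsPullback m' j₁' j e' :=
    IsPullback.of_map (Over.forget S) (Over.OverMorphism.ext sq₁.w) sq₁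
  have hl₁' : l' ≫ h = e' ≫ k := Over.OverMorphism.ext hl₁
  have hl₂' : j₁' ≫ l' = mP ≫ σ := Over.OverMorphism.ext hl₂
  have sqBig : IsPullback ((yon S).map m' ≫ cT) ((yon S).map j₁') i ((yon S).map e' ≫ e₀) :=
    (sq₂.map (yon S)).paste_horiz sqT.flip
  refine ⟨V, (yon S).map e' ≫ e₀, (yon S).map l' ≫ q ≫ pullback.fst f c,
    repWith_comp (repWith_map (show Etale e'.left from he)) he₀, ?_, ?_, ?_⟩
  · obtain ⟨v, hv⟩ := hv
    refine ⟨v, ?_⟩
    rw [ofPt_comp, show e'.left v = v₀ from hv.trans (by rw [hπ, ht₀]), hv₀]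
  · rw [Category.assoc, Category.assoc, pullback.condition, ← reassoc_of% hh,
      ← Functor.map_comp_assoc, hl₁', Functor.map_comp, Category.assoc, ← w₀, Category.assoc]
  · intro Q p₁ p₂ sq
    have key : (yon S).map j₁' ≫ (yon S).map l' ≫ q ≫ pullback.fst f c =
        ((yon S).map m' ≫ cT) ≫ a := by
      rw [← Functor.map_comp_assoc, hl₂', hm', Functor.map_comp, Category.assoc, ← sqP.w_assoc,
        sQ.lift_fst, Functor.map_comp, Category.assoc, Category.assoc]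
    rw [← sqBig.lift_snd p₁ p₂ sq.w, Category.assoc, key]
    conv_rhs => rw [← sqBig.lift_fst p₁ p₂ sq.w]
    simp only [Category.assoc]

end Groth.L23
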