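import Groth.Agent.L23.ModVanish
import Groth.Agent.L10.TowerStab
import Groth.Agent.L10.KInjDerived

/-!
# Test objects on the small etale site and derived limits of truncations
-/

universe u

open CategoryTheory CategoryTheory.Limits AlgebraicGeometry Opposite AlgSp

set_option autoImplicit false
set_option linter.style.haveILetI false
set_option backward.isDefEq.respectTransparency false
set_option backward.isDefEq.respectTransparency.types false

attribute [local instance] HasDerivedCategory.standard

noncomputable section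

namespace Groth.L23.SpRlim

open Groth.L09.ModEt Groth.L23.ModVanish Groth.L23.EpiLoc Groth.L23.CohNbhd Groth.L10

variable {S : Scheme.{u}} {X : Sp S}

/-- The functorial map of free modules on representables. -/
def genMap {W V : EtOver X} (g : W ⟶ V) : ModEtGroth.gen W ⟶ ModEtGroth.gen V :=
  (sec W _).symm (res _ g (sec V _ (𝟙 (ModEtGroth.gen V))))

theorem sec_genMap {W V : EtOver X} (g : W ⟶ V) {M : ModEt X} (b : ModEtGroth.gen V ⟶ M) :
    sec W M (genMap g ≫ b) = res M g (sec V M b) := by
  rw [sec_comp, genMap, Equiv.apply_symm_apply]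
  refine (app₀_res b g _).trans (congrArg (res M g) ?_)
  exact (sec_comp (𝟙 (ModEtGroth.gen V)) b).symm.trans (by rw [Category.id_comp])

theorem sec_zero (E : EtOver X) (M : ModEt X) : sec E M 0 = 0 := by
  rw [← comp_zero (f := (0 : ModEtGroth.gen E ⟶ M)) (Z := M), sec_comp]
  rfl

theorem exists_cover (E : EtOver X) : ∀ x : ↥E.obj.left.left, ∃ (V : EtOver X) (_ : IsAffine V.obj.left.left)
    (g : V ⟶ E), x ∈ Set.range g.hom.left.left := fun x => by
  obtain ⟨V, hV, g, -, hx⟩ := exists_refinement ((etTop X).top_mem E) x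
  exact ⟨V, hV, g, hx⟩

variable (X) in
/-- Free modules on affine objects as test objects. -/
def cover : LocalDetect.Cover (ModEt X) {E : EtOver X // IsAffine E.obj.left.left} where
  P V := ModEtGroth.gen V.1
  good _ Q := ∃ W : {E : EtOver X // IsAffine E.obj.left.left}, Q = ModEtGroth.gen W.1
  sep M N φ h := by
    refine (SheafOfModules.forget (OEtRing X)).map_injective
      (PresheafOfModules.hom_ext fun Z => ModuleCat.hom_ext (LinearMap.ext fun (s : sectModEt M Z.unop) => ?_))
    choose V hV g hg using exists_cover Z.unop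
    refine eq_of_cover N (c := g) (fun x => ⟨x, hg x⟩) fun x => ?_
    show res N (g x) (app₀ φ Z.unop s) = res N (g x) 0
    rw [map_zero, ← app₀_res]
    have h1 := congrArg (sec (V x) N) (h ⟨V x, hV x⟩ ((sec (V x) M).symm (res M (g x) s)))
    rw [sec_comp, Equiv.apply_symm_apply, sec_zero] at h1
    exact h1
  cov V T p _ N b h := by
    apply (sec V.1 N).injective
    rw [sec_zero]
    choose W hW g hx hr using fun x => exists_local_lift p (sec V.1 (ModEtGroth.gen V.1) (𝟙 _)) x
    refine eq_of_cover N (c := g) (fun x => ⟨x, hx x⟩) fun x => ?_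
    obtain ⟨t, ht⟩ := hr x
    rw [map_zero, ← sec_genMap]
    have hrp : (sec (W x) T).symm t ≫ p = genMap (g x) := by
      apply (sec (W x) (ModEtGroth.gen V.1)).injective
      rw [sec_comp, Equiv.apply_symm_apply, genMap, Equiv.apply_symm_apply]
      exact ht
    rw [← hrp, Category.assoc, h _ ((sec (W x) T).symm t) ⟨⟨W x, hW x⟩, rfl⟩, sec_zero]

theorem locBounded {E : DModEt X} (hE : DCoh.IsQCohDMod (OEtRing X) E) :
    TowerStab.LocBounded (cover X) E := fun _ => by
  refine ⟨0, ?_⟩
  rintro Q ⟨W, rfl⟩ p
  haveI := W.2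
  haveI : (DCoh.HDMod (OEtRing X) E p).IsQuasicoherent := hE p
  exact small_gen W.1 (DCoh.HDMod (OEtRing X) E p)

theorem enoughKInj : Groth.L10.KInjDerived.EnoughKInjectives (ModEt X) := by
  haveI := ModEtGroth.isGrothendieckAbelian (X := X)
  infer_instance

theorem isRlimVia {E : DModEt X} (hE : DCoh.IsQCohDMod (OEtRing X) E)
    [HasProduct fun n : ℕ => ((DerivedCategory.TStructure.t : Triangulated.TStructure (DModEt X)).truncGE (-(n : ℤ))).obj E] :
    CohCx.IsRlimVia _ (TowerStab.tr E) E
      (fun n => ((DerivedCategory.TStructure.t : Triangulated.TStructure (DModEt X)).truncGEπ (-(n : ℤ))).app E) :=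
  haveI := enoughKInj (X := X)
  TowerStab.isRlimVia_truncGE (locBounded hE)

end Groth.L23.SpRlim
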