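import Groth.Agent.L23.SpRlim
import Groth.Agent.L23.ClsBij
import Groth.Agent.L10.RlimVia
import Groth.Agent.L09.ModEt.Exact

/-!
# Sections of the cohomology sheaves of a derived limit on the small etale site
-/

universe u

open CategoryTheory CategoryTheory.Limits AlgebraicGeometry Opposite AlgSp DerivedCategory

set_option autoImplicit false
set_option linter.style.haveILetI false
set_option backward.isDefEq.respectTransparency false
set_option backward.isDefEq.respectTransparency.types false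

attribute [local instance] HasDerivedCategory.standard

noncomputable section

namespace Groth.L23.SpRlimSect

open Groth.L09.ModEt Groth.L23.ModVanish Groth.L23.EpiLoc Groth.L23.CohNbhd Groth.L10 Groth.L23.SpRlim

variable {S : Scheme.{u}} {X : Sp S}

local notation "S0" => singleFunctor (ModEt X) 0

/-- The cohomology sheaf. -/
abbrev HS (K : DModEt X) (m : ℤ) : ModEt X := (DerivedCategory.homologyFunctor (ModEt X) m).obj K

/-- The map induced on sections of cohomology sheaves. -/
abbrev Hmap {K K' : DModEt X} (f : K ⟶ K') (m : ℤ) (W : EtOver X) :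
    sectModEt (HS K m) W →ₗ[Γ₀ W] sectModEt (HS K' m) W :=
  app₀ ((DerivedCategory.homologyFunctor (ModEt X) m).map f) W

/-- The section defined by a class. -/
def θ (K : DModEt X) (m : ℤ) (W : EtOver X) (x : (S0).obj (ModEtGroth.gen W) ⟶ K⟦m⟧) : sectModEt (HS K m) W :=
  sec W (HS K m) (LocalDetect.cls x ≫ (hShiftIso K m 0 m (by omega)).hom)

theorem θ_map {K K' : DModEt X} (f : K ⟶ K') (m : ℤ) (W : EtOver X)
    (x : (S0).obj (ModEtGroth.gen W) ⟶ K⟦m⟧) : θ K' m W (x ≫ f⟦m⟧') = Hmap f m W (θ K m W x) := by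
  refine Eq.trans (congrArg (sec W _) ?_) (sec_comp _ _)
  rw [LocalDetect.cls_comp, Category.assoc, Category.assoc, hShiftIso_nat]

theorem θ_res (K : DModEt X) (m : ℤ) {W W' : EtOver X} (g : W' ⟶ W)
    (x : (S0).obj (ModEtGroth.gen W) ⟶ K⟦m⟧) :
    θ K m W' ((S0).map (genMap g) ≫ x) = res (HS K m) g (θ K m W x) := by
  refine Eq.trans (congrArg (sec W' _) ?_) (sec_genMap g _)
  rw [LocalDetect.cls_map, Category.assoc]

theorem θ_zero (K : DModEt X) (m : ℤ) (W : EtOver X) : θ K m W 0 = 0 := by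
  rw [θ, LocalDetect.cls_zero, zero_comp, sec_zero]

theorem isQCoh_shift {K : DModEt X} (hK : DCoh.IsQCohDMod (OEtRing X) K) (m : ℤ) :
    DCoh.IsQCohDMod (OEtRing X) (K⟦m⟧) := fun i =>
  ObjectProperty.prop_of_iso (SheafOfModules.isQuasicoherent (OEtRing X)) (hShiftIso K m i (m + i) rfl).symm (hK (m + i))

theorem θ_bijective {K : DModEt X} (hK : DCoh.IsQCohDMod (OEtRing X) K) (m : ℤ) (W : EtOver X)
    [IsAffine W.obj.left.left] : Function.Bijective (θ K m W) := by
  haveI := enoughKInj (X := X)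
  haveI := ModEtGroth.isGrothendieckAbelian (X := X)
  haveI : HasProductsOfShape ℕ (DModEt X) := DerivedProd.hasProductsOfShape
  have h := ClsBij.bijective_cls (SpRlim.isRlimVia (isQCoh_shift hK m)) (ModEtGroth.gen W) fun i => by
    haveI : (DCoh.HDMod (OEtRing X) (K⟦m⟧) i).IsQuasicoherent := isQCoh_shift hK m i
    exact small_gen W (DCoh.HDMod (OEtRing X) (K⟦m⟧) i)
  have h2 : Function.Bijective (fun y : ModEtGroth.gen W ⟶ (DerivedCategory.homologyFunctor (ModEt X) 0).obj (K⟦m⟧) =>
      y ≫ (hShiftIso K m 0 m (by omega)).hom) :=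
    ⟨fun a b e => (cancel_mono _).1 e, fun b => ⟨b ≫ (hShiftIso K m 0 m (by omega)).inv, by simp⟩⟩
  exact (sec W (HS K m)).bijective.comp (h2.comp h)

theorem exists_θ_locally (K : DModEt X) (m : ℤ) (W : EtOver X) (s : sectModEt (HS K m) W) (e : ↥W.obj.left.left) :
    ∃ (V : EtOver X) (_ : IsAffine V.obj.left.left) (g : V ⟶ W), e ∈ Set.range g.hom.left.left ∧
      ∃ x, θ K m V x = res (HS K m) g s := by
  haveI := enoughKInj (X := X)
  obtain ⟨T, p, hp, ξ, hξ⟩ := LocalDetect.exists_lift ((sec W _).symm s ≫ (hShiftIso K m 0 m (by omega)).inv)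
  haveI := hp
  obtain ⟨V, hV, g, he, t, ht⟩ := exists_local_lift p (sec W (ModEtGroth.gen W) (𝟙 _)) e
  refine ⟨V, hV, g, he, (S0).map ((sec V T).symm t) ≫ ξ, ?_⟩
  have hr : (sec V T).symm t ≫ p = genMap g := by
    apply (sec V (ModEtGroth.gen W)).injective
    rw [sec_comp, Equiv.apply_symm_apply, genMap, Equiv.apply_symm_apply]
    exact ht
  rw [θ, LocalDetect.cls_map, hξ]
  simp only [Category.assoc, Iso.inv_hom_id, Category.comp_id]
  rw [reassoc_of% hr, sec_genMap, Equiv.apply_symm_apply]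

/-- Transition maps that are epimorphisms are surjective on sections over affine objects. -/
theorem surjective_app_of_qcoh {M N : ModEt X} (f : M ⟶ N) [Epi f] (hM : M.IsQuasicoherent) (hN : N.IsQuasicoherent)
    (W : EtOver X) [IsAffine W.obj.left.left] : Function.Surjective (app₀ f W) := by
  let C := ShortComplex.mk (kernel.ι f) f (kernel.condition f)
  have hC : C.ShortExact :=
    { exact := ShortComplex.exact_of_f_is_kernel C (kernelIsKernel f), mono_f := inferInstanceAs (Mono (kernel.ι f)),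
      epi_g := inferInstanceAs (Epi f) }
  haveI : C.X₁.IsQuasicoherent := isQuasicoherent_left hC.exact inferInstance hM hN
  exact Groth.L09.EtCoh.surjective_app (shortExact_toAb hC) (Groth.L09.EtCoh.cok_of_isQuasicoherent C.X₁) W

theorem limOne_of_surjective {A : ℕ → Type (u + 2)} [∀ n, AddCommGroup (A n)] (t : ∀ n, A (n + 1) →+ A n)
    (h : ∀ n, Function.Surjective (t n)) : CohCx.LimOneIsZero A t := fun x => by
  choose g hg using h
  let b : ∀ n, A n := fun n => Nat.rec (0 : A 0) (fun n bn => g n (bn - x n)) n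
  refine ⟨b, funext fun n => ?_⟩
  show b n - t n (g n (b n - x n)) = x n
  rw [hg, sub_sub_cancel]

section Lim

variable {K : ℕ → DModEt X} {t : ∀ n, K (n + 1) ⟶ K n} [HasProduct K] {L : DModEt X} {a : ∀ n, L ⟶ K n}
  (hK : ∀ n, DCoh.IsQCohDMod (OEtRing X) (K n))
  (ht : ∀ (q : ℤ) (n : ℕ), Epi ((DerivedCategory.homologyFunctor (ModEt X) q).map (t n)))

include hK ht in
theorem exists_comp_eq (q : ℤ) (W : EtOver X) [IsAffine W.obj.left.left] (n : ℕ)
    (y : (S0).obj (ModEtGroth.gen W) ⟶ (K n)⟦q⟧) :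
    ∃ x : (S0).obj (ModEtGroth.gen W) ⟶ (K (n + 1))⟦q⟧, x ≫ (t n)⟦q⟧' = y := by
  haveI := ht q n
  have hM : (HS (K (n + 1)) q).IsQuasicoherent := hK (n + 1) q
  have hN : (HS (K n) q).IsQuasicoherent := hK n q
  obtain ⟨s, hs⟩ := surjective_app_of_qcoh (M := HS (K (n + 1)) q) (N := HS (K n) q)
    ((DerivedCategory.homologyFunctor (ModEt X) q).map (t n)) hM hN W (θ (K n) q W y)
  obtain ⟨x, hx⟩ := (θ_bijective (hK (n + 1)) q W).2 s
  exact ⟨x, (θ_bijective (hK n) q W).1 ((θ_map (t n) q W x).trans ((congrArg _ hx).trans hs))⟩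

theorem limOne_rightComp {T : Type (u + 2)} [Category.{u + 2} T] [Preadditive T] (P : T) (Z : ℕ → T)
    (f : ∀ n, Z (n + 1) ⟶ Z n) (h : ∀ n (y : P ⟶ Z n), ∃ x, x ≫ f n = y) :
    CohCx.LimOneIsZero (fun n => P ⟶ Z n) (fun n => Preadditive.rightComp _ (f n)) :=
  limOne_of_surjective _ h

variable (hL : CohCx.IsRlimVia K t L a)

include hK ht hL in
theorem eq_zero_of_map_eq_zero (q : ℤ) (W : EtOver X) (s : sectModEt (HS L q) W)
    (h : ∀ n, Hmap (a n) q W s = 0) : s = 0 := by
  choose V hV g hg x hx using exists_θ_locally L q W s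
  refine eq_of_cover (HS L q) (c := g) (fun e => ⟨e, hg e⟩) fun e => ?_
  haveI := hV e
  rw [map_zero, ← hx e]
  have h0 : x e = 0 := (RlimVia.exists_lift_and_unique K t L a hL _ q).2 (limOne_rightComp _ _ _ (exists_comp_eq hK ht (q - 1) (V e))) (x e) fun n => by
    apply (θ_bijective (hK n) q (V e)).1
    rw [θ_map, hx e, θ_zero]
    exact (app₀_res _ (g e) s).trans ((congrArg (res _ (g e)) (h n)).trans (map_zero _))
  rw [h0, θ_zero]

include hK ht hL in
theorem injective_sections (q : ℤ) (W : EtOver X) (s s' : sectModEt (HS L q) W)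
    (h : ∀ n, Hmap (a n) q W s = Hmap (a n) q W s') : s = s' :=
  sub_eq_zero.1 (eq_zero_of_map_eq_zero hK ht hL q W (s - s') fun n => by rw [map_sub, h n, sub_self])

include hK hL in
theorem exists_sections_affine (q : ℤ) (W : EtOver X) [IsAffine W.obj.left.left]
    (x : ∀ n, sectModEt (HS (K n) q) W) (hx : ∀ n, Hmap (t n) q W (x (n + 1)) = x n) :
    ∃ s : sectModEt (HS L q) W, ∀ n, Hmap (a n) q W s = x n := by
  choose y hy using fun n => (θ_bijective (hK n) q W).2 (x n)
  obtain ⟨z, hz⟩ := (RlimVia.exists_lift_and_unique K t L a hL _ q).1 y fun n =>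
    (θ_bijective (hK n) q W).1 (by rw [θ_map, hy, hy, hx])
  exact ⟨θ L q W z, fun n => by rw [← θ_map, hz, hy]⟩

include hK ht hL in
theorem exists_sections (q : ℤ) (W : EtOver X) (x : ∀ n, sectModEt (HS (K n) q) W)
    (hx : ∀ n, Hmap (t n) q W (x (n + 1)) = x n) :
    ∃ s : sectModEt (HS L q) W, ∀ n, Hmap (a n) q W s = x n := by
  choose V hV g hg using exists_cover W
  have := fun e => haveI := hV e; exists_sections_affine hK hL q (V e) (fun n => res _ (g e) (x n))
    (fun n => (app₀_res _ (g e) (x (n + 1))).trans (congrArg (res _ (g e)) (hx n)))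
  choose r hr using this
  obtain ⟨s, hs⟩ := exists_glue (HS L q) (c := g) (fun e => ⟨e, hg e⟩) r fun i j =>
    injective_sections hK ht hL q _ _ _ fun n =>
      (app₀_res _ _ _).trans ((congrArg (res _ _) (hr i n)).trans
        ((res_congr _ (EtOver.pullback_condition (g i) (g j)) (x n)).trans
          ((congrArg (res _ _) (hr j n)).symm.trans (app₀_res _ _ _).symm)))
  exact ⟨s, fun n => eq_of_cover _ (c := g) (fun e => ⟨e, hg e⟩) fun e =>
    (app₀_res _ (g e) s).symm.trans ((congrArg _ (hs e)).trans (hr e n))⟩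

end Lim

end Groth.L23.SpRlimSect
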