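import Groth.Agent.L23.FibreDimFormula

/-!
# Dimensions of local rings of fibres of algebraic spaces under base change
-/

universe u

open CategoryTheory CategoryTheory.Limits AlgebraicGeometry AlgSp

set_option backward.isDefEq.respectTransparency.types false
set_option linter.style.haveILetI false

namespace Groth.L23.FibDimFormula

variable {S : Scheme.{u}} {X Y X' Y' : Sp S}

/-- A chart of the base change through a given point, over a given chart, with its projection. -/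
theorem exists_chart_over_fst (hY' : IsAlgSpace Y') {f : X ⟶ Y} {g : Y' ⟶ Y} {p : X' ⟶ X}
    {f' : X' ⟶ Y'} (sq : IsPullback p f' f g) {U V : Over S} {a : (yon S).obj U ⟶ X}
    {b : (yon S).obj V ⟶ Y} {h : U ⟶ V} (ha : RepWith @Etale a) (hb : RepWith @Etale b)
    (w : a ≫ f = (yon S).map h ≫ b) {u : U.left} {x' : Points X'} (e : Points.ofPt a u = Points.map p x') :
    ∃ (U' V₁ : Over S) (a' : (yon S).obj U' ⟶ X') (b' : (yon S).obj V₁ ⟶ Y') (h' : U' ⟶ V₁) (q : U' ⟶ U)
      (r : V₁ ⟶ V) (z : U'.left), RepWith @Etale a' ∧ RepWith @Etale b' ∧ a' ≫ f' = (yon S).map h' ≫ b' ∧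
        IsPullback q.left h'.left h.left r.left ∧ a' ≫ p = (yon S).map q ≫ a ∧ q.left z = u ∧
          Points.ofPt a' z = x' := by
  obtain ⟨V₀, d, hd, hds⟩ := hY'.atlas
  obtain ⟨V₁, r, s, sV⟩ := exists_isPullback_of_representable hb.1 (d ≫ g)
  let b' : (yon S).obj V₁ ⟶ Y' := (yon S).map s ≫ d
  have hb' : RepWith @Etale b' := repWith_comp (repWith_of_isPullback sV hb) hd
  have sU := IsPullback.of_hasPullback h r
  obtain ⟨a', ha'₁, ha'₂⟩ := sq.exists_lift ((yon S).map (pullback.fst h r) ≫ a)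
    ((yon S).map (pullback.snd h r) ≫ b') (by
      rw [Category.assoc, w, ← Functor.map_comp_assoc, pullback.condition, Functor.map_comp_assoc, sV.w]
      simp only [b', Category.assoc])
  obtain ⟨R, pu, px, sR⟩ : ∃ (R : Sp S) (pu : R ⟶ (yon S).obj U) (px : R ⟶ X'), IsPullback pu px a p :=
    ⟨_, _, _, IsPullback.of_hasPullback a p⟩
  have sRY : IsPullback pu (px ≫ f') (a ≫ f) g := sR.paste_vert sq
  obtain ⟨k, hk₁, hk₂⟩ := sR.exists_lift ((yon S).map (pullback.fst h r)) a' ha'₁.symm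
  have hk₂' : k ≫ px ≫ f' = (yon S).map (pullback.snd h r) ≫ b' := by rw [reassoc_of% hk₂, ha'₂]
  have sK : IsPullback k ((yon S).map (pullback.snd h r) ≫ (yon S).map s) (px ≫ f') d := by
    refine (IsPullback.of_bot ?_ ?_ sRY.flip).flip
    · rw [hk₁]
      have := ((sU.map (yon S)).paste_vert sV)
      rw [← w] at this
      exact this.flip
    · rw [hk₂', Category.assoc]
  have hk : RepWith @Etale k := repWith_of_isPullback sK.flip hd
  have hpx : RepWith @Etale px := repWith_of_isPullback sR ha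
  have ha' : RepWith @Etale a' := hk₂ ▸ repWith_comp hk hpx
  obtain ⟨ρ, hρ₁, hρ₂⟩ := exists_of_isPullback sR (Points.ofScheme U u) x' (by
    rw [← Points.ofPt_eq_map_ofScheme, e])
  obtain ⟨z, hz⟩ : ∃ z, Points.ofPt k z = ρ := by
    have : RepWith @Surjective k := repWith_of_isPullback sK.flip hds
    exact surjective_ofPt this ρ
  refine ⟨_, V₁, a', b', pullback.snd h r, pullback.fst h r, r, z, ha', hb', ha'₂, sU.map (Over.forget S), ha'₁,
    (Points.schemeEquiv U).injective ?_, by rw [← hk₂, ← Points.map_ofPt, hz, hρ₂]⟩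
  show Points.ofScheme U _ = Points.ofScheme U _
  rw [← ofPt_map, ← hk₁, ← Points.map_ofPt, hz, hρ₁]

theorem fd_unique {f : X ⟶ Y} (hf : LocP @LocallyOfFiniteType f) {U V : Over S} {a : (yon S).obj U ⟶ X}
    {b : (yon S).obj V ⟶ Y} {h : U ⟶ V} (ha : RepWith @Etale a) (hb : RepWith @Etale b)
    (w : a ≫ f = (yon S).map h ≫ b) (u : U.left) {e : WithBot ℕ∞}
    (he : HasAtMor (fun _ _ h u => ringKrullDim ↥((h.fiber (h u)).presheaf.stalk (h.asFiber u)) = e) f (Points.ofPt a u)) :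
    e = fd h.left u := by
  obtain ⟨U', V', a', b', h', u', ha', hb', w', eq, rfl⟩ := he
  haveI : LocallyOfFiniteType h.left := hf a b h ha hb w
  haveI : LocallyOfFiniteType h'.left := hf a' b' h' ha' hb' w'
  have d := fibreDimAt_of_other_chart ha hb ha' hb' w w' eq
  rw [Trdeg.fibreDimAt_eq_add, Trdeg.fibreDimAt_eq_add, Trdeg.resTrdeg_of_other_chart ha hb ha' hb' w w' eq] at d
  obtain ⟨n, hn⟩ := DimFun.exists_rtrdeg_eq h.left u
  rw [show Dual3.resTrdeg h.left u = (n : Cardinal) from hn, Cardinal.toENat_nat] at d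
  exact ((ENat.addLECancellable_of_ne_top (ENat.coe_ne_top n)).withBot.inj_left).1 d

theorem baseChange_formula (hY' : IsAlgSpace Y') (hX : IsAlgSpace X) {f : X ⟶ Y} {g : Y' ⟶ Y}
    {g' : X' ⟶ X} {f' : X' ⟶ Y'} (hYsp : IsAlgSpace Y) (sq : IsPullback g' f' f g)
    (hf : LocP @LocallyOfFiniteType f) (x' : Points X') :
    ∃ (e e' : WithBot ℕ∞) (r r' : Cardinal.{u}),
      (∀ v, HasAtMor (fun _ _ h u => ringKrullDim ↥((h.fiber (h u)).presheaf.stalk (h.asFiber u)) = v) f (Points.map g' x') → v = e) ∧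
      (∀ v, HasAtMor (fun _ _ h u => Dual3.resTrdeg h u = v) f (Points.map g' x') → v = r) ∧
      (∀ v, HasAtMor (fun _ _ h u => ringKrullDim ↥((h.fiber (h u)).presheaf.stalk (h.asFiber u)) = v) f' x' → v = e') ∧
      (∀ v, HasAtMor (fun _ _ h u => Dual3.resTrdeg h u = v) f' x' → v = r') ∧
      e' + ((Cardinal.toENat r' : ℕ∞) : WithBot ℕ∞) = e + ((Cardinal.toENat r : ℕ∞) : WithBot ℕ∞) ∧ e ≤ e' := by
  obtain ⟨V, b, hb, hbs⟩ := hYsp.atlas
  obtain ⟨U, a, h, ha, w, has⟩ := exists_chart_over hX hYsp f hb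
  obtain ⟨u, hu⟩ := surjective_ofPt (has hbs) (Points.map g' x')
  obtain ⟨U', V₁, a', b', h', q, r, z, ha', hb', w', s, hz, hx⟩ :=
    QFL.exists_chart_of_isPullback hY' sq ha hb w (u := u) (x' := x') hu
  haveI : LocallyOfFiniteType h.left := hf a b h ha hb w
  haveI : LocallyOfFiniteType h'.left := MorphismProperty.of_isPullback s ‹_›
  have hf' : LocP @LocallyOfFiniteType f' := locP_of_isPullback etLocal_lft hX hYsp hY' sq hf
  refine ⟨fd h.left u, fd h'.left z, Dual3.resTrdeg h.left u, Dual3.resTrdeg h'.left z, ?_, ?_, ?_, ?_, ?_, ?_⟩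
  · intro v hv
    rw [← hu] at hv
    exact fd_unique hf ha hb w u hv
  · intro v hv
    rw [← hu, Trdeg.hasAtMor_resTrdeg_iff (· = v) ha hb w u] at hv
    exact hv.symm
  · intro v hv
    rw [← hx] at hv
    exact fd_unique hf' ha' hb' w' z hv
  · intro v hv
    rw [← hx, Trdeg.hasAtMor_resTrdeg_iff (· = v) ha' hb' w' z] at hv
    exact hv.symm
  · have d := fibreDimAt_of_isPullback s z
    rw [hz, Trdeg.fibreDimAt_eq_add, Trdeg.fibreDimAt_eq_add] at d
    exact d
  · rw [← hz]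
    exact fd_le s z

theorem exists_point_fd_eq (hY' : IsAlgSpace Y') {f : X ⟶ Y} {g : Y' ⟶ Y}
    {g' : X' ⟶ X} {f' : X' ⟶ Y'} (sq : IsPullback g' f' f g)
    (hf : LocP @LocallyOfFiniteType f) (x : Points X) (y' : Points Y') (e : WithBot ℕ∞)
    (hxy : Points.map f x = Points.map g y')
    (he : HasAtMor (fun _ _ h u => ringKrullDim ↥((h.fiber (h u)).presheaf.stalk (h.asFiber u)) = e) f x) :
    ∃ x' : Points X', Points.map g' x' = x ∧ Points.map f' x' = y' ∧
      HasAtMor (fun _ _ h u => ringKrullDim ↥((h.fiber (h u)).presheaf.stalk (h.asFiber u)) = e) f' x' := by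
  obtain ⟨U, V, a, b, h, u, ha, hb, w, rfl, rfl⟩ := he
  obtain ⟨x₀, hx₀, hy₀⟩ := exists_of_isPullback sq _ y' hxy
  obtain ⟨U', V₁, a', b', h', q, r, z, ha', hb', w', s, ha'g, hz, hx⟩ :=
    exists_chart_over_fst hY' sq ha hb w (u := u) (x' := x₀) hx₀.symm
  haveI : LocallyOfFiniteType h.left := hf a b h ha hb w
  have hru : h.left u = r.left (h'.left z) := by
    rw [← hz, ← Scheme.Hom.comp_apply, ← Scheme.Hom.comp_apply, s.w]
  obtain ⟨z', hz'₁, hz'₂, hz'₃⟩ := exists_fd_eq s u (h'.left z) hru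
  have hy : Points.map f' (Points.ofPt a' z') = y' := by
    rw [Points.map_ofPt, w', ofPt_comp, hz'₂, ← ofPt_comp, ← w', ← Points.map_ofPt, hx, hy₀]
  refine ⟨Points.ofPt a' z', ?_, hy, U', V₁, a', b', h', z', ha', hb', w', rfl, hz'₃⟩
  rw [Points.map_ofPt, ha'g, ofPt_comp, hz'₁]

end Groth.L23.FibDimFormula
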