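import Mathlib.AlgebraicGeometry.Morphisms.Etale
import Mathlib.AlgebraicGeometry.Morphisms.Separated
import Mathlib.AlgebraicGeometry.PullbackCarrier
import Mathlib.RingTheory.Etale.StandardEtale
import Mathlib.AlgebraicGeometry.Morphisms.UniversallyOpen
import Mathlib.AlgebraicGeometry.Morphisms.Flat
import Mathlib.RingTheory.Unramified.LocalStructure
import Mathlib.FieldTheory.IsAlgClosed.AlgebraicClosure

/-!
# Properties of morphisms of schemes over a base: etale local on the source, smooth local on the base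

If such a property is stable under postcomposition with open immersions, it is stable under
postcomposition with etale morphisms (induction on a bound for the geometric fibres).
-/

universe u

open CategoryTheory CategoryTheory.Limits AlgebraicGeometry

set_option backward.isDefEq.respectTransparency.types false

namespace Groth.L23.StSch

/-- A property of morphisms `f : X ⟶ Y` of schemes over `S`, the structure map of `Y` being given. -/
abbrev RelProp (S : Scheme.{u}) := ∀ ⦃X Y : Scheme.{u}⦄, (Y ⟶ S) → (X ⟶ Y) → Prop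

/-- Etale local on the source, smooth local on the base, stable under postcomposition with open
immersions. -/
structure StProp {S : Scheme.{u}} (Q : RelProp S) : Prop where
  precomp : ∀ {X' X Y : Scheme.{u}} (s : Y ⟶ S) (g : X' ⟶ X) (f : X ⟶ Y), Etale g → Q s f → Q s (g ≫ f)
  ofCover : ∀ {ι : Type u} {X Y : Scheme.{u}} (s : Y ⟶ S) (f : X ⟶ Y) (Xi : ι → Scheme.{u})
    (g : ∀ i, Xi i ⟶ X), (∀ i, Etale (g i)) → (∀ x : X, ∃ i, x ∈ Set.range (g i)) →
    (∀ i, Q s (g i ≫ f)) → Q s f
  bc : ∀ {X Y X' Y' : Scheme.{u}} (s : Y ⟶ S) (f : X ⟶ Y) (g : Y' ⟶ Y) (f' : X' ⟶ Y') (g' : X' ⟶ X),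
    IsPullback g' f' f g → Smooth g → Q s f → Q (g ≫ s) f'
  desc : ∀ {X Y X' Y' : Scheme.{u}} (s : Y ⟶ S) (f : X ⟶ Y) (g : Y' ⟶ Y) (f' : X' ⟶ Y') (g' : X' ⟶ X),
    IsPullback g' f' f g → Smooth g → Surjective g → Q (g ≫ s) f' → Q s f
  openPost : ∀ {X Y Z : Scheme.{u}} (s : Z ⟶ S) (f : X ⟶ Y) (j : Y ⟶ Z), IsOpenImmersion j →
    Q (j ≫ s) f → Q s (f ≫ j)

/-- The geometric fibres of `g` have at most `d` points. -/
def GeomBound (d : ℕ) {Y Z : Scheme.{u}} (g : Y ⟶ Z) : Prop :=
  ∀ (K : Type u) [Field K] [IsAlgClosed K] (l : Fin (d + 1) → (Spec (.of K) ⟶ Y)),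
    Function.Injective l → (∀ i j, l i ≫ g = l j ≫ g) → False

/-- A geometric point at any point. -/
lemma exists_geomPt {Y : Scheme.{u}} (y : Y) :
    ∃ (K : Type u) (_ : Field K) (_ : IsAlgClosed K) (p : Spec (.of K) ⟶ Y), ∀ z, p z = y := by
  refine ⟨AlgebraicClosure (Y.residueField y), inferInstance, inferInstance,
    Spec.map (CommRingCat.ofHom (algebraMap (Y.residueField y) (AlgebraicClosure (Y.residueField y)))) ≫
      Y.fromSpecResidueField y, fun z => ?_⟩
  have := Scheme.range_fromSpecResidueField y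
  have h : (Spec.map (CommRingCat.ofHom (algebraMap (Y.residueField y) (AlgebraicClosure (Y.residueField y)))) ≫
      Y.fromSpecResidueField y) z ∈ Set.range (Y.fromSpecResidueField y) := ⟨_, rfl⟩
  rwa [this, Set.mem_singleton_iff] at h

variable {S : Scheme.{u}} {Q : RelProp S}

open scoped Classical

lemma StProp.ofIsEmpty (hQ : StProp Q) {X Y : Scheme.{u}} [IsEmpty X] (s : Y ⟶ S) (f : X ⟶ Y) : Q s f :=
  hQ.ofCover s f (ι := PEmpty) PEmpty.elim (fun i => i.elim) (fun i => i.elim) (fun x => isEmptyElim x)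
    fun i => i.elim

theorem postcomp_bounded (hQ : StProp Q) : ∀ (d : ℕ) {X Y Z : Scheme.{u}} (s : Z ⟶ S) (f : X ⟶ Y) (g : Y ⟶ Z),
    Etale g → IsSeparated g → GeomBound d g → Q (g ≫ s) f → Q s (f ≫ g) := by
  intro d
  induction d with
  | zero =>
    intro X Y Z s f g _ _ hb _
    have : IsEmpty X := ⟨fun x => by
      obtain ⟨K, _, _, p, -⟩ := exists_geomPt (f x)
      exact hb K (fun _ => p) (fun i j _ => Fin.ext (by omega)) fun _ _ => rfl⟩
    exact hQ.ofIsEmpty s _
  | succ d ih =>
    intro X Y Z s f g hg hs hb hf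
    let U0 : Z.Opens := ⟨Set.range g, g.isOpenMap.isOpen_range⟩
    let g0 : Y ⟶ U0.toScheme := IsOpenImmersion.lift U0.ι g (by rw [Scheme.Opens.range_ι]; exact le_rfl)
    have hg0 : g0 ≫ U0.ι = g := IsOpenImmersion.lift_fac _ _ _
    have : Etale g0 := by
      have : Etale (g0 ≫ U0.ι) := by rw [hg0]; infer_instance
      exact Etale.of_comp g0 U0.ι
    have : IsSeparated g0 := by
      have : IsSeparated (g0 ≫ U0.ι) := by rw [hg0]; infer_instance
      exact IsSeparated.of_comp g0 U0.ι
    have : Surjective g0 := ⟨fun z => by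
      obtain ⟨y, hy⟩ : z.1 ∈ Set.range g := z.2
      refine ⟨y, U0.ι.isOpenEmbedding.injective ?_⟩
      rw [← Scheme.Hom.comp_apply, hg0, hy]; rfl⟩
    have hQ0 : Q (g0 ≫ U0.ι ≫ s) f := by rwa [← Category.assoc, hg0]
    suffices Q (U0.ι ≫ s) (f ≫ g0) by
      have := hQ.openPost s _ U0.ι inferInstance this
      rwa [Category.assoc, hg0] at this
    refine hQ.desc _ _ g0 _ _ (IsPullback.of_hasPullback (f ≫ g0) g0) inferInstance inferInstance ?_
    let Γ : X ⟶ pullback (f ≫ g0) g0 := pullback.lift (𝟙 X) f (by simp)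
    let h : pullback (f ≫ g0) g0 ⟶ pullback g0 g0 :=
      pullback.map _ _ _ _ f (𝟙 Y) (𝟙 _) (by simp) (by simp)
    have hh1 : h ≫ pullback.fst g0 g0 = pullback.fst _ _ ≫ f := pullback.lift_fst _ _ _
    have hh2 : h ≫ pullback.snd g0 g0 = pullback.snd _ _ :=
      (pullback.lift_snd _ _ _).trans (Category.comp_id _)
    let R : (pullback g0 g0).Opens := ⟨(Set.range (pullback.diagonal g0))ᶜ,
      (pullback.diagonal g0).isClosedEmbedding.isClosed_range.isOpen_compl⟩
    let R' := h ⁻¹ᵁ R
    refine hQ.ofCover _ _ (ι := ULift.{u} Bool) (fun b => cond b.down X R'.toScheme)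
      (fun b => match b with | ⟨true⟩ => Γ | ⟨false⟩ => R'.ι) ?_ ?_ ?_
    · rintro ⟨_ | _⟩
      · exact inferInstanceAs (Etale R'.ι)
      · have : Etale (Γ ≫ pullback.fst _ _) := by
          rw [pullback.lift_fst]; infer_instance
        exact Etale.of_comp Γ (pullback.fst _ _)
    · intro w
      by_cases hw : h w ∈ Set.range (pullback.diagonal g0)
      · refine ⟨⟨true⟩, ?_⟩
        let p := (pullback (f ≫ g0) g0).fromSpecResidueField w
        have hp : Set.range (p ≫ h) ⊆ Set.range (pullback.diagonal g0) := by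
          rintro _ ⟨z, rfl⟩
          have hz : p z ∈ Set.range p := ⟨z, rfl⟩
          rw [Scheme.range_fromSpecResidueField, Set.mem_singleton_iff] at hz
          rw [Scheme.Hom.comp_apply, hz]; exact hw
        have ht := IsOpenImmersion.lift_fac (pullback.diagonal g0) (p ≫ h) hp
        set t := IsOpenImmersion.lift (pullback.diagonal g0) (p ≫ h) hp
        have e1 : t = p ≫ pullback.fst _ _ ≫ f := by
          have := congr($ht ≫ pullback.fst g0 g0)
          simpa [hh1] using this
        have e2 : t = p ≫ pullback.snd _ _ := by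
          have := congr($ht ≫ pullback.snd g0 g0)
          simpa [hh2] using this
        have : (p ≫ pullback.fst _ _) ≫ Γ = p := by
          refine pullback.hom_ext ?_ ?_
          · rw [Category.assoc, pullback.lift_fst, Category.comp_id]
          · simp only [Γ, Category.assoc]
            rw [pullback.lift_snd]
            exact e1.symm.trans e2
        have hw' : w ∈ Set.range p := by rw [Scheme.range_fromSpecResidueField]; rfl
        obtain ⟨z, hz⟩ := hw'
        refine ⟨(p ≫ pullback.fst _ _) z, ?_⟩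
        show Γ ((p ≫ pullback.fst _ _) z) = w
        rw [← Scheme.Hom.comp_apply, this, hz]
      · refine ⟨⟨false⟩, ?_⟩
        show w ∈ Set.range R'.ι
        rw [Scheme.Opens.range_ι]
        exact hw
    · rintro ⟨_ | _⟩
      · have sq1 : IsPullback (pullback.fst (f ≫ g0) g0) h f (pullback.fst g0 g0) := by
          refine IsPullback.of_bot ?_ hh1.symm (IsPullback.of_hasPullback g0 g0)
          rw [hh2]
          exact IsPullback.of_hasPullback (f ≫ g0) g0
        have sq2 := ((isPullback_morphismRestrict h R).flip).paste_horiz sq1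
        have h1 := hQ.bc _ f _ _ _ sq2 inferInstance hQ0
        have e : (R.ι ≫ pullback.fst g0 g0) ≫ g0 ≫ U0.ι ≫ s =
            (R.ι ≫ pullback.snd g0 g0) ≫ g0 ≫ U0.ι ≫ s := by
          simp only [Category.assoc, pullback.condition_assoc]
        rw [e] at h1
        have h2 := ih _ (h ∣_ R) (R.ι ≫ pullback.snd g0 g0) inferInstance inferInstance ?_ h1
        · show Q _ (R'.ι ≫ pullback.snd _ _)
          rw [← Category.assoc (h ∣_ R) R.ι, morphismRestrict_ι, Category.assoc, hh2] at h2
          simpa only [Category.assoc] using h2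
        · intro K _ _ l hl hl'
          refine hb K (Fin.cons (l 0 ≫ R.ι ≫ pullback.snd _ _) fun i => l i ≫ R.ι ≫ pullback.fst _ _) ?_ ?_
          · rw [Fin.cons_injective_iff]
            refine ⟨?_, fun i j hij => hl ?_⟩
            · rintro ⟨i, hi⟩
              have hd : l i ≫ R.ι = (l i ≫ R.ι ≫ pullback.fst g0 g0) ≫ pullback.diagonal g0 := by
                refine pullback.hom_ext ?_ ?_
                · simp
                · simp only [Category.assoc, pullback.diagonal_snd, Category.comp_id]
                  exact (hl' i 0).trans hi.symm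
              have z : Spec (.of K) := default
              have hz : (R.ι ((l i) z)) ∈ Set.range (pullback.diagonal g0) := by
                rw [← Scheme.Hom.comp_apply, hd]; exact ⟨_, rfl⟩
              exact ((l i) z).2 hz
            · rw [← cancel_mono R.ι]
              refine pullback.hom_ext ?_ ?_
              · simpa using hij
              · simpa using hl' i j
          · have key : ∀ i, (Fin.cons (l 0 ≫ R.ι ≫ pullback.snd _ _)
                (fun i => l i ≫ R.ι ≫ pullback.fst _ _) : Fin (d + 2) → _) i ≫ g =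
                l 0 ≫ R.ι ≫ pullback.snd _ _ ≫ g := by
              refine Fin.cases ?_ fun i => ?_
              · simp
              · rw [Fin.cons_succ]
                have := hl' i 0
                simp only [Category.assoc] at this ⊢
                rw [← hg0, pullback.condition_assoc]
                exact congr($this ≫ g0 ≫ U0.ι).trans (by simp) |>.symm.symm
            exact fun i j => (key i).trans (key j).symm
      · show Q _ (Γ ≫ pullback.snd _ _)
        rw [pullback.lift_snd]
        exact hQ0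

/-- The geometric fibres of a standard etale morphism are bounded by the degree. -/
lemma geomBound_of_standardEtale (R A : Type u) [CommRing R] [CommRing A] [Algebra R A]
    (P : StandardEtalePresentation R A) :
    GeomBound P.f.natDegree (Spec.map (CommRingCat.ofHom (algebraMap R A))) := by
  intro K _ _ l hl hl'
  choose φ hφ using fun i => (⟨_, Spec.map_preimage (l i)⟩ : ∃ φ, Spec.map φ = l i)
  have hc : ∀ i, (φ i).hom.comp (algebraMap R A) = (φ 0).hom.comp (algebraMap R A) := fun i => by
    have := hl' i 0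
    rw [← hφ i, ← hφ 0, ← Spec.map_comp, ← Spec.map_comp] at this
    exact congr(CommRingCat.Hom.hom $(Spec.map_injective this))
  algebraize [(φ 0).hom.comp (algebraMap R A)]
  let ψ : ∀ _ : Fin (P.f.natDegree + 1), A →ₐ[R] K := fun i => { (φ i).hom with commutes' := fun r => congr($(hc i) r) }
  have hne : (P.f.map (algebraMap R K)) ≠ 0 := (P.monic_f.map _).ne_zero
  have hroot : ∀ i, ψ i P.x ∈ (P.f.map (algebraMap R K)).roots.toFinset := fun i => by
    rw [Multiset.mem_toFinset, Polynomial.mem_roots hne, Polynomial.IsRoot, Polynomial.eval_map_algebraMap,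
      Polynomial.aeval_algHom_apply, P.hasMap.1, map_zero]
  have hinj : Function.Injective fun i => ψ i P.x := fun i j hij => hl (by
    rw [← hφ i, ← hφ j]
    congr 1
    ext a
    exact congr($(P.hom_ext (f₁ := ψ i) (f₂ := ψ j) hij) a))
  have h1 := Finset.card_le_card_of_injOn (s := Finset.univ) _ (fun i _ => hroot i) hinj.injOn
  rw [Finset.card_univ, Fintype.card_fin] at h1
  have h2 := (Multiset.toFinset_card_le _).trans (Polynomial.card_roots' (P.f.map (algebraMap R K)))
  have h3 := P.f.natDegree_map_le (f := algebraMap R K)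
  omega

/-- Stability under postcomposition with etale morphisms. -/
theorem postcomp_etale (hQ : StProp Q) {X Y Z : Scheme.{u}} (s : Z ⟶ S) (f : X ⟶ Y) (g : Y ⟶ Z) (hg : Etale g)
    (hf : Q (g ≫ s) f) : Q s (f ≫ g) := by
  have loc : ∀ y : Y, ∃ (A B : CommRingCat.{u}) (jY : Spec A ⟶ Y) (jZ : Spec B ⟶ Z) (φ : B ⟶ A) (d : ℕ),
      IsOpenImmersion jY ∧ IsOpenImmersion jZ ∧ y ∈ Set.range jY ∧ jY ≫ g = Spec.map φ ≫ jZ ∧
      Etale (Spec.map φ) ∧ GeomBound d (Spec.map φ) := by
    intro y
    obtain ⟨_, ⟨V, hV, rfl⟩, hfy, -⟩ :=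
      Z.isBasis_affineOpens.exists_subset_of_mem_open (Set.mem_univ (g y)) isOpen_univ
    obtain ⟨_, ⟨U, hU, rfl⟩, hyU, hUV⟩ :=
      Y.isBasis_affineOpens.exists_subset_of_mem_open (show y ∈ g ⁻¹ᵁ V from hfy) (g ⁻¹ᵁ V).2
    have hs := HasRingHomProperty.appLE @Etale g inferInstance ⟨V, hV⟩ ⟨U, hU⟩ hUV
    algebraize [(g.appLE V U hUV).hom]
    have : Algebra.Etale Γ(Z, V) Γ(Y, U) := RingHom.etale_algebraMap.1 hs
    let p := (hU.primeIdealOf ⟨y, hyU⟩).asIdeal
    obtain ⟨h, hp, ⟨⟨P⟩⟩⟩ := Algebra.IsEtaleAt.exists_isStandardEtale (R := Γ(Z, V)) p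
    refine ⟨.of (Localization.Away h), Γ(Z, V),
      Spec.map (CommRingCat.ofHom (algebraMap Γ(Y, U) (Localization.Away h))) ≫ hU.fromSpec, hV.fromSpec,
      CommRingCat.ofHom (algebraMap Γ(Z, V) (Localization.Away h)), P.f.natDegree, inferInstance, inferInstance,
      ?_, ?_, ?_, geomBound_of_standardEtale _ _ P⟩
    · have hr : hU.primeIdealOf ⟨y, hyU⟩ ∈ Set.range
          (PrimeSpectrum.comap (algebraMap Γ(Y, U) (Localization.Away h))) := by
        rw [PrimeSpectrum.localization_away_comap_range (Localization.Away h) h]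
        exact hp
      obtain ⟨q, hq⟩ := hr
      refine ⟨q, ?_⟩
      rw [Scheme.Hom.comp_apply]
      exact (congr_arg hU.fromSpec hq).trans (hU.fromSpec_primeIdealOf ⟨y, hyU⟩)
    · rw [Category.assoc, ← IsAffineOpen.SpecMap_appLE_fromSpec g hV hU hUV, ← Category.assoc, ← Spec.map_comp]
      rfl
    · exact (HasRingHomProperty.Spec_iff (P := @Etale)).2
        (RingHom.etale_algebraMap.2 (haveI : Algebra.IsStandardEtale Γ(Z, V) (Localization.Away h) := ⟨⟨P⟩⟩; inferInstance))
  choose A B jY jZ φ d hjY hjZ hy hsq he hb using loc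
  refine hQ.ofCover s (f ≫ g) (ι := X) (fun x => pullback f (jY (f x))) (fun x => pullback.fst _ _)
    (fun x => inferInstance) (fun x => ⟨x, ?_⟩) (fun x => ?_)
  · rw [Scheme.Pullback.range_fst]
    exact hy (f x)
  · have := hjY (f x)
    have h1 := hQ.bc _ f (jY (f x)) _ _ (IsPullback.of_hasPullback f (jY (f x))) inferInstance hf
    rw [← Category.assoc, hsq, Category.assoc] at h1
    have h2 := postcomp_bounded hQ _ _ _ _ (he _) inferInstance (hb _) h1
    have h3 := hQ.openPost _ _ _ (hjZ _) h2
    rwa [Category.assoc, ← hsq, ← pullback.condition_assoc] at h3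

end Groth.L23.StSch
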