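import Groth.Agent.L23.StSchEtale
import Mathlib.AlgebraicGeometry.Morphisms.Smooth
import Mathlib.RingTheory.TensorProduct.MvPolynomial
import Mathlib.Combinatorics.Nullstellensatz
import Mathlib.RingTheory.RootsOfUnity.EnoughRootsOfUnity
import Mathlib.FieldTheory.IsSepClosed
import Mathlib.RingTheory.RootsOfUnity.AlgebraicallyClosed

/-!
# Etale-smooth locality on source and target for schemes

A property of morphisms which is etale local on the source, smooth local on the base and stable under
postcomposition with open immersions holds for `f : X ⟶ Y` as soon as it holds, near every point, for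
`U ⟶ V` with `V ⟶ Y` smooth and `U ⟶ X ×[Y] V` etale.  The smooth chart is reduced to an affine space,
which has enough translations defined after etale extensions of the base by roots of unity.
-/

universe u

open CategoryTheory CategoryTheory.Limits AlgebraicGeometry

set_option backward.isDefEq.respectTransparency.types false

namespace Groth.L23.StSch

attribute [local instance] MvPolynomial.algebraMvPolynomial

/-- The coefficientwise extension of an etale algebra to polynomial rings is etale. -/
lemma etale_mvPolynomial_map (R T : Type u) [CommRing R] [CommRing T] [Algebra R T] [Algebra.Etale R T]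
    (σ : Type) : (MvPolynomial.map (σ := σ) (algebraMap R T)).Etale := by
  have : Algebra.Etale (MvPolynomial σ R) (MvPolynomial σ T) :=
    Algebra.Etale.of_equiv (Algebra.IsPushout.equiv R (MvPolynomial σ R) T (MvPolynomial σ T))
  exact RingHom.etale_algebraMap.2 this

/-- The pair presenting `R[1/m][T]/(T^m - 1)`. -/
noncomputable def rootsPair (R : Type u) [CommRing R] (m : ℕ) (hm : m ≠ 0) : StandardEtalePair R where
  f := Polynomial.X ^ m - 1
  monic_f := Polynomial.monic_X_pow_sub_C 1 hm
  g := Polynomial.C (m : R)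
  cond := ⟨Polynomial.X, -Polynomial.C (m : R), 1, by
    obtain ⟨k, rfl⟩ : ∃ k, m = k + 1 := ⟨m - 1, by omega⟩
    simp only [Polynomial.derivative_sub, Polynomial.derivative_X_pow, Polynomial.derivative_one,
      Nat.add_sub_cancel, sub_zero, pow_one]
    ring⟩

/-- Translations by etale-local sections reach every non-empty open of affine space. -/
lemma exists_translate (R : Type u) [CommRing R] (L : Type u) [Field L] [IsAlgClosed L] [Algebra R L] {n : ℕ}
    (a : Fin n → L) (h : MvPolynomial (Fin n) L) (hne : h ≠ 0) :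
    ∃ (R' : Type u) (_ : CommRing R') (_ : Algebra R R') (_ : Algebra.Etale R R') (ι : R' →ₐ[R] L)
      (b : Fin n → R'), MvPolynomial.eval (fun i => a i + ι (b i)) h ≠ 0 := by
  classical
  obtain ⟨m, hmD, hmL⟩ : ∃ m : ℕ, h.totalDegree < m ∧ (m : L) ≠ 0 := by
    by_cases h1 : ((h.totalDegree + 1 : ℕ) : L) = 0
    · refine ⟨h.totalDegree + 2, by omega, fun h2 => one_ne_zero (α := L) ?_⟩
      push_cast at h1 h2
      linear_combination h2 - h1
    · exact ⟨h.totalDegree + 1, by omega, h1⟩
  have : NeZero (m : L) := ⟨hmL⟩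
  have : NeZero m := ⟨by omega⟩
  obtain ⟨ζ, hζ⟩ := HasEnoughRootsOfUnity.exists_primitiveRoot L m
  let T : Fin n → Finset L := fun i => (Finset.range m).image fun k => a i + ζ ^ k
  have hT : ∀ i, (T i).card = m := fun i => by
    rw [Finset.card_image_of_injOn, Finset.card_range]
    intro k hk l hl hkl
    exact hζ.pow_inj (Finset.mem_range.1 hk) (Finset.mem_range.1 hl) (add_left_cancel hkl)
  obtain ⟨c, hc, hev⟩ : ∃ c : Fin n → L, (∀ i, c i ∈ T i) ∧ MvPolynomial.eval c h ≠ 0 := by
    by_contra! H
    exact hne (MvPolynomial.eq_zero_of_eval_zero_at_prod_finset h T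
      (fun i => by rw [hT i]; exact (MvPolynomial.degreeOf_le_totalDegree h i).trans_lt hmD) H)
  simp only [T, Finset.mem_image, Finset.mem_range] at hc
  choose k hk hck using hc
  let P := rootsPair R m (by omega)
  have hmap : P.HasMap ζ := by
    refine ⟨?_, ?_⟩
    · simp [P, rootsPair, hζ.pow_eq_one]
    · simp [P, rootsPair, hmL]
  refine ⟨P.Ring, inferInstance, inferInstance, inferInstance, P.lift ζ hmap, fun i => P.X ^ k i, ?_⟩
  have : (fun i => a i + P.lift ζ hmap (P.X ^ k i)) = c := funext fun i => by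
    rw [map_pow, StandardEtalePair.lift_X, hck i]
  rwa [this]

variable {S : Scheme.{u}} {Q : RelProp S}

/-- The projection of affine space over an affine scheme. -/
noncomputable abbrev proj (R : CommRingCat.{u}) (n : ℕ) : Spec (.of (MvPolynomial (Fin n) R)) ⟶ Spec R :=
  Spec.map (CommRingCat.ofHom MvPolynomial.C)

lemma smooth_proj (R : CommRingCat.{u}) (n : ℕ) : Smooth (proj R n) :=
  (HasRingHomProperty.Spec_iff (P := @Smooth)).2
    ((RingHom.smooth_algebraMap (R := R) (S := MvPolynomial (Fin n) R)).2 ⟨inferInstance, inferInstance⟩)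

lemma surjective_proj (R : CommRingCat.{u}) (n : ℕ) : Surjective (proj R n) := ⟨fun z => by
  refine ⟨Spec.map (CommRingCat.ofHom (MvPolynomial.eval fun _ => (0 : R))) z, ?_⟩
  rw [← Scheme.Hom.comp_apply, ← Spec.map_comp]
  have : CommRingCat.ofHom MvPolynomial.C ≫ CommRingCat.ofHom (MvPolynomial.eval fun _ : Fin n => (0 : R)) = 𝟙 R := by
    ext r; simp; rfl
  rw [this, Spec.map_id]; rfl⟩

/-- A geometric point with prescribed images in two morphisms with the same target. -/
lemma exists_common_geomPt {X Y Z : Scheme.{u}} (f : X ⟶ Z) (g : Y ⟶ Z) (x : X) (y : Y) (h : f x = g y) :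
    ∃ (K : Type u) (_ : Field K) (_ : IsAlgClosed K) (p : Spec (.of K) ⟶ X) (q : Spec (.of K) ⟶ Y),
      p ≫ f = q ≫ g ∧ (∀ z, p z = x) ∧ ∀ z, q z = y := by
  obtain ⟨z, hz1, hz2⟩ := Scheme.Pullback.exists_preimage_pullback x y h
  obtain ⟨K, _, _, r, hr⟩ := exists_geomPt z
  exact ⟨K, inferInstance, inferInstance, r ≫ pullback.fst f g, r ≫ pullback.snd f g,
    by rw [Category.assoc, pullback.condition, Category.assoc],
    fun t => by rw [Scheme.Hom.comp_apply, hr, hz1], fun t => by rw [Scheme.Hom.comp_apply, hr, hz2]⟩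

theorem of_affineSpace_chart (hQ : StProp Q) {R : CommRingCat.{u}} {n : ℕ} {X U : Scheme.{u}} (s : Spec R ⟶ S)
    (f : X ⟶ Spec R) (e : U ⟶ pullback f (proj R n)) (he : Etale e)
    (hs : Surjective (e ≫ pullback.fst f (proj R n))) (hk : Q (proj R n ≫ s) (e ≫ pullback.snd f (proj R n))) :
    Q s f := by
  refine hQ.desc s f _ _ _ (IsPullback.of_hasPullback f (proj R n)) (smooth_proj R n) (surjective_proj R n) ?_
  have loc : ∀ w : ↥(pullback f (proj R n)), ∃ (U3 : Scheme.{u}) (m : U3 ⟶ pullback f (proj R n)),
      Etale m ∧ w ∈ Set.range m ∧ Q (proj R n ≫ s) (m ≫ pullback.snd f (proj R n)) := by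
    intro w
    obtain ⟨u0, hu0⟩ := hs.surj (pullback.fst f (proj R n) w)
    obtain ⟨L, _, _, q, p, hqp, -, hp⟩ :=
      exists_common_geomPt (e ≫ pullback.fst f (proj R n)) (pullback.fst f (proj R n)) u0 w hu0
    obtain ⟨ψ, hψ⟩ : ∃ ψ, Spec.map ψ = p ≫ pullback.snd f (proj R n) := ⟨_, Spec.map_preimage _⟩
    obtain ⟨χ, hχ⟩ : ∃ χ, Spec.map χ = q ≫ e ≫ pullback.snd f (proj R n) := ⟨_, Spec.map_preimage _⟩
    algebraize [ψ.hom.comp (MvPolynomial.C (σ := Fin n) (R := R))]
    have hρ : p ≫ pullback.fst f (proj R n) ≫ f = Spec.map (CommRingCat.ofHom (algebraMap R L)) := by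
      rw [pullback.condition, ← Category.assoc, ← hψ]
      exact (Spec.map_comp _ _).symm
    have hρ' : χ.hom.comp MvPolynomial.C = algebraMap R L := by
      have : Spec.map (CommRingCat.ofHom MvPolynomial.C ≫ χ) = Spec.map (CommRingCat.ofHom (algebraMap R L)) := by
        rw [Spec.map_comp, hχ, ← hρ]
        simp only [Category.assoc] at hqp ⊢
        rw [← pullback.condition]
        exact congr($hqp ≫ f).trans (by simp) |> (fun h => by simpa only [Category.assoc] using h)
      exact congr(CommRingCat.Hom.hom $(Spec.map_injective this))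
    let a : Fin n → L := fun i => ψ.hom (MvPolynomial.X i)
    let c : Fin n → L := fun i => χ.hom (MvPolynomial.X i)
    have hψa : ψ.hom = MvPolynomial.eval₂Hom (algebraMap R L) a := by
      ext r <;> simp [a, RingHom.algebraMap_toAlgebra]
    have hχc : χ.hom = (MvPolynomial.eval c).comp (MvPolynomial.map (algebraMap R L)) := by
      apply MvPolynomial.ringHom_ext
      · intro r; simpa using congr($hρ' r)
      · intro i; simp [c]
    let σ : Spec (.of (MvPolynomial (Fin n) L)) ⟶ pullback f (proj R n) :=
      pullback.lift (Spec.map (CommRingCat.ofHom MvPolynomial.C) ≫ p ≫ pullback.fst f (proj R n))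
        (Spec.map (CommRingCat.ofHom (MvPolynomial.map (algebraMap R L)))) (by
        rw [Category.assoc, Category.assoc, hρ, ← Spec.map_comp, ← Spec.map_comp]
        congr 1
        ext r; simp)
    have hev : ∀ d : Fin n → L, Spec.map (CommRingCat.ofHom (MvPolynomial.eval d)) ≫
        Spec.map (CommRingCat.ofHom MvPolynomial.C) = 𝟙 (Spec (.of L)) := fun d => by
      rw [← Spec.map_comp, ← Spec.map_id]
      congr 1
      ext r; simp
    have hσc : Spec.map (CommRingCat.ofHom (MvPolynomial.eval c)) ≫ σ = q ≫ e := by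
      refine pullback.hom_ext ?_ ?_
      · rw [Category.assoc, pullback.lift_fst, ← Category.assoc, hev, Category.id_comp, ← hqp, Category.assoc]
      · rw [Category.assoc, pullback.lift_snd, Category.assoc, ← hχ, ← Spec.map_comp]
        congr 1
        exact CommRingCat.hom_ext hχc.symm
    have hO : IsOpen (σ ⁻¹' Set.range e) := e.isOpenMap.isOpen_range.preimage σ.continuous
    let z0 : Spec (.of L) := default
    have hz0 : Spec.map (CommRingCat.ofHom (MvPolynomial.eval c)) z0 ∈ σ ⁻¹' Set.range e := by
      rw [Set.mem_preimage, ← Scheme.Hom.comp_apply, hσc]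
      exact ⟨q z0, rfl⟩
    obtain ⟨_, ⟨h, rfl⟩, hc0, hsub⟩ :=
      PrimeSpectrum.isTopologicalBasis_basic_opens.exists_subset_of_mem_open hz0 hO
    have hne : h ≠ 0 := by rintro rfl; simp at hc0
    obtain ⟨R', _, _, _, ι, b, hb⟩ := exists_translate R L a h hne
    let c' : Fin n → L := fun i => a i + ι (b i)
    have hc' : σ (Spec.map (CommRingCat.ofHom (MvPolynomial.eval c')) z0) ∈ Set.range e := by
      refine hsub ?_
      rw [SetLike.mem_coe, PrimeSpectrum.mem_basicOpen]
      intro hmem
      apply hb
      have : MvPolynomial.eval c' h ∈ z0.asIdeal := hmem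
      by_contra hne'
      exact z0.2.ne_top (Ideal.eq_top_of_isUnit_mem _ this (isUnit_iff_ne_zero.2 hne'))
    obtain ⟨u1, hu1⟩ := hc'
    obtain ⟨L', _, _, q', v, hq'v, -, -⟩ :=
      exists_common_geomPt e (Spec.map (CommRingCat.ofHom (MvPolynomial.eval c')) ≫ σ) u1 z0
        (by rw [Scheme.Hom.comp_apply]; exact hu1)
    let τ : MvPolynomial (Fin n) R' →ₐ[R'] MvPolynomial (Fin n) R' :=
      MvPolynomial.aeval fun i => MvPolynomial.X i + MvPolynomial.C (b i)
    let τ' : MvPolynomial (Fin n) R' →ₐ[R'] MvPolynomial (Fin n) R' :=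
      MvPolynomial.aeval fun i => MvPolynomial.X i - MvPolynomial.C (b i)
    let τe : MvPolynomial (Fin n) R' ≃ₐ[R'] MvPolynomial (Fin n) R' :=
      AlgEquiv.ofAlgHom τ τ' (by ext i; simp [τ, τ']) (by ext i; simp [τ, τ'])
    let πr : CommRingCat.of (MvPolynomial (Fin n) R) ⟶ CommRingCat.of (MvPolynomial (Fin n) R') :=
      CommRingCat.ofHom (MvPolynomial.map (algebraMap R R'))
    let τr : CommRingCat.of (MvPolynomial (Fin n) R') ≅ CommRingCat.of (MvPolynomial (Fin n) R') :=
      τe.toRingEquiv.toCommRingCatIso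
    let π := Spec.map πr
    let θ := Spec.map (πr ≫ τr.hom)
    have hπ : Etale π := (HasRingHomProperty.Spec_iff (P := @Etale)).2 (etale_mvPolynomial_map R R' (Fin n))
    have hθ : Etale θ := by
      show Etale (Spec.map (πr ≫ τr.hom))
      rw [Spec.map_comp]; infer_instance
    have hcomm : θ ≫ proj R n = π ≫ proj R n := by
      rw [← Spec.map_comp, ← Spec.map_comp]
      congr 1
      refine CommRingCat.hom_ext (RingHom.ext fun r => ?_)
      show τ (MvPolynomial.map _ (MvPolynomial.C r)) = MvPolynomial.map _ (MvPolynomial.C r)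
      simp [τ]
    let ψ'' : CommRingCat.of (MvPolynomial (Fin n) R') ⟶ CommRingCat.of L :=
      CommRingCat.ofHom (MvPolynomial.eval₂Hom ι.toRingHom a)
    have hψπ : Spec.map ψ'' ≫ π = p ≫ pullback.snd f (proj R n) := by
      rw [← hψ, ← Spec.map_comp]
      congr 1
      refine CommRingCat.hom_ext (hψa ▸ ?_)
      apply MvPolynomial.ringHom_ext
      · intro r; simp [ψ'', πr]
      · intro i; simp [ψ'', πr]
    have hψθ : Spec.map ψ'' ≫ θ =
        Spec.map (CommRingCat.ofHom (MvPolynomial.eval c')) ≫ σ ≫ pullback.snd f (proj R n) := by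
      rw [pullback.lift_snd, ← Spec.map_comp, ← Spec.map_comp]
      congr 1
      refine CommRingCat.hom_ext ?_
      apply MvPolynomial.ringHom_ext
      · intro r
        show MvPolynomial.eval₂Hom ι.toRingHom a (τ (MvPolynomial.map _ (MvPolynomial.C r))) = _
        simp [τ]
      · intro i
        show MvPolynomial.eval₂Hom ι.toRingHom a (τ (MvPolynomial.map _ (MvPolynomial.X i))) = _
        simp [τ, c']
    let k := e ≫ pullback.snd f (proj R n)
    let n1 : pullback k θ ⟶ pullback (pullback.snd f (proj R n)) θ :=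
      pullback.map _ _ _ _ e (𝟙 _) (𝟙 _) (by simp [k]) (by simp)
    let n2 : pullback f (θ ≫ proj R n) ⟶ pullback f (proj R n) :=
      pullback.map _ _ _ _ (𝟙 _) π (𝟙 _) (by simp) (by simp [hcomm])
    have hid : ∀ T : Scheme.{u}, Etale (𝟙 T) := fun T => inferInstance
    have : Etale n1 := MorphismProperty.pullbackMap (P := @Etale) he (hid _) (by simp [k]) (by simp)
    have : Etale n2 := MorphismProperty.pullbackMap (P := @Etale) (hid _) hπ (by simp) (by simp [hcomm])
    let m := n1 ≫ (pullbackLeftPullbackSndIso f (proj R n) θ).hom ≫ n2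
    have a1 : n2 ≫ pullback.fst f (proj R n) = pullback.fst f (θ ≫ proj R n) :=
      (pullback.lift_fst _ _ _).trans (Category.comp_id _)
    have a2 : n2 ≫ pullback.snd f (proj R n) = pullback.snd f (θ ≫ proj R n) ≫ π := pullback.lift_snd _ _ _
    have b1 : n1 ≫ pullback.fst _ θ = pullback.fst k θ ≫ e := pullback.lift_fst _ _ _
    have b2 : n1 ≫ pullback.snd (pullback.snd f (proj R n)) θ = pullback.snd k θ :=
      (pullback.lift_snd _ _ _).trans (Category.comp_id _)
    have hm1 : m ≫ pullback.fst f (proj R n) = pullback.fst k θ ≫ e ≫ pullback.fst f (proj R n) := by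
      simp only [m, Category.assoc]
      rw [a1, pullbackLeftPullbackSndIso_hom_fst, ← Category.assoc, b1, Category.assoc]
    have hm2 : m ≫ pullback.snd f (proj R n) = pullback.snd k θ ≫ π := by
      simp only [m, Category.assoc]
      rw [a2, ← Category.assoc _ (pullback.snd _ _), pullbackLeftPullbackSndIso_hom_snd, ← Category.assoc, b2]
    refine ⟨pullback k θ, m, inferInstance, ?_, ?_⟩
    · let pt : Spec (.of L') ⟶ pullback k θ := pullback.lift q' (v ≫ Spec.map ψ'') (by
        simp only [k, Category.assoc, hψθ]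
        rw [← Category.assoc q', hq'v]
        simp only [Category.assoc])
      have : pt ≫ m = v ≫ p := by
        refine pullback.hom_ext ?_ ?_
        · rw [Category.assoc, hm1, ← Category.assoc pt, pullback.lift_fst, ← Category.assoc q', hq'v]
          simp only [Category.assoc, σ, pullback.lift_fst]
          rw [← Category.assoc (Spec.map _) (Spec.map _), hev, Category.id_comp]
        · rw [Category.assoc, hm2, ← Category.assoc pt, pullback.lift_snd, Category.assoc, hψπ, Category.assoc]
      refine ⟨pt default, ?_⟩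
      rw [← Scheme.Hom.comp_apply, this, Scheme.Hom.comp_apply, hp]
    · have h1 := hQ.bc _ k θ _ _ (IsPullback.of_hasPullback k θ) inferInstance hk
      rw [← Category.assoc, hcomm, Category.assoc] at h1
      rw [hm2]
      exact postcomp_etale hQ _ _ _ hπ h1
  choose U3 m hm hw hmQ using loc
  exact hQ.ofCover _ _ U3 m hm (fun w => ⟨w, hw w⟩) hmQ

end Groth.L23.StSch
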