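import Groth.Prelude.Def_AlgSpOX3
import Groth.Agent.L23.StalkHenselRing
import Groth.Agent.L23.Cover
import Groth.Agent.L23.QFMulti
import Groth.Agent.S10217
import Mathlib.AlgebraicGeometry.Morphisms.Etale
import Mathlib.CategoryTheory.Limits.Preserves.Filtered
import Mathlib.Algebra.Category.Ring.FilteredColimits

/-!
# The étale local ring of an algebraic space is a strict henselization
-/

universe u

open CategoryTheory CategoryTheory.Limits AlgebraicGeometry Opposite AlgSp Groth.L05.Henselization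

set_option backward.isDefEq.respectTransparency.types false
set_option linter.style.haveILetI false

namespace Groth.L23.SH

variable {S : Scheme.{u}} {X : Sp S}

section Chart

variable (p : FieldPt X) {A : CommRingCat.{u}} (σ : Spec A ⟶ S)
  (a : (yon S).obj (Over.mk σ) ⟶ X) (ha : RepWith @Etale a) [Algebra A p.K]
  (γ : p.pt ⟶ Over.mk σ) (hγ : (yon S).map γ ≫ a = p.toHom)
  (hψ : γ.left = Spec.map (CommRingCat.ofHom (algebraMap A p.K)))

/-- The chart as an etale neighbourhood. -/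
noncomputable def nbhd₀ : EtNbhd p := ⟨EtOver.mk a ha, ⟨γ, hγ⟩⟩

/-- The spectrum of a member of the system, over the base. -/
noncomputable abbrev objOver (Y : Obj A p.K) : Over S :=
  Over.mk (Spec.map (CommRingCat.ofHom (algebraMap A Y.R)) ≫ σ)

/-- Its structure morphism to the chart. -/
noncomputable abbrev objStr (Y : Obj A p.K) : objOver p σ Y ⟶ Over.mk σ :=
  Over.homMk (Spec.map (CommRingCat.ofHom (algebraMap A Y.R))) rfl

omit a ha γ hγ hψ in
theorem etale_objStr (Y : Obj A p.K) : Etale (objStr p σ Y).left :=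
  (HasRingHomProperty.Spec_iff (P := @Etale)).2 (RingHom.etale_algebraMap.2 Y.etale)

omit a ha hγ hψ in
/-- The point of a member of the system. -/
theorem exists_pt (hψ : γ.left = Spec.map (CommRingCat.ofHom (algebraMap A p.K))) (Y : Obj A p.K) :
    ∃ y : p.pt ⟶ objOver p σ Y, y.left = Spec.map (CommRingCat.ofHom Y.φ.toRingHom) ∧
      y ≫ objStr p σ Y = γ := by
  have e : Spec.map (CommRingCat.ofHom Y.φ.toRingHom) ≫ Spec.map (CommRingCat.ofHom (algebraMap A Y.R)) =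
      γ.left := by
    rw [hψ, ← Spec.map_comp, ← CommRingCat.ofHom_comp]
    exact congrArg (fun g => Spec.map (CommRingCat.ofHom g)) Y.φ.comp_algebraMap
  refine ⟨Over.homMk (Spec.map (CommRingCat.ofHom Y.φ.toRingHom)) ?_, rfl, ?_⟩
  · show _ ≫ _ ≫ σ = p.str
    rw [← Category.assoc, e]
    exact Over.w γ
  · exact Over.OverMorphism.ext e

/-- The etale neighbourhood of a member of the system. -/
noncomputable def nbhd (Y : Obj A p.K) : EtNbhd p :=
  ⟨EtOver.mk ((yon S).map (objStr p σ Y) ≫ a)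
      (Groth.L23.repWith_comp (Groth.L23.repWith_map (etale_objStr p σ Y)) ha),
    ⟨(exists_pt p σ γ hψ Y).choose, by
      show (yon S).map _ ≫ (yon S).map (objStr p σ Y) ≫ a = _
      rw [← Functor.map_comp_assoc, (exists_pt p σ γ hψ Y).choose_spec.2, hγ]⟩⟩

/-- The projection to the chart. -/
noncomputable def nbhdπ (Y : Obj A p.K) : nbhd p σ a ha γ hγ hψ Y ⟶ nbhd₀ p σ a ha γ hγ :=
  ⟨EtOver.homMk (objStr p σ Y) rfl, Subtype.ext (exists_pt p σ γ hψ Y).choose_spec.2⟩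

theorem nbhd_pt_left (Y : Obj A p.K) :
    (nbhd p σ a ha γ hγ hψ Y).2.1.left = Spec.map (CommRingCat.ofHom Y.φ.toRingHom) :=
  (exists_pt p σ γ hψ Y).choose_spec.1

/-- Every neighbourhood over the chart is refined by a member of the system. -/
theorem exists_piece (M : EtNbhd p) (π : M ⟶ nbhd₀ p σ a ha γ hγ) :
    ∃ (Z : Obj A p.K) (j : nbhd p σ a ha γ hγ hψ Z ⟶ M), j ≫ π = nbhdπ p σ a ha γ hγ hψ Z := by
  let U : Over S := M.1.obj.left
  let h : U ⟶ Over.mk σ := π.1.hom.left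
  have : Etale h.left := EtOver.etale_left π.1
  let u : p.pt ⟶ U := M.2.1
  have hu : u ≫ h = γ := congrArg Subtype.val π.2
  let h' : U.left ⟶ Spec A := h.left
  let u' : Spec (CommRingCat.of p.K) ⟶ U.left := u.left
  obtain ⟨_, ⟨W, hW, rfl⟩, hxW, -⟩ := U.left.isBasis_affineOpens.exists_subset_of_mem_open
    (Set.mem_univ (u' (IsLocalRing.closedPoint p.K))) isOpen_univ
  let j : Spec Γ(U.left, W) ⟶ U.left := hW.fromSpec
  have hy : Set.range u' ⊆ Set.range j := by
    rintro _ ⟨c, rfl⟩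
    obtain rfl : c = IsLocalRing.closedPoint p.K := Subsingleton.elim (α := PrimeSpectrum p.K) _ _
    exact hW.range_fromSpec.symm ▸ hxW
  obtain ⟨φ, hφ⟩ : ∃ φ : A ⟶ Γ(U.left, W), Spec.map φ = j ≫ h' := Spec.map_surjective _
  obtain ⟨θ, hθ⟩ : ∃ θ : Γ(U.left, W) ⟶ CommRingCat.of p.K, Spec.map θ = IsOpenImmersion.lift j u' hy :=
    Spec.map_surjective _
  have : Etale h' := ‹Etale h.left›
  have het : φ.hom.Etale :=
    (HasRingHomProperty.Spec_iff (P := @Etale)).1 (hφ ▸ inferInstance)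
  have hcomp : φ ≫ θ = CommRingCat.ofHom (algebraMap A p.K) := by
    apply Spec.map_injective
    rw [Spec.map_comp, hθ, hφ, ← Category.assoc, IsOpenImmersion.lift_fac, ← hψ, ← hu]
    rfl
  letI : Algebra A Γ(U.left, W) := φ.hom.toAlgebra
  haveI : Algebra.Etale A Γ(U.left, W) := het
  let θ' : Γ(U.left, W) →ₐ[A] p.K :=
    { toRingHom := θ.hom
      commutes' := fun r => RingHom.congr_fun (congrArg CommRingCat.Hom.hom hcomp) r }
  obtain ⟨Z, e, he⟩ := Obj.exists_obj Γ(U.left, W) θ'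
  let k : Spec (CommRingCat.of Z.R) ⟶ U.left := Spec.map (CommRingCat.ofHom e.toRingHom) ≫ j
  have hk : k ≫ h' = (objStr p σ Z).left := by
    show (_ ≫ j) ≫ h' = Spec.map _
    rw [Category.assoc, ← hφ, ← Spec.map_comp]
    exact congrArg Spec.map (CommRingCat.hom_ext e.toAlgHom.comp_algebraMap)
  let K : objOver p σ Z ⟶ U := Over.homMk k (by
    show k ≫ U.hom = Spec.map _ ≫ σ
    rw [← Over.w h]
    show k ≫ h' ≫ σ = _
    rw [← Category.assoc, hk]
    rfl)
  have hK : K ≫ h = objStr p σ Z := Over.OverMorphism.ext hk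
  let J : (nbhd p σ a ha γ hγ hψ Z).1 ⟶ M.1 := EtOver.homMk K (by
    show (yon S).map K ≫ M.1.obj.hom = (yon S).map (objStr p σ Z) ≫ a
    rw [← hK, Functor.map_comp, Category.assoc]
    exact congrArg ((yon S).map K ≫ ·) (EtOver.w π.1).symm)
  refine ⟨Z, ⟨J, Subtype.ext (Over.OverMorphism.ext ?_)⟩, Subtype.ext (EtOver.hom_ext _ _ hK)⟩
  show (nbhd p σ a ha γ hγ hψ Z).2.1.left ≫ k = u'
  rw [nbhd_pt_left]
  refine (Category.assoc _ _ _).symm.trans ?_
  rw [← IsOpenImmersion.lift_fac j u' hy, ← hθ]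
  refine congrArg (· ≫ j) ((Spec.map_comp _ _).symm.trans (congrArg Spec.map ?_))
  exact CommRingCat.hom_ext (RingHom.ext fun r => DFunLike.congr_fun he r)

/-- The map from a member of the system to the stalk. -/
noncomputable def toStalk (Y : Obj A p.K) : Y.R →+* OEtStalk p :=
  (stalkEtι p (OEt X) (nbhd p σ a ha γ hγ hψ Y)).hom.comp
    ((ULift.ringEquiv.symm : Γ(Spec (CommRingCat.of Y.R), ⊤) ≃+* ULift.{u + 1} Γ(Spec (CommRingCat.of Y.R), ⊤)).toRingHom.comp
      (Scheme.ΓSpecIso (CommRingCat.of Y.R)).inv.hom)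

/-- Morphisms of the system give morphisms of neighbourhoods. -/
theorem exists_nbhd_hom {Y Z : Obj A p.K} (f : Y ⟶ Z) :
    ∃ k : nbhd p σ a ha γ hγ hψ Z ⟶ nbhd p σ a ha γ hγ hψ Y,
      k.1.hom.left.left = Spec.map (CommRingCat.ofHom f.1.toRingHom) := by
  have e : Spec.map (CommRingCat.ofHom f.1.toRingHom) ≫ Spec.map (CommRingCat.ofHom (algebraMap A Y.R)) =
      Spec.map (CommRingCat.ofHom (algebraMap A Z.R)) := by
    rw [← Spec.map_comp, ← CommRingCat.ofHom_comp]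
    exact congrArg (fun g => Spec.map (CommRingCat.ofHom g)) f.1.comp_algebraMap
  let K : objOver p σ Z ⟶ objOver p σ Y := Over.homMk (Spec.map (CommRingCat.ofHom f.1.toRingHom)) (by
    show _ ≫ _ ≫ σ = _ ≫ σ
    rw [← Category.assoc, e])
  have hK : K ≫ objStr p σ Y = objStr p σ Z := Over.OverMorphism.ext e
  let J : (nbhd p σ a ha γ hγ hψ Z).1 ⟶ (nbhd p σ a ha γ hγ hψ Y).1 := EtOver.homMk K (by
    show (yon S).map K ≫ (yon S).map (objStr p σ Y) ≫ a = (yon S).map (objStr p σ Z) ≫ a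
    rw [← Functor.map_comp_assoc, hK])
  refine ⟨⟨J, Subtype.ext (Over.OverMorphism.ext ?_)⟩, rfl⟩
  show (nbhd p σ a ha γ hγ hψ Z).2.1.left ≫ Spec.map (CommRingCat.ofHom f.1.toRingHom) =
    (nbhd p σ a ha γ hγ hψ Y).2.1.left
  rw [nbhd_pt_left, nbhd_pt_left]
  refine (Spec.map_comp _ _).symm.trans ?_
  rw [← CommRingCat.ofHom_comp]
  exact congrArg (fun g => Spec.map (CommRingCat.ofHom g)) (congrArg AlgHom.toRingHom f.2)

/-- Morphisms of neighbourhoods over the chart come from the system. -/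
theorem exists_obj_hom {Y Z : Obj A p.K} (k : nbhd p σ a ha γ hγ hψ Z ⟶ nbhd p σ a ha γ hγ hψ Y)
    (hk : k ≫ nbhdπ p σ a ha γ hγ hψ Y = nbhdπ p σ a ha γ hγ hψ Z) :
    ∃ f : Y ⟶ Z, k.1.hom.left.left = Spec.map (CommRingCat.ofHom f.1.toRingHom) := by
  let k' : Spec (CommRingCat.of Z.R) ⟶ Spec (CommRingCat.of Y.R) := k.1.hom.left.left
  obtain ⟨g, hg⟩ := Spec.map_surjective k'
  have e₁ : k' ≫ Spec.map (CommRingCat.ofHom (algebraMap A Y.R)) =
      Spec.map (CommRingCat.ofHom (algebraMap A Z.R)) :=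
    congrArg (fun m => m.1.hom.left.left) hk
  rw [← hg, ← Spec.map_comp] at e₁
  have e₂ : (nbhd p σ a ha γ hγ hψ Z).2.1.left ≫ k' = (nbhd p σ a ha γ hγ hψ Y).2.1.left :=
    congrArg (fun m => m.left) (congrArg Subtype.val k.2)
  rw [nbhd_pt_left, nbhd_pt_left, ← hg] at e₂
  replace e₂ := (Spec.map_comp _ _).trans e₂
  let f : Y.R →ₐ[A] Z.R :=
    { toRingHom := g.hom
      commutes' := fun r => RingHom.congr_fun (congrArg CommRingCat.Hom.hom (Spec.map_injective e₁)) r }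
  exact ⟨⟨f, AlgHom.ext fun r =>
    RingHom.congr_fun (congrArg CommRingCat.Hom.hom (Spec.map_injective e₂)) r⟩, hg.symm⟩

theorem appTop_SpecMap {R R' : CommRingCat.{u}} (g : R ⟶ R') (x : R) :
    (Spec.map g).appTop.hom ((Scheme.ΓSpecIso R).inv.hom x) = (Scheme.ΓSpecIso R').inv.hom (g.hom x) :=
  (congr($(Scheme.ΓSpecIso_inv_naturality g).hom x)).symm

theorem map_ΓSpec {Y Z : Obj A p.K} (g : Y.R →+* Z.R) (k : nbhd p σ a ha γ hγ hψ Z ⟶ nbhd p σ a ha γ hγ hψ Y)
    (hk : k.1.hom.left.left = Spec.map (CommRingCat.ofHom g)) (x : Y.R) :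
    (OEt X).obj.map k.1.op (ULift.up ((Scheme.ΓSpecIso (CommRingCat.of Y.R)).inv.hom x)) =
      ULift.up ((Scheme.ΓSpecIso (CommRingCat.of Z.R)).inv.hom (g x)) := by
  rw [OEt_map, hk]
  exact congrArg ULift.up (appTop_SpecMap (CommRingCat.ofHom g) x)

theorem toStalk_map {Y Z : Obj A p.K} (f : Y ⟶ Z) (x : Y.R) :
    toStalk p σ a ha γ hγ hψ Z (f.1 x) = toStalk p σ a ha γ hγ hψ Y x := by
  obtain ⟨k, hk⟩ := exists_nbhd_hom p σ a ha γ hγ hψ f
  have hw := congr($(colimit.w (stalkEtDiagram p (OEt X)) k.op).hom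
    (ULift.up ((Scheme.ΓSpecIso (CommRingCat.of Y.R)).inv.hom x)))
  refine Eq.trans ?_ hw
  exact congrArg (stalkEtι p (OEt X) _).hom
    (map_ΓSpec p σ a ha γ hγ hψ f.1.toRingHom k hk x).symm

include hγ hψ ha in
/-- The étale local ring at a geometric point over an affine chart is the colimit of the system. -/
theorem exists_stalkEquiv (hX : IsAlgSpace X) [IsAlgClosed p.K] :
    Nonempty (Col A p.K ≃+* OEtStalk p) := by
  haveI : IsCofiltered (EtNbhd p) := Groth.Agent.S10217.result ⟨X, hX⟩ p ‹_›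
  haveI : PreservesFilteredColimitsOfSize.{u, u + 1} (CategoryTheory.forget CommRingCat.{u + 1}) :=
    preservesFilteredColimitsOfSize_shrink.{u + 1, u + 1, u, u + 1} _
  obtain ⟨Θ, hΘ⟩ := exists_ringHom_of_compat (toStalk p σ a ha γ hγ hψ)
    (toStalk_map p σ a ha γ hγ hψ)
  refine ⟨RingEquiv.ofBijective Θ ⟨(injective_iff_map_eq_zero Θ).2 fun b hb => ?_, fun s => ?_⟩⟩
  · obtain ⟨Y, y, rfl⟩ := ι_surj b
    rw [hΘ] at hb
    obtain ⟨M, k₁, k₂, hk⟩ := Concrete.colimit_exists_of_rep_eq (stalkEtDiagram p (OEt X))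
      (i := op (nbhd p σ a ha γ hγ hψ Y)) (j := op (nbhd p σ a ha γ hγ hψ Y))
      (ULift.up ((Scheme.ΓSpecIso (CommRingCat.of Y.R)).inv.hom y)) 0 (hb.trans (map_zero _).symm)
    rw [map_zero] at hk
    obtain ⟨Z, j, hj⟩ := exists_piece p σ a ha γ hγ hψ M.unop (k₁.unop ≫ nbhdπ p σ a ha γ hγ hψ Y)
    obtain ⟨f, hf⟩ := exists_obj_hom p σ a ha γ hγ hψ (j ≫ k₁.unop) (by rw [Category.assoc, hj])
    have h0 := congrArg (fun s => (OEt X).obj.map j.1.op s) hk
    have h1 := map_ΓSpec p σ a ha γ hγ hψ f.1.toRingHom (j ≫ k₁.unop) hf y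
    rw [show ((OEt X).obj.map (j ≫ k₁.unop).1.op) =
      (OEt X).obj.map k₁.unop.1.op ≫ (OEt X).obj.map j.1.op by rw [← Functor.map_comp]; rfl] at h1
    have h2 : (ULift.up ((Scheme.ΓSpecIso (CommRingCat.of Z.R)).inv.hom (f.1 y)) :
        ULift.{u + 1} Γ(Spec (CommRingCat.of Z.R), ⊤)) = 0 := h1.symm.trans (h0.trans (map_zero ((OEt X).obj.map j.1.op).hom))
    have h3 : f.1 y = 0 := by
      apply (Scheme.ΓSpecIso (CommRingCat.of Z.R)).commRingCatIsoToRingEquiv.symm.injective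
      rw [map_zero]
      exact congrArg ULift.down h2
    rw [← ι_map f, h3, map_zero]
  · obtain ⟨N, t, rfl⟩ := Concrete.colimit_exists_rep (stalkEtDiagram p (OEt X)) s
    let M := IsCofiltered.min N.unop (nbhd₀ p σ a ha γ hγ)
    let m₁ : M ⟶ N.unop := IsCofiltered.minToLeft _ _
    obtain ⟨Z, j, -⟩ := exists_piece p σ a ha γ hγ hψ M (IsCofiltered.minToRight _ _)
    let t' : ULift.{u + 1} Γ(Spec (CommRingCat.of Z.R), ⊤) := (OEt X).obj.map (j ≫ m₁).1.op t
    refine ⟨ι Z ((Scheme.ΓSpecIso (CommRingCat.of Z.R)).hom.hom t'.down), (hΘ _ _).trans ?_⟩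
    refine Eq.trans ?_ (congr($(colimit.w (stalkEtDiagram p (OEt X)) (j ≫ m₁).op).hom t))
    show (stalkEtι p (OEt X) (nbhd p σ a ha γ hγ hψ Z)).hom (ULift.up _) =
      (stalkEtι p (OEt X) (nbhd p σ a ha γ hγ hψ Z)).hom t'
    congr 1
    exact ULift.ext _ _ ((Scheme.ΓSpecIso (CommRingCat.of Z.R)).hom_inv_id_apply t'.down)

end Chart

/-- At a geometric point over a point `u` of a chart, the étale local ring is a strict henselization of the
local ring of the chart at `u`. -/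
theorem exists_stalk_strictHenselization (hX : IsAlgSpace X) (p : FieldPt X) (hp : p.IsGeometric)
    {U : Over S} {a : (yon S).obj U ⟶ X} (ha : RepWith @Etale a) (u : U.left)
    (hu : Points.ofPt a u = Points.mk p) :
    ∃ (R T : Type u) (_ : CommRing R) (_ : IsLocalRing R) (_ : CommRing T) (_ : IsLocalRing T)
      (_ : Algebra R T) (_ : IsLocalHom (algebraMap R T)),
      Hensel.IsStrictHenselization R T ∧ Nonempty (U.left.presheaf.stalk u ≃+* R) ∧
        Nonempty (T ≃+* OEtStalk p) := by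
  haveI : IsAlgClosed p.K := hp
  rw [← Points.ofPt_toHom p (IsLocalRing.closedPoint p.K)] at hu
  obtain ⟨γ₀, hγ₀, hγu⟩ := Groth.L23.QFL.exists_lift_algClosed ha p.toHom u _ hu.symm
  obtain ⟨_, ⟨W, hW, rfl⟩, hxW, -⟩ := U.left.isBasis_affineOpens.exists_subset_of_mem_open
    (Set.mem_univ u) isOpen_univ
  let σ : Spec Γ(U.left, W) ⟶ S := hW.fromSpec ≫ U.hom
  let j : Over.mk σ ⟶ U := Over.homMk hW.fromSpec rfl
  have hj : Etale j.left := inferInstanceAs (Etale hW.fromSpec)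
  have ha' : RepWith @Etale ((yon S).map j ≫ a) := Groth.L23.repWith_comp (Groth.L23.repWith_map hj) ha
  have hy : Set.range γ₀.left ⊆ Set.range hW.fromSpec := by
    rintro _ ⟨c, rfl⟩
    obtain rfl : c = IsLocalRing.closedPoint p.K := Subsingleton.elim (α := PrimeSpectrum p.K) _ _
    rw [hW.range_fromSpec]
    exact hγu.symm ▸ hxW
  let γ₁ : Spec (CommRingCat.of p.K) ⟶ Spec Γ(U.left, W) := IsOpenImmersion.lift hW.fromSpec γ₀.left hy
  obtain ⟨ψ, hψ⟩ : ∃ ψ : Γ(U.left, W) ⟶ CommRingCat.of p.K, Spec.map ψ = γ₁ := Spec.map_surjective _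
  letI : Algebra Γ(U.left, W) p.K := ψ.hom.toAlgebra
  let γ : p.pt ⟶ Over.mk σ := Over.homMk γ₁ (by
    show γ₁ ≫ hW.fromSpec ≫ U.hom = p.str
    rw [← Category.assoc, IsOpenImmersion.lift_fac]
    exact Over.w γ₀)
  have hγ : (yon S).map γ ≫ (yon S).map j ≫ a = p.toHom := by
    rw [← Functor.map_comp_assoc, show γ ≫ j = γ₀ from
      Over.OverMorphism.ext (IsOpenImmersion.lift_fac _ _ _), hγ₀]
  obtain ⟨e⟩ := exists_stalkEquiv p σ _ ha' γ hγ hψ.symm hX
  let q : PrimeSpectrum Γ(U.left, W) := hW.primeIdealOf ⟨u, hxW⟩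
  have hq : q.asIdeal = RingHom.ker (algebraMap Γ(U.left, W) p.K) := by
    have e₁ : q = (Spec.map ψ) (IsLocalRing.closedPoint p.K) := by
      refine hW.fromSpec.isOpenEmbedding.injective ?_
      rw [hψ, ← Scheme.Hom.comp_apply, IsOpenImmersion.lift_fac, hγu]
      exact hW.fromSpec_primeIdealOf ⟨u, hxW⟩
    rw [e₁]
    show Ideal.comap ψ.hom (IsLocalRing.maximalIdeal p.K) = RingHom.ker ψ.hom
    rw [IsLocalRing.maximalIdeal_eq_bot]
    exact (RingHom.ker_eq_comap_bot _).symm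
  obtain ⟨T, _, _, _, _, hT, ⟨e'⟩⟩ := exists_strictHenselization_col (K := p.K) q.asIdeal hq
  letI := TopCat.Presheaf.algebra_section_stalk U.left.presheaf (⟨u, hxW⟩ : W)
  haveI := hW.isLocalization_stalk ⟨u, hxW⟩
  exact ⟨Localization.AtPrime q.asIdeal, T, inferInstance, inferInstance, inferInstance, inferInstance,
    inferInstance, inferInstance, hT,
    ⟨(IsLocalization.algEquiv q.asIdeal.primeCompl (U.left.presheaf.stalk u)
      (Localization.AtPrime q.asIdeal)).toRingEquiv⟩, ⟨e'.trans e⟩⟩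

end Groth.L23.SH
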