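import Groth.Agent.L23.StalkHensel
import Groth.Agent.S10217
import Mathlib.CategoryTheory.Sites.Point.Conservative
import Mathlib.CategoryTheory.Sites.Point.Skyscraper

/-!
# Geometric points are points of the small étale site
-/

universe u

open CategoryTheory CategoryTheory.Limits AlgebraicGeometry Opposite AlgSp Groth.L05.Henselization

set_option backward.isDefEq.respectTransparency.types false
set_option linter.style.haveILetI false

namespace Groth.L23.SH

variable {S : Scheme.{u}} {X : AlgSp.Space S}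

theorem initiallySmall_etNbhd (p : FieldPt X.obj) (hp : p.IsGeometric) : InitiallySmall.{u} (EtNbhd p) := by
  haveI : IsCofiltered (EtNbhd p) := Groth.Agent.S10217.result X p hp
  haveI : IsAlgClosed p.K := hp
  obtain ⟨U₀, a₀, -, ha₀, has₀⟩ : ∃ (U : Over S) (a : (yon S).obj U ⟶ X.obj), True ∧ RepWith @Etale a ∧
      RepWith @Surjective a := by
    obtain ⟨U, a, ha, has⟩ := X.property.atlas
    exact ⟨U, a, trivial, ha, has⟩
  obtain ⟨V, b, hV, hb, v, hv⟩ := exists_affine_etale_nhd X.property (Points.mk p)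
  rw [← Points.ofPt_toHom p (IsLocalRing.closedPoint p.K)] at hv
  obtain ⟨γ₀, hγ₀, -⟩ := Groth.L23.QFL.exists_lift_algClosed hb p.toHom v _ hv.symm
  let i : Over.mk (V.left.isoSpec.inv ≫ V.hom) ⟶ V := Over.homMk V.left.isoSpec.inv rfl
  have hi : Etale i.left := inferInstanceAs (Etale V.left.isoSpec.inv)
  let a := (yon S).map i ≫ b
  have ha : RepWith @Etale a := Groth.L23.repWith_comp (Groth.L23.repWith_map hi) hb
  let γ₁ : Spec (CommRingCat.of p.K) ⟶ Spec Γ(V.left, ⊤) := γ₀.left ≫ V.left.isoSpec.hom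
  let γ : p.pt ⟶ Over.mk (V.left.isoSpec.inv ≫ V.hom) := Over.homMk γ₁ (by
    show (γ₀.left ≫ V.left.isoSpec.hom) ≫ V.left.isoSpec.inv ≫ V.hom = p.str
    rw [Category.assoc, Iso.hom_inv_id_assoc]
    exact Over.w γ₀)
  have hγ : (yon S).map γ ≫ a = p.toHom := by
    rw [← Functor.map_comp_assoc, show γ ≫ i = γ₀ from Over.OverMorphism.ext (by
      show (γ₀.left ≫ V.left.isoSpec.hom) ≫ V.left.isoSpec.inv = γ₀.left
      rw [Category.assoc, Iso.hom_inv_id, Category.comp_id]), hγ₀]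
  obtain ⟨ψ, hψ⟩ : ∃ ψ : Γ(V.left, ⊤) ⟶ CommRingCat.of p.K, Spec.map ψ = γ₁ := Spec.map_surjective _
  letI : Algebra Γ(V.left, ⊤) p.K := ψ.hom.toAlgebra
  refine initiallySmall_of_essentiallySmall_weakly_initial_objectProperty
    (ObjectProperty.ofObj fun Y : Obj Γ(V.left, ⊤) p.K =>
      nbhd p (V.left.isoSpec.inv ≫ V.hom) a ha γ hγ hψ.symm Y) fun M => ?_
  obtain ⟨W, f, g, -⟩ := IsCofilteredOrEmpty.cone_objs M (nbhd₀ p (V.left.isoSpec.inv ≫ V.hom) a ha γ hγ)
  obtain ⟨Z, j, -⟩ := exists_piece p (V.left.isoSpec.inv ≫ V.hom) a ha γ hγ hψ.symm W g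
  exact ⟨_, ⟨Z⟩, ⟨j ≫ f⟩⟩

theorem exists_lift_of_mem_etTop (p : FieldPt X.obj) (hp : p.IsGeometric) {E : EtOver X.obj} (R : Sieve E)
    (hR : R ∈ etTop X.obj E) (x : (FieldPt.liftsTo p).obj E) :
    ∃ (Y : EtOver X.obj) (f : Y ⟶ E) (_ : R f) (y : (FieldPt.liftsTo p).obj Y),
      (FieldPt.liftsTo p).map f y = x := by
  haveI : IsAlgClosed p.K := hp
  obtain ⟨P, hP, hle⟩ := Precoverage.mem_toGrothendieck_iff_of_isStableUnderComposition.1 hR
  obtain ⟨ι, Ui, g, rfl⟩ := P.exists_eq_ofArrows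
  rw [AlgSp.ofArrows_mem_etPre_iff] at hP
  obtain ⟨i, z, hz⟩ := hP (x.1.left (IsLocalRing.closedPoint p.K))
  obtain ⟨γ, h₁, -⟩ := Groth.L23.QFL.exists_lift_algClosed
    (a := (AlgSp.yon S).map (g i).hom.left) (Groth.L23.repWith_map (AlgSp.EtOver.etale_left (g i)))
    ((AlgSp.yon S).map x.1) z (IsLocalRing.closedPoint p.K)
    (by rw [Groth.L23.ofPt_map, Groth.L23.ofPt_map, hz])
  rw [← Functor.map_comp] at h₁
  have h₂ : γ ≫ (g i).hom.left = x.1 := (AlgSp.yon S).map_injective h₁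
  refine ⟨Ui i, g i, hle _ _ ⟨i⟩, ⟨γ, ?_⟩, Subtype.ext h₂⟩
  rw [← AlgSp.EtOver.w (g i), ← Category.assoc, ← Functor.map_comp, h₂]
  exact x.2

/-- The point of the small étale site given by a geometric point. -/
noncomputable def sitePoint (p : FieldPt X.obj) (hp : p.IsGeometric) :
    GrothendieckTopology.Point.{u} (etTop X.obj) where
  fiber := FieldPt.liftsTo p
  isCofiltered := Groth.Agent.S10217.result X p hp
  initiallySmall := initiallySmall_etNbhd p hp
  jointly_surjective R hR x := exists_lift_of_mem_etTop p hp R hR x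

@[simp] theorem sitePoint_fiber (p : FieldPt X.obj) (hp : p.IsGeometric) :
    (sitePoint p hp).fiber = FieldPt.liftsTo p := rfl

theorem presheafFiber_eq (p : FieldPt X.obj) (hp : p.IsGeometric) :
    (sitePoint p hp).presheafFiber (A := Type (u + 1)) = stalkEtPshFunctor (Type (u + 1)) p := rfl

theorem sheafFiber_eq (p : FieldPt X.obj) (hp : p.IsGeometric) :
    (sitePoint p hp).sheafFiber (A := Type (u + 1)) = stalkEtFunctor (Type (u + 1)) p := rfl

end Groth.L23.SH
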