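import Groth.Agent.L23.LiftDescent
import Groth.Agent.L23.DVRVC

/-!
# The valuative criterion without extensions for representable morphisms
-/

universe u

open CategoryTheory CategoryTheory.Limits AlgebraicGeometry AlgSp IsLocalRing

set_option backward.isDefEq.respectTransparency.types false
set_option linter.style.haveILetI false

namespace Groth.L23.StrictVC

/-- Lifts descend along a dominating extension for schemes. -/
theorem exists_section {W : Scheme.{u}} {A K A' K' : Type u} [CommRing A] [IsDomain A] [ValuationRing A]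
    [Field K] [Algebra A K] [IsFractionRing A K] [CommRing A'] [IsDomain A'] [ValuationRing A'] [Field K']
    [Algebra A' K'] (φ : A →+* A') [IsLocalHom φ] (ψ : K →+* K')
    (hcomm : (algebraMap A' K').comp φ = ψ.comp (algebraMap A K)) (hinj : Function.Injective (algebraMap A' K'))
    (π : W ⟶ Spec (CommRingCat.of A)) (k : Spec (CommRingCat.of K) ⟶ W)
    (hk : k ≫ π = Spec.map (CommRingCat.ofHom (algebraMap A K)))
    (l : Spec (CommRingCat.of A') ⟶ W)
    (hl : Spec.map (CommRingCat.ofHom (algebraMap A' K')) ≫ l = Spec.map (CommRingCat.ofHom ψ) ≫ k) :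
    ∃ σ : Spec (CommRingCat.of A) ⟶ W,
      σ ≫ π = 𝟙 _ ∧ Spec.map (CommRingCat.ofHom (algebraMap A K)) ≫ σ = k := by
  obtain ⟨_, ⟨B, hB, rfl⟩, hwB, -⟩ :=
    W.isBasis_affineOpens.exists_subset_of_mem_open (Set.mem_univ (l (closedPoint A'))) isOpen_univ
  change W.Opens at B
  haveI : IsOpenImmersion hB.fromSpec := inferInstance
  have hlr : Set.range l ⊆ Set.range hB.fromSpec := by
    rw [hB.range_fromSpec]
    rintro _ ⟨z, rfl⟩
    exact ((IsLocalRing.specializes_closedPoint z).map l.continuous).mem_open B.isOpen hwB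
  have hkr : Set.range k ⊆ Set.range hB.fromSpec := by
    rintro _ ⟨z, rfl⟩
    obtain ⟨z', rfl⟩ : ∃ z', Spec.map (CommRingCat.ofHom ψ) z' = z :=
      ⟨closedPoint K', Subsingleton.elim (α := PrimeSpectrum K) _ _⟩
    rw [← Scheme.Hom.comp_apply, ← hl, Scheme.Hom.comp_apply]
    exact hlr ⟨_, rfl⟩
  obtain ⟨β, hβ⟩ := Spec.map_surjective (IsOpenImmersion.lift hB.fromSpec l hlr)
  obtain ⟨α, hα⟩ := Spec.map_surjective (IsOpenImmersion.lift hB.fromSpec k hkr)
  have hβ' : Spec.map β ≫ hB.fromSpec = l := by rw [hβ, IsOpenImmersion.lift_fac]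
  have hα' : Spec.map α ≫ hB.fromSpec = k := by rw [hα, IsOpenImmersion.lift_fac]
  have e1 : β ≫ CommRingCat.ofHom (algebraMap A' K') = α ≫ CommRingCat.ofHom ψ := by
    apply Spec.map_injective
    rw [← cancel_mono hB.fromSpec, Spec.map_comp, Spec.map_comp, Category.assoc, Category.assoc, hα', hβ', hl]
  have hmem : ∀ r, α.hom r ∈ (algebraMap A K).range := fun r => by
    have hr : algebraMap A' K' (β.hom r) = ψ (α.hom r) := congrArg (fun g => g.hom r) e1
    rcases ValuationRing.isInteger_or_isInteger A (α.hom r) with h | h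
    · exact h
    · obtain ⟨c, hc⟩ := h
      by_cases h0 : α.hom r = 0
      · exact ⟨0, by rw [h0, map_zero]⟩
      have hu : IsUnit (φ c) := IsUnit.of_mul_eq_one (β.hom r) (hinj (by
        rw [map_mul, map_one, hr, ← RingHom.comp_apply, hcomm, RingHom.comp_apply, hc, ← map_mul,
          inv_mul_cancel₀ h0, map_one]))
      obtain ⟨d, hd⟩ := (isUnit_of_map_unit φ c hu)
      refine ⟨↑d⁻¹, ?_⟩
      have hd1 : algebraMap A K ↑d⁻¹ * (α.hom r)⁻¹ = 1 := by rw [← hc, ← map_mul, ← hd, Units.inv_mul, map_one]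
      exact (eq_inv_of_mul_eq_one_left hd1).trans (inv_inv _)
  let e := RingEquiv.ofBijective (algebraMap A K).rangeRestrict
    ⟨fun x y h => IsFractionRing.injective A K (congrArg Subtype.val h), RingHom.rangeRestrict_surjective _⟩
  let γ := CommRingCat.ofHom (e.symm.toRingHom.comp (α.hom.codRestrict _ hmem))
  have hγ : γ ≫ CommRingCat.ofHom (algebraMap A K) = α := by
    ext r
    exact congrArg Subtype.val (e.apply_symm_apply ⟨α.hom r, hmem r⟩)
  have hσ : Spec.map (CommRingCat.ofHom (algebraMap A K)) ≫ Spec.map γ ≫ hB.fromSpec = k := by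
    rw [← Category.assoc, ← Spec.map_comp, hγ, hα']
  refine ⟨Spec.map γ ≫ hB.fromSpec, ?_, hσ⟩
  obtain ⟨c, hc⟩ := Spec.map_surjective ((Spec.map γ ≫ hB.fromSpec) ≫ π)
  rw [← hc, ← Spec.map_id]
  congr 1
  have h2 : c ≫ CommRingCat.ofHom (algebraMap A K) = CommRingCat.ofHom (algebraMap A K) := by
    apply Spec.map_injective
    rw [Spec.map_comp, hc, ← Category.assoc, hσ, hk]
  ext x
  exact IsFractionRing.injective A K (congrArg (fun g => g.hom x) h2)

variable {S : Scheme.{u}} {X Y : Sp S}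

theorem existVC_iff {f : X ⟶ Y} (hf : Representable f) : ExistVC f ↔ ExistVCStrict f := by
  refine ⟨fun h v => ?_, fun h v => hasLiftExt_of_hasLift v (h v)⟩
  obtain ⟨e, l, hl1, hl2⟩ := h v
  haveI := e.isLocalHom
  have sq := hf.isPullback v.bot
  obtain ⟨k', hk1, hk2⟩ : ∃ k' : v.ptK ⟶ hf.pullback v.bot,
      (yon S).map k' ≫ hf.fst v.bot = v.top ∧ k' ≫ hf.snd v.bot = v.j := by
    obtain ⟨k', hk'⟩ := (yon S).map_surjective (sq.lift v.top ((yon S).map v.j) v.comm)
    exact ⟨k', by rw [hk', sq.lift_fst], (yon S).map_injective (by rw [Functor.map_comp, hk', sq.lift_snd])⟩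
  obtain ⟨l', hl'1, hl'2⟩ : ∃ l' : e.ptA' ⟶ hf.pullback v.bot,
      (yon S).map l' ≫ hf.fst v.bot = l ∧ l' ≫ hf.snd v.bot = Over.homMk (Spec.map (CommRingCat.ofHom e.φ)) rfl := by
    obtain ⟨l', hl'⟩ := (yon S).map_surjective (sq.lift l _ hl2)
    exact ⟨l', by rw [hl', sq.lift_fst], (yon S).map_injective (by rw [Functor.map_comp, hl', sq.lift_snd])⟩
  let i : e.ptK' ⟶ e.ptA' := Over.homMk (Spec.map (CommRingCat.ofHom (algebraMap e.A' e.K'))) rfl
  let ψ' : e.ptK' ⟶ v.ptK := Over.homMk (Spec.map (CommRingCat.ofHom e.ψ)) (by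
    change Spec.map _ ≫ Spec.map _ ≫ _ = Spec.map _ ≫ Spec.map _ ≫ _
    rw [← Spec.map_comp_assoc, ← Spec.map_comp_assoc, ← CommRingCat.ofHom_comp, ← CommRingCat.ofHom_comp, e.comm])
  have hsq : i ≫ l' = ψ' ≫ k' := (yon S).map_injective (sq.hom_ext
    (by rw [Functor.map_comp, Functor.map_comp, Category.assoc, Category.assoc, hl'1, hk1]; exact hl1)
    (by
      rw [← Functor.map_comp, ← Functor.map_comp, Category.assoc, Category.assoc, hl'2, hk2]
      congr 1
      refine Over.OverMorphism.ext ?_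
      show Spec.map _ ≫ Spec.map _ = Spec.map _ ≫ Spec.map _
      rw [← Spec.map_comp, ← Spec.map_comp, ← CommRingCat.ofHom_comp, ← CommRingCat.ofHom_comp, e.comm]))
  obtain ⟨σ, hσ1, hσ2⟩ := exists_section e.φ e.ψ e.comm (IsFractionRing.injective e.A' e.K')
    (hf.snd v.bot).left k'.left (congrArg CommaMorphism.left hk2) l'.left (congrArg CommaMorphism.left hsq)
  let s : v.ptA ⟶ hf.pullback v.bot := Over.homMk σ (by
    rw [← Over.w (hf.snd v.bot), ← Category.assoc, hσ1]; exact Category.id_comp _)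
  refine ⟨(yon S).map s ≫ hf.fst v.bot, ?_, ?_⟩
  · rw [← Category.assoc, ← Functor.map_comp, show v.j ≫ s = k' from Over.OverMorphism.ext hσ2, hk1]
  · rw [Category.assoc, sq.w, ← Category.assoc, ← Functor.map_comp,
      show s ≫ hf.snd v.bot = 𝟙 _ from Over.OverMorphism.ext hσ1, (yon S).map_id, Category.id_comp]

end Groth.L23.StrictVC
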