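import Groth.Agent.L23.LocP
import Groth.Agent.L23.Points
import Mathlib.AlgebraicGeometry.AlgClosed.Basic
import Mathlib.FieldTheory.IsAlgClosed.AlgebraicClosure
import Mathlib.Topology.JacobsonSpace

/-!
# Surjectivity on points over algebraically closed fields
-/

universe u

open CategoryTheory CategoryTheory.Limits AlgebraicGeometry AlgSp TopologicalSpace

set_option autoImplicit false
set_option linter.style.haveILetI false
set_option backward.isDefEq.respectTransparency.types false

namespace Groth.L23.SurjPts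

theorem surjective_iff_algClosed {S : Scheme.{u}} {X Y : Sp S} (hX : IsAlgSpace X) (hY : IsAlgSpace Y) {f : X ⟶ Y}
    (hf : LocP @LocallyOfFiniteType f) :
    IsSurjectiveMor f ↔
      ∀ (k : Type u) [Field k] [IsAlgClosed k] (str : Spec (CommRingCat.of k) ⟶ S)
        (y : (yon S).obj (Over.mk str) ⟶ Y), ∃ x : (yon S).obj (Over.mk str) ⟶ X, x ≫ f = y := by
  constructor
  · intro hs k _ _ str y
    let T : Over S := Over.mk str
    have sq := IsPullback.of_hasPullback f y
    obtain ⟨x₀, hx₀⟩ := hs (Points.ofPt y (IsLocalRing.closedPoint k))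
    obtain ⟨p, -, -⟩ := exists_of_isPullback sq x₀ (Points.ofScheme T (IsLocalRing.closedPoint k)) (by
      rw [← Points.ofPt_eq_map_ofScheme]; exact hx₀)
    have hP : IsAlgSpace (pullback f y) := isAlgSpace_of_isPullback hY.diag hX (IsAlgSpace.yon_obj _) sq
    obtain ⟨W, q, hq, hqs⟩ := hP.atlas
    obtain ⟨w₁, -⟩ := surjective_ofPt hqs p
    obtain ⟨m, hm⟩ := (yon S).map_surjective (q ≫ pullback.snd f y)
    haveI : LocallyOfFiniteType m.left :=
      locP_of_isPullback etLocal_lft hX hY (IsAlgSpace.yon_obj _) sq hf q (𝟙 _) m hq (repWith_of_isIso _)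
        (by rw [Category.comp_id, hm])
    haveI : JacobsonSpace T.left := inferInstanceAs (JacobsonSpace (Spec (CommRingCat.of k)))
    haveI : JacobsonSpace W.left := LocallyOfFiniteType.jacobsonSpace m.left
    obtain ⟨w, -, hw⟩ := nonempty_inter_closedPoints (Z := (Set.univ : Set W.left)) ⟨w₁, trivial⟩
      isOpen_univ.isLocallyClosed
    let e : T ⟶ W := Over.homMk (pointOfClosedPoint (K := k) m.left w hw) (by
      show pointOfClosedPoint (K := k) m.left w hw ≫ W.hom = str
      rw [← Over.w m, pointOfClosedPoint_comp_assoc]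
      rfl)
    have he : e ≫ m = 𝟙 T := Over.OverMorphism.ext (pointOfClosedPoint_comp (K := k) m.left w hw)
    refine ⟨(yon S).map e ≫ q ≫ pullback.fst f y, ?_⟩
    rw [Category.assoc, Category.assoc, pullback.condition, ← Category.assoc q, ← hm, ← Category.assoc,
      ← Functor.map_comp, he, CategoryTheory.Functor.map_id, Category.id_comp]
  · intro h y
    obtain ⟨p, rfl⟩ := Points.mk_surjective y
    let φ : Spec (CommRingCat.of (AlgebraicClosure p.K)) ⟶ Spec (CommRingCat.of p.K) :=
      Spec.map (CommRingCat.ofHom (algebraMap p.K (AlgebraicClosure p.K)))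
    let a : Over.mk (φ ≫ p.str) ⟶ p.pt := Over.homMk φ rfl
    obtain ⟨x, hx⟩ := h (AlgebraicClosure p.K) (φ ≫ p.str) ((yon S).map a ≫ p.toHom)
    haveI : Subsingleton p.pt.left := inferInstanceAs (Subsingleton (Spec (CommRingCat.of p.K)))
    refine ⟨Points.ofPt x (IsLocalRing.closedPoint _), ?_⟩
    rw [Points.map_ofPt, hx, ofPt_comp, Subsingleton.elim (a.left _) (IsLocalRing.closedPoint p.K),
      Points.ofPt_toHom]

end Groth.L23.SurjPts
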