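import Groth.Agent.L23.ThickTop
import Groth.Agent.L23.AlgSpace

/-!
# Separation properties along thickenings
-/

universe u

open CategoryTheory CategoryTheory.Limits AlgebraicGeometry AlgSp

set_option backward.isDefEq.respectTransparency.types false

namespace Groth.L23

variable {S : Scheme.{u}} {X X' Y Y' : Sp S} {i : X ⟶ X'} {j : Y ⟶ Y'} {f : X ⟶ Y} {f' : X' ⟶ Y'}

theorem thick_diagonal (hi : IsThickMor i) (hj : IsThickMor j) (w : i ≫ f' = f ≫ j) :
    IsThickMor (pullback.map f f f' f' i i j w.symm w.symm) ∧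
      i ≫ pullback.diagonal f' = pullback.diagonal f ≫ pullback.map f f f' f' i i j w.symm w.symm := by
  have := mono_of_isThickMor hj
  refine ⟨?_, by apply pullback.hom_ext <;> simp [pullback.map, pullback.lift_fst, pullback.lift_snd]⟩
  have hcomp : ∀ {A B C : Sp S} {a : A ⟶ B} {b : B ⟶ C}, IsThickMor a → IsThickMor b → IsThickMor (a ≫ b) :=
    fun {A B C a b} ha hb => by
      have : (thick : MorphismProperty Scheme.{u}).IsStableUnderComposition :=
        ⟨fun φ ψ (h : MoreMor.IsThickening φ) (h' : MoreMor.IsThickening ψ) => by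
          have := h.1; have := h.2; have := h'.1; have := h'.2
          exact ⟨(inferInstance : IsClosedImmersion (φ ≫ ψ)), (inferInstance : Surjective (φ ≫ ψ))⟩⟩
      exact repWith_comp ha hb
  -- the three steps
  have eq₁ : IsPullback (pullback.fst f f) (pullback.snd f f) (i ≫ f') (i ≫ f') := by
    rw [w]
    exact IsPullback.mk' (by rw [← Category.assoc, pullback.condition, Category.assoc])
      (fun _ _ _ h₁ h₂ => pullback.hom_ext h₁ h₂)
      (fun T a b hab => ⟨pullback.lift a b (by rw [← cancel_mono j, Category.assoc, Category.assoc, hab]),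
        pullback.lift_fst _ _ _, pullback.lift_snd _ _ _⟩)
  have sq₁ := IsPullback.of_hasPullback f' (i ≫ f')
  have sq₂ := IsPullback.of_hasPullback f' f'
  let u := sq₁.lift (pullback.fst f f ≫ i) (pullback.snd f f) (by rw [Category.assoc]; exact eq₁.w)
  let v := sq₂.lift (pullback.fst f' (i ≫ f')) (pullback.snd f' (i ≫ f') ≫ i)
    (by rw [Category.assoc]; exact sq₁.w)
  have hu : IsThickMor u := by
    refine repWith_of_isPullback (IsPullback.of_bot ?_ (sq₁.lift_fst _ _ _).symm sq₁) hi
    rw [sq₁.lift_snd]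
    exact eq₁
  have hv : IsThickMor v := by
    refine repWith_of_isPullback (IsPullback.of_bot ?_ (sq₂.lift_snd _ _ _).symm sq₂.flip) hi
    rw [sq₂.lift_fst]
    exact sq₁.flip
  have e : pullback.map f f f' f' i i j w.symm w.symm = u ≫ v := by
    apply pullback.hom_ext <;>
      simp [u, v, pullback.map, pullback.lift_fst, pullback.lift_snd]
  rw [e]
  exact hcomp hu hv

theorem separatedMor_thick_iff (hX' : IsAlgSpace X') (hY' : IsAlgSpace Y') (hi : IsThickMor i)
    (hj : IsThickMor j) (w : i ≫ f' = f ≫ j) :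
    (IsSeparatedMor f ↔ IsSeparatedMor f') ∧ (IsQuasiSeparatedMor f ↔ IsQuasiSeparatedMor f') := by
  have hX : IsAlgSpace X := isAlgSpace_of_representable_to hX' hi.1
  have hY : IsAlgSpace Y := isAlgSpace_of_representable_to hY' hj.1
  obtain ⟨hm, e⟩ := thick_diagonal hi hj w
  have hP' := isAlgSpace_of_isPullback hY'.diag hX' hX' (IsPullback.of_hasPullback f' f')
  refine ⟨?_, ?_⟩
  · rw [isSeparatedMor_iff_univClosed hX, isSeparatedMor_iff_univClosed hX']
    exact thick_univSp_iff hX' hP' hi hm e IsClosedMor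
      (fun n m s₀ s hn hm e => (topo_iff n m s₀ s hn hm e).2.1)
  · have hP := isAlgSpace_of_isPullback hY.diag hX hX (IsPullback.of_hasPullback f f)
    have h := qcMor_thick_iff hX' hP' hi hm e
    exact ⟨fun hq => repWith_quasiCompact_of_isQuasiCompactMor (diagonal_properties hX' f').1 (h.1 (isQuasiCompactMor_of_repWith hq)),
      fun hq => repWith_quasiCompact_of_isQuasiCompactMor (diagonal_properties hX f).1 (h.2 (isQuasiCompactMor_of_repWith hq))⟩

end Groth.L23
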