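import Groth.Agent.L23.ThickIntegral
import Groth.Agent.L23.ThickSep
import Groth.Agent.L23.MorCalc
import Groth.Agent.L23.OpenSub
import Groth.Agent.L23.DeformIso
import Groth.Agent.S1313
import Groth.Agent.S1316

/-!
# Finite morphisms and immersions along cartesian thickenings
-/

universe u

open CategoryTheory CategoryTheory.Limits AlgebraicGeometry AlgSp

set_option backward.isDefEq.respectTransparency.types false

namespace Groth.L23

variable {S : Scheme.{u}} {X X' Y Y' : Sp S} {i : X ⟶ X'} {j : Y ⟶ Y'} {f : X ⟶ Y} {f' : X' ⟶ Y'}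

/-- The scheme squares over a test scheme. -/
theorem exists_scheme_square (hc : IsPullback i f f' j) (hj : IsThickMor j) {T : Over S}
    (g : (yon S).obj T ⟶ Y') {W : Over S} {fst : (yon S).obj W ⟶ X'} {s : W ⟶ T}
    (sq : IsPullback fst ((yon S).map s) f' g) :
    ∃ (W₀ T₀ : Over S) (j' : W₀ ⟶ W) (s₀ : W₀ ⟶ T₀) (jT : T₀ ⟶ T) (gT : (yon S).obj T₀ ⟶ Y)
      (l : (yon S).obj W₀ ⟶ X), IsPullback l ((yon S).map s₀) f gT ∧
      IsPullback j'.left s₀.left s.left jT.left ∧ MoreMor.IsThickening jT.left := by
  obtain ⟨T₀, jT, gT, sT⟩ : ∃ (T₀ : Over S) (jT : T₀ ⟶ T) (gT : (yon S).obj T₀ ⟶ Y),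
      IsPullback ((yon S).map jT) gT g j := ⟨_, _, _, (hj.1.isPullback g).flip⟩
  have s₀ : IsPullback (pullback.fst s jT) (pullback.snd s jT) s jT := IsPullback.of_hasPullback _ _
  have big : IsPullback ((yon S).map (pullback.fst s jT) ≫ fst) ((yon S).map (pullback.snd s jT)) f'
      (gT ≫ j) := sT.w ▸ (s₀.map (yon S)).paste_horiz sq
  let l := hc.lift ((yon S).map (pullback.fst s jT) ≫ fst) ((yon S).map (pullback.snd s jT) ≫ gT)
    (by rw [Category.assoc _ gT, ← big.w, Category.assoc])
  exact ⟨_, _, _, _, _, _, l, IsPullback.of_right (by rw [hc.lift_fst]; exact big) (hc.lift_snd _ _ _) hc,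
    s₀.map (Over.forget S), isThickening_of_isThickMor hj sT⟩

/-- A finite morphism stays affine on a thickening. -/
theorem repWith_isAffineHom_thick (hX' : IsAlgSpace X') (hY' : IsAlgSpace Y') (hc : IsPullback i f f' j)
    (hj : IsThickMor j) (hf : RepWith @IsIntegralHom f) : RepWith @IsAffineHom f' := by
  have hint : IsIntegralMor (i ≫ f') := by
    rw [hc.w]
    exact isIntegralMor_iff.2 (repWith_comp hf
      (repWith_mono (fun φ (h : MoreMor.IsThickening φ) => have := h.1; show IsIntegralHom φ from inferInstance) hj))
  exact repWith_isAffineHom_of_isAffineMor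
    (isAffineMor_of_thickening_integral hX' hY' (repWith_of_isPullback hc.flip hj) hint)

theorem lft_of_locP (hX' : IsAlgSpace X') (hY' : IsAlgSpace Y') (hft' : LocP @LocallyOfFiniteType f')
    {T W : Over S} {g : (yon S).obj T ⟶ Y'} {fst : (yon S).obj W ⟶ X'} {s : W ⟶ T}
    (sq : IsPullback fst ((yon S).map s) f' g) : LocallyOfFiniteType s.left :=
  locP_of_isPullback etLocal_lft hX' hY' (IsAlgSpace.yon_obj T) sq hft'
    (𝟙 _) (𝟙 _) s (repWith_id _ _) (repWith_id _ _) (by simp)

theorem repWith_isFinite_thick (hX' : IsAlgSpace X') (hY' : IsAlgSpace Y') (hc : IsPullback i f f' j)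
    (hj : IsThickMor j) (hft' : LocP @LocallyOfFiniteType f') (hf : RepWith @IsFinite f) :
    RepWith @IsFinite f' := by
  have haff := repWith_isAffineHom_thick hX' hY' hc hj
    (repWith_mono (fun φ (_ : IsFinite φ) => show IsIntegralHom φ from inferInstance) hf)
  refine ⟨haff.1, fun T W g fst s sq => ?_⟩
  obtain ⟨W₀, T₀, j', s₀, jT, gT, l, sl, sq', hth⟩ := exists_scheme_square hc hj g sq
  have := hth.1
  have := hth.2
  have : LocallyOfFiniteType s.left := lft_of_locP hX' hY' hft' sq
  have : IsAffineHom s.left := repWith_prop haff sq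
  have : IsFinite s₀.left := repWith_prop hf sl
  have : Surjective j'.left := MorphismProperty.of_isPullback sq'.flip hth.2
  have : UniversallyClosed (j'.left ≫ s.left) := by rw [sq'.w]; infer_instance
  have : UniversallyClosed s.left := UniversallyClosed.of_comp_surjective j'.left s.left
  have : IsIntegralHom s.left :=
    IsIntegralHom.iff_universallyClosed_and_isAffineHom.2 ⟨inferInstance, inferInstance⟩
  exact (IsFinite.iff_isIntegralHom_and_locallyOfFiniteType s.left).2 ⟨inferInstance, inferInstance⟩

theorem repWith_isClosedImmersion_thick (hX' : IsAlgSpace X') (hY' : IsAlgSpace Y')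
    (hc : IsPullback i f f' j) (hj : IsThickMor j) (hft' : LocP @LocallyOfFiniteType f')
    (hf : RepWith @IsClosedImmersion f) : RepWith @IsClosedImmersion f' := by
  have hfin := repWith_isFinite_thick hX' hY' hc hj hft'
    (repWith_mono (fun φ (_ : IsClosedImmersion φ) => show IsFinite φ from inferInstance) hf)
  refine ⟨hfin.1, fun T W g fst s sq => ?_⟩
  obtain ⟨W₀, T₀, j', s₀, jT, gT, l, sl, sq', hth⟩ := exists_scheme_square hc hj g sq
  have : LocallyOfFiniteType s.left := lft_of_locP hX' hY' hft' sq
  have : IsClosedImmersion s₀.left := repWith_prop hf sl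
  exact (Groth.Agent.S1313.result j'.left jT.left s₀.left s.left hth sq').1 this

theorem repWith_isImmersion_thick (hX' : IsAlgSpace X') (hY' : IsAlgSpace Y') (hc : IsPullback i f f' j)
    (hj : IsThickMor j) (hft' : LocP @LocallyOfFiniteType f') (hf : RepWith @IsImmersion f) :
    RepWith @IsImmersion f' := by
  have hi : IsThickMor i := repWith_of_isPullback hc.flip hj
  have hjim : RepWith @IsImmersion j :=
    repWith_mono (fun φ (h : MoreMor.IsThickening φ) => have := h.1; show IsImmersion φ from inferInstance) hj
  obtain ⟨-, hlc⟩ := isEmbedding_map_of_immersion hY' (repWith_comp hf hjim)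
  have hrange : Set.range (Points.map f') = Set.range (Points.map (f ≫ j)) := by
    rw [← hc.w, show Points.map (i ≫ f') = Points.map f' ∘ Points.map i from funext (Points.map_comp i f'),
      (isHomeomorph_of_isThickMor hX' hi).surjective.range_comp]
  rw [← hrange] at hlc
  let O : TopologicalSpace.Opens (Points Y') := ⟨_, hlc.isOpen_coborder⟩
  have hO := repWith_openSubι O
  have hsub : Set.range (Points.map f') ⊆ Set.range (Points.map (openSubι O)) := by
    rw [range_openSubι]; exact subset_coborder
  obtain ⟨g', hg'⟩ := (exists_factor_iff hO f').2 hsub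
  have sqU := IsPullback.of_hasPullback j (openSubι O)
  have : Mono (openSubι O) := mono_of_repWith_openImmersion hO
  have hju : IsThickMor (pullback.snd j (openSubι O)) := repWith_of_isPullback sqU hj
  let g : X ⟶ pullback j (openSubι O) := sqU.lift f (i ≫ g') (by rw [Category.assoc, hg', hc.w])
  have hc' : IsPullback i g g' (pullback.snd j (openSubι O)) := by
    refine IsPullback.mk' (sqU.lift_snd _ _ _).symm (fun T a b h₁ h₂ => ?_) (fun T a b hab => ?_)
    · refine hc.hom_ext h₁ ?_
      have := congrArg (· ≫ pullback.fst j (openSubι O)) h₂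
      simpa [g, sqU.lift_fst] using this
    · have e : a ≫ f' = (b ≫ pullback.fst j (openSubι O)) ≫ j := by
        rw [← hg', ← Category.assoc, hab, Category.assoc, Category.assoc, sqU.w]
      refine ⟨hc.lift a (b ≫ pullback.fst j (openSubι O)) e, hc.lift_fst _ _ _, sqU.hom_ext ?_ ?_⟩
      · rw [Category.assoc, sqU.lift_fst, hc.lift_snd]
      · rw [Category.assoc, sqU.lift_snd, hc.lift_fst_assoc, hab]
  have hg : RepWith @IsImmersion g := by
    refine repWith_of_comp_diagonal (q := pullback.fst j (openSubι O)) (by rw [sqU.lift_fst]; exact hf) ?_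
    exact repWith_of_isIso _
  have hU' : IsAlgSpace (openSub O) := isAlgSpace_openSub O hY'
  have hgc : RepWith @IsClosedImmersion g := by
    refine ⟨hg.1, fun T W k fst s sq => ?_⟩
    have : IsImmersion s.left := repWith_prop hg sq
    refine IsClosedImmersion.of_isPreimmersion s.left ?_
    -- the range is the trace of the closure of the image
    let C : Set (Points Y') := closure (Set.range (Points.map f'))
    have hr : Set.range s.left =
        (fun t => Points.map (pullback.snd j (openSubι O) ≫ openSubι O) (Points.ofPt k t)) ⁻¹' C := by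
      ext t
      constructor
      · rintro ⟨w, rfl⟩
        show Points.map (pullback.snd j (openSubι O) ≫ openSubι O) (Points.ofPt k (s.left w)) ∈ C
        rw [← map_ofPt_of_isPullback sq w, ← Points.map_comp, ← reassoc_of% hc'.w, hg', Points.map_comp]
        exact subset_closure ⟨_, rfl⟩
      · intro ht
        have hin : Points.map (pullback.snd j (openSubι O) ≫ openSubι O) (Points.ofPt k t) ∈ O := by
          rw [Points.map_comp, ← SetLike.mem_coe, ← range_openSubι O]; exact ⟨_, rfl⟩
        have : _ ∈ C ∩ coborder (Set.range (Points.map f')) := ⟨ht, hin⟩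
        rw [closure_inter_coborder] at this
        obtain ⟨x', hx'⟩ := this
        obtain ⟨x, rfl⟩ := (isHomeomorph_of_isThickMor hX' hi).surjective x'
        have e : Points.map g x = Points.ofPt k t := by
          refine (isHomeomorph_of_isThickMor hU' hju).injective ?_
          have hinj : Function.Injective (Points.map (openSubι O)) := injective_map_of_repWith
            (repWith_mono (fun φ (_ : IsOpenImmersion φ) => show UniversallyInjective φ from inferInstance) hO)
          refine hinj ?_
          calc _ = Points.map f' (Points.map i x) := by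
                rw [← Points.map_comp, ← Points.map_comp, ← Points.map_comp, ← hg', reassoc_of% hc'.w]
            _ = _ := by rw [hx']; exact Points.map_comp _ _ _
        obtain ⟨w, -, hw⟩ := exists_point_of_isPullback sq e
        exact ⟨w, hw⟩
    rw [hr]
    exact isClosed_closure.preimage ((Points.continuous_map _).comp (Points.continuous_ofPt k))
  have hft'' : LocP @LocallyOfFiniteType g' :=
    locP_of_comp etLocal_lft (fun φ ψ (h : LocallyOfFiniteType (φ ≫ ψ)) => locallyOfFiniteType_of_comp φ ψ)
      hX' hU' hY' (hg'.symm ▸ hft')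
  have hg'ci := repWith_isClosedImmersion_thick hX' hU' hc' hju hft'' hgc
  rw [← hg']
  exact repWith_comp (repWith_mono (fun φ (_ : IsClosedImmersion φ) => show IsImmersion φ from inferInstance) hg'ci)
    (repWith_mono (fun φ (_ : IsOpenImmersion φ) => show IsImmersion φ from inferInstance) hO)

end Groth.L23
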