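import Groth.Agent.L20.ThickeningDescent
import Groth.Agent.L20.ThickeningProps
import Mathlib.AlgebraicGeometry.Morphisms.FiniteType

/-!
# Descending finite type along a thickening of finite order of the source
-/

universe u

open CategoryTheory CategoryTheory.Limits AlgebraicGeometry TensorProduct

set_option backward.isDefEq.respectTransparency.types false

namespace Groth.L23

open Groth.L20.Thick

theorem eq_top_of_sup_smul_top' {A : Type u} [CommRing A] {M : Type u} [AddCommGroup M] [Module A M] (K : Ideal A)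
    (n : ℕ) (hn : K ^ n • (⊤ : Submodule A M) = ⊥) (N : Submodule A M) (h : N ⊔ K • ⊤ = ⊤) : N = ⊤ := by
  suffices ∀ k, (⊤ : Submodule A M) ≤ N ⊔ K ^ k • ⊤ by
    have := this n
    rw [hn, sup_bot_eq] at this
    exact top_le_iff.mp this
  intro k
  induction k with
  | zero => rw [pow_zero, Ideal.one_eq_top, Submodule.top_smul]; exact le_sup_right
  | succ k ih =>
    refine ih.trans (sup_le le_sup_left ?_)
    conv_lhs => rw [← h]
    rw [Submodule.smul_sup, pow_succ, Submodule.mul_smul]
    exact sup_le_sup Submodule.smul_le_right le_rfl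

theorem finiteType_of_baseChange_of_source {A A₀ B : Type u} [CommRing A] [CommRing A₀] [CommRing B] [Algebra A A₀]
    [Algebra A B] (hs : Function.Surjective (algebraMap A A₀))
    (hn : IsNilpotent ((RingHom.ker (algebraMap A A₀)).map (algebraMap A B)))
    (h : Algebra.FiniteType A₀ (A₀ ⊗[A] B)) : Algebra.FiniteType A B := by
  classical
  obtain ⟨s, hs'⟩ := h.out
  have hπ : Function.Surjective (Algebra.TensorProduct.includeRight : B →ₐ[A] A₀ ⊗[A] B) :=
    TensorProduct.mk_surjective A B A₀ hs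
  choose t ht using hπ
  refine ⟨⟨s.image t, ?_⟩⟩
  set C := Algebra.adjoin A ((s.image t : Finset B) : Set B)
  have hC : C.map (Algebra.TensorProduct.includeRight : B →ₐ[A] A₀ ⊗[A] B) = ⊤ := by
    rw [AlgHom.map_adjoin, Finset.coe_image, Set.image_image]
    simp only [ht, Set.image_id']
    refine eq_top_iff.mpr fun z _ => ?_
    have hz : z ∈ Algebra.adjoin A₀ (s : Set (A₀ ⊗[A] B)) := hs' ▸ Algebra.mem_top
    induction hz using Algebra.adjoin_induction with
    | mem x hx => exact Algebra.subset_adjoin hx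
    | algebraMap r =>
      obtain ⟨a, rfl⟩ := hs r
      rw [← IsScalarTower.algebraMap_apply]
      exact Subalgebra.algebraMap_mem _ a
    | add x y _ _ hx hy => exact add_mem (hx Algebra.mem_top) (hy Algebra.mem_top)
    | mul x y _ _ hx hy => exact mul_mem (hx Algebra.mem_top) (hy Algebra.mem_top)
  have hsub : C.toSubmodule ⊔ RingHom.ker (algebraMap A A₀) • ⊤ = ⊤ := by
    refine eq_top_iff.mpr fun b _ => ?_
    obtain ⟨c, hc, hcb⟩ : (1 : A₀) ⊗ₜ[A] b ∈ C.map Algebra.TensorProduct.includeRight := hC ▸ Algebra.mem_top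
    refine Submodule.mem_sup.mpr ⟨c, hc, b - c, ?_, add_sub_cancel c b⟩
    refine mem_smul_top_of_one_tmul_eq_zero hs ?_
    rw [TensorProduct.tmul_sub, sub_eq_zero]
    exact hcb.symm
  obtain ⟨n, hn⟩ := hn
  refine Algebra.toSubmodule_eq_top.mp (eq_top_of_sup_smul_top' _ n ?_ _ hsub)
  rw [Ideal.smul_top_eq_map, Ideal.map_pow, hn]
  rfl

/-- A local property descends along a finite order thickening if its ring version does. -/
theorem descend_of_source (P : MorphismProperty Scheme.{u}) {Q : ∀ {R S : Type u} [CommRing R] [CommRing S],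
      (R →+* S) → Prop} [HasRingHomProperty P Q] [P.IsStableUnderBaseChange]
    (hring : ∀ (A B A₀ : Type u) [CommRing A] [CommRing B] [CommRing A₀] [Algebra A B] [Algebra A A₀],
      Function.Surjective (algebraMap A A₀) → IsNilpotent ((RingHom.ker (algebraMap A A₀)).map (algebraMap A B)) →
      Q (algebraMap A₀ (A₀ ⊗[A] B)) → Q (algebraMap A B))
    {X X' Y Y' : Scheme.{u}} {iX : X ⟶ X'} {iY : Y ⟶ Y'} {f : X ⟶ Y} {f' : X' ⟶ Y'}
    [IsClosedImmersion iY] (hn : IsNilpotent iX.ker) (hc : IsPullback iX f f' iY) (hf : P f) :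
    P f' := by
  rw [HasRingHomProperty.iff_appLE (P := P)]
  intro V U e
  have hV : IsAffineOpen V.1 := V.2
  have hU : IsAffineOpen U.1 := U.2
  have hW : IsAffineOpen (iY ⁻¹ᵁ V.1) := hV.preimage iY
  have w1 : Spec.map (iY.app V.1) ≫ hV.fromSpec = hW.fromSpec ≫ iY := by
    rw [Scheme.Hom.app_eq_appLE]
    exact hV.SpecMap_appLE_fromSpec iY hW le_rfl
  have w2 : Spec.map (f'.appLE V.1 U.1 e) ≫ hV.fromSpec = hU.fromSpec ≫ f' :=
    hV.SpecMap_appLE_fromSpec f' hU e
  have h1 : P (pullback.snd f hW.fromSpec) := MorphismProperty.pullback_snd _ _ hf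
  have hbig := (IsPullback.of_hasPullback f hW.fromSpec).flip.paste_vert hc.flip
  have hsq := ((IsPullback.of_hasPullback (pullback.fst f hW.fromSpec ≫ iX) hU.fromSpec).flip.paste_vert
    hbig.flip)
  rw [← w2, ← w1] at hsq
  have hpb := isPullback_of_comp_mono hV.fromSpec hsq
  have h2 : P (pullback.fst (pullback.fst f hW.fromSpec ≫ iX) hU.fromSpec ≫ pullback.snd f hW.fromSpec) :=
    HasRingHomProperty.comp_of_isOpenImmersion P _ _ h1
  algebraize [(f'.appLE V.1 U.1 e).hom, (iY.app V.1).hom]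
  have hsurj : Function.Surjective (algebraMap Γ(Y', V.1) Γ(Y, iY ⁻¹ᵁ V.1)) :=
    iY.app_surjective _ hV
  have hnil : IsNilpotent ((RingHom.ker (algebraMap Γ(Y', V.1) Γ(Y, iY ⁻¹ᵁ V.1))).map
      (algebraMap Γ(Y', V.1) Γ(X', U.1))) := by
    obtain ⟨n, hn⟩ := hn
    have hci : IsClosedImmersion iX := MorphismProperty.of_isPullback hc.flip ‹IsClosedImmersion iY›
    have := congr(($hn).ideal U)
    rw [Scheme.IdealSheafData.ideal_pow, Pi.pow_apply, Scheme.Hom.ker_apply] at this
    have hzero : RingHom.ker (iX.app U.1).hom ^ n = ⊥ := by simpa using this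
    have hle : (RingHom.ker (iY.app V.1).hom).map (f'.appLE V.1 U.1 e).hom ≤
        RingHom.ker (iX.app U.1).hom := by
      rw [Ideal.map_le_iff_le_comap]
      intro a (ha : (iY.app V.1).hom a = 0)
      show (iX.app U.1).hom ((f'.appLE V.1 U.1 e).hom a) = 0
      have key : f'.appLE V.1 U.1 e ≫ iX.app U.1 = iY.app V.1 ≫
          f.appLE (iY ⁻¹ᵁ V.1) (iX ⁻¹ᵁ U.1) (by
            rw [← Scheme.Hom.comp_preimage, ← hc.w, Scheme.Hom.comp_preimage]
            exact iX.preimage_mono e) := by
        simp only [Scheme.Hom.app_eq_appLE, Scheme.Hom.appLE_comp_appLE]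
        congr 1
        exact hc.w
      rw [← CommRingCat.comp_apply, key, CommRingCat.comp_apply, ha, map_zero]
    refine ⟨n, ?_⟩
    rw [Ideal.zero_eq_bot, eq_bot_iff, ← hzero]
    exact Ideal.pow_right_mono hle n
  refine hring _ _ _ hsurj hnil ?_
  have h3 : P (Spec.map (CommRingCat.ofHom (algebraMap Γ(Y, iY ⁻¹ᵁ V.1)
      (Γ(Y, iY ⁻¹ᵁ V.1) ⊗[Γ(Y', V.1)] Γ(X', U.1))))) := by
    rw [← pullbackSpecIso_inv_fst', P.cancel_left_of_respectsIso]
    have h4 : P (hpb.flip.isoPullback.hom ≫ pullback.fst _ _) := by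
      rw [IsPullback.isoPullback_hom_fst]; exact h2
    exact (P.cancel_left_of_respectsIso hpb.flip.isoPullback.hom _).mp h4
  exact HasRingHomProperty.Spec_iff.mp h3


/-- Finite type descends along a finite order thickening of the source. -/
theorem locallyOfFiniteType_of_thick {X X' Y Y' : Scheme.{u}} {iX : X ⟶ X'} {iY : Y ⟶ Y'}
    {f : X ⟶ Y} {f' : X' ⟶ Y'} [IsClosedImmersion iY] (hn : IsNilpotent iX.ker)
    (hc : IsPullback iX f f' iY) [LocallyOfFiniteType f] : LocallyOfFiniteType f' :=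
  descend_of_source @LocallyOfFiniteType (Q := RingHom.FiniteType)
    (fun A B A₀ _ _ _ _ _ hs hn h => RingHom.finiteType_algebraMap.2
      (finiteType_of_baseChange_of_source hs hn (RingHom.finiteType_algebraMap.1 h))) hn hc ‹_›

end Groth.L23
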