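import Groth.Agent.L23.RelDim
import Groth.Agent.L23.ThickLft
import Groth.Agent.L23.DeformIso
import Groth.Agent.S1309
import Groth.Agent.S1312
import Groth.Agent.S1317
import Groth.Agent.S1320
import Groth.Agent.S1321
import Groth.Agent.S1322
import Groth.Agent.S1384
import Groth.Agent.S1385

/-!
# Local properties of morphisms of thickenings of algebraic spaces
-/

universe u

open CategoryTheory CategoryTheory.Limits AlgebraicGeometry AlgSp

set_option backward.isDefEq.respectTransparency.types false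

namespace Groth.L23

variable {S : Scheme.{u}} {X X' Y Y' B B' : Sp S} {iX : X ⟶ X'} {iY : Y ⟶ Y'} {iB : B ⟶ B'}
  {f : X ⟶ Y} {f' : X' ⟶ Y'} {g : Y ⟶ B} {g' : Y' ⟶ B'}

theorem nonempty_deformChart_of_cart (hX' : IsAlgSpace X') (hY' : IsAlgSpace Y')
    (hc : IsPullback iX f f' iY) (hj : IsThickMor iY) :
    Nonempty (DeformChart iX iY iY f f' (𝟙 Y) (𝟙 Y')) :=
  nonempty_deformChart hX' hY' hY' (by simpa using hc) (IsPullback.of_vert_isIso ⟨by simp⟩) hc.w hj

theorem lft_thick_iff (hX' : IsAlgSpace X') (hY' : IsAlgSpace Y') (hc : IsPullback iX f f' iY)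
    (hj : IsThickMor iY) (hfo : IsFinThickMor iX) :
    LocP @LocallyOfFiniteType f ↔ LocP @LocallyOfFiniteType f' := by
  obtain ⟨D⟩ := nonempty_deformChart_of_cart hX' hY' hc hj
  have hV : MoreMor.IsThickening D.iV.left := isThickening_of_isThickMor hj D.sqb
  obtain ⟨_, hn⟩ := isFiniteOrderThickening_of_isFinThickMor hfo D.ha' D.sqa
  obtain ⟨_, _⟩ := hV
  rw [D.locP_iff etLocal_lft, D.locP_iff' etLocal_lft]
  exact ⟨fun h => haveI := h; locallyOfFiniteType_of_thick hn D.sq₁,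
    fun h => MorphismProperty.of_isPullback D.sq₁ h⟩

theorem DeformChart.isThickening_iV (D : DeformChart iX iY iB f f' g g') (hB : IsThickMor iB) :
    MoreMor.IsThickening D.iV.left :=
  Groth.L20.Thick.isThickening_of_isPullback (D.isThickening hB) D.sqV

theorem DeformChart.lqf_iff (D : DeformChart iX iY iB f f' g g') (hB : IsThickMor iB)
    (h : LocP @LocallyOfFiniteType f ↔ LocP @LocallyOfFiniteType f') :
    LocP (@LocallyQuasiFinite ⊓ @LocallyOfFiniteType) f ↔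
      LocP (@LocallyQuasiFinite ⊓ @LocallyOfFiniteType) f' := by
  rw [D.locP_iff etLocal_lft, D.locP_iff' etLocal_lft] at h
  rw [D.locP_iff etLocal_lqfLft, D.locP_iff' etLocal_lqfLft]
  refine ⟨fun ⟨h₁, h₂⟩ => ?_, fun ⟨h₁, h₂⟩ => ?_⟩
  · have := h.1 h₂
    exact ⟨(Groth.Agent.S1312.result _ _ _ _ (D.isThickening_iV hB) D.sq₁).1 h₁, this⟩
  · have := h.2 h₂
    exact ⟨(Groth.Agent.S1312.result _ _ _ _ (D.isThickening_iV hB) D.sq₁).2 h₁, this⟩

theorem DeformChart.unramified_iff (D : DeformChart iX iY iB f f' g g') (hB : IsThickMor iB)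
    (h : LocP @LocallyOfFiniteType f ↔ LocP @LocallyOfFiniteType f') :
    LocP (@LocallyOfFiniteType ⊓ @FormallyUnramified) f ↔
      LocP (@LocallyOfFiniteType ⊓ @FormallyUnramified) f' := by
  rw [D.locP_iff etLocal_lft, D.locP_iff' etLocal_lft] at h
  rw [D.locP_iff etLocal_unramified, D.locP_iff' etLocal_unramified]
  refine ⟨fun ⟨h₁, h₂⟩ => ?_, fun ⟨h₁, h₂⟩ => ?_⟩
  · have := h.1 h₁
    exact ⟨this, (Groth.L20.Thick.formallyUnramified_iff_of_lft (D.isThickening_iV hB) D.sq₁).1 h₂⟩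
  · exact ⟨h.2 h₁, MorphismProperty.of_isPullback D.sq₁ h₂⟩

theorem DeformChart.relDim_iff (D : DeformChart iX iY iB f f' g g') (hB : IsThickMor iB)
    (h : LocP @LocallyOfFiniteType f ↔ LocP @LocallyOfFiniteType f') (d : WithBot ℕ∞) :
    (LocP @LocallyOfFiniteType f ∧
        ∀ x, HasAtMor (fun _ _ h u => FlatMor.fibreDimAt h u = d) f x) ↔
      (LocP @LocallyOfFiniteType f' ∧
        ∀ x', HasAtMor (fun _ _ h u => FlatMor.fibreDimAt h u = d) f' x') :=
  and_congr h (D.forall_fibreDim_iff (D.isThickening hB) (fun e => e = d))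

theorem deform_local_fin (hX : IsAlgSpace X) (hY : IsAlgSpace Y) (hX' : IsAlgSpace X') (hY' : IsAlgSpace Y') (hB' : IsAlgSpace B')
    (hcX : IsPullback iX (f ≫ g) (f' ≫ g') iB) (hcY : IsPullback iY g g' iB)
    (w : iX ≫ f' = f ≫ iY) (hB : IsFinThickMor iB) (hflat : LocP @Flat (f' ≫ g')) :
    (LocP @Flat f ↔ LocP @Flat f') ∧
    (LocP @LocallyOfFiniteType f ↔ LocP @LocallyOfFiniteType f') ∧
    (LocP @LocallyOfFinitePresentation f ↔ LocP @LocallyOfFinitePresentation f') ∧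
    (LocP @Smooth f ↔ LocP @Smooth f') ∧ (IsEtaleMor f ↔ IsEtaleMor f') := by
  have hiB : IsThickMor iB := by obtain ⟨n, hn, -⟩ := hB; exact hn
  obtain ⟨D⟩ := nonempty_deformChart hX' hY' hB' hcX hcY w hiB
  have hW := D.isFiniteOrderThickening hB
  have : Flat (D.h'.left ≫ D.k'.left) := D.locP_comp_apply hflat
  have hV := (Groth.L20.Thick.deform_setting hW D.sqU D.sqV D.w).2
  refine ⟨?_, ?_, ?_, ?_, ?_⟩
  · rw [D.locP_iff etLocal_flat, D.locP_iff' etLocal_flat]
    exact Groth.Agent.S1317.result _ _ _ _ _ _ _ hW D.sqU D.sqV D.w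
  · rw [D.locP_iff etLocal_lft, D.locP_iff' etLocal_lft]
    exact Groth.Agent.S1309.result _ _ _ _ hV D.sq₁
  · rw [D.locP_iff etLocal_lfp, D.locP_iff' etLocal_lfp]
    exact Groth.Agent.S1320.result _ _ _ _ _ _ _ hW D.sqU D.sqV D.w
  · rw [D.locP_iff etLocal_smooth, D.locP_iff' etLocal_smooth]
    exact Groth.Agent.S1321.result _ _ _ _ _ _ _ hW D.sqU D.sqV D.w
  · rw [isEtaleMor_iff_locP hX hY, isEtaleMor_iff_locP hX' hY', D.locP_iff etLocal_etale, D.locP_iff' etLocal_etale]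
    exact Groth.Agent.S1322.result _ _ _ _ _ _ _ hW D.sqU D.sqV D.w

theorem deform_local_fp (hX : IsAlgSpace X) (hY : IsAlgSpace Y) (hX' : IsAlgSpace X') (hY' : IsAlgSpace Y') (hB' : IsAlgSpace B')
    (hcX : IsPullback iX (f ≫ g) (f' ≫ g') iB) (hcY : IsPullback iY g g' iB)
    (w : iX ≫ f' = f ≫ iY) (hB : IsThickMor iB) (hg' : LocP @LocallyOfFiniteType g')
    (hflat : LocP @Flat (f' ≫ g')) (hfp : LocP @LocallyOfFinitePresentation (f' ≫ g')) :
    (LocP @Flat f ↔ LocP @Flat f') ∧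
    (LocP @LocallyOfFiniteType f ∧ LocP @LocallyOfFiniteType f') ∧
    (LocP @Smooth f ↔ LocP @Smooth f') ∧ (IsEtaleMor f ↔ IsEtaleMor f') := by
  obtain ⟨D⟩ := nonempty_deformChart hX' hY' hB' hcX hcY w hB
  have hW := D.isThickening hB
  have : Flat (D.h'.left ≫ D.k'.left) := D.locP_comp_apply hflat
  have : LocallyOfFinitePresentation (D.h'.left ≫ D.k'.left) := D.locP_comp_apply hfp
  have : LocallyOfFiniteType D.k'.left := D.locP_apply_right hg'
  have : LocallyOfFiniteType D.h'.left := locallyOfFiniteType_of_comp _ D.k'.left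
  refine ⟨?_, ⟨?_, (D.locP_iff' etLocal_lft).2 this⟩, ?_, ?_⟩
  · rw [D.locP_iff etLocal_flat, D.locP_iff' etLocal_flat]
    exact ⟨fun _ => Groth.L20.Thick.flat_of_deform_fp hW D.sqU D.sqV D.w,
      fun h => MorphismProperty.of_isPullback D.sq₁ h⟩
  · exact (D.locP_iff etLocal_lft).2 (MorphismProperty.of_isPullback D.sq₁ this)
  · rw [D.locP_iff etLocal_smooth, D.locP_iff' etLocal_smooth]
    exact Groth.Agent.S1384.result _ _ _ _ _ _ _ hW D.sqU D.sqV D.w
  · rw [isEtaleMor_iff_locP hX hY, isEtaleMor_iff_locP hX' hY', D.locP_iff etLocal_etale, D.locP_iff' etLocal_etale]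
    exact Groth.Agent.S1385.result _ _ _ _ _ _ _ hW D.sqU D.sqV D.w

end Groth.L23
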