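import Groth.Agent.L23.ThickLft
import Groth.Agent.L23.ThickGlobal
import Groth.Agent.L23.ThickLocal
import Groth.Agent.L23.ThickScheme
import Mathlib.AlgebraicGeometry.Morphisms.FinitePresentation
import Mathlib.RingTheory.FinitePresentation

/-!
# Closed immersions along thickenings of finite presentation
-/

universe u

open CategoryTheory CategoryTheory.Limits AlgebraicGeometry TensorProduct AlgSp

set_option backward.isDefEq.respectTransparency.types false

namespace Groth.L23

open Groth.L20.Thick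

/-- A local property descends along a finite order thickening if its ring version does. -/
theorem descend_of_fpThick (P : MorphismProperty Scheme.{u}) {Q : ∀ {R S : Type u} [CommRing R] [CommRing S],
      (R →+* S) → Prop} [HasRingHomProperty P Q] [P.IsStableUnderBaseChange]
    (hring : ∀ (A B A₀ : Type u) [CommRing A] [CommRing B] [CommRing A₀] [Algebra A B] [Algebra A A₀],
      Function.Surjective (algebraMap A A₀) → IsNilpotent ((RingHom.ker (algebraMap A A₀)).map (algebraMap A B)) →
      Q (algebraMap A₀ (A₀ ⊗[A] B)) → Q (algebraMap A B))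
    {X X' Y Y' : Scheme.{u}} {iX : X ⟶ X'} {iY : Y ⟶ Y'} {f : X ⟶ Y} {f' : X' ⟶ Y'}
    [IsClosedImmersion iY] [Surjective iY] [LocallyOfFinitePresentation iY] (hc : IsPullback iX f f' iY) (hf : P f) :
    P f' := by
  rw [HasRingHomProperty.iff_appLE (P := P)]
  intro V U e
  have hV : IsAffineOpen V.1 := V.2
  have hU : IsAffineOpen U.1 := U.2
  have hW : IsAffineOpen (iY ⁻¹ᵁ V.1) := hV.preimage iY
  have w1 : Spec.map (iY.app V.1) ≫ hV.fromSpec = hW.fromSpec ≫ iY := by
    rw [Scheme.Hom.app_eq_appLE]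
    exact hV.SpecMap_appLE_fromSpec iY hW le_rfl
  have w2 : Spec.map (f'.appLE V.1 U.1 e) ≫ hV.fromSpec = hU.fromSpec ≫ f' :=
    hV.SpecMap_appLE_fromSpec f' hU e
  have h1 : P (pullback.snd f hW.fromSpec) := MorphismProperty.pullback_snd _ _ hf
  have hbig := (IsPullback.of_hasPullback f hW.fromSpec).flip.paste_vert hc.flip
  have hsq := ((IsPullback.of_hasPullback (pullback.fst f hW.fromSpec ≫ iX) hU.fromSpec).flip.paste_vert
    hbig.flip)
  rw [← w2, ← w1] at hsq
  have hpb := Groth.L20.Thick.isPullback_of_comp_mono hV.fromSpec hsq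
  have h2 : P (pullback.fst (pullback.fst f hW.fromSpec ≫ iX) hU.fromSpec ≫ pullback.snd f hW.fromSpec) :=
    HasRingHomProperty.comp_of_isOpenImmersion P _ _ h1
  algebraize [(f'.appLE V.1 U.1 e).hom, (iY.app V.1).hom]
  have hsurj : Function.Surjective (algebraMap Γ(Y', V.1) Γ(Y, iY ⁻¹ᵁ V.1)) :=
    iY.app_surjective _ hV
  have hnil : IsNilpotent ((RingHom.ker (algebraMap Γ(Y', V.1) Γ(Y, iY ⁻¹ᵁ V.1))).map
      (algebraMap Γ(Y', V.1) Γ(X', U.1))) := by
    have hfp : (iY.app V.1).hom.FinitePresentation := by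
      rw [Scheme.Hom.app_eq_appLE]
      exact LocallyOfFinitePresentation.finitePresentation_appLE iY hV hW le_rfl
    have hfg : (RingHom.ker (iY.app V.1).hom).FG :=
      haveI : Algebra.FinitePresentation Γ(Y', V.1) Γ(Y, iY ⁻¹ᵁ V.1) := hfp
      Algebra.FinitePresentation.ker_fG_of_surjective (Algebra.ofId Γ(Y', V.1) Γ(Y, iY ⁻¹ᵁ V.1)) hsurj
    have hle : RingHom.ker (iY.app V.1).hom ≤ nilradical _ := by
      intro x hx
      rw [mem_nilradical, Scheme.isNilpotent_iff_basicOpen_eq_bot_of_isCompact hV.isCompact]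
      refine eq_bot_iff.2 fun y hy => ?_
      obtain ⟨z, rfl⟩ := iY.surjective y
      have hz : z ∈ iY ⁻¹ᵁ Y'.basicOpen x := hy
      rw [Scheme.preimage_basicOpen] at hz
      rw [show (iY.app V.1) x = 0 from hx, Scheme.basicOpen_zero] at hz
      exact hz
    exact (Ideal.FG.isNilpotent_iff_le_nilradical hfg |>.2 hle).map (Ideal.mapHom _)
  refine hring _ _ _ hsurj hnil ?_
  have h3 : P (Spec.map (CommRingCat.ofHom (algebraMap Γ(Y, iY ⁻¹ᵁ V.1)
      (Γ(Y, iY ⁻¹ᵁ V.1) ⊗[Γ(Y', V.1)] Γ(X', U.1))))) := by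
    rw [← pullbackSpecIso_inv_fst', P.cancel_left_of_respectsIso]
    have h4 : P (hpb.flip.isoPullback.hom ≫ pullback.fst _ _) := by
      rw [IsPullback.isoPullback_hom_fst]; exact h2
    exact (P.cancel_left_of_respectsIso hpb.flip.isoPullback.hom _).mp h4
  exact HasRingHomProperty.Spec_iff.mp h3


variable {S : Scheme.{u}} {X X' Y Y' : Sp S} {iX : X ⟶ X'} {iY : Y ⟶ Y'} {f : X ⟶ Y} {f' : X' ⟶ Y'}

/-- Finite type descends along thickenings of finite presentation. -/
theorem lft_of_fpThick (hX' : IsAlgSpace X') (hY' : IsAlgSpace Y') (hc : IsPullback iX f f' iY)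
    (hj : IsThickMor iY) (hfp : LocP @LocallyOfFinitePresentation iY) (hf : LocP @LocallyOfFiniteType f) :
    LocP @LocallyOfFiniteType f' := by
  obtain ⟨D⟩ := nonempty_deformChart_of_cart hX' hY' hc hj
  obtain ⟨h1, h2⟩ := isThickening_of_isThickMor hj D.sqb
  haveI := h1
  haveI := h2
  haveI : LocallyOfFinitePresentation D.iV.left :=
    hfp D.b D.b' D.iV D.hb D.hb' D.sqb.w.symm
  rw [D.locP_iff etLocal_lft] at hf
  rw [D.locP_iff' etLocal_lft]
  haveI := hf
  exact descend_of_fpThick @LocallyOfFiniteType (Q := RingHom.FiniteType)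
    (fun A B A₀ _ _ _ _ _ hs hn h => RingHom.finiteType_algebraMap.2
      (finiteType_of_baseChange_of_source hs hn (RingHom.finiteType_algebraMap.1 h))) D.sq₁ hf

theorem closedImmersion_of_bijective (hX' : IsAlgSpace X') (hY' : IsAlgSpace Y') (hc : IsPullback iX f f' iY)
    (hi : RepWith @IsClosedImmersion iY) (hs : Function.Surjective (Points.map iY))
    (hf : RepWith @IsClosedImmersion f)
    (hor : IsFiniteTypeMor f' ∨ IsFinitePresentationMor iY) : RepWith @IsClosedImmersion f' := by
  have hj := isThickMor_of_surjective hi hs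
  refine repWith_isClosedImmersion_thick hX' hY' hc hj ?_ hf
  rcases hor with h | h
  · exact h.1
  · exact lft_of_fpThick hX' hY' hc hj h.1 (locP_of_repWith etLocal_lft
      (repWith_mono (fun φ (_ : IsClosedImmersion φ) => show LocallyOfFiniteType φ from inferInstance) hf))

end Groth.L23
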