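import Groth.Agent.L23.ThickScheme
import Groth.Agent.L23.AffineMor
import Groth.Agent.L23.DeformChart
import Mathlib.AlgebraicGeometry.Morphisms.Integral

/-!
# Representable, affine and integral morphisms of thickenings
-/

universe u

open CategoryTheory CategoryTheory.Limits AlgebraicGeometry Opposite AlgSp

set_option backward.isDefEq.respectTransparency.types false

namespace Groth.L23

variable {S : Scheme.{u}} {X X' Y Y' : Sp S} {i : X ⟶ X'} {j : Y ⟶ Y'} {f : X ⟶ Y} {f' : X' ⟶ Y'}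

/-- Over a scheme mapping to the thickened target, seen on the thinned one. -/
lemma exists_thin_square (hj : IsThickMor j) (hi : IsThickMor i) (w : i ≫ f' = f ≫ j) {T : Over S}
    (g : (yon S).obj T ⟶ Y) {W : Over S} {s : W ⟶ T} {fst : (yon S).obj W ⟶ X'}
    (sq : IsPullback fst ((yon S).map s) f' (g ≫ j)) :
    ∃ (W₀ : Over S) (m : W₀ ⟶ W) (a : (yon S).obj W₀ ⟶ X),
      IsPullback a ((yon S).map (m ≫ s)) f g ∧ MoreMor.IsThickening m.left := by
  have := mono_of_isThickMor hj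
  have sqZ : IsPullback g (𝟙 _) j (g ≫ j) :=
    IsPullback.mk' (by simp) (fun _ _ _ _ h₂ => by simpa using h₂)
      (fun T a b hab => ⟨b, by rw [← cancel_mono j, Category.assoc, hab], Category.comp_id _⟩)
  obtain ⟨Q₀, n, a, snd₀, sq₀, hn, e⟩ := exists_baseChange_thick hi w sq sqZ
  obtain ⟨W₀, m, l, sqn⟩ : ∃ (W₀ : Over S) (m : W₀ ⟶ W) (l : (yon S).obj W₀ ⟶ Q₀),
      IsPullback l ((yon S).map m) n (𝟙 _) := ⟨_, _, _, hn.1.isPullback _⟩
  have := sqn.isIso_fst_of_isIso
  refine ⟨W₀, m, l ≫ a, sq₀.of_iso (asIso l).symm (Iso.refl _) (Iso.refl _) (Iso.refl _) (by simp) ?_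
    (by simp) (by simp), isThickening_of_isThickMor hn sqn.flip⟩
  simp only [Category.comp_id] at e
  simp only [Iso.symm_hom, asIso_inv, Iso.refl_hom, Category.comp_id]
  rw [IsIso.eq_inv_comp, ← e, Functor.map_comp, ← Category.assoc, sqn.w, Category.comp_id]

/-- Over a scheme mapping to the thickened target. -/
lemma exists_thick_square (hY' : IsAlgSpace Y') (hX' : IsAlgSpace X') (hj : IsThickMor j) (hi : IsThickMor i)
    (w : i ≫ f' = f ≫ j) (hf : Representable f) {T : Over S} (g : (yon S).obj T ⟶ Y') :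
    ∃ (T₀ W₀ : Over S) (jT : T₀ ⟶ T) (gT : (yon S).obj T₀ ⟶ Y) (s₀ : W₀ ⟶ T₀) (a : (yon S).obj W₀ ⟶ X)
      (n : (yon S).obj W₀ ⟶ pullback f' g),
      IsPullback a ((yon S).map s₀) f gT ∧ MoreMor.IsThickening jT.left ∧ IsThickMor n ∧
        n ≫ pullback.snd f' g = (yon S).map (s₀ ≫ jT) ∧ IsAlgSpace (pullback f' g) := by
  obtain ⟨T₀, jT, gT, sT⟩ : ∃ (T₀ : Over S) (jT : T₀ ⟶ T) (gT : (yon S).obj T₀ ⟶ Y),
      IsPullback gT ((yon S).map jT) j g := ⟨_, _, _, hj.1.isPullback g⟩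
  obtain ⟨Q₀, n, a, snd₀, sq₀, hn, e⟩ := exists_baseChange_thick hi w (IsPullback.of_hasPullback f' g) sT
  obtain ⟨W₀, s₀, a', sq₀'⟩ : ∃ (W₀ : Over S) (s₀ : W₀ ⟶ T₀) (a' : (yon S).obj W₀ ⟶ X),
      IsPullback a' ((yon S).map s₀) f gT := ⟨_, _, _, hf.isPullback gT⟩
  refine ⟨T₀, W₀, jT, gT, s₀, a', (sq₀'.isoIsPullback _ _ sq₀).hom ≫ n, sq₀',
    isThickening_of_isThickMor hj sT.flip, MorphismProperty.RespectsIso.precomp (RepWith thick) _ _ hn, ?_,
    isAlgSpace_of_isPullback hY'.diag hX' (IsAlgSpace.yon_obj T) (IsPullback.of_hasPullback f' g)⟩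
  rw [Category.assoc, e, sq₀'.isoIsPullback_hom_snd_assoc, Functor.map_comp]

theorem representable_thick_iff (hX' : IsAlgSpace X') (hY' : IsAlgSpace Y') (hi : IsThickMor i)
    (hj : IsThickMor j) (w : i ≫ f' = f ≫ j) : Representable f ↔ Representable f' := by
  constructor
  · intro hf T g
    obtain ⟨T₀, W₀, jT, gT, s₀, a, n, -, -, hn, -, hQ⟩ := exists_thick_square hY' hX' hj hi w hf g
    obtain ⟨G, θ, hθ⟩ := exists_scheme_of_thickening hQ hn
    obtain ⟨k, hk⟩ := (yon S).map_surjective (θ ≫ pullback.snd f' g)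
    exact ⟨G, k, θ ≫ pullback.fst f' g, (IsPullback.of_hasPullback f' g).of_iso (asIso θ).symm (Iso.refl _)
      (Iso.refl _) (Iso.refl _) (by simp) (by simp [hk]) (by simp) (by simp)⟩
  · intro hf' T g
    obtain ⟨W₀, m, a, sq, -⟩ := exists_thin_square hj hi w g (hf'.isPullback (g ≫ j))
    exact ⟨W₀, _, a, sq⟩

theorem isAffineMor_thick_iff (hX' : IsAlgSpace X') (hY' : IsAlgSpace Y') (hi : IsThickMor i)
    (hj : IsThickMor j) (w : i ≫ f' = f ≫ j) : IsAffineMor f ↔ IsAffineMor f' := by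
  constructor
  · intro hf T hT g
    obtain ⟨T₀, W₀, jT, gT, s₀, a, n, sq₀, hjT, hn, -, hQ⟩ :=
      exists_thick_square hY' hX' hj hi w (repWith_isAffineHom_of_isAffineMor hf).1 g
    have := hjT.1
    have : IsAffine T₀.left := isAffine_of_isAffineHom jT.left
    have : IsAffineHom s₀.left := repWith_prop (repWith_isAffineHom_of_isAffineMor hf) sq₀
    have : IsAffine W₀.left := isAffine_of_isAffineHom s₀.left
    obtain ⟨A, e, hA, he⟩ := exists_affine_of_thickening hQ hn
    obtain ⟨k, hk⟩ := (yon S).map_surjective (inv e ≫ pullback.snd f' g)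
    exact ⟨A, k, inv e ≫ pullback.fst f' g, (IsPullback.of_hasPullback f' g).of_iso (asIso e) (Iso.refl _)
      (Iso.refl _) (Iso.refl _) (by simp) (by simp [hk]) (by simp) (by simp), hA⟩
  · intro hf' T hT g
    obtain ⟨W, s, fst, sq, hW⟩ := hf' hT (g ≫ j)
    obtain ⟨W₀, m, a, sq₀, hm⟩ := exists_thin_square hj hi w g sq
    have := hm.1
    have : IsAffine W.left := hW
    exact ⟨W₀, _, a, sq₀, isAffine_of_isAffineHom m.left⟩

theorem isIntegralMor_thick_iff (hX' : IsAlgSpace X') (hY' : IsAlgSpace Y') (hi : IsThickMor i)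
    (hj : IsThickMor j) (w : i ≫ f' = f ≫ j) : IsIntegralMor f ↔ IsIntegralMor f' := by
  constructor
  · intro hf T hT g
    have hf₁ := isIntegralMor_iff.1 hf
    obtain ⟨T₀, W₀, jT, gT, s₀, a, n, sq₀, hjT, hn, hns, hQ⟩ := exists_thick_square hY' hX' hj hi w hf₁.1 g
    have := hjT.1
    have : IsAffine T₀.left := isAffine_of_isAffineHom jT.left
    have : IsIntegralHom s₀.left := repWith_prop hf₁ sq₀
    have : IsAffine W₀.left := isAffine_of_isAffineHom s₀.left
    obtain ⟨A, e, hA, he⟩ := exists_affine_of_thickening hQ hn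
    obtain ⟨k, hk⟩ := (yon S).map_surjective (inv e ≫ pullback.snd f' g)
    refine ⟨A, k, inv e ≫ pullback.fst f' g, (IsPullback.of_hasPullback f' g).of_iso (asIso e) (Iso.refl _)
      (Iso.refl _) (Iso.refl _) (by simp) (by simp [hk]) (by simp) (by simp), hA, ?_⟩
    obtain ⟨ν, hν⟩ := (yon S).map_surjective (n ≫ e)
    have hn' : MoreMor.IsThickening ν.left :=
      (isThickMor_yon_map_iff ν).1 (hν ▸ MorphismProperty.RespectsIso.postcomp (RepWith thick) _ _ hn)
    have hνk : ν ≫ k = s₀ ≫ jT := (yon S).map_injective (by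
      rw [Functor.map_comp, hν, hk, Category.assoc, IsIso.hom_inv_id_assoc, hns])
    have hi' : IsIntegralHom (ν.left ≫ k.left) := by
      rw [← Over.comp_left, hνk, Over.comp_left]; infer_instance
    have : Surjective ν.left := hn'.2
    rw [IsIntegralHom.iff_universallyClosed_and_isAffineHom]
    exact ⟨UniversallyClosed.of_comp_surjective ν.left k.left, isAffineHom_of_isAffine _⟩
  · intro hf' T hT g
    obtain ⟨W, s, fst, sq, hW, hs⟩ := hf' hT (g ≫ j)
    obtain ⟨W₀, m, a, sq₀, hm⟩ := exists_thin_square hj hi w g sq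
    have := hm.1
    have : IsAffine W.left := hW
    refine ⟨W₀, _, a, sq₀, isAffine_of_isAffineHom m.left, ?_⟩
    have : IsIntegralHom s.left := hs
    exact inferInstanceAs (IsIntegralHom (m.left ≫ s.left))

end Groth.L23
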