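import Groth.Agent.L23.FieldLimit
import Mathlib.FieldTheory.SeparableClosure

/-!
# Descent of schemes along universally injective flat maps of affine schemes
-/

universe u

open CategoryTheory CategoryTheory.Limits AlgebraicGeometry AlgSp Topology

set_option autoImplicit false
set_option backward.isDefEq.respectTransparency.types false
set_option linter.style.haveILetI false

namespace Groth.L23.UHDesc

variable {S : Scheme.{u}} {A A' : Over S} {v : A' ⟶ A} [IsAffine A.left] [IsAffine A'.left]
  [Flat v.left] [Surjective v.left] {Y Y' : Sp S} {q : Y ⟶ (yon S).obj A} {p : Y' ⟶ Y} {q' : Y' ⟶ (yon S).obj A'}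

/-- An open subspace with affine inverse image consists of schematic points. -/
theorem schemePt_of_preimage (hY : IsAlgSpace Y) (sq : IsPullback p q' q ((yon S).map v)) {W : Set (Points Y)}
    (hWo : IsOpen W) {U : Over S} [IsAffine U.left]
    (a : (yon S).obj U ⟶ Y') (ha : RepWith @IsOpenImmersion a)
    (hr : Set.range (Points.map a) = Points.map p ⁻¹' W) {x : Points Y} (hx : x ∈ W) : SL.SchemePt x := by
  let O : TopologicalSpace.Opens (Points Y) := ⟨W, hWo⟩
  let j := openSubι O
  have hj : RepWith @IsOpenImmersion j := repWith_openSubι O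
  have sqP := IsPullback.of_hasPullback j p
  have hq : RepWith @IsOpenImmersion (pullback.snd j p) := repWith_of_isPullback sqP hj
  have hqr : Set.range (Points.map (pullback.snd j p)) = Set.range (Points.map a) := by
    rw [hr, range_fst_of_isPullback sqP.flip]
    exact congrArg _ (range_openSubι O)
  obtain ⟨g, hg⟩ := (exists_factor_iff hq a).2 hqr.ge
  obtain ⟨g', hg'⟩ := (exists_factor_iff ha _).2 hqr.le
  have := mono_of_repWith_openImmersion hq
  have := mono_of_repWith_openImmersion ha
  let e : (yon S).obj U ≅ pullback j p :=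
    ⟨g, g', by rw [← cancel_mono a, Category.assoc, hg', hg, Category.id_comp],
      by rw [← cancel_mono (pullback.snd j p), Category.assoc, hg, hg', Category.id_comp]⟩
  obtain ⟨u, hu⟩ := (yon S).map_surjective (a ≫ q')
  have sq0 := sqP.paste_vert sq
  have sq1 : IsPullback (e.hom ≫ pullback.fst j p) ((yon S).map u) (j ≫ q) ((yon S).map v) := by
    refine IsPullback.of_iso sq0 e.symm (Iso.refl _) (Iso.refl _) (Iso.refl _) ?_ ?_ ?_ ?_
    · simp only [Iso.symm_hom, Iso.refl_hom, Category.comp_id, Iso.inv_hom_id_assoc]
    · simp only [Iso.symm_hom, Iso.refl_hom, Category.comp_id]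
      rw [hu, ← hg, Category.assoc]
      exact (e.inv_hom_id_assoc _).symm
    · simp
    · simp
  obtain ⟨B, c, -, -, hc, -⟩ := exists_affine_of_fpqc_cover (isAlgSpace_openSub O hY) _ sq1
  haveI := hc
  obtain ⟨y, rfl⟩ : x ∈ Set.range (Points.map j) := by rw [range_openSubι]; exact hx
  obtain ⟨t, ht⟩ := (Points.schemeHomeo B).surjective (Points.map c y)
  refine ⟨B, inv c ≫ j, t, repWith_comp (repWith_of_isIso _) hj, ?_⟩
  rw [Points.ofPt_eq_map_ofScheme, Points.map_comp]
  refine congrArg (Points.map j) ?_
  rw [show Points.ofScheme B t = Points.map c y from ht, ← Points.map_comp, IsIso.hom_inv_id, Points.map_id]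

/-- A space whose base change along a universally injective, universally open, flat surjection of affine schemes is a
scheme is a scheme. -/
theorem isRepresentable_of_isPullback [UniversallyInjective v.left] [UniversallyOpen v.left] (hY : IsAlgSpace Y)
    (sq : IsPullback p q' q ((yon S).map v)) (h : Y'.obj.IsRepresentable) : Y.obj.IsRepresentable := by
  obtain ⟨T, ⟨e⟩⟩ := isRepresentable_iff_exists_iso.1 h
  have hsurj : Function.Surjective (Points.map p) :=
    surjective_map_of_repWith (repWith_of_isPullback sq.flip (repWith_map (inferInstanceAs (Surjective v.left))))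
  have hinj : Function.Injective (Points.map p) :=
    injective_map_of_repWith
      (repWith_of_isPullback sq.flip (repWith_map (inferInstanceAs (UniversallyInjective v.left))))
  have hopen : IsOpenMap (Points.map p) :=
    isOpenMap_map_of_universallyOpen
      (repWith_of_isPullback sq.flip (repWith_map (inferInstanceAs (UniversallyOpen v.left))))
  have hall : ∀ x : Points Y, SL.SchemePt x := by
    intro x
    obtain ⟨y, rfl⟩ := hsurj x
    obtain ⟨t, ht⟩ := (Points.schemeHomeo T).surjective (Points.map e.inv y)
    obtain ⟨V, hV, htV, -⟩ := exists_isAffineOpen_mem_and_subset (U := (⊤ : T.left.Opens)) (x := t) trivial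
    let U : Over S := Over.mk (V.ι ≫ T.hom)
    haveI : IsAffine U.left := hV
    let ι : U ⟶ T := Over.homMk V.ι rfl
    let a : (yon S).obj U ⟶ Y' := (yon S).map ι ≫ e.hom
    have ha : RepWith @IsOpenImmersion a :=
      repWith_comp (repWith_map (show IsOpenImmersion V.ι from inferInstance)) (repWith_of_isIso _)
    have hao : IsOpen (Set.range (Points.map a)) :=
      (isOpenMap_map_of_universallyOpen
        (repWith_mono (fun f (_ : IsOpenImmersion f) => (inferInstance : UniversallyOpen f)) ha)).isOpen_range
    refine schemePt_of_preimage hY sq (hopen _ hao) a ha (Set.preimage_image_eq _ hinj).symm ⟨y, ?_, rfl⟩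
    refine ⟨Points.schemeHomeo U (⟨t, htV⟩ : V), ?_⟩
    have h1 : Points.map ((yon S).map ι) (Points.schemeHomeo U (⟨t, htV⟩ : V)) = Points.schemeHomeo T t := by
      rw [Points.map_yon_map_eq]
      simp only [Function.comp_apply, Homeomorph.symm_apply_apply]
      rfl
    rw [Points.map_comp, h1, ht, ← Points.map_comp, e.inv_hom_id, Points.map_id]
  obtain ⟨X', j, hj, hrep, hjr⟩ := SL.exists_locus hY
  have := isIso_of_openImmersion_surjective hj fun x => hjr.ge (hall x)
  obtain ⟨T', ⟨e'⟩⟩ := isRepresentable_iff_exists_iso.1 hrep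
  exact isRepresentable_iff_exists_iso.2 ⟨T', ⟨e' ≪≫ asIso j⟩⟩

open Groth.L23.GConn in
/-- Descent from a finite extension to its maximal separable subextension. -/
theorem exists_separable_isRepresentable {k : Type u} [Field k] (X : Space (Spec (CommRingCat.of k)))
    (k₁ : Type u) [Field k₁] [Algebra k k₁] [Module.Finite k k₁]
    (h : (X.obj ⨯ ext (k := k) k₁).obj.IsRepresentable) :
    ∃ (k' : Type u) (_ : Field k') (_ : Algebra k k'), Module.Finite k k' ∧ Algebra.IsSeparable k k' ∧
      (X.obj ⨯ ext (k := k) k').obj.IsRepresentable := by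
  let L := separableClosure k k₁
  haveI : IsPurelyInseparable L k₁ := separableClosure.isPurelyInseparable k k₁
  refine ⟨L, inferInstance, inferInstance, inferInstance, inferInstance, ?_⟩
  let v : specA (k := k) k₁ ⟶ specA (k := k) L := specMor L.val
  haveI : IsAffine (specA (k := k) k₁).left := inferInstanceAs (IsAffine (Spec (CommRingCat.of k₁)))
  haveI : IsAffine (specA (k := k) L).left := inferInstanceAs (IsAffine (Spec (CommRingCat.of L)))
  haveI : Flat v.left := by
    show Flat (Spec.map (CommRingCat.ofHom (algebraMap L k₁)))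
    exact Flat.SpecMap_iff.2 (RingHom.flat_algebraMap_iff.2 inferInstance)
  haveI : Surjective v.left := by
    show Surjective (Spec.map (CommRingCat.ofHom (algebraMap L k₁)))
    exact ⟨fun x => ⟨(⊥ : PrimeSpectrum k₁), Subsingleton.elim (α := PrimeSpectrum L) _ _⟩⟩
  haveI : UniversallyOpen v.left := by
    have : IsField (CommRingCat.of L) := Field.toIsField L
    let φ : Spec (CommRingCat.of k₁) ⟶ Spec (CommRingCat.of L) := v.left
    exact (show UniversallyOpen φ from inferInstance)
  haveI : UniversallyInjective v.left := by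
    show UniversallyInjective (Spec.map (CommRingCat.ofHom (algebraMap L k₁)))
    refine ((tfae_universallyInjective _).out 0 1).2 ?_
    intro K hK g₁ g₂ h
    obtain ⟨a₁, rfl⟩ := Spec.map_surjective g₁
    obtain ⟨a₂, rfl⟩ := Spec.map_surjective g₂
    have h' : Spec.map a₁ ≫ Spec.map (CommRingCat.ofHom (algebraMap L k₁)) =
        Spec.map a₂ ≫ Spec.map (CommRingCat.ofHom (algebraMap L k₁)) := h
    rw [← Spec.map_comp, ← Spec.map_comp] at h'
    have h2 := congrArg CommRingCat.Hom.hom (Spec.map_injective h')
    exact congrArg Spec.map (CommRingCat.hom_ext (IsPurelyInseparable.injective_comp_algebraMap L k₁ _ h2))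
  refine isRepresentable_of_isPullback (v := v) ?_ (FieldLim.isPullback_prodMap X.obj v).flip h
  exact isAlgSpace_of_isPullback (IsAlgSpace.yon_obj (Over.mk (𝟙 _))).diag X.property (IsAlgSpace.yon_obj _)
    (isPullback_prod_terminal (isTerminalPt k) ((isTerminalPt k).from _) ((isTerminalPt k).from _))

end Groth.L23.UHDesc
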