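import Groth.Agent.L27.TopInv.UnivHomeo
import Groth.Agent.L23.OpenSub

/-!
# Maps into etale charts extend uniquely along universal homeomorphisms
-/

universe u

open CategoryTheory CategoryTheory.Limits AlgebraicGeometry Opposite AlgSp

set_option backward.isDefEq.respectTransparency.types false

namespace Groth.L23

/-- Sections of an etale morphism extend uniquely along a universal homeomorphism. -/
theorem existsUnique_section_uh {T₀ T W : Scheme.{u}} (φ : T₀ ⟶ T) (hφ : FlatMor.IsUnivHomeo φ) (π : W ⟶ T)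
    [Etale π] (l₀ : T₀ ⟶ W) (h : l₀ ≫ π = φ) : ∃! l : T ⟶ W, l ≫ π = 𝟙 T ∧ φ ≫ l = l₀ := by
  have := Groth.L27.TopInv.isEquivalence_bc_of_isUnivHomeo φ hφ
  let U : T.Etale := Scheme.Etale.mk (𝟙 T)
  let V : T.Etale := Scheme.Etale.mk π
  let m₀ : ((EtCoh.bc φ).obj U).left ⟶ ((EtCoh.bc φ).obj V).left :=
    pullback.lift (pullback.snd U.hom φ ≫ l₀) (pullback.snd U.hom φ) (by
      show (pullback.snd U.hom φ ≫ l₀) ≫ π = _
      exact (Category.assoc _ _ _).trans (congr_arg (pullback.snd U.hom φ ≫ ·) h))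
  let m : (EtCoh.bc φ).obj U ⟶ (EtCoh.bc φ).obj V := MorphismProperty.Over.homMk m₀
    (show m₀ ≫ pullback.snd V.hom φ = pullback.snd U.hom φ from pullback.lift_snd _ _ _)
  let σ : T₀ ⟶ ((EtCoh.bc φ).obj U).left := pullback.lift φ (𝟙 T₀) (by
    show φ ≫ 𝟙 T = 𝟙 T₀ ≫ φ
    rw [Category.comp_id, Category.id_comp])
  have key : ∀ (a : U ⟶ V) (t : T₀ ⟶ W),
      σ ≫ ((EtCoh.bc φ).map a).left ≫ pullback.fst V.hom φ = t ↔ φ ≫ a.left = t := fun a t => by
    rw [(EtCoh.isPullback_bc_map φ a).w, ← Category.assoc,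
      show σ ≫ pullback.fst U.hom φ = φ from pullback.lift_fst _ _ _]
    exact Iff.rfl
  refine ⟨((EtCoh.bc φ).preimage m).left, ⟨MorphismProperty.Over.w _, (key _ _).1 ?_⟩, ?_⟩
  · rw [Functor.map_preimage]
    show σ ≫ m₀ ≫ pullback.fst V.hom φ = l₀
    have h1 : σ ≫ pullback.snd U.hom φ = 𝟙 T₀ := pullback.lift_snd _ _ _
    exact (congr_arg (σ ≫ ·) (pullback.lift_fst _ _ _)).trans ((Category.assoc _ _ _).symm.trans
      ((congr_arg (· ≫ l₀) h1).trans (Category.id_comp _)))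
  · rintro l ⟨hl₁, hl₂⟩
    let a : U ⟶ V := MorphismProperty.Over.homMk l hl₁
    suffices (EtCoh.bc φ).map a = m by
      show a.left = _
      refine congr_arg (fun b : U ⟶ V => b.left) ?_
      exact (EtCoh.bc φ).map_injective (this.trans (Functor.map_preimage _ _).symm)
    refine Groth.L27.TopInv.bc_hom_ext φ ?_
    have e1 : ((EtCoh.bc φ).map a).left ≫ pullback.fst V.hom φ = pullback.fst U.hom φ ≫ l :=
      (EtCoh.isPullback_bc_map φ a).w
    refine e1.trans (Eq.trans ?_ (pullback.lift_fst _ _ _).symm)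
    have e2 : pullback.fst U.hom φ = pullback.snd U.hom φ ≫ φ := by
      rw [← pullback.condition]; exact (Category.comp_id _).symm
    exact (congr_arg (· ≫ l) e2).trans ((Category.assoc _ _ _).trans (congr_arg (pullback.snd U.hom φ ≫ ·) hl₂))

variable {S : Scheme.{u}}

/-- A map to a sheaf through an etale chart is determined by its restriction along a universal
homeomorphism. -/
theorem existsUnique_lift_uh {F : Sp S} {V : Over S} {a : (yon S).obj V ⟶ F} (ha : RepWith @Etale a)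
    {T₀ T : Over S} (φ : T₀ ⟶ T) (hφ : FlatMor.IsUnivHomeo φ.left) (g : (yon S).obj T ⟶ F)
    (l₀ : T₀ ⟶ V) (h : (yon S).map l₀ ≫ a = (yon S).map φ ≫ g) :
    ∃! l : T ⟶ V, (yon S).map l ≫ a = g ∧ φ ≫ l = l₀ := by
  obtain ⟨W, q, fst, sq⟩ : ∃ (W : Over S) (q : W ⟶ T) (fst : W ⟶ V),
      IsPullback ((yon S).map fst) ((yon S).map q) a g := by
    obtain ⟨W, p, q, sq⟩ := exists_isPullback_of_representable ha.1 g
    exact ⟨W, q, p, sq⟩
  have : Etale q.left := repWith_prop ha sq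
  obtain ⟨m, hm⟩ := (yon S).map_surjective (sq.lift _ _ h)
  have hm₁ : m ≫ fst = l₀ := (yon S).map_injective (by rw [Functor.map_comp, hm, sq.lift_fst])
  have hm₂ : m ≫ q = φ := (yon S).map_injective (by rw [Functor.map_comp, hm, sq.lift_snd])
  obtain ⟨l, ⟨hl₁, hl₂⟩, hlu⟩ := existsUnique_section_uh φ.left hφ q.left m.left (by rw [← Over.comp_left, hm₂])
  let l' : T ⟶ W := Over.homMk l (by rw [← Over.w q, reassoc_of% hl₁])
  have hl' : l' ≫ q = 𝟙 T := Over.OverMorphism.ext hl₁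
  have hl'' : φ ≫ l' = m := Over.OverMorphism.ext hl₂
  refine ⟨l' ≫ fst, ⟨?_, by rw [← Category.assoc, hl'', hm₁]⟩, ?_⟩
  · rw [Functor.map_comp, Category.assoc, sq.w, ← Category.assoc, ← Functor.map_comp, hl', (yon S).map_id,
      Category.id_comp]
  · rintro n ⟨hn₁, hn₂⟩
    obtain ⟨n', hn'⟩ := (yon S).map_surjective (sq.lift ((yon S).map n) (𝟙 _) (by rw [hn₁, Category.id_comp]))
    have hn'₁ : n' ≫ fst = n := (yon S).map_injective (by rw [Functor.map_comp, hn', sq.lift_fst])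
    have hn'₂ : n' ≫ q = 𝟙 T := (yon S).map_injective (by rw [Functor.map_comp, hn', sq.lift_snd, (yon S).map_id])
    have hn'₃ : φ ≫ n' = m := (yon S).map_injective (sq.hom_ext
      (by rw [← Functor.map_comp, ← Functor.map_comp, Category.assoc, hn'₁, hn₂, hm₁])
      (by rw [← Functor.map_comp, ← Functor.map_comp, Category.assoc, hn'₂, Category.comp_id, hm₂]))
    have : n' = l' := Over.OverMorphism.ext (hlu n'.left
      ⟨by rw [← Over.comp_left, hn'₂]; rfl, by rw [← Over.comp_left, hn'₃]⟩)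
    rw [← hn'₁, this]

end Groth.L23
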