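import Groth.Prelude.Def_AlgSpMor5
import Groth.Agent.L23.Univ
import Mathlib.AlgebraicGeometry.Morphisms.ClosedImmersion

/-!
# Valuative criteria
-/

universe u

open CategoryTheory CategoryTheory.Limits AlgebraicGeometry Opposite AlgSp

set_option backward.isDefEq.respectTransparency.types false

namespace Groth.L23

variable {S : Scheme.{u}} {X Y Z P : Sp S}

attribute [local simp] pullback.lift_fst pullback.lift_snd pullback.lift_fst_assoc
  pullback.lift_snd_assoc

theorem existVC_of_isPullback {f : X ⟶ Y} {g : Z ⟶ Y} {fst : P ⟶ X} {f' : P ⟶ Z}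
    (sq : IsPullback fst f' f g) (h : ExistVC f) : ExistVC f' := by
  intro v
  let v' : ValSq f := {
    A := v.A, K := v.K, str := v.str, top := v.top ≫ fst, bot := v.bot ≫ g,
    comm := by rw [Category.assoc, sq.w, reassoc_of% v.comm] }
  obtain ⟨e, l, h₁, h₂⟩ := h v'
  let e' : v.DomExt := { A' := e.A', K' := e.K', φ := e.φ, ψ := e.ψ, comm := e.comm, isLocalHom := e.isLocalHom }
  refine ⟨e', sq.lift l ((yon S).map (Over.homMk (Spec.map (CommRingCat.ofHom e.φ)) rfl : e'.ptA' ⟶ v.ptA) ≫ v.bot)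
    (h₂.trans (Category.assoc _ _ _).symm), ?_, sq.lift_snd _ _ _⟩
  apply sq.hom_ext
  · rw [Category.assoc, sq.lift_fst, Category.assoc]; exact h₁
  · rw [Category.assoc, sq.lift_snd, Category.assoc, v.comm, ← Category.assoc, ← Category.assoc,
      ← Functor.map_comp, ← Functor.map_comp]
    congr 2
    ext1
    simp only [Over.comp_left, Over.homMk_left]
    rw [← Spec.map_comp, ← Spec.map_comp, ← CommRingCat.ofHom_comp, ← CommRingCat.ofHom_comp]
    exact congrArg (fun r => Spec.map (CommRingCat.ofHom r)) e.comm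

theorem uniqVC_of_isPullback {f : X ⟶ Y} {g : Z ⟶ Y} {fst : P ⟶ X} {f' : P ⟶ Z}
    (sq : IsPullback fst f' f g) (h : UniqVC f) : UniqVC f' := by
  intro v l l' a b a' b'
  let v' : ValSq f := {
    A := v.A, K := v.K, str := v.str, top := v.top ≫ fst, bot := v.bot ≫ g,
    comm := by rw [Category.assoc, sq.w, reassoc_of% v.comm] }
  refine sq.hom_ext ?_ (b.trans b'.symm)
  refine h v' _ _ ?_ ?_ ?_ ?_
  · exact (Category.assoc _ _ _).symm.trans (congrArg (· ≫ fst) a)
  · change (l ≫ fst) ≫ f = v.bot ≫ g; rw [Category.assoc, sq.w, reassoc_of% b]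
  · exact (Category.assoc _ _ _).symm.trans (congrArg (· ≫ fst) a')
  · change (l' ≫ fst) ≫ f = v.bot ≫ g; rw [Category.assoc, sq.w, reassoc_of% b']

theorem uniqVC_comp {f : X ⟶ Y} {g : Y ⟶ Z} (hf : UniqVC f) (hg : UniqVC g) : UniqVC (f ≫ g) := by
  intro v l l' a b a' b'
  let vg : ValSq g := {
    A := v.A, K := v.K, str := v.str, top := v.top ≫ f, bot := v.bot,
    comm := (Category.assoc _ _ _).trans v.comm }
  have e : l ≫ f = l' ≫ f := hg vg _ _
    ((Category.assoc _ _ _).symm.trans (congrArg (· ≫ f) a)) ((Category.assoc _ _ _).trans b)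
    ((Category.assoc _ _ _).symm.trans (congrArg (· ≫ f) a')) ((Category.assoc _ _ _).trans b')
  let vf : ValSq f := {
    A := v.A, K := v.K, str := v.str, top := v.top, bot := l ≫ f,
    comm := ((Category.assoc _ _ _).symm.trans (congrArg (· ≫ f) a)).symm }
  exact hf vf l l' a rfl a' e.symm

theorem existVC_comp {f : X ⟶ Y} {g : Y ⟶ Z} (hf : ExistVC f) (hg : ExistVC g) : ExistVC (f ≫ g) := by
  intro v
  let vg : ValSq g := {
    A := v.A, K := v.K, str := v.str, top := v.top ≫ f, bot := v.bot,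
    comm := (Category.assoc _ _ _).trans v.comm }
  obtain ⟨e, l, h₁, h₂⟩ := hg vg
  let k : e.ptK' ⟶ v.ptK := Over.homMk (Spec.map (CommRingCat.ofHom e.ψ)) (by
    change Spec.map _ ≫ Spec.map _ ≫ _ = Spec.map _ ≫ Spec.map _ ≫ _
    rw [← Spec.map_comp_assoc, ← Spec.map_comp_assoc, ← CommRingCat.ofHom_comp,
      ← CommRingCat.ofHom_comp, e.comm])
  let vf : ValSq f := {
    A := e.A', K := e.K', str := Spec.map (CommRingCat.ofHom e.φ) ≫ v.str,
    top := (yon S).map k ≫ v.top, bot := l, comm := (Category.assoc _ _ _).trans h₁.symm }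
  obtain ⟨e', l', h₁', h₂'⟩ := hf vf
  let φ' : e.A' →+* e'.A' := e'.φ
  let ψ' : e.K' →+* e'.K' := e'.ψ
  let ee : v.DomExt :=
    { A' := e'.A', K' := e'.K', φ := φ'.comp e.φ,
      ψ := ψ'.comp e.ψ,
      comm := by
        refine RingHom.ext fun a => ?_
        refine (RingHom.congr_fun e'.comm (e.φ a)).trans ?_
        exact congrArg e'.ψ (RingHom.congr_fun e.comm a)
      isLocalHom := @RingHom.isLocalHom_comp _ _ _ _ _ _ φ' e.φ e'.isLocalHom e.isLocalHom }
  let ι : ee.ptA' ⟶ e'.ptA' := Over.homMk (𝟙 _) (by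
    change 𝟙 _ ≫ Spec.map (CommRingCat.ofHom e'.φ) ≫ Spec.map (CommRingCat.ofHom e.φ) ≫ v.str =
      Spec.map (CommRingCat.ofHom (φ'.comp e.φ)) ≫ v.str
    rw [Category.id_comp, ← Spec.map_comp_assoc, ← CommRingCat.ofHom_comp])
  let ιK : ee.ptK' ⟶ e'.ptK' := Over.homMk (𝟙 _) (by
    change 𝟙 _ ≫ Spec.map _ ≫ Spec.map (CommRingCat.ofHom e'.φ) ≫ Spec.map (CommRingCat.ofHom e.φ) ≫ v.str =
      Spec.map _ ≫ Spec.map (CommRingCat.ofHom (φ'.comp e.φ)) ≫ v.str
    rw [Category.id_comp, ← Spec.map_comp_assoc (CommRingCat.ofHom e.φ), ← CommRingCat.ofHom_comp])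
  refine ⟨ee, (yon S).map ι ≫ l', ?_, ?_⟩
  · have h := congrArg ((yon S).map ιK ≫ ·) h₁'
    refine ((Category.assoc _ _ _).symm.trans ?_).trans (h.trans ?_)
    · rw [← Functor.map_comp]
      refine Eq.trans ?_ (Category.assoc _ _ _)
      rw [← Functor.map_comp]
      congr 2
    · refine ((Category.assoc _ _ _).symm.trans ((Category.assoc _ _ _).symm.trans ?_))
      rw [← Functor.map_comp, ← Functor.map_comp]
      congr 2
      ext1
      simp only [ιK, k, Over.comp_left, Over.homMk_left, Category.id_comp]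
      exact (Spec.map_comp _ _).symm
  · refine ((Category.assoc _ _ _).trans (congrArg ((yon S).map ι ≫ ·)
      ((Category.assoc _ _ _).symm.trans ((congrArg (· ≫ g) h₂').trans
        ((Category.assoc _ _ _).trans (congrArg _ h₂)))))).trans ?_
    refine ((Category.assoc _ _ _).symm.trans ((Category.assoc _ _ _).symm.trans ?_))
    rw [← Functor.map_comp, ← Functor.map_comp]
    congr 2
    ext1
    simp only [ι, Over.comp_left, Over.homMk_left, Category.id_comp]
    exact (Spec.map_comp _ _).symm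

theorem uniqVC_of_separated {f : X ⟶ Y} (hf : IsSeparatedMor f) : UniqVC f := by
  intro v l l' a b a' b'
  have h : RepWith @IsClosedImmersion (pullback.diagonal f) := hf
  let m : (yon S).obj v.ptA ⟶ pullback.diagonalObj f := pullback.lift l l' (b.trans b'.symm)
  have sq := h.1.isPullback m
  have hc := repWith_snd h m
  let w := h.1.lift (g := m) v.top v.j (by
    apply pullback.hom_ext <;> simp [m, a, a'])
  have hw : w ≫ h.1.snd m = v.j := h.1.lift_snd _ _ _
  have : IsDominant v.j.left := ⟨by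
    change DenseRange (PrimeSpectrum.comap (algebraMap v.A v.K))
    rw [PrimeSpectrum.denseRange_comap_iff_ker_le_nilRadical]
    rw [(RingHom.injective_iff_ker_eq_bot _).1 (IsFractionRing.injective v.A v.K)]
    exact bot_le⟩
  have : IsDominant (w.left ≫ (h.1.snd m).left) := by
    rw [← Over.comp_left, hw]; infer_instance
  have hd : IsDominant (h.1.snd m).left := IsDominant.of_comp w.left _
  have hs : Surjective (h.1.snd m).left := ⟨by
    rw [← Set.range_eq_univ, ← (h.1.snd m).left.isClosedEmbedding.isClosed_range.closure_eq]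
    exact hd.denseRange.closure_range⟩
  have : IsReduced v.ptA.left := inferInstanceAs (IsReduced (Spec (.of v.A)))
  have := isIso_of_isClosedImmersion_of_surjective (h.1.snd m).left
  have : IsIso ((Over.forget S).map (h.1.snd m)) := this
  have : IsIso (h.1.snd m) := isIso_of_reflects_iso _ (Over.forget S)
  rw [← cancel_epi ((yon S).map (h.1.snd m))]
  have e₁ := sq.w.symm =≫ pullback.fst f f
  have e₂ := sq.w.symm =≫ pullback.snd f f
  simp [m] at e₁ e₂
  exact e₁.trans e₂.symm

end Groth.L23
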